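import Cfsg.Agent.LyRec.Sub.Src3

/-! Generated by helper24's scripts for the bound on the subgroup: the derivations check. -/

set_option autoImplicit false
set_option Elab.async false

namespace Cfsg.Agent.LyRec.Sub

set_option maxRecDepth 100000

theorem src3_ok : (src3.all fun p => run (stateOf p.1) p.2) = true := by
  decide +kernel

end Cfsg.Agent.LyRec.Sub
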