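import Cfsg.Agent.LyRec.Sub.RelData
import Cfsg.Agent.LyRec.Sub.SrcCheck0
import Cfsg.Agent.LyRec.Sub.SrcCheck1
import Cfsg.Agent.LyRec.Sub.SrcCheck2
import Cfsg.Agent.LyRec.Sub.SrcCheck3
import Cfsg.Agent.LyRec.Sub.SrcCheck4
import Cfsg.Agent.LyRec.Sub.SrcCheck5
import Cfsg.Agent.LyRec.Sub.SrcCheck6
import Cfsg.Agent.LyRec.Sub.SrcCheck7

/-! Generated by helper24's scripts for the bound on the subgroup: all derivations. -/

set_option autoImplicit false
set_option Elab.async false

namespace Cfsg.Agent.LyRec.Sub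

theorem srcList_len : srcList.length = nSrc := by decide +kernel

theorem derived_all (j : Nat) (hj : j < nSrc) : run (stateOf (srcTurns j)) (srcCert j) = true := by
  have h : (srcList.all fun p => run (stateOf p.1) p.2) = true := by
    simp only [srcList, List.all_append, src0_ok, src1_ok, src2_ok, src3_ok, src4_ok, src5_ok, src6_ok, src7_ok, Bool.and_self]
  rw [srcTurns, srcCert, List.getD_eq_getElem _ _ (srcList_len.symm ▸ hj)]
  exact List.all_eq_true.1 h _ (List.getElem_mem _)

end Cfsg.Agent.LyRec.Sub
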