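import Cfsg.Agent.LyRec.Sub.Points
import Cfsg.Agent.LyRec.Sub.RelData
import Cfsg.Agent.LyRec.Sub.SrcCheck

/-!
The rules and relators over the 120 points hold for the extra involution times its word, in any
group with an image of the double cover.
-/

set_option autoImplicit false
set_option maxRecDepth 100000
set_option Elab.async false

namespace Cfsg.Agent.LyRec.Sub

open Cfsg.Agent.DCoset Cfsg.Agent.CosetCert Cfsg.Agent.LyLocal
open Cfsg.Agent.LyRec.Index (qL unp val_unp triple winv asLet phi dd_finite)
open Cfsg.Agent.DCoset.Ly (goL goL_eq)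

/-- Two words in the ten letters send the base to the same points. -/
noncomputable def eqQ (u v : List Nat) : Bool :=
  (u.all fun g => Nat.blt g 10) && (v.all fun g => Nat.blt g 10) &&
    (List.range tab.k).all fun l =>
      Nat.beq (goL tab.act u (bp l).val) (goL tab.act v (bp l).val)

/-- Equal, or inverse, word by word. -/
noncomputable def pairTurns (inverse : Bool) : List (List Nat) → List (List Nat) → Bool
  | [], [] => true
  | u :: us, v :: vs => (if inverse then eqQ (u ++ v) [] else eqQ u v) && pairTurns inverse us vs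
  | _, _ => false

/-- A relator is a rotation of a listed source, or of its inverse. -/
noncomputable def okRel (r : Nat) : Bool :=
  Nat.beq (rules.relHd r) 1 &&
    ((List.range (rules.relLen r)).all fun m =>
      Nat.beq (rules.relT r m) 1 && tab.okWord (rules.relW r m)) &&
    tab.okWord (rules.relTl r) &&
    eqQ (unp (rules.relTl r) ++ invTail (unp (rules.relTl r))) [] &&
    Nat.blt (relSrc r) nSrc &&
    (let cs := srcTurns (relSrc r)
     let rot := relRot r
     let ds := (List.range (rules.relLen r)).map (fun m => unp (rules.relW r m)) ++ [invTail (unp (rules.relTl r))]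
     if relFlip r then pairTurns true (cs.drop rot ++ cs.take rot).reverse ds
     else pairTurns false (cs.drop rot ++ cs.take rot) ds)

/-- A rule for the extra letter comes from the automorphism. -/
noncomputable def okRule (r : Nat) : Bool :=
  tab.okWord (rules.rU r) && tab.okWord (rules.rV r) &&
    if r < 10 then Nat.beq (rules.rS r) 0 && Nat.beq (rules.rD r) 0 && Nat.beq (rules.rU r) (rules.rV r)
    else Nat.beq (rules.rS r) 1 && Nat.beq (rules.rD r) 1 && okGen (ruleD r) &&
      eqW (expand (unp (rules.rU r))) (srcW (ruleD r)) &&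
      eqW (imgW (ruleD r) ++ vW) (vW ++ expand (unp (rules.rV r)))

theorem rel_all : ((List.range rules.nRel).all okRel) = true := by
  decide +kernel

theorem rule_all : ((List.range rules.nRule).all okRule) = true := by
  decide +kernel

theorem tables_ok : rules.nT = 2 ∧ rules.invT 0 = 0 ∧ rules.invT 1 = 1 ∧ rules.mulT 0 0 = 1 ∧
    rules.mulT 0 1 = 2 ∧ rules.mulT 1 0 = 2 ∧ rules.mulT 1 1 = 1 := by
  decide +kernel

theorem vW_ok : run [vW, vW] [⟨0, .last vSquare, []⟩] = true := by
  decide +kernel

section

variable [IsSimpleGroup P] {G : Type*} [Group G] {ι : DD →* G} {x : G}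

theorem eqQ_sound {u v : List Nat} (h : eqQ u v = true) : qv (expand u) = qv (expand v) := by
  simp only [eqQ, Bool.and_eq_true, List.all_eq_true] at h
  obtain ⟨⟨hu, hv⟩, hp⟩ := h
  have hu' : ∀ g ∈ u, g < 10 := fun g hg => Nat.ble_eq.mp (hu g hg)
  have hv' : ∀ g ∈ v, g < 10 := fun g hg => Nat.ble_eq.mp (hv g hg)
  have hgo : ∀ (w : List Nat), (∀ g ∈ w, g < 10) → ∀ j : Fin 120,
      ((sigma ((w.map qS).prod))⁻¹ j).val = goL tab.act w j.val := by
    intro w
    induction w with
    | nil => intro _ j; simp; rfl
    | cons g w ih =>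
      intro hl j
      rw [List.map_cons, List.prod_cons, map_mul, mul_inv_rev, Equiv.Perm.mul_apply,
        ih (fun a ha => hl a (List.mem_cons_of_mem _ ha)), goL_eq, goL_eq, List.foldl_cons,
        acts.act_eq g (hl g List.mem_cons_self)]
  have e : (u.map qS).prod = (v.map qS).prod := mul_inv_eq_one.1 (faithful _ fun l hl => by
    have e1 : (sigma (u.map qS).prod)⁻¹ (bp l) = (sigma (v.map qS).prod)⁻¹ (bp l) := Fin.ext (by
      rw [hgo u hu', hgo v hv']
      exact Nat.eq_of_beq_eq_true (hp l (List.mem_range.2 hl)))
    rw [map_mul, mul_inv_rev, Equiv.Perm.mul_apply, e1, map_inv, inv_inv]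
    exact Equiv.apply_symm_apply _ _)
  rw [← model_val hu', ← model_val hv']
  exact congrArg Subtype.val e

/-- The value of a word in the ten letters. -/
noncomputable def valL (ι : DD →* G) (w : List Nat) : G := Phi ι (expand w)

theorem valL_eq {u v : List Nat} (h : eqQ u v = true) : valL ι u = valL ι v := by
  rw [valL, valL, Phi, Phi, eqQ_sound h]

theorem valL_inv {u v : List Nat} (h : eqQ (u ++ v) [] = true) : valL ι v = (valL ι u)⁻¹ := by
  refine eq_inv_of_mul_eq_one_right ?_
  have e := valL_eq (ι := ι) h
  rw [valL, expand, List.flatMap_append, Phi_append] at e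
  exact e.trans (Phi_nil ι)

/-- The extra involution times its word. -/
noncomputable def yEl (ι : DD →* G) (x : G) : G := x * Phi ι vW

/-- The product read from turns in the ten letters. -/
noncomputable def wordL (ι : DD →* G) (x : G) (cs : List (List Nat)) : G :=
  (cs.map fun c => yEl ι x * valL ι c).prod

theorem wordL_src {j : Nat} (H : Hyp ι x) (hj : j < nSrc) :
    wordL ι x (srcTurns j) = 1 := by
  have h := H.run_sound _ (derived_all j hj)
  rw [stateOf, cyc, List.map_map] at h
  rw [wordL, ← h]
  refine congrArg List.prod (List.map_congr_left fun c _ => ?_)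
  rw [Function.comp_apply, Phi_append, yEl, valL, expand, mul_assoc]

theorem Hyp.y_sq (H : Hyp ι x) : yEl ι x * yEl ι x = 1 := by
  have h := H.run_sound _ vW_ok
  simpa [cyc, yEl] using h

theorem wordL_rot {cs : List (List Nat)} (i : Nat) (h : wordL ι x cs = 1) :
    wordL ι x (cs.drop i ++ cs.take i) = 1 := by
  rw [← List.take_append_drop i cs] at h
  simp only [wordL, List.map_append, List.prod_append] at h ⊢
  exact mul_eq_one_comm.1 h

theorem wordL_same : ∀ {cs ds : List (List Nat)}, pairTurns false cs ds = true →
    wordL ι x cs = wordL ι x ds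
  | [], [], _ => rfl
  | c :: cs, d :: ds, h => by
    simp only [pairTurns, Bool.and_eq_true, Bool.false_eq_true, if_false] at h
    simp only [wordL, List.map_cons, List.prod_cons, valL_eq h.1]
    exact congrArg (_ * ·) (wordL_same h.2)
  | [], _ :: _, h => by simp [pairTurns] at h
  | _ :: _, [], h => by simp [pairTurns] at h

omit [IsSimpleGroup P] in
theorem shift_prod (y : G) : ∀ l : List G,
    y * (l.map fun a => a * y).prod = (l.map fun a => y * a).prod * y
  | [] => by simp
  | a :: l => by
    simp only [List.map_cons, List.prod_cons, mul_assoc]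
    rw [shift_prod y l]

theorem inv_turns : ∀ {cs ds : List (List Nat)}, pairTurns true cs ds = true →
    ds.map (valL ι) = (cs.map (valL ι)).map (·⁻¹)
  | [], [], _ => rfl
  | c :: cs, d :: ds, h => by
    simp only [pairTurns, Bool.and_eq_true, if_true] at h
    simp only [List.map_cons, valL_inv h.1, inv_turns h.2]
  | [], _ :: _, h => by simp [pairTurns] at h
  | _ :: _, [], h => by simp [pairTurns] at h

theorem wordL_flip (H : Hyp ι x) {cs ds : List (List Nat)} (hd : pairTurns true cs.reverse ds = true)
    (h : wordL ι x cs = 1) : wordL ι x ds = 1 := by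
  set y := yEl ι x with hy
  have hyi : y⁻¹ = y := inv_eq_of_mul_eq_one_right H.y_sq
  have e1 : wordL ι x ds = ((ds.map (valL ι)).map fun a => y * a).prod := by
    rw [wordL, List.map_map]; rfl
  have e2 : (wordL ι x cs)⁻¹ = (((cs.reverse.map (valL ι)).map (·⁻¹)).map fun a => a * y).prod := by
    rw [wordL, List.prod_inv_reverse]
    simp only [List.map_map, List.map_reverse]
    refine congrArg (fun l => List.prod (List.reverse l)) (List.map_congr_left fun c _ => ?_)
    simp only [Function.comp_apply, mul_inv_rev, ← hy, hyi]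
  have e3 := shift_prod y ((cs.reverse.map (valL ι)).map (·⁻¹))
  rw [← e2, h, inv_one, mul_one, ← inv_turns hd, ← e1] at e3
  simpa using e3

/-- The extra letters. -/
noncomputable def tEl (ι : DD →* G) (x : G) (t : Nat) : G := if t = 1 then yEl ι x else 1

theorem val_model (w : Nat) (hw : tab.okWord w = true) :
    val (model.toModel (ι.comp QS.subtype)).lv w = valL ι (unp w) := by
  have hl : ∀ g ∈ unp w, g < 10 := by
    have key : ∀ n v, lettersBelow 10 n v = true → ∀ g ∈ Index.unpList n v, g < 10 := by
      intro n
      induction n with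
      | zero => intro v _ g hg; simp [Index.unpList] at hg
      | succ n ih =>
        intro v hv g hg
        rw [lettersBelow_succ, Bool.and_eq_true] at hv
        rcases List.mem_cons.1 hg with rfl | hg
        · exact Nat.ble_eq.mp hv.1
        · exact ih _ hv.2 g hg
    exact key _ _ hw
  rw [val_unp, valL, Phi, ← model_val hl, ← Subgroup.subtype_apply, ← MonoidHom.comp_apply,
    map_list_prod, List.map_map]
  rfl

/-- Any image of the double cover with such an involution validates the rules. -/
theorem sound (H : Hyp ι x) : rules.Sound (model.toModel (ι.comp QS.subtype)) (tEl ι x) where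
  T_zero := if_neg (by norm_num)
  inv_eq τ hτ := by
    obtain ⟨e, e0, e1, -⟩ := tables_ok
    rw [e] at hτ
    interval_cases τ
    · rw [e0, e]; exact ⟨by norm_num, by simp [tEl]⟩
    · rw [e1, e]; exact ⟨by norm_num, by simp [tEl, H.y_sq]⟩
  mul_eq σ τ hσ hτ _ := by
    obtain ⟨e, -, -, e00, e01, e10, e11⟩ := tables_ok
    rw [e] at hσ hτ
    interval_cases σ <;> interval_cases τ
    · rw [e00, e]; exact ⟨by norm_num, by simp [tEl]⟩
    · rw [e01, e]; exact ⟨by norm_num, by simp [tEl]⟩
    · rw [e10, e]; exact ⟨by norm_num, by simp [tEl]⟩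
    · rw [e11, e]; exact ⟨by norm_num, by simp [tEl, H.y_sq]⟩
  rule_ok r hr := by
    have h := List.all_eq_true.1 rule_all r (List.mem_range.2 hr)
    obtain ⟨eT, -⟩ := tables_ok
    simp only [okRule, Bool.and_eq_true] at h
    obtain ⟨⟨hU, hV⟩, h⟩ := h
    refine (fun (a : _ ∧ _ ∧ _) => ⟨a.1, a.2.1, hU, hV, a.2.2⟩) ?_
    rw [val_model _ hU, val_model _ hV, eT]
    split_ifs at h with hlt
    · simp only [Bool.and_eq_true] at h
      rw [Nat.eq_of_beq_eq_true h.1.1, Nat.eq_of_beq_eq_true h.1.2, Nat.eq_of_beq_eq_true h.2]
      exact ⟨by norm_num, by norm_num, by simp [tEl]⟩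
    · simp only [Bool.and_eq_true] at h
      obtain ⟨⟨⟨⟨eS, eD⟩, hls⟩, hu⟩, hv⟩ := h
      rw [Nat.eq_of_beq_eq_true eS, Nat.eq_of_beq_eq_true eD]
      refine ⟨by norm_num, by norm_num, ?_⟩
      simp only [tEl, if_true, yEl, valL]
      have e := Phi_eqW ι hv
      rw [Phi_append, Phi_append, ← H.carry _ hls] at e
      rw [Phi_eqW ι hu, mul_assoc, ← e]
      simp only [mul_assoc]
      rw [← mul_assoc x x, H.sq, one_mul]
  rel_ok r hr := by
    have h := List.all_eq_true.1 rel_all r (List.mem_range.2 hr)
    obtain ⟨eT, -⟩ := tables_ok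
    simp only [okRel, Bool.and_eq_true, List.all_eq_true] at h
    obtain ⟨⟨⟨⟨⟨ehd, hW⟩, hTl⟩, hclose⟩, hj⟩, hp⟩ := h
    rw [Nat.eq_of_beq_eq_true ehd, eT]
    refine ⟨by norm_num, hTl, fun m hm => ?_, ?_⟩
    · obtain ⟨a, b⟩ := hW m (List.mem_range.2 hm)
      exact ⟨by rw [Nat.eq_of_beq_eq_true a]; norm_num, b⟩
    have hsrc := wordL_rot (relRot r) (wordL_src H (Nat.ble_eq.mp hj))
    set ds := (List.range (rules.relLen r)).map (fun m => unp (rules.relW r m)) ++ [invTail (unp (rules.relTl r))] with hds
    have hd : wordL ι x ds = 1 := by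
      by_cases hf : relFlip r
      · rw [if_pos hf] at hp
        exact wordL_flip H hp hsrc
      · rw [if_neg hf] at hp
        rw [← wordL_same hp]
        exact hsrc
    set y := yEl ι x with hy
    have e : (List.range (rules.relLen r)).map (fun m =>
        val (model.toModel (ι.comp QS.subtype)).lv (rules.relW r m) * tEl ι x (rules.relT r m)) =
        ((List.range (rules.relLen r)).map fun m => valL ι (unp (rules.relW r m))).map
          fun a => a * y := by
      rw [List.map_map]
      refine List.map_congr_left fun m hm => ?_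
      obtain ⟨a, b⟩ := hW m hm
      rw [val_model _ b, Nat.eq_of_beq_eq_true a, Function.comp_apply, tEl, if_pos rfl]
    rw [e, val_model _ hTl, tEl, if_pos rfl, ← hy, shift_prod]
    rw [hds, wordL, List.map_append, List.prod_append, List.map_map, List.map_singleton,
      List.prod_singleton, ← hy, ← mul_assoc] at hd
    rw [valL_inv hclose, mul_inv_eq_one] at hd
    rw [List.map_map]
    exact hd

end

end Cfsg.Agent.LyRec.Sub
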