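import Cfsg.Agent.DCoset.Cover
import Cfsg.Agent.LyRec.Sub.Sound
import Cfsg.Agent.LyRec.Index.StepDefs

/-!
The centraliser words and the extra involution times its word generate a subgroup of order at most
5859000000.
-/

set_option autoImplicit false
set_option maxRecDepth 100000

namespace Cfsg.Agent.LyRec.Sub

open Cfsg.Agent.DCoset Cfsg.Agent.CosetCert Cfsg.Agent.LyLocal
open Cfsg.Agent.LyRec.Index (qL unp phi asLet dd_finite inWords)

theorem in_ok : ((List.range inWords.length).all fun k =>
    (inSub.getD k []).all (fun g => Nat.blt g 10) &&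
      eqW (unp (inWords.getD k 0)) (expand (inSub.getD k []))) = true ∧
    ((List.range inWords.length).all fun k => (unp (inWords.getD k 0)).all fun g => Nat.blt g 18) = true ∧
    (vW.all fun g => Nat.blt g 18) = true := by
  decide +kernel

theorem idx_total : ((List.range cover.nLive).map cover.idx).sum = 406875 := idx_sum

variable [IsSimpleGroup P] {G : Type*} [Group G]

/-- The subgroup generated by the image of the letters and by the extra involution times its word. -/
theorem sub_bound (ι : DD →* G) (x : G) (sq : x * x = 1)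
    (conj : ∀ k, x * phi ι (asLet (Alpha.gen k)) * x = phi ι (asLet (Alpha.img 2 k)))
    (rel : ∀ r, x * phi ι (asLet (relG 2 r)) * x * phi ι (asLet (relH 2 r)) * x =
      phi ι (asLet (relY 2 r))) :
    ∃ Hs : Subgroup G, Finite Hs ∧ Nat.card Hs ≤ 5859000000 ∧
      (∀ w ∈ inWords, phi ι (unp w) ∈ Hs) ∧ x * phi ι vW ∈ Hs := by
  classical
  have := dd_finite
  obtain ⟨hin, hlt, hvlt⟩ := in_ok
  let S : Set G := Set.range (ι.comp QS.subtype) ∪ {yEl ι x}
  let Hs : Subgroup G := Subgroup.closure S
  let ι' : QS →* Hs := (ι.comp QS.subtype).codRestrict Hs fun a =>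
    Subgroup.subset_closure (Or.inl ⟨a, rfl⟩)
  let T : Nat → Hs := fun t => ⟨tEl ι x t, by
    rw [tEl]
    split_ifs
    · exact Subgroup.subset_closure (Or.inr rfl)
    · exact Hs.one_mem⟩
  have H : Hyp ι x := ⟨sq, conj, rel⟩
  have hs := sound H
  have hval : ∀ w, ((val (model.toModel ι').lv w : Hs) : G) =
      val (model.toModel (ι.comp QS.subtype)).lv w := fun w => by
    rw [QModel.el_val, QModel.el_val]
    rfl
  have hL : rules.Sound (model.toModel ι') T := {
    T_zero := Subtype.ext hs.T_zero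
    inv_eq := fun τ hτ => ⟨(hs.inv_eq τ hτ).1, Subtype.ext (hs.inv_eq τ hτ).2⟩
    mul_eq := fun σ τ hσ hτ hne =>
      ⟨(hs.mul_eq σ τ hσ hτ hne).1, Subtype.ext (hs.mul_eq σ τ hσ hτ hne).2⟩
    rule_ok := fun r hr => by
      obtain ⟨a, b, c, d, e⟩ := hs.rule_ok r hr
      refine ⟨a, b, c, d, Subtype.ext ?_⟩
      rw [Subgroup.coe_mul, Subgroup.coe_mul, hval, hval]
      exact e
    rel_ok := fun r hr => by
      obtain ⟨a, b, c, e⟩ := hs.rel_ok r hr
      refine ⟨a, b, c, Subtype.ext ?_⟩
      rw [Subgroup.coe_mul, hval, ← e, SubmonoidClass.coe_list_prod, List.map_map]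
      refine congrArg _ (congrArg List.prod (List.map_congr_left fun m _ => ?_))
      rw [Function.comp_apply, Subgroup.coe_mul, hval] }
  have hF : ∀ s, s < steps.len → steps.Holds rules (model.toModel ι') ι'.range T s :=
    Steps.holds hL (fun g _ => ⟨model.q g, rfl⟩) node_src (by rw [tables_ok.1]; norm_num) steps_ok
  have hgen : Subgroup.closure (Set.range ι' ∪ {z | ∃ t, t < rules.nT ∧ z = T t}) = ⊤ := by
    rw [eq_top_iff, ← Subgroup.closure_closure_coe_preimage (k := S), Subgroup.closure_le]
    rintro z (⟨a, ha⟩ | hz)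
    · exact Subgroup.subset_closure (Or.inl ⟨a, Subtype.ext ha⟩)
    · refine Subgroup.subset_closure (Or.inr ⟨1, by rw [tables_ok.1]; norm_num, Subtype.ext ?_⟩)
      show (z : G) = tEl ι x 1
      rw [tEl, if_pos rfl]
      exact hz
  obtain ⟨h0, hle⟩ := Cover.index_le (P := model) ι' T card_QS model_gens hgen hL valid hF
  rw [idx_total] at hle
  have hr : Nat.card ι'.range ≤ 14400 :=
    le_trans (Nat.card_le_card_of_surjective _ ι'.rangeRestrict_surjective) card_QS
  have hc : Nat.card Hs = Nat.card ι'.range * ι'.range.index := (Subgroup.card_mul_index _).symm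
  have : Finite ι'.range := Finite.of_surjective _ ι'.rangeRestrict_surjective
  have hpos : Nat.card Hs ≠ 0 := by
    rw [hc]
    exact Nat.mul_ne_zero Nat.card_pos.ne' h0
  refine ⟨Hs, Nat.finite_of_card_ne_zero hpos, ?_, fun w hw => ?_, ?_⟩
  · rw [hc]
    calc _ ≤ 14400 * 406875 := Nat.mul_le_mul hr hle
      _ = 5859000000 := by norm_num
  · obtain ⟨k, hk, rfl⟩ := List.getElem_of_mem hw
    have h := List.all_eq_true.1 hin k (List.mem_range.2 hk)
    have h18 := List.all_eq_true.1 hlt k (List.mem_range.2 hk)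
    rw [List.getD_eq_getElem _ _ hk] at h h18
    rw [Bool.and_eq_true] at h
    have hl : ∀ g ∈ inSub.getD k [], g < 10 := fun g hg =>
      Nat.ble_eq.mp (List.all_eq_true.1 h.1 g hg)
    rw [← Phi_phi ι _ fun g hg => Nat.ble_eq.mp (List.all_eq_true.1 h18 g hg), Phi_eqW ι h.2, Phi,
      ← model_val hl]
    exact Subgroup.subset_closure (Or.inl ⟨_, rfl⟩)
  · rw [← Phi_phi ι _ fun g hg => Nat.ble_eq.mp (List.all_eq_true.1 hvlt g hg)]
    exact Subgroup.subset_closure (Or.inr rfl)

end Cfsg.Agent.LyRec.Sub
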