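import Cfsg.Agent.LyRec.Sub.CoverDefs

/-! Generated by tools/dcoset/emit.py: forests and chains. -/

set_option Elab.async false
set_option maxRecDepth 100000

namespace Cfsg.Agent.LyRec.Sub

open Cfsg.Agent.DCoset Cfsg.Agent.CosetCert

theorem point_66 : allFrom (Cover.checkPoint cover steps rules tab 66) 0 450 = true := by
  decide +kernel

theorem gen_66 : allFrom (fun l => allFrom (QModel.checkGen tab (chainOf 66) l) 0 ((chainOf 66).nGen l)) 0 3 = true := by
  decide +kernel

theorem pt_66 : allFrom (fun l => allFrom (QModel.checkPt tab (chainOf 66) l) 0 ((chainOf 66).size l)) 0 3 = true := by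
  decide +kernel

theorem point_67 : allFrom (Cover.checkPoint cover steps rules tab 67) 0 450 = true := by
  decide +kernel

theorem gen_67 : allFrom (fun l => allFrom (QModel.checkGen tab (chainOf 67) l) 0 ((chainOf 67).nGen l)) 0 3 = true := by
  decide +kernel

theorem pt_67 : allFrom (fun l => allFrom (QModel.checkPt tab (chainOf 67) l) 0 ((chainOf 67).size l)) 0 3 = true := by
  decide +kernel

theorem point_68 : allFrom (Cover.checkPoint cover steps rules tab 68) 0 450 = true := by
  decide +kernel

theorem gen_68 : allFrom (fun l => allFrom (QModel.checkGen tab (chainOf 68) l) 0 ((chainOf 68).nGen l)) 0 3 = true := by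
  decide +kernel

theorem pt_68 : allFrom (fun l => allFrom (QModel.checkPt tab (chainOf 68) l) 0 ((chainOf 68).size l)) 0 3 = true := by
  decide +kernel


end Cfsg.Agent.LyRec.Sub
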