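import Cfsg.Agent.LyRec.Sub.CoverDefs

/-! Generated by tools/dcoset/emit.py: forests and chains. -/

set_option Elab.async false
set_option maxRecDepth 100000

namespace Cfsg.Agent.LyRec.Sub

open Cfsg.Agent.DCoset Cfsg.Agent.CosetCert

theorem point_9 : allFrom (Cover.checkPoint cover steps rules tab 9) 0 450 = true := by
  decide +kernel

theorem gen_9 : allFrom (fun l => allFrom (QModel.checkGen tab (chainOf 9) l) 0 ((chainOf 9).nGen l)) 0 3 = true := by
  decide +kernel

theorem pt_9 : allFrom (fun l => allFrom (QModel.checkPt tab (chainOf 9) l) 0 ((chainOf 9).size l)) 0 3 = true := by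
  decide +kernel

theorem point_10 : allFrom (Cover.checkPoint cover steps rules tab 10) 0 450 = true := by
  decide +kernel

theorem gen_10 : allFrom (fun l => allFrom (QModel.checkGen tab (chainOf 10) l) 0 ((chainOf 10).nGen l)) 0 3 = true := by
  decide +kernel

theorem pt_10 : allFrom (fun l => allFrom (QModel.checkPt tab (chainOf 10) l) 0 ((chainOf 10).size l)) 0 3 = true := by
  decide +kernel

theorem point_11 : allFrom (Cover.checkPoint cover steps rules tab 11) 0 450 = true := by
  decide +kernel

theorem gen_11 : allFrom (fun l => allFrom (QModel.checkGen tab (chainOf 11) l) 0 ((chainOf 11).nGen l)) 0 3 = true := by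
  decide +kernel

theorem pt_11 : allFrom (fun l => allFrom (QModel.checkPt tab (chainOf 11) l) 0 ((chainOf 11).size l)) 0 3 = true := by
  decide +kernel


end Cfsg.Agent.LyRec.Sub
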