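import Cfsg.Agent.LyRec.Sub.StepDefs

/-! Generated by tools/dcoset/emit.py: steps are justified. -/

set_option Elab.async false
set_option maxRecDepth 100000

namespace Cfsg.Agent.LyRec.Sub

open Cfsg.Agent.DCoset Cfsg.Agent.CosetCert

theorem steps_96 : allFrom (Steps.check steps rules tab) 24000 250 = true := by
  decide +kernel

theorem steps_97 : allFrom (Steps.check steps rules tab) 24250 250 = true := by
  decide +kernel

theorem steps_98 : allFrom (Steps.check steps rules tab) 24500 250 = true := by
  decide +kernel

theorem steps_99 : allFrom (Steps.check steps rules tab) 24750 250 = true := by
  decide +kernel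

theorem steps_100 : allFrom (Steps.check steps rules tab) 25000 250 = true := by
  decide +kernel

theorem steps_101 : allFrom (Steps.check steps rules tab) 25250 250 = true := by
  decide +kernel

theorem steps_102 : allFrom (Steps.check steps rules tab) 25500 250 = true := by
  decide +kernel

theorem steps_103 : allFrom (Steps.check steps rules tab) 25750 250 = true := by
  decide +kernel


end Cfsg.Agent.LyRec.Sub
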