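import Cfsg.Agent.LyRec.Sub.StepDefs

/-! Generated by tools/dcoset/emit.py: steps are justified. -/

set_option Elab.async false
set_option maxRecDepth 100000

namespace Cfsg.Agent.LyRec.Sub

open Cfsg.Agent.DCoset Cfsg.Agent.CosetCert

theorem steps_144 : allFrom (Steps.check steps rules tab) 36000 250 = true := by
  decide +kernel

theorem steps_145 : allFrom (Steps.check steps rules tab) 36250 250 = true := by
  decide +kernel

theorem steps_146 : allFrom (Steps.check steps rules tab) 36500 250 = true := by
  decide +kernel

theorem steps_147 : allFrom (Steps.check steps rules tab) 36750 250 = true := by
  decide +kernel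

theorem steps_148 : allFrom (Steps.check steps rules tab) 37000 250 = true := by
  decide +kernel

theorem steps_149 : allFrom (Steps.check steps rules tab) 37250 250 = true := by
  decide +kernel

theorem steps_150 : allFrom (Steps.check steps rules tab) 37500 250 = true := by
  decide +kernel

theorem steps_151 : allFrom (Steps.check steps rules tab) 37750 250 = true := by
  decide +kernel


end Cfsg.Agent.LyRec.Sub
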