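import Cfsg.Agent.LyRec.Sub.StepDefs

/-! Generated by tools/dcoset/emit.py: steps are justified. -/

set_option Elab.async false
set_option maxRecDepth 100000

namespace Cfsg.Agent.LyRec.Sub

open Cfsg.Agent.DCoset Cfsg.Agent.CosetCert

theorem steps_264 : allFrom (Steps.check steps rules tab) 66000 250 = true := by
  decide +kernel

theorem steps_265 : allFrom (Steps.check steps rules tab) 66250 250 = true := by
  decide +kernel

theorem steps_266 : allFrom (Steps.check steps rules tab) 66500 250 = true := by
  decide +kernel

theorem steps_267 : allFrom (Steps.check steps rules tab) 66750 250 = true := by
  decide +kernel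

theorem steps_268 : allFrom (Steps.check steps rules tab) 67000 250 = true := by
  decide +kernel

theorem steps_269 : allFrom (Steps.check steps rules tab) 67250 250 = true := by
  decide +kernel

theorem steps_270 : allFrom (Steps.check steps rules tab) 67500 250 = true := by
  decide +kernel

theorem steps_271 : allFrom (Steps.check steps rules tab) 67750 250 = true := by
  decide +kernel


end Cfsg.Agent.LyRec.Sub
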