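import Cfsg.Agent.LyRec.Sub.StepDefs

/-! Generated by tools/dcoset/emit.py: steps are justified. -/

set_option Elab.async false
set_option maxRecDepth 100000

namespace Cfsg.Agent.LyRec.Sub

open Cfsg.Agent.DCoset Cfsg.Agent.CosetCert

theorem steps_328 : allFrom (Steps.check steps rules tab) 82000 250 = true := by
  decide +kernel

theorem steps_329 : allFrom (Steps.check steps rules tab) 82250 250 = true := by
  decide +kernel

theorem steps_330 : allFrom (Steps.check steps rules tab) 82500 250 = true := by
  decide +kernel

theorem steps_331 : allFrom (Steps.check steps rules tab) 82750 250 = true := by
  decide +kernel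

theorem steps_332 : allFrom (Steps.check steps rules tab) 83000 250 = true := by
  decide +kernel

theorem steps_333 : allFrom (Steps.check steps rules tab) 83250 250 = true := by
  decide +kernel

theorem steps_334 : allFrom (Steps.check steps rules tab) 83500 250 = true := by
  decide +kernel

theorem steps_335 : allFrom (Steps.check steps rules tab) 83750 250 = true := by
  decide +kernel


end Cfsg.Agent.LyRec.Sub
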