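import Cfsg.Agent.LyRec.Sub.StepDefs

/-! Generated by tools/dcoset/emit.py: steps are justified. -/

set_option Elab.async false
set_option maxRecDepth 100000

namespace Cfsg.Agent.LyRec.Sub

open Cfsg.Agent.DCoset Cfsg.Agent.CosetCert

theorem steps_344 : allFrom (Steps.check steps rules tab) 86000 250 = true := by
  decide +kernel

theorem steps_345 : allFrom (Steps.check steps rules tab) 86250 250 = true := by
  decide +kernel

theorem steps_346 : allFrom (Steps.check steps rules tab) 86500 250 = true := by
  decide +kernel

theorem steps_347 : allFrom (Steps.check steps rules tab) 86750 250 = true := by
  decide +kernel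

theorem steps_348 : allFrom (Steps.check steps rules tab) 87000 250 = true := by
  decide +kernel

theorem steps_349 : allFrom (Steps.check steps rules tab) 87250 250 = true := by
  decide +kernel

theorem steps_350 : allFrom (Steps.check steps rules tab) 87500 250 = true := by
  decide +kernel

theorem steps_351 : allFrom (Steps.check steps rules tab) 87750 250 = true := by
  decide +kernel


end Cfsg.Agent.LyRec.Sub
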