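import Cfsg.Agent.LyRec.Sub.StepDefs

/-! Generated by tools/dcoset/emit.py: steps are justified. -/

set_option Elab.async false
set_option maxRecDepth 100000

namespace Cfsg.Agent.LyRec.Sub

open Cfsg.Agent.DCoset Cfsg.Agent.CosetCert

theorem steps_56 : allFrom (Steps.check steps rules tab) 14000 250 = true := by
  decide +kernel

theorem steps_57 : allFrom (Steps.check steps rules tab) 14250 250 = true := by
  decide +kernel

theorem steps_58 : allFrom (Steps.check steps rules tab) 14500 250 = true := by
  decide +kernel

theorem steps_59 : allFrom (Steps.check steps rules tab) 14750 250 = true := by
  decide +kernel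

theorem steps_60 : allFrom (Steps.check steps rules tab) 15000 250 = true := by
  decide +kernel

theorem steps_61 : allFrom (Steps.check steps rules tab) 15250 250 = true := by
  decide +kernel

theorem steps_62 : allFrom (Steps.check steps rules tab) 15500 250 = true := by
  decide +kernel

theorem steps_63 : allFrom (Steps.check steps rules tab) 15750 250 = true := by
  decide +kernel


end Cfsg.Agent.LyRec.Sub
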