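import Cfsg.Agent.LyRec.Sub.CheckSteps0
import Cfsg.Agent.LyRec.Sub.CheckSteps1
import Cfsg.Agent.LyRec.Sub.CheckSteps2
import Cfsg.Agent.LyRec.Sub.CheckSteps3
import Cfsg.Agent.LyRec.Sub.CheckSteps4
import Cfsg.Agent.LyRec.Sub.CheckSteps5
import Cfsg.Agent.LyRec.Sub.CheckSteps6
import Cfsg.Agent.LyRec.Sub.CheckSteps7
import Cfsg.Agent.LyRec.Sub.CheckSteps8
import Cfsg.Agent.LyRec.Sub.CheckSteps9
import Cfsg.Agent.LyRec.Sub.CheckSteps10
import Cfsg.Agent.LyRec.Sub.CheckSteps11
import Cfsg.Agent.LyRec.Sub.CheckSteps12
import Cfsg.Agent.LyRec.Sub.CheckSteps13
import Cfsg.Agent.LyRec.Sub.CheckSteps14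
import Cfsg.Agent.LyRec.Sub.CheckSteps15
import Cfsg.Agent.LyRec.Sub.CheckSteps16
import Cfsg.Agent.LyRec.Sub.CheckSteps17
import Cfsg.Agent.LyRec.Sub.CheckSteps18
import Cfsg.Agent.LyRec.Sub.CheckSteps19
import Cfsg.Agent.LyRec.Sub.CheckSteps20
import Cfsg.Agent.LyRec.Sub.CheckSteps21
import Cfsg.Agent.LyRec.Sub.CheckSteps22
import Cfsg.Agent.LyRec.Sub.CheckSteps23
import Cfsg.Agent.LyRec.Sub.CheckSteps24
import Cfsg.Agent.LyRec.Sub.CheckSteps25
import Cfsg.Agent.LyRec.Sub.CheckSteps26
import Cfsg.Agent.LyRec.Sub.CheckSteps27
import Cfsg.Agent.LyRec.Sub.CheckSteps28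
import Cfsg.Agent.LyRec.Sub.CheckSteps29
import Cfsg.Agent.LyRec.Sub.CheckSteps30
import Cfsg.Agent.LyRec.Sub.CheckSteps31
import Cfsg.Agent.LyRec.Sub.CheckSteps32
import Cfsg.Agent.LyRec.Sub.CheckSteps33
import Cfsg.Agent.LyRec.Sub.CheckSteps34
import Cfsg.Agent.LyRec.Sub.CheckSteps35
import Cfsg.Agent.LyRec.Sub.CheckSteps36
import Cfsg.Agent.LyRec.Sub.CheckSteps37
import Cfsg.Agent.LyRec.Sub.CheckSteps38
import Cfsg.Agent.LyRec.Sub.CheckSteps39
import Cfsg.Agent.LyRec.Sub.CheckSteps40
import Cfsg.Agent.LyRec.Sub.CheckSteps41
import Cfsg.Agent.LyRec.Sub.CheckSteps42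
import Cfsg.Agent.LyRec.Sub.CheckSteps43
import Cfsg.Agent.LyRec.Sub.CheckSteps44
import Cfsg.Agent.LyRec.Sub.CheckSteps45
import Cfsg.Agent.LyRec.Sub.CheckSteps46
import Cfsg.Agent.LyRec.Sub.CheckCover
import Cfsg.Agent.LyRec.Sub.CheckNodes0
import Cfsg.Agent.LyRec.Sub.CheckNodes1
import Cfsg.Agent.LyRec.Sub.CheckNodes2
import Cfsg.Agent.LyRec.Sub.CheckNodes3
import Cfsg.Agent.LyRec.Sub.CheckNodes4
import Cfsg.Agent.LyRec.Sub.CheckNodes5
import Cfsg.Agent.LyRec.Sub.CheckNodes6
import Cfsg.Agent.LyRec.Sub.CheckNodes7
import Cfsg.Agent.LyRec.Sub.CheckNodes8
import Cfsg.Agent.LyRec.Sub.CheckNodes9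
import Cfsg.Agent.LyRec.Sub.CheckNodes10
import Cfsg.Agent.LyRec.Sub.CheckNodes11
import Cfsg.Agent.LyRec.Sub.CheckNodes12
import Cfsg.Agent.LyRec.Sub.CheckNodes13
import Cfsg.Agent.LyRec.Sub.CheckNodes14
import Cfsg.Agent.LyRec.Sub.CheckNodes15
import Cfsg.Agent.LyRec.Sub.CheckNodes16
import Cfsg.Agent.LyRec.Sub.CheckNodes17
import Cfsg.Agent.LyRec.Sub.CheckNodes18
import Cfsg.Agent.LyRec.Sub.CheckNodes19
import Cfsg.Agent.LyRec.Sub.CheckNodes20
import Cfsg.Agent.LyRec.Sub.CheckNodes21
import Cfsg.Agent.LyRec.Sub.CheckNodes22

/-! Generated by tools/dcoset/emit.py: assembled certificate. -/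

set_option Elab.async false
set_option maxRecDepth 100000

namespace Cfsg.Agent.LyRec.Sub

open Cfsg.Agent.DCoset Cfsg.Agent.CosetCert

theorem upTo_0 : allFrom (Steps.check steps rules tab) 0 250 = true := steps_0

theorem upTo_1 : allFrom (Steps.check steps rules tab) 0 500 = true :=
  allFrom_append (n := 250) 250 upTo_0 steps_1

theorem upTo_2 : allFrom (Steps.check steps rules tab) 0 750 = true :=
  allFrom_append (n := 250) 500 upTo_1 steps_2

theorem upTo_3 : allFrom (Steps.check steps rules tab) 0 1000 = true :=
  allFrom_append (n := 250) 750 upTo_2 steps_3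

theorem upTo_4 : allFrom (Steps.check steps rules tab) 0 1250 = true :=
  allFrom_append (n := 250) 1000 upTo_3 steps_4

theorem upTo_5 : allFrom (Steps.check steps rules tab) 0 1500 = true :=
  allFrom_append (n := 250) 1250 upTo_4 steps_5

theorem upTo_6 : allFrom (Steps.check steps rules tab) 0 1750 = true :=
  allFrom_append (n := 250) 1500 upTo_5 steps_6

theorem upTo_7 : allFrom (Steps.check steps rules tab) 0 2000 = true :=
  allFrom_append (n := 250) 1750 upTo_6 steps_7

theorem upTo_8 : allFrom (Steps.check steps rules tab) 0 2250 = true :=
  allFrom_append (n := 250) 2000 upTo_7 steps_8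

theorem upTo_9 : allFrom (Steps.check steps rules tab) 0 2500 = true :=
  allFrom_append (n := 250) 2250 upTo_8 steps_9

theorem upTo_10 : allFrom (Steps.check steps rules tab) 0 2750 = true :=
  allFrom_append (n := 250) 2500 upTo_9 steps_10

theorem upTo_11 : allFrom (Steps.check steps rules tab) 0 3000 = true :=
  allFrom_append (n := 250) 2750 upTo_10 steps_11

theorem upTo_12 : allFrom (Steps.check steps rules tab) 0 3250 = true :=
  allFrom_append (n := 250) 3000 upTo_11 steps_12

theorem upTo_13 : allFrom (Steps.check steps rules tab) 0 3500 = true :=
  allFrom_append (n := 250) 3250 upTo_12 steps_13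

theorem upTo_14 : allFrom (Steps.check steps rules tab) 0 3750 = true :=
  allFrom_append (n := 250) 3500 upTo_13 steps_14

theorem upTo_15 : allFrom (Steps.check steps rules tab) 0 4000 = true :=
  allFrom_append (n := 250) 3750 upTo_14 steps_15

theorem upTo_16 : allFrom (Steps.check steps rules tab) 0 4250 = true :=
  allFrom_append (n := 250) 4000 upTo_15 steps_16

theorem upTo_17 : allFrom (Steps.check steps rules tab) 0 4500 = true :=
  allFrom_append (n := 250) 4250 upTo_16 steps_17

theorem upTo_18 : allFrom (Steps.check steps rules tab) 0 4750 = true :=
  allFrom_append (n := 250) 4500 upTo_17 steps_18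

theorem upTo_19 : allFrom (Steps.check steps rules tab) 0 5000 = true :=
  allFrom_append (n := 250) 4750 upTo_18 steps_19

theorem upTo_20 : allFrom (Steps.check steps rules tab) 0 5250 = true :=
  allFrom_append (n := 250) 5000 upTo_19 steps_20

theorem upTo_21 : allFrom (Steps.check steps rules tab) 0 5500 = true :=
  allFrom_append (n := 250) 5250 upTo_20 steps_21

theorem upTo_22 : allFrom (Steps.check steps rules tab) 0 5750 = true :=
  allFrom_append (n := 250) 5500 upTo_21 steps_22

theorem upTo_23 : allFrom (Steps.check steps rules tab) 0 6000 = true :=
  allFrom_append (n := 250) 5750 upTo_22 steps_23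

theorem upTo_24 : allFrom (Steps.check steps rules tab) 0 6250 = true :=
  allFrom_append (n := 250) 6000 upTo_23 steps_24

theorem upTo_25 : allFrom (Steps.check steps rules tab) 0 6500 = true :=
  allFrom_append (n := 250) 6250 upTo_24 steps_25

theorem upTo_26 : allFrom (Steps.check steps rules tab) 0 6750 = true :=
  allFrom_append (n := 250) 6500 upTo_25 steps_26

theorem upTo_27 : allFrom (Steps.check steps rules tab) 0 7000 = true :=
  allFrom_append (n := 250) 6750 upTo_26 steps_27

theorem upTo_28 : allFrom (Steps.check steps rules tab) 0 7250 = true :=
  allFrom_append (n := 250) 7000 upTo_27 steps_28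

theorem upTo_29 : allFrom (Steps.check steps rules tab) 0 7500 = true :=
  allFrom_append (n := 250) 7250 upTo_28 steps_29

theorem upTo_30 : allFrom (Steps.check steps rules tab) 0 7750 = true :=
  allFrom_append (n := 250) 7500 upTo_29 steps_30

theorem upTo_31 : allFrom (Steps.check steps rules tab) 0 8000 = true :=
  allFrom_append (n := 250) 7750 upTo_30 steps_31

theorem upTo_32 : allFrom (Steps.check steps rules tab) 0 8250 = true :=
  allFrom_append (n := 250) 8000 upTo_31 steps_32

theorem upTo_33 : allFrom (Steps.check steps rules tab) 0 8500 = true :=
  allFrom_append (n := 250) 8250 upTo_32 steps_33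

theorem upTo_34 : allFrom (Steps.check steps rules tab) 0 8750 = true :=
  allFrom_append (n := 250) 8500 upTo_33 steps_34

theorem upTo_35 : allFrom (Steps.check steps rules tab) 0 9000 = true :=
  allFrom_append (n := 250) 8750 upTo_34 steps_35

theorem upTo_36 : allFrom (Steps.check steps rules tab) 0 9250 = true :=
  allFrom_append (n := 250) 9000 upTo_35 steps_36

theorem upTo_37 : allFrom (Steps.check steps rules tab) 0 9500 = true :=
  allFrom_append (n := 250) 9250 upTo_36 steps_37

theorem upTo_38 : allFrom (Steps.check steps rules tab) 0 9750 = true :=
  allFrom_append (n := 250) 9500 upTo_37 steps_38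

theorem upTo_39 : allFrom (Steps.check steps rules tab) 0 10000 = true :=
  allFrom_append (n := 250) 9750 upTo_38 steps_39

theorem upTo_40 : allFrom (Steps.check steps rules tab) 0 10250 = true :=
  allFrom_append (n := 250) 10000 upTo_39 steps_40

theorem upTo_41 : allFrom (Steps.check steps rules tab) 0 10500 = true :=
  allFrom_append (n := 250) 10250 upTo_40 steps_41

theorem upTo_42 : allFrom (Steps.check steps rules tab) 0 10750 = true :=
  allFrom_append (n := 250) 10500 upTo_41 steps_42

theorem upTo_43 : allFrom (Steps.check steps rules tab) 0 11000 = true :=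
  allFrom_append (n := 250) 10750 upTo_42 steps_43

theorem upTo_44 : allFrom (Steps.check steps rules tab) 0 11250 = true :=
  allFrom_append (n := 250) 11000 upTo_43 steps_44

theorem upTo_45 : allFrom (Steps.check steps rules tab) 0 11500 = true :=
  allFrom_append (n := 250) 11250 upTo_44 steps_45

theorem upTo_46 : allFrom (Steps.check steps rules tab) 0 11750 = true :=
  allFrom_append (n := 250) 11500 upTo_45 steps_46

theorem upTo_47 : allFrom (Steps.check steps rules tab) 0 12000 = true :=
  allFrom_append (n := 250) 11750 upTo_46 steps_47

theorem upTo_48 : allFrom (Steps.check steps rules tab) 0 12250 = true :=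
  allFrom_append (n := 250) 12000 upTo_47 steps_48

theorem upTo_49 : allFrom (Steps.check steps rules tab) 0 12500 = true :=
  allFrom_append (n := 250) 12250 upTo_48 steps_49

theorem upTo_50 : allFrom (Steps.check steps rules tab) 0 12750 = true :=
  allFrom_append (n := 250) 12500 upTo_49 steps_50

theorem upTo_51 : allFrom (Steps.check steps rules tab) 0 13000 = true :=
  allFrom_append (n := 250) 12750 upTo_50 steps_51

theorem upTo_52 : allFrom (Steps.check steps rules tab) 0 13250 = true :=
  allFrom_append (n := 250) 13000 upTo_51 steps_52

theorem upTo_53 : allFrom (Steps.check steps rules tab) 0 13500 = true :=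
  allFrom_append (n := 250) 13250 upTo_52 steps_53

theorem upTo_54 : allFrom (Steps.check steps rules tab) 0 13750 = true :=
  allFrom_append (n := 250) 13500 upTo_53 steps_54

theorem upTo_55 : allFrom (Steps.check steps rules tab) 0 14000 = true :=
  allFrom_append (n := 250) 13750 upTo_54 steps_55

theorem upTo_56 : allFrom (Steps.check steps rules tab) 0 14250 = true :=
  allFrom_append (n := 250) 14000 upTo_55 steps_56

theorem upTo_57 : allFrom (Steps.check steps rules tab) 0 14500 = true :=
  allFrom_append (n := 250) 14250 upTo_56 steps_57

theorem upTo_58 : allFrom (Steps.check steps rules tab) 0 14750 = true :=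
  allFrom_append (n := 250) 14500 upTo_57 steps_58

theorem upTo_59 : allFrom (Steps.check steps rules tab) 0 15000 = true :=
  allFrom_append (n := 250) 14750 upTo_58 steps_59

theorem upTo_60 : allFrom (Steps.check steps rules tab) 0 15250 = true :=
  allFrom_append (n := 250) 15000 upTo_59 steps_60

theorem upTo_61 : allFrom (Steps.check steps rules tab) 0 15500 = true :=
  allFrom_append (n := 250) 15250 upTo_60 steps_61

theorem upTo_62 : allFrom (Steps.check steps rules tab) 0 15750 = true :=
  allFrom_append (n := 250) 15500 upTo_61 steps_62

theorem upTo_63 : allFrom (Steps.check steps rules tab) 0 16000 = true :=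
  allFrom_append (n := 250) 15750 upTo_62 steps_63

theorem upTo_64 : allFrom (Steps.check steps rules tab) 0 16250 = true :=
  allFrom_append (n := 250) 16000 upTo_63 steps_64

theorem upTo_65 : allFrom (Steps.check steps rules tab) 0 16500 = true :=
  allFrom_append (n := 250) 16250 upTo_64 steps_65

theorem upTo_66 : allFrom (Steps.check steps rules tab) 0 16750 = true :=
  allFrom_append (n := 250) 16500 upTo_65 steps_66

theorem upTo_67 : allFrom (Steps.check steps rules tab) 0 17000 = true :=
  allFrom_append (n := 250) 16750 upTo_66 steps_67

theorem upTo_68 : allFrom (Steps.check steps rules tab) 0 17250 = true :=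
  allFrom_append (n := 250) 17000 upTo_67 steps_68

theorem upTo_69 : allFrom (Steps.check steps rules tab) 0 17500 = true :=
  allFrom_append (n := 250) 17250 upTo_68 steps_69

theorem upTo_70 : allFrom (Steps.check steps rules tab) 0 17750 = true :=
  allFrom_append (n := 250) 17500 upTo_69 steps_70

theorem upTo_71 : allFrom (Steps.check steps rules tab) 0 18000 = true :=
  allFrom_append (n := 250) 17750 upTo_70 steps_71

theorem upTo_72 : allFrom (Steps.check steps rules tab) 0 18250 = true :=
  allFrom_append (n := 250) 18000 upTo_71 steps_72

theorem upTo_73 : allFrom (Steps.check steps rules tab) 0 18500 = true :=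
  allFrom_append (n := 250) 18250 upTo_72 steps_73

theorem upTo_74 : allFrom (Steps.check steps rules tab) 0 18750 = true :=
  allFrom_append (n := 250) 18500 upTo_73 steps_74

theorem upTo_75 : allFrom (Steps.check steps rules tab) 0 19000 = true :=
  allFrom_append (n := 250) 18750 upTo_74 steps_75

theorem upTo_76 : allFrom (Steps.check steps rules tab) 0 19250 = true :=
  allFrom_append (n := 250) 19000 upTo_75 steps_76

theorem upTo_77 : allFrom (Steps.check steps rules tab) 0 19500 = true :=
  allFrom_append (n := 250) 19250 upTo_76 steps_77

theorem upTo_78 : allFrom (Steps.check steps rules tab) 0 19750 = true :=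
  allFrom_append (n := 250) 19500 upTo_77 steps_78

theorem upTo_79 : allFrom (Steps.check steps rules tab) 0 20000 = true :=
  allFrom_append (n := 250) 19750 upTo_78 steps_79

theorem upTo_80 : allFrom (Steps.check steps rules tab) 0 20250 = true :=
  allFrom_append (n := 250) 20000 upTo_79 steps_80

theorem upTo_81 : allFrom (Steps.check steps rules tab) 0 20500 = true :=
  allFrom_append (n := 250) 20250 upTo_80 steps_81

theorem upTo_82 : allFrom (Steps.check steps rules tab) 0 20750 = true :=
  allFrom_append (n := 250) 20500 upTo_81 steps_82

theorem upTo_83 : allFrom (Steps.check steps rules tab) 0 21000 = true :=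
  allFrom_append (n := 250) 20750 upTo_82 steps_83

theorem upTo_84 : allFrom (Steps.check steps rules tab) 0 21250 = true :=
  allFrom_append (n := 250) 21000 upTo_83 steps_84

theorem upTo_85 : allFrom (Steps.check steps rules tab) 0 21500 = true :=
  allFrom_append (n := 250) 21250 upTo_84 steps_85

theorem upTo_86 : allFrom (Steps.check steps rules tab) 0 21750 = true :=
  allFrom_append (n := 250) 21500 upTo_85 steps_86

theorem upTo_87 : allFrom (Steps.check steps rules tab) 0 22000 = true :=
  allFrom_append (n := 250) 21750 upTo_86 steps_87

theorem upTo_88 : allFrom (Steps.check steps rules tab) 0 22250 = true :=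
  allFrom_append (n := 250) 22000 upTo_87 steps_88

theorem upTo_89 : allFrom (Steps.check steps rules tab) 0 22500 = true :=
  allFrom_append (n := 250) 22250 upTo_88 steps_89

theorem upTo_90 : allFrom (Steps.check steps rules tab) 0 22750 = true :=
  allFrom_append (n := 250) 22500 upTo_89 steps_90

theorem upTo_91 : allFrom (Steps.check steps rules tab) 0 23000 = true :=
  allFrom_append (n := 250) 22750 upTo_90 steps_91

theorem upTo_92 : allFrom (Steps.check steps rules tab) 0 23250 = true :=
  allFrom_append (n := 250) 23000 upTo_91 steps_92

theorem upTo_93 : allFrom (Steps.check steps rules tab) 0 23500 = true :=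
  allFrom_append (n := 250) 23250 upTo_92 steps_93

theorem upTo_94 : allFrom (Steps.check steps rules tab) 0 23750 = true :=
  allFrom_append (n := 250) 23500 upTo_93 steps_94

theorem upTo_95 : allFrom (Steps.check steps rules tab) 0 24000 = true :=
  allFrom_append (n := 250) 23750 upTo_94 steps_95

theorem upTo_96 : allFrom (Steps.check steps rules tab) 0 24250 = true :=
  allFrom_append (n := 250) 24000 upTo_95 steps_96

theorem upTo_97 : allFrom (Steps.check steps rules tab) 0 24500 = true :=
  allFrom_append (n := 250) 24250 upTo_96 steps_97

theorem upTo_98 : allFrom (Steps.check steps rules tab) 0 24750 = true :=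
  allFrom_append (n := 250) 24500 upTo_97 steps_98

theorem upTo_99 : allFrom (Steps.check steps rules tab) 0 25000 = true :=
  allFrom_append (n := 250) 24750 upTo_98 steps_99

theorem upTo_100 : allFrom (Steps.check steps rules tab) 0 25250 = true :=
  allFrom_append (n := 250) 25000 upTo_99 steps_100

theorem upTo_101 : allFrom (Steps.check steps rules tab) 0 25500 = true :=
  allFrom_append (n := 250) 25250 upTo_100 steps_101

theorem upTo_102 : allFrom (Steps.check steps rules tab) 0 25750 = true :=
  allFrom_append (n := 250) 25500 upTo_101 steps_102

theorem upTo_103 : allFrom (Steps.check steps rules tab) 0 26000 = true :=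
  allFrom_append (n := 250) 25750 upTo_102 steps_103

theorem upTo_104 : allFrom (Steps.check steps rules tab) 0 26250 = true :=
  allFrom_append (n := 250) 26000 upTo_103 steps_104

theorem upTo_105 : allFrom (Steps.check steps rules tab) 0 26500 = true :=
  allFrom_append (n := 250) 26250 upTo_104 steps_105

theorem upTo_106 : allFrom (Steps.check steps rules tab) 0 26750 = true :=
  allFrom_append (n := 250) 26500 upTo_105 steps_106

theorem upTo_107 : allFrom (Steps.check steps rules tab) 0 27000 = true :=
  allFrom_append (n := 250) 26750 upTo_106 steps_107

theorem upTo_108 : allFrom (Steps.check steps rules tab) 0 27250 = true :=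
  allFrom_append (n := 250) 27000 upTo_107 steps_108

theorem upTo_109 : allFrom (Steps.check steps rules tab) 0 27500 = true :=
  allFrom_append (n := 250) 27250 upTo_108 steps_109

theorem upTo_110 : allFrom (Steps.check steps rules tab) 0 27750 = true :=
  allFrom_append (n := 250) 27500 upTo_109 steps_110

theorem upTo_111 : allFrom (Steps.check steps rules tab) 0 28000 = true :=
  allFrom_append (n := 250) 27750 upTo_110 steps_111

theorem upTo_112 : allFrom (Steps.check steps rules tab) 0 28250 = true :=
  allFrom_append (n := 250) 28000 upTo_111 steps_112

theorem upTo_113 : allFrom (Steps.check steps rules tab) 0 28500 = true :=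
  allFrom_append (n := 250) 28250 upTo_112 steps_113

theorem upTo_114 : allFrom (Steps.check steps rules tab) 0 28750 = true :=
  allFrom_append (n := 250) 28500 upTo_113 steps_114

theorem upTo_115 : allFrom (Steps.check steps rules tab) 0 29000 = true :=
  allFrom_append (n := 250) 28750 upTo_114 steps_115

theorem upTo_116 : allFrom (Steps.check steps rules tab) 0 29250 = true :=
  allFrom_append (n := 250) 29000 upTo_115 steps_116

theorem upTo_117 : allFrom (Steps.check steps rules tab) 0 29500 = true :=
  allFrom_append (n := 250) 29250 upTo_116 steps_117

theorem upTo_118 : allFrom (Steps.check steps rules tab) 0 29750 = true :=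
  allFrom_append (n := 250) 29500 upTo_117 steps_118

theorem upTo_119 : allFrom (Steps.check steps rules tab) 0 30000 = true :=
  allFrom_append (n := 250) 29750 upTo_118 steps_119

theorem upTo_120 : allFrom (Steps.check steps rules tab) 0 30250 = true :=
  allFrom_append (n := 250) 30000 upTo_119 steps_120

theorem upTo_121 : allFrom (Steps.check steps rules tab) 0 30500 = true :=
  allFrom_append (n := 250) 30250 upTo_120 steps_121

theorem upTo_122 : allFrom (Steps.check steps rules tab) 0 30750 = true :=
  allFrom_append (n := 250) 30500 upTo_121 steps_122

theorem upTo_123 : allFrom (Steps.check steps rules tab) 0 31000 = true :=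
  allFrom_append (n := 250) 30750 upTo_122 steps_123

theorem upTo_124 : allFrom (Steps.check steps rules tab) 0 31250 = true :=
  allFrom_append (n := 250) 31000 upTo_123 steps_124

theorem upTo_125 : allFrom (Steps.check steps rules tab) 0 31500 = true :=
  allFrom_append (n := 250) 31250 upTo_124 steps_125

theorem upTo_126 : allFrom (Steps.check steps rules tab) 0 31750 = true :=
  allFrom_append (n := 250) 31500 upTo_125 steps_126

theorem upTo_127 : allFrom (Steps.check steps rules tab) 0 32000 = true :=
  allFrom_append (n := 250) 31750 upTo_126 steps_127

theorem upTo_128 : allFrom (Steps.check steps rules tab) 0 32250 = true :=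
  allFrom_append (n := 250) 32000 upTo_127 steps_128

theorem upTo_129 : allFrom (Steps.check steps rules tab) 0 32500 = true :=
  allFrom_append (n := 250) 32250 upTo_128 steps_129

theorem upTo_130 : allFrom (Steps.check steps rules tab) 0 32750 = true :=
  allFrom_append (n := 250) 32500 upTo_129 steps_130

theorem upTo_131 : allFrom (Steps.check steps rules tab) 0 33000 = true :=
  allFrom_append (n := 250) 32750 upTo_130 steps_131

theorem upTo_132 : allFrom (Steps.check steps rules tab) 0 33250 = true :=
  allFrom_append (n := 250) 33000 upTo_131 steps_132

theorem upTo_133 : allFrom (Steps.check steps rules tab) 0 33500 = true :=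
  allFrom_append (n := 250) 33250 upTo_132 steps_133

theorem upTo_134 : allFrom (Steps.check steps rules tab) 0 33750 = true :=
  allFrom_append (n := 250) 33500 upTo_133 steps_134

theorem upTo_135 : allFrom (Steps.check steps rules tab) 0 34000 = true :=
  allFrom_append (n := 250) 33750 upTo_134 steps_135

theorem upTo_136 : allFrom (Steps.check steps rules tab) 0 34250 = true :=
  allFrom_append (n := 250) 34000 upTo_135 steps_136

theorem upTo_137 : allFrom (Steps.check steps rules tab) 0 34500 = true :=
  allFrom_append (n := 250) 34250 upTo_136 steps_137

theorem upTo_138 : allFrom (Steps.check steps rules tab) 0 34750 = true :=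
  allFrom_append (n := 250) 34500 upTo_137 steps_138

theorem upTo_139 : allFrom (Steps.check steps rules tab) 0 35000 = true :=
  allFrom_append (n := 250) 34750 upTo_138 steps_139

theorem upTo_140 : allFrom (Steps.check steps rules tab) 0 35250 = true :=
  allFrom_append (n := 250) 35000 upTo_139 steps_140

theorem upTo_141 : allFrom (Steps.check steps rules tab) 0 35500 = true :=
  allFrom_append (n := 250) 35250 upTo_140 steps_141

theorem upTo_142 : allFrom (Steps.check steps rules tab) 0 35750 = true :=
  allFrom_append (n := 250) 35500 upTo_141 steps_142

theorem upTo_143 : allFrom (Steps.check steps rules tab) 0 36000 = true :=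
  allFrom_append (n := 250) 35750 upTo_142 steps_143

theorem upTo_144 : allFrom (Steps.check steps rules tab) 0 36250 = true :=
  allFrom_append (n := 250) 36000 upTo_143 steps_144

theorem upTo_145 : allFrom (Steps.check steps rules tab) 0 36500 = true :=
  allFrom_append (n := 250) 36250 upTo_144 steps_145

theorem upTo_146 : allFrom (Steps.check steps rules tab) 0 36750 = true :=
  allFrom_append (n := 250) 36500 upTo_145 steps_146

theorem upTo_147 : allFrom (Steps.check steps rules tab) 0 37000 = true :=
  allFrom_append (n := 250) 36750 upTo_146 steps_147

theorem upTo_148 : allFrom (Steps.check steps rules tab) 0 37250 = true :=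
  allFrom_append (n := 250) 37000 upTo_147 steps_148

theorem upTo_149 : allFrom (Steps.check steps rules tab) 0 37500 = true :=
  allFrom_append (n := 250) 37250 upTo_148 steps_149

theorem upTo_150 : allFrom (Steps.check steps rules tab) 0 37750 = true :=
  allFrom_append (n := 250) 37500 upTo_149 steps_150

theorem upTo_151 : allFrom (Steps.check steps rules tab) 0 38000 = true :=
  allFrom_append (n := 250) 37750 upTo_150 steps_151

theorem upTo_152 : allFrom (Steps.check steps rules tab) 0 38250 = true :=
  allFrom_append (n := 250) 38000 upTo_151 steps_152

theorem upTo_153 : allFrom (Steps.check steps rules tab) 0 38500 = true :=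
  allFrom_append (n := 250) 38250 upTo_152 steps_153

theorem upTo_154 : allFrom (Steps.check steps rules tab) 0 38750 = true :=
  allFrom_append (n := 250) 38500 upTo_153 steps_154

theorem upTo_155 : allFrom (Steps.check steps rules tab) 0 39000 = true :=
  allFrom_append (n := 250) 38750 upTo_154 steps_155

theorem upTo_156 : allFrom (Steps.check steps rules tab) 0 39250 = true :=
  allFrom_append (n := 250) 39000 upTo_155 steps_156

theorem upTo_157 : allFrom (Steps.check steps rules tab) 0 39500 = true :=
  allFrom_append (n := 250) 39250 upTo_156 steps_157

theorem upTo_158 : allFrom (Steps.check steps rules tab) 0 39750 = true :=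
  allFrom_append (n := 250) 39500 upTo_157 steps_158

theorem upTo_159 : allFrom (Steps.check steps rules tab) 0 40000 = true :=
  allFrom_append (n := 250) 39750 upTo_158 steps_159

theorem upTo_160 : allFrom (Steps.check steps rules tab) 0 40250 = true :=
  allFrom_append (n := 250) 40000 upTo_159 steps_160

theorem upTo_161 : allFrom (Steps.check steps rules tab) 0 40500 = true :=
  allFrom_append (n := 250) 40250 upTo_160 steps_161

theorem upTo_162 : allFrom (Steps.check steps rules tab) 0 40750 = true :=
  allFrom_append (n := 250) 40500 upTo_161 steps_162

theorem upTo_163 : allFrom (Steps.check steps rules tab) 0 41000 = true :=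
  allFrom_append (n := 250) 40750 upTo_162 steps_163

theorem upTo_164 : allFrom (Steps.check steps rules tab) 0 41250 = true :=
  allFrom_append (n := 250) 41000 upTo_163 steps_164

theorem upTo_165 : allFrom (Steps.check steps rules tab) 0 41500 = true :=
  allFrom_append (n := 250) 41250 upTo_164 steps_165

theorem upTo_166 : allFrom (Steps.check steps rules tab) 0 41750 = true :=
  allFrom_append (n := 250) 41500 upTo_165 steps_166

theorem upTo_167 : allFrom (Steps.check steps rules tab) 0 42000 = true :=
  allFrom_append (n := 250) 41750 upTo_166 steps_167

theorem upTo_168 : allFrom (Steps.check steps rules tab) 0 42250 = true :=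
  allFrom_append (n := 250) 42000 upTo_167 steps_168

theorem upTo_169 : allFrom (Steps.check steps rules tab) 0 42500 = true :=
  allFrom_append (n := 250) 42250 upTo_168 steps_169

theorem upTo_170 : allFrom (Steps.check steps rules tab) 0 42750 = true :=
  allFrom_append (n := 250) 42500 upTo_169 steps_170

theorem upTo_171 : allFrom (Steps.check steps rules tab) 0 43000 = true :=
  allFrom_append (n := 250) 42750 upTo_170 steps_171

theorem upTo_172 : allFrom (Steps.check steps rules tab) 0 43250 = true :=
  allFrom_append (n := 250) 43000 upTo_171 steps_172

theorem upTo_173 : allFrom (Steps.check steps rules tab) 0 43500 = true :=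
  allFrom_append (n := 250) 43250 upTo_172 steps_173

theorem upTo_174 : allFrom (Steps.check steps rules tab) 0 43750 = true :=
  allFrom_append (n := 250) 43500 upTo_173 steps_174

theorem upTo_175 : allFrom (Steps.check steps rules tab) 0 44000 = true :=
  allFrom_append (n := 250) 43750 upTo_174 steps_175

theorem upTo_176 : allFrom (Steps.check steps rules tab) 0 44250 = true :=
  allFrom_append (n := 250) 44000 upTo_175 steps_176

theorem upTo_177 : allFrom (Steps.check steps rules tab) 0 44500 = true :=
  allFrom_append (n := 250) 44250 upTo_176 steps_177

theorem upTo_178 : allFrom (Steps.check steps rules tab) 0 44750 = true :=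
  allFrom_append (n := 250) 44500 upTo_177 steps_178

theorem upTo_179 : allFrom (Steps.check steps rules tab) 0 45000 = true :=
  allFrom_append (n := 250) 44750 upTo_178 steps_179

theorem upTo_180 : allFrom (Steps.check steps rules tab) 0 45250 = true :=
  allFrom_append (n := 250) 45000 upTo_179 steps_180

theorem upTo_181 : allFrom (Steps.check steps rules tab) 0 45500 = true :=
  allFrom_append (n := 250) 45250 upTo_180 steps_181

theorem upTo_182 : allFrom (Steps.check steps rules tab) 0 45750 = true :=
  allFrom_append (n := 250) 45500 upTo_181 steps_182

theorem upTo_183 : allFrom (Steps.check steps rules tab) 0 46000 = true :=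
  allFrom_append (n := 250) 45750 upTo_182 steps_183

theorem upTo_184 : allFrom (Steps.check steps rules tab) 0 46250 = true :=
  allFrom_append (n := 250) 46000 upTo_183 steps_184

theorem upTo_185 : allFrom (Steps.check steps rules tab) 0 46500 = true :=
  allFrom_append (n := 250) 46250 upTo_184 steps_185

theorem upTo_186 : allFrom (Steps.check steps rules tab) 0 46750 = true :=
  allFrom_append (n := 250) 46500 upTo_185 steps_186

theorem upTo_187 : allFrom (Steps.check steps rules tab) 0 47000 = true :=
  allFrom_append (n := 250) 46750 upTo_186 steps_187

theorem upTo_188 : allFrom (Steps.check steps rules tab) 0 47250 = true :=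
  allFrom_append (n := 250) 47000 upTo_187 steps_188

theorem upTo_189 : allFrom (Steps.check steps rules tab) 0 47500 = true :=
  allFrom_append (n := 250) 47250 upTo_188 steps_189

theorem upTo_190 : allFrom (Steps.check steps rules tab) 0 47750 = true :=
  allFrom_append (n := 250) 47500 upTo_189 steps_190

theorem upTo_191 : allFrom (Steps.check steps rules tab) 0 48000 = true :=
  allFrom_append (n := 250) 47750 upTo_190 steps_191

theorem upTo_192 : allFrom (Steps.check steps rules tab) 0 48250 = true :=
  allFrom_append (n := 250) 48000 upTo_191 steps_192

theorem upTo_193 : allFrom (Steps.check steps rules tab) 0 48500 = true :=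
  allFrom_append (n := 250) 48250 upTo_192 steps_193

theorem upTo_194 : allFrom (Steps.check steps rules tab) 0 48750 = true :=
  allFrom_append (n := 250) 48500 upTo_193 steps_194

theorem upTo_195 : allFrom (Steps.check steps rules tab) 0 49000 = true :=
  allFrom_append (n := 250) 48750 upTo_194 steps_195

theorem upTo_196 : allFrom (Steps.check steps rules tab) 0 49250 = true :=
  allFrom_append (n := 250) 49000 upTo_195 steps_196

theorem upTo_197 : allFrom (Steps.check steps rules tab) 0 49500 = true :=
  allFrom_append (n := 250) 49250 upTo_196 steps_197

theorem upTo_198 : allFrom (Steps.check steps rules tab) 0 49750 = true :=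
  allFrom_append (n := 250) 49500 upTo_197 steps_198

theorem upTo_199 : allFrom (Steps.check steps rules tab) 0 50000 = true :=
  allFrom_append (n := 250) 49750 upTo_198 steps_199

theorem upTo_200 : allFrom (Steps.check steps rules tab) 0 50250 = true :=
  allFrom_append (n := 250) 50000 upTo_199 steps_200

theorem upTo_201 : allFrom (Steps.check steps rules tab) 0 50500 = true :=
  allFrom_append (n := 250) 50250 upTo_200 steps_201

theorem upTo_202 : allFrom (Steps.check steps rules tab) 0 50750 = true :=
  allFrom_append (n := 250) 50500 upTo_201 steps_202

theorem upTo_203 : allFrom (Steps.check steps rules tab) 0 51000 = true :=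
  allFrom_append (n := 250) 50750 upTo_202 steps_203

theorem upTo_204 : allFrom (Steps.check steps rules tab) 0 51250 = true :=
  allFrom_append (n := 250) 51000 upTo_203 steps_204

theorem upTo_205 : allFrom (Steps.check steps rules tab) 0 51500 = true :=
  allFrom_append (n := 250) 51250 upTo_204 steps_205

theorem upTo_206 : allFrom (Steps.check steps rules tab) 0 51750 = true :=
  allFrom_append (n := 250) 51500 upTo_205 steps_206

theorem upTo_207 : allFrom (Steps.check steps rules tab) 0 52000 = true :=
  allFrom_append (n := 250) 51750 upTo_206 steps_207

theorem upTo_208 : allFrom (Steps.check steps rules tab) 0 52250 = true :=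
  allFrom_append (n := 250) 52000 upTo_207 steps_208

theorem upTo_209 : allFrom (Steps.check steps rules tab) 0 52500 = true :=
  allFrom_append (n := 250) 52250 upTo_208 steps_209

theorem upTo_210 : allFrom (Steps.check steps rules tab) 0 52750 = true :=
  allFrom_append (n := 250) 52500 upTo_209 steps_210

theorem upTo_211 : allFrom (Steps.check steps rules tab) 0 53000 = true :=
  allFrom_append (n := 250) 52750 upTo_210 steps_211

theorem upTo_212 : allFrom (Steps.check steps rules tab) 0 53250 = true :=
  allFrom_append (n := 250) 53000 upTo_211 steps_212

theorem upTo_213 : allFrom (Steps.check steps rules tab) 0 53500 = true :=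
  allFrom_append (n := 250) 53250 upTo_212 steps_213

theorem upTo_214 : allFrom (Steps.check steps rules tab) 0 53750 = true :=
  allFrom_append (n := 250) 53500 upTo_213 steps_214

theorem upTo_215 : allFrom (Steps.check steps rules tab) 0 54000 = true :=
  allFrom_append (n := 250) 53750 upTo_214 steps_215

theorem upTo_216 : allFrom (Steps.check steps rules tab) 0 54250 = true :=
  allFrom_append (n := 250) 54000 upTo_215 steps_216

theorem upTo_217 : allFrom (Steps.check steps rules tab) 0 54500 = true :=
  allFrom_append (n := 250) 54250 upTo_216 steps_217

theorem upTo_218 : allFrom (Steps.check steps rules tab) 0 54750 = true :=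
  allFrom_append (n := 250) 54500 upTo_217 steps_218

theorem upTo_219 : allFrom (Steps.check steps rules tab) 0 55000 = true :=
  allFrom_append (n := 250) 54750 upTo_218 steps_219

theorem upTo_220 : allFrom (Steps.check steps rules tab) 0 55250 = true :=
  allFrom_append (n := 250) 55000 upTo_219 steps_220

theorem upTo_221 : allFrom (Steps.check steps rules tab) 0 55500 = true :=
  allFrom_append (n := 250) 55250 upTo_220 steps_221

theorem upTo_222 : allFrom (Steps.check steps rules tab) 0 55750 = true :=
  allFrom_append (n := 250) 55500 upTo_221 steps_222

theorem upTo_223 : allFrom (Steps.check steps rules tab) 0 56000 = true :=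
  allFrom_append (n := 250) 55750 upTo_222 steps_223

theorem upTo_224 : allFrom (Steps.check steps rules tab) 0 56250 = true :=
  allFrom_append (n := 250) 56000 upTo_223 steps_224

theorem upTo_225 : allFrom (Steps.check steps rules tab) 0 56500 = true :=
  allFrom_append (n := 250) 56250 upTo_224 steps_225

theorem upTo_226 : allFrom (Steps.check steps rules tab) 0 56750 = true :=
  allFrom_append (n := 250) 56500 upTo_225 steps_226

theorem upTo_227 : allFrom (Steps.check steps rules tab) 0 57000 = true :=
  allFrom_append (n := 250) 56750 upTo_226 steps_227

theorem upTo_228 : allFrom (Steps.check steps rules tab) 0 57250 = true :=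
  allFrom_append (n := 250) 57000 upTo_227 steps_228

theorem upTo_229 : allFrom (Steps.check steps rules tab) 0 57500 = true :=
  allFrom_append (n := 250) 57250 upTo_228 steps_229

theorem upTo_230 : allFrom (Steps.check steps rules tab) 0 57750 = true :=
  allFrom_append (n := 250) 57500 upTo_229 steps_230

theorem upTo_231 : allFrom (Steps.check steps rules tab) 0 58000 = true :=
  allFrom_append (n := 250) 57750 upTo_230 steps_231

theorem upTo_232 : allFrom (Steps.check steps rules tab) 0 58250 = true :=
  allFrom_append (n := 250) 58000 upTo_231 steps_232

theorem upTo_233 : allFrom (Steps.check steps rules tab) 0 58500 = true :=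
  allFrom_append (n := 250) 58250 upTo_232 steps_233

theorem upTo_234 : allFrom (Steps.check steps rules tab) 0 58750 = true :=
  allFrom_append (n := 250) 58500 upTo_233 steps_234

theorem upTo_235 : allFrom (Steps.check steps rules tab) 0 59000 = true :=
  allFrom_append (n := 250) 58750 upTo_234 steps_235

theorem upTo_236 : allFrom (Steps.check steps rules tab) 0 59250 = true :=
  allFrom_append (n := 250) 59000 upTo_235 steps_236

theorem upTo_237 : allFrom (Steps.check steps rules tab) 0 59500 = true :=
  allFrom_append (n := 250) 59250 upTo_236 steps_237

theorem upTo_238 : allFrom (Steps.check steps rules tab) 0 59750 = true :=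
  allFrom_append (n := 250) 59500 upTo_237 steps_238

theorem upTo_239 : allFrom (Steps.check steps rules tab) 0 60000 = true :=
  allFrom_append (n := 250) 59750 upTo_238 steps_239

theorem upTo_240 : allFrom (Steps.check steps rules tab) 0 60250 = true :=
  allFrom_append (n := 250) 60000 upTo_239 steps_240

theorem upTo_241 : allFrom (Steps.check steps rules tab) 0 60500 = true :=
  allFrom_append (n := 250) 60250 upTo_240 steps_241

theorem upTo_242 : allFrom (Steps.check steps rules tab) 0 60750 = true :=
  allFrom_append (n := 250) 60500 upTo_241 steps_242

theorem upTo_243 : allFrom (Steps.check steps rules tab) 0 61000 = true :=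
  allFrom_append (n := 250) 60750 upTo_242 steps_243

theorem upTo_244 : allFrom (Steps.check steps rules tab) 0 61250 = true :=
  allFrom_append (n := 250) 61000 upTo_243 steps_244

theorem upTo_245 : allFrom (Steps.check steps rules tab) 0 61500 = true :=
  allFrom_append (n := 250) 61250 upTo_244 steps_245

theorem upTo_246 : allFrom (Steps.check steps rules tab) 0 61750 = true :=
  allFrom_append (n := 250) 61500 upTo_245 steps_246

theorem upTo_247 : allFrom (Steps.check steps rules tab) 0 62000 = true :=
  allFrom_append (n := 250) 61750 upTo_246 steps_247

theorem upTo_248 : allFrom (Steps.check steps rules tab) 0 62250 = true :=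
  allFrom_append (n := 250) 62000 upTo_247 steps_248

theorem upTo_249 : allFrom (Steps.check steps rules tab) 0 62500 = true :=
  allFrom_append (n := 250) 62250 upTo_248 steps_249

theorem upTo_250 : allFrom (Steps.check steps rules tab) 0 62750 = true :=
  allFrom_append (n := 250) 62500 upTo_249 steps_250

theorem upTo_251 : allFrom (Steps.check steps rules tab) 0 63000 = true :=
  allFrom_append (n := 250) 62750 upTo_250 steps_251

theorem upTo_252 : allFrom (Steps.check steps rules tab) 0 63250 = true :=
  allFrom_append (n := 250) 63000 upTo_251 steps_252

theorem upTo_253 : allFrom (Steps.check steps rules tab) 0 63500 = true :=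
  allFrom_append (n := 250) 63250 upTo_252 steps_253

theorem upTo_254 : allFrom (Steps.check steps rules tab) 0 63750 = true :=
  allFrom_append (n := 250) 63500 upTo_253 steps_254

theorem upTo_255 : allFrom (Steps.check steps rules tab) 0 64000 = true :=
  allFrom_append (n := 250) 63750 upTo_254 steps_255

theorem upTo_256 : allFrom (Steps.check steps rules tab) 0 64250 = true :=
  allFrom_append (n := 250) 64000 upTo_255 steps_256

theorem upTo_257 : allFrom (Steps.check steps rules tab) 0 64500 = true :=
  allFrom_append (n := 250) 64250 upTo_256 steps_257

theorem upTo_258 : allFrom (Steps.check steps rules tab) 0 64750 = true :=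
  allFrom_append (n := 250) 64500 upTo_257 steps_258

theorem upTo_259 : allFrom (Steps.check steps rules tab) 0 65000 = true :=
  allFrom_append (n := 250) 64750 upTo_258 steps_259

theorem upTo_260 : allFrom (Steps.check steps rules tab) 0 65250 = true :=
  allFrom_append (n := 250) 65000 upTo_259 steps_260

theorem upTo_261 : allFrom (Steps.check steps rules tab) 0 65500 = true :=
  allFrom_append (n := 250) 65250 upTo_260 steps_261

theorem upTo_262 : allFrom (Steps.check steps rules tab) 0 65750 = true :=
  allFrom_append (n := 250) 65500 upTo_261 steps_262

theorem upTo_263 : allFrom (Steps.check steps rules tab) 0 66000 = true :=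
  allFrom_append (n := 250) 65750 upTo_262 steps_263

theorem upTo_264 : allFrom (Steps.check steps rules tab) 0 66250 = true :=
  allFrom_append (n := 250) 66000 upTo_263 steps_264

theorem upTo_265 : allFrom (Steps.check steps rules tab) 0 66500 = true :=
  allFrom_append (n := 250) 66250 upTo_264 steps_265

theorem upTo_266 : allFrom (Steps.check steps rules tab) 0 66750 = true :=
  allFrom_append (n := 250) 66500 upTo_265 steps_266

theorem upTo_267 : allFrom (Steps.check steps rules tab) 0 67000 = true :=
  allFrom_append (n := 250) 66750 upTo_266 steps_267

theorem upTo_268 : allFrom (Steps.check steps rules tab) 0 67250 = true :=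
  allFrom_append (n := 250) 67000 upTo_267 steps_268

theorem upTo_269 : allFrom (Steps.check steps rules tab) 0 67500 = true :=
  allFrom_append (n := 250) 67250 upTo_268 steps_269

theorem upTo_270 : allFrom (Steps.check steps rules tab) 0 67750 = true :=
  allFrom_append (n := 250) 67500 upTo_269 steps_270

theorem upTo_271 : allFrom (Steps.check steps rules tab) 0 68000 = true :=
  allFrom_append (n := 250) 67750 upTo_270 steps_271

theorem upTo_272 : allFrom (Steps.check steps rules tab) 0 68250 = true :=
  allFrom_append (n := 250) 68000 upTo_271 steps_272

theorem upTo_273 : allFrom (Steps.check steps rules tab) 0 68500 = true :=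
  allFrom_append (n := 250) 68250 upTo_272 steps_273

theorem upTo_274 : allFrom (Steps.check steps rules tab) 0 68750 = true :=
  allFrom_append (n := 250) 68500 upTo_273 steps_274

theorem upTo_275 : allFrom (Steps.check steps rules tab) 0 69000 = true :=
  allFrom_append (n := 250) 68750 upTo_274 steps_275

theorem upTo_276 : allFrom (Steps.check steps rules tab) 0 69250 = true :=
  allFrom_append (n := 250) 69000 upTo_275 steps_276

theorem upTo_277 : allFrom (Steps.check steps rules tab) 0 69500 = true :=
  allFrom_append (n := 250) 69250 upTo_276 steps_277

theorem upTo_278 : allFrom (Steps.check steps rules tab) 0 69750 = true :=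
  allFrom_append (n := 250) 69500 upTo_277 steps_278

theorem upTo_279 : allFrom (Steps.check steps rules tab) 0 70000 = true :=
  allFrom_append (n := 250) 69750 upTo_278 steps_279

theorem upTo_280 : allFrom (Steps.check steps rules tab) 0 70250 = true :=
  allFrom_append (n := 250) 70000 upTo_279 steps_280

theorem upTo_281 : allFrom (Steps.check steps rules tab) 0 70500 = true :=
  allFrom_append (n := 250) 70250 upTo_280 steps_281

theorem upTo_282 : allFrom (Steps.check steps rules tab) 0 70750 = true :=
  allFrom_append (n := 250) 70500 upTo_281 steps_282

theorem upTo_283 : allFrom (Steps.check steps rules tab) 0 71000 = true :=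
  allFrom_append (n := 250) 70750 upTo_282 steps_283

theorem upTo_284 : allFrom (Steps.check steps rules tab) 0 71250 = true :=
  allFrom_append (n := 250) 71000 upTo_283 steps_284

theorem upTo_285 : allFrom (Steps.check steps rules tab) 0 71500 = true :=
  allFrom_append (n := 250) 71250 upTo_284 steps_285

theorem upTo_286 : allFrom (Steps.check steps rules tab) 0 71750 = true :=
  allFrom_append (n := 250) 71500 upTo_285 steps_286

theorem upTo_287 : allFrom (Steps.check steps rules tab) 0 72000 = true :=
  allFrom_append (n := 250) 71750 upTo_286 steps_287

theorem upTo_288 : allFrom (Steps.check steps rules tab) 0 72250 = true :=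
  allFrom_append (n := 250) 72000 upTo_287 steps_288

theorem upTo_289 : allFrom (Steps.check steps rules tab) 0 72500 = true :=
  allFrom_append (n := 250) 72250 upTo_288 steps_289

theorem upTo_290 : allFrom (Steps.check steps rules tab) 0 72750 = true :=
  allFrom_append (n := 250) 72500 upTo_289 steps_290

theorem upTo_291 : allFrom (Steps.check steps rules tab) 0 73000 = true :=
  allFrom_append (n := 250) 72750 upTo_290 steps_291

theorem upTo_292 : allFrom (Steps.check steps rules tab) 0 73250 = true :=
  allFrom_append (n := 250) 73000 upTo_291 steps_292

theorem upTo_293 : allFrom (Steps.check steps rules tab) 0 73500 = true :=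
  allFrom_append (n := 250) 73250 upTo_292 steps_293

theorem upTo_294 : allFrom (Steps.check steps rules tab) 0 73750 = true :=
  allFrom_append (n := 250) 73500 upTo_293 steps_294

theorem upTo_295 : allFrom (Steps.check steps rules tab) 0 74000 = true :=
  allFrom_append (n := 250) 73750 upTo_294 steps_295

theorem upTo_296 : allFrom (Steps.check steps rules tab) 0 74250 = true :=
  allFrom_append (n := 250) 74000 upTo_295 steps_296

theorem upTo_297 : allFrom (Steps.check steps rules tab) 0 74500 = true :=
  allFrom_append (n := 250) 74250 upTo_296 steps_297

theorem upTo_298 : allFrom (Steps.check steps rules tab) 0 74750 = true :=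
  allFrom_append (n := 250) 74500 upTo_297 steps_298

theorem upTo_299 : allFrom (Steps.check steps rules tab) 0 75000 = true :=
  allFrom_append (n := 250) 74750 upTo_298 steps_299

theorem upTo_300 : allFrom (Steps.check steps rules tab) 0 75250 = true :=
  allFrom_append (n := 250) 75000 upTo_299 steps_300

theorem upTo_301 : allFrom (Steps.check steps rules tab) 0 75500 = true :=
  allFrom_append (n := 250) 75250 upTo_300 steps_301

theorem upTo_302 : allFrom (Steps.check steps rules tab) 0 75750 = true :=
  allFrom_append (n := 250) 75500 upTo_301 steps_302

theorem upTo_303 : allFrom (Steps.check steps rules tab) 0 76000 = true :=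
  allFrom_append (n := 250) 75750 upTo_302 steps_303

theorem upTo_304 : allFrom (Steps.check steps rules tab) 0 76250 = true :=
  allFrom_append (n := 250) 76000 upTo_303 steps_304

theorem upTo_305 : allFrom (Steps.check steps rules tab) 0 76500 = true :=
  allFrom_append (n := 250) 76250 upTo_304 steps_305

theorem upTo_306 : allFrom (Steps.check steps rules tab) 0 76750 = true :=
  allFrom_append (n := 250) 76500 upTo_305 steps_306

theorem upTo_307 : allFrom (Steps.check steps rules tab) 0 77000 = true :=
  allFrom_append (n := 250) 76750 upTo_306 steps_307

theorem upTo_308 : allFrom (Steps.check steps rules tab) 0 77250 = true :=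
  allFrom_append (n := 250) 77000 upTo_307 steps_308

theorem upTo_309 : allFrom (Steps.check steps rules tab) 0 77500 = true :=
  allFrom_append (n := 250) 77250 upTo_308 steps_309

theorem upTo_310 : allFrom (Steps.check steps rules tab) 0 77750 = true :=
  allFrom_append (n := 250) 77500 upTo_309 steps_310

theorem upTo_311 : allFrom (Steps.check steps rules tab) 0 78000 = true :=
  allFrom_append (n := 250) 77750 upTo_310 steps_311

theorem upTo_312 : allFrom (Steps.check steps rules tab) 0 78250 = true :=
  allFrom_append (n := 250) 78000 upTo_311 steps_312

theorem upTo_313 : allFrom (Steps.check steps rules tab) 0 78500 = true :=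
  allFrom_append (n := 250) 78250 upTo_312 steps_313

theorem upTo_314 : allFrom (Steps.check steps rules tab) 0 78750 = true :=
  allFrom_append (n := 250) 78500 upTo_313 steps_314

theorem upTo_315 : allFrom (Steps.check steps rules tab) 0 79000 = true :=
  allFrom_append (n := 250) 78750 upTo_314 steps_315

theorem upTo_316 : allFrom (Steps.check steps rules tab) 0 79250 = true :=
  allFrom_append (n := 250) 79000 upTo_315 steps_316

theorem upTo_317 : allFrom (Steps.check steps rules tab) 0 79500 = true :=
  allFrom_append (n := 250) 79250 upTo_316 steps_317

theorem upTo_318 : allFrom (Steps.check steps rules tab) 0 79750 = true :=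
  allFrom_append (n := 250) 79500 upTo_317 steps_318

theorem upTo_319 : allFrom (Steps.check steps rules tab) 0 80000 = true :=
  allFrom_append (n := 250) 79750 upTo_318 steps_319

theorem upTo_320 : allFrom (Steps.check steps rules tab) 0 80250 = true :=
  allFrom_append (n := 250) 80000 upTo_319 steps_320

theorem upTo_321 : allFrom (Steps.check steps rules tab) 0 80500 = true :=
  allFrom_append (n := 250) 80250 upTo_320 steps_321

theorem upTo_322 : allFrom (Steps.check steps rules tab) 0 80750 = true :=
  allFrom_append (n := 250) 80500 upTo_321 steps_322

theorem upTo_323 : allFrom (Steps.check steps rules tab) 0 81000 = true :=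
  allFrom_append (n := 250) 80750 upTo_322 steps_323

theorem upTo_324 : allFrom (Steps.check steps rules tab) 0 81250 = true :=
  allFrom_append (n := 250) 81000 upTo_323 steps_324

theorem upTo_325 : allFrom (Steps.check steps rules tab) 0 81500 = true :=
  allFrom_append (n := 250) 81250 upTo_324 steps_325

theorem upTo_326 : allFrom (Steps.check steps rules tab) 0 81750 = true :=
  allFrom_append (n := 250) 81500 upTo_325 steps_326

theorem upTo_327 : allFrom (Steps.check steps rules tab) 0 82000 = true :=
  allFrom_append (n := 250) 81750 upTo_326 steps_327

theorem upTo_328 : allFrom (Steps.check steps rules tab) 0 82250 = true :=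
  allFrom_append (n := 250) 82000 upTo_327 steps_328

theorem upTo_329 : allFrom (Steps.check steps rules tab) 0 82500 = true :=
  allFrom_append (n := 250) 82250 upTo_328 steps_329

theorem upTo_330 : allFrom (Steps.check steps rules tab) 0 82750 = true :=
  allFrom_append (n := 250) 82500 upTo_329 steps_330

theorem upTo_331 : allFrom (Steps.check steps rules tab) 0 83000 = true :=
  allFrom_append (n := 250) 82750 upTo_330 steps_331

theorem upTo_332 : allFrom (Steps.check steps rules tab) 0 83250 = true :=
  allFrom_append (n := 250) 83000 upTo_331 steps_332

theorem upTo_333 : allFrom (Steps.check steps rules tab) 0 83500 = true :=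
  allFrom_append (n := 250) 83250 upTo_332 steps_333

theorem upTo_334 : allFrom (Steps.check steps rules tab) 0 83750 = true :=
  allFrom_append (n := 250) 83500 upTo_333 steps_334

theorem upTo_335 : allFrom (Steps.check steps rules tab) 0 84000 = true :=
  allFrom_append (n := 250) 83750 upTo_334 steps_335

theorem upTo_336 : allFrom (Steps.check steps rules tab) 0 84250 = true :=
  allFrom_append (n := 250) 84000 upTo_335 steps_336

theorem upTo_337 : allFrom (Steps.check steps rules tab) 0 84500 = true :=
  allFrom_append (n := 250) 84250 upTo_336 steps_337

theorem upTo_338 : allFrom (Steps.check steps rules tab) 0 84750 = true :=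
  allFrom_append (n := 250) 84500 upTo_337 steps_338

theorem upTo_339 : allFrom (Steps.check steps rules tab) 0 85000 = true :=
  allFrom_append (n := 250) 84750 upTo_338 steps_339

theorem upTo_340 : allFrom (Steps.check steps rules tab) 0 85250 = true :=
  allFrom_append (n := 250) 85000 upTo_339 steps_340

theorem upTo_341 : allFrom (Steps.check steps rules tab) 0 85500 = true :=
  allFrom_append (n := 250) 85250 upTo_340 steps_341

theorem upTo_342 : allFrom (Steps.check steps rules tab) 0 85750 = true :=
  allFrom_append (n := 250) 85500 upTo_341 steps_342

theorem upTo_343 : allFrom (Steps.check steps rules tab) 0 86000 = true :=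
  allFrom_append (n := 250) 85750 upTo_342 steps_343

theorem upTo_344 : allFrom (Steps.check steps rules tab) 0 86250 = true :=
  allFrom_append (n := 250) 86000 upTo_343 steps_344

theorem upTo_345 : allFrom (Steps.check steps rules tab) 0 86500 = true :=
  allFrom_append (n := 250) 86250 upTo_344 steps_345

theorem upTo_346 : allFrom (Steps.check steps rules tab) 0 86750 = true :=
  allFrom_append (n := 250) 86500 upTo_345 steps_346

theorem upTo_347 : allFrom (Steps.check steps rules tab) 0 87000 = true :=
  allFrom_append (n := 250) 86750 upTo_346 steps_347

theorem upTo_348 : allFrom (Steps.check steps rules tab) 0 87250 = true :=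
  allFrom_append (n := 250) 87000 upTo_347 steps_348

theorem upTo_349 : allFrom (Steps.check steps rules tab) 0 87500 = true :=
  allFrom_append (n := 250) 87250 upTo_348 steps_349

theorem upTo_350 : allFrom (Steps.check steps rules tab) 0 87750 = true :=
  allFrom_append (n := 250) 87500 upTo_349 steps_350

theorem upTo_351 : allFrom (Steps.check steps rules tab) 0 88000 = true :=
  allFrom_append (n := 250) 87750 upTo_350 steps_351

theorem upTo_352 : allFrom (Steps.check steps rules tab) 0 88250 = true :=
  allFrom_append (n := 250) 88000 upTo_351 steps_352

theorem upTo_353 : allFrom (Steps.check steps rules tab) 0 88500 = true :=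
  allFrom_append (n := 250) 88250 upTo_352 steps_353

theorem upTo_354 : allFrom (Steps.check steps rules tab) 0 88750 = true :=
  allFrom_append (n := 250) 88500 upTo_353 steps_354

theorem upTo_355 : allFrom (Steps.check steps rules tab) 0 89000 = true :=
  allFrom_append (n := 250) 88750 upTo_354 steps_355

theorem upTo_356 : allFrom (Steps.check steps rules tab) 0 89250 = true :=
  allFrom_append (n := 250) 89000 upTo_355 steps_356

theorem upTo_357 : allFrom (Steps.check steps rules tab) 0 89500 = true :=
  allFrom_append (n := 250) 89250 upTo_356 steps_357

theorem upTo_358 : allFrom (Steps.check steps rules tab) 0 89750 = true :=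
  allFrom_append (n := 250) 89500 upTo_357 steps_358

theorem upTo_359 : allFrom (Steps.check steps rules tab) 0 90000 = true :=
  allFrom_append (n := 250) 89750 upTo_358 steps_359

theorem upTo_360 : allFrom (Steps.check steps rules tab) 0 90250 = true :=
  allFrom_append (n := 250) 90000 upTo_359 steps_360

theorem upTo_361 : allFrom (Steps.check steps rules tab) 0 90500 = true :=
  allFrom_append (n := 250) 90250 upTo_360 steps_361

theorem upTo_362 : allFrom (Steps.check steps rules tab) 0 90750 = true :=
  allFrom_append (n := 250) 90500 upTo_361 steps_362

theorem upTo_363 : allFrom (Steps.check steps rules tab) 0 91000 = true :=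
  allFrom_append (n := 250) 90750 upTo_362 steps_363

theorem upTo_364 : allFrom (Steps.check steps rules tab) 0 91250 = true :=
  allFrom_append (n := 250) 91000 upTo_363 steps_364

theorem upTo_365 : allFrom (Steps.check steps rules tab) 0 91500 = true :=
  allFrom_append (n := 250) 91250 upTo_364 steps_365

theorem upTo_366 : allFrom (Steps.check steps rules tab) 0 91750 = true :=
  allFrom_append (n := 250) 91500 upTo_365 steps_366

theorem upTo_367 : allFrom (Steps.check steps rules tab) 0 92000 = true :=
  allFrom_append (n := 250) 91750 upTo_366 steps_367

theorem upTo_368 : allFrom (Steps.check steps rules tab) 0 92250 = true :=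
  allFrom_append (n := 250) 92000 upTo_367 steps_368

theorem upTo_369 : allFrom (Steps.check steps rules tab) 0 92369 = true :=
  allFrom_append (n := 119) 92250 upTo_368 steps_369

theorem steps_ok : ∀ s, s < steps.len → Steps.check steps rules tab s = true :=
  fun _ hs => allFrom_all (n := 92369) upTo_369 hs

theorem node_src : ∀ j, 1 ≤ j → j < steps.nNode → steps.nodeSrc j < j := fun j h1 h2 =>
  Nat.ble_eq.mp ((allFrom_iff _ _ _).1 src_all j h1 (by change j < 95 at h2; omega))

/-- The sum of the suborbit lengths. -/
theorem idx_sum : ((List.range cover.nLive).map cover.idx).sum = 406875 := by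
  decide +kernel

theorem valid : cover.Valid steps rules tab 14400 where
  nP_pos := by decide
  live_zero := ⟨by decide, by decide +kernel⟩
  u_ok l hl := allFrom_all u_all hl
  tr_ok c hc := allFrom_all tr_all hc
  stab_ok m a hm ha := allFrom_all (allFrom_all stab_all hm : allFrom _ 0 (nStab m) = true) ha
  point_ok m c hm hc := by
    change m < 69 at hm
    interval_cases m
    · exact allFrom_all point_0 hc
    · exact allFrom_all point_1 hc
    · exact allFrom_all point_2 hc
    · exact allFrom_all point_3 hc
    · exact allFrom_all point_4 hc
    · exact allFrom_all point_5 hc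
    · exact allFrom_all point_6 hc
    · exact allFrom_all point_7 hc
    · exact allFrom_all point_8 hc
    · exact allFrom_all point_9 hc
    · exact allFrom_all point_10 hc
    · exact allFrom_all point_11 hc
    · exact allFrom_all point_12 hc
    · exact allFrom_all point_13 hc
    · exact allFrom_all point_14 hc
    · exact allFrom_all point_15 hc
    · exact allFrom_all point_16 hc
    · exact allFrom_all point_17 hc
    · exact allFrom_all point_18 hc
    · exact allFrom_all point_19 hc
    · exact allFrom_all point_20 hc
    · exact allFrom_all point_21 hc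
    · exact allFrom_all point_22 hc
    · exact allFrom_all point_23 hc
    · exact allFrom_all point_24 hc
    · exact allFrom_all point_25 hc
    · exact allFrom_all point_26 hc
    · exact allFrom_all point_27 hc
    · exact allFrom_all point_28 hc
    · exact allFrom_all point_29 hc
    · exact allFrom_all point_30 hc
    · exact allFrom_all point_31 hc
    · exact allFrom_all point_32 hc
    · exact allFrom_all point_33 hc
    · exact allFrom_all point_34 hc
    · exact allFrom_all point_35 hc
    · exact allFrom_all point_36 hc
    · exact allFrom_all point_37 hc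
    · exact allFrom_all point_38 hc
    · exact allFrom_all point_39 hc
    · exact allFrom_all point_40 hc
    · exact allFrom_all point_41 hc
    · exact allFrom_all point_42 hc
    · exact allFrom_all point_43 hc
    · exact allFrom_all point_44 hc
    · exact allFrom_all point_45 hc
    · exact allFrom_all point_46 hc
    · exact allFrom_all point_47 hc
    · exact allFrom_all point_48 hc
    · exact allFrom_all point_49 hc
    · exact allFrom_all point_50 hc
    · exact allFrom_all point_51 hc
    · exact allFrom_all point_52 hc
    · exact allFrom_all point_53 hc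
    · exact allFrom_all point_54 hc
    · exact allFrom_all point_55 hc
    · exact allFrom_all point_56 hc
    · exact allFrom_all point_57 hc
    · exact allFrom_all point_58 hc
    · exact allFrom_all point_59 hc
    · exact allFrom_all point_60 hc
    · exact allFrom_all point_61 hc
    · exact allFrom_all point_62 hc
    · exact allFrom_all point_63 hc
    · exact allFrom_all point_64 hc
    · exact allFrom_all point_65 hc
    · exact allFrom_all point_66 hc
    · exact allFrom_all point_67 hc
    · exact allFrom_all point_68 hc
  chain_gen m l a hm hl ha := by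
    change m < 69 at hm
    interval_cases m
    · exact allFrom_all (allFrom_all gen_0 hl : _) ha
    · exact allFrom_all (allFrom_all gen_1 hl : _) ha
    · exact allFrom_all (allFrom_all gen_2 hl : _) ha
    · exact allFrom_all (allFrom_all gen_3 hl : _) ha
    · exact allFrom_all (allFrom_all gen_4 hl : _) ha
    · exact allFrom_all (allFrom_all gen_5 hl : _) ha
    · exact allFrom_all (allFrom_all gen_6 hl : _) ha
    · exact allFrom_all (allFrom_all gen_7 hl : _) ha
    · exact allFrom_all (allFrom_all gen_8 hl : _) ha
    · exact allFrom_all (allFrom_all gen_9 hl : _) ha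
    · exact allFrom_all (allFrom_all gen_10 hl : _) ha
    · exact allFrom_all (allFrom_all gen_11 hl : _) ha
    · exact allFrom_all (allFrom_all gen_12 hl : _) ha
    · exact allFrom_all (allFrom_all gen_13 hl : _) ha
    · exact allFrom_all (allFrom_all gen_14 hl : _) ha
    · exact allFrom_all (allFrom_all gen_15 hl : _) ha
    · exact allFrom_all (allFrom_all gen_16 hl : _) ha
    · exact allFrom_all (allFrom_all gen_17 hl : _) ha
    · exact allFrom_all (allFrom_all gen_18 hl : _) ha
    · exact allFrom_all (allFrom_all gen_19 hl : _) ha
    · exact allFrom_all (allFrom_all gen_20 hl : _) ha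
    · exact allFrom_all (allFrom_all gen_21 hl : _) ha
    · exact allFrom_all (allFrom_all gen_22 hl : _) ha
    · exact allFrom_all (allFrom_all gen_23 hl : _) ha
    · exact allFrom_all (allFrom_all gen_24 hl : _) ha
    · exact allFrom_all (allFrom_all gen_25 hl : _) ha
    · exact allFrom_all (allFrom_all gen_26 hl : _) ha
    · exact allFrom_all (allFrom_all gen_27 hl : _) ha
    · exact allFrom_all (allFrom_all gen_28 hl : _) ha
    · exact allFrom_all (allFrom_all gen_29 hl : _) ha
    · exact allFrom_all (allFrom_all gen_30 hl : _) ha
    · exact allFrom_all (allFrom_all gen_31 hl : _) ha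
    · exact allFrom_all (allFrom_all gen_32 hl : _) ha
    · exact allFrom_all (allFrom_all gen_33 hl : _) ha
    · exact allFrom_all (allFrom_all gen_34 hl : _) ha
    · exact allFrom_all (allFrom_all gen_35 hl : _) ha
    · exact allFrom_all (allFrom_all gen_36 hl : _) ha
    · exact allFrom_all (allFrom_all gen_37 hl : _) ha
    · exact allFrom_all (allFrom_all gen_38 hl : _) ha
    · exact allFrom_all (allFrom_all gen_39 hl : _) ha
    · exact allFrom_all (allFrom_all gen_40 hl : _) ha
    · exact allFrom_all (allFrom_all gen_41 hl : _) ha
    · exact allFrom_all (allFrom_all gen_42 hl : _) ha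
    · exact allFrom_all (allFrom_all gen_43 hl : _) ha
    · exact allFrom_all (allFrom_all gen_44 hl : _) ha
    · exact allFrom_all (allFrom_all gen_45 hl : _) ha
    · exact allFrom_all (allFrom_all gen_46 hl : _) ha
    · exact allFrom_all (allFrom_all gen_47 hl : _) ha
    · exact allFrom_all (allFrom_all gen_48 hl : _) ha
    · exact allFrom_all (allFrom_all gen_49 hl : _) ha
    · exact allFrom_all (allFrom_all gen_50 hl : _) ha
    · exact allFrom_all (allFrom_all gen_51 hl : _) ha
    · exact allFrom_all (allFrom_all gen_52 hl : _) ha
    · exact allFrom_all (allFrom_all gen_53 hl : _) ha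
    · exact allFrom_all (allFrom_all gen_54 hl : _) ha
    · exact allFrom_all (allFrom_all gen_55 hl : _) ha
    · exact allFrom_all (allFrom_all gen_56 hl : _) ha
    · exact allFrom_all (allFrom_all gen_57 hl : _) ha
    · exact allFrom_all (allFrom_all gen_58 hl : _) ha
    · exact allFrom_all (allFrom_all gen_59 hl : _) ha
    · exact allFrom_all (allFrom_all gen_60 hl : _) ha
    · exact allFrom_all (allFrom_all gen_61 hl : _) ha
    · exact allFrom_all (allFrom_all gen_62 hl : _) ha
    · exact allFrom_all (allFrom_all gen_63 hl : _) ha
    · exact allFrom_all (allFrom_all gen_64 hl : _) ha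
    · exact allFrom_all (allFrom_all gen_65 hl : _) ha
    · exact allFrom_all (allFrom_all gen_66 hl : _) ha
    · exact allFrom_all (allFrom_all gen_67 hl : _) ha
    · exact allFrom_all (allFrom_all gen_68 hl : _) ha
  chain_pt m l j hm hl hj := by
    change m < 69 at hm
    interval_cases m
    · exact allFrom_all (allFrom_all pt_0 hl : _) hj
    · exact allFrom_all (allFrom_all pt_1 hl : _) hj
    · exact allFrom_all (allFrom_all pt_2 hl : _) hj
    · exact allFrom_all (allFrom_all pt_3 hl : _) hj
    · exact allFrom_all (allFrom_all pt_4 hl : _) hj
    · exact allFrom_all (allFrom_all pt_5 hl : _) hj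
    · exact allFrom_all (allFrom_all pt_6 hl : _) hj
    · exact allFrom_all (allFrom_all pt_7 hl : _) hj
    · exact allFrom_all (allFrom_all pt_8 hl : _) hj
    · exact allFrom_all (allFrom_all pt_9 hl : _) hj
    · exact allFrom_all (allFrom_all pt_10 hl : _) hj
    · exact allFrom_all (allFrom_all pt_11 hl : _) hj
    · exact allFrom_all (allFrom_all pt_12 hl : _) hj
    · exact allFrom_all (allFrom_all pt_13 hl : _) hj
    · exact allFrom_all (allFrom_all pt_14 hl : _) hj
    · exact allFrom_all (allFrom_all pt_15 hl : _) hj
    · exact allFrom_all (allFrom_all pt_16 hl : _) hj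
    · exact allFrom_all (allFrom_all pt_17 hl : _) hj
    · exact allFrom_all (allFrom_all pt_18 hl : _) hj
    · exact allFrom_all (allFrom_all pt_19 hl : _) hj
    · exact allFrom_all (allFrom_all pt_20 hl : _) hj
    · exact allFrom_all (allFrom_all pt_21 hl : _) hj
    · exact allFrom_all (allFrom_all pt_22 hl : _) hj
    · exact allFrom_all (allFrom_all pt_23 hl : _) hj
    · exact allFrom_all (allFrom_all pt_24 hl : _) hj
    · exact allFrom_all (allFrom_all pt_25 hl : _) hj
    · exact allFrom_all (allFrom_all pt_26 hl : _) hj
    · exact allFrom_all (allFrom_all pt_27 hl : _) hj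
    · exact allFrom_all (allFrom_all pt_28 hl : _) hj
    · exact allFrom_all (allFrom_all pt_29 hl : _) hj
    · exact allFrom_all (allFrom_all pt_30 hl : _) hj
    · exact allFrom_all (allFrom_all pt_31 hl : _) hj
    · exact allFrom_all (allFrom_all pt_32 hl : _) hj
    · exact allFrom_all (allFrom_all pt_33 hl : _) hj
    · exact allFrom_all (allFrom_all pt_34 hl : _) hj
    · exact allFrom_all (allFrom_all pt_35 hl : _) hj
    · exact allFrom_all (allFrom_all pt_36 hl : _) hj
    · exact allFrom_all (allFrom_all pt_37 hl : _) hj
    · exact allFrom_all (allFrom_all pt_38 hl : _) hj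
    · exact allFrom_all (allFrom_all pt_39 hl : _) hj
    · exact allFrom_all (allFrom_all pt_40 hl : _) hj
    · exact allFrom_all (allFrom_all pt_41 hl : _) hj
    · exact allFrom_all (allFrom_all pt_42 hl : _) hj
    · exact allFrom_all (allFrom_all pt_43 hl : _) hj
    · exact allFrom_all (allFrom_all pt_44 hl : _) hj
    · exact allFrom_all (allFrom_all pt_45 hl : _) hj
    · exact allFrom_all (allFrom_all pt_46 hl : _) hj
    · exact allFrom_all (allFrom_all pt_47 hl : _) hj
    · exact allFrom_all (allFrom_all pt_48 hl : _) hj
    · exact allFrom_all (allFrom_all pt_49 hl : _) hj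
    · exact allFrom_all (allFrom_all pt_50 hl : _) hj
    · exact allFrom_all (allFrom_all pt_51 hl : _) hj
    · exact allFrom_all (allFrom_all pt_52 hl : _) hj
    · exact allFrom_all (allFrom_all pt_53 hl : _) hj
    · exact allFrom_all (allFrom_all pt_54 hl : _) hj
    · exact allFrom_all (allFrom_all pt_55 hl : _) hj
    · exact allFrom_all (allFrom_all pt_56 hl : _) hj
    · exact allFrom_all (allFrom_all pt_57 hl : _) hj
    · exact allFrom_all (allFrom_all pt_58 hl : _) hj
    · exact allFrom_all (allFrom_all pt_59 hl : _) hj
    · exact allFrom_all (allFrom_all pt_60 hl : _) hj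
    · exact allFrom_all (allFrom_all pt_61 hl : _) hj
    · exact allFrom_all (allFrom_all pt_62 hl : _) hj
    · exact allFrom_all (allFrom_all pt_63 hl : _) hj
    · exact allFrom_all (allFrom_all pt_64 hl : _) hj
    · exact allFrom_all (allFrom_all pt_65 hl : _) hj
    · exact allFrom_all (allFrom_all pt_66 hl : _) hj
    · exact allFrom_all (allFrom_all pt_67 hl : _) hj
    · exact allFrom_all (allFrom_all pt_68 hl : _) hj
  chain_mem m l a hm hl ha := by
    refine ⟨chOff (m * 3 + l) + a, ?_, rfl⟩
    have h := Nat.ble_eq.mp (allFrom_all (allFrom_all bounds_all hm : allFrom _ 0 3 = true) hl)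
    change a < chCnt (m * 3 + l) at ha
    change chOff (m * 3 + l) + chCnt (m * 3 + l) ≤ nStab m at h
    change chOff (m * 3 + l) + a < nStab m
    omega
  idx_eq := by
    intro m hm
    change m < 69 at hm
    interval_cases m
    · decide +kernel
    · decide +kernel
    · decide +kernel
    · decide +kernel
    · decide +kernel
    · decide +kernel
    · decide +kernel
    · decide +kernel
    · decide +kernel
    · decide +kernel
    · decide +kernel
    · decide +kernel
    · decide +kernel
    · decide +kernel
    · decide +kernel
    · decide +kernel
    · decide +kernel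
    · decide +kernel
    · decide +kernel
    · decide +kernel
    · decide +kernel
    · decide +kernel
    · decide +kernel
    · decide +kernel
    · decide +kernel
    · decide +kernel
    · decide +kernel
    · decide +kernel
    · decide +kernel
    · decide +kernel
    · decide +kernel
    · decide +kernel
    · decide +kernel
    · decide +kernel
    · decide +kernel
    · decide +kernel
    · decide +kernel
    · decide +kernel
    · decide +kernel
    · decide +kernel
    · decide +kernel
    · decide +kernel
    · decide +kernel
    · decide +kernel
    · decide +kernel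
    · decide +kernel
    · decide +kernel
    · decide +kernel
    · decide +kernel
    · decide +kernel
    · decide +kernel
    · decide +kernel
    · decide +kernel
    · decide +kernel
    · decide +kernel
    · decide +kernel
    · decide +kernel
    · decide +kernel
    · decide +kernel
    · decide +kernel
    · decide +kernel
    · decide +kernel
    · decide +kernel
    · decide +kernel
    · decide +kernel
    · decide +kernel
    · decide +kernel
    · decide +kernel
    · decide +kernel

end Cfsg.Agent.LyRec.Sub
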