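import Cfsg.Agent.LyRec.Sub.StepDefs

/-! Generated by tools/dcoset/emit.py: steps are justified. -/

set_option Elab.async false
set_option maxRecDepth 100000

namespace Cfsg.Agent.LyRec.Sub

open Cfsg.Agent.DCoset Cfsg.Agent.CosetCert

theorem steps_224 : allFrom (Steps.check steps rules tab) 56000 250 = true := by
  decide +kernel

theorem steps_225 : allFrom (Steps.check steps rules tab) 56250 250 = true := by
  decide +kernel

theorem steps_226 : allFrom (Steps.check steps rules tab) 56500 250 = true := by
  decide +kernel

theorem steps_227 : allFrom (Steps.check steps rules tab) 56750 250 = true := by
  decide +kernel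

theorem steps_228 : allFrom (Steps.check steps rules tab) 57000 250 = true := by
  decide +kernel

theorem steps_229 : allFrom (Steps.check steps rules tab) 57250 250 = true := by
  decide +kernel

theorem steps_230 : allFrom (Steps.check steps rules tab) 57500 250 = true := by
  decide +kernel

theorem steps_231 : allFrom (Steps.check steps rules tab) 57750 250 = true := by
  decide +kernel


end Cfsg.Agent.LyRec.Sub
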