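import Cfsg.Agent.LyRec.Sub.RuleData

/-! Generated by tools/dcoset/emit.py: transversal and stabilisers. -/

set_option Elab.async false

namespace Cfsg.Agent.LyRec.Sub

open Cfsg.Agent.DCoset Cfsg.Agent.CosetCert

def liveS : Store := (.leaf 0x4b00470046004500440043004200410040003f003e003a0039003800370036003500340033003200310030002f002e002d002c002b002a0029002800270026002500240023002200210020001f001e001c001b001a0019001800170016001500140013001200110010000f000e000d000c000b000a0009000800070006000500040003000200010000)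

noncomputable def live : Nat → Nat := get16 liveS

def liveIdxS : Store := (.leaf 0x4500450045004500450045004500450045004500450045004500450045004500450045004500440045004500450043004200410040003f003e003d003c003b003a0045004500450039003800370036003500340033003200310030002f002e002d002c002b002a0029002800270026002500240023002200210020001f001e001d0045001c001b001a0019001800170016001500140013001200110010000f000e000d000c000b000a0009000800070006000500040003000200010000)

noncomputable def liveIdx : Nat → Nat := get16 liveIdxS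

def trS_1 : Store := (.node 14 (.node 7 (.node 3 (.node 1 (.leaf 0x0) (.node 2 (.leaf 0x1) (.leaf 0x10001))) (.node 5 (.node 4 (.leaf 0x20001) (.leaf 0x30001)) (.node 6 (.leaf 0x90001) (.leaf 0x2)))) (.node 10 (.node 8 (.leaf 0x2000002) (.node 9 (.leaf 0x3000002) (.leaf 0x4000002))) (.node 12 (.node 11 (.leaf 0x5000002) (.leaf 0x6000002)) (.node 13 (.leaf 0x7000002) (.leaf 0x8000002))))) (.node 21 (.node 17 (.node 15 (.leaf 0x9000002) (.node 16 (.leaf 0x1010002) (.leaf 0x2010002))) (.node 19 (.node 18 (.leaf 0x3010002) (.leaf 0x4010002)) (.node 20 (.leaf 0x5010002) (.leaf 0x6010002)))) (.node 24 (.node 22 (.leaf 0x7010002) (.node 23 (.leaf 0x8010002) (.leaf 0x9010002))) (.node 26 (.node 25 (.leaf 0x20002) (.leaf 0x1020002)) (.node 27 (.leaf 0x2020002) (.leaf 0x4020002))))))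

def trS_2 : Store := (.node 42 (.node 35 (.node 31 (.node 29 (.leaf 0x5020002) (.node 30 (.leaf 0x6020002) (.leaf 0x7020002))) (.node 33 (.node 32 (.leaf 0x9020002) (.leaf 0x30002)) (.node 34 (.leaf 0x1030002) (.leaf 0x3030002)))) (.node 38 (.node 36 (.leaf 0x4030002) (.node 37 (.leaf 0x5030002) (.leaf 0x6030002))) (.node 40 (.node 39 (.leaf 0x7030002) (.leaf 0x9030002)) (.node 41 (.leaf 0x90002) (.leaf 0x1090002))))) (.node 49 (.node 45 (.node 43 (.leaf 0x2090002) (.node 44 (.leaf 0x3090002) (.leaf 0x200000003))) (.node 47 (.node 46 (.leaf 0x300000003) (.leaf 0x400000003)) (.node 48 (.leaf 0x600000003) (.leaf 0x700000003)))) (.node 52 (.node 50 (.leaf 0x900000003) (.node 51 (.leaf 0x2000003) (.leaf 0x202000003))) (.node 54 (.node 53 (.leaf 0x402000003) (.leaf 0x502000003)) (.node 55 (.leaf 0x602000003) (.leaf 0x702000003))))))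

def trS_3 : Store := (.node 28 trS_1 trS_2)

def trS_4 : Store := (.node 70 (.node 63 (.node 59 (.node 57 (.leaf 0x802000003) (.node 58 (.leaf 0x902000003) (.leaf 0x3000003))) (.node 61 (.node 60 (.leaf 0x303000003) (.leaf 0x503000003)) (.node 62 (.leaf 0x703000003) (.leaf 0x803000003)))) (.node 66 (.node 64 (.leaf 0x903000003) (.node 65 (.leaf 0x4000003) (.leaf 0x104000003))) (.node 68 (.node 67 (.leaf 0x204000003) (.leaf 0x304000003)) (.node 69 (.leaf 0x404000003) (.leaf 0x704000003))))) (.node 77 (.node 73 (.node 71 (.leaf 0x904000003) (.node 72 (.leaf 0x5000003) (.leaf 0x105000003))) (.node 75 (.node 74 (.leaf 0x205000003) (.leaf 0x305000003)) (.node 76 (.leaf 0x905000003) (.leaf 0x6000003)))) (.node 80 (.node 78 (.leaf 0x106000003) (.node 79 (.leaf 0x206000003) (.leaf 0x306000003))) (.node 82 (.node 81 (.leaf 0x906000003) (.leaf 0x7000003)) (.node 83 (.leaf 0x107000003) (.leaf 0x307000003))))))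

def trS_5 : Store := (.node 98 (.node 91 (.node 87 (.node 85 (.leaf 0x907000003) (.node 86 (.leaf 0x8000003) (.leaf 0x108000003))) (.node 89 (.node 88 (.leaf 0x908000003) (.leaf 0x9000003)) (.node 90 (.leaf 0x109000003) (.leaf 0x209000003)))) (.node 94 (.node 92 (.leaf 0x309000003) (.node 93 (.leaf 0x201010003) (.leaf 0x301010003))) (.node 96 (.node 95 (.leaf 0x501010003) (.leaf 0x601010003)) (.node 97 (.leaf 0x901010003) (.leaf 0x2010003))))) (.node 105 (.node 101 (.node 99 (.leaf 0x202010003) (.node 100 (.leaf 0x402010003) (.leaf 0x502010003))) (.node 103 (.node 102 (.leaf 0x702010003) (.leaf 0x802010003)) (.node 104 (.leaf 0x902010003) (.leaf 0x3010003)))) (.node 108 (.node 106 (.leaf 0x103010003) (.node 107 (.leaf 0x303010003) (.leaf 0x503010003))) (.node 110 (.node 109 (.leaf 0x603010003) (.leaf 0x703010003)) (.node 111 (.leaf 0x803010003) (.leaf 0x903010003))))))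

def trS_6 : Store := (.node 84 trS_4 trS_5)

def trS_7 : Store := (.node 56 trS_3 trS_6)

def trS_8 : Store := (.node 126 (.node 119 (.node 115 (.node 113 (.leaf 0x4010003) (.node 114 (.leaf 0x204010003) (.leaf 0x304010003))) (.node 117 (.node 116 (.leaf 0x404010003) (.leaf 0x904010003)) (.node 118 (.leaf 0x5010003) (.leaf 0x105010003)))) (.node 122 (.node 120 (.leaf 0x205010003) (.node 121 (.leaf 0x305010003) (.leaf 0x905010003))) (.node 124 (.node 123 (.leaf 0x106010003) (.leaf 0x206010003)) (.node 125 (.leaf 0x306010003) (.leaf 0x906010003))))) (.node 133 (.node 129 (.node 127 (.leaf 0x7010003) (.node 128 (.leaf 0x107010003) (.leaf 0x207010003))) (.node 131 (.node 130 (.leaf 0x907010003) (.leaf 0x8010003)) (.node 132 (.leaf 0x108010003) (.leaf 0x908010003)))) (.node 136 (.node 134 (.leaf 0x9010003) (.node 135 (.leaf 0x109010003) (.leaf 0x20003))) (.node 138 (.node 137 (.leaf 0x200020003) (.leaf 0x300020003)) (.node 139 (.leaf 0x400020003) (.leaf 0x600020003))))))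

def trS_9 : Store := (.node 154 (.node 147 (.node 143 (.node 141 (.leaf 0x800020003) (.node 142 (.leaf 0x900020003) (.leaf 0x101020003))) (.node 145 (.node 144 (.leaf 0x201020003) (.leaf 0x301020003)) (.node 146 (.leaf 0x801020003) (.leaf 0x901020003)))) (.node 150 (.node 148 (.leaf 0x2020003) (.node 149 (.leaf 0x102020003) (.leaf 0x202020003))) (.node 152 (.node 151 (.leaf 0x402020003) (.leaf 0x502020003)) (.node 153 (.leaf 0x902020003) (.leaf 0x4020003))))) (.node 161 (.node 157 (.node 155 (.leaf 0x104020003) (.node 156 (.leaf 0x304020003) (.leaf 0x404020003))) (.node 159 (.node 158 (.leaf 0x205020003) (.leaf 0x106020003)) (.node 160 (.leaf 0x306020003) (.leaf 0x7020003)))) (.node 164 (.node 162 (.leaf 0x107020003) (.node 163 (.leaf 0x207020003) (.leaf 0x307020003))) (.node 166 (.node 165 (.leaf 0x9020003) (.leaf 0x109020003)) (.node 167 (.leaf 0x200030003) (.leaf 0x300030003))))))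

def trS_10 : Store := (.node 140 trS_8 trS_9)

def trS_11 : Store := (.node 182 (.node 175 (.node 171 (.node 169 (.leaf 0x500030003) (.node 170 (.leaf 0x600030003) (.leaf 0x700030003))) (.node 173 (.node 172 (.leaf 0x800030003) (.leaf 0x900030003)) (.node 174 (.leaf 0x201030003) (.leaf 0x301030003)))) (.node 178 (.node 176 (.leaf 0x401030003) (.node 177 (.leaf 0x601030003) (.leaf 0x801030003))) (.node 180 (.node 179 (.leaf 0x901030003) (.leaf 0x103030003)) (.node 181 (.leaf 0x403030003) (.leaf 0x503030003))))) (.node 189 (.node 185 (.node 183 (.leaf 0x903030003) (.node 184 (.leaf 0x204030003) (.leaf 0x404030003))) (.node 187 (.node 186 (.leaf 0x105030003) (.leaf 0x205030003)) (.node 188 (.leaf 0x106030003) (.leaf 0x206030003)))) (.node 192 (.node 190 (.leaf 0x7030003) (.node 191 (.leaf 0x207030003) (.leaf 0x9030003))) (.node 194 (.node 193 (.leaf 0x109030003) (.leaf 0x309030003)) (.node 195 (.leaf 0x90003) (.leaf 0x400090003))))))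

def trS_12 : Store := (.node 210 (.node 203 (.node 199 (.node 197 (.leaf 0x600090003) (.node 198 (.leaf 0x700090003) (.leaf 0x800090003))) (.node 201 (.node 200 (.leaf 0x900090003) (.leaf 0x101090003)) (.node 202 (.leaf 0x301090003) (.leaf 0x401090003)))) (.node 206 (.node 204 (.leaf 0x501090003) (.node 205 (.leaf 0x601090003) (.leaf 0x701090003))) (.node 208 (.node 207 (.leaf 0x801090003) (.leaf 0x901090003)) (.node 209 (.leaf 0x102090003) (.leaf 0x202090003))))) (.node 217 (.node 213 (.node 211 (.leaf 0x103090003) (.node 212 (.leaf 0x303090003) (.leaf 0x200000004))) (.node 215 (.node 214 (.leaf 0x20200000004) (.leaf 0x90200000004)) (.node 216 (.leaf 0x300000004) (.leaf 0x30300000004)))) (.node 221 (.node 219 (.node 218 (.leaf 0x60300000004) (.leaf 0x90300000004)) (.node 220 (.leaf 0x30400000004) (.leaf 0x90400000004))) (.node 223 (.node 222 (.leaf 0x600000004) (.leaf 0x10600000004)) (.node 224 (.leaf 0x30600000004) (.leaf 0x90600000004))))))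

def trS_13 : Store := (.node 196 trS_11 trS_12)

def trS_14 : Store := (.node 168 trS_10 trS_13)

def trS_15 : Store := (.node 112 trS_7 trS_14)

def trS_16 : Store := (.node 239 (.node 232 (.node 228 (.node 226 (.leaf 0x700000004) (.node 227 (.leaf 0x30700000004) (.leaf 0x90700000004))) (.node 230 (.node 229 (.leaf 0x900000004) (.leaf 0x10900000004)) (.node 231 (.leaf 0x30900000004) (.leaf 0x20002000004)))) (.node 235 (.node 233 (.leaf 0x30002000004) (.node 234 (.leaf 0x40002000004) (.leaf 0x50002000004))) (.node 237 (.node 236 (.leaf 0x60002000004) (.leaf 0x70002000004)) (.node 238 (.leaf 0x202000004) (.leaf 0x10202000004))))) (.node 246 (.node 242 (.node 240 (.leaf 0x20202000004) (.node 241 (.leaf 0x40202000004) (.leaf 0x50202000004))) (.node 244 (.node 243 (.leaf 0x60202000004) (.leaf 0x70202000004)) (.node 245 (.leaf 0x80202000004) (.leaf 0x90202000004)))) (.node 249 (.node 247 (.leaf 0x402000004) (.node 248 (.leaf 0x40402000004) (.leaf 0x80402000004))) (.node 251 (.node 250 (.leaf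 0x502000004) (.leaf 0x10502000004)) (.node 252 (.leaf 0x20502000004) (.leaf 0x30502000004))))))

def trS_17 : Store := (.node 267 (.node 260 (.node 256 (.node 254 (.leaf 0x80502000004) (.node 255 (.leaf 0x602000004) (.leaf 0x10602000004))) (.node 258 (.node 257 (.leaf 0x30602000004) (.leaf 0x80602000004)) (.node 259 (.leaf 0x702000004) (.leaf 0x10702000004)))) (.node 263 (.node 261 (.leaf 0x80702000004) (.node 262 (.leaf 0x90802000004) (.leaf 0x10902000004))) (.node 265 (.node 264 (.leaf 0x20902000004) (.leaf 0x3000004)) (.node 266 (.leaf 0x20003000004) (.leaf 0x30003000004))))) (.node 274 (.node 270 (.node 268 (.leaf 0x90003000004) (.node 269 (.leaf 0x303000004) (.leaf 0x10303000004))) (.node 272 (.node 271 (.leaf 0x40303000004) (.leaf 0x503000004)) (.node 273 (.leaf 0x20503000004) (.leaf 0x30503000004)))) (.node 277 (.node 275 (.leaf 0x90503000004) (.node 276 (.leaf 0x10703000004) (.leaf 0x20703000004))) (.node 279 (.node 278 (.leaf 0x10803000004) (.leaf 0x903000004)) (.node 280 (.leaf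 0x20903000004) (.leaf 0x20004000004))))))

def trS_18 : Store := (.node 253 trS_16 trS_17)

def trS_19 : Store := (.node 295 (.node 288 (.node 284 (.node 282 (.leaf 0x40004000004) (.node 283 (.leaf 0x70004000004) (.leaf 0x90004000004))) (.node 286 (.node 285 (.leaf 0x20104000004) (.leaf 0x40104000004)) (.node 287 (.leaf 0x70104000004) (.leaf 0x80104000004)))) (.node 291 (.node 289 (.leaf 0x90104000004) (.node 290 (.leaf 0x20204000004) (.leaf 0x50204000004))) (.node 293 (.node 292 (.leaf 0x70204000004) (.leaf 0x90204000004)) (.node 294 (.leaf 0x10304000004) (.leaf 0x50304000004))))) (.node 302 (.node 298 (.node 296 (.leaf 0x404000004) (.node 297 (.leaf 0x30404000004) (.leaf 0x90404000004))) (.node 300 (.node 299 (.leaf 0x20704000004) (.leaf 0x30704000004)) (.node 301 (.leaf 0x10904000004) (.leaf 0x30904000004)))) (.node 305 (.node 303 (.leaf 0x20005000004) (.node 304 (.leaf 0x40005000004) (.leaf 0x50005000004))) (.node 307 (.node 306 (.leaf 0x80005000004) (.leaf 0x50105000004)) (.node 308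 (.leaf 0x90105000004) (.leaf 0x20205000004))))))

def trS_20 : Store := (.node 323 (.node 316 (.node 312 (.node 310 (.leaf 0x40305000004) (.node 311 (.leaf 0x60305000004) (.leaf 0x70305000004))) (.node 314 (.node 313 (.leaf 0x30905000004) (.leaf 0x90006000004)) (.node 315 (.leaf 0x30106000004) (.leaf 0x206000004)))) (.node 319 (.node 317 (.leaf 0x20206000004) (.node 318 (.leaf 0x40206000004) (.leaf 0x50206000004))) (.node 321 (.node 320 (.leaf 0x90206000004) (.leaf 0x306000004)) (.node 322 (.leaf 0x10306000004) (.leaf 0x50306000004))))) (.node 330 (.node 326 (.node 324 (.leaf 0x60306000004) (.node 325 (.leaf 0x90306000004) (.leaf 0x20906000004))) (.node 328 (.node 327 (.leaf 0x40007000004) (.leaf 0x60007000004)) (.node 329 (.leaf 0x90007000004) (.leaf 0x60107000004)))) (.node 333 (.node 331 (.leaf 0x70107000004) (.node 332 (.leaf 0x30307000004) (.leaf 0x90307000004))) (.node 335 (.node 334 (.leaf 0x8000004) (.leaf 0x30008000004)) (.node 336 (.leaf 0x80008000004) (.leaf 0x40108000004))))))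

def trS_21 : Store := (.node 309 trS_19 trS_20)

def trS_22 : Store := (.node 281 trS_18 trS_21)

def trS_23 : Store := (.node 351 (.node 344 (.node 340 (.node 338 (.leaf 0x908000004) (.node 339 (.leaf 0x10908000004) (.leaf 0x30908000004))) (.node 342 (.node 341 (.leaf 0x20009000004) (.leaf 0x30009000004)) (.node 343 (.leaf 0x40009000004) (.leaf 0x90009000004)))) (.node 347 (.node 345 (.leaf 0x10109000004) (.node 346 (.leaf 0x30109000004) (.leaf 0x50109000004))) (.node 349 (.node 348 (.leaf 0x70109000004) (.leaf 0x90109000004)) (.node 350 (.leaf 0x209000004) (.leaf 0x10209000004))))) (.node 358 (.node 354 (.node 352 (.leaf 0x10309000004) (.node 353 (.leaf 0x201010004) (.leaf 0x10201010004))) (.node 356 (.node 355 (.leaf 0x10601010004) (.leaf 0x90601010004)) (.node 357 (.leaf 0x901010004) (.leaf 0x10901010004)))) (.node 361 (.node 359 (.leaf 0x30002010004) (.node 360 (.leaf 0x40002010004) (.leaf 0x90002010004))) (.node 363 (.node 362 (.leaf 0x60202010004) (.leaf 0x10402010004)) (.node 364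 (.leaf 0x10502010004) (.leaf 0x90702010004))))))

def trS_24 : Store := (.node 379 (.node 372 (.node 368 (.node 366 (.leaf 0x90802010004) (.node 367 (.leaf 0x3010004) (.leaf 0x30003010004))) (.node 370 (.node 369 (.leaf 0x40003010004) (.leaf 0x70003010004)) (.node 371 (.leaf 0x60103010004) (.leaf 0x90103010004)))) (.node 375 (.node 373 (.leaf 0x20503010004) (.node 374 (.leaf 0x10603010004) (.leaf 0x90703010004))) (.node 377 (.node 376 (.leaf 0x90803010004) (.leaf 0x30903010004)) (.node 378 (.leaf 0x304010004) (.leaf 0x60304010004))))) (.node 386 (.node 382 (.node 380 (.leaf 0x90304010004) (.node 381 (.leaf 0x10404010004) (.leaf 0x90404010004))) (.node 384 (.node 383 (.leaf 0x904010004) (.leaf 0x30904010004)) (.node 385 (.leaf 0x80005010004) (.leaf 0x40105010004)))) (.node 389 (.node 387 (.leaf 0x60105010004) (.node 388 (.leaf 0x30305010004) (.leaf 0x40305010004))) (.node 391 (.node 390 (.leaf 0x50106010004) (.leaf 0x70106010004)) (.node 392 (.leaf 0x306010004) (.leaf 0x50306010004))))))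

def trS_25 : Store := (.node 365 trS_23 trS_24)

def trS_26 : Store := (.node 407 (.node 400 (.node 396 (.node 394 (.leaf 0x70306010004) (.node 395 (.leaf 0x30906010004) (.leaf 0x50007010004))) (.node 398 (.node 397 (.leaf 0x90007010004) (.leaf 0x20107010004)) (.node 399 (.leaf 0x30107010004) (.leaf 0x40107010004)))) (.node 403 (.node 401 (.leaf 0x90107010004) (.node 402 (.leaf 0x40207010004) (.leaf 0x907010004))) (.node 405 (.node 404 (.leaf 0x20108010004) (.leaf 0x80108010004)) (.node 406 (.leaf 0x10908010004) (.leaf 0x9010004))))) (.node 414 (.node 410 (.node 408 (.leaf 0x70009010004) (.node 409 (.leaf 0x10109010004) (.leaf 0x90000020004))) (.node 412 (.node 411 (.leaf 0x60300020004) (.leaf 0x30400020004)) (.node 413 (.leaf 0x80600020004) (.leaf 0x201020004)))) (.node 417 (.node 415 (.leaf 0x40301020004) (.node 416 (.leaf 0x10801020004) (.leaf 0x30901020004))) (.node 419 (.node 418 (.leaf 0x50102020004) (.leaf 0x10202020004)) (.node 420 (.leaf 0x60202020004) (.leaf 0x50004020004))))))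

def trS_27 : Store := (.node 435 (.node 428 (.node 424 (.node 422 (.leaf 0x80004020004) (.node 423 (.leaf 0x30404020004) (.leaf 0x40205020004))) (.node 426 (.node 425 (.leaf 0x90306020004) (.leaf 0x20007020004)) (.node 427 (.leaf 0x30307020004) (.leaf 0x30009020004)))) (.node 431 (.node 429 (.leaf 0x30300030004) (.node 430 (.leaf 0x40300030004) (.leaf 0x70300030004))) (.node 433 (.node 432 (.leaf 0x90600030004) (.leaf 0x800030004)) (.node 434 (.leaf 0x201030004) (.leaf 0x20401030004))))) (.node 442 (.node 438 (.node 436 (.leaf 0x20403030004) (.node 437 (.leaf 0x20903030004) (.leaf 0x404030004))) (.node 440 (.node 439 (.leaf 0x20205030004) (.leaf 0x60106030004)) (.node 441 (.leaf 0x90309030004) (.leaf 0x70000090004)))) (.node 446 (.node 444 (.node 443 (.leaf 0x30101090004) (.leaf 0x701090004)) (.node 445 (.leaf 0x10901090004) (.leaf 0x10202090004))) (.node 448 (.node 447 (.leaf 0x3030700000005) (.leaf 0x6040002000005)) (.node 449 (.leaf 0x2000202000005) (.leaf 0x1080402000005))))))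

def trS_28 : Store := (.node 421 trS_26 trS_27)

def trS_29 : Store := (.node 393 trS_25 trS_28)

def trS_30 : Store := (.node 337 trS_22 trS_29)

def trS : Store := (.node 225 trS_15 trS_30)

def schDS_1 : Store := (.node 9 (.node 4 (.node 2 (.node 1 (.leaf 0x440001001600450053003f00520051005000120001004400450016004f004e004d004c004b00150016004500440001004a0049004800470046001400450016000100440043004200410040003f003e003d0019003c0006003b0001001d003a00390038003700360035003400010033002400320031002c0030002f0008002e002d002c0001000f000000050005000500050005002b002a002900280027000300260025002400230022000000210020001f0004001e001d001c001b0000001a0019001800170016001500140013001200110010000f0000000e000d000c000b000a000900080007000000060005000000000000000000000004000300020001) (.leaf 0x30002f0090008f008e0003008d008c005b008b0011008a00890088000300870002008400740079007d00810030003900860085008400020009000a000b000c0066006e008300820081000a00730002000d003a002f0080007f007e007d000900020073003a000d007c007b007a00100079000c000d003a0073000200780077007600750074000b003a000d000200730072007100470070006f006e006d006c006b0018006a000200690068006700660065002d0064006300020062001400610060003d003e005f005e0049005d005c00060002000100570046004b00500054005b005a005900580057000100120013001400150038003e0056005500540013))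 (.node 3 (.leaf 0x1d00be007500bd001d001e000400b8002b001f009d00bc00bb0080001c001b001f002b00b80004001b00ba00b90007001b001c002b001f000400b800a200b70049006600b6001a00b500b400b500b40095000400b3007d00b200b1007100b0004300af00ae00ad002e000400ac00ab00aa00a900a8007700a700a60004006f0003002700230024002500260097004c00a500a400260025009c00030027002a00a300a200a100a0002500260003009c002a0027009f0026009e0008002400230027002a009c00030061009d0038004100230024002a00270003009c009b0024009a00990098002200970096009700960003009500940093009200910008002e) (.leaf 0xee00ed006a00e900ec00eb00ea00e900e800e7000700cb000600d600dc003f00e000e300e600ae00e500e400e3005e003c0006003d001900e20017005f00e100e000490006003c0019003d00df001500de00dd00dc005f0019003d0006003c00db0050006f002100da00d5001000d9005a009e00d80006008200d700d600060049005e005f003e000600d5007e00d4009c002a002400230026002500d3000500d2008900b8002b001c001b001e001d000500d100d000a600cf00ce00cd00cc00cb00ca00c9004a00c8000500c700c600c500c4006200c3009900bd000500c20004001f001b001c001d001e00c100b400c000bf001e001d00b80004001f002b)))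 (.node 6 (.node 5 (.leaf 0x80078003101120092008f000c011700d90116007800080091000f002c00a4000d0094011500ba008f000f002e0008002f0030004801140113004d011200a4002f0030002e0008011101100039010f01080094010e00940094010e00ef0008010d010c010b00440013001200150014010a010900080108000701050035003400370036001701070106003c010500070101010400f800fd00f4000d0040001c0036010400f7000700bd0039010200640103010200370101000700f7003900bd010000c000ff00fe003400fd00bd003900f7000700fc00fb00fa00f9003500f8003900bd000700f700f600ac007d00f600f500f400f300f200f100f0000700ef) (.leaf 0xc1007f00c1007f001f010f000b0113000a0081000e0129011c008401380043007100f500aa00800137013600ac01350029000a00cc00a3012b002f00a4002c000f0091000a0134004500230133005c004e0118013200c90126003d0070000a013101310130012f0130012f00fe012e000a00120009007d0129000e0084011c012d00a9012c0096011c0073000a0009000c000b012b012a00e200490129003a000b000c0009000a0128012500f3012700af007b00d200b201260021004b0009012501000124007c012300820122011100090121007b008c0120011f011e00e100ad011d00ea011c001c0009011b00db011a007600db0119005f011800090038))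 (.node 7 (.leaf 0x15a00850159008e0158000e01570086015601140114015601550154000e00bc000d000e0081007d00790074015300ff01520151013d012200b9013f007c0150012200ed014a000d00b5014f00b600d100b600d1014e00b8000d014d000c0079011c0084000e012900b9004f010400ee014c007700c000ed007e00ab014b000c008a01110109009e014a014900fc00d50113011b013b000c0148012100d4014700dd01460132007c000c004e000b00740084011c0129000e002e014500ef00810144007100b10143014200bf0054000b01410140013f007200a60048013e013d000b013c0051013b013700ed00a8007700aa00a9013a0122003d000b013900c1) (.node 8 (.leaf 0xcd0016002300e2016c00fc00d90010009e005a00fd00da016700780089014a009e005a00d900100037014a016b006a01020149005a009e001000d900880060016a007b00f300cd00ce016900f50028001000bb006b0131016800b700f9010f00fe01670166001c00100124000f008f012b012d0163007800630091016501640163002e000f009100a4002c0074004001620030012d0030002c00a40091000f0084010800bf010a011001140159008600860159012c000f011c008d0123004800fa007201240138000f014301610160007500ff006b0018006d006c00ec000e015f013801270153006400630065002d000e0141015e015d015c015b015b0093)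 (.leaf 0x17c0141017b004e005c017a00ae0070014d001200ba017900b0004f0126002100d200b200120079009b004b0111013e01380124007200fa013e01360012004800110177008d008801620176017800cc0020002e0177001100d800a5008c010c0016009300a30121017600a5008a0011008b005b00bf015f0170013f016200d80011008a005b008b00d500d8017500940088010c008b005b008a001100b2017400d80062003200930093015b0085015a00bb00110064012f017301720134017201170154006701570147001100ba01400171014e01650170016f01400011016e0010016d0102008900da016c01150069008800fa016d001000d500fc0149014a))))) (.node 13 (.node 11 (.node 10 (.leaf 0x190018f004c018f004c018f018e018d00d40015018c00f6008e018a018b005300f800f60015002c001400460057010b017d0017018a00e30022003400c9004201890133018800560051001400890187017e0043014200bf00b101430014008100630042013c017801860113018501150177012001240014001300540017017d010b00570071015200b4013a003e003f016000d60060018401830013006500f7009a0053004d015e002000f6001300f500a40159013401810040018201730181015d015900bd0013005b018001620176008d008800d700f10013002600120050017d00170057010b017f005f0107017e017d0045001400150012001300f700e0)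 (.leaf 0x19c00ff0120006e00e100900042016a0125019c0018006b006c006d00c400d701780168011f0120006c006d0018006b019b017800fd0053006400900067019a0127012800910018002b007c006b00e1006f011f007501250018006300f90067019901590114015601560114015b01810018008e00e70058005d00e600e6005d011b00eb0198001700eb0179019701790059006a01250106001701960016001700540050004b00460105005e0195015000970194009800d3009800d3012e019300d70016017a0189004200a00152017b014201840016002d0015004b010b00570017017d007b013200500192008e004a016b0100018c0191001500ce0025010e)) (.node 12 (.leaf 0x1a400c201610028001b014b001a00b6014f0083014f0083010f017001540161008300b400ee001a00ee001a0170001f00c60148014f00b5001a00ee001a00ee019300fe004600ea019d009501a301a3016f016f001a002201a200d600e2003b003b01a101a1003b003e0196006c001a00e9006a0059006a01970179006e016e001a01750019018400e000e300dc003f01a0018900df013e01840019005f003e0049005e00600089019f012a014a0089017c016d0109019e008c001900e80193003d006000e300e0003f00dc001901490138019d008000aa00ab007e00ed00c0005900dd008700190018011e011f006f0125007501750126005d015c011e0018)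 (.leaf 0x200133002a0157011d006d006e012000ff019c011600d20159001f0160003c005e0049003e005f01ab0188001f0077013b00bc00fe016700f9010f01aa001e004a006e00a2009d018d01a701a7018d001e0023019a018b012a00bd00fd00f801040101010b00c600ec001e013801500082012301110122017301a9001e00c301a800be01700165014e01710168001d012700af0128005200630064002d0065015401460108001d009d00a201a7018d018d01a7001c002500a9019e002b00b8001d001e001b001c01a6014f00fb00b1014000ba014e017101700165013b001b00a800710077014c013500ac01360137019700d401a1001b00e501a5017400d0))) (.node 15 (.node 14 (.leaf 0xf6002200210142004300af007100b00189006b00ea012c014200210144004f017e007b0162013d009c01ad007101440021012600b200d200f300c3013f00fc0043017e00b200d20021012600ca01b2009f00f30122013d0124013800fa00720031002100e700b800d801620180010a01770041002101a4010901b100200191009a017f01af004a0034019100d5013401910020018a008e0053018b017a00d0015d01b0004a008e00f60020015e004d0186015b013300ff01af018a002000f6004d015e004600b300e9009d017f018b015e004d00f600200146015500f5009b012c00d001ae01a500bb01ad01ac0020012e01050189017a0118004e00c90132)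 (.leaf 0x14300d2007b017e004f01440188006d0027005e00de009f018e01b3016a00e40026019801a5019c00f700a10034003500360037002801290026007601b600a301b1019f01b4012e00250166005801580164016e01b501b700c800a70062006a016900250068009b016a00e4018e01b3002401b6003e0072011801520188005601890133013c005400cb0024002a009c00250026002300240055019000ae01b50198006101b4012e01b1019f002301aa019900e300220098019400550194005501b301b400f1012900550096010d0022010d0022019f01b0013c00ce019400970022010d0022010d002701b301550079010701a901b20141019b010300a90150)) (.node 16 (.leaf 0x290107014b00c6006f01440121004a01b200c500c6014b0107002901060128003200b9014100c4014b00c600290107019c00af013100d8007c0124013d013e004800a601340029015b00de01ac017401a501ae01ad00bb01ba010c00c200290028019500f200f300f000f10118017f017201990195002800ca00cb00cc00cd00a101a50176009700f100cb00f5002800ce0169010900e5014c017800f000ca002800f5016900ce017e008b016c019000f200cc016900ce002800f500b0017700a000ec011601b701b9016e00990187013601b7002800c801b8004c018f004c018f004c01b40027010b00eb016b015e018b0053008e018a00360100010a0027)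 (.node 17 (.leaf 0x6300640181018601ab003f00ad006c0120006e019c00ff006c002d00ca006b012101480185011501860113008b0075002d0083002c003100780163012d012b013d01560095011800fb002d015d006600520153002c006c015a00ac00dd0185014800510178014d009a0127002c007f00ee00d10083014f0083014f019d002b017d0103012600bf00af004300b0007100a501110187002b010d00d30055019400550194002a019d01bd00df017500a70099018701b9016e00ab01a2016d002a00290151014101b20103019b01b900f701bc01830151002900c3006200c400c50080012400b5011e019b00620107002900c6014b016e0066013901bb010300c3) (.leaf 0x1a4003101450165009901060116013a017501a200c5017901af00310165014e00ba014000be01a8014f00ee003101560030012d0092008f00310112007d017300b7017200940108010801610161010801be003000660045010c008800410177010a01800149008c0030018d002f012b008f0092011200310073010e010501490181013401720134015401170124002f00d1009200be01a8016501700171014e01a301a800c9002f00d401860178014d01480051008e015d002f015b002e016301120031008f009201290161016600f001540040018101730182004000fa002e019e00e9002d00fb01280127019a0067006500fd0193017f019a015d002d0065))))))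

def schDS_2 : Store := (.node 27 (.node 22 (.node 20 (.node 19 (.leaf 0xaf004400c30103003300c7015101a90192019a0184019400c501b201a9015100c700330075017e00f800b600c40141015101a9003300c70187015300dc019b01870196013a011601a201750033003b01aa005000d3010d009600970096009700e401b1005400330100004d0053018b018a008e005601c000330104015a01bf015c003201bf015501ae005b00c300a1008501550032015c015501bf0086018b00c1011d015b015c01bf0155015c003201580041009600b200930032015501bf0032015c015701af00db00a9018a01af0100016b0191018c01470032017f009000860157011001ba01ba011000320172012800ae01ba01560086015901590086) (.leaf 0x180005b008c010c00d800a5005701bf00aa003601b4019f01b600a301980061009600470036013300f80035010500a10038012a00da006501b4008a01c100650066015d0153005200fb003500b0017000d500da019e0109016d017c003500fc017b009c01520118017a005c007000ae019500db0067003501b1012e0198006101b600a3019401310035008800fd003400a10105012a00380191007e01c100f100bd012a003600370034003500cf0073007801a40135007e00a900aa007700a8007e0034003400b30033014b00c400c500c300620077013f004b00a8014b00330103019b014101b20196003801a001a60062019b00c7003301a90151012000b0))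 (.node 21 (.leaf 0xff019c006e012000c80142003b01c0003a0129007d008100740079016300a1011400c1019c012500ad011d011e00e10179003a005e00c00052012800fb01c101bb0090003a00c5013200ad003b00e201bd00e200e201bd005e0164003a009e00b3016900cc00cd00ca00cb003901be018a007401a500e501c0015f01ac012c008500cb013700390038003900f800fd010101040169008400a700e0010100370038012a010500a1014a01bb00ed005400cc00f2019500f400b300cf017c015800d30037006301bb019a00670128012701bb00370037017d01040036012a003800a10105015e013701b1013200ed0137008000e80145014c00c000360043014e) (.leaf 0x400182012701990142014f00b900fa004800a6013d013e004000c700d60120011901830183011b00df0069003f017b019c018600c2015f00ef00e501be0158011000a5003f01b30113014700d70121007a013c01af00670179003e01ab005d0058008700870058003d0175011d010b01150146007a013c00d70121018b0052004c003d003c0160003f00dc00e300e00160016c01b20142007001880152017b004200a000d2003c005301b4005d01ab01bc00e700e701bc003c011601530171019f01b40061019800a301b6004c0098003c013701bd01a101a1003b003b01a100e001b90080016900d100ee00b400b500b400b50167014e0197003b00e1006b)))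 (.node 24 (.node 23 (.leaf 0x8d004801730184008b010a017601620088008d00440085013d0043004200c9007000ae017a005c00ce00df0061007a005c013300a00042017b0152018c017a01b901a700ae0056017b015200a00042004d0056018201a000d70051011501850113018600420138006e00cc0041008a00a500d8010c008c007a00f3011801a2008a00410088008d01760162017d015c0151016f008c008d017700410180010a0143012c00ce013600a50176010a018000410177016c017600eb01140045017d005000540046004b0041017c018f005d00400154011701540134017200520086012f016b0172017301820040018101730150012d018901b80117018201730181) (.leaf 0xfe00aa01500138013e013d00a60048008100510101010900470047012f0130012f013000f9019f006200ca0130013001310047013100470165018e0134015a012f012f00470131004701310171016a006a011b016700f900b7016800bc013b00470083014900a7005e00e300600184016000d6011a0046019b016600a701750192016401060196011e005d00b20046004900e00184006000d6016001a1004501ac015300a100f70104010100fd00f800450151009101be0044010b004b00460054005000bd00dc00b601c1009e0109016c00da0089010200cb004401b500e7005a019e00da016c0102008900d401190044009f00d2014300b0007100af0043))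 (.node 25 (.leaf 0x4e017b005601880133018900f50183006d00b00188007000c901320118004e016b0070009201bd005600ae013200c9004e011800b100d6014e0125007a014d0113018601150185004e00b9013600b500a301b6019f01b1012e01b401b6009b004e005201a401c000e500ef015801be01c0004d00790143004c01b8019001b8019001b8016a01a7014600cd00a0013200ae0070005c017a0121004b005b008f004d010001af004a009a017f0101015e010f0106015e016b004a01af017f009a007000c2011e013c00f6018c017f009a004a01af013301ac018e0144007600df00df00690183011b004900c900ac013000480123007c015000b9013f00a60135) (.node 26 (.leaf 0x191018c0100016b0185015a016800c500f400f500cb00ca00cd00cc017b0053009901a100900064015300520066015d00640104014d005601bb006300520153015d0066008f00e100e0012e005100d7014700d4014600dd0180019c009701910146011500510148014d0178016d00e8016e006901470113014d017800510148009e00a801b70139018b017f018c0191016b010000500195016400e6004f00b0014300b100bf014200cc019b0135017700bf0126004f0144007b017e005c011e013a015500b100b2017e007b0144004f010c00820112011900ca00f000b300cf019500f4005a01ae0073004f009b006800e4016a01b3018e0068016f004f017c)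 (.leaf 0x5d00e600760059007700a501b90192017501a20116013a010300ea00bc0059005800e701a001ab01ab01a0006900e900a6016d01a000e6008700580058008700d601b500e401af017900eb00ea00e900ec00eb00a80058014300b400db011b011b0183006900df0058009e01600098019e005a0149014a00d500fc00f00057012b011000fa00b901220111012300820079014d016f005700ce00cf00f100f000f300f2012a01ad0057011f013200a0013301890056018800b3011a008401a30096005500d3009800d30098009c00e4011901b2018e00e40068009b00de009f010d00550100013d0178013c00dd014600d40147015200720055014a0053009a))))) (.node 31 (.node 29 (.node 28 (.leaf 0xbc0061012d00dc00e4018e009f00de009b0068018f013000e6006000bb01be012c01ac015f01c00108016900600145005f00dc00d601600184006001bd010b018301b6006c00ad01250075011f006f01b500b1018d005f01a101bd00e201bd01bd00e200dc00990098005c00a4011201630078012b012d01c10112005c015401b701160106019601920164006d01ab019d005b013600c0007700a800a900aa0137010101b0005a017c00d900fc00d5014a014900dd0076005a00ab005900ea00eb00ec00e900ea011f0192008d018f00ea0059006a00590179019700aa008700dd00c900ec019701790197006a0059014c01bc013000d501bc008700e6005d)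 (.leaf 0x1940126011a0069006900df011b018300e7016d00e300c701b3016a009b0068009f00de01b8012f011001ac016a01b300de009f0068009b0098009700fc006d016f016f019d019d0095009501400068011f015201be00bb00c201a400d00174009300cd0068014700660067009001bb01c100fb01720147015700d0006501c1012701280067019a0112011d017400c400c0013600e80080014c014501b7013e011b006401700171014000ba01a800be012f0139008c006301a90107006200c300c500c401640105010e00bb00610198012e01b4019f01b10198009f008b014c012e01b100a301b6006101980190010d01a4006501aa01aa0193019301b001b0)) (.node 30 (.leaf 0xa8014500ac01350137013600c7007400da00e8007b00af00bf0142014300b100f100c4007401a80073011c007900740081007d019a011f010200d3015d019a01bb009000fb01c1011c0103014000730072013f01110122008201230117014b01ad00fb008200a6007200fa01380124012300ab0177018e015500850085015a0093015b00e5010a00720115014d007a014600dd014700d4008a006f00c5008b006e006f00e1011e011d00ad00c3007a0144017a006d011d00750125006f011f011d01c1019100c600d0012c01be015800ef00e50114008d0093006c01a200c801870099016e01b9006b01a00185016c0069011a00db0119011a007600e300a0)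 (.leaf 0x14c014500e8008001a2012301be019f014500a800ed00c000ab007e00eb011300a201bf00e800a9007e00ab00c000ed01a9007d01a8010700a600820150007c013f00b9009200b201ba011a013e0111013f00b90150007c00a400bf01a701ae00ef01ae00d0017400c201a401bf00f0007c00d2018500dd013c007a012100d700d900aa011701a5018600d4012100d7013c007a019e014c0190017400910092012d012b00780163008201ba012600f2018201170154011701720134013f007800cf0163018301190076011a011900db01bc019e01a6012200df0076011900db0076011a008700d901bf019a00ff0075011d00ad00e1011e01b2014801a30195))) (.node 33 (.node 32 (.leaf 0x1a001ab0119019700c700b700b70168010f00f9016700fe00be01680196008601bf015a015a0085015b00930199009a01c0010d01ae00ef015f01c0012c01ac009400f40085019800c600c7019b010301b20141014500fa0180008400b4008300d100b600d100b601b000f900f20173019301b00166016601aa01aa00830096009000da01ad015801ac012c01c0015f015c00f2008101aa00ab00ac0145014c008000e800ac00f801480176007f01a601a6013901a6013900b8016700c4018501a6007f007f00c1007f00c1018d0165015c011c014e016501a800be014000ba0130007f017a0135018d018d009d00a200a2009d007f018f00e10162007e0135)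 (.leaf 0x1b1009c00f401820106009900a700c801b701b500c601bd018600be013a01b5016e01b90187009900ad00e600f7016701a301a300950095019d019d01a800de01500180017401ac015801be00e500ef00d0018c012000950161010e0094010e010e009401ad012b014b009a015601ba019901570157019901740092012200f4010f00fe00bc013b00b70168013100b5018c00910153012701c100fb009001bb01820185009d00db0095019d016f016f01a301a300d100d3008f015f010a008b010c008c00a500d8014800ca00be011700cd00f300f4019500cf00b30144008a00f0012d00d9017c00890102016c00da00f2017d018100a2008701bc01ab01a0)) (.node 34 (.leaf 0x11601ab00cb00f100cf00b300f4019500af0180014f011200f90167013b00bc016800b700ee01a600ad010101b0019301aa01aa0166016600b5019400ab015e00a900e801360137013500ac00e90115015600e50196018700c800a701b501b7014100ec018801b9019201b901b701b500a700c8015101a100b1017b00c801a20164019201960106013500a70171012b011401100157019901990157015f00a401b300d90166016601b001b00193019300b700a3019200ef016900b300f000f100f200f300a0018a01b801ba009f00de01b3018e00e4016a00de01a3017e018a01a701a700a2009d009d00a2013901b801230188018f019001b8019001b80190)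 (.node 35 (.leaf 0x19700ec00e900ea00eb00ec00ff0187018b0181016e016401a20175013a0116010700e2012a018c010e0161016101080108016101a50163013e00d10159019901ba0110011001ba015a018201b600cf01490102016d017c019e01090104010200cd01b700e601a000e701bc01bc00e7018400c801a90189015801ad01a400c2017400d0010e00cf01ae012300c10139013901a6013901a601a70171011a01a9015f00c200bb01ad01ae01a500c2016b01bb014600bc013b016700fe010f00f900ba013b016301bc01c001a401ad00bb01a501ae0156016200b8012800fe010f016800b7013b00bc00b600c1011100fd0171017000be01a800ba014000b400b6) (.leaf 0xfc016c0109019e017c016d01760160012900f801b5013a019601060164019200ed013a010c0197))))))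

def schDS : Store := (.node 18 schDS_1 schDS_2)

noncomputable def schD : Nat → Nat := get16 schDS

def schUS_1 : Store := (.node 8 (.node 4 (.node 2 (.node 1 (.leaf 0x0) (.leaf 0x0)) (.node 3 (.leaf 0x0) (.leaf 0x0))) (.node 6 (.node 5 (.leaf 0x1) (.leaf 0x30001)) (.node 7 (.leaf 0x10001) (.leaf 0x40001)))) (.node 12 (.node 10 (.node 9 (.leaf 0x20001) (.leaf 0x0)) (.node 11 (.leaf 0x0) (.leaf 0x0))) (.node 14 (.node 13 (.leaf 0x0) (.leaf 0x0)) (.node 15 (.leaf 0x0) (.node 16 (.leaf 0x0) (.leaf 0x0))))))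

def schUS_2 : Store := (.node 26 (.node 21 (.node 19 (.node 18 (.leaf 0x0) (.leaf 0x0)) (.node 20 (.leaf 0x0) (.leaf 0x0))) (.node 23 (.node 22 (.leaf 0x0) (.leaf 0x0)) (.node 24 (.leaf 0x0) (.node 25 (.leaf 0x0) (.leaf 0x0))))) (.node 30 (.node 28 (.node 27 (.leaf 0x0) (.leaf 0x0)) (.node 29 (.leaf 0x0) (.leaf 0x0))) (.node 32 (.node 31 (.leaf 0x0) (.leaf 0x0)) (.node 33 (.leaf 0x0) (.node 34 (.leaf 0x0) (.leaf 0x0))))))

def schUS_3 : Store := (.node 17 schUS_1 schUS_2)

def schUS_4 : Store := (.node 43 (.node 39 (.node 37 (.node 36 (.leaf 0x0) (.leaf 0x0)) (.node 38 (.leaf 0x0) (.leaf 0x20001))) (.node 41 (.node 40 (.leaf 0x0) (.leaf 0x0)) (.node 42 (.leaf 0x0) (.leaf 0x0)))) (.node 47 (.node 45 (.node 44 (.leaf 0x0) (.leaf 0x0)) (.node 46 (.leaf 0x0) (.leaf 0x0))) (.node 49 (.node 48 (.leaf 0x0) (.leaf 0x20001)) (.node 50 (.leaf 0x0) (.node 51 (.leaf 0x0) (.leaf 0x0))))))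

def schUS_5 : Store := (.node 61 (.node 56 (.node 54 (.node 53 (.leaf 0x0) (.leaf 0x0)) (.node 55 (.leaf 0x40001) (.leaf 0x10001))) (.node 58 (.node 57 (.leaf 0x30001) (.leaf 0x1)) (.node 59 (.leaf 0x20001) (.node 60 (.leaf 0x0) (.leaf 0x0))))) (.node 65 (.node 63 (.node 62 (.leaf 0x0) (.leaf 0x0)) (.node 64 (.leaf 0x0) (.leaf 0x0))) (.node 67 (.node 66 (.leaf 0x200000003) (.leaf 0x0)) (.node 68 (.leaf 0x0) (.node 69 (.leaf 0x10200000004) (.leaf 0x0))))))

def schUS_6 : Store := (.node 52 schUS_4 schUS_5)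

def schUS_7 : Store := (.node 35 schUS_3 schUS_6)

def schUS_8 : Store := (.node 78 (.node 74 (.node 72 (.node 71 (.leaf 0x0) (.leaf 0x40001)) (.node 73 (.leaf 0x0) (.leaf 0x0))) (.node 76 (.node 75 (.leaf 0x0) (.leaf 0x0)) (.node 77 (.leaf 0x0) (.leaf 0x0)))) (.node 82 (.node 80 (.node 79 (.leaf 0x0) (.leaf 0x0)) (.node 81 (.leaf 0x0) (.leaf 0x1))) (.node 84 (.node 83 (.leaf 0x0) (.leaf 0x0)) (.node 85 (.leaf 0x200000003) (.node 86 (.leaf 0x0) (.leaf 0x40001))))))

def schUS_9 : Store := (.node 96 (.node 91 (.node 89 (.node 88 (.leaf 0x0) (.leaf 0x0)) (.node 90 (.leaf 0x0) (.leaf 0x0))) (.node 93 (.node 92 (.leaf 0x0) (.leaf 0x0)) (.node 94 (.leaf 0x0) (.node 95 (.leaf 0x0) (.leaf 0x0))))) (.node 100 (.node 98 (.node 97 (.leaf 0x201000003) (.leaf 0x0)) (.node 99 (.leaf 0x201000003) (.leaf 0x0))) (.node 102 (.node 101 (.leaf 0x0) (.leaf 0x0)) (.node 103 (.leaf 0x0) (.node 104 (.leaf 0x0) (.leaf 0x0))))))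

def schUS_10 : Store := (.node 87 schUS_8 schUS_9)

def schUS_11 : Store := (.node 113 (.node 109 (.node 107 (.node 106 (.leaf 0x0) (.leaf 0x10100000004)) (.node 108 (.leaf 0x100020003) (.leaf 0x100020003))) (.node 111 (.node 110 (.leaf 0x0) (.leaf 0x0)) (.node 112 (.leaf 0x0) (.leaf 0x0)))) (.node 117 (.node 115 (.node 114 (.leaf 0x0) (.leaf 0x201000003)) (.node 116 (.leaf 0x10100000004) (.leaf 0x10100000004))) (.node 119 (.node 118 (.leaf 0x0) (.leaf 0x201000003)) (.node 120 (.leaf 0x0) (.node 121 (.leaf 0x0) (.leaf 0x0))))))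

def schUS_12 : Store := (.node 131 (.node 126 (.node 124 (.node 123 (.leaf 0x201010004) (.leaf 0x0)) (.node 125 (.leaf 0x0) (.leaf 0x100020003))) (.node 128 (.node 127 (.leaf 0x0) (.leaf 0x10100000004)) (.node 129 (.leaf 0x100020003) (.node 130 (.leaf 0x0) (.leaf 0x0))))) (.node 135 (.node 133 (.node 132 (.leaf 0x0) (.leaf 0x0)) (.node 134 (.leaf 0x0) (.leaf 0x100020003))) (.node 137 (.node 136 (.leaf 0x201000003) (.leaf 0x100020003)) (.node 138 (.leaf 0x201000003) (.node 139 (.leaf 0x0) (.leaf 0x0))))))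

def schUS_13 : Store := (.node 122 schUS_11 schUS_12)

def schUS_14 : Store := (.node 105 schUS_10 schUS_13)

def schUS_15 : Store := (.node 70 schUS_7 schUS_14)

def schUS_16 : Store := (.node 148 (.node 144 (.node 142 (.node 141 (.leaf 0x0) (.leaf 0x0)) (.node 143 (.leaf 0x0) (.leaf 0x0))) (.node 146 (.node 145 (.leaf 0x0) (.leaf 0x0)) (.node 147 (.leaf 0x0) (.leaf 0x0)))) (.node 152 (.node 150 (.node 149 (.leaf 0x0) (.leaf 0x0)) (.node 151 (.leaf 0x0) (.leaf 0x0))) (.node 154 (.node 153 (.leaf 0x0) (.leaf 0x0)) (.node 155 (.leaf 0x10200000004) (.node 156 (.leaf 0x0) (.leaf 0x0))))))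

def schUS_17 : Store := (.node 166 (.node 161 (.node 159 (.node 158 (.leaf 0x4000002) (.leaf 0x4000002)) (.node 160 (.leaf 0x0) (.leaf 0x0))) (.node 163 (.node 162 (.leaf 0x200000003) (.leaf 0x0)) (.node 164 (.leaf 0x0) (.node 165 (.leaf 0x0) (.leaf 0x0))))) (.node 170 (.node 168 (.node 167 (.leaf 0x20100000004) (.leaf 0x0)) (.node 169 (.leaf 0x0) (.leaf 0x0))) (.node 172 (.node 171 (.leaf 0x0) (.leaf 0x0)) (.node 173 (.leaf 0x0) (.node 174 (.leaf 0x0) (.leaf 0x30001))))))

def schUS_18 : Store := (.node 157 schUS_16 schUS_17)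

def schUS_19 : Store := (.node 183 (.node 179 (.node 177 (.node 176 (.leaf 0x0) (.leaf 0x0)) (.node 178 (.leaf 0x0) (.leaf 0x0))) (.node 181 (.node 180 (.leaf 0x0) (.leaf 0x0)) (.node 182 (.leaf 0x4000002) (.leaf 0x0)))) (.node 187 (.node 185 (.node 184 (.leaf 0x0) (.leaf 0x0)) (.node 186 (.leaf 0x0) (.leaf 0x201000003))) (.node 189 (.node 188 (.leaf 0x201010004) (.leaf 0x201000003)) (.node 190 (.leaf 0x0) (.node 191 (.leaf 0x0) (.leaf 0x0))))))

def schUS_20 : Store := (.node 201 (.node 196 (.node 194 (.node 193 (.leaf 0x0) (.leaf 0x0)) (.node 195 (.leaf 0x0) (.leaf 0x0))) (.node 198 (.node 197 (.leaf 0x2000002) (.leaf 0x100020003)) (.node 199 (.leaf 0x100020003) (.node 200 (.leaf 0x0) (.leaf 0x200000003))))) (.node 205 (.node 203 (.node 202 (.leaf 0x0) (.leaf 0x0)) (.node 204 (.leaf 0x0) (.leaf 0x201000003))) (.node 207 (.node 206 (.leaf 0x2000002) (.leaf 0x10100000004)) (.node 208 (.leaf 0x0) (.node 209 (.leaf 0x201000003) (.leaf 0x0))))))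

def schUS_21 : Store := (.node 192 schUS_19 schUS_20)

def schUS_22 : Store := (.node 175 schUS_18 schUS_21)

def schUS_23 : Store := (.node 218 (.node 214 (.node 212 (.node 211 (.leaf 0x0) (.leaf 0x0)) (.node 213 (.leaf 0x0) (.leaf 0x20100000004))) (.node 216 (.node 215 (.leaf 0x201010004) (.leaf 0x100020003)) (.node 217 (.leaf 0x0) (.leaf 0x10100000004)))) (.node 222 (.node 220 (.node 219 (.leaf 0x100020003) (.leaf 0x0)) (.node 221 (.leaf 0x0) (.leaf 0x0))) (.node 224 (.node 223 (.leaf 0x0) (.leaf 0x0)) (.node 225 (.leaf 0x100020003) (.node 226 (.leaf 0x201000003) (.leaf 0x100020003))))))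

def schUS_24 : Store := (.node 236 (.node 231 (.node 229 (.node 228 (.leaf 0x201000003) (.leaf 0x0)) (.node 230 (.leaf 0x0) (.leaf 0x0))) (.node 233 (.node 232 (.leaf 0x0) (.leaf 0x20001)) (.node 234 (.leaf 0x3010002) (.node 235 (.leaf 0x0) (.leaf 0x0))))) (.node 240 (.node 238 (.node 237 (.leaf 0x0) (.leaf 0x0)) (.node 239 (.leaf 0x0) (.leaf 0x0))) (.node 242 (.node 241 (.leaf 0x0) (.leaf 0x0)) (.node 243 (.leaf 0x0) (.node 244 (.leaf 0x0) (.leaf 0x0))))))

def schUS_25 : Store := (.node 227 schUS_23 schUS_24)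

def schUS_26 : Store := (.node 254 (.node 249 (.node 247 (.node 246 (.leaf 0x1) (.leaf 0x0)) (.node 248 (.leaf 0x20100000004) (.leaf 0x0))) (.node 251 (.node 250 (.leaf 0x0) (.leaf 0x0)) (.node 252 (.leaf 0x0) (.node 253 (.leaf 0x0) (.leaf 0x0))))) (.node 258 (.node 256 (.node 255 (.leaf 0x20100000004) (.leaf 0x1020002)) (.node 257 (.leaf 0x1020002) (.leaf 0x10001))) (.node 260 (.node 259 (.leaf 0x0) (.leaf 0x0)) (.node 261 (.leaf 0x0) (.node 262 (.leaf 0x0) (.leaf 0x0))))))

def schUS_27 : Store := (.node 272 (.node 267 (.node 265 (.node 264 (.leaf 0x0) (.leaf 0x0)) (.node 266 (.leaf 0x0) (.leaf 0x3010002))) (.node 269 (.node 268 (.leaf 0x4000002) (.leaf 0x20001)) (.node 270 (.leaf 0x0) (.node 271 (.leaf 0x0) (.leaf 0x0))))) (.node 276 (.node 274 (.node 273 (.leaf 0x101000003) (.leaf 0x0)) (.node 275 (.leaf 0x0) (.leaf 0x0))) (.node 278 (.node 277 (.leaf 0x102000003) (.leaf 0x201000003)) (.node 279 (.leaf 0x20001) (.node 280 (.leaf 0x102000003) (.leaf 0x1020002))))))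

def schUS_28 : Store := (.node 263 schUS_26 schUS_27)

def schUS_29 : Store := (.node 245 schUS_25 schUS_28)

def schUS_30 : Store := (.node 210 schUS_22 schUS_29)

def schUS_31 : Store := (.node 140 schUS_15 schUS_30)

def schUS_32 : Store := (.node 289 (.node 285 (.node 283 (.node 282 (.leaf 0x1) (.leaf 0x0)) (.node 284 (.leaf 0x2) (.leaf 0x0))) (.node 287 (.node 286 (.leaf 0x0) (.leaf 0x100020003)) (.node 288 (.leaf 0x2010003) (.leaf 0x20001)))) (.node 293 (.node 291 (.node 290 (.leaf 0x2010003) (.leaf 0x30001)) (.node 292 (.leaf 0x0) (.leaf 0x40001))) (.node 295 (.node 294 (.leaf 0x0) (.leaf 0x102000003)) (.node 296 (.leaf 0x100020003) (.node 297 (.leaf 0x10100000004) (.leaf 0x0))))))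

def schUS_33 : Store := (.node 307 (.node 302 (.node 300 (.node 299 (.leaf 0x20001) (.leaf 0x102000003)) (.node 301 (.leaf 0x0) (.leaf 0x0))) (.node 304 (.node 303 (.leaf 0x0) (.leaf 0x0)) (.node 305 (.leaf 0x201000003) (.node 306 (.leaf 0x2010003) (.leaf 0x0))))) (.node 311 (.node 309 (.node 308 (.leaf 0x10100000004) (.leaf 0x20001)) (.node 310 (.leaf 0x2010003) (.leaf 0x0))) (.node 313 (.node 312 (.leaf 0x0) (.leaf 0x20002)) (.node 314 (.leaf 0x2000002) (.node 315 (.leaf 0x2010003) (.leaf 0x102000003))))))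

def schUS_34 : Store := (.node 298 schUS_32 schUS_33)

def schUS_35 : Store := (.node 324 (.node 320 (.node 318 (.node 317 (.leaf 0x2010003) (.leaf 0x102000003)) (.node 319 (.leaf 0x20001) (.leaf 0x0))) (.node 322 (.node 321 (.leaf 0x201010003) (.leaf 0x0)) (.node 323 (.leaf 0x0) (.leaf 0x0)))) (.node 328 (.node 326 (.node 325 (.leaf 0x20001) (.leaf 0x0)) (.node 327 (.leaf 0x0) (.leaf 0x0))) (.node 330 (.node 329 (.leaf 0x0) (.leaf 0x0)) (.node 331 (.leaf 0x0) (.node 332 (.leaf 0x1000002) (.leaf 0x0))))))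

def schUS_36 : Store := (.node 342 (.node 337 (.node 335 (.node 334 (.leaf 0x0) (.leaf 0x0)) (.node 336 (.leaf 0x20001) (.leaf 0x0))) (.node 339 (.node 338 (.leaf 0x0) (.leaf 0x0)) (.node 340 (.leaf 0x0) (.node 341 (.leaf 0x1) (.leaf 0x0))))) (.node 346 (.node 344 (.node 343 (.leaf 0x0) (.leaf 0x0)) (.node 345 (.leaf 0x0) (.leaf 0x0))) (.node 348 (.node 347 (.leaf 0x3010002) (.leaf 0x4000002)) (.node 349 (.leaf 0x20001) (.node 350 (.leaf 0x0) (.leaf 0x30001))))))

def schUS_37 : Store := (.node 333 schUS_35 schUS_36)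

def schUS_38 : Store := (.node 316 schUS_34 schUS_37)

def schUS_39 : Store := (.node 359 (.node 355 (.node 353 (.node 352 (.leaf 0x0) (.leaf 0x0)) (.node 354 (.leaf 0x4030002) (.leaf 0x0))) (.node 357 (.node 356 (.leaf 0x0) (.leaf 0x102000003)) (.node 358 (.leaf 0x201000003) (.leaf 0x20001)))) (.node 363 (.node 361 (.node 360 (.leaf 0x102000003) (.leaf 0x10001)) (.node 362 (.leaf 0x0) (.leaf 0x0))) (.node 365 (.node 364 (.leaf 0x301010003) (.leaf 0x0)) (.node 366 (.leaf 0x0) (.node 367 (.leaf 0x100020003) (.leaf 0x2010003))))))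

def schUS_40 : Store := (.node 377 (.node 372 (.node 370 (.node 369 (.leaf 0x20001) (.leaf 0x2010003)) (.node 371 (.leaf 0x0) (.leaf 0x0))) (.node 374 (.node 373 (.leaf 0x0) (.leaf 0x4030002)) (.node 375 (.leaf 0x102000003) (.node 376 (.leaf 0x100020003) (.leaf 0x10100000004))))) (.node 381 (.node 379 (.node 378 (.leaf 0x0) (.leaf 0x20001)) (.node 380 (.leaf 0x102000003) (.leaf 0x0))) (.node 383 (.node 382 (.leaf 0x20101000004) (.leaf 0x0)) (.node 384 (.leaf 0x10001) (.node 385 (.leaf 0x201000003) (.leaf 0x2010003))))))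

def schUS_41 : Store := (.node 368 schUS_39 schUS_40)

def schUS_42 : Store := (.node 394 (.node 390 (.node 388 (.node 387 (.leaf 0x0) (.leaf 0x10100000004)) (.node 389 (.leaf 0x20001) (.leaf 0x2010003))) (.node 392 (.node 391 (.leaf 0x0) (.leaf 0x0)) (.node 393 (.leaf 0x20002) (.leaf 0x0)))) (.node 398 (.node 396 (.node 395 (.leaf 0x2010003) (.leaf 0x102000003)) (.node 397 (.leaf 0x2010003) (.leaf 0x102000003))) (.node 400 (.node 399 (.leaf 0x20001) (.leaf 0x0)) (.node 401 (.leaf 0x0) (.node 402 (.leaf 0x0) (.leaf 0x20100000004))))))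

def schUS_43 : Store := (.node 412 (.node 407 (.node 405 (.node 404 (.leaf 0x2000002) (.leaf 0x0)) (.node 406 (.leaf 0x30001) (.leaf 0x0))) (.node 409 (.node 408 (.leaf 0x0) (.leaf 0x0)) (.node 410 (.leaf 0x0) (.node 411 (.leaf 0x0) (.leaf 0x0))))) (.node 416 (.node 414 (.node 413 (.leaf 0x40001) (.leaf 0x0)) (.node 415 (.leaf 0x0) (.leaf 0x0))) (.node 418 (.node 417 (.leaf 0x0) (.leaf 0x0)) (.node 419 (.leaf 0x0) (.node 420 (.leaf 0x0) (.leaf 0x20002))))))

def schUS_44 : Store := (.node 403 schUS_42 schUS_43)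

def schUS_45 : Store := (.node 386 schUS_41 schUS_44)

def schUS_46 : Store := (.node 351 schUS_38 schUS_45)

def schUS_47 : Store := (.node 429 (.node 425 (.node 423 (.node 422 (.leaf 0x0) (.leaf 0x0)) (.node 424 (.leaf 0x0) (.leaf 0x100020003))) (.node 427 (.node 426 (.leaf 0x201000003) (.leaf 0x201000003)) (.node 428 (.leaf 0x100020003) (.leaf 0x20001)))) (.node 433 (.node 431 (.node 430 (.leaf 0x1010002) (.leaf 0x2010002)) (.node 432 (.leaf 0x0) (.leaf 0x0))) (.node 435 (.node 434 (.leaf 0x0) (.leaf 0x100020003)) (.node 436 (.leaf 0x201000003) (.node 437 (.leaf 0x201000003) (.leaf 0x100020003))))))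

def schUS_48 : Store := (.node 447 (.node 442 (.node 440 (.node 439 (.leaf 0x20001) (.leaf 0x1010002)) (.node 441 (.leaf 0x0) (.leaf 0x4030002))) (.node 444 (.node 443 (.leaf 0x0) (.leaf 0x0)) (.node 445 (.leaf 0x40001) (.node 446 (.leaf 0x101000003) (.leaf 0x30001))))) (.node 451 (.node 449 (.node 448 (.leaf 0x2010003) (.leaf 0x10200000004)) (.node 450 (.leaf 0x0) (.leaf 0x0))) (.node 453 (.node 452 (.leaf 0x20101000004) (.leaf 0x0)) (.node 454 (.leaf 0x0) (.node 455 (.leaf 0x1000002) (.leaf 0x301010003))))))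

def schUS_49 : Store := (.node 438 schUS_47 schUS_48)

def schUS_50 : Store := (.node 464 (.node 460 (.node 458 (.node 457 (.leaf 0x0) (.leaf 0x20100000004)) (.node 459 (.leaf 0x10200000004) (.leaf 0x0))) (.node 462 (.node 461 (.leaf 0x4030002) (.leaf 0x2010003)) (.node 463 (.leaf 0x1) (.leaf 0x0)))) (.node 468 (.node 466 (.node 465 (.leaf 0x200000003) (.leaf 0x0)) (.node 467 (.leaf 0x201010003) (.leaf 0x1020002))) (.node 470 (.node 469 (.leaf 0x201000003) (.leaf 0x0)) (.node 471 (.leaf 0x0) (.node 472 (.leaf 0x0) (.leaf 0x20100000004))))))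

def schUS_51 : Store := (.node 482 (.node 477 (.node 475 (.node 474 (.leaf 0x0) (.leaf 0x201010003)) (.node 476 (.leaf 0x20100000004) (.leaf 0x201010003))) (.node 479 (.node 478 (.leaf 0x0) (.leaf 0x301010003)) (.node 480 (.leaf 0x0) (.node 481 (.leaf 0x0) (.leaf 0x4030002))))) (.node 486 (.node 484 (.node 483 (.leaf 0x4000002) (.leaf 0x0)) (.node 485 (.leaf 0x1020002) (.leaf 0x200000003))) (.node 488 (.node 487 (.leaf 0x0) (.leaf 0x201010003)) (.node 489 (.leaf 0x100020003) (.node 490 (.leaf 0x0) (.leaf 0x0))))))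

def schUS_52 : Store := (.node 473 schUS_50 schUS_51)

def schUS_53 : Store := (.node 456 schUS_49 schUS_52)

def schUS_54 : Store := (.node 499 (.node 495 (.node 493 (.node 492 (.leaf 0x0) (.leaf 0x201010004)) (.node 494 (.leaf 0x0) (.leaf 0x0))) (.node 497 (.node 496 (.leaf 0x0) (.leaf 0x200000003)) (.node 498 (.leaf 0x0) (.leaf 0x10200000004)))) (.node 503 (.node 501 (.node 500 (.leaf 0x0) (.leaf 0x4000002)) (.node 502 (.leaf 0x0) (.leaf 0x0))) (.node 505 (.node 504 (.leaf 0x0) (.leaf 0x0)) (.node 506 (.leaf 0x0) (.node 507 (.leaf 0x0) (.leaf 0x0))))))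

def schUS_55 : Store := (.node 517 (.node 512 (.node 510 (.node 509 (.leaf 0x2010002) (.leaf 0x20100000004)) (.node 511 (.leaf 0x0) (.leaf 0x0))) (.node 514 (.node 513 (.leaf 0x0) (.leaf 0x0)) (.node 515 (.leaf 0x0) (.node 516 (.leaf 0x0) (.leaf 0x0))))) (.node 521 (.node 519 (.node 518 (.leaf 0x0) (.leaf 0x0)) (.node 520 (.leaf 0x0) (.leaf 0x0))) (.node 523 (.node 522 (.leaf 0x2000002) (.leaf 0x4030002)) (.node 524 (.leaf 0x40001) (.node 525 (.leaf 0x0) (.leaf 0x0))))))

def schUS_56 : Store := (.node 508 schUS_54 schUS_55)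

def schUS_57 : Store := (.node 535 (.node 530 (.node 528 (.node 527 (.leaf 0x20101000004) (.leaf 0x1000002)) (.node 529 (.leaf 0x0) (.leaf 0x1000002))) (.node 532 (.node 531 (.leaf 0x0) (.leaf 0x0)) (.node 533 (.leaf 0x0) (.node 534 (.leaf 0x0) (.leaf 0x0))))) (.node 539 (.node 537 (.node 536 (.leaf 0x0) (.leaf 0x4030002)) (.node 538 (.leaf 0x20002) (.leaf 0x0))) (.node 541 (.node 540 (.leaf 0x4030002) (.leaf 0x0)) (.node 542 (.leaf 0x0) (.node 543 (.leaf 0x1010002) (.leaf 0x0))))))

def schUS_58 : Store := (.node 553 (.node 548 (.node 546 (.node 545 (.leaf 0x20101000004) (.leaf 0x4030002)) (.node 547 (.leaf 0x10100000004) (.leaf 0x0))) (.node 550 (.node 549 (.leaf 0x0) (.leaf 0x4030002)) (.node 551 (.leaf 0x0) (.node 552 (.leaf 0x0) (.leaf 0x100000003))))) (.node 557 (.node 555 (.node 554 (.leaf 0x1) (.leaf 0x1000002)) (.node 556 (.leaf 0x20002) (.leaf 0x0))) (.node 559 (.node 558 (.leaf 0x10100000004) (.leaf 0x0)) (.node 560 (.leaf 0x1000002) (.node 561 (.leaf 0x30001) (.leaf 0x100020003))))))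

def schUS_59 : Store := (.node 544 schUS_57 schUS_58)

def schUS_60 : Store := (.node 526 schUS_56 schUS_59)

def schUS_61 : Store := (.node 491 schUS_53 schUS_60)

def schUS_62 : Store := (.node 421 schUS_46 schUS_61)

def schUS_63 : Store := (.node 281 schUS_31 schUS_62)

def schUS_64 : Store := (.node 570 (.node 566 (.node 564 (.node 563 (.leaf 0x0) (.leaf 0x0)) (.node 565 (.leaf 0x0) (.leaf 0x0))) (.node 568 (.node 567 (.leaf 0x0) (.leaf 0x0)) (.node 569 (.leaf 0x0) (.leaf 0x0)))) (.node 574 (.node 572 (.node 571 (.leaf 0x10200000004) (.leaf 0x0)) (.node 573 (.leaf 0x0) (.leaf 0x20001))) (.node 576 (.node 575 (.leaf 0x1000002) (.leaf 0x4030002)) (.node 577 (.leaf 0x4030002) (.node 578 (.leaf 0x1000002) (.leaf 0x0))))))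

def schUS_65 : Store := (.node 588 (.node 583 (.node 581 (.node 580 (.leaf 0x0) (.leaf 0x0)) (.node 582 (.leaf 0x0) (.leaf 0x0))) (.node 585 (.node 584 (.leaf 0x0) (.leaf 0x2000002)) (.node 586 (.leaf 0x201010004) (.node 587 (.leaf 0x201010004) (.leaf 0x2000002))))) (.node 592 (.node 590 (.node 589 (.leaf 0x40001) (.leaf 0x0)) (.node 591 (.leaf 0x0) (.leaf 0x0))) (.node 594 (.node 593 (.leaf 0x0) (.leaf 0x0)) (.node 595 (.leaf 0x0) (.node 596 (.leaf 0x40001) (.leaf 0x1))))))

def schUS_66 : Store := (.node 579 schUS_64 schUS_65)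

def schUS_67 : Store := (.node 605 (.node 601 (.node 599 (.node 598 (.leaf 0x4030002) (.leaf 0x20001)) (.node 600 (.leaf 0x100000003) (.leaf 0x0))) (.node 603 (.node 602 (.leaf 0x10200000004) (.leaf 0x0)) (.node 604 (.leaf 0x0) (.leaf 0x0)))) (.node 609 (.node 607 (.node 606 (.leaf 0x200000003) (.leaf 0x201010003)) (.node 608 (.leaf 0x201010003) (.leaf 0x30001))) (.node 611 (.node 610 (.leaf 0x0) (.leaf 0x2010002)) (.node 612 (.leaf 0x0) (.node 613 (.leaf 0x0) (.leaf 0x201000003))))))

def schUS_68 : Store := (.node 623 (.node 618 (.node 616 (.node 615 (.leaf 0x200000003) (.leaf 0x201010003)) (.node 617 (.leaf 0x0) (.leaf 0x201010003))) (.node 620 (.node 619 (.leaf 0x3010002) (.leaf 0x20001)) (.node 621 (.leaf 0x2010003) (.node 622 (.leaf 0x0) (.leaf 0x20001))))) (.node 627 (.node 625 (.node 624 (.leaf 0x0) (.leaf 0x30001)) (.node 626 (.leaf 0x10001) (.leaf 0x3010002))) (.node 629 (.node 628 (.leaf 0x40001) (.leaf 0x0)) (.node 630 (.leaf 0x40001) (.node 631 (.leaf 0x0) (.leaf 0x201010004))))))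

def schUS_69 : Store := (.node 614 schUS_67 schUS_68)

def schUS_70 : Store := (.node 597 schUS_66 schUS_69)

def schUS_71 : Store := (.node 640 (.node 636 (.node 634 (.node 633 (.leaf 0x0) (.leaf 0x201010004)) (.node 635 (.leaf 0x20001) (.leaf 0x40001))) (.node 638 (.node 637 (.leaf 0x0) (.leaf 0x200000003)) (.node 639 (.leaf 0x40001) (.leaf 0x0)))) (.node 644 (.node 642 (.node 641 (.leaf 0x100020003) (.leaf 0x0)) (.node 643 (.leaf 0x0) (.leaf 0x2000002))) (.node 646 (.node 645 (.leaf 0x0) (.leaf 0x100020003)) (.node 647 (.leaf 0x40001) (.node 648 (.leaf 0x0) (.leaf 0x40001))))))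

def schUS_72 : Store := (.node 658 (.node 653 (.node 651 (.node 650 (.leaf 0x0) (.leaf 0x0)) (.node 652 (.leaf 0x1020002) (.leaf 0x0))) (.node 655 (.node 654 (.leaf 0x0) (.leaf 0x0)) (.node 656 (.leaf 0x1010002) (.node 657 (.leaf 0x2000002) (.leaf 0x0))))) (.node 662 (.node 660 (.node 659 (.leaf 0x0) (.leaf 0x0)) (.node 661 (.leaf 0x2010002) (.leaf 0x2))) (.node 664 (.node 663 (.leaf 0x0) (.leaf 0x0)) (.node 665 (.leaf 0x10100000004) (.node 666 (.leaf 0x0) (.leaf 0x20101000004))))))

def schUS_73 : Store := (.node 649 schUS_71 schUS_72)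

def schUS_74 : Store := (.node 675 (.node 671 (.node 669 (.node 668 (.leaf 0x0) (.leaf 0x201000003)) (.node 670 (.leaf 0x0) (.leaf 0x2010002))) (.node 673 (.node 672 (.leaf 0x0) (.leaf 0x0)) (.node 674 (.leaf 0x1000002) (.leaf 0x20001)))) (.node 679 (.node 677 (.node 676 (.leaf 0x0) (.leaf 0x100020003)) (.node 678 (.leaf 0x102000003) (.leaf 0x201000003))) (.node 681 (.node 680 (.leaf 0x100020003) (.leaf 0x0)) (.node 682 (.leaf 0x20002) (.node 683 (.leaf 0x30001) (.leaf 0x0))))))

def schUS_75 : Store := (.node 693 (.node 688 (.node 686 (.node 685 (.leaf 0x0) (.leaf 0x0)) (.node 687 (.leaf 0x10100000004) (.leaf 0x10100000004))) (.node 690 (.node 689 (.leaf 0x10001) (.leaf 0x0)) (.node 691 (.leaf 0x100020003) (.node 692 (.leaf 0x2010100000005) (.leaf 0x0))))) (.node 697 (.node 695 (.node 694 (.leaf 0x0) (.leaf 0x10100000004)) (.node 696 (.leaf 0x0) (.leaf 0x0))) (.node 699 (.node 698 (.leaf 0x10100000004) (.leaf 0x100020003)) (.node 700 (.leaf 0x2010003) (.node 701 (.leaf 0x0) (.leaf 0x0))))))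

def schUS_76 : Store := (.node 684 schUS_74 schUS_75)

def schUS_77 : Store := (.node 667 schUS_73 schUS_76)

def schUS_78 : Store := (.node 632 schUS_70 schUS_77)

def schUS_79 : Store := (.node 710 (.node 706 (.node 704 (.node 703 (.leaf 0x4030002) (.leaf 0x0)) (.node 705 (.leaf 0x2010003) (.leaf 0x201000003))) (.node 708 (.node 707 (.leaf 0x0) (.leaf 0x0)) (.node 709 (.leaf 0x201000003) (.leaf 0x0)))) (.node 714 (.node 712 (.node 711 (.leaf 0x3010002) (.leaf 0x0)) (.node 713 (.leaf 0x0) (.leaf 0x0))) (.node 716 (.node 715 (.leaf 0x0) (.leaf 0x0)) (.node 717 (.leaf 0x3010002) (.node 718 (.leaf 0x4000002) (.leaf 0x0))))))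

def schUS_80 : Store := (.node 728 (.node 723 (.node 721 (.node 720 (.leaf 0x2010100000005) (.leaf 0x0)) (.node 722 (.leaf 0x3010002) (.leaf 0x201000003))) (.node 725 (.node 724 (.leaf 0x30001) (.leaf 0x1020002)) (.node 726 (.leaf 0x0) (.node 727 (.leaf 0x2010003) (.leaf 0x201000003))))) (.node 732 (.node 730 (.node 729 (.leaf 0x200000003) (.leaf 0x0)) (.node 731 (.leaf 0x0) (.leaf 0x100020003))) (.node 734 (.node 733 (.leaf 0x0) (.leaf 0x0)) (.node 735 (.leaf 0x100020003) (.node 736 (.leaf 0x10200000004) (.leaf 0x2010003))))))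

def schUS_81 : Store := (.node 719 schUS_79 schUS_80)

def schUS_82 : Store := (.node 745 (.node 741 (.node 739 (.node 738 (.leaf 0x200000003) (.leaf 0x101000003)) (.node 740 (.leaf 0x201010004) (.leaf 0x2000002))) (.node 743 (.node 742 (.leaf 0x1020002) (.leaf 0x0)) (.node 744 (.leaf 0x10001) (.leaf 0x0)))) (.node 749 (.node 747 (.node 746 (.leaf 0x1000002) (.leaf 0x0)) (.node 748 (.leaf 0x0) (.leaf 0x100020003))) (.node 751 (.node 750 (.leaf 0x1000002) (.leaf 0x10200000004)) (.node 752 (.leaf 0x1020002) (.node 753 (.leaf 0x4030002) (.leaf 0x0))))))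

def schUS_83 : Store := (.node 763 (.node 758 (.node 756 (.node 755 (.leaf 0x100020003) (.leaf 0x102000003)) (.node 757 (.leaf 0x0) (.leaf 0x0))) (.node 760 (.node 759 (.leaf 0x100020003) (.leaf 0x0)) (.node 761 (.leaf 0x2010002) (.node 762 (.leaf 0x0) (.leaf 0x0))))) (.node 767 (.node 765 (.node 764 (.leaf 0x20002) (.leaf 0x30001)) (.node 766 (.leaf 0x200000003) (.leaf 0x100000003))) (.node 769 (.node 768 (.leaf 0x100020003) (.leaf 0x30001)) (.node 770 (.leaf 0x0) (.node 771 (.leaf 0x0) (.leaf 0x2010002))))))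

def schUS_84 : Store := (.node 754 schUS_82 schUS_83)

def schUS_85 : Store := (.node 737 schUS_81 schUS_84)

def schUS_86 : Store := (.node 780 (.node 776 (.node 774 (.node 773 (.leaf 0x30001) (.leaf 0x0)) (.node 775 (.leaf 0x100020003) (.leaf 0x201000003))) (.node 778 (.node 777 (.leaf 0x1000002) (.leaf 0x100020003)) (.node 779 (.leaf 0x20100000004) (.leaf 0x2010100000005)))) (.node 784 (.node 782 (.node 781 (.leaf 0x0) (.leaf 0x40001)) (.node 783 (.leaf 0x0) (.leaf 0x0))) (.node 786 (.node 785 (.leaf 0x0) (.leaf 0x0)) (.node 787 (.leaf 0x201000003) (.node 788 (.leaf 0x20100000004) (.leaf 0x201000003))))))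

def schUS_87 : Store := (.node 798 (.node 793 (.node 791 (.node 790 (.leaf 0x0) (.leaf 0x0)) (.node 792 (.leaf 0x0) (.leaf 0x0))) (.node 795 (.node 794 (.leaf 0x4030002) (.leaf 0x200000003)) (.node 796 (.leaf 0x0) (.node 797 (.leaf 0x0) (.leaf 0x201000003))))) (.node 802 (.node 800 (.node 799 (.leaf 0x201000003) (.leaf 0x0)) (.node 801 (.leaf 0x2010003) (.leaf 0x200000003))) (.node 804 (.node 803 (.leaf 0x0) (.leaf 0x30001)) (.node 805 (.leaf 0x0) (.node 806 (.leaf 0x10100000004) (.leaf 0x102000003))))))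

def schUS_88 : Store := (.node 789 schUS_86 schUS_87)

def schUS_89 : Store := (.node 816 (.node 811 (.node 809 (.node 808 (.leaf 0x201000003) (.leaf 0x201000003)) (.node 810 (.leaf 0x0) (.leaf 0x10001))) (.node 813 (.node 812 (.leaf 0x0) (.leaf 0x102000003)) (.node 814 (.leaf 0x200000003) (.node 815 (.leaf 0x0) (.leaf 0x20101000004))))) (.node 820 (.node 818 (.node 817 (.leaf 0x0) (.leaf 0x2000002)) (.node 819 (.leaf 0x1010002) (.leaf 0x0))) (.node 822 (.node 821 (.leaf 0x0) (.leaf 0x10001)) (.node 823 (.leaf 0x30001) (.node 824 (.leaf 0x1000002) (.leaf 0x4030002))))))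

def schUS_90 : Store := (.node 834 (.node 829 (.node 827 (.node 826 (.leaf 0x40001) (.leaf 0x0)) (.node 828 (.leaf 0x0) (.leaf 0x2010002))) (.node 831 (.node 830 (.leaf 0x10200000004) (.leaf 0x20101000004)) (.node 832 (.leaf 0x102000003) (.node 833 (.leaf 0x0) (.leaf 0x0))))) (.node 838 (.node 836 (.node 835 (.leaf 0x4030002) (.leaf 0x4030002)) (.node 837 (.leaf 0x400000003) (.leaf 0x1010002))) (.node 840 (.node 839 (.leaf 0x100020003) (.leaf 0x0)) (.node 841 (.leaf 0x301010003) (.node 842 (.leaf 0x10001) (.leaf 0x1000002))))))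

def schUS_91 : Store := (.node 825 schUS_89 schUS_90)

def schUS_92 : Store := (.node 807 schUS_88 schUS_91)

def schUS_93 : Store := (.node 772 schUS_85 schUS_92)

def schUS_94 : Store := (.node 702 schUS_78 schUS_93)

def schUS_95 : Store := (.node 851 (.node 847 (.node 845 (.node 844 (.leaf 0x2010003) (.leaf 0x10100000004)) (.node 846 (.leaf 0x0) (.leaf 0x100020003))) (.node 849 (.node 848 (.leaf 0x2010003) (.leaf 0x100020003)) (.node 850 (.leaf 0x0) (.leaf 0x0)))) (.node 855 (.node 853 (.node 852 (.leaf 0x0) (.leaf 0x1010002)) (.node 854 (.leaf 0x0) (.leaf 0x1020002))) (.node 857 (.node 856 (.leaf 0x2010002) (.leaf 0x20101000004)) (.node 858 (.leaf 0x201010004) (.node 859 (.leaf 0x0) (.leaf 0x201010004))))))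

def schUS_96 : Store := (.node 869 (.node 864 (.node 862 (.node 861 (.leaf 0x0) (.leaf 0x100020003)) (.node 863 (.leaf 0x20002) (.leaf 0x2010003))) (.node 866 (.node 865 (.leaf 0x0) (.leaf 0x2000002)) (.node 867 (.leaf 0x40001) (.node 868 (.leaf 0x20002) (.leaf 0x40001))))) (.node 873 (.node 871 (.node 870 (.leaf 0x40001) (.leaf 0x0)) (.node 872 (.leaf 0x0) (.leaf 0x2010002))) (.node 875 (.node 874 (.leaf 0x0) (.leaf 0x201000003)) (.node 876 (.leaf 0x100020003) (.node 877 (.leaf 0x201000003) (.leaf 0x100020003))))))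

def schUS_97 : Store := (.node 860 schUS_95 schUS_96)

def schUS_98 : Store := (.node 886 (.node 882 (.node 880 (.node 879 (.leaf 0x0) (.leaf 0x0)) (.node 881 (.leaf 0x1020002) (.leaf 0x0))) (.node 884 (.node 883 (.leaf 0x0) (.leaf 0x0)) (.node 885 (.leaf 0x0) (.leaf 0x201000003)))) (.node 890 (.node 888 (.node 887 (.leaf 0x20001) (.leaf 0x1000002)) (.node 889 (.leaf 0x20001) (.leaf 0x0))) (.node 892 (.node 891 (.leaf 0x0) (.leaf 0x0)) (.node 893 (.leaf 0x2010100000005) (.node 894 (.leaf 0x0) (.leaf 0x301010003))))))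

def schUS_99 : Store := (.node 904 (.node 899 (.node 897 (.node 896 (.leaf 0x0) (.leaf 0x2010002)) (.node 898 (.leaf 0x0) (.leaf 0x1020002))) (.node 901 (.node 900 (.leaf 0x0) (.leaf 0x0)) (.node 902 (.leaf 0x0) (.node 903 (.leaf 0x100020003) (.leaf 0x0))))) (.node 908 (.node 906 (.node 905 (.leaf 0x101000003) (.leaf 0x201000003)) (.node 907 (.leaf 0x201000003) (.leaf 0x100020003))) (.node 910 (.node 909 (.leaf 0x0) (.leaf 0x301010003)) (.node 911 (.leaf 0x101000003) (.node 912 (.leaf 0x0) (.leaf 0x0))))))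

def schUS_100 : Store := (.node 895 schUS_98 schUS_99)

def schUS_101 : Store := (.node 878 schUS_97 schUS_100)

def schUS_102 : Store := (.node 921 (.node 917 (.node 915 (.node 914 (.leaf 0x102000003) (.leaf 0x100020003)) (.node 916 (.leaf 0x201000003) (.leaf 0x20100000004))) (.node 919 (.node 918 (.leaf 0x100020003) (.leaf 0x2010002)) (.node 920 (.leaf 0x1010002) (.leaf 0x0)))) (.node 925 (.node 923 (.node 922 (.leaf 0x0) (.leaf 0x10200000004)) (.node 924 (.leaf 0x0) (.leaf 0x4000002))) (.node 927 (.node 926 (.leaf 0x4000002) (.leaf 0x200000003)) (.node 928 (.leaf 0x4030002) (.node 929 (.leaf 0x200000003) (.leaf 0x4000002))))))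

def schUS_103 : Store := (.node 939 (.node 934 (.node 932 (.node 931 (.leaf 0x2010100000005) (.leaf 0x10200000004)) (.node 933 (.leaf 0x0) (.leaf 0x30001))) (.node 936 (.node 935 (.leaf 0x201010004) (.leaf 0x2)) (.node 937 (.leaf 0x4000002) (.node 938 (.leaf 0x1020002) (.leaf 0x4000002))))) (.node 943 (.node 941 (.node 940 (.leaf 0x2) (.leaf 0x20002)) (.node 942 (.leaf 0x102000003) (.leaf 0x10001))) (.node 945 (.node 944 (.leaf 0x200000003) (.leaf 0x0)) (.node 946 (.leaf 0x30001) (.node 947 (.leaf 0x100000003) (.leaf 0x1))))))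

def schUS_104 : Store := (.node 930 schUS_102 schUS_103)

def schUS_105 : Store := (.node 957 (.node 952 (.node 950 (.node 949 (.leaf 0x100020003) (.leaf 0x2010002)) (.node 951 (.leaf 0x1000002) (.leaf 0x0))) (.node 954 (.node 953 (.leaf 0x2000002) (.leaf 0x30001)) (.node 955 (.leaf 0x301010003) (.node 956 (.leaf 0x100000003) (.leaf 0x101000003))))) (.node 961 (.node 959 (.node 958 (.leaf 0x0) (.leaf 0x201000003)) (.node 960 (.leaf 0x0) (.leaf 0x0))) (.node 963 (.node 962 (.leaf 0x0) (.leaf 0x102000003)) (.node 964 (.leaf 0x30001) (.node 965 (.leaf 0x101000003) (.leaf 0x0))))))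

def schUS_106 : Store := (.node 975 (.node 970 (.node 968 (.node 967 (.leaf 0x2010002) (.leaf 0x3010002)) (.node 969 (.leaf 0x102000003) (.leaf 0x0))) (.node 972 (.node 971 (.leaf 0x1) (.leaf 0x0)) (.node 973 (.leaf 0x2) (.node 974 (.leaf 0x0) (.leaf 0x0))))) (.node 979 (.node 977 (.node 976 (.leaf 0x4000002) (.leaf 0x1010002)) (.node 978 (.leaf 0x201010003) (.leaf 0x200000003))) (.node 981 (.node 980 (.leaf 0x0) (.leaf 0x2000002)) (.node 982 (.leaf 0x200000003) (.node 983 (.leaf 0x1020002) (.leaf 0x0))))))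

def schUS_107 : Store := (.node 966 schUS_105 schUS_106)

def schUS_108 : Store := (.node 948 schUS_104 schUS_107)

def schUS_109 : Store := (.node 913 schUS_101 schUS_108)

def schUS_110 : Store := (.node 992 (.node 988 (.node 986 (.node 985 (.leaf 0x1) (.leaf 0x30001)) (.node 987 (.leaf 0x0) (.leaf 0x20100000004))) (.node 990 (.node 989 (.leaf 0x20100000004) (.leaf 0x30001)) (.node 991 (.leaf 0x4000002) (.leaf 0x0)))) (.node 996 (.node 994 (.node 993 (.leaf 0x1) (.leaf 0x400000003)) (.node 995 (.leaf 0x1020002) (.leaf 0x0))) (.node 998 (.node 997 (.leaf 0x2000002) (.leaf 0x201000003)) (.node 999 (.leaf 0x4000002) (.node 1000 (.leaf 0x10100000004) (.leaf 0x102000003))))))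

def schUS_111 : Store := (.node 1010 (.node 1005 (.node 1003 (.node 1002 (.leaf 0x0) (.leaf 0x1020002)) (.node 1004 (.leaf 0x400000003) (.leaf 0x0))) (.node 1007 (.node 1006 (.leaf 0x1020002) (.leaf 0x100020003)) (.node 1008 (.leaf 0x201010004) (.node 1009 (.leaf 0x3010002) (.leaf 0x20001))))) (.node 1014 (.node 1012 (.node 1011 (.leaf 0x2) (.leaf 0x20001)) (.node 1013 (.leaf 0x3010002) (.leaf 0x30001))) (.node 1016 (.node 1015 (.leaf 0x201000003) (.leaf 0x201010004)) (.node 1017 (.leaf 0x0) (.node 1018 (.leaf 0x20100000004) (.leaf 0x30001))))))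

def schUS_112 : Store := (.node 1001 schUS_110 schUS_111)

def schUS_113 : Store := (.node 1027 (.node 1023 (.node 1021 (.node 1020 (.leaf 0x0) (.leaf 0x100000003)) (.node 1022 (.leaf 0x1) (.leaf 0x0))) (.node 1025 (.node 1024 (.leaf 0x20100000004) (.leaf 0x3010002)) (.node 1026 (.leaf 0x4000002) (.leaf 0x30001)))) (.node 1031 (.node 1029 (.node 1028 (.leaf 0x1010002) (.leaf 0x0)) (.node 1030 (.leaf 0x0) (.leaf 0x20002))) (.node 1033 (.node 1032 (.leaf 0x100000003) (.leaf 0x100000003)) (.node 1034 (.leaf 0x20100000004) (.node 1035 (.leaf 0x0) (.leaf 0x20100000004))))))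

def schUS_114 : Store := (.node 1045 (.node 1040 (.node 1038 (.node 1037 (.leaf 0x20001) (.leaf 0x10100000004)) (.node 1039 (.leaf 0x0) (.leaf 0x0))) (.node 1042 (.node 1041 (.leaf 0x0) (.leaf 0x0)) (.node 1043 (.leaf 0x2010100000005) (.node 1044 (.leaf 0x0) (.leaf 0x0))))) (.node 1049 (.node 1047 (.node 1046 (.leaf 0x102000003) (.leaf 0x20101000004)) (.node 1048 (.leaf 0x0) (.leaf 0x1))) (.node 1051 (.node 1050 (.leaf 0x102000003) (.leaf 0x0)) (.node 1052 (.leaf 0x20101000004) (.node 1053 (.leaf 0x102000003) (.leaf 0x400000003))))))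

def schUS_115 : Store := (.node 1036 schUS_113 schUS_114)

def schUS_116 : Store := (.node 1019 schUS_112 schUS_115)

def schUS_117 : Store := (.node 1062 (.node 1058 (.node 1056 (.node 1055 (.leaf 0x30001) (.leaf 0x4000002)) (.node 1057 (.leaf 0x0) (.leaf 0x10200000004))) (.node 1060 (.node 1059 (.leaf 0x2000002) (.leaf 0x0)) (.node 1061 (.leaf 0x2) (.leaf 0x102000003)))) (.node 1066 (.node 1064 (.node 1063 (.leaf 0x0) (.leaf 0x1020002)) (.node 1065 (.leaf 0x200000003) (.leaf 0x201010004))) (.node 1068 (.node 1067 (.leaf 0x201010003) (.leaf 0x10001)) (.node 1069 (.leaf 0x20001) (.node 1070 (.leaf 0x20100000004) (.leaf 0x200000003))))))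

def schUS_118 : Store := (.node 1080 (.node 1075 (.node 1073 (.node 1072 (.leaf 0x2010003) (.leaf 0x0)) (.node 1074 (.leaf 0x1000002) (.leaf 0x0))) (.node 1077 (.node 1076 (.leaf 0x30001) (.leaf 0x100020003)) (.node 1078 (.leaf 0x101000003) (.node 1079 (.leaf 0x2) (.leaf 0x201000003))))) (.node 1084 (.node 1082 (.node 1081 (.leaf 0x102000003) (.leaf 0x0)) (.node 1083 (.leaf 0x201010004) (.leaf 0x201010004))) (.node 1086 (.node 1085 (.leaf 0x30001) (.leaf 0x100020003)) (.node 1087 (.leaf 0x101000003) (.node 1088 (.leaf 0x0) (.leaf 0x4000002))))))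

def schUS_119 : Store := (.node 1071 schUS_117 schUS_118)

def schUS_120 : Store := (.node 1098 (.node 1093 (.node 1091 (.node 1090 (.leaf 0x400000003) (.leaf 0x102000003)) (.node 1092 (.leaf 0x201000003) (.leaf 0x2010003))) (.node 1095 (.node 1094 (.leaf 0x1010002) (.leaf 0x201000003)) (.node 1096 (.leaf 0x101000003) (.node 1097 (.leaf 0x0) (.leaf 0x101000003))))) (.node 1102 (.node 1100 (.node 1099 (.leaf 0x100000003) (.leaf 0x0)) (.node 1101 (.leaf 0x4000002) (.leaf 0x2010003))) (.node 1104 (.node 1103 (.leaf 0x20001) (.leaf 0x0)) (.node 1105 (.leaf 0x2) (.node 1106 (.leaf 0x30001) (.leaf 0x100000003))))))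

def schUS_121 : Store := (.node 1116 (.node 1111 (.node 1109 (.node 1108 (.leaf 0x4000002) (.leaf 0x0)) (.node 1110 (.leaf 0x0) (.leaf 0x2010003))) (.node 1113 (.node 1112 (.leaf 0x201010003) (.leaf 0x2000002)) (.node 1114 (.leaf 0x0) (.node 1115 (.leaf 0x0) (.leaf 0x400000003))))) (.node 1120 (.node 1118 (.node 1117 (.leaf 0x201000003) (.leaf 0x30001)) (.node 1119 (.leaf 0x0) (.leaf 0x0))) (.node 1122 (.node 1121 (.leaf 0x4000002) (.leaf 0x0)) (.node 1123 (.leaf 0x2000002) (.node 1124 (.leaf 0x201010004) (.leaf 0x2))))))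

def schUS_122 : Store := (.node 1107 schUS_120 schUS_121)

def schUS_123 : Store := (.node 1089 schUS_119 schUS_122)

def schUS_124 : Store := (.node 1054 schUS_116 schUS_123)

def schUS_125 : Store := (.node 984 schUS_109 schUS_124)

def schUS_126 : Store := (.node 843 schUS_94 schUS_125)

def schUS_127 : Store := (.node 562 schUS_63 schUS_126)

def schUS_128 : Store := (.node 1133 (.node 1129 (.node 1127 (.node 1126 (.leaf 0x100020003) (.leaf 0x0)) (.node 1128 (.leaf 0x10100000004) (.leaf 0x10100000004))) (.node 1131 (.node 1130 (.leaf 0x10100000004) (.leaf 0x1020002)) (.node 1132 (.leaf 0x100000003) (.leaf 0x4030002)))) (.node 1137 (.node 1135 (.node 1134 (.leaf 0x0) (.leaf 0x4030002)) (.node 1136 (.leaf 0x3010002) (.leaf 0x0))) (.node 1139 (.node 1138 (.leaf 0x2010100000005) (.leaf 0x201000003)) (.node 1140 (.leaf 0x4030002) (.node 1141 (.leaf 0x0) (.leaf 0x10200000004))))))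

def schUS_129 : Store := (.node 1151 (.node 1146 (.node 1144 (.node 1143 (.leaf 0x0) (.leaf 0x20002)) (.node 1145 (.leaf 0x100020003) (.leaf 0x10200000004))) (.node 1148 (.node 1147 (.leaf 0x0) (.leaf 0x200000003)) (.node 1149 (.leaf 0x201000003) (.node 1150 (.leaf 0x0) (.leaf 0x3010002))))) (.node 1155 (.node 1153 (.node 1152 (.leaf 0x0) (.leaf 0x4000002)) (.node 1154 (.leaf 0x2010100000005) (.leaf 0x0))) (.node 1157 (.node 1156 (.leaf 0x0) (.leaf 0x10100000004)) (.node 1158 (.leaf 0x10100000004) (.node 1159 (.leaf 0x100020003) (.leaf 0x0))))))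

def schUS_130 : Store := (.node 1142 schUS_128 schUS_129)

def schUS_131 : Store := (.node 1168 (.node 1164 (.node 1162 (.node 1161 (.leaf 0x0) (.leaf 0x40001)) (.node 1163 (.leaf 0x1) (.leaf 0x0))) (.node 1166 (.node 1165 (.leaf 0x201010004) (.leaf 0x201000003)) (.node 1167 (.leaf 0x0) (.leaf 0x0)))) (.node 1172 (.node 1170 (.node 1169 (.leaf 0x201000003) (.leaf 0x0)) (.node 1171 (.leaf 0x20101000004) (.leaf 0x0))) (.node 1174 (.node 1173 (.leaf 0x20002) (.leaf 0x20100000004)) (.node 1175 (.leaf 0x2) (.node 1176 (.leaf 0x10200000004) (.leaf 0x102000003))))))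

def schUS_132 : Store := (.node 1186 (.node 1181 (.node 1179 (.node 1178 (.leaf 0x20101000004) (.leaf 0x0)) (.node 1180 (.leaf 0x1010002) (.leaf 0x0))) (.node 1183 (.node 1182 (.leaf 0x20101000004) (.leaf 0x101000003)) (.node 1184 (.leaf 0x201010004) (.node 1185 (.leaf 0x0) (.leaf 0x10001))))) (.node 1190 (.node 1188 (.node 1187 (.leaf 0x0) (.leaf 0x10001)) (.node 1189 (.leaf 0x20101000004) (.leaf 0x200000003))) (.node 1192 (.node 1191 (.leaf 0x201010004) (.leaf 0x20002)) (.node 1193 (.leaf 0x10001) (.node 1194 (.leaf 0x0) (.leaf 0x2010002))))))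

def schUS_133 : Store := (.node 1177 schUS_131 schUS_132)

def schUS_134 : Store := (.node 1160 schUS_130 schUS_133)

def schUS_135 : Store := (.node 1203 (.node 1199 (.node 1197 (.node 1196 (.leaf 0x20001) (.leaf 0x200000003)) (.node 1198 (.leaf 0x4030002) (.leaf 0x100020003))) (.node 1201 (.node 1200 (.leaf 0x20001) (.leaf 0x20002)) (.node 1202 (.leaf 0x2) (.leaf 0x0)))) (.node 1207 (.node 1205 (.node 1204 (.leaf 0x0) (.leaf 0x0)) (.node 1206 (.leaf 0x301010003) (.leaf 0x1010002))) (.node 1209 (.node 1208 (.leaf 0x4030002) (.leaf 0x10001)) (.node 1210 (.leaf 0x10001) (.node 1211 (.leaf 0x1) (.leaf 0x1010002))))))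

def schUS_136 : Store := (.node 1221 (.node 1216 (.node 1214 (.node 1213 (.leaf 0x4030002) (.leaf 0x1000002)) (.node 1215 (.leaf 0x100020003) (.leaf 0x2000002))) (.node 1218 (.node 1217 (.leaf 0x0) (.leaf 0x0)) (.node 1219 (.leaf 0x100020003) (.node 1220 (.leaf 0x0) (.leaf 0x0))))) (.node 1225 (.node 1223 (.node 1222 (.leaf 0x2000002) (.leaf 0x2010002)) (.node 1224 (.leaf 0x2000002) (.leaf 0x2010002))) (.node 1227 (.node 1226 (.leaf 0x0) (.leaf 0x0)) (.node 1228 (.leaf 0x0) (.node 1229 (.leaf 0x2000002) (.leaf 0x201010003))))))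

def schUS_137 : Store := (.node 1212 schUS_135 schUS_136)

def schUS_138 : Store := (.node 1238 (.node 1234 (.node 1232 (.node 1231 (.leaf 0x2) (.leaf 0x3010002)) (.node 1233 (.leaf 0x1000002) (.leaf 0x0))) (.node 1236 (.node 1235 (.leaf 0x20001) (.leaf 0x1000002)) (.node 1237 (.leaf 0x1010002) (.leaf 0x20001)))) (.node 1242 (.node 1240 (.node 1239 (.leaf 0x201000003) (.leaf 0x301010003)) (.node 1241 (.leaf 0x0) (.leaf 0x200000003))) (.node 1244 (.node 1243 (.leaf 0x0) (.leaf 0x102000003)) (.node 1245 (.leaf 0x2000002) (.node 1246 (.leaf 0x0) (.leaf 0x0))))))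

def schUS_139 : Store := (.node 1256 (.node 1251 (.node 1249 (.node 1248 (.leaf 0x0) (.leaf 0x201000003)) (.node 1250 (.leaf 0x1020002) (.leaf 0x2000002))) (.node 1253 (.node 1252 (.leaf 0x30001) (.leaf 0x1020002)) (.node 1254 (.leaf 0x0) (.node 1255 (.leaf 0x0) (.leaf 0x10100000004))))) (.node 1260 (.node 1258 (.node 1257 (.leaf 0x2000002) (.leaf 0x201000003)) (.node 1259 (.leaf 0x201000003) (.leaf 0x0))) (.node 1262 (.node 1261 (.leaf 0x1000002) (.leaf 0x0)) (.node 1263 (.leaf 0x20001) (.node 1264 (.leaf 0x0) (.leaf 0x1000002))))))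

def schUS_140 : Store := (.node 1247 schUS_138 schUS_139)

def schUS_141 : Store := (.node 1230 schUS_137 schUS_140)

def schUS_142 : Store := (.node 1195 schUS_134 schUS_141)

def schUS_143 : Store := (.node 1273 (.node 1269 (.node 1267 (.node 1266 (.leaf 0x0) (.leaf 0x20001)) (.node 1268 (.leaf 0x10001) (.leaf 0x40001))) (.node 1271 (.node 1270 (.leaf 0x0) (.leaf 0x0)) (.node 1272 (.leaf 0x1000002) (.leaf 0x0)))) (.node 1277 (.node 1275 (.node 1274 (.leaf 0x0) (.leaf 0x0)) (.node 1276 (.leaf 0x1) (.leaf 0x3010002))) (.node 1279 (.node 1278 (.leaf 0x400000003) (.leaf 0x20002)) (.node 1280 (.leaf 0x0) (.node 1281 (.leaf 0x201010004) (.leaf 0x0))))))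

def schUS_144 : Store := (.node 1291 (.node 1286 (.node 1284 (.node 1283 (.leaf 0x201010004) (.leaf 0x0)) (.node 1285 (.leaf 0x0) (.leaf 0x20001))) (.node 1288 (.node 1287 (.leaf 0x2010100000005) (.leaf 0x400000003)) (.node 1289 (.leaf 0x100020003) (.node 1290 (.leaf 0x1020002) (.leaf 0x0))))) (.node 1295 (.node 1293 (.node 1292 (.leaf 0x2010003) (.leaf 0x10100000004)) (.node 1294 (.leaf 0x4030002) (.leaf 0x10100000004))) (.node 1297 (.node 1296 (.leaf 0x0) (.leaf 0x100020003)) (.node 1298 (.leaf 0x201010004) (.node 1299 (.leaf 0x100020003) (.leaf 0x0))))))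

def schUS_145 : Store := (.node 1282 schUS_143 schUS_144)

def schUS_146 : Store := (.node 1308 (.node 1304 (.node 1302 (.node 1301 (.leaf 0x20101000004) (.leaf 0x0)) (.node 1303 (.leaf 0x102000003) (.leaf 0x3010002))) (.node 1306 (.node 1305 (.leaf 0x400000003) (.leaf 0x101000003)) (.node 1307 (.leaf 0x1020002) (.leaf 0x20101000004)))) (.node 1312 (.node 1310 (.node 1309 (.leaf 0x10001) (.leaf 0x400000003)) (.node 1311 (.leaf 0x0) (.leaf 0x20101000004))) (.node 1314 (.node 1313 (.leaf 0x0) (.leaf 0x2000002)) (.node 1315 (.leaf 0x20100000004) (.node 1316 (.leaf 0x10200000004) (.leaf 0x20002))))))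

def schUS_147 : Store := (.node 1326 (.node 1321 (.node 1319 (.node 1318 (.leaf 0x2000002) (.leaf 0x0)) (.node 1320 (.leaf 0x2000002) (.leaf 0x30001))) (.node 1323 (.node 1322 (.leaf 0x0) (.leaf 0x200000003)) (.node 1324 (.leaf 0x20001) (.node 1325 (.leaf 0x201000003) (.leaf 0x100020003))))) (.node 1330 (.node 1328 (.node 1327 (.leaf 0x201000003) (.leaf 0x100020003)) (.node 1329 (.leaf 0x0) (.leaf 0x0))) (.node 1332 (.node 1331 (.leaf 0x0) (.leaf 0x0)) (.node 1333 (.leaf 0x4000002) (.node 1334 (.leaf 0x20002) (.leaf 0x201010004))))))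

def schUS_148 : Store := (.node 1317 schUS_146 schUS_147)

def schUS_149 : Store := (.node 1300 schUS_145 schUS_148)

def schUS_150 : Store := (.node 1343 (.node 1339 (.node 1337 (.node 1336 (.leaf 0x101000003) (.leaf 0x301010003)) (.node 1338 (.leaf 0x0) (.leaf 0x102000003))) (.node 1341 (.node 1340 (.leaf 0x1000002) (.leaf 0x0)) (.node 1342 (.leaf 0x0) (.leaf 0x400000003)))) (.node 1347 (.node 1345 (.node 1344 (.leaf 0x1010002) (.leaf 0x2)) (.node 1346 (.leaf 0x200000003) (.leaf 0x102000003))) (.node 1349 (.node 1348 (.leaf 0x3010002) (.leaf 0x20001)) (.node 1350 (.leaf 0x2010003) (.node 1351 (.leaf 0x0) (.leaf 0x0))))))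

def schUS_151 : Store := (.node 1361 (.node 1356 (.node 1354 (.node 1353 (.leaf 0x2010100000005) (.leaf 0x20100000004)) (.node 1355 (.leaf 0x2010002) (.leaf 0x30001))) (.node 1358 (.node 1357 (.leaf 0x400000003) (.leaf 0x20101000004)) (.node 1359 (.leaf 0x10100000004) (.node 1360 (.leaf 0x0) (.leaf 0x400000003))))) (.node 1365 (.node 1363 (.node 1362 (.leaf 0x102000003) (.leaf 0x100000003)) (.node 1364 (.leaf 0x0) (.leaf 0x30001))) (.node 1367 (.node 1366 (.leaf 0x2) (.leaf 0x2010003)) (.node 1368 (.leaf 0x201000003) (.node 1369 (.leaf 0x100000003) (.leaf 0x201000003))))))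

def schUS_152 : Store := (.node 1352 schUS_150 schUS_151)

def schUS_153 : Store := (.node 1379 (.node 1374 (.node 1372 (.node 1371 (.leaf 0x200000003) (.leaf 0x2010002)) (.node 1373 (.leaf 0x0) (.leaf 0x20001))) (.node 1376 (.node 1375 (.leaf 0x4030002) (.leaf 0x40001)) (.node 1377 (.leaf 0x0) (.node 1378 (.leaf 0x20001) (.leaf 0x20001))))) (.node 1383 (.node 1381 (.node 1380 (.leaf 0x20001) (.leaf 0x102000003)) (.node 1382 (.leaf 0x2) (.leaf 0x100000003))) (.node 1385 (.node 1384 (.leaf 0x0) (.leaf 0x1)) (.node 1386 (.leaf 0x0) (.node 1387 (.leaf 0x301010003) (.leaf 0x301010003))))))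

def schUS_154 : Store := (.node 1397 (.node 1392 (.node 1390 (.node 1389 (.leaf 0x30001) (.leaf 0x30001)) (.node 1391 (.leaf 0x20100000004) (.leaf 0x10100000004))) (.node 1394 (.node 1393 (.leaf 0x3010002) (.leaf 0x4000002)) (.node 1395 (.leaf 0x301010003) (.node 1396 (.leaf 0x1) (.leaf 0x301010003))))) (.node 1401 (.node 1399 (.node 1398 (.leaf 0x0) (.leaf 0x0)) (.node 1400 (.leaf 0x102000003) (.leaf 0x20002))) (.node 1403 (.node 1402 (.leaf 0x2010002) (.leaf 0x20001)) (.node 1404 (.leaf 0x100000003) (.node 1405 (.leaf 0x1) (.leaf 0x30001))))))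

def schUS_155 : Store := (.node 1388 schUS_153 schUS_154)

def schUS_156 : Store := (.node 1370 schUS_152 schUS_155)

def schUS_157 : Store := (.node 1335 schUS_149 schUS_156)

def schUS_158 : Store := (.node 1265 schUS_142 schUS_157)

def schUS_159 : Store := (.node 1414 (.node 1410 (.node 1408 (.node 1407 (.leaf 0x2) (.leaf 0x0)) (.node 1409 (.leaf 0x0) (.leaf 0x30001))) (.node 1412 (.node 1411 (.leaf 0x301010003) (.leaf 0x2010100000005)) (.node 1413 (.leaf 0x20100000004) (.leaf 0x10100000004)))) (.node 1418 (.node 1416 (.node 1415 (.leaf 0x10200000004) (.leaf 0x102000003)) (.node 1417 (.leaf 0x1) (.leaf 0x30001))) (.node 1420 (.node 1419 (.leaf 0x30001) (.leaf 0x0)) (.node 1421 (.leaf 0x0) (.node 1422 (.leaf 0x0) (.leaf 0x1))))))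

def schUS_160 : Store := (.node 1432 (.node 1427 (.node 1425 (.node 1424 (.leaf 0x2010100000005) (.leaf 0x101000003)) (.node 1426 (.leaf 0x1000002) (.leaf 0x40001))) (.node 1429 (.node 1428 (.leaf 0x100000003) (.leaf 0x100000003)) (.node 1430 (.leaf 0x1020002) (.node 1431 (.leaf 0x0) (.leaf 0x200000003))))) (.node 1436 (.node 1434 (.node 1433 (.leaf 0x2000002) (.leaf 0x0)) (.node 1435 (.leaf 0x1010002) (.leaf 0x20001))) (.node 1438 (.node 1437 (.leaf 0x1010002) (.leaf 0x2)) (.node 1439 (.leaf 0x102000003) (.node 1440 (.leaf 0x20001) (.leaf 0x30001))))))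

def schUS_161 : Store := (.node 1423 schUS_159 schUS_160)

def schUS_162 : Store := (.node 1449 (.node 1445 (.node 1443 (.node 1442 (.leaf 0x0) (.leaf 0x0)) (.node 1444 (.leaf 0x20001) (.leaf 0x0))) (.node 1447 (.node 1446 (.leaf 0x2000002) (.leaf 0x0)) (.node 1448 (.leaf 0x30001) (.leaf 0x20001)))) (.node 1453 (.node 1451 (.node 1450 (.leaf 0x3010002) (.leaf 0x201010003)) (.node 1452 (.leaf 0x0) (.leaf 0x20001))) (.node 1455 (.node 1454 (.leaf 0x102000003) (.leaf 0x1)) (.node 1456 (.leaf 0x100020003) (.node 1457 (.leaf 0x10001) (.leaf 0x301010003))))))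

def schUS_163 : Store := (.node 1467 (.node 1462 (.node 1460 (.node 1459 (.leaf 0x0) (.leaf 0x0)) (.node 1461 (.leaf 0x1010002) (.leaf 0x101000003))) (.node 1464 (.node 1463 (.leaf 0x20101000004) (.leaf 0x0)) (.node 1465 (.leaf 0x10001) (.node 1466 (.leaf 0x1020002) (.leaf 0x1020002))))) (.node 1471 (.node 1469 (.node 1468 (.leaf 0x20100000004) (.leaf 0x0)) (.node 1470 (.leaf 0x0) (.leaf 0x102000003))) (.node 1473 (.node 1472 (.leaf 0x0) (.leaf 0x201010003)) (.node 1474 (.leaf 0x20001) (.node 1475 (.leaf 0x20100000004) (.leaf 0x2010003))))))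

def schUS_164 : Store := (.node 1458 schUS_162 schUS_163)

def schUS_165 : Store := (.node 1441 schUS_161 schUS_164)

def schUS_166 : Store := (.node 1484 (.node 1480 (.node 1478 (.node 1477 (.leaf 0x40001) (.leaf 0x2010002)) (.node 1479 (.leaf 0x20001) (.leaf 0x200000003))) (.node 1482 (.node 1481 (.leaf 0x0) (.leaf 0x102000003)) (.node 1483 (.leaf 0x100000003) (.leaf 0x20001)))) (.node 1488 (.node 1486 (.node 1485 (.leaf 0x10001) (.leaf 0x0)) (.node 1487 (.leaf 0x1000002) (.leaf 0x30001))) (.node 1490 (.node 1489 (.leaf 0x20001) (.leaf 0x3010002)) (.node 1491 (.leaf 0x2010003) (.node 1492 (.leaf 0x0) (.leaf 0x0))))))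

def schUS_167 : Store := (.node 1502 (.node 1497 (.node 1495 (.node 1494 (.leaf 0x0) (.leaf 0x201000003)) (.node 1496 (.leaf 0x3010002) (.leaf 0x0))) (.node 1499 (.node 1498 (.leaf 0x200000003) (.leaf 0x20001)) (.node 1500 (.leaf 0x10001) (.node 1501 (.leaf 0x20101000004) (.leaf 0x0))))) (.node 1506 (.node 1504 (.node 1503 (.leaf 0x1000002) (.leaf 0x20100000004)) (.node 1505 (.leaf 0x2) (.leaf 0x0))) (.node 1508 (.node 1507 (.leaf 0x1000002) (.leaf 0x4000002)) (.node 1509 (.leaf 0x20001) (.node 1510 (.leaf 0x101000003) (.leaf 0x2010003))))))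

def schUS_168 : Store := (.node 1493 schUS_166 schUS_167)

def schUS_169 : Store := (.node 1519 (.node 1515 (.node 1513 (.node 1512 (.leaf 0x2000002) (.leaf 0x2000002)) (.node 1514 (.leaf 0x100020003) (.leaf 0x0))) (.node 1517 (.node 1516 (.leaf 0x2) (.leaf 0x3010002)) (.node 1518 (.leaf 0x4030002) (.leaf 0x20001)))) (.node 1523 (.node 1521 (.node 1520 (.leaf 0x2000002) (.leaf 0x100000003)) (.node 1522 (.leaf 0x1020002) (.leaf 0x10200000004))) (.node 1525 (.node 1524 (.leaf 0x1) (.leaf 0x10200000004)) (.node 1526 (.leaf 0x40001) (.node 1527 (.leaf 0x2000002) (.leaf 0x101000003))))))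

def schUS_170 : Store := (.node 1537 (.node 1532 (.node 1530 (.node 1529 (.leaf 0x20001) (.leaf 0x0)) (.node 1531 (.leaf 0x301010003) (.leaf 0x0))) (.node 1534 (.node 1533 (.leaf 0x2000002) (.leaf 0x100020003)) (.node 1535 (.leaf 0x101000003) (.node 1536 (.leaf 0x0) (.leaf 0x20001))))) (.node 1541 (.node 1539 (.node 1538 (.leaf 0x2010003) (.leaf 0x0)) (.node 1540 (.leaf 0x2010003) (.leaf 0x0))) (.node 1543 (.node 1542 (.leaf 0x2010002) (.leaf 0x4000002)) (.node 1544 (.leaf 0x2010003) (.node 1545 (.leaf 0x4030002) (.leaf 0x1000002))))))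

def schUS_171 : Store := (.node 1528 schUS_169 schUS_170)

def schUS_172 : Store := (.node 1511 schUS_168 schUS_171)

def schUS_173 : Store := (.node 1476 schUS_165 schUS_172)

def schUS_174 : Store := (.node 1554 (.node 1550 (.node 1548 (.node 1547 (.leaf 0x0) (.leaf 0x1000002)) (.node 1549 (.leaf 0x1000002) (.leaf 0x20001))) (.node 1552 (.node 1551 (.leaf 0x400000003) (.leaf 0x1020002)) (.node 1553 (.leaf 0x0) (.leaf 0x10100000004)))) (.node 1558 (.node 1556 (.node 1555 (.leaf 0x102000003) (.leaf 0x0)) (.node 1557 (.leaf 0x10100000004) (.leaf 0x20002))) (.node 1560 (.node 1559 (.leaf 0x20001) (.leaf 0x10001)) (.node 1561 (.leaf 0x1010002) (.node 1562 (.leaf 0x4000002) (.leaf 0x201010003))))))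

def schUS_175 : Store := (.node 1572 (.node 1567 (.node 1565 (.node 1564 (.leaf 0x0) (.leaf 0x0)) (.node 1566 (.leaf 0x0) (.leaf 0x10100000004))) (.node 1569 (.node 1568 (.leaf 0x10100000004) (.leaf 0x20001)) (.node 1570 (.leaf 0x1010002) (.node 1571 (.leaf 0x0) (.leaf 0x40001))))) (.node 1576 (.node 1574 (.node 1573 (.leaf 0x1000002) (.leaf 0x0)) (.node 1575 (.leaf 0x0) (.leaf 0x1010002))) (.node 1578 (.node 1577 (.leaf 0x4000002) (.leaf 0x4030002)) (.node 1579 (.leaf 0x201000003) (.node 1580 (.leaf 0x20001) (.leaf 0x0))))))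

def schUS_176 : Store := (.node 1563 schUS_174 schUS_175)

def schUS_177 : Store := (.node 1589 (.node 1585 (.node 1583 (.node 1582 (.leaf 0x30001) (.leaf 0x400000003)) (.node 1584 (.leaf 0x4000002) (.leaf 0x201010004))) (.node 1587 (.node 1586 (.leaf 0x4030002) (.leaf 0x201010004)) (.node 1588 (.leaf 0x2000002) (.leaf 0x2010002)))) (.node 1593 (.node 1591 (.node 1590 (.leaf 0x100000003) (.leaf 0x20002)) (.node 1592 (.leaf 0x20100000004) (.leaf 0x0))) (.node 1595 (.node 1594 (.leaf 0x40001) (.leaf 0x3010002)) (.node 1596 (.leaf 0x20100000004) (.node 1597 (.leaf 0x20001) (.leaf 0x4000002))))))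

def schUS_178 : Store := (.node 1607 (.node 1602 (.node 1600 (.node 1599 (.leaf 0x20001) (.leaf 0x0)) (.node 1601 (.leaf 0x10001) (.leaf 0x0))) (.node 1604 (.node 1603 (.leaf 0x0) (.leaf 0x1000002)) (.node 1605 (.leaf 0x4000002) (.node 1606 (.leaf 0x3010002) (.leaf 0x3010002))))) (.node 1611 (.node 1609 (.node 1608 (.leaf 0x1020002) (.leaf 0x1)) (.node 1610 (.leaf 0x3010002) (.leaf 0x0))) (.node 1613 (.node 1612 (.leaf 0x1010002) (.leaf 0x20101000004)) (.node 1614 (.leaf 0x102000003) (.node 1615 (.leaf 0x1020002) (.leaf 0x20100000004))))))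

def schUS_179 : Store := (.node 1598 schUS_177 schUS_178)

def schUS_180 : Store := (.node 1581 schUS_176 schUS_179)

def schUS_181 : Store := (.node 1624 (.node 1620 (.node 1618 (.node 1617 (.leaf 0x1020002) (.leaf 0x20100000004)) (.node 1619 (.leaf 0x3010002) (.leaf 0x1020002))) (.node 1622 (.node 1621 (.leaf 0x2010002) (.leaf 0x0)) (.node 1623 (.leaf 0x1000002) (.leaf 0x0)))) (.node 1628 (.node 1626 (.node 1625 (.leaf 0x10100000004) (.leaf 0x2)) (.node 1627 (.leaf 0x3010002) (.leaf 0x1000002))) (.node 1630 (.node 1629 (.leaf 0x201000003) (.leaf 0x2010100000005)) (.node 1631 (.leaf 0x2010003) (.node 1632 (.leaf 0x2000002) (.leaf 0x0))))))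

def schUS_182 : Store := (.node 1642 (.node 1637 (.node 1635 (.node 1634 (.leaf 0x0) (.leaf 0x3010002)) (.node 1636 (.leaf 0x102000003) (.leaf 0x1000002))) (.node 1639 (.node 1638 (.leaf 0x1010002) (.leaf 0x20001)) (.node 1640 (.leaf 0x30001) (.node 1641 (.leaf 0x20002) (.leaf 0x0))))) (.node 1646 (.node 1644 (.node 1643 (.leaf 0x1020002) (.leaf 0x0)) (.node 1645 (.leaf 0x400000003) (.leaf 0x1))) (.node 1648 (.node 1647 (.leaf 0x200000003) (.leaf 0x400000003)) (.node 1649 (.leaf 0x1) (.node 1650 (.leaf 0x1010002) (.leaf 0x0))))))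

def schUS_183 : Store := (.node 1633 schUS_181 schUS_182)

def schUS_184 : Store := (.node 1660 (.node 1655 (.node 1653 (.node 1652 (.leaf 0x1010002) (.leaf 0x100000003)) (.node 1654 (.leaf 0x2000002) (.leaf 0x3010002))) (.node 1657 (.node 1656 (.leaf 0x4030002) (.leaf 0x100000003)) (.node 1658 (.leaf 0x400000003) (.node 1659 (.leaf 0x400000003) (.leaf 0x100000003))))) (.node 1664 (.node 1662 (.node 1661 (.leaf 0x102000003) (.leaf 0x20002)) (.node 1663 (.leaf 0x20001) (.leaf 0x0))) (.node 1666 (.node 1665 (.leaf 0x301010003) (.leaf 0x2010003)) (.node 1667 (.leaf 0x20100000004) (.node 1668 (.leaf 0x2010002) (.leaf 0x1))))))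

def schUS_185 : Store := (.node 1678 (.node 1673 (.node 1671 (.node 1670 (.leaf 0x301010003) (.leaf 0x10200000004)) (.node 1672 (.leaf 0x2010003) (.leaf 0x0))) (.node 1675 (.node 1674 (.leaf 0x0) (.leaf 0x0)) (.node 1676 (.leaf 0x101000003) (.node 1677 (.leaf 0x20002) (.leaf 0x0))))) (.node 1682 (.node 1680 (.node 1679 (.leaf 0x30001) (.leaf 0x1)) (.node 1681 (.leaf 0x1020002) (.leaf 0x20001))) (.node 1684 (.node 1683 (.leaf 0x20001) (.leaf 0x20002)) (.node 1685 (.leaf 0x0) (.node 1686 (.leaf 0x40001) (.leaf 0x100020003))))))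

def schUS_186 : Store := (.node 1669 schUS_184 schUS_185)

def schUS_187 : Store := (.node 1651 schUS_183 schUS_186)

def schUS_188 : Store := (.node 1616 schUS_180 schUS_187)

def schUS_189 : Store := (.node 1546 schUS_173 schUS_188)

def schUS_190 : Store := (.node 1406 schUS_158 schUS_189)

def schUS_191 : Store := (.node 1695 (.node 1691 (.node 1689 (.node 1688 (.leaf 0x1010002) (.leaf 0x0)) (.node 1690 (.leaf 0x2010100000005) (.leaf 0x10001))) (.node 1693 (.node 1692 (.leaf 0x3010002) (.leaf 0x301010003)) (.node 1694 (.leaf 0x1000002) (.leaf 0x2)))) (.node 1699 (.node 1697 (.node 1696 (.leaf 0x100020003) (.leaf 0x100000003)) (.node 1698 (.leaf 0x0) (.leaf 0x2010100000005))) (.node 1701 (.node 1700 (.leaf 0x0) (.leaf 0x2010100000005)) (.node 1702 (.leaf 0x101000003) (.node 1703 (.leaf 0x1010002) (.leaf 0x101000003))))))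

def schUS_192 : Store := (.node 1713 (.node 1708 (.node 1706 (.node 1705 (.leaf 0x201000003) (.leaf 0x1010002)) (.node 1707 (.leaf 0x0) (.leaf 0x100000003))) (.node 1710 (.node 1709 (.leaf 0x400000003) (.leaf 0x4030002)) (.node 1711 (.leaf 0x0) (.node 1712 (.leaf 0x2010003) (.leaf 0x30001))))) (.node 1717 (.node 1715 (.node 1714 (.leaf 0x1) (.leaf 0x0)) (.node 1716 (.leaf 0x1000002) (.leaf 0x400000003))) (.node 1719 (.node 1718 (.leaf 0x2010100000005) (.leaf 0x0)) (.node 1720 (.leaf 0x2010100000005) (.node 1721 (.leaf 0x20001) (.leaf 0x2010002))))))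

def schUS_193 : Store := (.node 1704 schUS_191 schUS_192)

def schUS_194 : Store := (.node 1730 (.node 1726 (.node 1724 (.node 1723 (.leaf 0x40001) (.leaf 0x1000002)) (.node 1725 (.leaf 0x4030002) (.leaf 0x0))) (.node 1728 (.node 1727 (.leaf 0x2010100000005) (.leaf 0x0)) (.node 1729 (.leaf 0x2010100000005) (.leaf 0x0)))) (.node 1734 (.node 1732 (.node 1731 (.leaf 0x0) (.leaf 0x0)) (.node 1733 (.leaf 0x102000003) (.leaf 0x0))) (.node 1736 (.node 1735 (.leaf 0x1010002) (.leaf 0x0)) (.node 1737 (.leaf 0x201010004) (.node 1738 (.leaf 0x2010003) (.leaf 0x400000003))))))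

def schUS_195 : Store := (.node 1748 (.node 1743 (.node 1741 (.node 1740 (.leaf 0x4000002) (.leaf 0x1)) (.node 1742 (.leaf 0x0) (.leaf 0x0))) (.node 1745 (.node 1744 (.leaf 0x201010004) (.leaf 0x10200000004)) (.node 1746 (.leaf 0x1) (.node 1747 (.leaf 0x30001) (.leaf 0x101000003))))) (.node 1752 (.node 1750 (.node 1749 (.leaf 0x101000003) (.leaf 0x101000003)) (.node 1751 (.leaf 0x1020002) (.leaf 0x20002))) (.node 1754 (.node 1753 (.leaf 0x0) (.leaf 0x4000002)) (.node 1755 (.leaf 0x20001) (.node 1756 (.leaf 0x0) (.leaf 0x4000002))))))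

def schUS_196 : Store := (.node 1739 schUS_194 schUS_195)

def schUS_197 : Store := (.node 1722 schUS_193 schUS_196)

def schUS_198 : Store := (.node 1765 (.node 1761 (.node 1759 (.node 1758 (.leaf 0x4030002) (.leaf 0x1)) (.node 1760 (.leaf 0x100020003) (.leaf 0x1))) (.node 1763 (.node 1762 (.leaf 0x4000002) (.leaf 0x102000003)) (.node 1764 (.leaf 0x20001) (.leaf 0x4000002)))) (.node 1769 (.node 1767 (.node 1766 (.leaf 0x1000002) (.leaf 0x2010100000005)) (.node 1768 (.leaf 0x0) (.leaf 0x2010100000005))) (.node 1771 (.node 1770 (.leaf 0x1000002) (.leaf 0x201010003)) (.node 1772 (.leaf 0x1010002) (.node 1773 (.leaf 0x101000003) (.leaf 0x400000003))))))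

def schUS_199 : Store := (.node 1783 (.node 1778 (.node 1776 (.node 1775 (.leaf 0x4030002) (.leaf 0x1)) (.node 1777 (.leaf 0x201000003) (.leaf 0x2010100000005))) (.node 1780 (.node 1779 (.leaf 0x0) (.leaf 0x2010100000005)) (.node 1781 (.leaf 0x201010003) (.node 1782 (.leaf 0x30001) (.leaf 0x4030002))))) (.node 1787 (.node 1785 (.node 1784 (.leaf 0x20101000004) (.leaf 0x4030002)) (.node 1786 (.leaf 0x1000002) (.leaf 0x1000002))) (.node 1789 (.node 1788 (.leaf 0x100020003) (.leaf 0x2010100000005)) (.node 1790 (.leaf 0x0) (.node 1791 (.leaf 0x0) (.leaf 0x200000003))))))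

def schUS_200 : Store := (.node 1774 schUS_198 schUS_199)

def schUS_201 : Store := (.node 1800 (.node 1796 (.node 1794 (.node 1793 (.leaf 0x4000002) (.leaf 0x101000003)) (.node 1795 (.leaf 0x2000002) (.leaf 0x20001))) (.node 1798 (.node 1797 (.leaf 0x2010002) (.leaf 0x0)) (.node 1799 (.leaf 0x40001) (.leaf 0x20001)))) (.node 1804 (.node 1802 (.node 1801 (.leaf 0x1010002) (.leaf 0x20001)) (.node 1803 (.leaf 0x0) (.leaf 0x20002))) (.node 1806 (.node 1805 (.leaf 0x2) (.leaf 0x0)) (.node 1807 (.leaf 0x1000002) (.node 1808 (.leaf 0x4000002) (.leaf 0x20001))))))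

def schUS_202 : Store := (.node 1818 (.node 1813 (.node 1811 (.node 1810 (.leaf 0x30001) (.leaf 0x201010004)) (.node 1812 (.leaf 0x3010002) (.leaf 0x10200000004))) (.node 1815 (.node 1814 (.leaf 0x10200000004) (.leaf 0x0)) (.node 1816 (.leaf 0x2) (.node 1817 (.leaf 0x3010002) (.leaf 0x4030002))))) (.node 1822 (.node 1820 (.node 1819 (.leaf 0x20001) (.leaf 0x201010004)) (.node 1821 (.leaf 0x1010002) (.leaf 0x100000003))) (.node 1824 (.node 1823 (.leaf 0x0) (.leaf 0x1)) (.node 1825 (.leaf 0x2010002) (.node 1826 (.leaf 0x100000003) (.leaf 0x201010004))))))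

def schUS_203 : Store := (.node 1809 schUS_201 schUS_202)

def schUS_204 : Store := (.node 1792 schUS_200 schUS_203)

def schUS_205 : Store := (.node 1757 schUS_197 schUS_204)

def schUS_206 : Store := (.node 1835 (.node 1831 (.node 1829 (.node 1828 (.leaf 0x30001) (.leaf 0x20001)) (.node 1830 (.leaf 0x0) (.leaf 0x2010100000005))) (.node 1833 (.node 1832 (.leaf 0x4000002) (.leaf 0x4030002)) (.node 1834 (.leaf 0x0) (.leaf 0x2010002)))) (.node 1839 (.node 1837 (.node 1836 (.leaf 0x1010002) (.leaf 0x2010003)) (.node 1838 (.leaf 0x301010003) (.leaf 0x200000003))) (.node 1841 (.node 1840 (.leaf 0x1) (.leaf 0x0)) (.node 1842 (.leaf 0x30001) (.node 1843 (.leaf 0x20002) (.leaf 0x1010002))))))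

def schUS_207 : Store := (.node 1853 (.node 1848 (.node 1846 (.node 1845 (.leaf 0x0) (.leaf 0x0)) (.node 1847 (.leaf 0x10100000004) (.leaf 0x10100000004))) (.node 1850 (.node 1849 (.leaf 0x20001) (.leaf 0x1010002)) (.node 1851 (.leaf 0x0) (.node 1852 (.leaf 0x1) (.leaf 0x2010003))))) (.node 1857 (.node 1855 (.node 1854 (.leaf 0x200000003) (.leaf 0x1010002)) (.node 1856 (.leaf 0x2) (.leaf 0x20002))) (.node 1859 (.node 1858 (.leaf 0x1010002) (.leaf 0x3010002)) (.node 1860 (.leaf 0x100020003) (.node 1861 (.leaf 0x10200000004) (.leaf 0x2010003))))))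

def schUS_208 : Store := (.node 1844 schUS_206 schUS_207)

def schUS_209 : Store := (.node 1870 (.node 1866 (.node 1864 (.node 1863 (.leaf 0x0) (.leaf 0x0)) (.node 1865 (.leaf 0x201000003) (.leaf 0x1010002))) (.node 1868 (.node 1867 (.leaf 0x201010003) (.leaf 0x102000003)) (.node 1869 (.leaf 0x20001) (.leaf 0x102000003)))) (.node 1874 (.node 1872 (.node 1871 (.leaf 0x0) (.leaf 0x30001)) (.node 1873 (.leaf 0x1020002) (.leaf 0x1020002))) (.node 1876 (.node 1875 (.leaf 0x301010003) (.leaf 0x100000003)) (.node 1877 (.leaf 0x0) (.node 1878 (.leaf 0x4030002) (.leaf 0x2010002))))))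

def schUS_210 : Store := (.node 1888 (.node 1883 (.node 1881 (.node 1880 (.leaf 0x201010003) (.leaf 0x1020002)) (.node 1882 (.leaf 0x1020002) (.leaf 0x4000002))) (.node 1885 (.node 1884 (.leaf 0x0) (.leaf 0x20001)) (.node 1886 (.leaf 0x400000003) (.node 1887 (.leaf 0x201010004) (.leaf 0x1000002))))) (.node 1892 (.node 1890 (.node 1889 (.leaf 0x20001) (.leaf 0x301010003)) (.node 1891 (.leaf 0x20101000004) (.leaf 0x0))) (.node 1894 (.node 1893 (.leaf 0x10200000004) (.leaf 0x20100000004)) (.node 1895 (.leaf 0x20002) (.node 1896 (.leaf 0x20101000004) (.leaf 0x20002))))))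

def schUS_211 : Store := (.node 1879 schUS_209 schUS_210)

def schUS_212 : Store := (.node 1862 schUS_208 schUS_211)

def schUS_213 : Store := (.node 1905 (.node 1901 (.node 1899 (.node 1898 (.leaf 0x20101000004) (.leaf 0x4000002)) (.node 1900 (.leaf 0x2010002) (.leaf 0x2010002))) (.node 1903 (.node 1902 (.leaf 0x20002) (.leaf 0x3010002)) (.node 1904 (.leaf 0x0) (.leaf 0x201000003)))) (.node 1909 (.node 1907 (.node 1906 (.leaf 0x20001) (.leaf 0x201010003)) (.node 1908 (.leaf 0x1000002) (.leaf 0x20001))) (.node 1911 (.node 1910 (.leaf 0x4030002) (.leaf 0x102000003)) (.node 1912 (.leaf 0x0) (.node 1913 (.leaf 0x1010002) (.leaf 0x1020002))))))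

def schUS_214 : Store := (.node 1923 (.node 1918 (.node 1916 (.node 1915 (.leaf 0x102000003) (.leaf 0x200000003)) (.node 1917 (.leaf 0x10001) (.leaf 0x1010002))) (.node 1920 (.node 1919 (.leaf 0x0) (.leaf 0x102000003)) (.node 1921 (.leaf 0x0) (.node 1922 (.leaf 0x400000003) (.leaf 0x20101000004))))) (.node 1927 (.node 1925 (.node 1924 (.leaf 0x1010002) (.leaf 0x102000003)) (.node 1926 (.leaf 0x301010003) (.leaf 0x1010002))) (.node 1929 (.node 1928 (.leaf 0x4000002) (.leaf 0x1000002)) (.node 1930 (.leaf 0x20101000004) (.node 1931 (.leaf 0x10100000004) (.leaf 0x40001))))))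

def schUS_215 : Store := (.node 1914 schUS_213 schUS_214)

def schUS_216 : Store := (.node 1941 (.node 1936 (.node 1934 (.node 1933 (.leaf 0x0) (.leaf 0x20001)) (.node 1935 (.leaf 0x200000003) (.leaf 0x20002))) (.node 1938 (.node 1937 (.leaf 0x100020003) (.leaf 0x20100000004)) (.node 1939 (.leaf 0x1) (.node 1940 (.leaf 0x0) (.leaf 0x0))))) (.node 1945 (.node 1943 (.node 1942 (.leaf 0x0) (.leaf 0x1010002)) (.node 1944 (.leaf 0x100020003) (.leaf 0x301010003))) (.node 1947 (.node 1946 (.leaf 0x301010003) (.leaf 0x4000002)) (.node 1948 (.leaf 0x0) (.node 1949 (.leaf 0x2000002) (.leaf 0x301010003))))))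

def schUS_217 : Store := (.node 1959 (.node 1954 (.node 1952 (.node 1951 (.leaf 0x10001) (.leaf 0x40001)) (.node 1953 (.leaf 0x400000003) (.leaf 0x102000003))) (.node 1956 (.node 1955 (.leaf 0x2) (.leaf 0x0)) (.node 1957 (.leaf 0x100020003) (.node 1958 (.leaf 0x101000003) (.leaf 0x100020003))))) (.node 1963 (.node 1961 (.node 1960 (.leaf 0x2) (.leaf 0x4000002)) (.node 1962 (.leaf 0x201010004) (.leaf 0x3010002))) (.node 1965 (.node 1964 (.leaf 0x201010004) (.leaf 0x100020003)) (.node 1966 (.leaf 0x30001) (.node 1967 (.leaf 0x1010002) (.leaf 0x0))))))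

def schUS_218 : Store := (.node 1950 schUS_216 schUS_217)

def schUS_219 : Store := (.node 1932 schUS_215 schUS_218)

def schUS_220 : Store := (.node 1897 schUS_212 schUS_219)

def schUS_221 : Store := (.node 1827 schUS_205 schUS_220)

def schUS_222 : Store := (.node 1976 (.node 1972 (.node 1970 (.node 1969 (.leaf 0x100020003) (.leaf 0x1010002)) (.node 1971 (.leaf 0x40001) (.leaf 0x30001))) (.node 1974 (.node 1973 (.leaf 0x201010003) (.leaf 0x2010100000005)) (.node 1975 (.leaf 0x101000003) (.leaf 0x201000003)))) (.node 1980 (.node 1978 (.node 1977 (.leaf 0x0) (.leaf 0x1010002)) (.node 1979 (.leaf 0x201000003) (.leaf 0x1010002))) (.node 1982 (.node 1981 (.leaf 0x2000002) (.leaf 0x4030002)) (.node 1983 (.leaf 0x2000002) (.node 1984 (.leaf 0x20101000004) (.leaf 0x201000003))))))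

def schUS_223 : Store := (.node 1994 (.node 1989 (.node 1987 (.node 1986 (.leaf 0x100020003) (.leaf 0x201000003)) (.node 1988 (.leaf 0x100020003) (.leaf 0x0))) (.node 1991 (.node 1990 (.leaf 0x2010100000005) (.leaf 0x101000003)) (.node 1992 (.leaf 0x1010002) (.node 1993 (.leaf 0x400000003) (.leaf 0x1020002))))) (.node 1998 (.node 1996 (.node 1995 (.leaf 0x1010002) (.leaf 0x1010002)) (.node 1997 (.leaf 0x2) (.leaf 0x2))) (.node 2000 (.node 1999 (.leaf 0x2010100000005) (.leaf 0x0)) (.node 2001 (.leaf 0x0) (.node 2002 (.leaf 0x0) (.leaf 0x101000003))))))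

def schUS_224 : Store := (.node 1985 schUS_222 schUS_223)

def schUS_225 : Store := (.node 2011 (.node 2007 (.node 2005 (.node 2004 (.leaf 0x0) (.leaf 0x400000003)) (.node 2006 (.leaf 0x1000002) (.leaf 0x4030002))) (.node 2009 (.node 2008 (.leaf 0x10200000004) (.leaf 0x301010003)) (.node 2010 (.leaf 0x1020002) (.leaf 0x3010002)))) (.node 2015 (.node 2013 (.node 2012 (.leaf 0x2) (.leaf 0x0)) (.node 2014 (.leaf 0x40001) (.leaf 0x2010003))) (.node 2017 (.node 2016 (.leaf 0x1020002) (.leaf 0x1)) (.node 2018 (.leaf 0x301010003) (.node 2019 (.leaf 0x301010003) (.leaf 0x1020002))))))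

def schUS_226 : Store := (.node 2029 (.node 2024 (.node 2022 (.node 2021 (.leaf 0x301010003) (.leaf 0x102000003)) (.node 2023 (.leaf 0x3010002) (.leaf 0x201010003))) (.node 2026 (.node 2025 (.leaf 0x200000003) (.leaf 0x0)) (.node 2027 (.leaf 0x100020003) (.node 2028 (.leaf 0x40001) (.leaf 0x100020003))))) (.node 2033 (.node 2031 (.node 2030 (.leaf 0x20100000004) (.leaf 0x30001)) (.node 2032 (.leaf 0x3010002) (.leaf 0x301010003))) (.node 2035 (.node 2034 (.leaf 0x1020002) (.leaf 0x0)) (.node 2036 (.leaf 0x200000003) (.node 2037 (.leaf 0x100000003) (.leaf 0x201000003))))))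

def schUS_227 : Store := (.node 2020 schUS_225 schUS_226)

def schUS_228 : Store := (.node 2003 schUS_224 schUS_227)

def schUS_229 : Store := (.node 2046 (.node 2042 (.node 2040 (.node 2039 (.leaf 0x201000003) (.leaf 0x2)) (.node 2041 (.leaf 0x1020002) (.leaf 0x201000003))) (.node 2044 (.node 2043 (.leaf 0x201010003) (.leaf 0x2000002)) (.node 2045 (.leaf 0x100020003) (.leaf 0x100000003)))) (.node 2050 (.node 2048 (.node 2047 (.leaf 0x201010003) (.leaf 0x0)) (.node 2049 (.leaf 0x100020003) (.leaf 0x20101000004))) (.node 2052 (.node 2051 (.leaf 0x0) (.leaf 0x3010002)) (.node 2053 (.leaf 0x20100000004) (.node 2054 (.leaf 0x10200000004) (.leaf 0x40001))))))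

def schUS_230 : Store := (.node 2064 (.node 2059 (.node 2057 (.node 2056 (.leaf 0x201000003) (.leaf 0x0)) (.node 2058 (.leaf 0x201010003) (.leaf 0x20100000004))) (.node 2061 (.node 2060 (.leaf 0x201010003) (.leaf 0x200000003)) (.node 2062 (.leaf 0x201010004) (.node 2063 (.leaf 0x301010003) (.leaf 0x201010004))))) (.node 2068 (.node 2066 (.node 2065 (.leaf 0x201000003) (.leaf 0x100020003)) (.node 2067 (.leaf 0x20100000004) (.leaf 0x100020003))) (.node 2070 (.node 2069 (.leaf 0x0) (.leaf 0x2010100000005)) (.node 2071 (.leaf 0x10200000004) (.node 2072 (.leaf 0x0) (.leaf 0x200000003))))))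

def schUS_231 : Store := (.node 2055 schUS_229 schUS_230)

def schUS_232 : Store := (.node 2082 (.node 2077 (.node 2075 (.node 2074 (.leaf 0x3010002) (.leaf 0x201010003)) (.node 2076 (.leaf 0x20101000004) (.leaf 0x2))) (.node 2079 (.node 2078 (.leaf 0x20100000004) (.leaf 0x2010100000005)) (.node 2080 (.leaf 0x0) (.node 2081 (.leaf 0x0) (.leaf 0x4030002))))) (.node 2086 (.node 2084 (.node 2083 (.leaf 0x2000002) (.leaf 0x1)) (.node 2085 (.leaf 0x10200000004) (.leaf 0x2000002))) (.node 2088 (.node 2087 (.leaf 0x2010100000005) (.leaf 0x20001)) (.node 2089 (.leaf 0x1) (.node 2090 (.leaf 0x100000003) (.leaf 0x100020003))))))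

def schUS_233 : Store := (.node 2100 (.node 2095 (.node 2093 (.node 2092 (.leaf 0x0) (.leaf 0x1020002)) (.node 2094 (.leaf 0x0) (.leaf 0x400000003))) (.node 2097 (.node 2096 (.leaf 0x1020002) (.leaf 0x1)) (.node 2098 (.leaf 0x20101000004) (.node 2099 (.leaf 0x20001) (.leaf 0x0))))) (.node 2104 (.node 2102 (.node 2101 (.leaf 0x0) (.leaf 0x100000003)) (.node 2103 (.leaf 0x1) (.leaf 0x400000003))) (.node 2106 (.node 2105 (.leaf 0x4000002) (.leaf 0x3010002)) (.node 2107 (.leaf 0x102000003) (.node 2108 (.leaf 0x3010002) (.leaf 0x0))))))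

def schUS_234 : Store := (.node 2091 schUS_232 schUS_233)

def schUS_235 : Store := (.node 2073 schUS_231 schUS_234)

def schUS_236 : Store := (.node 2038 schUS_228 schUS_235)

def schUS_237 : Store := (.node 2117 (.node 2113 (.node 2111 (.node 2110 (.leaf 0x200000003) (.leaf 0x201000003)) (.node 2112 (.leaf 0x1010002) (.leaf 0x0))) (.node 2115 (.node 2114 (.leaf 0x1020002) (.leaf 0x10001)) (.node 2116 (.leaf 0x20100000004) (.leaf 0x301010003)))) (.node 2121 (.node 2119 (.node 2118 (.leaf 0x20002) (.leaf 0x20001)) (.node 2120 (.leaf 0x0) (.leaf 0x4030002))) (.node 2123 (.node 2122 (.leaf 0x0) (.leaf 0x2010003)) (.node 2124 (.leaf 0x3010002) (.node 2125 (.leaf 0x2010003) (.leaf 0x2010003))))))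

def schUS_238 : Store := (.node 2135 (.node 2130 (.node 2128 (.node 2127 (.leaf 0x2000002) (.leaf 0x1020002)) (.node 2129 (.leaf 0x100000003) (.leaf 0x3010002))) (.node 2132 (.node 2131 (.leaf 0x2010002) (.leaf 0x20101000004)) (.node 2133 (.leaf 0x201010004) (.node 2134 (.leaf 0x0) (.leaf 0x2010003))))) (.node 2139 (.node 2137 (.node 2136 (.leaf 0x1000002) (.leaf 0x1010002)) (.node 2138 (.leaf 0x1010002) (.leaf 0x10200000004))) (.node 2141 (.node 2140 (.leaf 0x40001) (.leaf 0x40001)) (.node 2142 (.leaf 0x2010003) (.node 2143 (.leaf 0x1020002) (.leaf 0x40001))))))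

def schUS_239 : Store := (.node 2126 schUS_237 schUS_238)

def schUS_240 : Store := (.node 2152 (.node 2148 (.node 2146 (.node 2145 (.leaf 0x40001) (.leaf 0x2010003)) (.node 2147 (.leaf 0x101000003) (.leaf 0x1010002))) (.node 2150 (.node 2149 (.leaf 0x10200000004) (.leaf 0x0)) (.node 2151 (.leaf 0x20101000004) (.leaf 0x0)))) (.node 2156 (.node 2154 (.node 2153 (.leaf 0x20100000004) (.leaf 0x4000002)) (.node 2155 (.leaf 0x201000003) (.leaf 0x100020003))) (.node 2158 (.node 2157 (.leaf 0x301010003) (.leaf 0x201000003)) (.node 2159 (.leaf 0x4030002) (.node 2160 (.leaf 0x3010002) (.leaf 0x2010003))))))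

def schUS_241 : Store := (.node 2170 (.node 2165 (.node 2163 (.node 2162 (.leaf 0x101000003) (.leaf 0x0)) (.node 2164 (.leaf 0x201010004) (.leaf 0x400000003))) (.node 2167 (.node 2166 (.leaf 0x100000003) (.leaf 0x3010002)) (.node 2168 (.leaf 0x4030002) (.node 2169 (.leaf 0x3010002) (.leaf 0x3010002))))) (.node 2174 (.node 2172 (.node 2171 (.leaf 0x201010004) (.leaf 0x2)) (.node 2173 (.leaf 0x20002) (.leaf 0x2010002))) (.node 2176 (.node 2175 (.leaf 0x1020002) (.leaf 0x1020002)) (.node 2177 (.leaf 0x20100000004) (.node 2178 (.leaf 0x0) (.leaf 0x20100000004))))))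

def schUS_242 : Store := (.node 2161 schUS_240 schUS_241)

def schUS_243 : Store := (.node 2144 schUS_239 schUS_242)

def schUS_244 : Store := (.node 2187 (.node 2183 (.node 2181 (.node 2180 (.leaf 0x40001) (.leaf 0x10200000004)) (.node 2182 (.leaf 0x1010002) (.leaf 0x200000003))) (.node 2185 (.node 2184 (.leaf 0x4000002) (.leaf 0x20100000004)) (.node 2186 (.leaf 0x40001) (.leaf 0x2)))) (.node 2191 (.node 2189 (.node 2188 (.leaf 0x301010003) (.leaf 0x200000003)) (.node 2190 (.leaf 0x0) (.leaf 0x3010002))) (.node 2193 (.node 2192 (.leaf 0x10001) (.leaf 0x0)) (.node 2194 (.leaf 0x10001) (.node 2195 (.leaf 0x100020003) (.leaf 0x20101000004))))))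

def schUS_245 : Store := (.node 2205 (.node 2200 (.node 2198 (.node 2197 (.leaf 0x100020003) (.leaf 0x20101000004)) (.node 2199 (.leaf 0x10001) (.leaf 0x1020002))) (.node 2202 (.node 2201 (.leaf 0x0) (.leaf 0x10200000004)) (.node 2203 (.leaf 0x10200000004) (.node 2204 (.leaf 0x201010003) (.leaf 0x1020002))))) (.node 2209 (.node 2207 (.node 2206 (.leaf 0x1010002) (.leaf 0x0)) (.node 2208 (.leaf 0x200000003) (.leaf 0x201000003))) (.node 2211 (.node 2210 (.leaf 0x0) (.leaf 0x4030002)) (.node 2212 (.leaf 0x0) (.node 2213 (.leaf 0x301010003) (.leaf 0x30001))))))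

def schUS_246 : Store := (.node 2196 schUS_244 schUS_245)

def schUS_247 : Store := (.node 2223 (.node 2218 (.node 2216 (.node 2215 (.leaf 0x20101000004) (.leaf 0x10200000004)) (.node 2217 (.leaf 0x201000003) (.leaf 0x100020003))) (.node 2220 (.node 2219 (.leaf 0x400000003) (.leaf 0x4000002)) (.node 2221 (.leaf 0x0) (.node 2222 (.leaf 0x4000002) (.leaf 0x301010003))))) (.node 2227 (.node 2225 (.node 2224 (.leaf 0x4000002) (.leaf 0x100000003)) (.node 2226 (.leaf 0x201000003) (.leaf 0x201000003))) (.node 2229 (.node 2228 (.leaf 0x2) (.leaf 0x201000003)) (.node 2230 (.leaf 0x1000002) (.node 2231 (.leaf 0x301010003) (.leaf 0x100020003))))))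

def schUS_248 : Store := (.node 2241 (.node 2236 (.node 2234 (.node 2233 (.leaf 0x0) (.leaf 0x100000003)) (.node 2235 (.leaf 0x301010003) (.leaf 0x4000002))) (.node 2238 (.node 2237 (.leaf 0x200000003) (.leaf 0x10001)) (.node 2239 (.leaf 0x301010003) (.node 2240 (.leaf 0x0) (.leaf 0x201010004))))) (.node 2245 (.node 2243 (.node 2242 (.leaf 0x2) (.leaf 0x301010003)) (.node 2244 (.leaf 0x3010002) (.leaf 0x0))) (.node 2247 (.node 2246 (.leaf 0x201010003) (.leaf 0x20100000004)) (.node 2248 (.leaf 0x1010002) (.node 2249 (.leaf 0x200000003) (.leaf 0x0))))))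

def schUS_249 : Store := (.node 2232 schUS_247 schUS_248)

def schUS_250 : Store := (.node 2214 schUS_246 schUS_249)

def schUS_251 : Store := (.node 2179 schUS_243 schUS_250)

def schUS_252 : Store := (.node 2109 schUS_236 schUS_251)

def schUS_253 : Store := (.node 1968 schUS_221 schUS_252)

def schUS_254 : Store := (.node 1687 schUS_190 schUS_253)

def schUS_255 : Store := (.node 1125 schUS_127 schUS_254)

def schUS_256 : Store := (.node 2258 (.node 2254 (.node 2252 (.node 2251 (.leaf 0x100000003) (.leaf 0x0)) (.node 2253 (.leaf 0x400000003) (.leaf 0x4000002))) (.node 2256 (.node 2255 (.leaf 0x40001) (.leaf 0x2)) (.node 2257 (.leaf 0x20002) (.leaf 0x2000002)))) (.node 2262 (.node 2260 (.node 2259 (.leaf 0x400000003) (.leaf 0x2000002)) (.node 2261 (.leaf 0x2010100000005) (.leaf 0x400000003))) (.node 2264 (.node 2263 (.leaf 0x0) (.leaf 0x0)) (.node 2265 (.leaf 0x2) (.node 2266 (.leaf 0x0) (.leaf 0x4030002))))))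

def schUS_257 : Store := (.node 2276 (.node 2271 (.node 2269 (.node 2268 (.leaf 0x3010002) (.leaf 0x201010004)) (.node 2270 (.leaf 0x4000002) (.leaf 0x10200000004))) (.node 2273 (.node 2272 (.leaf 0x2010100000005) (.leaf 0x400000003)) (.node 2274 (.leaf 0x1020002) (.node 2275 (.leaf 0x201010003) (.leaf 0x0))))) (.node 2280 (.node 2278 (.node 2277 (.leaf 0x2) (.leaf 0x1020002)) (.node 2279 (.leaf 0x301010003) (.leaf 0x0))) (.node 2282 (.node 2281 (.leaf 0x301010003) (.leaf 0x0)) (.node 2283 (.leaf 0x201010004) (.node 2284 (.leaf 0x201010004) (.leaf 0x1010002))))))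

def schUS_258 : Store := (.node 2267 schUS_256 schUS_257)

def schUS_259 : Store := (.node 2293 (.node 2289 (.node 2287 (.node 2286 (.leaf 0x201000003) (.leaf 0x30001)) (.node 2288 (.leaf 0x201010003) (.leaf 0x201010004))) (.node 2291 (.node 2290 (.leaf 0x201010003) (.leaf 0x0)) (.node 2292 (.leaf 0x1010002) (.leaf 0x30001)))) (.node 2297 (.node 2295 (.node 2294 (.leaf 0x201010003) (.leaf 0x1000002)) (.node 2296 (.leaf 0x101000003) (.leaf 0x20101000004))) (.node 2299 (.node 2298 (.leaf 0x2010003) (.leaf 0x20002)) (.node 2300 (.leaf 0x2010003) (.node 2301 (.leaf 0x201010004) (.leaf 0x101000003))))))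

def schUS_260 : Store := (.node 2311 (.node 2306 (.node 2304 (.node 2303 (.leaf 0x0) (.leaf 0x400000003)) (.node 2305 (.leaf 0x200000003) (.leaf 0x101000003))) (.node 2308 (.node 2307 (.leaf 0x400000003) (.leaf 0x102000003)) (.node 2309 (.leaf 0x2) (.node 2310 (.leaf 0x2010003) (.leaf 0x0))))) (.node 2315 (.node 2313 (.node 2312 (.leaf 0x20100000004) (.leaf 0x30001)) (.node 2314 (.leaf 0x0) (.leaf 0x200000003))) (.node 2317 (.node 2316 (.leaf 0x102000003) (.leaf 0x201010003)) (.node 2318 (.leaf 0x2010003) (.node 2319 (.leaf 0x3010002) (.leaf 0x2010003))))))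

def schUS_261 : Store := (.node 2302 schUS_259 schUS_260)

def schUS_262 : Store := (.node 2285 schUS_258 schUS_261)

def schUS_263 : Store := (.node 2328 (.node 2324 (.node 2322 (.node 2321 (.leaf 0x0) (.leaf 0x201000003)) (.node 2323 (.leaf 0x0) (.leaf 0x30001))) (.node 2326 (.node 2325 (.leaf 0x200000003) (.leaf 0x2)) (.node 2327 (.leaf 0x100000003) (.leaf 0x200000003)))) (.node 2332 (.node 2330 (.node 2329 (.leaf 0x201010003) (.leaf 0x2)) (.node 2331 (.leaf 0x4000002) (.leaf 0x4000002))) (.node 2334 (.node 2333 (.leaf 0x40001) (.leaf 0x2000002)) (.node 2335 (.leaf 0x400000003) (.node 2336 (.leaf 0x0) (.leaf 0x0))))))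

def schUS_264 : Store := (.node 2346 (.node 2341 (.node 2339 (.node 2338 (.leaf 0x2) (.leaf 0x2010002)) (.node 2340 (.leaf 0x200000003) (.leaf 0x1))) (.node 2343 (.node 2342 (.leaf 0x20101000004) (.leaf 0x0)) (.node 2344 (.leaf 0x10200000004) (.node 2345 (.leaf 0x0) (.leaf 0x400000003))))) (.node 2350 (.node 2348 (.node 2347 (.leaf 0x1010002) (.leaf 0x10100000004)) (.node 2349 (.leaf 0x2010100000005) (.leaf 0x400000003))) (.node 2352 (.node 2351 (.leaf 0x200000003) (.leaf 0x10100000004)) (.node 2353 (.leaf 0x100000003) (.node 2354 (.leaf 0x100000003) (.leaf 0x0))))))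

def schUS_265 : Store := (.node 2337 schUS_263 schUS_264)

def schUS_266 : Store := (.node 2363 (.node 2359 (.node 2357 (.node 2356 (.leaf 0x1010002) (.leaf 0x10001)) (.node 2358 (.leaf 0x0) (.leaf 0x20100000004))) (.node 2361 (.node 2360 (.leaf 0x4030002) (.leaf 0x1010002)) (.node 2362 (.leaf 0x40001) (.leaf 0x102000003)))) (.node 2367 (.node 2365 (.node 2364 (.leaf 0x102000003) (.leaf 0x2)) (.node 2366 (.leaf 0x10100000004) (.leaf 0x0))) (.node 2369 (.node 2368 (.leaf 0x10001) (.leaf 0x2010002)) (.node 2370 (.leaf 0x10001) (.node 2371 (.leaf 0x4000002) (.leaf 0x0))))))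

def schUS_267 : Store := (.node 2381 (.node 2376 (.node 2374 (.node 2373 (.leaf 0x0) (.leaf 0x20002)) (.node 2375 (.leaf 0x4030002) (.leaf 0x2000002))) (.node 2378 (.node 2377 (.leaf 0x301010003) (.leaf 0x100000003)) (.node 2379 (.leaf 0x20100000004) (.node 2380 (.leaf 0x1) (.leaf 0x0))))) (.node 2385 (.node 2383 (.node 2382 (.leaf 0x101000003) (.leaf 0x2010002)) (.node 2384 (.leaf 0x201010004) (.leaf 0x2))) (.node 2387 (.node 2386 (.leaf 0x2) (.leaf 0x1000002)) (.node 2388 (.leaf 0x4030002) (.node 2389 (.leaf 0x20001) (.leaf 0x0))))))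

def schUS_268 : Store := (.node 2372 schUS_266 schUS_267)

def schUS_269 : Store := (.node 2355 schUS_265 schUS_268)

def schUS_270 : Store := (.node 2320 schUS_262 schUS_269)

def schUS_271 : Store := (.node 2398 (.node 2394 (.node 2392 (.node 2391 (.leaf 0x200000003) (.leaf 0x2010002)) (.node 2393 (.leaf 0x0) (.leaf 0x0))) (.node 2396 (.node 2395 (.leaf 0x1000002) (.leaf 0x1)) (.node 2397 (.leaf 0x20101000004) (.leaf 0x100020003)))) (.node 2402 (.node 2400 (.node 2399 (.leaf 0x10200000004) (.leaf 0x20101000004)) (.node 2401 (.leaf 0x3010002) (.leaf 0x0))) (.node 2404 (.node 2403 (.leaf 0x1020002) (.leaf 0x3010002)) (.node 2405 (.leaf 0x1010002) (.node 2406 (.leaf 0x0) (.leaf 0x20101000004))))))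

def schUS_272 : Store := (.node 2416 (.node 2411 (.node 2409 (.node 2408 (.leaf 0x4000002) (.leaf 0x1)) (.node 2410 (.leaf 0x1010002) (.leaf 0x400000003))) (.node 2413 (.node 2412 (.leaf 0x10001) (.leaf 0x10200000004)) (.node 2414 (.leaf 0x20002) (.node 2415 (.leaf 0x0) (.leaf 0x1010002))))) (.node 2420 (.node 2418 (.node 2417 (.leaf 0x3010002) (.leaf 0x20002)) (.node 2419 (.leaf 0x100020003) (.leaf 0x1010002))) (.node 2422 (.node 2421 (.leaf 0x40001) (.leaf 0x10100000004)) (.node 2423 (.leaf 0x201010004) (.node 2424 (.leaf 0x20101000004) (.leaf 0x20101000004))))))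

def schUS_273 : Store := (.node 2407 schUS_271 schUS_272)

def schUS_274 : Store := (.node 2433 (.node 2429 (.node 2427 (.node 2426 (.leaf 0x3010002) (.leaf 0x2)) (.node 2428 (.leaf 0x0) (.leaf 0x10001))) (.node 2431 (.node 2430 (.leaf 0x2) (.leaf 0x20002)) (.node 2432 (.leaf 0x1020002) (.leaf 0x20001)))) (.node 2437 (.node 2435 (.node 2434 (.leaf 0x400000003) (.leaf 0x4000002)) (.node 2436 (.leaf 0x20002) (.leaf 0x0))) (.node 2439 (.node 2438 (.leaf 0x2) (.leaf 0x4030002)) (.node 2440 (.leaf 0x1) (.node 2441 (.leaf 0x1010002) (.leaf 0x3010002))))))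

def schUS_275 : Store := (.node 2451 (.node 2446 (.node 2444 (.node 2443 (.leaf 0x0) (.leaf 0x10200000004)) (.node 2445 (.leaf 0x100020003) (.leaf 0x1))) (.node 2448 (.node 2447 (.leaf 0x4030002) (.leaf 0x10001)) (.node 2449 (.leaf 0x0) (.node 2450 (.leaf 0x201010004) (.leaf 0x20001))))) (.node 2455 (.node 2453 (.node 2452 (.leaf 0x10200000004) (.leaf 0x20100000004)) (.node 2454 (.leaf 0x40001) (.leaf 0x1))) (.node 2457 (.node 2456 (.leaf 0x2) (.leaf 0x1010002)) (.node 2458 (.leaf 0x1010002) (.node 2459 (.leaf 0x201010004) (.leaf 0x0))))))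

def schUS_276 : Store := (.node 2442 schUS_274 schUS_275)

def schUS_277 : Store := (.node 2425 schUS_273 schUS_276)

def schUS_278 : Store := (.node 2468 (.node 2464 (.node 2462 (.node 2461 (.leaf 0x200000003) (.leaf 0x0)) (.node 2463 (.leaf 0x10001) (.leaf 0x20001))) (.node 2466 (.node 2465 (.leaf 0x10001) (.leaf 0x2010002)) (.node 2467 (.leaf 0x400000003) (.leaf 0x400000003)))) (.node 2472 (.node 2470 (.node 2469 (.leaf 0x10001) (.leaf 0x101000003)) (.node 2471 (.leaf 0x10100000004) (.leaf 0x20002))) (.node 2474 (.node 2473 (.leaf 0x2010100000005) (.leaf 0x200000003)) (.node 2475 (.leaf 0x0) (.node 2476 (.leaf 0x0) (.leaf 0x10100000004))))))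

def schUS_279 : Store := (.node 2486 (.node 2481 (.node 2479 (.node 2478 (.leaf 0x10100000004) (.leaf 0x4030002)) (.node 2480 (.leaf 0x2010002) (.leaf 0x40001))) (.node 2483 (.node 2482 (.leaf 0x0) (.leaf 0x0)) (.node 2484 (.leaf 0x201000003) (.node 2485 (.leaf 0x0) (.leaf 0x4030002))))) (.node 2490 (.node 2488 (.node 2487 (.leaf 0x1000002) (.leaf 0x1020002)) (.node 2489 (.leaf 0x0) (.leaf 0x1000002))) (.node 2492 (.node 2491 (.leaf 0x102000003) (.leaf 0x0)) (.node 2493 (.leaf 0x102000003) (.node 2494 (.leaf 0x40001) (.leaf 0x102000003))))))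

def schUS_280 : Store := (.node 2477 schUS_278 schUS_279)

def schUS_281 : Store := (.node 2504 (.node 2499 (.node 2497 (.node 2496 (.leaf 0x301010003) (.leaf 0x201010003)) (.node 2498 (.leaf 0x400000003) (.leaf 0x102000003))) (.node 2501 (.node 2500 (.leaf 0x1000002) (.leaf 0x0)) (.node 2502 (.leaf 0x20002) (.node 2503 (.leaf 0x40001) (.leaf 0x100000003))))) (.node 2508 (.node 2506 (.node 2505 (.leaf 0x30001) (.leaf 0x2)) (.node 2507 (.leaf 0x1000002) (.leaf 0x2010003))) (.node 2510 (.node 2509 (.leaf 0x0) (.leaf 0x201010003)) (.node 2511 (.leaf 0x3010002) (.node 2512 (.leaf 0x10001) (.leaf 0x20100000004))))))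

def schUS_282 : Store := (.node 2522 (.node 2517 (.node 2515 (.node 2514 (.leaf 0x0) (.leaf 0x1000002)) (.node 2516 (.leaf 0x40001) (.leaf 0x2010003))) (.node 2519 (.node 2518 (.leaf 0x40001) (.leaf 0x200000003)) (.node 2520 (.leaf 0x10001) (.node 2521 (.leaf 0x10001) (.leaf 0x30001))))) (.node 2526 (.node 2524 (.node 2523 (.leaf 0x0) (.leaf 0x20100000004)) (.node 2525 (.leaf 0x10001) (.leaf 0x20100000004))) (.node 2528 (.node 2527 (.leaf 0x1) (.leaf 0x1)) (.node 2529 (.leaf 0x1) (.node 2530 (.leaf 0x301010003) (.leaf 0x2))))))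

def schUS_283 : Store := (.node 2513 schUS_281 schUS_282)

def schUS_284 : Store := (.node 2495 schUS_280 schUS_283)

def schUS_285 : Store := (.node 2460 schUS_277 schUS_284)

def schUS_286 : Store := (.node 2390 schUS_270 schUS_285)

def schUS_287 : Store := (.node 2539 (.node 2535 (.node 2533 (.node 2532 (.leaf 0x2010002) (.leaf 0x1)) (.node 2534 (.leaf 0x200000003) (.leaf 0x4030002))) (.node 2537 (.node 2536 (.leaf 0x0) (.leaf 0x20100000004)) (.node 2538 (.leaf 0x4030002) (.leaf 0x0)))) (.node 2543 (.node 2541 (.node 2540 (.leaf 0x4030002) (.leaf 0x2000002)) (.node 2542 (.leaf 0x0) (.leaf 0x0))) (.node 2545 (.node 2544 (.leaf 0x4030002) (.leaf 0x3010002)) (.node 2546 (.leaf 0x201010004) (.node 2547 (.leaf 0x1010002) (.leaf 0x2010002))))))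

def schUS_288 : Store := (.node 2557 (.node 2552 (.node 2550 (.node 2549 (.leaf 0x1) (.leaf 0x2000002)) (.node 2551 (.leaf 0x0) (.leaf 0x2010100000005))) (.node 2554 (.node 2553 (.leaf 0x100020003) (.leaf 0x2010002)) (.node 2555 (.leaf 0x1000002) (.node 2556 (.leaf 0x100000003) (.leaf 0x301010003))))) (.node 2561 (.node 2559 (.node 2558 (.leaf 0x2) (.leaf 0x2010002)) (.node 2560 (.leaf 0x1020002) (.leaf 0x4030002))) (.node 2563 (.node 2562 (.leaf 0x2010002) (.leaf 0x0)) (.node 2564 (.leaf 0x20101000004) (.node 2565 (.leaf 0x1000002) (.leaf 0x4030002))))))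

def schUS_289 : Store := (.node 2548 schUS_287 schUS_288)

def schUS_290 : Store := (.node 2574 (.node 2570 (.node 2568 (.node 2567 (.leaf 0x200000003) (.leaf 0x2010100000005)) (.node 2569 (.leaf 0x4030002) (.leaf 0x30001))) (.node 2572 (.node 2571 (.leaf 0x2010003) (.leaf 0x2)) (.node 2573 (.leaf 0x4030002) (.leaf 0x4000002)))) (.node 2578 (.node 2576 (.node 2575 (.leaf 0x4030002) (.leaf 0x1020002)) (.node 2577 (.leaf 0x0) (.leaf 0x1000002))) (.node 2580 (.node 2579 (.leaf 0x0) (.leaf 0x4030002)) (.node 2581 (.leaf 0x102000003) (.node 2582 (.leaf 0x0) (.leaf 0x30001))))))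

def schUS_291 : Store := (.node 2592 (.node 2587 (.node 2585 (.node 2584 (.leaf 0x102000003) (.leaf 0x2010002)) (.node 2586 (.leaf 0x201000003) (.leaf 0x10100000004))) (.node 2589 (.node 2588 (.leaf 0x2010100000005) (.leaf 0x40001)) (.node 2590 (.leaf 0x10100000004) (.node 2591 (.leaf 0x0) (.leaf 0x201000003))))) (.node 2596 (.node 2594 (.node 2593 (.leaf 0x20002) (.leaf 0x100000003)) (.node 2595 (.leaf 0x20101000004) (.leaf 0x2000002))) (.node 2598 (.node 2597 (.leaf 0x40001) (.leaf 0x2010002)) (.node 2599 (.leaf 0x40001) (.node 2600 (.leaf 0x20101000004) (.leaf 0x40001))))))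

def schUS_292 : Store := (.node 2583 schUS_290 schUS_291)

def schUS_293 : Store := (.node 2566 schUS_289 schUS_292)

def schUS_294 : Store := (.node 2609 (.node 2605 (.node 2603 (.node 2602 (.leaf 0x3010002) (.leaf 0x4000002)) (.node 2604 (.leaf 0x101000003) (.leaf 0x20100000004))) (.node 2607 (.node 2606 (.leaf 0x1000002) (.leaf 0x1000002)) (.node 2608 (.leaf 0x0) (.leaf 0x0)))) (.node 2613 (.node 2611 (.node 2610 (.leaf 0x1000002) (.leaf 0x2)) (.node 2612 (.leaf 0x10200000004) (.leaf 0x20001))) (.node 2615 (.node 2614 (.leaf 0x100000003) (.leaf 0x4030002)) (.node 2616 (.leaf 0x1000002) (.node 2617 (.leaf 0x1000002) (.leaf 0x4030002))))))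

def schUS_295 : Store := (.node 2627 (.node 2622 (.node 2620 (.node 2619 (.leaf 0x0) (.leaf 0x0)) (.node 2621 (.leaf 0x0) (.leaf 0x201010003))) (.node 2624 (.node 2623 (.leaf 0x1020002) (.leaf 0x3010002)) (.node 2625 (.leaf 0x10200000004) (.node 2626 (.leaf 0x400000003) (.leaf 0x40001))))) (.node 2631 (.node 2629 (.node 2628 (.leaf 0x1020002) (.leaf 0x20002)) (.node 2630 (.leaf 0x40001) (.leaf 0x10001))) (.node 2633 (.node 2632 (.leaf 0x4030002) (.leaf 0x102000003)) (.node 2634 (.leaf 0x0) (.node 2635 (.leaf 0x200000003) (.leaf 0x200000003))))))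

def schUS_296 : Store := (.node 2618 schUS_294 schUS_295)

def schUS_297 : Store := (.node 2644 (.node 2640 (.node 2638 (.node 2637 (.leaf 0x201010003) (.leaf 0x201010003)) (.node 2639 (.leaf 0x100000003) (.leaf 0x20001))) (.node 2642 (.node 2641 (.leaf 0x1) (.leaf 0x0)) (.node 2643 (.leaf 0x2010100000005) (.leaf 0x40001)))) (.node 2648 (.node 2646 (.node 2645 (.leaf 0x4000002) (.leaf 0x2)) (.node 2647 (.leaf 0x4000002) (.leaf 0x2))) (.node 2650 (.node 2649 (.leaf 0x201010004) (.leaf 0x400000003)) (.node 2651 (.leaf 0x0) (.node 2652 (.leaf 0x201000003) (.leaf 0x2010100000005))))))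

def schUS_298 : Store := (.node 2662 (.node 2657 (.node 2655 (.node 2654 (.leaf 0x0) (.leaf 0x2000002)) (.node 2656 (.leaf 0x201000003) (.leaf 0x201010004))) (.node 2659 (.node 2658 (.leaf 0x2010003) (.leaf 0x40001)) (.node 2660 (.leaf 0x10200000004) (.node 2661 (.leaf 0x100000003) (.leaf 0x20002))))) (.node 2666 (.node 2664 (.node 2663 (.leaf 0x0) (.leaf 0x1)) (.node 2665 (.leaf 0x2) (.leaf 0x20101000004))) (.node 2668 (.node 2667 (.leaf 0x20101000004) (.leaf 0x201010004)) (.node 2669 (.leaf 0x4030002) (.node 2670 (.leaf 0x201010003) (.leaf 0x10001))))))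

def schUS_299 : Store := (.node 2653 schUS_297 schUS_298)

def schUS_300 : Store := (.node 2636 schUS_296 schUS_299)

def schUS_301 : Store := (.node 2601 schUS_293 schUS_300)

def schUS_302 : Store := (.node 2679 (.node 2675 (.node 2673 (.node 2672 (.leaf 0x3010002) (.leaf 0x102000003)) (.node 2674 (.leaf 0x30001) (.leaf 0x2000002))) (.node 2677 (.node 2676 (.leaf 0x201010004) (.leaf 0x201010004)) (.node 2678 (.leaf 0x2000002) (.leaf 0x40001)))) (.node 2683 (.node 2681 (.node 2680 (.leaf 0x0) (.leaf 0x100000003)) (.node 2682 (.leaf 0x0) (.leaf 0x102000003))) (.node 2685 (.node 2684 (.leaf 0x301010003) (.leaf 0x0)) (.node 2686 (.leaf 0x2) (.node 2687 (.leaf 0x301010003) (.leaf 0x101000003))))))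

def schUS_303 : Store := (.node 2697 (.node 2692 (.node 2690 (.node 2689 (.leaf 0x2) (.leaf 0x2000002)) (.node 2691 (.leaf 0x0) (.leaf 0x1020002))) (.node 2694 (.node 2693 (.leaf 0x20001) (.leaf 0x20100000004)) (.node 2695 (.leaf 0x2) (.node 2696 (.leaf 0x2) (.leaf 0x1000002))))) (.node 2701 (.node 2699 (.node 2698 (.leaf 0x4030002) (.leaf 0x20001)) (.node 2700 (.leaf 0x0) (.leaf 0x201010003))) (.node 2703 (.node 2702 (.leaf 0x201010004) (.leaf 0x301010003)) (.node 2704 (.leaf 0x101000003) (.node 2705 (.leaf 0x40001) (.leaf 0x0))))))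

def schUS_304 : Store := (.node 2688 schUS_302 schUS_303)

def schUS_305 : Store := (.node 2714 (.node 2710 (.node 2708 (.node 2707 (.leaf 0x1000002) (.leaf 0x301010003)) (.node 2709 (.leaf 0x20001) (.leaf 0x10001))) (.node 2712 (.node 2711 (.leaf 0x100000003) (.leaf 0x0)) (.node 2713 (.leaf 0x30001) (.leaf 0x0)))) (.node 2718 (.node 2716 (.node 2715 (.leaf 0x20002) (.leaf 0x4000002)) (.node 2717 (.leaf 0x20100000004) (.leaf 0x1010002))) (.node 2720 (.node 2719 (.leaf 0x20002) (.leaf 0x30001)) (.node 2721 (.leaf 0x10001) (.node 2722 (.leaf 0x3010002) (.leaf 0x10200000004))))))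

def schUS_306 : Store := (.node 2732 (.node 2727 (.node 2725 (.node 2724 (.leaf 0x0) (.leaf 0x4000002)) (.node 2726 (.leaf 0x200000003) (.leaf 0x2010003))) (.node 2729 (.node 2728 (.leaf 0x1010002) (.leaf 0x30001)) (.node 2730 (.leaf 0x2) (.node 2731 (.leaf 0x200000003) (.leaf 0x20101000004))))) (.node 2736 (.node 2734 (.node 2733 (.leaf 0x0) (.leaf 0x30001)) (.node 2735 (.leaf 0x4000002) (.leaf 0x10100000004))) (.node 2738 (.node 2737 (.leaf 0x201000003) (.leaf 0x20001)) (.node 2739 (.leaf 0x100020003) (.node 2740 (.leaf 0x10100000004) (.leaf 0x30001))))))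

def schUS_307 : Store := (.node 2723 schUS_305 schUS_306)

def schUS_308 : Store := (.node 2706 schUS_304 schUS_307)

def schUS_309 : Store := (.node 2749 (.node 2745 (.node 2743 (.node 2742 (.leaf 0x2000002) (.leaf 0x40001)) (.node 2744 (.leaf 0x201000003) (.leaf 0x201010003))) (.node 2747 (.node 2746 (.leaf 0x201010003) (.leaf 0x200000003)) (.node 2748 (.leaf 0x0) (.leaf 0x301010003)))) (.node 2753 (.node 2751 (.node 2750 (.leaf 0x0) (.leaf 0x0)) (.node 2752 (.leaf 0x2010002) (.leaf 0x4030002))) (.node 2755 (.node 2754 (.leaf 0x100000003) (.leaf 0x102000003)) (.node 2756 (.leaf 0x201000003) (.node 2757 (.leaf 0x102000003) (.leaf 0x0))))))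

def schUS_310 : Store := (.node 2767 (.node 2762 (.node 2760 (.node 2759 (.leaf 0x201000003) (.leaf 0x20101000004)) (.node 2761 (.leaf 0x4000002) (.leaf 0x20101000004))) (.node 2764 (.node 2763 (.leaf 0x10100000004) (.leaf 0x0)) (.node 2765 (.leaf 0x201000003) (.node 2766 (.leaf 0x2010002) (.leaf 0x20101000004))))) (.node 2771 (.node 2769 (.node 2768 (.leaf 0x20001) (.leaf 0x3010002)) (.node 2770 (.leaf 0x10001) (.leaf 0x0))) (.node 2773 (.node 2772 (.leaf 0x101000003) (.leaf 0x20100000004)) (.node 2774 (.leaf 0x201010003) (.node 2775 (.leaf 0x1) (.leaf 0x2010002))))))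

def schUS_311 : Store := (.node 2758 schUS_309 schUS_310)

def schUS_312 : Store := (.node 2785 (.node 2780 (.node 2778 (.node 2777 (.leaf 0x301010003) (.leaf 0x101000003)) (.node 2779 (.leaf 0x30001) (.leaf 0x20101000004))) (.node 2782 (.node 2781 (.leaf 0x10200000004) (.leaf 0x0)) (.node 2783 (.leaf 0x2000002) (.node 2784 (.leaf 0x10200000004) (.leaf 0x20001))))) (.node 2789 (.node 2787 (.node 2786 (.leaf 0x1) (.leaf 0x2010003)) (.node 2788 (.leaf 0x20101000004) (.leaf 0x0))) (.node 2791 (.node 2790 (.leaf 0x101000003) (.leaf 0x20001)) (.node 2792 (.leaf 0x201000003) (.node 2793 (.leaf 0x1) (.leaf 0x0))))))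

def schUS_313 : Store := (.node 2803 (.node 2798 (.node 2796 (.node 2795 (.leaf 0x3010002) (.leaf 0x101000003)) (.node 2797 (.leaf 0x4000002) (.leaf 0x201000003))) (.node 2800 (.node 2799 (.leaf 0x40001) (.leaf 0x4000002)) (.node 2801 (.leaf 0x20100000004) (.node 2802 (.leaf 0x10001) (.leaf 0x1020002))))) (.node 2807 (.node 2805 (.node 2804 (.leaf 0x0) (.leaf 0x1010002)) (.node 2806 (.leaf 0x1010002) (.leaf 0x2010002))) (.node 2809 (.node 2808 (.leaf 0x2010003) (.leaf 0x0)) (.node 2810 (.leaf 0x100020003) (.node 2811 (.leaf 0x2010003) (.leaf 0x101000003))))))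

def schUS_314 : Store := (.node 2794 schUS_312 schUS_313)

def schUS_315 : Store := (.node 2776 schUS_311 schUS_314)

def schUS_316 : Store := (.node 2741 schUS_308 schUS_315)

def schUS_317 : Store := (.node 2671 schUS_301 schUS_316)

def schUS_318 : Store := (.node 2531 schUS_286 schUS_317)

def schUS_319 : Store := (.node 2820 (.node 2816 (.node 2814 (.node 2813 (.leaf 0x0) (.leaf 0x30001)) (.node 2815 (.leaf 0x100000003) (.leaf 0x0))) (.node 2818 (.node 2817 (.leaf 0x40001) (.leaf 0x10100000004)) (.node 2819 (.leaf 0x201000003) (.leaf 0x3010002)))) (.node 2824 (.node 2822 (.node 2821 (.leaf 0x4000002) (.leaf 0x2010002)) (.node 2823 (.leaf 0x10200000004) (.leaf 0x100020003))) (.node 2826 (.node 2825 (.leaf 0x10100000004) (.leaf 0x100000003)) (.node 2827 (.leaf 0x0) (.node 2828 (.leaf 0x40001) (.leaf 0x201010004))))))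

def schUS_320 : Store := (.node 2838 (.node 2833 (.node 2831 (.node 2830 (.leaf 0x10100000004) (.leaf 0x1)) (.node 2832 (.leaf 0x1020002) (.leaf 0x1010002))) (.node 2835 (.node 2834 (.leaf 0x1) (.leaf 0x10100000004)) (.node 2836 (.leaf 0x10200000004) (.node 2837 (.leaf 0x30001) (.leaf 0x3010002))))) (.node 2842 (.node 2840 (.node 2839 (.leaf 0x201010003) (.leaf 0x0)) (.node 2841 (.leaf 0x10200000004) (.leaf 0x201010003))) (.node 2844 (.node 2843 (.leaf 0x1) (.leaf 0x0)) (.node 2845 (.leaf 0x102000003) (.node 2846 (.leaf 0x2010003) (.leaf 0x2010003))))))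

def schUS_321 : Store := (.node 2829 schUS_319 schUS_320)

def schUS_322 : Store := (.node 2855 (.node 2851 (.node 2849 (.node 2848 (.leaf 0x102000003) (.leaf 0x1010002)) (.node 2850 (.leaf 0x2010003) (.leaf 0x20101000004))) (.node 2853 (.node 2852 (.leaf 0x200000003) (.leaf 0x20100000004)) (.node 2854 (.leaf 0x2000002) (.leaf 0x1010002)))) (.node 2859 (.node 2857 (.node 2856 (.leaf 0x0) (.leaf 0x201000003)) (.node 2858 (.leaf 0x20101000004) (.leaf 0x1010002))) (.node 2861 (.node 2860 (.leaf 0x400000003) (.leaf 0x20002)) (.node 2862 (.leaf 0x200000003) (.node 2863 (.leaf 0x3010002) (.leaf 0x200000003))))))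

def schUS_323 : Store := (.node 2873 (.node 2868 (.node 2866 (.node 2865 (.leaf 0x20101000004) (.leaf 0x100020003)) (.node 2867 (.leaf 0x0) (.leaf 0x2))) (.node 2870 (.node 2869 (.leaf 0x1) (.leaf 0x1)) (.node 2871 (.leaf 0x20100000004) (.node 2872 (.leaf 0x20002) (.leaf 0x2010100000005))))) (.node 2877 (.node 2875 (.node 2874 (.leaf 0x1010002) (.leaf 0x100000003)) (.node 2876 (.leaf 0x1010002) (.leaf 0x1))) (.node 2879 (.node 2878 (.leaf 0x2010003) (.leaf 0x0)) (.node 2880 (.leaf 0x1) (.node 2881 (.leaf 0x4030002) (.leaf 0x20100000004))))))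

def schUS_324 : Store := (.node 2864 schUS_322 schUS_323)

def schUS_325 : Store := (.node 2847 schUS_321 schUS_324)

def schUS_326 : Store := (.node 2890 (.node 2886 (.node 2884 (.node 2883 (.leaf 0x100000003) (.leaf 0x2010002)) (.node 2885 (.leaf 0x1) (.leaf 0x0))) (.node 2888 (.node 2887 (.leaf 0x1000002) (.leaf 0x400000003)) (.node 2889 (.leaf 0x1) (.leaf 0x0)))) (.node 2894 (.node 2892 (.node 2891 (.leaf 0x201000003) (.leaf 0x3010002)) (.node 2893 (.leaf 0x1000002) (.leaf 0x0))) (.node 2896 (.node 2895 (.leaf 0x2010003) (.leaf 0x102000003)) (.node 2897 (.leaf 0x2010003) (.node 2898 (.leaf 0x101000003) (.leaf 0x1010002))))))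

def schUS_327 : Store := (.node 2908 (.node 2903 (.node 2901 (.node 2900 (.leaf 0x4000002) (.leaf 0x20100000004)) (.node 2902 (.leaf 0x20100000004) (.leaf 0x2010003))) (.node 2905 (.node 2904 (.leaf 0x1) (.leaf 0x0)) (.node 2906 (.leaf 0x3010002) (.node 2907 (.leaf 0x20001) (.leaf 0x201000003))))) (.node 2912 (.node 2910 (.node 2909 (.leaf 0x10001) (.leaf 0x301010003)) (.node 2911 (.leaf 0x1) (.leaf 0x102000003))) (.node 2914 (.node 2913 (.leaf 0x100000003) (.leaf 0x20100000004)) (.node 2915 (.leaf 0x2010100000005) (.node 2916 (.leaf 0x201000003) (.leaf 0x0))))))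

def schUS_328 : Store := (.node 2899 schUS_326 schUS_327)

def schUS_329 : Store := (.node 2925 (.node 2921 (.node 2919 (.node 2918 (.leaf 0x4000002) (.leaf 0x201000003)) (.node 2920 (.leaf 0x3010002) (.leaf 0x2000002))) (.node 2923 (.node 2922 (.leaf 0x30001) (.leaf 0x400000003)) (.node 2924 (.leaf 0x101000003) (.leaf 0x3010002)))) (.node 2929 (.node 2927 (.node 2926 (.leaf 0x100020003) (.leaf 0x301010003)) (.node 2928 (.leaf 0x0) (.leaf 0x101000003))) (.node 2931 (.node 2930 (.leaf 0x0) (.leaf 0x0)) (.node 2932 (.leaf 0x400000003) (.node 2933 (.leaf 0x20002) (.leaf 0x1))))))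

def schUS_330 : Store := (.node 2943 (.node 2938 (.node 2936 (.node 2935 (.leaf 0x102000003) (.leaf 0x1)) (.node 2937 (.leaf 0x200000003) (.leaf 0x20100000004))) (.node 2940 (.node 2939 (.leaf 0x1000002) (.leaf 0x102000003)) (.node 2941 (.leaf 0x1010002) (.node 2942 (.leaf 0x102000003) (.leaf 0x1))))) (.node 2947 (.node 2945 (.node 2944 (.leaf 0x20100000004) (.leaf 0x0)) (.node 2946 (.leaf 0x20001) (.leaf 0x2010100000005))) (.node 2949 (.node 2948 (.leaf 0x2010100000005) (.leaf 0x1000002)) (.node 2950 (.leaf 0x200000003) (.node 2951 (.leaf 0x20100000004) (.leaf 0x0))))))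

def schUS_331 : Store := (.node 2934 schUS_329 schUS_330)

def schUS_332 : Store := (.node 2917 schUS_328 schUS_331)

def schUS_333 : Store := (.node 2882 schUS_325 schUS_332)

def schUS_334 : Store := (.node 2960 (.node 2956 (.node 2954 (.node 2953 (.leaf 0x1) (.leaf 0x2010003)) (.node 2955 (.leaf 0x10001) (.leaf 0x2010002))) (.node 2958 (.node 2957 (.leaf 0x10200000004) (.leaf 0x2)) (.node 2959 (.leaf 0x2010002) (.leaf 0x101000003)))) (.node 2964 (.node 2962 (.node 2961 (.leaf 0x20100000004) (.leaf 0x201000003)) (.node 2963 (.leaf 0x0) (.leaf 0x101000003))) (.node 2966 (.node 2965 (.leaf 0x201000003) (.leaf 0x1000002)) (.node 2967 (.leaf 0x101000003) (.node 2968 (.leaf 0x201000003) (.leaf 0x10001))))))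

def schUS_335 : Store := (.node 2978 (.node 2973 (.node 2971 (.node 2970 (.leaf 0x400000003) (.leaf 0x2)) (.node 2972 (.leaf 0x1010002) (.leaf 0x201010003))) (.node 2975 (.node 2974 (.leaf 0x10200000004) (.leaf 0x10100000004)) (.node 2976 (.leaf 0x10100000004) (.node 2977 (.leaf 0x0) (.leaf 0x0))))) (.node 2982 (.node 2980 (.node 2979 (.leaf 0x10001) (.leaf 0x0)) (.node 2981 (.leaf 0x3010002) (.leaf 0x201010003))) (.node 2984 (.node 2983 (.leaf 0x4000002) (.leaf 0x0)) (.node 2985 (.leaf 0x1000002) (.node 2986 (.leaf 0x1000002) (.leaf 0x4030002))))))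

def schUS_336 : Store := (.node 2969 schUS_334 schUS_335)

def schUS_337 : Store := (.node 2995 (.node 2991 (.node 2989 (.node 2988 (.leaf 0x4030002) (.leaf 0x1000002)) (.node 2990 (.leaf 0x1020002) (.leaf 0x20001))) (.node 2993 (.node 2992 (.leaf 0x1010002) (.leaf 0x0)) (.node 2994 (.leaf 0x301010003) (.leaf 0x1)))) (.node 2999 (.node 2997 (.node 2996 (.leaf 0x10001) (.leaf 0x4000002)) (.node 2998 (.leaf 0x40001) (.leaf 0x200000003))) (.node 3001 (.node 3000 (.leaf 0x201010004) (.leaf 0x0)) (.node 3002 (.leaf 0x201010003) (.node 3003 (.leaf 0x1) (.leaf 0x4000002))))))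

def schUS_338 : Store := (.node 3013 (.node 3008 (.node 3006 (.node 3005 (.leaf 0x102000003) (.leaf 0x10200000004)) (.node 3007 (.leaf 0x20001) (.leaf 0x100000003))) (.node 3010 (.node 3009 (.leaf 0x10001) (.leaf 0x30001)) (.node 3011 (.leaf 0x201000003) (.node 3012 (.leaf 0x400000003) (.leaf 0x0))))) (.node 3017 (.node 3015 (.node 3014 (.leaf 0x10200000004) (.leaf 0x2010003)) (.node 3016 (.leaf 0x2010100000005) (.leaf 0x201000003))) (.node 3019 (.node 3018 (.leaf 0x2010002) (.leaf 0x101000003)) (.node 3020 (.leaf 0x2010002) (.node 3021 (.leaf 0x2010003) (.leaf 0x200000003))))))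

def schUS_339 : Store := (.node 3004 schUS_337 schUS_338)

def schUS_340 : Store := (.node 2987 schUS_336 schUS_339)

def schUS_341 : Store := (.node 3030 (.node 3026 (.node 3024 (.node 3023 (.leaf 0x2000002) (.leaf 0x0)) (.node 3025 (.leaf 0x40001) (.leaf 0x20001))) (.node 3028 (.node 3027 (.leaf 0x2) (.leaf 0x2010003)) (.node 3029 (.leaf 0x102000003) (.leaf 0x2)))) (.node 3034 (.node 3032 (.node 3031 (.leaf 0x1020002) (.leaf 0x2)) (.node 3033 (.leaf 0x10001) (.leaf 0x10200000004))) (.node 3036 (.node 3035 (.leaf 0x201000003) (.leaf 0x0)) (.node 3037 (.leaf 0x201010003) (.node 3038 (.leaf 0x4000002) (.leaf 0x201000003))))))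

def schUS_342 : Store := (.node 3048 (.node 3043 (.node 3041 (.node 3040 (.leaf 0x2) (.leaf 0x10200000004)) (.node 3042 (.leaf 0x101000003) (.leaf 0x1))) (.node 3045 (.node 3044 (.leaf 0x20101000004) (.leaf 0x0)) (.node 3046 (.leaf 0x201000003) (.node 3047 (.leaf 0x3010002) (.leaf 0x200000003))))) (.node 3052 (.node 3050 (.node 3049 (.leaf 0x201000003) (.leaf 0x1010002)) (.node 3051 (.leaf 0x102000003) (.leaf 0x2000002))) (.node 3054 (.node 3053 (.leaf 0x1) (.leaf 0x102000003)) (.node 3055 (.leaf 0x201000003) (.node 3056 (.leaf 0x201000003) (.leaf 0x200000003))))))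

def schUS_343 : Store := (.node 3039 schUS_341 schUS_342)

def schUS_344 : Store := (.node 3066 (.node 3061 (.node 3059 (.node 3058 (.leaf 0x201010003) (.leaf 0x0)) (.node 3060 (.leaf 0x2010100000005) (.leaf 0x201000003))) (.node 3063 (.node 3062 (.leaf 0x2010003) (.leaf 0x200000003)) (.node 3064 (.leaf 0x10100000004) (.node 3065 (.leaf 0x0) (.leaf 0x101000003))))) (.node 3070 (.node 3068 (.node 3067 (.leaf 0x100020003) (.leaf 0x201000003)) (.node 3069 (.leaf 0x201000003) (.leaf 0x201010004))) (.node 3072 (.node 3071 (.leaf 0x301010003) (.leaf 0x2000002)) (.node 3073 (.leaf 0x10001) (.node 3074 (.leaf 0x20001) (.leaf 0x201000003))))))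

def schUS_345 : Store := (.node 3084 (.node 3079 (.node 3077 (.node 3076 (.leaf 0x1010002) (.leaf 0x201010004)) (.node 3078 (.leaf 0x0) (.leaf 0x201000003))) (.node 3081 (.node 3080 (.leaf 0x0) (.leaf 0x301010003)) (.node 3082 (.leaf 0x20001) (.node 3083 (.leaf 0x10001) (.leaf 0x0))))) (.node 3088 (.node 3086 (.node 3085 (.leaf 0x10200000004) (.leaf 0x40001)) (.node 3087 (.leaf 0x10200000004) (.leaf 0x200000003))) (.node 3090 (.node 3089 (.leaf 0x101000003) (.leaf 0x200000003)) (.node 3091 (.leaf 0x20101000004) (.node 3092 (.leaf 0x1) (.leaf 0x1020002))))))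

def schUS_346 : Store := (.node 3075 schUS_344 schUS_345)

def schUS_347 : Store := (.node 3057 schUS_343 schUS_346)

def schUS_348 : Store := (.node 3022 schUS_340 schUS_347)

def schUS_349 : Store := (.node 2952 schUS_333 schUS_348)

def schUS_350 : Store := (.node 3101 (.node 3097 (.node 3095 (.node 3094 (.leaf 0x40001) (.leaf 0x1000002)) (.node 3096 (.leaf 0x0) (.leaf 0x4030002))) (.node 3099 (.node 3098 (.leaf 0x201000003) (.leaf 0x4030002)) (.node 3100 (.leaf 0x301010003) (.leaf 0x201000003)))) (.node 3105 (.node 3103 (.node 3102 (.leaf 0x20002) (.leaf 0x100020003)) (.node 3104 (.leaf 0x2000002) (.leaf 0x4030002))) (.node 3107 (.node 3106 (.leaf 0x100020003) (.leaf 0x4030002)) (.node 3108 (.leaf 0x0) (.node 3109 (.leaf 0x2000002) (.leaf 0x4000002))))))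

def schUS_351 : Store := (.node 3119 (.node 3114 (.node 3112 (.node 3111 (.leaf 0x201010003) (.leaf 0x400000003)) (.node 3113 (.leaf 0x20101000004) (.leaf 0x1000002))) (.node 3116 (.node 3115 (.leaf 0x201000003) (.leaf 0x1000002)) (.node 3117 (.leaf 0x0) (.node 3118 (.leaf 0x4030002) (.leaf 0x1000002))))) (.node 3123 (.node 3121 (.node 3120 (.leaf 0x2010100000005) (.leaf 0x200000003)) (.node 3122 (.leaf 0x301010003) (.leaf 0x0))) (.node 3125 (.node 3124 (.leaf 0x4030002) (.leaf 0x100020003)) (.node 3126 (.leaf 0x3010002) (.node 3127 (.leaf 0x10100000004) (.leaf 0x1))))))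

def schUS_352 : Store := (.node 3110 schUS_350 schUS_351)

def schUS_353 : Store := (.node 3136 (.node 3132 (.node 3130 (.node 3129 (.leaf 0x201000003) (.leaf 0x4000002)) (.node 3131 (.leaf 0x4000002) (.leaf 0x1020002))) (.node 3134 (.node 3133 (.leaf 0x200000003) (.leaf 0x0)) (.node 3135 (.leaf 0x100020003) (.leaf 0x100000003)))) (.node 3140 (.node 3138 (.node 3137 (.leaf 0x200000003) (.leaf 0x30001)) (.node 3139 (.leaf 0x30001) (.leaf 0x0))) (.node 3142 (.node 3141 (.leaf 0x20100000004) (.leaf 0x30001)) (.node 3143 (.leaf 0x0) (.node 3144 (.leaf 0x3010002) (.leaf 0x4000002))))))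

def schUS_354 : Store := (.node 3154 (.node 3149 (.node 3147 (.node 3146 (.leaf 0x1020002) (.leaf 0x100020003)) (.node 3148 (.leaf 0x20101000004) (.leaf 0x20100000004))) (.node 3151 (.node 3150 (.leaf 0x100000003) (.leaf 0x40001)) (.node 3152 (.leaf 0x0) (.node 3153 (.leaf 0x10100000004) (.leaf 0x30001))))) (.node 3158 (.node 3156 (.node 3155 (.leaf 0x2010100000005) (.leaf 0x10001)) (.node 3157 (.leaf 0x20101000004) (.leaf 0x3010002))) (.node 3160 (.node 3159 (.leaf 0x2010100000005) (.leaf 0x1)) (.node 3161 (.leaf 0x4000002) (.node 3162 (.leaf 0x201000003) (.leaf 0x200000003))))))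

def schUS_355 : Store := (.node 3145 schUS_353 schUS_354)

def schUS_356 : Store := (.node 3128 schUS_352 schUS_355)

def schUS_357 : Store := (.node 3171 (.node 3167 (.node 3165 (.node 3164 (.leaf 0x0) (.leaf 0x2010003)) (.node 3166 (.leaf 0x30001) (.leaf 0x102000003))) (.node 3169 (.node 3168 (.leaf 0x102000003) (.leaf 0x100000003)) (.node 3170 (.leaf 0x201010003) (.leaf 0x100000003)))) (.node 3175 (.node 3173 (.node 3172 (.leaf 0x100020003) (.leaf 0x10001)) (.node 3174 (.leaf 0x301010003) (.leaf 0x1010002))) (.node 3177 (.node 3176 (.leaf 0x0) (.leaf 0x101000003)) (.node 3178 (.leaf 0x100020003) (.node 3179 (.leaf 0x301010003) (.leaf 0x10001))))))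

def schUS_358 : Store := (.node 3189 (.node 3184 (.node 3182 (.node 3181 (.leaf 0x1020002) (.leaf 0x1010002)) (.node 3183 (.leaf 0x201010004) (.leaf 0x10100000004))) (.node 3186 (.node 3185 (.leaf 0x0) (.leaf 0x1010002)) (.node 3187 (.leaf 0x201000003) (.node 3188 (.leaf 0x30001) (.leaf 0x10100000004))))) (.node 3193 (.node 3191 (.node 3190 (.leaf 0x100020003) (.leaf 0x3010002)) (.node 3192 (.leaf 0x102000003) (.leaf 0x2010100000005))) (.node 3195 (.node 3194 (.leaf 0x20100000004) (.leaf 0x100020003)) (.node 3196 (.leaf 0x201000003) (.node 3197 (.leaf 0x100020003) (.leaf 0x10001))))))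

def schUS_359 : Store := (.node 3180 schUS_357 schUS_358)

def schUS_360 : Store := (.node 3207 (.node 3202 (.node 3200 (.node 3199 (.leaf 0x201000003) (.leaf 0x0)) (.node 3201 (.leaf 0x4000002) (.leaf 0x0))) (.node 3204 (.node 3203 (.leaf 0x301010003) (.leaf 0x2010100000005)) (.node 3205 (.leaf 0x201010004) (.node 3206 (.leaf 0x400000003) (.leaf 0x40001))))) (.node 3211 (.node 3209 (.node 3208 (.leaf 0x1) (.leaf 0x30001)) (.node 3210 (.leaf 0x40001) (.leaf 0x0))) (.node 3213 (.node 3212 (.leaf 0x4000002) (.leaf 0x100020003)) (.node 3214 (.leaf 0x100020003) (.node 3215 (.leaf 0x30001) (.leaf 0x2000002))))))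

def schUS_361 : Store := (.node 3225 (.node 3220 (.node 3218 (.node 3217 (.leaf 0x20100000004) (.leaf 0x2010002)) (.node 3219 (.leaf 0x30001) (.leaf 0x20100000004))) (.node 3222 (.node 3221 (.leaf 0x301010003) (.leaf 0x1)) (.node 3223 (.leaf 0x4000002) (.node 3224 (.leaf 0x102000003) (.leaf 0x0))))) (.node 3229 (.node 3227 (.node 3226 (.leaf 0x1000002) (.leaf 0x20001)) (.node 3228 (.leaf 0x2010002) (.leaf 0x2010100000005))) (.node 3231 (.node 3230 (.leaf 0x2010100000005) (.leaf 0x4030002)) (.node 3232 (.leaf 0x20100000004) (.node 3233 (.leaf 0x200000003) (.leaf 0x10200000004))))))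

def schUS_362 : Store := (.node 3216 schUS_360 schUS_361)

def schUS_363 : Store := (.node 3198 schUS_359 schUS_362)

def schUS_364 : Store := (.node 3163 schUS_356 schUS_363)

def schUS_365 : Store := (.node 3242 (.node 3238 (.node 3236 (.node 3235 (.leaf 0x10200000004) (.leaf 0x20001)) (.node 3237 (.leaf 0x4030002) (.leaf 0x0))) (.node 3240 (.node 3239 (.leaf 0x4030002) (.leaf 0x102000003)) (.node 3241 (.leaf 0x20100000004) (.leaf 0x20101000004)))) (.node 3246 (.node 3244 (.node 3243 (.leaf 0x1000002) (.leaf 0x201010003)) (.node 3245 (.leaf 0x4030002) (.leaf 0x102000003))) (.node 3248 (.node 3247 (.leaf 0x2010100000005) (.leaf 0x1000002)) (.node 3249 (.leaf 0x2010100000005) (.node 3250 (.leaf 0x0) (.leaf 0x301010003))))))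

def schUS_366 : Store := (.node 3260 (.node 3255 (.node 3253 (.node 3252 (.leaf 0x200000003) (.leaf 0x101000003)) (.node 3254 (.leaf 0x0) (.leaf 0x1000002))) (.node 3257 (.node 3256 (.leaf 0x201010004) (.leaf 0x201000003)) (.node 3258 (.leaf 0x4030002) (.node 3259 (.leaf 0x201000003) (.leaf 0x4030002))))) (.node 3264 (.node 3262 (.node 3261 (.leaf 0x1020002) (.leaf 0x1020002)) (.node 3263 (.leaf 0x20002) (.leaf 0x100000003))) (.node 3266 (.node 3265 (.leaf 0x4030002) (.leaf 0x0)) (.node 3267 (.leaf 0x10001) (.node 3268 (.leaf 0x400000003) (.leaf 0x201000003))))))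

def schUS_367 : Store := (.node 3251 schUS_365 schUS_366)

def schUS_368 : Store := (.node 3277 (.node 3273 (.node 3271 (.node 3270 (.leaf 0x4030002) (.leaf 0x20101000004)) (.node 3272 (.leaf 0x20101000004) (.leaf 0x1))) (.node 3275 (.node 3274 (.leaf 0x2010003) (.leaf 0x10001)) (.node 3276 (.leaf 0x10001) (.leaf 0x1000002)))) (.node 3281 (.node 3279 (.node 3278 (.leaf 0x0) (.leaf 0x1)) (.node 3280 (.leaf 0x1000002) (.leaf 0x3010002))) (.node 3283 (.node 3282 (.leaf 0x2010003) (.leaf 0x2)) (.node 3284 (.leaf 0x201010004) (.node 3285 (.leaf 0x10200000004) (.leaf 0x1000002))))))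

def schUS_369 : Store := (.node 3295 (.node 3290 (.node 3288 (.node 3287 (.leaf 0x1020002) (.leaf 0x4030002)) (.node 3289 (.leaf 0x1000002) (.leaf 0x0))) (.node 3292 (.node 3291 (.leaf 0x200000003) (.leaf 0x201010004)) (.node 3293 (.leaf 0x3010002) (.node 3294 (.leaf 0x2000002) (.leaf 0x3010002))))) (.node 3299 (.node 3297 (.node 3296 (.leaf 0x4000002) (.leaf 0x201010003)) (.node 3298 (.leaf 0x0) (.leaf 0x3010002))) (.node 3301 (.node 3300 (.leaf 0x101000003) (.leaf 0x100020003)) (.node 3302 (.leaf 0x100020003) (.node 3303 (.leaf 0x301010003) (.leaf 0x1020002))))))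

def schUS_370 : Store := (.node 3286 schUS_368 schUS_369)

def schUS_371 : Store := (.node 3269 schUS_367 schUS_370)

def schUS_372 : Store := (.node 3312 (.node 3308 (.node 3306 (.node 3305 (.leaf 0x3010002) (.leaf 0x4000002)) (.node 3307 (.leaf 0x0) (.leaf 0x201010003))) (.node 3310 (.node 3309 (.leaf 0x4000002) (.leaf 0x4000002)) (.node 3311 (.leaf 0x102000003) (.leaf 0x101000003)))) (.node 3316 (.node 3314 (.node 3313 (.leaf 0x0) (.leaf 0x2010100000005)) (.node 3315 (.leaf 0x400000003) (.leaf 0x10001))) (.node 3318 (.node 3317 (.leaf 0x10001) (.leaf 0x400000003)) (.node 3319 (.leaf 0x201010004) (.node 3320 (.leaf 0x201010004) (.leaf 0x1))))))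

def schUS_373 : Store := (.node 3330 (.node 3325 (.node 3323 (.node 3322 (.leaf 0x20101000004) (.leaf 0x4000002)) (.node 3324 (.leaf 0x400000003) (.leaf 0x2000002))) (.node 3327 (.node 3326 (.leaf 0x4030002) (.leaf 0x4030002)) (.node 3328 (.leaf 0x201000003) (.node 3329 (.leaf 0x4030002) (.leaf 0x0))))) (.node 3334 (.node 3332 (.node 3331 (.leaf 0x100020003) (.leaf 0x0)) (.node 3333 (.leaf 0x20002) (.leaf 0x20101000004))) (.node 3336 (.node 3335 (.leaf 0x40001) (.leaf 0x2010003)) (.node 3337 (.leaf 0x100000003) (.node 3338 (.leaf 0x201000003) (.leaf 0x400000003))))))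

def schUS_374 : Store := (.node 3321 schUS_372 schUS_373)

def schUS_375 : Store := (.node 3348 (.node 3343 (.node 3341 (.node 3340 (.leaf 0x1000002) (.leaf 0x100020003)) (.node 3342 (.leaf 0x1000002) (.leaf 0x0))) (.node 3345 (.node 3344 (.leaf 0x20001) (.leaf 0x20100000004)) (.node 3346 (.leaf 0x400000003) (.node 3347 (.leaf 0x20002) (.leaf 0x20101000004))))) (.node 3352 (.node 3350 (.node 3349 (.leaf 0x201010004) (.leaf 0x10001)) (.node 3351 (.leaf 0x40001) (.leaf 0x2010003))) (.node 3354 (.node 3353 (.leaf 0x201010004) (.leaf 0x201010003)) (.node 3355 (.leaf 0x10001) (.node 3356 (.leaf 0x40001) (.leaf 0x301010003))))))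

def schUS_376 : Store := (.node 3366 (.node 3361 (.node 3359 (.node 3358 (.leaf 0x101000003) (.leaf 0x0)) (.node 3360 (.leaf 0x301010003) (.leaf 0x10200000004))) (.node 3363 (.node 3362 (.leaf 0x1) (.leaf 0x100020003)) (.node 3364 (.leaf 0x3010002) (.node 3365 (.leaf 0x2000002) (.leaf 0x0))))) (.node 3370 (.node 3368 (.node 3367 (.leaf 0x201010004) (.leaf 0x201010004)) (.node 3369 (.leaf 0x30001) (.leaf 0x201010004))) (.node 3372 (.node 3371 (.leaf 0x20002) (.leaf 0x0)) (.node 3373 (.leaf 0x3010002) (.node 3374 (.leaf 0x3010002) (.leaf 0x4000002))))))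

def schUS_377 : Store := (.node 3357 schUS_375 schUS_376)

def schUS_378 : Store := (.node 3339 schUS_374 schUS_377)

def schUS_379 : Store := (.node 3304 schUS_371 schUS_378)

def schUS_380 : Store := (.node 3234 schUS_364 schUS_379)

def schUS_381 : Store := (.node 3093 schUS_349 schUS_380)

def schUS_382 : Store := (.node 2812 schUS_318 schUS_381)

def schUS_383 : Store := (.node 3383 (.node 3379 (.node 3377 (.node 3376 (.leaf 0x3010002) (.leaf 0x3010002)) (.node 3378 (.leaf 0x4000002) (.leaf 0x2010100000005))) (.node 3381 (.node 3380 (.leaf 0x2010100000005) (.leaf 0x0)) (.node 3382 (.leaf 0x4000002) (.leaf 0x20101000004)))) (.node 3387 (.node 3385 (.node 3384 (.leaf 0x1000002) (.leaf 0x301010003)) (.node 3386 (.leaf 0x2010100000005) (.leaf 0x20001))) (.node 3389 (.node 3388 (.leaf 0x20001) (.leaf 0x4000002)) (.node 3390 (.leaf 0x201010003) (.node 3391 (.leaf 0x4000002) (.leaf 0x20001))))))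

def schUS_384 : Store := (.node 3401 (.node 3396 (.node 3394 (.node 3393 (.leaf 0x0) (.leaf 0x1020002)) (.node 3395 (.leaf 0x20100000004) (.leaf 0x2010003))) (.node 3398 (.node 3397 (.leaf 0x201010003) (.leaf 0x201010003)) (.node 3399 (.leaf 0x0) (.node 3400 (.leaf 0x100020003) (.leaf 0x1020002))))) (.node 3405 (.node 3403 (.node 3402 (.leaf 0x2010100000005) (.leaf 0x3010002)) (.node 3404 (.leaf 0x0) (.leaf 0x3010002))) (.node 3407 (.node 3406 (.leaf 0x1) (.leaf 0x20101000004)) (.node 3408 (.leaf 0x1) (.node 3409 (.leaf 0x201010003) (.leaf 0x1020002))))))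

def schUS_385 : Store := (.node 3392 schUS_383 schUS_384)

def schUS_386 : Store := (.node 3418 (.node 3414 (.node 3412 (.node 3411 (.leaf 0x20001) (.leaf 0x1000002)) (.node 3413 (.leaf 0x0) (.leaf 0x20001))) (.node 3416 (.node 3415 (.leaf 0x1010002) (.leaf 0x2)) (.node 3417 (.leaf 0x2) (.leaf 0x1010002)))) (.node 3422 (.node 3420 (.node 3419 (.leaf 0x20100000004) (.leaf 0x400000003)) (.node 3421 (.leaf 0x1) (.leaf 0x101000003))) (.node 3424 (.node 3423 (.leaf 0x2000002) (.leaf 0x1020002)) (.node 3425 (.leaf 0x1) (.node 3426 (.leaf 0x0) (.leaf 0x4030002))))))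

def schUS_387 : Store := (.node 3436 (.node 3431 (.node 3429 (.node 3428 (.leaf 0x100000003) (.leaf 0x2)) (.node 3430 (.leaf 0x20101000004) (.leaf 0x101000003))) (.node 3433 (.node 3432 (.leaf 0x102000003) (.leaf 0x2000002)) (.node 3434 (.leaf 0x102000003) (.node 3435 (.leaf 0x10200000004) (.leaf 0x1020002))))) (.node 3440 (.node 3438 (.node 3437 (.leaf 0x2000002) (.leaf 0x20101000004)) (.node 3439 (.leaf 0x4000002) (.leaf 0x0))) (.node 3442 (.node 3441 (.leaf 0x0) (.leaf 0x1020002)) (.node 3443 (.leaf 0x10200000004) (.node 3444 (.leaf 0x20002) (.leaf 0x1020002))))))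

def schUS_388 : Store := (.node 3427 schUS_386 schUS_387)

def schUS_389 : Store := (.node 3410 schUS_385 schUS_388)

def schUS_390 : Store := (.node 3453 (.node 3449 (.node 3447 (.node 3446 (.leaf 0x20001) (.leaf 0x2)) (.node 3448 (.leaf 0x40001) (.leaf 0x400000003))) (.node 3451 (.node 3450 (.leaf 0x201010004) (.leaf 0x1010002)) (.node 3452 (.leaf 0x201010004) (.leaf 0x0)))) (.node 3457 (.node 3455 (.node 3454 (.leaf 0x301010003) (.leaf 0x301010003)) (.node 3456 (.leaf 0x201010004) (.leaf 0x1020002))) (.node 3459 (.node 3458 (.leaf 0x100000003) (.leaf 0x10100000004)) (.node 3460 (.leaf 0x2000002) (.node 3461 (.leaf 0x20101000004) (.leaf 0x10200000004))))))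

def schUS_391 : Store := (.node 3471 (.node 3466 (.node 3464 (.node 3463 (.leaf 0x10100000004) (.leaf 0x3010002)) (.node 3465 (.leaf 0x0) (.leaf 0x200000003))) (.node 3468 (.node 3467 (.leaf 0x1) (.leaf 0x1010002)) (.node 3469 (.leaf 0x201000003) (.node 3470 (.leaf 0x40001) (.leaf 0x2))))) (.node 3475 (.node 3473 (.node 3472 (.leaf 0x1000002) (.leaf 0x20100000004)) (.node 3474 (.leaf 0x1010002) (.leaf 0x301010003))) (.node 3477 (.node 3476 (.leaf 0x1010002) (.leaf 0x0)) (.node 3478 (.leaf 0x201010003) (.node 3479 (.leaf 0x1020002) (.leaf 0x100000003))))))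

def schUS_392 : Store := (.node 3462 schUS_390 schUS_391)

def schUS_393 : Store := (.node 3488 (.node 3484 (.node 3482 (.node 3481 (.leaf 0x102000003) (.leaf 0x101000003)) (.node 3483 (.leaf 0x10100000004) (.leaf 0x2010100000005))) (.node 3486 (.node 3485 (.leaf 0x100000003) (.leaf 0x100000003)) (.node 3487 (.leaf 0x40001) (.leaf 0x40001)))) (.node 3492 (.node 3490 (.node 3489 (.leaf 0x2010100000005) (.leaf 0x0)) (.node 3491 (.leaf 0x2010003) (.leaf 0x0))) (.node 3494 (.node 3493 (.leaf 0x201010004) (.leaf 0x101000003)) (.node 3495 (.leaf 0x3010002) (.node 3496 (.leaf 0x4000002) (.leaf 0x1010002))))))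

def schUS_394 : Store := (.node 3506 (.node 3501 (.node 3499 (.node 3498 (.leaf 0x30001) (.leaf 0x20100000004)) (.node 3500 (.leaf 0x101000003) (.leaf 0x0))) (.node 3503 (.node 3502 (.leaf 0x2010003) (.leaf 0x3010002)) (.node 3504 (.leaf 0x20101000004) (.node 3505 (.leaf 0x1010002) (.leaf 0x2))))) (.node 3510 (.node 3508 (.node 3507 (.leaf 0x1010002) (.leaf 0x200000003)) (.node 3509 (.leaf 0x4030002) (.leaf 0x3010002))) (.node 3512 (.node 3511 (.leaf 0x0) (.leaf 0x201010004)) (.node 3513 (.leaf 0x100020003) (.node 3514 (.leaf 0x2010003) (.leaf 0x2))))))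

def schUS_395 : Store := (.node 3497 schUS_393 schUS_394)

def schUS_396 : Store := (.node 3480 schUS_392 schUS_395)

def schUS_397 : Store := (.node 3445 schUS_389 schUS_396)

def schUS_398 : Store := (.node 3523 (.node 3519 (.node 3517 (.node 3516 (.leaf 0x20100000004) (.leaf 0x4030002)) (.node 3518 (.leaf 0x10001) (.leaf 0x0))) (.node 3521 (.node 3520 (.leaf 0x2010100000005) (.leaf 0x2010100000005)) (.node 3522 (.leaf 0x0) (.leaf 0x201000003)))) (.node 3527 (.node 3525 (.node 3524 (.leaf 0x4030002) (.leaf 0x2010100000005)) (.node 3526 (.leaf 0x30001) (.leaf 0x1000002))) (.node 3529 (.node 3528 (.leaf 0x100000003) (.leaf 0x101000003)) (.node 3530 (.leaf 0x1010002) (.node 3531 (.leaf 0x0) (.leaf 0x400000003))))))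

def schUS_399 : Store := (.node 3541 (.node 3536 (.node 3534 (.node 3533 (.leaf 0x100020003) (.leaf 0x10200000004)) (.node 3535 (.leaf 0x0) (.leaf 0x4030002))) (.node 3538 (.node 3537 (.leaf 0x10100000004) (.leaf 0x1000002)) (.node 3539 (.leaf 0x10200000004) (.node 3540 (.leaf 0x2) (.leaf 0x0))))) (.node 3545 (.node 3543 (.node 3542 (.leaf 0x301010003) (.leaf 0x100000003)) (.node 3544 (.leaf 0x400000003) (.leaf 0x100000003))) (.node 3547 (.node 3546 (.leaf 0x400000003) (.leaf 0x20101000004)) (.node 3548 (.leaf 0x200000003) (.node 3549 (.leaf 0x100000003) (.leaf 0x100000003))))))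

def schUS_400 : Store := (.node 3532 schUS_398 schUS_399)

def schUS_401 : Store := (.node 3558 (.node 3554 (.node 3552 (.node 3551 (.leaf 0x100000003) (.leaf 0x0)) (.node 3553 (.leaf 0x1) (.leaf 0x201000003))) (.node 3556 (.node 3555 (.leaf 0x0) (.leaf 0x101000003)) (.node 3557 (.leaf 0x400000003) (.leaf 0x301010003)))) (.node 3562 (.node 3560 (.node 3559 (.leaf 0x201000003) (.leaf 0x0)) (.node 3561 (.leaf 0x200000003) (.leaf 0x0))) (.node 3564 (.node 3563 (.leaf 0x2010100000005) (.leaf 0x2010100000005)) (.node 3565 (.leaf 0x201010003) (.node 3566 (.leaf 0x2) (.leaf 0x10100000004))))))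

def schUS_402 : Store := (.node 3576 (.node 3571 (.node 3569 (.node 3568 (.leaf 0x20001) (.leaf 0x30001)) (.node 3570 (.leaf 0x201010003) (.leaf 0x0))) (.node 3573 (.node 3572 (.leaf 0x201010004) (.leaf 0x20101000004)) (.node 3574 (.leaf 0x2010002) (.node 3575 (.leaf 0x102000003) (.leaf 0x102000003))))) (.node 3580 (.node 3578 (.node 3577 (.leaf 0x2) (.leaf 0x20001)) (.node 3579 (.leaf 0x1000002) (.leaf 0x201010003))) (.node 3582 (.node 3581 (.leaf 0x10200000004) (.leaf 0x201000003)) (.node 3583 (.leaf 0x0) (.node 3584 (.leaf 0x3010002) (.leaf 0x102000003))))))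

def schUS_403 : Store := (.node 3567 schUS_401 schUS_402)

def schUS_404 : Store := (.node 3550 schUS_400 schUS_403)

def schUS_405 : Store := (.node 3593 (.node 3589 (.node 3587 (.node 3586 (.leaf 0x0) (.leaf 0x4030002)) (.node 3588 (.leaf 0x201010003) (.leaf 0x2010003))) (.node 3591 (.node 3590 (.leaf 0x4000002) (.leaf 0x20001)) (.node 3592 (.leaf 0x101000003) (.leaf 0x20100000004)))) (.node 3597 (.node 3595 (.node 3594 (.leaf 0x102000003) (.leaf 0x2010002)) (.node 3596 (.leaf 0x0) (.leaf 0x201010004))) (.node 3599 (.node 3598 (.leaf 0x4030002) (.leaf 0x2010100000005)) (.node 3600 (.leaf 0x2) (.node 3601 (.leaf 0x20101000004) (.leaf 0x20100000004))))))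

def schUS_406 : Store := (.node 3611 (.node 3606 (.node 3604 (.node 3603 (.leaf 0x10001) (.leaf 0x3010002)) (.node 3605 (.leaf 0x2010003) (.leaf 0x301010003))) (.node 3608 (.node 3607 (.leaf 0x10200000004) (.leaf 0x2)) (.node 3609 (.leaf 0x2000002) (.node 3610 (.leaf 0x0) (.leaf 0x1))))) (.node 3615 (.node 3613 (.node 3612 (.leaf 0x201010003) (.leaf 0x400000003)) (.node 3614 (.leaf 0x2010100000005) (.leaf 0x1))) (.node 3617 (.node 3616 (.leaf 0x301010003) (.leaf 0x301010003)) (.node 3618 (.leaf 0x0) (.node 3619 (.leaf 0x400000003) (.leaf 0x200000003))))))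

def schUS_407 : Store := (.node 3602 schUS_405 schUS_406)

def schUS_408 : Store := (.node 3629 (.node 3624 (.node 3622 (.node 3621 (.leaf 0x0) (.leaf 0x20002)) (.node 3623 (.leaf 0x0) (.leaf 0x40001))) (.node 3626 (.node 3625 (.leaf 0x20001) (.leaf 0x3010002)) (.node 3627 (.leaf 0x102000003) (.node 3628 (.leaf 0x10001) (.leaf 0x3010002))))) (.node 3633 (.node 3631 (.node 3630 (.leaf 0x0) (.leaf 0x0)) (.node 3632 (.leaf 0x30001) (.leaf 0x10100000004))) (.node 3635 (.node 3634 (.leaf 0x2010003) (.leaf 0x201010004)) (.node 3636 (.leaf 0x2000002) (.node 3637 (.leaf 0x100000003) (.leaf 0x400000003))))))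

def schUS_409 : Store := (.node 3647 (.node 3642 (.node 3640 (.node 3639 (.leaf 0x2000002) (.leaf 0x20101000004)) (.node 3641 (.leaf 0x201010004) (.leaf 0x100000003))) (.node 3644 (.node 3643 (.leaf 0x2000002) (.leaf 0x10001)) (.node 3645 (.leaf 0x2010100000005) (.node 3646 (.leaf 0x0) (.leaf 0x201000003))))) (.node 3651 (.node 3649 (.node 3648 (.leaf 0x10200000004) (.leaf 0x10100000004)) (.node 3650 (.leaf 0x0) (.leaf 0x1000002))) (.node 3653 (.node 3652 (.leaf 0x301010003) (.leaf 0x2010003)) (.node 3654 (.leaf 0x2010003) (.node 3655 (.leaf 0x10001) (.leaf 0x10100000004))))))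

def schUS_410 : Store := (.node 3638 schUS_408 schUS_409)

def schUS_411 : Store := (.node 3620 schUS_407 schUS_410)

def schUS_412 : Store := (.node 3585 schUS_404 schUS_411)

def schUS_413 : Store := (.node 3515 schUS_397 schUS_412)

def schUS_414 : Store := (.node 3664 (.node 3660 (.node 3658 (.node 3657 (.leaf 0x100000003) (.leaf 0x0)) (.node 3659 (.leaf 0x0) (.leaf 0x0))) (.node 3662 (.node 3661 (.leaf 0x20101000004) (.leaf 0x0)) (.node 3663 (.leaf 0x10200000004) (.leaf 0x201010003)))) (.node 3668 (.node 3666 (.node 3665 (.leaf 0x201010004) (.leaf 0x10200000004)) (.node 3667 (.leaf 0x10001) (.leaf 0x3010002))) (.node 3670 (.node 3669 (.leaf 0x2010002) (.leaf 0x4030002)) (.node 3671 (.leaf 0x3010002) (.node 3672 (.leaf 0x20100000004) (.leaf 0x0))))))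

def schUS_415 : Store := (.node 3682 (.node 3677 (.node 3675 (.node 3674 (.leaf 0x101000003) (.leaf 0x4000002)) (.node 3676 (.leaf 0x201000003) (.leaf 0x40001))) (.node 3679 (.node 3678 (.leaf 0x1020002) (.leaf 0x1010002)) (.node 3680 (.leaf 0x102000003) (.node 3681 (.leaf 0x201000003) (.leaf 0x40001))))) (.node 3686 (.node 3684 (.node 3683 (.leaf 0x100020003) (.leaf 0x10200000004)) (.node 3685 (.leaf 0x0) (.leaf 0x0))) (.node 3688 (.node 3687 (.leaf 0x3010002) (.leaf 0x201000003)) (.node 3689 (.leaf 0x4030002) (.node 3690 (.leaf 0x0) (.leaf 0x201010004))))))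

def schUS_416 : Store := (.node 3673 schUS_414 schUS_415)

def schUS_417 : Store := (.node 3699 (.node 3695 (.node 3693 (.node 3692 (.leaf 0x40001) (.leaf 0x10200000004)) (.node 3694 (.leaf 0x40001) (.leaf 0x201000003))) (.node 3697 (.node 3696 (.leaf 0x4000002) (.leaf 0x0)) (.node 3698 (.leaf 0x10100000004) (.leaf 0x4000002)))) (.node 3703 (.node 3701 (.node 3700 (.leaf 0x1010002) (.leaf 0x1010002)) (.node 3702 (.leaf 0x10200000004) (.leaf 0x2010003))) (.node 3705 (.node 3704 (.leaf 0x1) (.leaf 0x201010003)) (.node 3706 (.leaf 0x10100000004) (.node 3707 (.leaf 0x40001) (.leaf 0x0))))))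

def schUS_418 : Store := (.node 3717 (.node 3712 (.node 3710 (.node 3709 (.leaf 0x2000002) (.leaf 0x10100000004)) (.node 3711 (.leaf 0x102000003) (.leaf 0x20002))) (.node 3714 (.node 3713 (.leaf 0x4030002) (.leaf 0x100000003)) (.node 3715 (.leaf 0x40001) (.node 3716 (.leaf 0x10100000004) (.leaf 0x10100000004))))) (.node 3721 (.node 3719 (.node 3718 (.leaf 0x100020003) (.leaf 0x201010004)) (.node 3720 (.leaf 0x0) (.leaf 0x400000003))) (.node 3723 (.node 3722 (.leaf 0x10001) (.leaf 0x1000002)) (.node 3724 (.leaf 0x0) (.node 3725 (.leaf 0x10200000004) (.leaf 0x201010004))))))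

def schUS_419 : Store := (.node 3708 schUS_417 schUS_418)

def schUS_420 : Store := (.node 3691 schUS_416 schUS_419)

def schUS_421 : Store := (.node 3734 (.node 3730 (.node 3728 (.node 3727 (.leaf 0x2010003) (.leaf 0x102000003)) (.node 3729 (.leaf 0x101000003) (.leaf 0x1000002))) (.node 3732 (.node 3731 (.leaf 0x0) (.leaf 0x102000003)) (.node 3733 (.leaf 0x10100000004) (.leaf 0x10100000004)))) (.node 3738 (.node 3736 (.node 3735 (.leaf 0x301010003) (.leaf 0x4030002)) (.node 3737 (.leaf 0x10001) (.leaf 0x102000003))) (.node 3740 (.node 3739 (.leaf 0x40001) (.leaf 0x400000003)) (.node 3741 (.leaf 0x1000002) (.node 3742 (.leaf 0x100000003) (.leaf 0x20002))))))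

def schUS_422 : Store := (.node 3752 (.node 3747 (.node 3745 (.node 3744 (.leaf 0x20100000004) (.leaf 0x1010002)) (.node 3746 (.leaf 0x0) (.leaf 0x20100000004))) (.node 3749 (.node 3748 (.leaf 0x102000003) (.leaf 0x1010002)) (.node 3750 (.leaf 0x0) (.node 3751 (.leaf 0x3010002) (.leaf 0x20100000004))))) (.node 3756 (.node 3754 (.node 3753 (.leaf 0x2000002) (.leaf 0x100000003)) (.node 3755 (.leaf 0x0) (.leaf 0x1010002))) (.node 3758 (.node 3757 (.leaf 0x2) (.leaf 0x20002)) (.node 3759 (.leaf 0x0) (.node 3760 (.leaf 0x0) (.leaf 0x10100000004))))))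

def schUS_423 : Store := (.node 3743 schUS_421 schUS_422)

def schUS_424 : Store := (.node 3769 (.node 3765 (.node 3763 (.node 3762 (.leaf 0x10001) (.leaf 0x0)) (.node 3764 (.leaf 0x400000003) (.leaf 0x2010003))) (.node 3767 (.node 3766 (.leaf 0x40001) (.leaf 0x100020003)) (.node 3768 (.leaf 0x40001) (.leaf 0x2000002)))) (.node 3773 (.node 3771 (.node 3770 (.leaf 0x4030002) (.leaf 0x301010003)) (.node 3772 (.leaf 0x0) (.leaf 0x30001))) (.node 3775 (.node 3774 (.leaf 0x1) (.leaf 0x1010002)) (.node 3776 (.leaf 0x20100000004) (.node 3777 (.leaf 0x1010002) (.leaf 0x101000003))))))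

def schUS_425 : Store := (.node 3787 (.node 3782 (.node 3780 (.node 3779 (.leaf 0x102000003) (.leaf 0x100000003)) (.node 3781 (.leaf 0x301010003) (.leaf 0x4000002))) (.node 3784 (.node 3783 (.leaf 0x30001) (.leaf 0x400000003)) (.node 3785 (.leaf 0x100020003) (.node 3786 (.leaf 0x100020003) (.leaf 0x2010003))))) (.node 3791 (.node 3789 (.node 3788 (.leaf 0x0) (.leaf 0x30001)) (.node 3790 (.leaf 0x100000003) (.leaf 0x40001))) (.node 3793 (.node 3792 (.leaf 0x20002) (.leaf 0x2010100000005)) (.node 3794 (.leaf 0x30001) (.node 3795 (.leaf 0x201000003) (.leaf 0x100000003))))))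

def schUS_426 : Store := (.node 3778 schUS_424 schUS_425)

def schUS_427 : Store := (.node 3761 schUS_423 schUS_426)

def schUS_428 : Store := (.node 3726 schUS_420 schUS_427)

def schUS_429 : Store := (.node 3804 (.node 3800 (.node 3798 (.node 3797 (.leaf 0x201000003) (.leaf 0x201000003)) (.node 3799 (.leaf 0x201000003) (.leaf 0x0))) (.node 3802 (.node 3801 (.leaf 0x0) (.leaf 0x3010002)) (.node 3803 (.leaf 0x400000003) (.leaf 0x30001)))) (.node 3808 (.node 3806 (.node 3805 (.leaf 0x1) (.leaf 0x4030002)) (.node 3807 (.leaf 0x1) (.leaf 0x3010002))) (.node 3810 (.node 3809 (.leaf 0x2000002) (.leaf 0x301010003)) (.node 3811 (.leaf 0x1010002) (.node 3812 (.leaf 0x102000003) (.leaf 0x1010002))))))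

def schUS_430 : Store := (.node 3822 (.node 3817 (.node 3815 (.node 3814 (.leaf 0x2010100000005) (.leaf 0x10100000004)) (.node 3816 (.leaf 0x10100000004) (.leaf 0x0))) (.node 3819 (.node 3818 (.leaf 0x0) (.leaf 0x1010002)) (.node 3820 (.leaf 0x0) (.node 3821 (.leaf 0x4030002) (.leaf 0x0))))) (.node 3826 (.node 3824 (.node 3823 (.leaf 0x201010004) (.leaf 0x10200000004)) (.node 3825 (.leaf 0x30001) (.leaf 0x10200000004))) (.node 3828 (.node 3827 (.leaf 0x2010002) (.leaf 0x40001)) (.node 3829 (.leaf 0x30001) (.node 3830 (.leaf 0x101000003) (.leaf 0x201000003))))))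

def schUS_431 : Store := (.node 3813 schUS_429 schUS_430)

def schUS_432 : Store := (.node 3839 (.node 3835 (.node 3833 (.node 3832 (.leaf 0x10200000004) (.leaf 0x0)) (.node 3834 (.leaf 0x100000003) (.leaf 0x100020003))) (.node 3837 (.node 3836 (.leaf 0x201000003) (.leaf 0x201000003)) (.node 3838 (.leaf 0x2010100000005) (.leaf 0x201000003)))) (.node 3843 (.node 3841 (.node 3840 (.leaf 0x2010100000005) (.leaf 0x2000002)) (.node 3842 (.leaf 0x10001) (.leaf 0x201010004))) (.node 3845 (.node 3844 (.leaf 0x10001) (.leaf 0x100020003)) (.node 3846 (.leaf 0x10001) (.node 3847 (.leaf 0x2010003) (.leaf 0x201000003))))))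

def schUS_433 : Store := (.node 3857 (.node 3852 (.node 3850 (.node 3849 (.leaf 0x0) (.leaf 0x1020002)) (.node 3851 (.leaf 0x2010002) (.leaf 0x201010004))) (.node 3854 (.node 3853 (.leaf 0x2010002) (.leaf 0x2010100000005)) (.node 3855 (.leaf 0x400000003) (.node 3856 (.leaf 0x0) (.leaf 0x20101000004))))) (.node 3861 (.node 3859 (.node 3858 (.leaf 0x10001) (.leaf 0x20101000004)) (.node 3860 (.leaf 0x0) (.leaf 0x20100000004))) (.node 3863 (.node 3862 (.leaf 0x1000002) (.leaf 0x2)) (.node 3864 (.leaf 0x400000003) (.node 3865 (.leaf 0x20101000004) (.leaf 0x400000003))))))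

def schUS_434 : Store := (.node 3848 schUS_432 schUS_433)

def schUS_435 : Store := (.node 3831 schUS_431 schUS_434)

def schUS_436 : Store := (.node 3874 (.node 3870 (.node 3868 (.node 3867 (.leaf 0x10001) (.leaf 0x0)) (.node 3869 (.leaf 0x201000003) (.leaf 0x20100000004))) (.node 3872 (.node 3871 (.leaf 0x0) (.leaf 0x10200000004)) (.node 3873 (.leaf 0x0) (.leaf 0x2010100000005)))) (.node 3878 (.node 3876 (.node 3875 (.leaf 0x10001) (.leaf 0x201010003)) (.node 3877 (.leaf 0x201000003) (.leaf 0x20101000004))) (.node 3880 (.node 3879 (.leaf 0x10001) (.leaf 0x20100000004)) (.node 3881 (.leaf 0x10100000004) (.node 3882 (.leaf 0x1010002) (.leaf 0x10001))))))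

def schUS_437 : Store := (.node 3892 (.node 3887 (.node 3885 (.node 3884 (.leaf 0x102000003) (.leaf 0x301010003)) (.node 3886 (.leaf 0x0) (.leaf 0x10001))) (.node 3889 (.node 3888 (.leaf 0x201000003) (.leaf 0x0)) (.node 3890 (.leaf 0x0) (.node 3891 (.leaf 0x40001) (.leaf 0x2010002))))) (.node 3896 (.node 3894 (.node 3893 (.leaf 0x100000003) (.leaf 0x4000002)) (.node 3895 (.leaf 0x0) (.leaf 0x2010003))) (.node 3898 (.node 3897 (.leaf 0x201000003) (.leaf 0x2010003)) (.node 3899 (.leaf 0x400000003) (.node 3900 (.leaf 0x4030002) (.leaf 0x0))))))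

def schUS_438 : Store := (.node 3883 schUS_436 schUS_437)

def schUS_439 : Store := (.node 3910 (.node 3905 (.node 3903 (.node 3902 (.leaf 0x20001) (.leaf 0x301010003)) (.node 3904 (.leaf 0x20002) (.leaf 0x100020003))) (.node 3907 (.node 3906 (.leaf 0x2010003) (.leaf 0x0)) (.node 3908 (.leaf 0x102000003) (.node 3909 (.leaf 0x100000003) (.leaf 0x1000002))))) (.node 3914 (.node 3912 (.node 3911 (.leaf 0x400000003) (.leaf 0x0)) (.node 3913 (.leaf 0x4000002) (.leaf 0x20001))) (.node 3916 (.node 3915 (.leaf 0x0) (.leaf 0x101000003)) (.node 3917 (.leaf 0x102000003) (.node 3918 (.leaf 0x2010100000005) (.leaf 0x20101000004))))))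

def schUS_440 : Store := (.node 3928 (.node 3923 (.node 3921 (.node 3920 (.leaf 0x20101000004) (.leaf 0x201010003)) (.node 3922 (.leaf 0x40001) (.leaf 0x1020002))) (.node 3925 (.node 3924 (.leaf 0x1020002) (.leaf 0x0)) (.node 3926 (.leaf 0x2000002) (.node 3927 (.leaf 0x1010002) (.leaf 0x100020003))))) (.node 3932 (.node 3930 (.node 3929 (.leaf 0x100020003) (.leaf 0x100020003)) (.node 3931 (.leaf 0x2010002) (.leaf 0x2))) (.node 3934 (.node 3933 (.leaf 0x20101000004) (.leaf 0x20101000004)) (.node 3935 (.leaf 0x2) (.node 3936 (.leaf 0x100020003) (.leaf 0x0))))))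

def schUS_441 : Store := (.node 3919 schUS_439 schUS_440)

def schUS_442 : Store := (.node 3901 schUS_438 schUS_441)

def schUS_443 : Store := (.node 3866 schUS_435 schUS_442)

def schUS_444 : Store := (.node 3796 schUS_428 schUS_443)

def schUS_445 : Store := (.node 3656 schUS_413 schUS_444)

def schUS_446 : Store := (.node 3945 (.node 3941 (.node 3939 (.node 3938 (.leaf 0x201010004) (.leaf 0x40001)) (.node 3940 (.leaf 0x101000003) (.leaf 0x1000002))) (.node 3943 (.node 3942 (.leaf 0x10001) (.leaf 0x0)) (.node 3944 (.leaf 0x2010003) (.leaf 0x2000002)))) (.node 3949 (.node 3947 (.node 3946 (.leaf 0x102000003) (.leaf 0x2010100000005)) (.node 3948 (.leaf 0x20001) (.leaf 0x2010100000005))) (.node 3951 (.node 3950 (.leaf 0x2) (.leaf 0x201010004)) (.node 3952 (.leaf 0x2010002) (.node 3953 (.leaf 0x400000003) (.leaf 0x400000003))))))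

def schUS_447 : Store := (.node 3963 (.node 3958 (.node 3956 (.node 3955 (.leaf 0x0) (.leaf 0x0)) (.node 3957 (.leaf 0x3010002) (.leaf 0x101000003))) (.node 3960 (.node 3959 (.leaf 0x0) (.leaf 0x1000002)) (.node 3961 (.leaf 0x4030002) (.node 3962 (.leaf 0x20001) (.leaf 0x20100000004))))) (.node 3967 (.node 3965 (.node 3964 (.leaf 0x1) (.leaf 0x20001)) (.node 3966 (.leaf 0x200000003) (.leaf 0x1000002))) (.node 3969 (.node 3968 (.leaf 0x1000002) (.leaf 0x1000002)) (.node 3970 (.leaf 0x0) (.node 3971 (.leaf 0x101000003) (.leaf 0x400000003))))))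

def schUS_448 : Store := (.node 3954 schUS_446 schUS_447)

def schUS_449 : Store := (.node 3980 (.node 3976 (.node 3974 (.node 3973 (.leaf 0x10001) (.leaf 0x0)) (.node 3975 (.leaf 0x1010002) (.leaf 0x10100000004))) (.node 3978 (.node 3977 (.leaf 0x4030002) (.leaf 0x3010002)) (.node 3979 (.leaf 0x2010003) (.leaf 0x100020003)))) (.node 3984 (.node 3982 (.node 3981 (.leaf 0x30001) (.leaf 0x101000003)) (.node 3983 (.leaf 0x0) (.leaf 0x30001))) (.node 3986 (.node 3985 (.leaf 0x1010002) (.leaf 0x201010004)) (.node 3987 (.leaf 0x4030002) (.node 3988 (.leaf 0x200000003) (.leaf 0x4030002))))))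

def schUS_450 : Store := (.node 3998 (.node 3993 (.node 3991 (.node 3990 (.leaf 0x40001) (.leaf 0x201010003)) (.node 3992 (.leaf 0x102000003) (.leaf 0x2010002))) (.node 3995 (.node 3994 (.leaf 0x40001) (.leaf 0x20002)) (.node 3996 (.leaf 0x0) (.node 3997 (.leaf 0x20100000004) (.leaf 0x4000002))))) (.node 4002 (.node 4000 (.node 3999 (.leaf 0x20002) (.leaf 0x20001)) (.node 4001 (.leaf 0x2010002) (.leaf 0x3010002))) (.node 4004 (.node 4003 (.leaf 0x102000003) (.leaf 0x20002)) (.node 4005 (.leaf 0x400000003) (.node 4006 (.leaf 0x2010003) (.leaf 0x1))))))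

def schUS_451 : Store := (.node 3989 schUS_449 schUS_450)

def schUS_452 : Store := (.node 3972 schUS_448 schUS_451)

def schUS_453 : Store := (.node 4015 (.node 4011 (.node 4009 (.node 4008 (.leaf 0x20001) (.leaf 0x30001)) (.node 4010 (.leaf 0x0) (.leaf 0x400000003))) (.node 4013 (.node 4012 (.leaf 0x4000002) (.leaf 0x201000003)) (.node 4014 (.leaf 0x10001) (.leaf 0x2)))) (.node 4019 (.node 4017 (.node 4016 (.leaf 0x0) (.leaf 0x201000003)) (.node 4018 (.leaf 0x201000003) (.leaf 0x2010100000005))) (.node 4021 (.node 4020 (.leaf 0x2010100000005) (.leaf 0x20101000004)) (.node 4022 (.leaf 0x0) (.node 4023 (.leaf 0x20101000004) (.leaf 0x10100000004))))))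

def schUS_454 : Store := (.node 4033 (.node 4028 (.node 4026 (.node 4025 (.leaf 0x20100000004) (.leaf 0x40001)) (.node 4027 (.leaf 0x400000003) (.leaf 0x2010002))) (.node 4030 (.node 4029 (.leaf 0x100000003) (.leaf 0x4000002)) (.node 4031 (.leaf 0x1010002) (.node 4032 (.leaf 0x1) (.leaf 0x20100000004))))) (.node 4037 (.node 4035 (.node 4034 (.leaf 0x0) (.leaf 0x2010100000005)) (.node 4036 (.leaf 0x4000002) (.leaf 0x201010003))) (.node 4039 (.node 4038 (.leaf 0x1000002) (.leaf 0x20001)) (.node 4040 (.leaf 0x201010003) (.node 4041 (.leaf 0x20002) (.leaf 0x10001))))))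

def schUS_455 : Store := (.node 4024 schUS_453 schUS_454)

def schUS_456 : Store := (.node 4050 (.node 4046 (.node 4044 (.node 4043 (.leaf 0x10001) (.leaf 0x20001)) (.node 4045 (.leaf 0x400000003) (.leaf 0x100000003))) (.node 4048 (.node 4047 (.leaf 0x1) (.leaf 0x30001)) (.node 4049 (.leaf 0x0) (.leaf 0x1)))) (.node 4054 (.node 4052 (.node 4051 (.leaf 0x0) (.leaf 0x2000002)) (.node 4053 (.leaf 0x400000003) (.leaf 0x301010003))) (.node 4056 (.node 4055 (.leaf 0x2000002) (.leaf 0x3010002)) (.node 4057 (.leaf 0x2010002) (.node 4058 (.leaf 0x102000003) (.leaf 0x2010100000005))))))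

def schUS_457 : Store := (.node 4068 (.node 4063 (.node 4061 (.node 4060 (.leaf 0x2010100000005) (.leaf 0x0)) (.node 4062 (.leaf 0x0) (.leaf 0x10200000004))) (.node 4065 (.node 4064 (.leaf 0x400000003) (.leaf 0x4000002)) (.node 4066 (.leaf 0x102000003) (.node 4067 (.leaf 0x201000003) (.leaf 0x1000002))))) (.node 4072 (.node 4070 (.node 4069 (.leaf 0x10200000004) (.leaf 0x10200000004)) (.node 4071 (.leaf 0x1020002) (.leaf 0x2010100000005))) (.node 4074 (.node 4073 (.leaf 0x2010003) (.leaf 0x10001)) (.node 4075 (.leaf 0x2010003) (.node 4076 (.leaf 0x101000003) (.leaf 0x0))))))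

def schUS_458 : Store := (.node 4059 schUS_456 schUS_457)

def schUS_459 : Store := (.node 4042 schUS_455 schUS_458)

def schUS_460 : Store := (.node 4007 schUS_452 schUS_459)

def schUS_461 : Store := (.node 4085 (.node 4081 (.node 4079 (.node 4078 (.leaf 0x30001) (.leaf 0x201000003)) (.node 4080 (.leaf 0x1000002) (.leaf 0x0))) (.node 4083 (.node 4082 (.leaf 0x0) (.leaf 0x4000002)) (.node 4084 (.leaf 0x4000002) (.leaf 0x201010004)))) (.node 4089 (.node 4087 (.node 4086 (.leaf 0x2010002) (.leaf 0x100000003)) (.node 4088 (.leaf 0x20100000004) (.leaf 0x2000002))) (.node 4091 (.node 4090 (.leaf 0x30001) (.leaf 0x3010002)) (.node 4092 (.leaf 0x301010003) (.node 4093 (.leaf 0x40001) (.leaf 0x0))))))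

def schUS_462 : Store := (.node 4103 (.node 4098 (.node 4096 (.node 4095 (.leaf 0x201000003) (.leaf 0x2010003)) (.node 4097 (.leaf 0x201010003) (.leaf 0x20001))) (.node 4100 (.node 4099 (.leaf 0x201010004) (.leaf 0x0)) (.node 4101 (.leaf 0x0) (.node 4102 (.leaf 0x2010002) (.leaf 0x2010100000005))))) (.node 4107 (.node 4105 (.node 4104 (.leaf 0x201010004) (.leaf 0x10001)) (.node 4106 (.leaf 0x2010100000005) (.leaf 0x2010100000005))) (.node 4109 (.node 4108 (.leaf 0x0) (.leaf 0x2000002)) (.node 4110 (.leaf 0x10001) (.node 4111 (.leaf 0x100000003) (.leaf 0x4000002))))))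

def schUS_463 : Store := (.node 4094 schUS_461 schUS_462)

def schUS_464 : Store := (.node 4120 (.node 4116 (.node 4114 (.node 4113 (.leaf 0x0) (.leaf 0x4030002)) (.node 4115 (.leaf 0x20001) (.leaf 0x201010003))) (.node 4118 (.node 4117 (.leaf 0x102000003) (.leaf 0x1000002)) (.node 4119 (.leaf 0x1000002) (.leaf 0x201010003)))) (.node 4124 (.node 4122 (.node 4121 (.leaf 0x201000003) (.leaf 0x2010002)) (.node 4123 (.leaf 0x201010003) (.leaf 0x2))) (.node 4126 (.node 4125 (.leaf 0x400000003) (.leaf 0x4000002)) (.node 4127 (.leaf 0x0) (.node 4128 (.leaf 0x101000003) (.leaf 0x0))))))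

def schUS_465 : Store := (.node 4138 (.node 4133 (.node 4131 (.node 4130 (.leaf 0x201010003) (.leaf 0x201010004)) (.node 4132 (.leaf 0x0) (.leaf 0x1020002))) (.node 4135 (.node 4134 (.leaf 0x1020002) (.leaf 0x1)) (.node 4136 (.leaf 0x20101000004) (.node 4137 (.leaf 0x1020002) (.leaf 0x10001))))) (.node 4142 (.node 4140 (.node 4139 (.leaf 0x201010003) (.leaf 0x40001)) (.node 4141 (.leaf 0x40001) (.leaf 0x0))) (.node 4144 (.node 4143 (.leaf 0x3010002) (.leaf 0x2)) (.node 4145 (.leaf 0x40001) (.node 4146 (.leaf 0x0) (.leaf 0x10001))))))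

def schUS_466 : Store := (.node 4129 schUS_464 schUS_465)

def schUS_467 : Store := (.node 4112 schUS_463 schUS_466)

def schUS_468 : Store := (.node 4155 (.node 4151 (.node 4149 (.node 4148 (.leaf 0x0) (.leaf 0x2010002)) (.node 4150 (.leaf 0x100020003) (.leaf 0x0))) (.node 4153 (.node 4152 (.leaf 0x1000002) (.leaf 0x10200000004)) (.node 4154 (.leaf 0x30001) (.leaf 0x101000003)))) (.node 4159 (.node 4157 (.node 4156 (.leaf 0x2010002) (.leaf 0x4000002)) (.node 4158 (.leaf 0x201010004) (.leaf 0x30001))) (.node 4161 (.node 4160 (.leaf 0x1) (.leaf 0x4000002)) (.node 4162 (.leaf 0x20100000004) (.node 4163 (.leaf 0x0) (.leaf 0x4030002))))))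

def schUS_469 : Store := (.node 4173 (.node 4168 (.node 4166 (.node 4165 (.leaf 0x2010003) (.leaf 0x10200000004)) (.node 4167 (.leaf 0x20101000004) (.leaf 0x201010003))) (.node 4170 (.node 4169 (.leaf 0x10001) (.leaf 0x20101000004)) (.node 4171 (.leaf 0x2010002) (.node 4172 (.leaf 0x102000003) (.leaf 0x101000003))))) (.node 4177 (.node 4175 (.node 4174 (.leaf 0x101000003) (.leaf 0x0)) (.node 4176 (.leaf 0x10001) (.leaf 0x101000003))) (.node 4179 (.node 4178 (.leaf 0x4030002) (.leaf 0x20001)) (.node 4180 (.leaf 0x2) (.node 4181 (.leaf 0x0) (.leaf 0x1000002))))))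

def schUS_470 : Store := (.node 4164 schUS_468 schUS_469)

def schUS_471 : Store := (.node 4191 (.node 4186 (.node 4184 (.node 4183 (.leaf 0x30001) (.leaf 0x2000002)) (.node 4185 (.leaf 0x30001) (.leaf 0x4030002))) (.node 4188 (.node 4187 (.leaf 0x201010004) (.leaf 0x2)) (.node 4189 (.leaf 0x20001) (.node 4190 (.leaf 0x4030002) (.leaf 0x40001))))) (.node 4195 (.node 4193 (.node 4192 (.leaf 0x10200000004) (.leaf 0x3010002)) (.node 4194 (.leaf 0x2010100000005) (.leaf 0x20101000004))) (.node 4197 (.node 4196 (.leaf 0x30001) (.leaf 0x200000003)) (.node 4198 (.leaf 0x0) (.node 4199 (.leaf 0x2) (.leaf 0x102000003))))))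

def schUS_472 : Store := (.node 4209 (.node 4204 (.node 4202 (.node 4201 (.leaf 0x301010003) (.leaf 0x10100000004)) (.node 4203 (.leaf 0x100000003) (.leaf 0x102000003))) (.node 4206 (.node 4205 (.leaf 0x0) (.leaf 0x0)) (.node 4207 (.leaf 0x30001) (.node 4208 (.leaf 0x40001) (.leaf 0x201000003))))) (.node 4213 (.node 4211 (.node 4210 (.leaf 0x400000003) (.leaf 0x20002)) (.node 4212 (.leaf 0x0) (.leaf 0x1))) (.node 4215 (.node 4214 (.leaf 0x2000002) (.leaf 0x201000003)) (.node 4216 (.leaf 0x2010100000005) (.node 4217 (.leaf 0x10200000004) (.leaf 0x20002))))))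

def schUS_473 : Store := (.node 4200 schUS_471 schUS_472)

def schUS_474 : Store := (.node 4182 schUS_470 schUS_473)

def schUS_475 : Store := (.node 4147 schUS_467 schUS_474)

def schUS_476 : Store := (.node 4077 schUS_460 schUS_475)

def schUS_477 : Store := (.node 4226 (.node 4222 (.node 4220 (.node 4219 (.leaf 0x0) (.leaf 0x10001)) (.node 4221 (.leaf 0x4030002) (.leaf 0x1010002))) (.node 4224 (.node 4223 (.leaf 0x0) (.leaf 0x10001)) (.node 4225 (.leaf 0x2010003) (.leaf 0x400000003)))) (.node 4230 (.node 4228 (.node 4227 (.leaf 0x20001) (.leaf 0x1)) (.node 4229 (.leaf 0x1) (.leaf 0x20001))) (.node 4232 (.node 4231 (.leaf 0x10001) (.leaf 0x30001)) (.node 4233 (.leaf 0x10001) (.node 4234 (.leaf 0x200000003) (.leaf 0x2))))))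

def schUS_478 : Store := (.node 4244 (.node 4239 (.node 4237 (.node 4236 (.leaf 0x0) (.leaf 0x1000002)) (.node 4238 (.leaf 0x4000002) (.leaf 0x2010003))) (.node 4241 (.node 4240 (.leaf 0x201000003) (.leaf 0x40001)) (.node 4242 (.leaf 0x1000002) (.node 4243 (.leaf 0x2010100000005) (.leaf 0x101000003))))) (.node 4248 (.node 4246 (.node 4245 (.leaf 0x4000002) (.leaf 0x1010002)) (.node 4247 (.leaf 0x200000003) (.leaf 0x4030002))) (.node 4250 (.node 4249 (.leaf 0x201000003) (.leaf 0x0)) (.node 4251 (.leaf 0x102000003) (.node 4252 (.leaf 0x10001) (.leaf 0x2010003))))))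

def schUS_479 : Store := (.node 4235 schUS_477 schUS_478)

def schUS_480 : Store := (.node 4261 (.node 4257 (.node 4255 (.node 4254 (.leaf 0x0) (.leaf 0x20002)) (.node 4256 (.leaf 0x20101000004) (.leaf 0x20002))) (.node 4259 (.node 4258 (.leaf 0x20101000004) (.leaf 0x10001)) (.node 4260 (.leaf 0x200000003) (.leaf 0x2010002)))) (.node 4265 (.node 4263 (.node 4262 (.leaf 0x20101000004) (.leaf 0x0)) (.node 4264 (.leaf 0x1000002) (.leaf 0x3010002))) (.node 4267 (.node 4266 (.leaf 0x2010100000005) (.leaf 0x100020003)) (.node 4268 (.leaf 0x1010002) (.node 4269 (.leaf 0x2010003) (.leaf 0x3010002))))))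

def schUS_481 : Store := (.node 4279 (.node 4274 (.node 4272 (.node 4271 (.leaf 0x2) (.leaf 0x4030002)) (.node 4273 (.leaf 0x0) (.leaf 0x100020003))) (.node 4276 (.node 4275 (.leaf 0x1020002) (.leaf 0x201000003)) (.node 4277 (.leaf 0x20001) (.node 4278 (.leaf 0x2000002) (.leaf 0x1))))) (.node 4283 (.node 4281 (.node 4280 (.leaf 0x40001) (.leaf 0x1010002)) (.node 4282 (.leaf 0x201010004) (.leaf 0x0))) (.node 4285 (.node 4284 (.leaf 0x1020002) (.leaf 0x100000003)) (.node 4286 (.leaf 0x3010002) (.node 4287 (.leaf 0x2010002) (.leaf 0x10100000004))))))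

def schUS_482 : Store := (.node 4270 schUS_480 schUS_481)

def schUS_483 : Store := (.node 4253 schUS_479 schUS_482)

def schUS_484 : Store := (.node 4296 (.node 4292 (.node 4290 (.node 4289 (.leaf 0x20001) (.leaf 0x1020002)) (.node 4291 (.leaf 0x20002) (.leaf 0x201010003))) (.node 4294 (.node 4293 (.leaf 0x301010003) (.leaf 0x4000002)) (.node 4295 (.leaf 0x4030002) (.leaf 0x0)))) (.node 4300 (.node 4298 (.node 4297 (.leaf 0x400000003) (.leaf 0x30001)) (.node 4299 (.leaf 0x20001) (.leaf 0x3010002))) (.node 4302 (.node 4301 (.leaf 0x0) (.leaf 0x201010003)) (.node 4303 (.leaf 0x102000003) (.node 4304 (.leaf 0x100020003) (.leaf 0x30001))))))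

def schUS_485 : Store := (.node 4314 (.node 4309 (.node 4307 (.node 4306 (.leaf 0x10001) (.leaf 0x0)) (.node 4308 (.leaf 0x1000002) (.leaf 0x20101000004))) (.node 4311 (.node 4310 (.leaf 0x10200000004) (.leaf 0x1010002)) (.node 4312 (.leaf 0x30001) (.node 4313 (.leaf 0x201010003) (.leaf 0x10001))))) (.node 4318 (.node 4316 (.node 4315 (.leaf 0x0) (.leaf 0x4030002)) (.node 4317 (.leaf 0x1000002) (.leaf 0x1000002))) (.node 4320 (.node 4319 (.leaf 0x201010003) (.leaf 0x0)) (.node 4321 (.leaf 0x2010003) (.node 4322 (.leaf 0x0) (.leaf 0x20001))))))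

def schUS_486 : Store := (.node 4305 schUS_484 schUS_485)

def schUS_487 : Store := (.node 4332 (.node 4327 (.node 4325 (.node 4324 (.leaf 0x10200000004) (.leaf 0x0)) (.node 4326 (.leaf 0x102000003) (.leaf 0x1010002))) (.node 4329 (.node 4328 (.leaf 0x100020003) (.leaf 0x20001)) (.node 4330 (.leaf 0x201010003) (.node 4331 (.leaf 0x2) (.leaf 0x0))))) (.node 4336 (.node 4334 (.node 4333 (.leaf 0x40001) (.leaf 0x2010002)) (.node 4335 (.leaf 0x1010002) (.leaf 0x2010003))) (.node 4338 (.node 4337 (.leaf 0x4030002) (.leaf 0x20101000004)) (.node 4339 (.leaf 0x2010100000005) (.node 4340 (.leaf 0x4030002) (.leaf 0x2000002))))))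

def schUS_488 : Store := (.node 4350 (.node 4345 (.node 4343 (.node 4342 (.leaf 0x10001) (.leaf 0x40001)) (.node 4344 (.leaf 0x0) (.leaf 0x4000002))) (.node 4347 (.node 4346 (.leaf 0x100020003) (.leaf 0x0)) (.node 4348 (.leaf 0x2) (.node 4349 (.leaf 0x100020003) (.leaf 0x2))))) (.node 4354 (.node 4352 (.node 4351 (.leaf 0x1000002) (.leaf 0x10200000004)) (.node 4353 (.leaf 0x30001) (.leaf 0x0))) (.node 4356 (.node 4355 (.leaf 0x100000003) (.leaf 0x201000003)) (.node 4357 (.leaf 0x1000002) (.node 4358 (.leaf 0x201010003) (.leaf 0x1000002))))))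

def schUS_489 : Store := (.node 4341 schUS_487 schUS_488)

def schUS_490 : Store := (.node 4323 schUS_486 schUS_489)

def schUS_491 : Store := (.node 4288 schUS_483 schUS_490)

def schUS_492 : Store := (.node 4367 (.node 4363 (.node 4361 (.node 4360 (.leaf 0x1010002) (.leaf 0x2010002)) (.node 4362 (.leaf 0x200000003) (.leaf 0x20001))) (.node 4365 (.node 4364 (.leaf 0x0) (.leaf 0x100000003)) (.node 4366 (.leaf 0x2010100000005) (.leaf 0x101000003)))) (.node 4371 (.node 4369 (.node 4368 (.leaf 0x10200000004) (.leaf 0x20002)) (.node 4370 (.leaf 0x2000002) (.leaf 0x201000003))) (.node 4373 (.node 4372 (.leaf 0x0) (.leaf 0x100000003)) (.node 4374 (.leaf 0x2000002) (.node 4375 (.leaf 0x40001) (.leaf 0x201000003))))))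

def schUS_493 : Store := (.node 4385 (.node 4380 (.node 4378 (.node 4377 (.leaf 0x1000002) (.leaf 0x100000003)) (.node 4379 (.leaf 0x201000003) (.leaf 0x1000002))) (.node 4382 (.node 4381 (.leaf 0x201010003) (.leaf 0x400000003)) (.node 4383 (.leaf 0x1) (.node 4384 (.leaf 0x0) (.leaf 0x101000003))))) (.node 4389 (.node 4387 (.node 4386 (.leaf 0x20002) (.leaf 0x2010002)) (.node 4388 (.leaf 0x201010004) (.leaf 0x2010100000005))) (.node 4391 (.node 4390 (.leaf 0x101000003) (.leaf 0x1020002)) (.node 4392 (.leaf 0x4000002) (.node 4393 (.leaf 0x2010003) (.leaf 0x1010002))))))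

def schUS_494 : Store := (.node 4376 schUS_492 schUS_493)

def schUS_495 : Store := (.node 4402 (.node 4398 (.node 4396 (.node 4395 (.leaf 0x2010100000005) (.leaf 0x1)) (.node 4397 (.leaf 0x1) (.leaf 0x0))) (.node 4400 (.node 4399 (.leaf 0x2000002) (.leaf 0x2010100000005)) (.node 4401 (.leaf 0x40001) (.leaf 0x3010002)))) (.node 4406 (.node 4404 (.node 4403 (.leaf 0x10001) (.leaf 0x40001)) (.node 4405 (.leaf 0x100000003) (.leaf 0x100020003))) (.node 4408 (.node 4407 (.leaf 0x30001) (.leaf 0x200000003)) (.node 4409 (.leaf 0x1) (.node 4410 (.leaf 0x0) (.leaf 0x102000003))))))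

def schUS_496 : Store := (.node 4420 (.node 4415 (.node 4413 (.node 4412 (.leaf 0x0) (.leaf 0x4000002)) (.node 4414 (.leaf 0x101000003) (.leaf 0x2000002))) (.node 4417 (.node 4416 (.leaf 0x10200000004) (.leaf 0x0)) (.node 4418 (.leaf 0x1) (.node 4419 (.leaf 0x20001) (.leaf 0x201010004))))) (.node 4424 (.node 4422 (.node 4421 (.leaf 0x2) (.leaf 0x102000003)) (.node 4423 (.leaf 0x0) (.leaf 0x40001))) (.node 4426 (.node 4425 (.leaf 0x102000003) (.leaf 0x1010002)) (.node 4427 (.leaf 0x4000002) (.node 4428 (.leaf 0x201010003) (.leaf 0x40001))))))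

def schUS_497 : Store := (.node 4411 schUS_495 schUS_496)

def schUS_498 : Store := (.node 4394 schUS_494 schUS_497)

def schUS_499 : Store := (.node 4437 (.node 4433 (.node 4431 (.node 4430 (.leaf 0x2010003) (.leaf 0x3010002)) (.node 4432 (.leaf 0x0) (.leaf 0x102000003))) (.node 4435 (.node 4434 (.leaf 0x3010002) (.leaf 0x201000003)) (.node 4436 (.leaf 0x10001) (.leaf 0x4000002)))) (.node 4441 (.node 4439 (.node 4438 (.leaf 0x400000003) (.leaf 0x10001)) (.node 4440 (.leaf 0x301010003) (.leaf 0x0))) (.node 4443 (.node 4442 (.leaf 0x201010003) (.leaf 0x100000003)) (.node 4444 (.leaf 0x10100000004) (.node 4445 (.leaf 0x1010002) (.leaf 0x3010002))))))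

def schUS_500 : Store := (.node 4455 (.node 4450 (.node 4448 (.node 4447 (.leaf 0x1010002) (.leaf 0x3010002)) (.node 4449 (.leaf 0x201010004) (.leaf 0x2000002))) (.node 4452 (.node 4451 (.leaf 0x0) (.leaf 0x1020002)) (.node 4453 (.leaf 0x201000003) (.node 4454 (.leaf 0x30001) (.leaf 0x1000002))))) (.node 4459 (.node 4457 (.node 4456 (.leaf 0x3010002) (.leaf 0x2)) (.node 4458 (.leaf 0x10100000004) (.leaf 0x10200000004))) (.node 4461 (.node 4460 (.leaf 0x40001) (.leaf 0x20001)) (.node 4462 (.leaf 0x4000002) (.node 4463 (.leaf 0x0) (.leaf 0x102000003))))))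

def schUS_501 : Store := (.node 4446 schUS_499 schUS_500)

def schUS_502 : Store := (.node 4473 (.node 4468 (.node 4466 (.node 4465 (.leaf 0x30001) (.leaf 0x3010002)) (.node 4467 (.leaf 0x102000003) (.leaf 0x201010004))) (.node 4470 (.node 4469 (.leaf 0x1) (.leaf 0x1000002)) (.node 4471 (.leaf 0x201010004) (.node 4472 (.leaf 0x201010004) (.leaf 0x20001))))) (.node 4477 (.node 4475 (.node 4474 (.leaf 0x100020003) (.leaf 0x10100000004)) (.node 4476 (.leaf 0x0) (.leaf 0x10100000004))) (.node 4479 (.node 4478 (.leaf 0x0) (.leaf 0x2010002)) (.node 4480 (.leaf 0x4030002) (.node 4481 (.leaf 0x2010100000005) (.leaf 0x400000003))))))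

def schUS_503 : Store := (.node 4491 (.node 4486 (.node 4484 (.node 4483 (.leaf 0x4000002) (.leaf 0x0)) (.node 4485 (.leaf 0x10001) (.leaf 0x201010003))) (.node 4488 (.node 4487 (.leaf 0x1020002) (.leaf 0x201000003)) (.node 4489 (.leaf 0x20100000004) (.node 4490 (.leaf 0x4030002) (.leaf 0x0))))) (.node 4495 (.node 4493 (.node 4492 (.leaf 0x2) (.leaf 0x1000002)) (.node 4494 (.leaf 0x20002) (.leaf 0x10100000004))) (.node 4497 (.node 4496 (.leaf 0x30001) (.leaf 0x0)) (.node 4498 (.leaf 0x201010004) (.node 4499 (.leaf 0x10100000004) (.leaf 0x101000003))))))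

def schUS_504 : Store := (.node 4482 schUS_502 schUS_503)

def schUS_505 : Store := (.node 4464 schUS_501 schUS_504)

def schUS_506 : Store := (.node 4429 schUS_498 schUS_505)

def schUS_507 : Store := (.node 4359 schUS_491 schUS_506)

def schUS_508 : Store := (.node 4218 schUS_476 schUS_507)

def schUS_509 : Store := (.node 3937 schUS_445 schUS_508)

def schUS_510 : Store := (.node 3375 schUS_382 schUS_509)

def schUS : Store := (.node 2250 schUS_255 schUS_510)

def uWS : Store := (.node 3 (.node 1 (.leaf 0x40001) (.node 2 (.leaf 0x60001) (.leaf 0x80001))) (.node 4 (.leaf 0x50001) (.node 5 (.leaf 0x70001) (.leaf 0x80001))))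

def ruleOfS : Store := (.leaf 0xc0008000e0007000d0005000c0008000b0006000a0004)

noncomputable def ruleOf : Nat → Nat := get16 ruleOfS

def nStabS : Store := (.leaf 0x200000000000000000000000000000000000000000001000100010001000100010001000300010001000200010002000100030001000100010001000100010002000100010001000200010001000100010001000100010001000100010001000300040004000200020003000300020002000300030002000500030003000300050003000200040005)

noncomputable def nStab : Nat → Nat := get16 nStabS

def stabOffS : Store := (.leaf 0x6f006f006f006f006f006f006f006f006f006f006f006e006d006c006b006a0069006800650064006300610060005e005d005a005900580057005600550054005200510050004f004d004c004b004a00490048004700460045004400430042003f003b0037003500330030002d002b0029002600230021001c001900160013000e000b000900050000)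

noncomputable def stabOff : Nat → Nat := get16 stabOffS

def stabFS : Store := (.node 4 (.node 2 (.node 1 (.leaf 0x22c00000229000001f8000001f4000001f1000001be000001b60000015100000149000001430000013c000000dd000000b9000000c30000000900000000) (.leaf 0x426000003b4000003b0000003ad00000369000003650000036200000325000003210000031e000002f1000002ed000002ea000002940000024a00000230)) (.node 3 (.leaf 0x6b4000006990000069600000609000006060000059d0000059a00000572000005520000054f00000521000004f7000004f40000040e0000040b00000463) (.leaf 0x8920000242200001f6700001f510000087a0000347c0000346e0000082f0000082c000007d8000007d50000076c0000076900000725000006f1000006ee))) (.node 6 (.node 5 (.leaf 0x10020000239100000fe100000f5c00000eb500000e0300000cc000000b9a00000b3700000ad600000a9700000a0d0000096c00000945000008b100000895) (.leaf 0x1cad0000166e0000162e00001d7f000015dd0000159200001525000014b900001305000012a00000124d000011c50000359a00001140000010e0000010b8)) (.node 7 (.leaf 0x1420d000093d7000089a4000085f200007d230000728b000071b100001ed8000023210000231700001a4e000019bb000017c30000187e00001734000016c3)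 (.leaf 0x142b1))))

noncomputable def stabF : Nat → Nat := getN 32 stabFS

def stabWS_1 : Store := (.node 14 (.node 7 (.node 3 (.node 1 (.leaf 0x1) (.node 2 (.leaf 0x20001) (.leaf 0x3030604000703040103000b))) (.node 5 (.node 4 (.leaf 0x7030401030006) (.leaf 0x2020007010005)) (.node 6 (.leaf 0x50001) (.leaf 0x202010102000202000701000b)))) (.node 10 (.node 8 (.leaf 0x9070908050005) (.node 9 (.leaf 0x6050002) (.leaf 0x40001))) (.node 12 (.node 11 (.leaf 0x6080002) (.leaf 0x8050002)) (.node 13 (.leaf 0x4040002) (.leaf 0x8020002020900000008))))) (.node 21 (.node 17 (.node 15 (.leaf 0x4040002) (.node 16 (.leaf 0x202000207020007010009) (.leaf 0x8020002020900000008))) (.node 19 (.node 18 (.leaf 0x7040601050002000703040103000d) (.leaf 0x900090007030401030009)) (.node 20 (.leaf 0x6060002) (.leaf 0x9030002000003010802040105000d)))) (.node 24 (.node 22 (.leaf 0x8050002) (.node 23 (.leaf 0x80000000300000008) (.leaf 0x4040002))) (.node 26 (.node 25 (.leaf 0x50001) (.leaf 0x6020002020900000008)) (.node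 27 (.leaf 0x4040002) (.leaf 0x20103070206000007))))))

def stabWS_2 : Store := (.node 42 (.node 35 (.node 31 (.node 29 (.leaf 0x20002020900000007) (.node 30 (.leaf 0x4040002) (.leaf 0x202010102000202000701000b))) (.node 33 (.node 32 (.leaf 0x1050208020401050008) (.leaf 0x201060602020007010009)) (.node 34 (.leaf 0x4040002) (.leaf 0x8020002020900000008)))) (.node 38 (.node 36 (.leaf 0x6080002) (.node 37 (.leaf 0x4040002) (.leaf 0x904000502020007010009))) (.node 40 (.node 39 (.leaf 0x4040002) (.leaf 0x20103070206000007)) (.node 41 (.leaf 0x20202090806000802040105000c) (.leaf 0x4040002))))) (.node 49 (.node 45 (.node 43 (.leaf 0x9030002000003010802040105000d) (.node 44 (.leaf 0x4040002) (.leaf 0x7080002))) (.node 47 (.node 46 (.leaf 0x4040002) (.leaf 0x8050002)) (.node 48 (.leaf 0x207030608020401050009) (.leaf 0x8050002)))) (.node 52 (.node 50 (.leaf 0x4040002) (.node 51 (.leaf 0x704070209020006) (.leaf 0x20600030306040802040105000c))) (.node 54 (.node 53 (.leaf 0x4040002) (.leaf 0x7080002))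 (.node 55 (.leaf 0x4040002) (.leaf 0x4040002))))))

def stabWS_3 : Store := (.node 28 stabWS_1 stabWS_2)

def stabWS_4 : Store := (.node 70 (.node 63 (.node 59 (.node 57 (.leaf 0x406060003) (.node 58 (.leaf 0x402020900000802040105000b) (.leaf 0x4080102020007010009))) (.node 61 (.node 60 (.leaf 0x50001) (.leaf 0x905030400050802040105000b)) (.node 62 (.leaf 0x2020900000802040105000a) (.leaf 0x9010902020007010008)))) (.node 66 (.node 64 (.leaf 0x4040002) (.node 65 (.leaf 0x20600030306040802040105000c) (.leaf 0x70209020004))) (.node 68 (.node 67 (.leaf 0x50001) (.leaf 0x9070908050005)) (.node 69 (.leaf 0x7080002) (.leaf 0x20502020901060202000701000c))))) (.node 77 (.node 73 (.node 71 (.leaf 0x4040002) (.node 72 (.leaf 0x4040002) (.leaf 0x4040002))) (.node 75 (.node 74 (.leaf 0x4040002) (.leaf 0x4040002)) (.node 76 (.leaf 0x4040002) (.leaf 0x4040002)))) (.node 80 (.node 78 (.leaf 0x4040002) (.node 79 (.leaf 0x2000200090206020202000701000d) (.leaf 0x4040002))) (.node 82 (.node 81 (.leaf 0x4040002)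 (.leaf 0x4040002)) (.node 83 (.leaf 0x4040002) (.leaf 0x204000508020401050009))))))

def stabWS_5 : Store := (.node 98 (.node 91 (.node 87 (.node 85 (.leaf 0x4040002) (.node 86 (.leaf 0x4040002) (.leaf 0x4040002))) (.node 89 (.node 88 (.leaf 0x4040002) (.leaf 0x4040002)) (.node 90 (.leaf 0x4040002) (.leaf 0x4040002)))) (.node 94 (.node 92 (.leaf 0x206000300000202000701000b) (.node 93 (.leaf 0x904020007030401030009) (.leaf 0x4040002))) (.node 96 (.node 95 (.leaf 0x4040002) (.leaf 0x80004020703000703040103000c)) (.node 97 (.leaf 0x4040002) (.leaf 0x4040002))))) (.node 105 (.node 101 (.node 99 (.leaf 0x20401070209020802040105000c) (.node 100 (.leaf 0x4040002) (.leaf 0x4040002))) (.node 103 (.node 102 (.leaf 0x4040002) (.leaf 0x9050306030500040008)) (.node 104 (.leaf 0x900090007030401030009) (.leaf 0x5080002)))) (.node 109 (.node 107 (.node 106 (.leaf 0x20002020900000007) (.leaf 0x5080002)) (.node 108 (.leaf 0x8050002) (.leaf 0x5080002))) (.node 111 (.node 110 (.leaf 0x8050002) (.leaf 0x7080002))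 (.node 112 (.leaf 0x600070009030802040105000b) (.leaf 0x204010901090006))))))

def stabWS_6 : Store := (.node 84 stabWS_4 stabWS_5)

def stabWS : Store := (.node 56 stabWS_3 stabWS_6)


end Cfsg.Agent.LyRec.Sub
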