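import Mathlib.Data.List.Basic

/-! Generated by helper24's scripts for the bound on the subgroup: the letters and words. -/

set_option autoImplicit false
set_option Elab.async false

namespace Cfsg.Agent.LyRec.Sub

/-- The ten letters as words in the lifts and their inverses. -/
def letWs : List (List Nat) := [[0, 2, 16, 4, 14, 8, 1, 2, 6], [8, 6, 5, 13, 10, 16, 2, 0, 8], [5, 6, 8, 2, 12, 14, 1, 2, 4, 0, 7, 13], [4, 5, 7, 8, 4, 5, 1, 0, 2, 6, 3, 11], [2, 13, 3, 14, 9, 11, 1], [2, 1, 5, 12, 4, 11, 0], [2, 14, 3, 13, 9, 11, 1], [2, 1, 4, 12, 5, 11, 0], [4, 7, 5, 8, 4, 7, 1, 0], [2, 4, 3, 5, 13, 11, 0, 1]]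

/-- The 120 points. -/
def ptL : List Nat := [137, 225, 229, 251, 252, 269, 353, 412, 413, 418, 419, 457, 458, 460, 490, 491, 603, 637, 638, 704, 741, 742, 744, 752, 753, 755, 821, 823, 878, 879, 881, 926, 932, 1037, 1050, 1064, 1065, 1075, 1118, 1119, 1121, 1232, 1233, 1296, 1297, 1314, 1316, 1399, 1429, 1522, 1594, 1602, 1603, 1763, 1764, 1786, 1810, 1811, 1826, 1827, 1896, 1898, 2071, 2098, 2120, 2198, 2285, 2318, 2421, 2547, 2589, 2590, 2602, 2604, 2680, 2693, 2837, 2839, 2870, 2924, 2926, 3045, 3235, 3265, 3290, 3343, 3348, 3445, 3515, 3628, 3647, 3672, 3737, 3792, 3881, 4022, 4085, 4179, 4180, 4201, 4237, 4353, 4371, 4448, 4485, 4561, 4607, 4637, 4674, 4699, 4716, 4843, 4845, 4868, 4916, 4932, 4951, 4981, 4990, 5000]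

/-- Two generators, spelled out. -/
def genW : List (List Nat) := [[4, 12, 5, 11, 4], [3, 6, 5, 16, 8, 12, 1, 0]]

/-- The letters as words in the two generators. -/
def letGen : List (List Nat) := [[1, 1, 0, 1, 0, 0, 0, 1, 0, 1, 1, 0, 0, 1], [0, 0, 0, 0, 1, 0, 1, 1, 0, 1, 1, 0, 1, 0, 0, 0], [1, 0, 0, 1, 0, 0, 1, 1, 0, 0, 1, 0, 0, 1, 1], [0, 0, 0, 1, 0, 1, 0, 0, 0, 1, 0, 0, 0, 1, 0], [0, 1, 0, 1, 0, 0, 1, 0, 1, 0, 1, 1, 0], [0, 0, 0, 0, 1, 0, 1, 0, 0, 1, 0, 1, 0, 1, 1], [0, 0, 0, 1, 0, 1, 0, 0, 1, 0, 1, 0, 1, 1, 0], [0, 0, 1, 0, 1, 0, 0, 1, 0, 1, 0, 1, 1], [0, 1, 0, 0, 0, 1, 1, 0, 1, 0, 0, 0, 1, 1], [0, 0, 1, 0, 1, 0, 0, 1, 0, 1, 0, 1, 1, 0]]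

/-- The word the extra involution is multiplied by. -/
def vW : List Nat := [10, 2, 17, 1, 6, 14, 17, 4, 14, 17, 16, 4, 3, 9, 10, 2, 3, 13, 10, 15, 12, 10, 9, 2, 1, 8, 5]

/-- That word, in the generators of the domain of the automorphism. -/
def vSquare : List Nat := [2, 2, 1, 1, 0, 2]

/-- The words to be shown in the subgroup, in the ten letters. -/
def inSub : List (List Nat) := [[1, 1, 7, 1, 9], [2, 0, 7, 2, 0], [6, 3, 8, 0]]

end Cfsg.Agent.LyRec.Sub
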