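import Cfsg.Agent.LyRec.Sub.Turns
import Cfsg.Agent.LyRec.Sub.Letters

/-!
Spelled-out words, and what is checked for the list of base images and for the sources.
-/

set_option autoImplicit false

namespace Cfsg.Agent.LyRec.Sub

open Cfsg.Agent.DCoset Cfsg.Agent.CosetCert
open Cfsg.Agent.DCoset.Ly (goL)

/-- The word of a letter. -/
def letW (g : Nat) : List Nat := letWs.getD g []

/-- A word in the ten letters spelled out. -/
def expand (w : List Nat) : List Nat := w.flatMap letW

/-- One of the two generators spelled out. -/
def genE (a : Nat) : List Nat := genW.getD a []

/-- A word in the two generators spelled out. -/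
def genExpand (w : List Nat) : List Nat := w.flatMap genE

/-- A generator carries listed triple `i` to the listed one. -/
noncomputable def okTrip (pt nxt : Nat → Nat) (i c : Nat) : Bool :=
  Nat.blt (nxt (2 * i + c)) 14400 &&
    (List.range 3).all fun l =>
      Nat.beq (goL Index.tab.act (genE c) (pt (3 * i + l))) (pt (3 * nxt (2 * i + c) + l))

/-- The turns of a source with the word of the extra involution put in. -/
def stateOf (cs : List (List Nat)) : List (List Nat) := cs.map fun c => vW ++ expand c

end Cfsg.Agent.LyRec.Sub
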