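import Cfsg.Agent.LyRec.Sub.Defs
import Cfsg.Agent.LyRec.Sub.TripData

/-! Generated by helper24's scripts for the bound on the subgroup: the images are closed. -/

set_option autoImplicit false
set_option Elab.async false

namespace Cfsg.Agent.LyRec.Sub

set_option maxRecDepth 100000
open Cfsg.Agent.DCoset Cfsg.Agent.CosetCert

theorem trip_2 : allFrom (fun i => (List.range 2).all (okTrip tripPt tripNxt i)) 2880 1440 = true := by
  decide +kernel

theorem trip_3 : allFrom (fun i => (List.range 2).all (okTrip tripPt tripNxt i)) 4320 1440 = true := by
  decide +kernel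

end Cfsg.Agent.LyRec.Sub
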