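import Cfsg.Agent.DCoset.Join
import Cfsg.Agent.LyRec.Sub.TripCheck0
import Cfsg.Agent.LyRec.Sub.TripCheck1
import Cfsg.Agent.LyRec.Sub.TripCheck2
import Cfsg.Agent.LyRec.Sub.TripCheck3
import Cfsg.Agent.LyRec.Sub.TripCheck4

/-! Generated by helper24's scripts for the bound on the subgroup: all images. -/

set_option autoImplicit false
set_option Elab.async false

namespace Cfsg.Agent.LyRec.Sub

open Cfsg.Agent.DCoset Cfsg.Agent.CosetCert

theorem trip_all {i : Nat} (hi : i < 14400) : (List.range 2).all (okTrip tripPt tripNxt i) = true :=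
  allFrom_all (n := 14400) (allFrom_join 12960 1440 14400 rfl (allFrom_join 11520 1440 12960 rfl (allFrom_join 10080 1440 11520 rfl (allFrom_join 8640 1440 10080 rfl (allFrom_join 7200 1440 8640 rfl (allFrom_join 5760 1440 7200 rfl (allFrom_join 4320 1440 5760 rfl (allFrom_join 2880 1440 4320 rfl (allFrom_join 1440 1440 2880 rfl trip_0 trip_1) trip_2) trip_3) trip_4) trip_5) trip_6) trip_7) trip_8) trip_9) hi

end Cfsg.Agent.LyRec.Sub
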