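import Cfsg.Agent.DCoset.PermModel
import Cfsg.Agent.LyRec.Sub.TripCheck
import Cfsg.Agent.LyRec.Sub.Cert

/-!
The ten letters generate a subgroup of the double cover of order at most 14400, which acts on 120
of the points; the images of three of these tell its elements apart.
-/

set_option autoImplicit false
set_option maxRecDepth 100000
set_option Elab.async false

namespace Cfsg.Agent.LyRec.Sub

open Cfsg.Agent.DCoset Cfsg.Agent.CosetCert Cfsg.Agent.LyLocal
open Cfsg.Agent.LyRec.Index (qL rho bpt rho_faithful dd_finite)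
open Cfsg.Agent.DCoset.Ly (goL goL_eq)

/-- A letter carries the points as the table says. -/
noncomputable def okAct (g : Nat) : Bool :=
  (List.range 120).all fun j => Nat.blt (tab.act g j) 120 &&
    Nat.beq (goL Index.tab.act (letW g) (ptL.getD j 0)) (ptL.getD (tab.act g j) 0)

theorem act_all : ((List.range 10).all okAct) = true := by
  decide +kernel

theorem ptL_ok : ((List.range 120).map fun j => ptL.getD j 0).Nodup ∧
    (ptL.all fun p => Nat.blt p 5040) = true ∧ ptL.length = 120 := by
  decide +kernel

theorem letW_lt : ((List.range 10).all fun g => (letW g).all fun a => Nat.blt a 18) = true := by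
  decide +kernel

theorem genW_lt : ((List.range 2).all fun a => (genE a).all fun g => Nat.blt g 30) = true := by
  decide +kernel

theorem letGen_ok : ((List.range 10).all fun g =>
    (letGen.getD g []).all (fun a => Nat.blt a 2) && eqW (letW g) (genExpand (letGen.getD g []))) =
      true := by
  decide +kernel

section

variable [IsSimpleGroup P]

/-- The subgroup generated by the letters. -/
noncomputable def QS : Subgroup DD := Subgroup.closure (Set.range fun g : Fin 10 => qv (letW g.val))

theorem letW_mem {g : Nat} (hg : g < 10) : qv (letW g) ∈ QS :=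
  Subgroup.subset_closure ⟨⟨g, hg⟩, rfl⟩

theorem genExpand_mem (S : Submonoid DD) (hS : ∀ a, a < 2 → qv (genE a) ∈ S) : ∀ w : List Nat,
    (w.all fun a => Nat.blt a 2) = true → qv (genExpand w) ∈ S
  | [], _ => by simp [genExpand, qv]
  | a :: w, h => by
    simp only [List.all_cons, Bool.and_eq_true] at h
    rw [genExpand, List.flatMap_cons, qv_append]
    exact S.mul_mem (hS a (Nat.ble_eq.mp h.1)) (genExpand_mem S hS w h.2)

/-- The images of the base under an element. -/
noncomputable def img (a : DD) (l : Nat) : Nat := ((rho a)⁻¹ (bpt l)).val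

theorem img_mul (a : DD) {w : List Nat} (hw : ∀ g ∈ w, g < 30) (l : Nat) :
    img (a * qv w) l = goL Index.tab.act w (img a l) := by
  rw [img, map_mul, mul_inv_rev, Equiv.Perm.mul_apply, rho_qv w hw]
  rfl

theorem card_QS : Nat.card QS ≤ 14400 := by
  have := dd_finite
  classical
  let S : Set DD := {a | ∃ i : Fin 14400, ∀ l, l < 3 → img a l = tripPt (3 * i.val + l)}
  have h1 : (1 : DD) ∈ S := ⟨⟨0, by norm_num⟩, fun l hl => by
    rw [img, map_one, inv_one, Equiv.Perm.one_apply]
    interval_cases l <;> decide +kernel⟩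
  have hmul : ∀ a ∈ S, ∀ c, c < 2 → a * qv (genE c) ∈ S := by
    rintro a ⟨i, hi⟩ c hc
    have hok := trip_all i.2
    simp only [List.all_eq_true] at hok
    have h := hok c (List.mem_range.2 hc)
    simp only [okTrip, Bool.and_eq_true, List.all_eq_true] at h
    refine ⟨⟨tripNxt (2 * i.val + c), Nat.ble_eq.mp h.1⟩, fun l hl => ?_⟩
    rw [img_mul a (fun g hg => Nat.ble_eq.mp (List.all_eq_true.1 (List.all_eq_true.1 genW_lt c
      (List.mem_range.2 hc)) g hg)), hi l hl]
    exact Nat.eq_of_beq_eq_true (h.2 l (List.mem_range.2 hl))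
  let M : Submonoid DD := Submonoid.closure {z | ∃ c, c < 2 ∧ z = qv (genE c)}
  have hM : ∀ a ∈ M, a ∈ S := fun a ha => by
    induction ha using Submonoid.closure_induction_right with
    | one => exact h1
    | mul_right b _ z hz ih => obtain ⟨c, hc, rfl⟩ := hz; exact hmul b ih c hc
  have hQ : ∀ a ∈ QS, a ∈ S := fun a ha => by
    refine hM a ?_
    change a ∈ QS.toSubmonoid at ha
    rw [QS, Subgroup.closure_toSubmonoid_of_finite] at ha
    refine Submonoid.closure_le.2 ?_ ha
    rintro _ ⟨g, rfl⟩
    have h := List.all_eq_true.1 letGen_ok g.val (List.mem_range.2 g.2)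
    rw [Bool.and_eq_true] at h
    show qv (letW g.val) ∈ M
    rw [eqW_sound h.2]
    exact genExpand_mem M (fun c hc => Submonoid.subset_closure ⟨c, hc, rfl⟩) _ h.1
  choose idx hidx using fun a : QS => hQ a a.2
  refine le_trans (Nat.card_le_card_of_injective idx fun a b h => Subtype.ext ?_) (by simp)
  refine mul_inv_eq_one.1 (rho_faithful _ fun l hl => ?_)
  have e : (rho (a : DD))⁻¹ (bpt l) = (rho (b : DD))⁻¹ (bpt l) := Fin.ext (by
    show img a l = img b l
    rw [hidx a l hl, hidx b l hl, h])
  rw [map_mul, mul_inv_rev, Equiv.Perm.mul_apply, e, map_inv, inv_inv]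
  exact Equiv.apply_symm_apply _ _

/-- One of the 120 points. -/
def emb (j : Fin 120) : Fin 5040 := Fin.ofNat 5040 (ptL.getD j.val 0)

omit [IsSimpleGroup P] in
theorem emb_val (j : Fin 120) : (emb j).val = ptL.getD j.val 0 := by
  have h : ptL.getD j.val 0 < 5040 := by
    obtain ⟨-, hlt, hlen⟩ := ptL_ok
    rw [List.getD_eq_getElem _ _ (by omega)]
    exact Nat.ble_eq.mp (List.all_eq_true.1 hlt _ (List.getElem_mem _))
  rw [emb, Fin.val_ofNat, Nat.mod_eq_of_lt h]

omit [IsSimpleGroup P] in
theorem emb_inj : Function.Injective emb := fun i j h => by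
  have e := congrArg Fin.val h
  rw [emb_val, emb_val] at e
  exact Fin.ext (List.inj_on_of_nodup_map ptL_ok.1 (List.mem_range.2 i.2) (List.mem_range.2 j.2) e)

theorem act_emb {g : Nat} (hg : g < 10) (j : Fin 120) :
    ∃ j' : Fin 120, (rho (qv (letW g)))⁻¹ (emb j) = emb j' ∧ j'.val = tab.act g j.val := by
  have h := List.all_eq_true.1 act_all g (List.mem_range.2 hg)
  have h' := List.all_eq_true.1 h j.val (List.mem_range.2 j.2)
  rw [Bool.and_eq_true] at h'
  refine ⟨⟨tab.act g j.val, Nat.ble_eq.mp h'.1⟩, Fin.ext ?_, rfl⟩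
  rw [rho_qv _ (fun a ha => lt_trans (Nat.ble_eq.mp
    (List.all_eq_true.1 (List.all_eq_true.1 letW_lt g (List.mem_range.2 hg)) a ha)) (by norm_num)),
    emb_val, emb_val]
  exact Nat.eq_of_beq_eq_true h'.2

theorem stable (a : QS) (j : Fin 120) : ∃ j', (rho (a : DD))⁻¹ (emb j) = emb j' := by
  have := dd_finite
  have key : ∀ c ∈ Submonoid.closure (Set.range fun g : Fin 10 => qv (letW g.val)),
      ∀ j : Fin 120, ∃ j', (rho c)⁻¹ (emb j) = emb j' := by
    intro c hc
    induction hc using Submonoid.closure_induction with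
    | mem z hz => obtain ⟨g, rfl⟩ := hz; exact fun j => ⟨_, (act_emb g.2 j).choose_spec.1⟩
    | one => exact fun j => ⟨j, by simp⟩
    | mul b c _ _ hb hc =>
      intro j
      obtain ⟨k, hk⟩ := hb j
      obtain ⟨m, hm⟩ := hc k
      exact ⟨m, by rw [map_mul, mul_inv_rev, Equiv.Perm.mul_apply, hk, hm]⟩
  refine key a ?_ j
  have ha : (a : DD) ∈
      (Subgroup.closure (Set.range fun g : Fin 10 => qv (letW g.val))).toSubmonoid := a.2
  rwa [Subgroup.closure_toSubmonoid_of_finite] at ha

/-- Where an element sends a point. -/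
noncomputable def move (a : QS) (j : Fin 120) : Fin 120 := (stable a j).choose

theorem move_spec (a : QS) (j : Fin 120) : emb (move a j) = (rho (a : DD))⁻¹ (emb j) :=
  (stable a j).choose_spec.symm

/-- The action on the 120 points. -/
noncomputable def sigma : QS →* Equiv.Perm (Fin 120) where
  toFun a :=
    { toFun := move a⁻¹
      invFun := move a
      left_inv := fun j => emb_inj (by simp [move_spec])
      right_inv := fun j => emb_inj (by simp [move_spec]) }
  map_one' := Equiv.ext fun j => emb_inj (by simp [move_spec])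
  map_mul' a b := Equiv.ext fun j => emb_inj (by simp [move_spec])

theorem sigma_inv (a : QS) (j : Fin 120) : (sigma a)⁻¹ j = move a j := rfl

/-- The letters in the subgroup. -/
noncomputable def qS (g : Nat) : QS := if h : g < 10 then ⟨qv (letW g), letW_mem h⟩ else 1

/-- The base. -/
noncomputable def bp (l : Nat) : Fin 120 := Fin.ofNat 120 (fld tab.base l)

theorem acts : Acts sigma tab qS bp where
  small := by norm_num
  act_eq g hg j := by
    change g < 10 at hg
    obtain ⟨j', he, hv⟩ := act_emb hg j
    rw [sigma_inv, ← hv]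
    refine congrArg Fin.val (emb_inj ?_)
    rw [move_spec, qS, dif_pos hg, ← he]
  act_lt := tab_act_lt
  base_eq := by decide +kernel

theorem faithful : ∀ a : QS, (∀ l, l < tab.k → (sigma a)⁻¹ (bp l) = bp l) → a = 1 :=
  have := dd_finite
  have h0 : 0 < cover.nLive := valid.live_zero.1
  acts.faithful (cover.chain 0) card_QS
    (by
      have h := valid.idx_eq 0 h0
      have e : cover.idx 0 = 1 := by decide +kernel
      rwa [e, one_mul] at h)
    (fun l a hl ha => valid.chain_gen 0 l a h0 hl ha)
    (fun l j hl hj => valid.chain_pt 0 l j h0 hl hj)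

/-- The subgroup as a model. -/
noncomputable def model : QModel QS := acts.toQModel faithful

theorem model_gens : Subgroup.closure {z | ∃ g, g < model.nL ∧ z = model.q g} = ⊤ := by
  have e : {z : QS | ∃ g, g < model.nL ∧ z = model.q g} =
      (Subtype.val : QS → DD) ⁻¹' Set.range fun g : Fin 10 => qv (letW g.val) := by
    ext z
    constructor
    · rintro ⟨g, hg, rfl⟩
      change g < 10 at hg
      exact ⟨⟨g, hg⟩, by show _ = (qS g).1; rw [qS, dif_pos hg]⟩
    · rintro ⟨g, hg⟩
      refine ⟨g.val, g.2, Subtype.ext ?_⟩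
      show z.1 = (qS g.val).1
      rw [qS, dif_pos g.2]
      exact hg.symm
  rw [e]
  exact Subgroup.closure_closure_coe_preimage

theorem model_val {w : List Nat} (hw : ∀ g ∈ w, g < 10) :
    (((w.map model.q).prod : QS) : DD) = qv (expand w) := by
  induction w with
  | nil => simp [expand, qv]
  | cons g w ih =>
    rw [List.map_cons, List.prod_cons, Subgroup.coe_mul,
      ih fun a ha => hw a (List.mem_cons_of_mem _ ha), expand, expand, List.flatMap_cons, qv_append]
    congr 1
    show (qS g).1 = _
    rw [qS, dif_pos (hw g List.mem_cons_self)]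

end

end Cfsg.Agent.LyRec.Sub
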