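import Cfsg.Agent.LyRec.Sub.Defs

/-! Generated by helper24's scripts for the bound on the subgroup: derived relators. -/

set_option autoImplicit false
set_option Elab.async false

namespace Cfsg.Agent.LyRec.Sub

/-- Sources and their derivations. -/
def src0 : List (List (List Nat) × List Step) :=
  [([[1, 3, 0, 3], [0, 3, 6, 2, 0], [7, 1, 3, 0, 3]], [⟨2, .tri 0 [1, 0, 2, 0, 1, 0, 2, 0] [0, 1, 2, 0, 1, 2, 2, 0, 1], [[4, 6, 5, 8, 4, 6, 0, 3, 1, 9, 2], [2, 3, 7, 0, 8, 16, 1, 5, 4]]⟩, ⟨1, .last [0, 2, 0, 1, 1, 2, 0], []⟩]),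
   ([[0, 4, 1, 8, 0, 8], [1, 5, 3, 6, 1], [0, 7, 2, 4, 0]], [⟨2, .tri 0 [0, 2, 0, 1, 1, 2, 0] [0, 1, 2, 0, 1, 2, 2, 0, 1], [[0, 6, 4, 10, 17, 14, 0, 6], [2, 3, 7, 17, 10, 16, 0, 4, 5]]⟩, ⟨1, .last [0, 1, 0, 2, 0, 1, 0, 2, 0], []⟩]),
   ([[1, 2, 4, 2, 8, 0], [1, 7, 3, 1, 3], [2, 0, 2, 6, 0]], [⟨2, .tri 0 [1, 0, 2, 0, 1, 0, 2, 0] [1, 0, 1, 2, 2, 0, 2, 1], [[2, 3, 6, 17, 6], [4, 5, 7, 1, 8, 16, 0, 3, 2]]⟩, ⟨1, .last [2, 1, 0, 1, 2, 0, 1], []⟩]),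
   ([[2, 1, 2, 0], [2, 1, 2, 0, 6], [0, 3, 6, 2, 0]], [⟨2, .tri 0 [0, 2, 0, 1, 1, 2, 0] [1, 0, 1, 2, 2, 0, 2, 1], [[0, 6, 5, 8, 1, 13, 0, 6], [4, 5, 7, 0, 8, 16, 1, 2, 3]]⟩, ⟨1, .last [0, 2, 2, 1, 2, 2, 1], []⟩]),
   ([[8, 9], [9], [9]], [⟨0, .split 0 [] [], [[4, 0, 15, 3, 14, 11, 1, 3, 8], [2, 3, 5, 1, 17, 9, 6, 16], [8, 7, 4, 10, 14, 11, 1, 0, 12], [4, 5, 6, 16, 9, 15, 1]]⟩, ⟨3, .tri 0 [1, 2, 2, 1, 2, 0, 2, 2] [0, 2, 0, 1, 1, 2, 2, 0], [[4, 0, 2, 14, 17, 12, 1, 15], [8, 6, 2, 7, 12, 5, 0, 1], [8, 7, 4, 10, 14, 11, 1, 0, 12]]⟩, ⟨2, .tri 0 [2, 2, 0, 2, 2] [0, 2, 0, 1, 1, 2, 2, 0], [[3, 1, 6, 16, 11, 15, 0, 1, 3], [3, 1, 6, 16, 11, 15, 0, 1, 3]]⟩, ⟨1, .last [0, 2, 1, 1, 0, 2, 2, 0],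 []⟩]),
   ([[1, 9, 0, 4], [0, 6, 0], [1, 2, 5, 0, 7], [1, 7, 1]], [⟨0, .split 0 [2, 0, 1, 2, 2, 1] [0, 1, 0, 2, 0, 1, 2, 2], [[4, 15, 5, 16, 8, 13, 1, 0, 3, 10, 11], [2, 3, 5, 1, 17, 9, 6, 16], [2, 8, 4, 6, 2, 16, 0, 1], [3, 14, 1, 15, 2, 17, 4, 7, 0], [3, 2, 13, 1, 15, 14, 0, 7]]⟩, ⟨4, .tri 0 [0, 2, 0, 2, 2, 0, 1, 1, 2] [0, 1, 0, 1, 0, 2], [[1, 5, 11, 4, 12, 0, 7, 6, 8], [6, 4, 7, 2, 6, 3, 0, 1], [2, 8, 4, 6, 2, 16, 0, 1], [3, 14, 1, 15, 2, 17, 4, 7, 0]]⟩, ⟨3, .tri 0 [0, 2, 1, 1, 0, 2, 2, 0, 2] [1, 0, 2, 1], [[5, 6, 3, 13, 0, 17, 0, 1, 2, 7, 15], [2, 0, 3, 11, 17, 13, 1, 16], [2, 8, 4, 6, 2, 16, 0, 1]]⟩, ⟨2, .tri 0 [0, 2, 1, 1, 2, 2, 1, 1] [0, 1, 1, 1, 0, 2, 1], [[0, 7, 2, 8, 1,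 12, 0, 7], [2, 3, 4, 8, 16, 8, 0, 5, 10]]⟩, ⟨1, .last [2, 0, 2, 2, 0, 1, 2], []⟩]),
   ([[4, 2, 2, 0, 6], [0, 6, 0], [2, 2, 5, 6, 0], [1, 7, 1]], [⟨0, .split 0 [2, 0, 1, 2, 2, 1] [0, 1, 0, 2, 0, 1, 2, 2], [[4, 5, 16, 8, 14, 15, 0, 1, 3, 2, 0, 13], [2, 3, 5, 1, 17, 9, 6, 16], [2, 8, 4, 6, 2, 16, 0, 1], [17, 2, 16, 6, 13, 14, 0, 1, 15], [3, 2, 13, 1, 15, 14, 0, 7]]⟩, ⟨4, .tri 0 [2, 0, 1, 1, 2, 2, 0, 2] [0, 1, 0, 1, 0, 2], [[13, 2, 14, 3, 10, 7, 0, 15, 17], [6, 4, 7, 2, 6, 3, 0, 1], [2, 8, 4, 6, 2, 16, 0, 1], [17, 2, 16, 6, 13, 14, 0, 1, 15]]⟩, ⟨3, .tri 0 [2, 0, 2, 2, 1, 1, 0, 2] [1, 0, 2, 1], [[5, 6, 3, 13, 0, 17, 0, 1, 2, 7, 15], [2, 0, 3, 11, 17, 13, 1, 16], [2, 8, 4, 6, 2, 16, 0,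 1]]⟩, ⟨2, .tri 0 [0, 2, 1, 1, 2, 2, 1, 1] [0, 1, 1, 1, 0, 2, 1], [[0, 7, 2, 8, 1, 12, 0, 7], [2, 3, 4, 8, 16, 8, 0, 5, 10]]⟩, ⟨1, .last [2, 0, 2, 2, 0, 1, 2], []⟩]),
   ([[2, 9, 2, 7], [0, 9, 1], [2, 9, 2, 7], [0, 9, 1]], [⟨0, .split 0 [0, 2, 1, 0, 1, 1] [0, 1, 2, 2, 0], [[4, 0, 14, 7, 15, 17], [2, 3, 5, 1, 17, 9, 6, 16], [3, 2, 6, 8, 14, 13, 1, 2, 9], [2, 3, 14, 6, 17, 7, 4], [2, 7, 8, 0, 15, 12, 2, 4, 5]]⟩, ⟨4, .tri 0 [0, 2, 1, 1, 0, 2, 0, 1, 2] [2, 0, 1, 1, 0, 1], [[5, 2, 3, 17, 16, 15, 1, 0, 4, 11], [3, 2, 4, 5, 9, 7, 1, 6], [3, 2, 6, 8, 14, 13, 1, 2, 9], [2, 3, 14, 6, 17, 7, 4]]⟩, ⟨3, .tri 0 [1, 0, 2, 1, 1] [0, 1, 1, 1, 0, 2, 1], [[3, 2, 9, 5, 16, 8, 4, 15], [4, 5, 2, 1, 15,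 12, 0, 17], [3, 2, 6, 8, 14, 13, 1, 2, 9]]⟩, ⟨2, .tri 0 [2, 2, 1, 2, 1, 2, 1] [1, 0, 2, 1], [[1, 0, 2, 3], [5, 15, 7, 17, 13, 15, 1, 0, 2, 12, 2]]⟩, ⟨1, .last [0, 1, 1, 1, 0, 2, 1], []⟩]),
   ([[0, 4, 1, 4, 1, 1], [0, 9, 1], [0, 0, 5, 0, 5, 1], [0, 9, 1]], [⟨0, .split 0 [0, 2, 1, 0, 1, 1] [0, 1, 2, 2, 0], [[3, 2, 4, 0, 7, 5, 6, 8], [2, 3, 5, 1, 17, 9, 6, 16], [3, 2, 6, 8, 14, 13, 1, 2, 9], [5, 15, 7, 11, 13, 12, 2], [2, 7, 8, 0, 15, 12, 2, 4, 5]]⟩, ⟨4, .tri 0 [2, 2, 1, 2, 1, 2, 1] [2, 0, 1, 1, 0, 1], [[8, 10, 4, 12, 16, 14, 2, 0], [3, 2, 4, 5, 9, 7, 1, 6], [3, 2, 6, 8, 14, 13, 1, 2, 9], [5, 15, 7, 11, 13, 12, 2]]⟩, ⟨3, .tri 0 [0, 2, 1, 0, 1, 1] [0, 1, 1, 1, 0, 2, 1], [[3, 2, 9, 5,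 16, 8, 4, 15], [4, 5, 2, 1, 15, 12, 0, 17], [3, 2, 6, 8, 14, 13, 1, 2, 9]]⟩, ⟨2, .tri 0 [2, 2, 1, 2, 1, 2, 1] [1, 0, 2, 1], [[1, 0, 2, 3], [5, 15, 7, 17, 13, 15, 1, 0, 2, 12, 2]]⟩, ⟨1, .last [0, 1, 1, 1, 0, 2, 1], []⟩]),
   ([[8], [9, 2, 1], [7], [1, 5, 3]], [⟨3, .rule [0, 2, 0, 1, 1], [[3, 2, 5, 7, 15, 7, 1, 4, 9], [2, 3, 5, 7, 15, 7, 0, 4, 10]]⟩, ⟨1, .last [1, 1, 2, 1, 1, 0], []⟩]),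
   ([[6, 6, 8], [1, 3, 3], [6, 6], [0, 9, 1]], [⟨3, .rule [1, 2, 0, 1, 1, 0, 1], [[4, 6, 0, 7, 15, 10, 0, 5], [4, 6, 0, 7, 15, 10, 0, 5]]⟩, ⟨1, .last [1, 1, 0, 1, 2, 2, 1, 2], []⟩]),
   ([[2, 2, 6, 3, 4], [0, 4, 0], [0, 7, 3, 4, 0], [1, 5, 1]], [⟨3, .tri 0 [2, 0, 2, 2, 0, 2, 0] [0, 1, 2, 1, 1, 1, 2, 0], [[1, 16, 6, 13, 10, 12, 0, 17, 5, 11], [8, 5, 13, 2, 16, 6, 0, 1, 3, 5, 8], [7, 8, 6, 4, 5, 9]]⟩, ⟨2, .tri 0 [0, 1, 1, 1, 1, 2, 0, 2] [1, 0, 1, 2, 2, 0, 2, 1], [[1, 2, 4, 3, 5, 13, 0, 2, 1], [0, 1, 0, 1]]⟩, ⟨1, .last [1, 1, 1, 1], []⟩]),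
   ([[4, 7, 8], [0, 4, 0], [4, 6, 8], [1, 5, 1]], [⟨3, .rule [0, 2, 2, 0, 1, 1, 2], [[6, 2, 8, 16, 14, 15, 3, 13], [4, 5, 6, 17, 7, 15, 1, 0, 2, 12, 2]]⟩, ⟨1, .last [0, 1, 0, 1, 0, 2, 1], []⟩]),
   ([[8], [3, 6], [7, 8], [3]], [⟨3, .rule [0, 2, 0, 1, 1], [[6, 3, 8, 5, 7, 15, 2, 13], [6, 3, 8, 5, 7, 15, 2, 13]]⟩, ⟨1, .last [0, 2, 0, 1, 1, 0, 2, 0, 2], []⟩]),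
   ([[4, 6], [1, 2, 2], [5, 7], [1, 9]], [⟨3, .rule [0, 1, 2, 1, 1, 1], [[3, 2, 5, 6, 16, 6, 0, 4, 10], [5, 4, 6, 16, 12, 15, 0, 2, 1, 3, 0]]⟩, ⟨1, .last [2, 0, 1, 1, 0, 2, 0, 2], []⟩]),
   ([[8], [0, 4, 3], [5, 7], [0, 2]], [⟨3, .rule [0, 2, 0, 1, 1], [[3, 2, 5, 6, 16, 6, 0, 4, 10], [5, 4, 6, 16, 12, 15, 0, 2, 1, 3, 0]]⟩, ⟨1, .last [2, 0, 1, 1, 0, 2, 0, 2], []⟩]),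
   ([[4, 8], [1, 5, 0], [4, 8], [0, 5, 1]], [⟨3, .rule [0, 1, 0, 2, 0, 1, 0], [[4, 15, 8, 16, 14, 15, 1, 0, 2, 12, 2], [2, 6, 17, 7, 15, 13, 0, 3, 1, 5, 0]]⟩, ⟨1, .last [0, 2, 2, 1, 1, 0, 2], []⟩]),
   ([[5, 7, 8], [0, 4, 0], [5, 6, 8], [1, 5, 1]], [⟨3, .rule [0, 2, 2, 1, 1, 0, 2], [[6, 2, 8, 5, 7, 15, 3, 13], [5, 4, 6, 17, 7, 15, 1, 0]]⟩, ⟨1, .last [0, 1, 1, 2, 0, 1, 1], []⟩]),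
   ([[4, 7, 8], [3, 3, 9], [6], [1, 8, 1]], [⟨3, .rule [0, 2, 2, 0, 1, 1, 2], [[2, 3, 5, 7, 15, 7, 0, 4, 10], [3, 2, 5, 7, 15, 7, 1, 4, 9]]⟩, ⟨1, .last [1, 0, 1, 0, 2, 1], []⟩]),
   ([[4, 4], [1, 7, 0], [6, 6, 8], [1, 2]], [⟨3, .rule [2, 2, 0, 1, 1, 2], [[5, 4, 6, 17, 7, 15, 0, 1], [5, 4, 6, 17, 7, 15, 0, 1]]⟩, ⟨1, .last [1, 2, 0, 1, 1, 0, 1], []⟩]),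
   ([[4, 8], [0, 0, 6, 1], [5, 6, 6], [1, 2, 0]], [⟨3, .rule [0, 1, 0, 2, 0, 1, 0], [[4, 5, 7, 15, 7], [2, 3, 5, 7, 15, 7, 1, 4, 9]]⟩, ⟨1, .last [0, 1, 2, 0, 1, 1, 0, 1], []⟩]),
   ([[4, 8], [1, 1, 6], [4, 7, 8], [1, 1]], [⟨3, .rule [0, 1, 0, 2, 0, 1, 0], [[2, 6, 4, 8, 16, 6, 0, 3, 1, 5, 0], [5, 15, 8, 16, 13, 15, 1, 0]]⟩, ⟨1, .last [0, 1, 1, 2, 1, 1, 0], []⟩]),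
   ([[4, 4], [0, 2, 4], [5, 6], [3, 1]], [⟨3, .rule [2, 2, 0, 1, 1, 2], [[2, 3, 5, 7, 15, 7, 1, 4, 9], [4, 5, 7, 15, 7]]⟩, ⟨1, .last [1, 1, 2, 2, 1, 1, 0, 2], []⟩]),
   ([[8], [1, 9, 1], [8], [1, 9, 1]], [⟨3, .rule [0, 2, 0, 1, 1], [[4, 5, 6, 17, 7, 15, 0, 1, 2, 12, 2], [4, 5, 6, 17, 7, 15, 0, 1, 2, 12, 2]]⟩, ⟨1, .last [0, 2, 0, 1, 1], []⟩]),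
   ([[5, 6, 8], [9, 2, 2], [7], [1, 8, 1]], [⟨3, .rule [0, 1, 1, 0, 1, 2, 2, 1, 2], [[3, 2, 5, 7, 15, 7, 1, 4, 9], [2, 3, 5, 7, 15, 7, 0, 4, 10]]⟩, ⟨1, .last [1, 1, 2, 1, 1, 0], []⟩]),
   ([[5], [5, 7]], [⟨1, .last [2, 0, 1, 1, 0, 2, 0, 2], []⟩]),
   ([[4, 4], [1, 2], [4, 4], [3, 0]], [⟨3, .rule [2, 2, 0, 1, 1, 2], [[5, 6, 2, 7, 15, 12, 2, 4], [4, 6, 0, 7, 1, 6, 0, 5]]⟩, ⟨1, .last [0, 1, 1, 1, 2, 2, 1, 2], []⟩]),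
   ([[4, 8], [1, 4, 0], [4, 8], [0, 4, 1]], [⟨3, .rule [0, 1, 0, 2, 0, 1, 0], [[4, 15, 8, 16, 14, 15, 1, 0, 2, 12, 2], [2, 6, 17, 7, 15, 13, 0, 3, 1, 5, 0]]⟩, ⟨1, .last [0, 2, 2, 1, 1, 0, 2], []⟩]),
   ([[4, 4], [0, 0], [4, 4], [1, 1]], [⟨3, .rule [2, 2, 0, 1, 1, 2], [[5, 6, 2, 7, 15, 12, 2, 4], [4, 6, 0, 7, 1, 6, 0, 5]]⟩, ⟨1, .last [0, 1, 1, 1, 2, 2, 1, 2], []⟩]),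
   ([[7], [6]], [⟨1, .last [1, 0, 1, 0, 2, 1], []⟩])]

end Cfsg.Agent.LyRec.Sub
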