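import Cfsg.Agent.LyRec.Sub.Defs

/-! Generated by helper24's scripts for the bound on the subgroup: derived relators. -/

set_option autoImplicit false
set_option Elab.async false

namespace Cfsg.Agent.LyRec.Sub

/-- Sources and their derivations. -/
def src1 : List (List (List Nat) × List Step) :=
  [([[4, 4, 7, 8], [9, 1, 3], [5, 6], [0, 4, 1]], [⟨3, .rule [1, 2, 2, 1, 2], [[2, 3, 5, 7, 15, 7, 1, 4, 9], [4, 5, 7, 15, 7]]⟩, ⟨1, .last [1, 1, 2, 2, 1, 1, 0, 2], []⟩]),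
   ([[5, 8], [1, 4, 9], [4, 6, 8], [9, 1]], [⟨3, .rule [0, 1, 0, 1, 0, 2, 1], [[6, 2, 8, 16, 14, 15, 3, 13], [4, 5, 6, 17, 7, 15, 1, 0, 2, 12, 2]]⟩, ⟨1, .last [0, 1, 0, 1, 0, 2, 1], []⟩]),
   ([[5, 6], [2, 0, 4], [6, 6], [2, 0]], [⟨3, .rule [0, 1, 2, 0, 1, 1, 0, 1], [[4, 6, 0, 7, 15, 10, 0, 5], [4, 6, 0, 7, 15, 10, 0, 5]]⟩, ⟨1, .last [1, 1, 0, 1, 2, 2, 1, 2], []⟩]),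
   ([[4, 4, 6, 6, 8], [0, 3, 8], [4, 6, 8], [1, 1]], [⟨3, .rule [1, 2, 1, 1, 1], [[6, 2, 8, 16, 14, 15, 3, 13], [4, 5, 6, 17, 7, 15, 1, 0, 2, 12, 2]]⟩, ⟨1, .last [0, 1, 0, 1, 0, 2, 1], []⟩]),
   ([[4, 6, 6], [2, 2, 4], [7], [3, 3]], [⟨3, .rule [2, 2, 0, 2, 1, 1], [[3, 2, 5, 7, 15, 7, 1, 4, 9], [2, 3, 5, 7, 15, 7, 0, 4, 10]]⟩, ⟨1, .last [1, 1, 2, 1, 1, 0], []⟩]),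
   ([[4, 4, 7, 8], [0, 0, 3, 6], [6, 6], [3, 0]], [⟨3, .rule [1, 2, 2, 1, 2], [[4, 6, 0, 7, 15, 10, 0, 5], [4, 6, 0, 7, 15, 10, 0, 5]]⟩, ⟨1, .last [1, 1, 0, 1, 2, 2, 1, 2], []⟩]),
   ([[4, 4], [0], [4, 4], [1]], [⟨3, .rule [2, 2, 0, 1, 1, 2], [[5, 6, 2, 7, 15, 12, 2, 4], [4, 6, 0, 7, 1, 6, 0, 5]]⟩, ⟨1, .last [0, 1, 1, 1, 2, 2, 1, 2], []⟩]),
   ([[4, 4], [1, 2, 4], [5, 6], [3, 0]], [⟨3, .rule [2, 2, 0, 1, 1, 2], [[2, 3, 5, 7, 15, 7, 1, 4, 9], [4, 5, 7, 15, 7]]⟩, ⟨1, .last [1, 1, 2, 2, 1, 1, 0, 2], []⟩]),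
   ([[4, 4], [1, 3, 0], [4, 4], [1, 2, 0]], [⟨3, .rule [2, 2, 0, 1, 1, 2], [[5, 6, 2, 7, 15, 12, 2, 4], [4, 6, 0, 7, 1, 6, 0, 5]]⟩, ⟨1, .last [0, 1, 1, 1, 2, 2, 1, 2], []⟩]),
   ([[6], [7]], [⟨1, .last [1, 1, 2, 1, 1, 0], []⟩]),
   ([[8], [8]], [⟨1, .last [0, 2, 0, 1, 1], []⟩]),
   ([[5, 6, 6, 8], [9, 1, 9], [4, 6, 6, 8], [3, 3, 1]], [⟨3, .rule [0, 1, 1, 2, 1, 1, 0], [[5, 4, 6, 17, 7, 15, 1, 0], [6, 2, 8, 5, 7, 15, 3, 13]]⟩, ⟨1, .last [0, 1, 1, 0, 1, 2, 2, 1, 2], []⟩]),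
   ([[4, 4, 6, 8], [9], [5, 6, 8], [9]], [⟨3, .rule [0, 2, 2, 0, 2, 1, 1], [[6, 2, 8, 5, 7, 15, 3, 13], [5, 4, 6, 17, 7, 15, 1, 0]]⟩, ⟨1, .last [0, 1, 1, 2, 0, 1, 1], []⟩]),
   ([[6], [7]], [⟨1, .last [1, 1, 2, 1, 1, 0], []⟩]),
   ([[4, 7, 8], [0, 6, 0], [5, 6, 8], [1, 7, 1]], [⟨3, .rule [0, 2, 2, 0, 1, 1, 2], [[6, 2, 8, 5, 7, 15, 3, 13], [5, 4, 6, 17, 7, 15, 1, 0]]⟩, ⟨1, .last [0, 1, 1, 2, 0, 1, 1], []⟩]),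
   ([[4, 6, 8], [3, 7, 0], [5], [3, 1]], [⟨3, .rule [1, 1, 1, 2, 2, 1, 2], [[5, 4, 6, 16, 12, 15, 0, 2, 1, 3, 0], [3, 2, 5, 6, 16, 6, 0, 4, 10]]⟩, ⟨1, .last [2, 0, 1, 1], []⟩]),
   ([[4, 6, 6], [3, 9, 1], [4, 8], [1, 2]], [⟨3, .rule [2, 2, 0, 2, 1, 1], [[4, 15, 8, 16, 14, 15, 1, 0, 2, 12, 2], [2, 6, 17, 7, 15, 13, 0, 3, 1, 5, 0]]⟩, ⟨1, .last [0, 2, 2, 1, 1, 0, 2], []⟩]),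
   ([[4, 4, 7, 8], [0, 0, 3, 9], [5, 7], [9, 3, 0]], [⟨3, .rule [1, 2, 2, 1, 2], [[3, 2, 5, 6, 16, 6, 0, 4, 10], [5, 4, 6, 16, 12, 15, 0, 2, 1, 3, 0]]⟩, ⟨1, .last [2, 0, 1, 1, 0, 2, 0, 2], []⟩]),
   ([[5, 6, 6, 8], [3, 3, 4], [7, 8], [3, 3]], [⟨3, .rule [0, 1, 1, 2, 1, 1, 0], [[6, 3, 8, 5, 7, 15, 2, 13], [6, 3, 8, 5, 7, 15, 2, 13]]⟩, ⟨1, .last [0, 2, 0, 1, 1, 0, 2, 0, 2], []⟩]),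
   ([[4, 4], [0, 4, 7], [5, 6, 6], [1]], [⟨3, .rule [2, 2, 0, 1, 1, 2], [[4, 5, 7, 15, 7], [2, 3, 5, 7, 15, 7, 1, 4, 9]]⟩, ⟨1, .last [0, 1, 2, 0, 1, 1, 0, 1], []⟩]),
   ([[4, 6], [3, 0, 2], [6, 6], [0, 4, 1]], [⟨3, .rule [0, 1, 2, 1, 1, 1], [[4, 6, 0, 7, 15, 10, 0, 5], [4, 6, 0, 7, 15, 10, 0, 5]]⟩, ⟨1, .last [1, 1, 0, 1, 2, 2, 1, 2], []⟩]),
   ([[4, 7, 8], [1, 3, 1], [4, 4, 6, 8], [0, 2, 0]], [⟨3, .rule [0, 2, 2, 0, 1, 1, 2], [[3, 6, 17, 7, 15, 13, 0, 2, 1, 5, 0], [6, 3, 8, 16, 14, 15, 2, 13]]⟩, ⟨1, .last [1, 2, 2, 1, 2], []⟩]),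
   ([[5, 7, 8], [0, 0, 2, 0], [6], [1, 6, 1]], [⟨3, .rule [0, 2, 2, 1, 1, 0, 2], [[2, 3, 5, 7, 15, 7, 0, 4, 10], [3, 2, 5, 7, 15, 7, 1, 4, 9]]⟩, ⟨1, .last [1, 0, 1, 0, 2, 1], []⟩]),
   ([[8], [3, 6, 1], [4, 8], [1, 5, 3]], [⟨3, .rule [0, 2, 0, 1, 1], [[4, 15, 8, 16, 14, 15, 1, 0, 2, 12, 2], [2, 6, 17, 7, 15, 13, 0, 3, 1, 5, 0]]⟩, ⟨1, .last [0, 2, 2, 1, 1, 0, 2], []⟩]),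
   ([[4, 4], [0, 4, 2], [4, 4], [3, 5, 1]], [⟨3, .rule [2, 2, 0, 1, 1, 2], [[5, 6, 2, 7, 15, 12, 2, 4], [4, 6, 0, 7, 1, 6, 0, 5]]⟩, ⟨1, .last [0, 1, 1, 1, 2, 2, 1, 2], []⟩]),
   ([[4, 4], [3, 1], [4, 4], [0, 2]], [⟨3, .rule [2, 2, 0, 1, 1, 2], [[5, 6, 2, 7, 15, 12, 2, 4], [4, 6, 0, 7, 1, 6, 0, 5]]⟩, ⟨1, .last [0, 1, 1, 1, 2, 2, 1, 2], []⟩]),
   ([[5], [0, 2, 0, 2], [5], [0, 2, 0, 2]], [⟨3, .rule [2, 0, 1, 1, 0, 2, 0, 2], [[5, 4, 6, 16, 12, 15, 0, 2, 1, 3, 0], [3, 2, 5, 6, 16, 6, 0, 4, 10]]⟩, ⟨1, .last [2, 0, 1, 1], []⟩]),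
   ([[5, 8], [9, 1, 7], [4, 6, 8], [1, 9]], [⟨3, .rule [0, 1, 0, 1, 0, 2, 1], [[6, 2, 8, 16, 14, 15, 3, 13], [4, 5, 6, 17, 7, 15, 1, 0, 2, 12, 2]]⟩, ⟨1, .last [0, 1, 0, 1, 0, 2, 1], []⟩]),
   ([[4], [1, 6, 2], [4, 6, 8], [0, 2]], [⟨3, .rule [0, 1, 2, 2, 1, 2], [[6, 2, 8, 16, 14, 15, 3, 13], [4, 5, 6, 17, 7, 15, 1, 0, 2, 12, 2]]⟩, ⟨1, .last [0, 1, 0, 1, 0, 2, 1], []⟩]),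
   ([[4, 4], [0, 0, 3, 0], [6, 6, 8], [1, 6, 1]], [⟨3, .rule [2, 2, 0, 1, 1, 2], [[5, 4, 6, 17, 7, 15, 0, 1], [5, 4, 6, 17, 7, 15, 0, 1]]⟩, ⟨1, .last [1, 2, 0, 1, 1, 0, 1], []⟩])]

end Cfsg.Agent.LyRec.Sub
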