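import Cfsg.Agent.LyRec.Sub.Defs

/-! Generated by helper24's scripts for the bound on the subgroup: derived relators. -/

set_option autoImplicit false
set_option Elab.async false

namespace Cfsg.Agent.LyRec.Sub

/-- Sources and their derivations. -/
def src7 : List (List (List Nat) × List Step) :=
  [([[4, 4, 7], [1, 7, 1], [7], [1, 7, 1]], [⟨3, .rule [1, 0, 2, 0, 1, 0], [[3, 2, 5, 7, 15, 7, 1, 4, 9], [2, 3, 5, 7, 15, 7, 0, 4, 10]]⟩, ⟨1, .last [1, 1, 2, 1, 1, 0], []⟩]),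
   ([[6, 8], [6, 8]], [⟨1, .last [2, 1, 2, 1, 2, 2, 1, 1], []⟩]),
   ([[5, 7, 8], [0, 3, 3], [6, 8], [2, 2, 1]], [⟨3, .rule [0, 2, 2, 1, 1, 0, 2], [[3, 6, 4, 8, 16, 6, 0, 2, 1, 5, 0], [3, 6, 4, 8, 16, 6, 0, 2, 1, 5, 0]]⟩, ⟨1, .last [2, 1, 2, 1, 2, 2, 1, 1], []⟩]),
   ([[4, 4, 6, 6], [9, 0, 9], [6, 6], [3, 3, 1]], [⟨3, .rule [0, 1, 1, 1, 2, 2, 1, 2], [[4, 6, 0, 7, 15, 10, 0, 5], [4, 6, 0, 7, 15, 10, 0, 5]]⟩, ⟨1, .last [1, 1, 0, 1, 2, 2, 1, 2], []⟩]),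
   ([[4, 8], [0, 9, 3], [5, 6, 6], [2, 0]], [⟨3, .rule [0, 1, 0, 2, 0, 1, 0], [[4, 5, 7, 15, 7], [2, 3, 5, 7, 15, 7, 1, 4, 9]]⟩, ⟨1, .last [0, 1, 2, 0, 1, 1, 0, 1], []⟩]),
   ([[4, 4, 6, 8], [9, 1, 1], [7, 8], [1, 5, 3]], [⟨3, .rule [0, 2, 2, 0, 2, 1, 1], [[6, 3, 8, 5, 7, 15, 2, 13], [6, 3, 8, 5, 7, 15, 2, 13]]⟩, ⟨1, .last [0, 2, 0, 1, 1, 0, 2, 0, 2], []⟩]),
   ([[6, 6, 8], [0, 3, 5], [6, 6], [1, 1]], [⟨3, .rule [1, 2, 0, 1, 1, 0, 1], [[4, 6, 0, 7, 15, 10, 0, 5], [4, 6, 0, 7, 15, 10, 0, 5]]⟩, ⟨1, .last [1, 1, 0, 1, 2, 2, 1, 2], []⟩]),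
   ([[5], [2, 7, 3], [5, 6, 6], [1, 3, 0]], [⟨3, .rule [2, 0, 1, 1, 0, 2, 0, 2], [[4, 5, 7, 15, 7], [2, 3, 5, 7, 15, 7, 1, 4, 9]]⟩, ⟨1, .last [0, 1, 2, 0, 1, 1, 0, 1], []⟩])]

end Cfsg.Agent.LyRec.Sub
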