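import Cfsg.Agent.LyRec.Sub.RuleData

/-! Generated by tools/dcoset/emit.py: step words. -/

set_option Elab.async false

namespace Cfsg.Agent.LyRec.Sub

open Cfsg.Agent.DCoset Cfsg.Agent.CosetCert

def argWS_1 : Store := (.node 11 (.node 5 (.node 2 (.node 1 (.leaf 0x1) (.leaf 0x1)) (.node 3 (.leaf 0x0) (.node 4 (.leaf 0x1) (.leaf 0x0)))) (.node 8 (.node 6 (.leaf 0x1) (.node 7 (.leaf 0x0) (.leaf 0x2))) (.node 9 (.leaf 0x0) (.node 10 (.leaf 0x20001) (.leaf 0x20001))))) (.node 16 (.node 13 (.node 12 (.leaf 0x0) (.leaf 0x1)) (.node 14 (.leaf 0x0) (.node 15 (.leaf 0x20001) (.leaf 0x0)))) (.node 19 (.node 17 (.leaf 0x20001) (.node 18 (.leaf 0x0) (.leaf 0x1))) (.node 20 (.leaf 0x0) (.node 21 (.leaf 0x20001) (.leaf 0x0))))))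

def argWS_2 : Store := (.node 33 (.node 27 (.node 24 (.node 23 (.leaf 0x20001) (.leaf 0x0)) (.node 25 (.leaf 0x1) (.node 26 (.leaf 0x0) (.leaf 0x20001)))) (.node 30 (.node 28 (.leaf 0x0) (.node 29 (.leaf 0x1) (.leaf 0x0))) (.node 31 (.leaf 0x20001) (.node 32 (.leaf 0x0) (.leaf 0x20001))))) (.node 39 (.node 36 (.node 34 (.leaf 0x0) (.node 35 (.leaf 0x1) (.leaf 0x0))) (.node 37 (.leaf 0x20001) (.node 38 (.leaf 0x0) (.leaf 0x1)))) (.node 42 (.node 40 (.leaf 0x0) (.node 41 (.leaf 0x20001) (.leaf 0x0))) (.node 43 (.leaf 0x1) (.node 44 (.leaf 0x0) (.leaf 0x20001))))))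

def argWS_3 : Store := (.node 22 argWS_1 argWS_2)

def argWS_4 : Store := (.node 56 (.node 50 (.node 47 (.node 46 (.leaf 0x0) (.leaf 0x1)) (.node 48 (.leaf 0x0) (.node 49 (.leaf 0x20001) (.leaf 0x0)))) (.node 53 (.node 51 (.leaf 0x20001) (.node 52 (.leaf 0x0) (.leaf 0x1))) (.node 54 (.leaf 0x0) (.node 55 (.leaf 0x20001) (.leaf 0x0))))) (.node 61 (.node 58 (.node 57 (.leaf 0x20001) (.leaf 0x0)) (.node 59 (.leaf 0x1) (.node 60 (.leaf 0x0) (.leaf 0x20001)))) (.node 64 (.node 62 (.leaf 0x0) (.node 63 (.leaf 0x20001) (.leaf 0x0))) (.node 65 (.leaf 0x1) (.node 66 (.leaf 0x0) (.leaf 0x1))))))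

def argWS_5 : Store := (.node 78 (.node 72 (.node 69 (.node 68 (.leaf 0x0) (.leaf 0x1)) (.node 70 (.leaf 0x0) (.node 71 (.leaf 0x20001) (.leaf 0x0)))) (.node 75 (.node 73 (.leaf 0x1) (.node 74 (.leaf 0x0) (.leaf 0x1))) (.node 76 (.leaf 0x0) (.node 77 (.leaf 0x20001) (.leaf 0x0))))) (.node 84 (.node 81 (.node 79 (.leaf 0x1) (.node 80 (.leaf 0x0) (.leaf 0x20001))) (.node 82 (.leaf 0x0) (.node 83 (.leaf 0x20001) (.leaf 0x0)))) (.node 87 (.node 85 (.leaf 0x1) (.node 86 (.leaf 0x0) (.leaf 0x1))) (.node 88 (.leaf 0x0) (.node 89 (.leaf 0x1) (.leaf 0x0))))))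

def argWS_6 : Store := (.node 67 argWS_4 argWS_5)

def argWS_7 : Store := (.node 45 argWS_3 argWS_6)

def argWS_8 : Store := (.node 101 (.node 95 (.node 92 (.node 91 (.leaf 0x20001) (.leaf 0x0)) (.node 93 (.leaf 0x20001) (.node 94 (.leaf 0x0) (.leaf 0x1)))) (.node 98 (.node 96 (.leaf 0x0) (.node 97 (.leaf 0x1) (.leaf 0x0))) (.node 99 (.leaf 0x1) (.node 100 (.leaf 0x0) (.leaf 0x20001))))) (.node 106 (.node 103 (.node 102 (.leaf 0x0) (.leaf 0x20001)) (.node 104 (.leaf 0x0) (.node 105 (.leaf 0x1) (.leaf 0x0)))) (.node 109 (.node 107 (.leaf 0x1) (.node 108 (.leaf 0x0) (.leaf 0x20001))) (.node 110 (.leaf 0x0) (.node 111 (.leaf 0x1) (.leaf 0x0))))))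

def argWS_9 : Store := (.node 123 (.node 117 (.node 114 (.node 113 (.leaf 0x20001) (.leaf 0x0)) (.node 115 (.leaf 0x1) (.node 116 (.leaf 0x0) (.leaf 0x20001)))) (.node 120 (.node 118 (.leaf 0x0) (.node 119 (.leaf 0x3030500040802040105000a) (.leaf 0x0))) (.node 121 (.leaf 0x202020003) (.node 122 (.leaf 0x0) (.leaf 0x1010002))))) (.node 129 (.node 126 (.node 124 (.leaf 0x0) (.node 125 (.leaf 0x10001) (.leaf 0x0))) (.node 127 (.leaf 0x3030500040802040105000a) (.node 128 (.leaf 0x0) (.leaf 0x10300070206000802040105000c)))) (.node 132 (.node 130 (.leaf 0x0) (.node 131 (.leaf 0x2020002) (.leaf 0x0))) (.node 133 (.leaf 0x50000070206000802040105000c) (.node 134 (.leaf 0x0) (.leaf 0x20002))))))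

def argWS_10 : Store := (.node 112 argWS_8 argWS_9)

def argWS_11 : Store := (.node 146 (.node 140 (.node 137 (.node 136 (.leaf 0x0) (.leaf 0x2060105020202010202000701000d)) (.node 138 (.leaf 0x0) (.node 139 (.leaf 0x3030002) (.leaf 0x0)))) (.node 143 (.node 141 (.leaf 0x10300070206000802040105000c) (.node 142 (.leaf 0x0) (.leaf 0x10001))) (.node 144 (.leaf 0x0) (.node 145 (.leaf 0x3070002000003010802040105000d) (.leaf 0x0))))) (.node 151 (.node 148 (.node 147 (.leaf 0x1) (.leaf 0x0)) (.node 149 (.leaf 0x20601050206040202000701000c) (.node 150 (.leaf 0x0) (.leaf 0x3050900090202000701000a)))) (.node 154 (.node 152 (.leaf 0x0) (.node 153 (.leaf 0x20601050206040202000701000c) (.leaf 0x0))) (.node 155 (.leaf 0x701030802020007010009) (.node 156 (.leaf 0x0) (.leaf 0x800040901090006))))))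

def argWS_12 : Store := (.node 168 (.node 162 (.node 159 (.node 158 (.leaf 0x0) (.leaf 0x3050900090202000701000a)) (.node 160 (.leaf 0x0) (.node 161 (.leaf 0x200070209020006) (.leaf 0x0)))) (.node 165 (.node 163 (.leaf 0x1) (.node 164 (.leaf 0x0) (.leaf 0x300070206000802040105000b))) (.node 166 (.leaf 0x0) (.node 167 (.leaf 0x20601050206040202000701000c) (.leaf 0x0))))) (.node 174 (.node 171 (.node 169 (.leaf 0x905020202010802040105000b) (.node 170 (.leaf 0x0) (.leaf 0x6040000030306040202000701000d))) (.node 172 (.leaf 0x0) (.node 173 (.leaf 0x701030802020007010009) (.leaf 0x0)))) (.node 177 (.node 175 (.leaf 0x20002090109000703040103000c) (.node 176 (.leaf 0x0) (.leaf 0x60205020202010802040105000c))) (.node 178 (.leaf 0x0) (.node 179 (.leaf 0x90006020702010802040105000c) (.leaf 0x0))))))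

def argWS_13 : Store := (.node 157 argWS_11 argWS_12)

def argWS_14 : Store := (.node 135 argWS_10 argWS_13)

def argWS_15 : Store := (.node 90 argWS_7 argWS_14)

def argWS_16 : Store := (.node 191 (.node 185 (.node 182 (.node 181 (.leaf 0x202020003) (.leaf 0x0)) (.node 183 (.leaf 0x104010703060202000701000b) (.node 184 (.leaf 0x0) (.leaf 0x60000020106060007)))) (.node 188 (.node 186 (.leaf 0x0) (.node 187 (.leaf 0x907020901060802040105000b) (.leaf 0x0))) (.node 189 (.leaf 0x3050900090202000701000a) (.node 190 (.leaf 0x0) (.leaf 0x6040000000300000802040105000d))))) (.node 196 (.node 193 (.node 192 (.leaf 0x0) (.leaf 0x0)) (.node 194 (.leaf 0x500000000030000000703040103000e) (.node 195 (.leaf 0x500000000030000000703040103000e) (.leaf 0x0)))) (.node 199 (.node 197 (.leaf 0x7030401030006) (.node 198 (.leaf 0x0) (.leaf 0x3030604000703040103000b))) (.node 200 (.leaf 0x0) (.node 201 (.leaf 0x3030604000703040103000b) (.leaf 0x0))))))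

def argWS_17 : Store := (.node 213 (.node 207 (.node 204 (.node 203 (.leaf 0x3030604000703040103000b) (.leaf 0x0)) (.node 205 (.leaf 0x3030604000703040103000b) (.node 206 (.leaf 0x0) (.leaf 0x7030401030006)))) (.node 210 (.node 208 (.leaf 0x0) (.node 209 (.leaf 0x3030604000703040103000b) (.leaf 0x0))) (.node 211 (.leaf 0x907020901060802040105000b) (.node 212 (.leaf 0x0) (.leaf 0x307010703060006))))) (.node 219 (.node 216 (.node 214 (.leaf 0x0) (.node 215 (.leaf 0x104010703060202000701000b) (.leaf 0x0))) (.node 217 (.leaf 0x904020007030401030009) (.node 218 (.leaf 0x0) (.leaf 0x60000020106060007)))) (.node 222 (.node 220 (.leaf 0x0) (.node 221 (.leaf 0x4080102020007010009) (.leaf 0x0))) (.node 223 (.leaf 0x0) (.node 224 (.leaf 0x0) (.leaf 0x80500070206000202000701000c))))))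

def argWS_18 : Store := (.node 202 argWS_16 argWS_17)

def argWS_19 : Store := (.node 236 (.node 230 (.node 227 (.node 226 (.leaf 0x0) (.leaf 0x1010002)) (.node 228 (.leaf 0x0) (.node 229 (.leaf 0x20002090106000703040103000d) (.leaf 0x0)))) (.node 233 (.node 231 (.leaf 0x10102000004) (.node 232 (.leaf 0x0) (.leaf 0x20102090106000703040103000c))) (.node 234 (.leaf 0x0) (.node 235 (.leaf 0x30403010703060007) (.leaf 0x0))))) (.node 241 (.node 238 (.node 237 (.leaf 0x1020205020604000703040103000d) (.leaf 0x0)) (.node 239 (.leaf 0x30400030306040007) (.node 240 (.leaf 0x0) (.leaf 0x0)))) (.node 244 (.node 242 (.leaf 0x202010908050006) (.node 243 (.leaf 0x902010400050006) (.leaf 0x0))) (.node 245 (.leaf 0xe0d0002) (.node 246 (.leaf 0x0) (.leaf 0x0))))))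

def argWS_20 : Store := (.node 258 (.node 252 (.node 249 (.node 248 (.leaf 0x60105020202010202000701000c) (.leaf 0x0)) (.node 250 (.leaf 0x7020900090005) (.node 251 (.leaf 0x0) (.leaf 0x30407020902000703040103000c)))) (.node 255 (.node 253 (.leaf 0x0) (.node 254 (.leaf 0x701040005000703040103000b) (.leaf 0x0))) (.node 256 (.leaf 0x3010900090202000701000a) (.node 257 (.leaf 0x0) (.leaf 0x4000502020007010009))))) (.node 264 (.node 261 (.node 259 (.leaf 0x0) (.node 260 (.leaf 0x0) (.leaf 0x40004000408010802040105000c))) (.node 262 (.leaf 0x102070209020006) (.node 263 (.leaf 0x0) (.leaf 0xa0a0002)))) (.node 267 (.node 265 (.leaf 0x0) (.node 266 (.leaf 0x0) (.leaf 0x1020102090106000703040103000d))) (.node 268 (.leaf 0x0) (.node 269 (.leaf 0x30701090402000703040103000c) (.leaf 0x0))))))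

def argWS_21 : Store := (.node 247 argWS_19 argWS_20)

def argWS_22 : Store := (.node 225 argWS_18 argWS_21)

def argWS_23 : Store := (.node 281 (.node 275 (.node 272 (.node 271 (.leaf 0x0) (.leaf 0x400020804000202000701000c)) (.node 273 (.leaf 0x400000408010006) (.node 274 (.leaf 0x0) (.leaf 0xf0b0b0a0a0005)))) (.node 278 (.node 276 (.leaf 0x0) (.node 277 (.leaf 0x0) (.leaf 0x400040900090202000701000b))) (.node 279 (.leaf 0x0) (.node 280 (.leaf 0x3000002) (.leaf 0x0))))) (.node 286 (.node 283 (.node 282 (.leaf 0x300000003) (.leaf 0x0)) (.node 284 (.leaf 0x209010908050202000701000b) (.node 285 (.leaf 0x0) (.leaf 0x306030500040202000701000c)))) (.node 289 (.node 287 (.leaf 0x0) (.node 288 (.leaf 0x800090000090802040105000b) (.leaf 0x0))) (.node 290 (.leaf 0x0) (.node 291 (.leaf 0x40301070306000703040103000c) (.leaf 0x801090206020802040105000b))))))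

def argWS_24 : Store := (.node 303 (.node 297 (.node 294 (.node 293 (.leaf 0x0) (.leaf 0xd0b0b0003)) (.node 295 (.leaf 0x0) (.node 296 (.leaf 0x0) (.leaf 0x9020603000703040103000a)))) (.node 300 (.node 298 (.leaf 0x0) (.node 299 (.leaf 0x70206030500040202000701000c) (.leaf 0x0))) (.node 301 (.leaf 0xe0a0a0003) (.node 302 (.leaf 0x200000003) (.leaf 0x0))))) (.node 309 (.node 306 (.node 304 (.leaf 0x60501090402000703040103000c) (.node 305 (.leaf 0x0) (.leaf 0x10700020901060802040105000c))) (.node 307 (.leaf 0x0) (.node 308 (.leaf 0x2060106020702010202000701000d) (.leaf 0x0)))) (.node 312 (.node 310 (.leaf 0x60000090206020202000701000d) (.node 311 (.leaf 0x0) (.leaf 0x10707000903000703040103000c))) (.node 313 (.leaf 0x0) (.node 314 (.leaf 0x90209020602000703040103000c) (.leaf 0x0))))))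

def argWS_25 : Store := (.node 292 argWS_23 argWS_24)

def argWS_26 : Store := (.node 326 (.node 320 (.node 317 (.node 316 (.leaf 0x0) (.leaf 0x50001)) (.node 318 (.leaf 0x50001) (.node 319 (.leaf 0x0) (.leaf 0x50001)))) (.node 323 (.node 321 (.leaf 0x0) (.node 322 (.leaf 0x0) (.leaf 0x0))) (.node 324 (.leaf 0x202010102000202000701000b) (.node 325 (.leaf 0x202010102000202000701000b) (.leaf 0x0))))) (.node 331 (.node 328 (.node 327 (.leaf 0x202010102000202000701000b) (.leaf 0x0)) (.node 329 (.leaf 0x0) (.node 330 (.leaf 0x9070908050005) (.leaf 0x9070908050005)))) (.node 334 (.node 332 (.leaf 0x0) (.node 333 (.leaf 0x50001) (.leaf 0x0))) (.node 335 (.leaf 0x9070908050005) (.node 336 (.leaf 0x0) (.leaf 0x0))))))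

def argWS_27 : Store := (.node 348 (.node 342 (.node 339 (.node 338 (.leaf 0x6050002) (.leaf 0x6050002)) (.node 340 (.leaf 0x0) (.node 341 (.leaf 0x6050002) (.leaf 0x0)))) (.node 345 (.node 343 (.leaf 0x9070908050005) (.node 344 (.leaf 0x0) (.leaf 0x6050002))) (.node 346 (.leaf 0x0) (.node 347 (.leaf 0x6050002) (.leaf 0x0))))) (.node 354 (.node 351 (.node 349 (.leaf 0x9070908050005) (.node 350 (.leaf 0x0) (.leaf 0x6050002))) (.node 352 (.leaf 0x0) (.node 353 (.leaf 0x50001) (.leaf 0x0)))) (.node 357 (.node 355 (.leaf 0x6050002) (.node 356 (.leaf 0x0) (.leaf 0x9070908050005))) (.node 358 (.leaf 0x0) (.node 359 (.leaf 0x9070908050005) (.leaf 0x0))))))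

def argWS_28 : Store := (.node 337 argWS_26 argWS_27)

def argWS_29 : Store := (.node 315 argWS_25 argWS_28)

def argWS_30 : Store := (.node 270 argWS_22 argWS_29)

def argWS_31 : Store := (.node 180 argWS_15 argWS_30)

def argWS_32 : Store := (.node 371 (.node 365 (.node 362 (.node 361 (.leaf 0xd0b0002) (.leaf 0xe0001)) (.node 363 (.leaf 0xf0001) (.node 364 (.leaf 0x60200070206000202000701000c) (.leaf 0x0)))) (.node 368 (.node 366 (.leaf 0xa0a0002) (.node 367 (.leaf 0xb0b0002) (.leaf 0xb0a0f0003))) (.node 369 (.leaf 0x0) (.node 370 (.leaf 0xf0a0002) (.leaf 0xa0001))))) (.node 376 (.node 373 (.node 372 (.leaf 0x202010908050202000701000b) (.leaf 0x0)) (.node 374 (.leaf 0x209010901090202000701000b) (.node 375 (.leaf 0x0) (.leaf 0x30009020602000703040103000c)))) (.node 379 (.node 377 (.leaf 0x0) (.node 378 (.leaf 0x3070002000003010802040105000d) (.leaf 0x0))) (.node 380 (.leaf 0x0) (.node 381 (.leaf 0x17b) (.leaf 0x902010207030802040105000b))))))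

def argWS_33 : Store := (.node 393 (.node 387 (.node 384 (.node 383 (.leaf 0x0) (.leaf 0xb0b0a0003)) (.node 385 (.leaf 0xb0b0a0a0004) (.node 386 (.leaf 0x6010500020802040105000c) (.leaf 0x0)))) (.node 390 (.node 388 (.leaf 0x40002020007010008) (.node 389 (.leaf 0x0) (.leaf 0x90703010102000202000701000c))) (.node 391 (.leaf 0x0) (.node 392 (.leaf 0xb0f0a0a0004) (.leaf 0x0))))) (.node 399 (.node 396 (.node 394 (.leaf 0xf0b0b0a0004) (.node 395 (.leaf 0x500070306000703040103000b) (.leaf 0x0))) (.node 397 (.leaf 0xb0001) (.node 398 (.leaf 0x0) (.leaf 0x3010003)))) (.node 402 (.node 400 (.leaf 0x0) (.node 401 (.leaf 0x0) (.leaf 0x103090805000703040103000b))) (.node 403 (.leaf 0xb0a0a0003) (.node 404 (.leaf 0x304010301010200000703040103000e) (.leaf 0x0))))))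

def argWS_34 : Store := (.node 382 argWS_32 argWS_33)

def argWS_35 : Store := (.node 416 (.node 410 (.node 407 (.node 406 (.leaf 0xe0001) (.leaf 0x2020002090106000703040103000d)) (.node 408 (.leaf 0x0) (.node 409 (.leaf 0x40406020702010007) (.leaf 0x0)))) (.node 413 (.node 411 (.leaf 0x0) (.node 412 (.leaf 0x40003090000090802040105000c) (.leaf 0x800070206000802040105000c))) (.node 414 (.leaf 0x0) (.node 415 (.leaf 0x60509020602000703040103000c) (.leaf 0x0))))) (.node 421 (.node 418 (.node 417 (.leaf 0x1030103080202000701000a) (.leaf 0x0)) (.node 419 (.leaf 0x0) (.node 420 (.leaf 0x50105020604000703040103000c) (.leaf 0x0)))) (.node 424 (.node 422 (.leaf 0x0) (.node 423 (.leaf 0x1a5000192) (.leaf 0xb0b0a0003))) (.node 425 (.leaf 0xf0001) (.node 426 (.leaf 0x90007000903000703040103000c) (.leaf 0x0))))))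

def argWS_36 : Store := (.node 438 (.node 432 (.node 429 (.node 428 (.leaf 0x0) (.leaf 0x0)) (.node 430 (.leaf 0xb0a0002) (.node 431 (.leaf 0x102020003) (.leaf 0x0)))) (.node 435 (.node 433 (.leaf 0x0) (.node 434 (.leaf 0xb0f0002) (.leaf 0x102020003))) (.node 436 (.leaf 0x0) (.node 437 (.leaf 0x0) (.leaf 0x0))))) (.node 444 (.node 441 (.node 439 (.leaf 0x40001) (.node 440 (.leaf 0x40001) (.leaf 0x0))) (.node 442 (.leaf 0x40001) (.node 443 (.leaf 0x0) (.leaf 0x4040002)))) (.node 447 (.node 445 (.leaf 0x0) (.node 446 (.leaf 0x0) (.leaf 0x6080002))) (.node 448 (.leaf 0x6080002) (.node 449 (.leaf 0x0) (.leaf 0x40001))))))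

def argWS_37 : Store := (.node 427 argWS_35 argWS_36)

def argWS_38 : Store := (.node 405 argWS_34 argWS_37)

def argWS_39 : Store := (.node 461 (.node 455 (.node 452 (.node 451 (.leaf 0x0) (.leaf 0x6080002)) (.node 453 (.leaf 0x0) (.node 454 (.leaf 0xf0a0002) (.leaf 0xf0b0b0a0004)))) (.node 458 (.node 456 (.leaf 0xd0b0b0003) (.node 457 (.leaf 0xa0f0002) (.leaf 0xa0f0b0b0004))) (.node 459 (.leaf 0x60401090109000703040103000c) (.node 460 (.leaf 0x0) (.leaf 0xe0001))))) (.node 466 (.node 463 (.node 462 (.leaf 0x80500070009030007) (.leaf 0x0)) (.node 464 (.leaf 0x5030502000003010802040105000d) (.node 465 (.leaf 0x0) (.leaf 0x0)))) (.node 469 (.node 467 (.leaf 0x2060102010606000703040103000d) (.node 468 (.leaf 0x0) (.leaf 0x2060207020703040103000a))) (.node 470 (.leaf 0x50000000408010802040105000c) (.node 471 (.leaf 0x406030500040202000701000b) (.leaf 0x0))))))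

def argWS_40 : Store := (.node 483 (.node 477 (.node 474 (.node 473 (.leaf 0x90104010908050802040105000c) (.leaf 0x0)) (.node 475 (.leaf 0x90201070209020802040105000c) (.node 476 (.leaf 0x0) (.leaf 0x0)))) (.node 480 (.node 478 (.leaf 0x50105020202010007) (.node 479 (.leaf 0x0) (.leaf 0x60501050206040802040105000c))) (.node 481 (.leaf 0x0) (.node 482 (.leaf 0x0) (.leaf 0x0))))) (.node 489 (.node 486 (.node 484 (.leaf 0x0) (.node 485 (.leaf 0xf0b0a0003) (.leaf 0x700070206000202000701000b))) (.node 487 (.leaf 0x0) (.node 488 (.leaf 0x0) (.leaf 0xb0b0a0a0004)))) (.node 492 (.node 490 (.leaf 0x700070206000202000701000b) (.node 491 (.leaf 0x0) (.leaf 0x0))) (.node 493 (.leaf 0xd0b0002) (.node 494 (.leaf 0x700070206000202000701000b) (.leaf 0x0))))))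

def argWS_41 : Store := (.node 472 argWS_39 argWS_40)

def argWS_42 : Store := (.node 506 (.node 500 (.node 497 (.node 496 (.leaf 0x0) (.leaf 0x0)) (.node 498 (.leaf 0x8050002) (.node 499 (.leaf 0x0) (.leaf 0x0)))) (.node 503 (.node 501 (.leaf 0x4040002) (.node 502 (.leaf 0x4040002) (.leaf 0x0))) (.node 504 (.leaf 0x0) (.node 505 (.leaf 0x8020002020900000008) (.leaf 0x8020002020900000008))))) (.node 511 (.node 508 (.node 507 (.leaf 0x0) (.leaf 0x8020002020900000008)) (.node 509 (.leaf 0x0) (.node 510 (.leaf 0x8050002) (.leaf 0x0)))) (.node 514 (.node 512 (.leaf 0xa0f0002) (.node 513 (.leaf 0xd0001) (.leaf 0xf0a0a0003))) (.node 515 (.leaf 0xd0001) (.node 516 (.leaf 0x702000003010202000701000c) (.leaf 0xd0b0002))))))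

def argWS_43 : Store := (.node 528 (.node 522 (.node 519 (.node 518 (.leaf 0x30702020007010007) (.leaf 0x600040807030401030009)) (.node 520 (.leaf 0x0) (.node 521 (.leaf 0x0) (.leaf 0x208)))) (.node 525 (.node 523 (.leaf 0xb0a0f0003) (.node 524 (.leaf 0x0) (.leaf 0x0))) (.node 526 (.leaf 0x603010202090000000703040103000e) (.node 527 (.leaf 0x0) (.leaf 0xf0b0b0a0a0005))))) (.node 534 (.node 531 (.node 529 (.leaf 0xb0f0a0a0004) (.node 530 (.leaf 0x402060402020007010009) (.leaf 0x0))) (.node 532 (.leaf 0x50200050206040202000701000c) (.node 533 (.leaf 0x0) (.leaf 0x9070002090106000703040103000d)))) (.node 537 (.node 535 (.leaf 0x2000002090106000703040103000d) (.node 536 (.leaf 0x0) (.leaf 0x403090000090006))) (.node 538 (.leaf 0x0) (.node 539 (.leaf 0x0) (.leaf 0x0))))))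

def argWS_44 : Store := (.node 517 argWS_42 argWS_43)

def argWS_45 : Store := (.node 495 argWS_41 argWS_44)

def argWS_46 : Store := (.node 450 argWS_38 argWS_45)

def argWS_47 : Store := (.node 551 (.node 545 (.node 542 (.node 541 (.leaf 0xb0b0a0a0004) (.leaf 0x5000000000300000802040105000d)) (.node 543 (.leaf 0x0) (.node 544 (.leaf 0x0) (.leaf 0xf0a0002)))) (.node 548 (.node 546 (.leaf 0x5000000000300000802040105000d) (.node 547 (.leaf 0x0) (.leaf 0x0))) (.node 549 (.leaf 0xd0b0002) (.node 550 (.leaf 0x5000000000300000802040105000d) (.leaf 0x0))))) (.node 556 (.node 553 (.node 552 (.leaf 0x0) (.leaf 0x0)) (.node 554 (.leaf 0x4040002) (.node 555 (.leaf 0x0) (.leaf 0x0)))) (.node 559 (.node 557 (.leaf 0x202000207020007010009) (.node 558 (.leaf 0x202000207020007010009) (.leaf 0x0))) (.node 560 (.leaf 0x0) (.node 561 (.leaf 0x8020002020900000008) (.leaf 0x8020002020900000008))))))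

def argWS_48 : Store := (.node 573 (.node 567 (.node 564 (.node 563 (.leaf 0x0) (.leaf 0x8020002020900000008)) (.node 565 (.leaf 0x0) (.node 566 (.leaf 0x202000207020007010009) (.leaf 0x0)))) (.node 570 (.node 568 (.leaf 0xe0d0002) (.node 569 (.leaf 0xd0b0b0003) (.leaf 0xe0a0002))) (.node 571 (.leaf 0x0) (.node 572 (.leaf 0x901060004) (.leaf 0x2060402020007010009))))) (.node 579 (.node 576 (.node 574 (.leaf 0x0) (.node 575 (.leaf 0x0) (.leaf 0xb0a0f0003))) (.node 577 (.leaf 0x23f00023e) (.node 578 (.leaf 0xb0a0a0003) (.leaf 0x0)))) (.node 582 (.node 580 (.leaf 0xf0b0a0a0004) (.node 581 (.leaf 0x204000408010202000701000b) (.leaf 0x0))) (.node 583 (.leaf 0x0) (.node 584 (.leaf 0x0) (.leaf 0x0))))))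

def argWS_49 : Store := (.node 562 argWS_47 argWS_48)

def argWS_50 : Store := (.node 596 (.node 590 (.node 587 (.node 586 (.leaf 0x0) (.leaf 0x204000408010202000701000b)) (.node 588 (.leaf 0x7040601050002000703040103000d) (.node 589 (.leaf 0x0) (.leaf 0x7040601050002000703040103000d)))) (.node 593 (.node 591 (.leaf 0x0) (.node 592 (.leaf 0x7040601050002000703040103000d) (.leaf 0x0))) (.node 594 (.leaf 0x4040002) (.node 595 (.leaf 0x0) (.leaf 0x202000207020007010009))))) (.node 601 (.node 598 (.node 597 (.leaf 0x0) (.leaf 0x8020002020900000008)) (.node 599 (.leaf 0x0) (.node 600 (.leaf 0x7040601050002000703040103000d) (.leaf 0x0)))) (.node 604 (.node 602 (.leaf 0x7040601050002000703040103000d) (.node 603 (.leaf 0x0) (.leaf 0x7040601050002000703040103000d))) (.node 605 (.leaf 0x0) (.node 606 (.leaf 0x4040002) (.leaf 0x0))))))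

def argWS_51 : Store := (.node 618 (.node 612 (.node 609 (.node 608 (.leaf 0x8020002020900000008) (.leaf 0x0)) (.node 610 (.leaf 0x202000207020007010009) (.node 611 (.leaf 0x0) (.leaf 0x7040601050002000703040103000d)))) (.node 615 (.node 613 (.leaf 0x0) (.node 614 (.leaf 0x7040601050002000703040103000d) (.leaf 0x0))) (.node 616 (.leaf 0x202000207020007010009) (.node 617 (.leaf 0x0) (.leaf 0x7040601050002000703040103000d))))) (.node 624 (.node 621 (.node 619 (.leaf 0x0) (.node 620 (.leaf 0x7040601050002000703040103000d) (.leaf 0x0))) (.node 622 (.leaf 0x202000207020007010009) (.node 623 (.leaf 0x0) (.leaf 0x4040002)))) (.node 627 (.node 625 (.leaf 0x0) (.node 626 (.leaf 0x202000207020007010009) (.leaf 0x0))) (.node 628 (.leaf 0x7040601050002000703040103000d) (.node 629 (.leaf 0x0) (.leaf 0x8020002020900000008))))))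

def argWS_52 : Store := (.node 607 argWS_50 argWS_51)

def argWS_53 : Store := (.node 585 argWS_49 argWS_52)

def argWS_54 : Store := (.node 641 (.node 635 (.node 632 (.node 631 (.leaf 0x0) (.leaf 0x4040002)) (.node 633 (.leaf 0x0) (.node 634 (.leaf 0x202000207020007010009) (.leaf 0x0)))) (.node 638 (.node 636 (.leaf 0x8020002020900000008) (.node 637 (.leaf 0x0) (.leaf 0x7040601050002000703040103000d))) (.node 639 (.leaf 0x0) (.node 640 (.leaf 0x8020002020900000008) (.leaf 0x0))))) (.node 646 (.node 643 (.node 642 (.leaf 0x202000207020007010009) (.leaf 0x0)) (.node 644 (.leaf 0x8020002020900000008) (.node 645 (.leaf 0x0) (.leaf 0x7040601050002000703040103000d)))) (.node 649 (.node 647 (.leaf 0x0) (.node 648 (.leaf 0x8020002020900000008) (.leaf 0x0))) (.node 650 (.leaf 0x7040601050002000703040103000d) (.node 651 (.leaf 0x0) (.leaf 0x4040002))))))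

def argWS_55 : Store := (.node 663 (.node 657 (.node 654 (.node 653 (.leaf 0x0) (.leaf 0x60002090106000703040103000c)) (.node 655 (.leaf 0x0) (.node 656 (.leaf 0x400040004080703040103000b) (.leaf 0x0)))) (.node 660 (.node 658 (.leaf 0x9030002000003010802040105000d) (.node 659 (.leaf 0x0) (.leaf 0x202000207020007010009))) (.node 661 (.leaf 0x0) (.node 662 (.leaf 0x80904020802040105000a) (.leaf 0x0))))) (.node 669 (.node 666 (.node 664 (.leaf 0x7080002) (.node 665 (.leaf 0x0) (.leaf 0x900090007030401030009))) (.node 667 (.leaf 0x0) (.node 668 (.leaf 0x4040002) (.leaf 0x0)))) (.node 672 (.node 670 (.leaf 0x8020002020900000008) (.node 671 (.leaf 0x0) (.leaf 0x7040601050002000703040103000d))) (.node 673 (.leaf 0x0) (.node 674 (.leaf 0x4040002) (.leaf 0x0))))))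

def argWS_56 : Store := (.node 652 argWS_54 argWS_55)

def argWS_57 : Store := (.node 686 (.node 680 (.node 677 (.node 676 (.leaf 0x8020002020900000008) (.leaf 0x0)) (.node 678 (.leaf 0x406060003) (.node 679 (.leaf 0x0) (.leaf 0x5090000090802040105000a)))) (.node 683 (.node 681 (.leaf 0x0) (.node 682 (.leaf 0x404090009000703040103000b) (.leaf 0x0))) (.node 684 (.leaf 0x0) (.node 685 (.leaf 0x70009080600000703040103000c) (.leaf 0x2020205020202010008))))) (.node 692 (.node 689 (.node 687 (.leaf 0x0) (.node 688 (.leaf 0x0) (.leaf 0x400030900090802040105000b))) (.node 690 (.leaf 0x0) (.node 691 (.leaf 0x9070006030500040802040105000d) (.leaf 0x204000408010202000701000b)))) (.node 695 (.node 693 (.leaf 0x0) (.node 694 (.leaf 0xf0b0a0a0004) (.leaf 0x7000400050802040105000a))) (.node 696 (.leaf 0x0) (.node 697 (.leaf 0x90300090206020202000701000c) (.leaf 0x0))))))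

def argWS_58 : Store := (.node 709 (.node 703 (.node 700 (.node 699 (.leaf 0xb0a0f0003) (.leaf 0x0)) (.node 701 (.leaf 0x307000400050006) (.node 702 (.leaf 0x20005020202010202000701000c) (.leaf 0x0)))) (.node 706 (.node 704 (.leaf 0x0) (.node 705 (.leaf 0x60201090402000703040103000c) (.leaf 0x0))) (.node 707 (.leaf 0x0) (.node 708 (.leaf 0xf0b0b0a0004) (.leaf 0x20700030306040202000701000c))))) (.node 715 (.node 712 (.node 710 (.leaf 0x0) (.node 711 (.leaf 0xe0a0002) (.leaf 0x1070006030500040008))) (.node 713 (.leaf 0x0) (.node 714 (.leaf 0x0) (.leaf 0x0)))) (.node 718 (.node 716 (.leaf 0x5020006020702010802040105000d) (.node 717 (.leaf 0x3030604000703040103000d) (.leaf 0x0))) (.node 719 (.leaf 0x0) (.node 720 (.leaf 0x602050202020703040103000b) (.leaf 0x60301090000090007))))))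

def argWS_59 : Store := (.node 698 argWS_57 argWS_58)

def argWS_60 : Store := (.node 675 argWS_56 argWS_59)

def argWS_61 : Store := (.node 630 argWS_53 argWS_60)

def argWS_62 : Store := (.node 540 argWS_46 argWS_61)

def argWS_63 : Store := (.node 360 argWS_31 argWS_62)

def argWS_64 : Store := (.node 732 (.node 726 (.node 723 (.node 722 (.leaf 0x0) (.leaf 0x3040106020702010008)) (.node 724 (.leaf 0x0) (.node 725 (.leaf 0x0) (.leaf 0x9030003010102000202000701000d)))) (.node 729 (.node 727 (.leaf 0x409010902020007010009) (.node 728 (.leaf 0x0) (.leaf 0x702070209020802040105000b))) (.node 730 (.leaf 0x0) (.node 731 (.leaf 0x0) (.leaf 0x0))))) (.node 737 (.node 734 (.node 733 (.leaf 0x0) (.leaf 0xb0b0002)) (.node 735 (.leaf 0x90001) (.node 736 (.leaf 0x0) (.leaf 0x0)))) (.node 740 (.node 738 (.leaf 0xa0f0b0b0004) (.node 739 (.leaf 0x90001) (.leaf 0x0))) (.node 741 (.leaf 0x0) (.node 742 (.leaf 0xf0b0a0003) (.leaf 0x90001))))))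

def argWS_65 : Store := (.node 754 (.node 748 (.node 745 (.node 744 (.leaf 0x0) (.leaf 0x0)) (.node 746 (.leaf 0x0) (.node 747 (.leaf 0x6060002) (.leaf 0x0)))) (.node 751 (.node 749 (.leaf 0x0) (.node 750 (.leaf 0x9030002000003010802040105000d) (.leaf 0x9030002000003010802040105000d))) (.node 752 (.leaf 0x0) (.node 753 (.leaf 0x0) (.leaf 0x8050002))))) (.node 760 (.node 757 (.node 755 (.leaf 0x8050002) (.node 756 (.leaf 0x0) (.leaf 0x8050002))) (.node 758 (.leaf 0x0) (.node 759 (.leaf 0x9030002000003010802040105000d) (.leaf 0x0)))) (.node 763 (.node 761 (.leaf 0x8020007000902000701000a) (.node 762 (.leaf 0x0) (.leaf 0xf0a0002))) (.node 764 (.leaf 0xf0b0a0a0004) (.node 765 (.leaf 0xe0001) (.leaf 0x6000400050005))))))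

def argWS_66 : Store := (.node 743 argWS_64 argWS_65)

def argWS_67 : Store := (.node 777 (.node 771 (.node 768 (.node 767 (.leaf 0x0) (.leaf 0xd0001)) (.node 769 (.leaf 0x2ba) (.node 770 (.leaf 0x1030000090206020802040105000d) (.leaf 0x0)))) (.node 774 (.node 772 (.leaf 0xf0a0a0003) (.node 773 (.leaf 0x0) (.leaf 0xb0f0a0a0004))) (.node 775 (.leaf 0x0) (.node 776 (.leaf 0xa0a0002) (.leaf 0x0))))) (.node 782 (.node 779 (.node 778 (.leaf 0xb0001) (.leaf 0x4070206000802040105000a)) (.node 780 (.leaf 0xd0b0002) (.node 781 (.leaf 0xa0001) (.leaf 0x70305060207020703040103000c)))) (.node 785 (.node 783 (.leaf 0x0) (.node 784 (.leaf 0x0) (.leaf 0xa0f0b0003))) (.node 786 (.leaf 0x304030003) (.node 787 (.leaf 0x0) (.leaf 0x0))))))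

def argWS_68 : Store := (.node 799 (.node 793 (.node 790 (.node 789 (.leaf 0xb0b0a0a0004) (.leaf 0x304030003)) (.node 791 (.leaf 0x0) (.node 792 (.leaf 0x0) (.leaf 0xe0d0002)))) (.node 796 (.node 794 (.leaf 0x304030003) (.node 795 (.leaf 0x0) (.leaf 0x0))) (.node 797 (.leaf 0xf0a0a0003) (.node 798 (.leaf 0x0) (.leaf 0x80000000300000008))))) (.node 805 (.node 802 (.node 800 (.leaf 0x0) (.node 801 (.leaf 0x0) (.leaf 0x4040002))) (.node 803 (.leaf 0x4040002) (.node 804 (.leaf 0x0) (.leaf 0x0)))) (.node 808 (.node 806 (.leaf 0x50001) (.node 807 (.leaf 0x50001) (.leaf 0x0))) (.node 809 (.leaf 0x50001) (.node 810 (.leaf 0x0) (.leaf 0x80000000300000008))))))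

def argWS_69 : Store := (.node 788 argWS_67 argWS_68)

def argWS_70 : Store := (.node 766 argWS_66 argWS_69)

def argWS_71 : Store := (.node 822 (.node 816 (.node 813 (.node 812 (.leaf 0x0) (.leaf 0x6020901060202000701000a)) (.node 814 (.leaf 0x0) (.node 815 (.leaf 0xa0f0002) (.leaf 0x0)))) (.node 819 (.node 817 (.leaf 0xf0b0a0a0004) (.node 818 (.leaf 0xb0a0002) (.leaf 0xe0001))) (.node 820 (.leaf 0xf0b0b0a0a0005) (.node 821 (.leaf 0xb0a0a0003) (.leaf 0x20500030306040802040105000c))))) (.node 827 (.node 824 (.node 823 (.leaf 0x0) (.leaf 0xa0f0b0b0004)) (.node 825 (.leaf 0x70206020007010008) (.node 826 (.leaf 0x0) (.leaf 0x0)))) (.node 830 (.node 828 (.leaf 0x33a) (.node 829 (.leaf 0x1090703000703040103000a) (.leaf 0x0))) (.node 831 (.leaf 0xb0f0002) (.node 832 (.leaf 0x0) (.leaf 0xb0b0002))))))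

def argWS_72 : Store := (.node 844 (.node 838 (.node 835 (.node 834 (.leaf 0xb0001) (.leaf 0x0)) (.node 836 (.leaf 0x0) (.node 837 (.leaf 0xf0b0b0003) (.leaf 0xb0a0a0003)))) (.node 841 (.node 839 (.leaf 0xa0f0002) (.node 840 (.leaf 0x20602000003010007) (.leaf 0x0))) (.node 842 (.leaf 0x2010904020006) (.node 843 (.leaf 0x0) (.leaf 0x0))))) (.node 850 (.node 847 (.node 845 (.leaf 0x34600034b) (.node 846 (.leaf 0xa0a0002) (.leaf 0x0))) (.node 848 (.leaf 0x0) (.node 849 (.leaf 0xf0b0a0a0004) (.leaf 0x501010703060802040105000b)))) (.node 853 (.node 851 (.leaf 0x0) (.node 852 (.leaf 0x0) (.leaf 0xf0b0b0a0004))) (.node 854 (.leaf 0x402020900000202000701000b) (.node 855 (.leaf 0x0) (.leaf 0x0))))))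

def argWS_73 : Store := (.node 833 argWS_71 argWS_72)

def argWS_74 : Store := (.node 867 (.node 861 (.node 858 (.node 857 (.leaf 0xb0b0a0a0004) (.leaf 0x402020900000202000701000b)) (.node 859 (.leaf 0x0) (.node 860 (.leaf 0x0) (.leaf 0xb0f0a0a0004)))) (.node 864 (.node 862 (.leaf 0x402020900000202000701000b) (.node 863 (.leaf 0x0) (.leaf 0x0))) (.node 865 (.leaf 0xb0a0002) (.node 866 (.leaf 0x0) (.leaf 0x6020002020900000008))))) (.node 872 (.node 869 (.node 868 (.leaf 0x0) (.leaf 0x0)) (.node 870 (.leaf 0x4040002) (.node 871 (.leaf 0x4040002) (.leaf 0x0)))) (.node 875 (.node 873 (.leaf 0x0) (.node 874 (.leaf 0x20103070206000007) (.leaf 0x20103070206000007))) (.node 876 (.leaf 0x0) (.node 877 (.leaf 0x20103070206000007) (.leaf 0x0))))))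

def argWS_75 : Store := (.node 889 (.node 883 (.node 880 (.node 879 (.leaf 0x6020002020900000008) (.leaf 0x0)) (.node 881 (.leaf 0x103070009020007010009) (.node 882 (.leaf 0x0) (.leaf 0xa0a0002)))) (.node 886 (.node 884 (.leaf 0x0) (.node 885 (.leaf 0x373) (.leaf 0xb0b0a0a0004))) (.node 887 (.leaf 0x0) (.node 888 (.leaf 0xe0001) (.leaf 0x0))))) (.node 895 (.node 892 (.node 890 (.leaf 0x0) (.node 891 (.leaf 0xa0f0002) (.leaf 0xf0b0a0a0004))) (.node 893 (.leaf 0xf0b0b0a0004) (.node 894 (.leaf 0xf0b0b0a0a0005) (.leaf 0xd0001)))) (.node 898 (.node 896 (.leaf 0xb0b0a0003) (.node 897 (.leaf 0x301070206000802040105000b) (.leaf 0xb0a0a0003))) (.node 899 (.leaf 0xf0a0002) (.node 900 (.leaf 0x40000020804000202000701000d) (.leaf 0x40003080005))))))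

def argWS_76 : Store := (.node 878 argWS_74 argWS_75)

def argWS_77 : Store := (.node 856 argWS_73 argWS_76)

def argWS_78 : Store := (.node 811 argWS_70 argWS_77)

def argWS_79 : Store := (.node 912 (.node 906 (.node 903 (.node 902 (.leaf 0x0) (.leaf 0x5000000030306040202000701000d)) (.node 904 (.leaf 0xb0b0a0a0004) (.node 905 (.leaf 0xe0a0a0003) (.leaf 0xf0b0b0a0a0005)))) (.node 909 (.node 907 (.leaf 0x90702020900000802040105000c) (.node 908 (.leaf 0x0) (.leaf 0x60503010102000007))) (.node 910 (.leaf 0x0) (.node 911 (.leaf 0xa0a0002) (.leaf 0xe0a0002))))) (.node 917 (.node 914 (.node 913 (.leaf 0xf0a0a0003) (.leaf 0x40006030500040802040105000c)) (.node 915 (.leaf 0x0) (.node 916 (.leaf 0x0) (.leaf 0x37d000393)))) (.node 920 (.node 918 (.leaf 0xa0f0b0b0004) (.node 919 (.leaf 0x0) (.leaf 0xa0a0002))) (.node 921 (.leaf 0x2000904020802040105000a) (.node 922 (.leaf 0x0) (.leaf 0xa0f0002))))))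

def argWS_80 : Store := (.node 934 (.node 928 (.node 925 (.node 924 (.leaf 0xa0001) (.leaf 0x6010703060202000701000a)) (.node 926 (.leaf 0x0) (.node 927 (.leaf 0x0) (.leaf 0x0)))) (.node 931 (.node 929 (.leaf 0xb0f0a0003) (.node 930 (.leaf 0x30106030500040202000701000c) (.leaf 0x0))) (.node 932 (.leaf 0x0) (.node 933 (.leaf 0xb0b0a0a0004) (.leaf 0x30106030500040202000701000c))))) (.node 940 (.node 937 (.node 935 (.leaf 0x0) (.node 936 (.leaf 0x0) (.leaf 0xa0a0002))) (.node 938 (.leaf 0x30106030500040202000701000c) (.node 939 (.leaf 0x0) (.leaf 0x0)))) (.node 943 (.node 941 (.leaf 0x0) (.node 942 (.leaf 0x20002020900000007) (.leaf 0x0))) (.node 944 (.leaf 0x0) (.node 945 (.leaf 0x4040002) (.leaf 0x4040002))))))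

def argWS_81 : Store := (.node 923 argWS_79 argWS_80)

def argWS_82 : Store := (.node 957 (.node 951 (.node 948 (.node 947 (.leaf 0x0) (.leaf 0x0)) (.node 949 (.leaf 0x202010102000202000701000b) (.node 950 (.leaf 0x202010102000202000701000b) (.leaf 0x0)))) (.node 954 (.node 952 (.leaf 0x202010102000202000701000b) (.node 953 (.leaf 0x0) (.leaf 0xd0b0b0003))) (.node 955 (.leaf 0x90202090000000703040103000c) (.node 956 (.leaf 0x0) (.leaf 0xf0a0002))))) (.node 962 (.node 959 (.node 958 (.leaf 0x0) (.leaf 0xa0f0002)) (.node 960 (.leaf 0x5000300000202000701000a) (.node 961 (.leaf 0x0) (.leaf 0x0)))) (.node 965 (.node 963 (.leaf 0x3c1) (.node 964 (.leaf 0xd0b0b0003) (.leaf 0x0))) (.node 966 (.leaf 0xa0a0002) (.node 967 (.leaf 0xf0b0b0a0a0005) (.leaf 0x105020007030401030009))))))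

def argWS_83 : Store := (.node 979 (.node 973 (.node 970 (.node 969 (.leaf 0x0) (.leaf 0xa0001)) (.node 971 (.leaf 0xf0b0b0a0a0005) (.node 972 (.leaf 0xf0a0002) (.leaf 0xb0001)))) (.node 976 (.node 974 (.leaf 0xd0b0002) (.node 975 (.leaf 0xe0a0a0003) (.leaf 0x606000300000202000701000b))) (.node 977 (.leaf 0x0) (.node 978 (.leaf 0x0) (.leaf 0x7030502010606000703040103000d))))) (.node 985 (.node 982 (.node 980 (.leaf 0x0) (.node 981 (.leaf 0x0) (.leaf 0x3d40003d1))) (.node 983 (.leaf 0xf0b0a0003) (.node 984 (.leaf 0x0) (.leaf 0x0)))) (.node 988 (.node 986 (.leaf 0xe0d0002) (.node 987 (.leaf 0xf0a0002) (.leaf 0xb0f0a0a0004))) (.node 989 (.leaf 0xb0b0a0003) (.node 990 (.leaf 0xa0a0002) (.leaf 0xe0a0002))))))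

def argWS_84 : Store := (.node 968 argWS_82 argWS_83)

def argWS_85 : Store := (.node 946 argWS_81 argWS_84)

def argWS_86 : Store := (.node 1002 (.node 996 (.node 993 (.node 992 (.leaf 0x1090703000703040103000a) (.leaf 0x0)) (.node 994 (.leaf 0xf0b0a0a0004) (.node 995 (.leaf 0x0) (.leaf 0x3e2)))) (.node 999 (.node 997 (.leaf 0x50105020604000703040103000c) (.node 998 (.leaf 0x0) (.leaf 0xb0b0a0003))) (.node 1000 (.leaf 0x0) (.node 1001 (.leaf 0x7030502010606000703040103000d) (.leaf 0x0))))) (.node 1007 (.node 1004 (.node 1003 (.leaf 0xa0a0002) (.leaf 0xb0b0a0a0004)) (.node 1005 (.leaf 0xd0001) (.node 1006 (.leaf 0x90300020106060007) (.leaf 0x0)))) (.node 1010 (.node 1008 (.leaf 0x0) (.node 1009 (.leaf 0x3ef0001a8) (.leaf 0xb0b0a0a0004))) (.node 1011 (.leaf 0x0) (.node 1012 (.leaf 0x50200000408010802040105000c) (.leaf 0x0))))))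

def argWS_87 : Store := (.node 1024 (.node 1018 (.node 1015 (.node 1014 (.leaf 0xe0d0002) (.leaf 0xb0a0f0003)) (.node 1016 (.leaf 0x707000903000703040103000b) (.node 1017 (.leaf 0x0) (.leaf 0xf0a0002)))) (.node 1021 (.node 1019 (.leaf 0x0) (.node 1020 (.leaf 0xf0001) (.leaf 0x200000900090006))) (.node 1022 (.leaf 0x0) (.node 1023 (.leaf 0xa0f0002) (.leaf 0x0))))) (.node 1030 (.node 1027 (.node 1025 (.leaf 0x0) (.node 1026 (.leaf 0x0) (.leaf 0xb0b0a0a0004))) (.node 1028 (.leaf 0x3030002) (.node 1029 (.leaf 0x0) (.leaf 0x0)))) (.node 1033 (.node 1031 (.leaf 0xd0b0002) (.node 1032 (.leaf 0x3030002) (.leaf 0x0))) (.node 1034 (.leaf 0x0) (.node 1035 (.leaf 0x0) (.leaf 0x4040002))))))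

def argWS_88 : Store := (.node 1013 argWS_86 argWS_87)

def argWS_89 : Store := (.node 1047 (.node 1041 (.node 1038 (.node 1037 (.leaf 0x0) (.leaf 0x0)) (.node 1039 (.leaf 0x8020002020900000008) (.node 1040 (.leaf 0x8020002020900000008) (.leaf 0x0)))) (.node 1044 (.node 1042 (.leaf 0xd0b0b0003) (.node 1043 (.leaf 0xb0a0f0003) (.leaf 0xd0b0b0003))) (.node 1045 (.leaf 0xb0a0002) (.node 1046 (.leaf 0xb0a0002) (.leaf 0xf0b0b0a0004))))) (.node 1053 (.node 1050 (.node 1048 (.leaf 0xf0b0a0a0004) (.node 1049 (.leaf 0xf0a0a0003) (.leaf 0x101050206040006))) (.node 1051 (.leaf 0x0) (.node 1052 (.leaf 0x0) (.leaf 0x3b900041b)))) (.node 1056 (.node 1054 (.leaf 0x307020106060802040105000b) (.node 1055 (.leaf 0x0) (.leaf 0xe0d0002))) (.node 1057 (.leaf 0x0) (.node 1058 (.leaf 0x300020106060006) (.leaf 0x0))))))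

def argWS_90 : Store := (.node 1070 (.node 1064 (.node 1061 (.node 1060 (.leaf 0x0) (.leaf 0x0)) (.node 1062 (.leaf 0x0) (.node 1063 (.leaf 0x4090805000703040103000a) (.leaf 0x1050208020401050008)))) (.node 1067 (.node 1065 (.leaf 0x0) (.node 1066 (.leaf 0x1050208020401050008) (.leaf 0x0))) (.node 1068 (.leaf 0x1050208020401050008) (.node 1069 (.leaf 0x0) (.leaf 0x4040002))))) (.node 1076 (.node 1073 (.node 1071 (.leaf 0x0) (.node 1072 (.leaf 0x1050208020401050008) (.leaf 0x0))) (.node 1074 (.leaf 0x1050208020401050008) (.node 1075 (.leaf 0x0) (.leaf 0x4040002)))) (.node 1079 (.node 1077 (.leaf 0x0) (.node 1078 (.leaf 0x1050208020401050008) (.leaf 0x0))) (.node 1080 (.leaf 0x1050208020401050008) (.node 1081 (.leaf 0x0) (.leaf 0x1050208020401050008))))))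

def argWS_91 : Store := (.node 1059 argWS_89 argWS_90)

def argWS_92 : Store := (.node 1036 argWS_88 argWS_91)

def argWS_93 : Store := (.node 991 argWS_85 argWS_92)

def argWS_94 : Store := (.node 901 argWS_78 argWS_93)

def argWS_95 : Store := (.node 1093 (.node 1087 (.node 1084 (.node 1083 (.leaf 0x0) (.leaf 0x600070306000703040103000b)) (.node 1085 (.leaf 0x0) (.node 1086 (.leaf 0xf0b0a0a0004) (.leaf 0x202020003)))) (.node 1090 (.node 1088 (.leaf 0x0) (.node 1089 (.leaf 0xb0b0a0a0004) (.leaf 0x1030009000009000703040103000d))) (.node 1091 (.leaf 0x0) (.node 1092 (.leaf 0xb0a0a0003) (.leaf 0xb0001))))) (.node 1098 (.node 1095 (.node 1094 (.leaf 0x9070202090000000703040103000d) (.leaf 0x0)) (.node 1096 (.leaf 0x0) (.node 1097 (.leaf 0x204090206020802040105000b) (.leaf 0x0)))) (.node 1101 (.node 1099 (.leaf 0xf0001) (.node 1100 (.leaf 0x50200000300000007) (.leaf 0x0))) (.node 1102 (.leaf 0xe0001) (.node 1103 (.leaf 0x0) (.leaf 0x60200020603000703040103000c))))))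

def argWS_96 : Store := (.node 1115 (.node 1109 (.node 1106 (.node 1105 (.leaf 0x0) (.leaf 0x0)) (.node 1107 (.leaf 0x0) (.node 1108 (.leaf 0x452000451) (.leaf 0x3070209020202000701000a)))) (.node 1112 (.node 1110 (.leaf 0x0) (.node 1111 (.leaf 0xd0b0002) (.leaf 0x0))) (.node 1113 (.leaf 0xa0f0002) (.node 1114 (.leaf 0x4000003) (.leaf 0x0))))) (.node 1121 (.node 1118 (.node 1116 (.leaf 0x0) (.node 1117 (.leaf 0x9070009080600000703040103000d) (.leaf 0x0))) (.node 1119 (.leaf 0x0) (.node 1120 (.leaf 0x0) (.leaf 0x0)))) (.node 1124 (.node 1122 (.leaf 0x604010400050202000701000b) (.node 1123 (.leaf 0x109010606000703040103000b) (.leaf 0x0))) (.node 1125 (.leaf 0x201060602020007010009) (.node 1126 (.leaf 0x0) (.leaf 0x201060602020007010009))))))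

def argWS_97 : Store := (.node 1104 argWS_95 argWS_96)

def argWS_98 : Store := (.node 1138 (.node 1132 (.node 1129 (.node 1128 (.leaf 0x0) (.leaf 0x201060602020007010009)) (.node 1130 (.leaf 0x0) (.node 1131 (.leaf 0x1050208020401050008) (.leaf 0x0)))) (.node 1135 (.node 1133 (.leaf 0x201060602020007010009) (.node 1134 (.leaf 0x0) (.leaf 0x1050208020401050008))) (.node 1136 (.leaf 0x0) (.node 1137 (.leaf 0x201060602020007010009) (.leaf 0x0))))) (.node 1143 (.node 1140 (.node 1139 (.leaf 0x1050208020401050008) (.leaf 0x0)) (.node 1141 (.leaf 0x80006030500040202000701000d) (.node 1142 (.leaf 0x0) (.leaf 0x202010102000202000701000b)))) (.node 1146 (.node 1144 (.leaf 0x0) (.node 1145 (.leaf 0x6000206020007010009) (.leaf 0x0))) (.node 1147 (.leaf 0x901090109000703040103000b) (.node 1148 (.leaf 0x0) (.leaf 0x70402020900000202000701000c))))))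

def argWS_99 : Store := (.node 1160 (.node 1154 (.node 1151 (.node 1150 (.leaf 0x0) (.leaf 0x20109080600000703040103000c)) (.node 1152 (.leaf 0x0) (.node 1153 (.leaf 0x50201020603000703040103000c) (.leaf 0x0)))) (.node 1157 (.node 1155 (.leaf 0x304020901060202000701000b) (.node 1156 (.leaf 0x0) (.leaf 0x4040002))) (.node 1158 (.leaf 0x0) (.node 1159 (.leaf 0x2050202020703040103000b) (.leaf 0x0))))) (.node 1166 (.node 1163 (.node 1161 (.leaf 0x307050206040006) (.node 1162 (.leaf 0x0) (.leaf 0x4000003))) (.node 1164 (.leaf 0x0) (.node 1165 (.leaf 0xe0a0a0003) (.leaf 0x307000408010202000701000b)))) (.node 1169 (.node 1167 (.leaf 0x0) (.node 1168 (.leaf 0xf0b0b0a0004) (.leaf 0x704070209020006))) (.node 1170 (.leaf 0x0) (.node 1171 (.leaf 0x307000408010202000701000b) (.leaf 0x0))))))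

def argWS_100 : Store := (.node 1149 argWS_98 argWS_99)

def argWS_101 : Store := (.node 1127 argWS_97 argWS_100)

def argWS_102 : Store := (.node 1183 (.node 1177 (.node 1174 (.node 1173 (.leaf 0x2090207030802040105000a) (.leaf 0x0)) (.node 1175 (.leaf 0x6000206020007010009) (.node 1176 (.leaf 0x0) (.leaf 0x70802020007010007)))) (.node 1180 (.node 1178 (.leaf 0x0) (.node 1179 (.leaf 0xb0f0002) (.leaf 0x80000000300000008))) (.node 1181 (.leaf 0x0) (.node 1182 (.leaf 0x402020207030401030009) (.leaf 0x0))))) (.node 1188 (.node 1185 (.node 1184 (.leaf 0xb0b0002) (.leaf 0xe0a0002)) (.node 1186 (.leaf 0x101010703060006) (.node 1187 (.leaf 0x0) (.leaf 0xf0a0002)))) (.node 1191 (.node 1189 (.leaf 0x0) (.node 1190 (.leaf 0xf0b0b0a0a0005) (.leaf 0xb0001))) (.node 1192 (.leaf 0x904070209020006) (.node 1193 (.leaf 0x0) (.leaf 0x0))))))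

def argWS_103 : Store := (.node 1205 (.node 1199 (.node 1196 (.node 1195 (.leaf 0x60601010703060202000701000c) (.leaf 0x0)) (.node 1197 (.leaf 0x80300070206000007) (.node 1198 (.leaf 0x0) (.leaf 0x0)))) (.node 1202 (.node 1200 (.leaf 0x7020400050202000701000a) (.node 1201 (.leaf 0x0) (.leaf 0xf0b0b0a0a0005))) (.node 1203 (.leaf 0x0) (.node 1204 (.leaf 0x4b2) (.leaf 0x605000300000202000701000b))))) (.node 1211 (.node 1208 (.node 1206 (.leaf 0x0) (.node 1207 (.leaf 0xf0a0a0003) (.leaf 0x602010603050004000703040103000e))) (.node 1209 (.leaf 0x0) (.node 1210 (.leaf 0x0) (.leaf 0x7000408010006)))) (.node 1214 (.node 1212 (.leaf 0x0) (.node 1213 (.leaf 0x0) (.leaf 0xf0a0a0003))) (.node 1215 (.leaf 0xb0a0f0003) (.node 1216 (.leaf 0x1050202000003010802040105000d) (.leaf 0x0))))))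

def argWS_104 : Store := (.node 1194 argWS_102 argWS_103)

def argWS_105 : Store := (.node 1228 (.node 1222 (.node 1219 (.node 1218 (.leaf 0xb0f0002) (.leaf 0x0)) (.node 1220 (.leaf 0x37e0004c2) (.node 1221 (.leaf 0x30502000003010802040105000c) (.leaf 0x0)))) (.node 1225 (.node 1223 (.leaf 0xa0f0002) (.node 1224 (.leaf 0x0) (.leaf 0xb0f0a0a0004))) (.node 1226 (.leaf 0x0) (.node 1227 (.leaf 0x0) (.leaf 0x60502000003010007))))) (.node 1233 (.node 1230 (.node 1229 (.leaf 0x0) (.leaf 0x0)) (.node 1231 (.leaf 0x3030001c6) (.node 1232 (.leaf 0x300020106060006) (.leaf 0x0)))) (.node 1236 (.node 1234 (.leaf 0xe0001) (.node 1235 (.leaf 0x0) (.leaf 0x8000207020007010008))) (.node 1237 (.leaf 0x0) (.node 1238 (.leaf 0xd0b0002) (.leaf 0x906020603000703040103000b))))))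

def argWS_106 : Store := (.node 1250 (.node 1244 (.node 1241 (.node 1240 (.leaf 0x0) (.leaf 0xd0b0002)) (.node 1242 (.leaf 0x0) (.node 1243 (.leaf 0x8050007030401030008) (.leaf 0x0)))) (.node 1247 (.node 1245 (.leaf 0xd0001) (.node 1246 (.leaf 0x0) (.leaf 0x900090009000703040103000b))) (.node 1248 (.leaf 0x0) (.node 1249 (.leaf 0xb0b0a0003) (.leaf 0x0))))) (.node 1256 (.node 1253 (.node 1251 (.leaf 0x4e1) (.node 1252 (.leaf 0x4020000030703040103000b) (.leaf 0x0))) (.node 1254 (.leaf 0xf0b0a0a0004) (.node 1255 (.leaf 0x503010703060802040105000b) (.leaf 0x0)))) (.node 1259 (.node 1257 (.leaf 0xd0001) (.node 1258 (.leaf 0x0) (.leaf 0x0))) (.node 1260 (.leaf 0xb0f0002) (.node 1261 (.leaf 0x1) (.leaf 0x0))))))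

def argWS_107 : Store := (.node 1239 argWS_105 argWS_106)

def argWS_108 : Store := (.node 1217 argWS_104 argWS_107)

def argWS_109 : Store := (.node 1172 argWS_101 argWS_108)

def argWS_110 : Store := (.node 1273 (.node 1267 (.node 1264 (.node 1263 (.leaf 0x0) (.leaf 0xb0b0a0a0004)) (.node 1265 (.leaf 0x1) (.node 1266 (.leaf 0x0) (.leaf 0x0)))) (.node 1270 (.node 1268 (.leaf 0x0) (.node 1269 (.leaf 0x6080002) (.leaf 0x0))) (.node 1271 (.leaf 0x0) (.node 1272 (.leaf 0x4040002) (.leaf 0x4040002))))) (.node 1278 (.node 1275 (.node 1274 (.leaf 0x0) (.leaf 0xf0a0002)) (.node 1276 (.leaf 0xb0a0a0003) (.node 1277 (.leaf 0xf0b0b0003) (.leaf 0xf0b0a0a0004)))) (.node 1281 (.node 1279 (.leaf 0xb0a0f0003) (.node 1280 (.leaf 0x6020000030306040802040105000d) (.leaf 0x0))) (.node 1282 (.leaf 0xb0f0002) (.node 1283 (.leaf 0x0) (.leaf 0x502))))))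

def argWS_111 : Store := (.node 1295 (.node 1289 (.node 1286 (.node 1285 (.leaf 0xa0a0002) (.leaf 0x0)) (.node 1287 (.leaf 0xb0a0f0003) (.node 1288 (.leaf 0x0) (.leaf 0x0)))) (.node 1292 (.node 1290 (.leaf 0xe0001) (.node 1291 (.leaf 0xd0b0002) (.leaf 0x1070000030306040802040105000d))) (.node 1293 (.leaf 0x0) (.node 1294 (.leaf 0xe0a0a0003) (.leaf 0xb0a0002))))) (.node 1301 (.node 1298 (.node 1296 (.leaf 0xd0b0b0003) (.node 1297 (.leaf 0xe0a0002) (.leaf 0x70202090000000703040103000c))) (.node 1299 (.leaf 0x0) (.node 1300 (.leaf 0x0) (.leaf 0xf0b0b0a0004)))) (.node 1304 (.node 1302 (.leaf 0x204010901090006) (.node 1303 (.leaf 0x0) (.leaf 0xb0b0a0003))) (.node 1305 (.leaf 0x6010200030306040202000701000d) (.node 1306 (.leaf 0x0) (.leaf 0x0))))))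

def argWS_112 : Store := (.node 1284 argWS_110 argWS_111)

def argWS_113 : Store := (.node 1318 (.node 1312 (.node 1309 (.node 1308 (.leaf 0x4ae00051a) (.leaf 0x60200090009000703040103000c)) (.node 1310 (.leaf 0x0) (.node 1311 (.leaf 0x0) (.leaf 0x0)))) (.node 1315 (.node 1313 (.leaf 0x0) (.node 1314 (.leaf 0x104000202090000000703040103000e) (.leaf 0x904000502020007010009))) (.node 1316 (.leaf 0x0) (.node 1317 (.leaf 0x904000502020007010009) (.leaf 0x0))))) (.node 1323 (.node 1320 (.node 1319 (.leaf 0x6080002) (.leaf 0x0)) (.node 1321 (.leaf 0x4040002) (.node 1322 (.leaf 0x0) (.leaf 0x904000502020007010009)))) (.node 1326 (.node 1324 (.leaf 0x0) (.node 1325 (.leaf 0x6080002) (.leaf 0x0))) (.node 1327 (.leaf 0x4040002) (.node 1328 (.leaf 0x0) (.leaf 0x200000002080400000703040103000e))))))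

def argWS_114 : Store := (.node 1340 (.node 1334 (.node 1331 (.node 1330 (.leaf 0x0) (.leaf 0x0)) (.node 1332 (.leaf 0xf0b0002) (.node 1333 (.leaf 0x904070206000202000701000b) (.leaf 0x0)))) (.node 1337 (.node 1335 (.leaf 0x0) (.node 1336 (.leaf 0x606010900090006) (.leaf 0x0))) (.node 1338 (.leaf 0x50200070206000007) (.node 1339 (.leaf 0x0) (.leaf 0x0))))) (.node 1346 (.node 1343 (.node 1341 (.leaf 0x8000400050006) (.node 1342 (.leaf 0x0) (.leaf 0x0))) (.node 1344 (.leaf 0x1020109080600000703040103000d) (.node 1345 (.leaf 0x0) (.leaf 0x7020900090802040105000a)))) (.node 1349 (.node 1347 (.leaf 0x0) (.node 1348 (.leaf 0x0) (.leaf 0x0))) (.node 1350 (.leaf 0x0) (.node 1351 (.leaf 0xb0b0a0a0004) (.leaf 0x1020002))))))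

def argWS_115 : Store := (.node 1329 argWS_113 argWS_114)

def argWS_116 : Store := (.node 1307 argWS_112 argWS_115)

def argWS_117 : Store := (.node 1363 (.node 1357 (.node 1354 (.node 1353 (.leaf 0x0) (.leaf 0x0)) (.node 1355 (.leaf 0xb0f0a0a0004) (.node 1356 (.leaf 0x1020002) (.leaf 0x0)))) (.node 1360 (.node 1358 (.leaf 0x0) (.node 1359 (.leaf 0x0) (.leaf 0x4040002))) (.node 1361 (.leaf 0x0) (.node 1362 (.leaf 0x0) (.leaf 0x20103070206000007))))) (.node 1368 (.node 1365 (.node 1364 (.leaf 0x20103070206000007) (.leaf 0x0)) (.node 1366 (.leaf 0xa0a0002) (.node 1367 (.leaf 0xe0d0002) (.leaf 0xd0b0002)))) (.node 1371 (.node 1369 (.leaf 0xf0b0b0003) (.node 1370 (.leaf 0xb0b0002) (.leaf 0xf0b0a0a0004))) (.node 1372 (.leaf 0xe0a0a0003) (.node 1373 (.leaf 0x2020206020702010802040105000d) (.leaf 0x0))))))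

def argWS_118 : Store := (.node 1385 (.node 1379 (.node 1376 (.node 1375 (.leaf 0x0) (.leaf 0x55e)) (.node 1377 (.leaf 0x9010406030500040802040105000d) (.node 1378 (.leaf 0x0) (.leaf 0xe0a0002)))) (.node 1382 (.node 1380 (.leaf 0xb0f0a0003) (.node 1381 (.leaf 0x40205020901060007) (.leaf 0x30502000003010802040105000c))) (.node 1383 (.leaf 0x0) (.node 1384 (.leaf 0x0) (.leaf 0x10403010102000007))))) (.node 1391 (.node 1388 (.node 1386 (.leaf 0x0) (.node 1387 (.leaf 0x0) (.leaf 0x56a000567))) (.node 1389 (.leaf 0x202020207030401030009) (.node 1390 (.leaf 0x0) (.leaf 0xf0001)))) (.node 1394 (.node 1392 (.leaf 0x0) (.node 1393 (.leaf 0x0) (.leaf 0x0))) (.node 1395 (.leaf 0x6000000000300000802040105000d) (.node 1396 (.leaf 0x20202090806000802040105000c) (.leaf 0x0))))))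

def argWS_119 : Store := (.node 1374 argWS_117 argWS_118)

def argWS_120 : Store := (.node 1408 (.node 1402 (.node 1399 (.node 1398 (.leaf 0x20202090806000802040105000c) (.leaf 0x0)) (.node 1400 (.leaf 0x4040002) (.node 1401 (.leaf 0x0) (.leaf 0x20103070206000007)))) (.node 1405 (.node 1403 (.leaf 0x0) (.node 1404 (.leaf 0x20202090806000802040105000c) (.leaf 0x0))) (.node 1406 (.leaf 0x4040002) (.node 1407 (.leaf 0x0) (.leaf 0x20103070206000007))))) (.node 1414 (.node 1411 (.node 1409 (.leaf 0x0) (.node 1410 (.leaf 0xf0b0002) (.leaf 0x7080002))) (.node 1412 (.leaf 0x5030503080202000701000a) (.node 1413 (.leaf 0x0) (.leaf 0xb0b0002)))) (.node 1417 (.node 1415 (.leaf 0x40304020901060202000701000c) (.node 1416 (.leaf 0x0) (.leaf 0xe0001))) (.node 1418 (.leaf 0x0) (.node 1419 (.leaf 0x700000401050006) (.leaf 0x0))))))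

def argWS_121 : Store := (.node 1431 (.node 1425 (.node 1422 (.node 1421 (.leaf 0x701010908050802040105000b) (.leaf 0x0)) (.node 1423 (.leaf 0x503000408010802040105000b) (.node 1424 (.leaf 0x0) (.leaf 0x0)))) (.node 1428 (.node 1426 (.leaf 0xb0b0a0a0004) (.node 1427 (.leaf 0x1090002) (.leaf 0x0))) (.node 1429 (.leaf 0x0) (.node 1430 (.leaf 0xa0f0b0b0004) (.leaf 0x1090002))))) (.node 1437 (.node 1434 (.node 1432 (.leaf 0x0) (.node 1433 (.leaf 0x0) (.leaf 0x0))) (.node 1435 (.leaf 0x4040002) (.node 1436 (.leaf 0x0) (.leaf 0x0)))) (.node 1440 (.node 1438 (.leaf 0x9030002000003010802040105000d) (.node 1439 (.leaf 0x9030002000003010802040105000d) (.leaf 0x0))) (.node 1441 (.leaf 0xa0a0002) (.node 1442 (.leaf 0x1030105020202010008) (.leaf 0x0))))))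

def argWS_122 : Store := (.node 1420 argWS_120 argWS_121)

def argWS_123 : Store := (.node 1397 argWS_119 argWS_122)

def argWS_124 : Store := (.node 1352 argWS_116 argWS_123)

def argWS_125 : Store := (.node 1262 argWS_109 argWS_124)

def argWS_126 : Store := (.node 1082 argWS_94 argWS_125)

def argWS_127 : Store := (.node 721 argWS_63 argWS_126)

def argWS_128 : Store := (.node 1454 (.node 1448 (.node 1445 (.node 1444 (.leaf 0x0) (.leaf 0x5a3)) (.node 1446 (.leaf 0x800070306000703040103000b) (.node 1447 (.leaf 0x0) (.leaf 0xf0b0b0a0004)))) (.node 1451 (.node 1449 (.leaf 0x0) (.node 1450 (.leaf 0x604000003030604000703040103000e) (.leaf 0x0))) (.node 1452 (.leaf 0xb0f0a0a0004) (.node 1453 (.leaf 0xb0001) (.leaf 0xb0b0a0003))))) (.node 1459 (.node 1456 (.node 1455 (.leaf 0x30401010703060202000701000c) (.leaf 0x0)) (.node 1457 (.leaf 0xa0a0002) (.node 1458 (.leaf 0x0) (.leaf 0x50009080600000703040103000c)))) (.node 1462 (.node 1460 (.leaf 0x0) (.node 1461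 (.leaf 0xe0001) (.leaf 0x0))) (.node 1463 (.leaf 0x5b50005b1) (.node 1464 (.leaf 0x60000020703000703040103000c) (.leaf 0x0))))))

def argWS_129 : Store := (.node 1476 (.node 1470 (.node 1467 (.node 1466 (.leaf 0xb0a0002) (.leaf 0x0)) (.node 1468 (.leaf 0xf0b0b0a0004) (.node 1469 (.leaf 0xa0f0002) (.leaf 0xf0b0a0003)))) (.node 1473 (.node 1471 (.leaf 0x0) (.node 1472 (.leaf 0xf0b0002) (.leaf 0xa0001))) (.node 1474 (.leaf 0xb0f0a0a0004) (.node 1475 (.leaf 0xb0f0a0a0004) (.leaf 0xf0b0b0003))))) (.node 1482 (.node 1479 (.node 1477 (.leaf 0x403000207020007010009) (.node 1478 (.leaf 0x0) (.leaf 0xd0b0002))) (.node 1480 (.leaf 0x0) (.node 1481 (.leaf 0x5c7) (.leaf 0x0)))) (.node 1485 (.node 1483 (.leaf 0xb0a0f0003) (.node 1484 (.leaf 0x0) (.leaf 0x0))) (.node 1486 (.leaf 0xb0b0a0003) (.node 1487 (.leaf 0xd0b0002) (.leaf 0xb0001))))))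

def argWS_130 : Store := (.node 1465 argWS_128 argWS_129)

def argWS_131 : Store := (.node 1499 (.node 1493 (.node 1490 (.node 1489 (.leaf 0xe0a0002) (.leaf 0xf0b0002)) (.node 1491 (.leaf 0x800040206030006) (.node 1492 (.leaf 0xe0001) (.leaf 0xa0f0002)))) (.node 1496 (.node 1494 (.leaf 0xf0b0a0003) (.node 1495 (.leaf 0xe0d0002) (.leaf 0x6050603050004000703040103000d))) (.node 1497 (.leaf 0x0) (.node 1498 (.leaf 0x0) (.leaf 0x5d9))))) (.node 1504 (.node 1501 (.node 1500 (.leaf 0xa0a0002) (.leaf 0xf0001)) (.node 1502 (.leaf 0xb0f0a0003) (.node 1503 (.leaf 0xf0001) (.leaf 0x6000206030006)))) (.node 1507 (.node 1505 (.leaf 0x0) (.node 1506 (.leaf 0xf0b0a0003) (.leaf 0x0))) (.node 1508 (.leaf 0x107070306000703040103000b) (.node 1509 (.leaf 0xb0b0a0003) (.leaf 0x7000000030306040202000701000d))))))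

def argWS_132 : Store := (.node 1521 (.node 1515 (.node 1512 (.node 1511 (.leaf 0x0) (.leaf 0x0)) (.node 1513 (.leaf 0x9070005020604000703040103000d) (.node 1514 (.leaf 0xf0b0a0a0004) (.leaf 0x202010606000703040103000b)))) (.node 1518 (.node 1516 (.leaf 0x0) (.node 1517 (.leaf 0x600000601050002000703040103000e) (.leaf 0x0))) (.node 1519 (.leaf 0x0) (.node 1520 (.leaf 0x80000050202020703040103000c) (.leaf 0x0))))) (.node 1527 (.node 1524 (.node 1522 (.leaf 0x0) (.node 1523 (.leaf 0x5f100044e) (.leaf 0xb0001))) (.node 1525 (.leaf 0x0) (.node 1526 (.leaf 0xb0a0f0003) (.leaf 0x500070209020006)))) (.node 1530 (.node 1528 (.leaf 0x0) (.node 1529 (.leaf 0xb0f0a0a0004) (.leaf 0xa0f0002))) (.node 1531 (.leaf 0xa0a0002) (.node 1532 (.leaf 0x0) (.leaf 0x0))))))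

def argWS_133 : Store := (.node 1510 argWS_131 argWS_132)

def argWS_134 : Store := (.node 1488 argWS_130 argWS_133)

def argWS_135 : Store := (.node 1544 (.node 1538 (.node 1535 (.node 1534 (.leaf 0xb0b0a0a0004) (.leaf 0x2)) (.node 1536 (.leaf 0x0) (.node 1537 (.leaf 0x0) (.leaf 0xf0b0002)))) (.node 1541 (.node 1539 (.leaf 0x2) (.node 1540 (.leaf 0x0) (.leaf 0x0))) (.node 1542 (.leaf 0x0) (.node 1543 (.leaf 0x4040002) (.leaf 0x0))))) (.node 1549 (.node 1546 (.node 1545 (.leaf 0x0) (.leaf 0x7080002)) (.node 1547 (.leaf 0x7080002) (.node 1548 (.leaf 0x0) (.leaf 0xf0b0002)))) (.node 1552 (.node 1550 (.leaf 0xb0f0002) (.node 1551 (.leaf 0xe0001) (.leaf 0xb0f0a0003))) (.node 1553 (.leaf 0x5000002080400000703040103000d) (.node 1554 (.leaf 0x0) (.leaf 0xb0f0002))))))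

def argWS_136 : Store := (.node 1566 (.node 1560 (.node 1557 (.node 1556 (.leaf 0xf0b0b0003) (.leaf 0xb0a0002)) (.node 1558 (.leaf 0xb0a0002) (.node 1559 (.leaf 0xf0a0a0003) (.leaf 0xb0b0a0003)))) (.node 1563 (.node 1561 (.leaf 0x4d9) (.node 1562 (.leaf 0x60200020901060802040105000c) (.leaf 0x0))) (.node 1564 (.leaf 0x0) (.node 1565 (.leaf 0xd0001) (.leaf 0x0))))) (.node 1572 (.node 1569 (.node 1567 (.leaf 0xf0b0b0003) (.node 1568 (.leaf 0x0) (.leaf 0x6060102000003010802040105000d))) (.node 1570 (.leaf 0x0) (.node 1571 (.leaf 0x202020900000006) (.leaf 0x0)))) (.node 1575 (.node 1573 (.leaf 0x0) (.node 1574 (.leaf 0x624) (.leaf 0x600070306000703040103000b))) (.node 1576 (.leaf 0x0) (.node 1577 (.leaf 0xf0b0002) (.leaf 0x0))))))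

def argWS_137 : Store := (.node 1555 argWS_135 argWS_136)

def argWS_138 : Store := (.node 1589 (.node 1583 (.node 1580 (.node 1579 (.leaf 0x0) (.leaf 0x50101090805000703040103000c)) (.node 1581 (.leaf 0x0) (.node 1582 (.leaf 0x0) (.leaf 0x6020005020202010802040105000d)))) (.node 1586 (.node 1584 (.leaf 0x0) (.node 1585 (.leaf 0x0) (.leaf 0x63000062d))) (.node 1587 (.leaf 0x4020500030306040802040105000d) (.node 1588 (.leaf 0x0) (.leaf 0xa0f0b0b0004))))) (.node 1594 (.node 1591 (.node 1590 (.leaf 0x0) (.leaf 0x4020502000003010202000701000d)) (.node 1592 (.leaf 0x0) (.node 1593 (.leaf 0xf0001) (.leaf 0x20901010904020202000701000c)))) (.node 1597 (.node 1595 (.leaf 0x0) (.node 1596 (.leaf 0xf0b0b0a0004) (.leaf 0x0))) (.node 1598 (.leaf 0xf0b0a0003) (.node 1599 (.leaf 0x5000009020602000703040103000d) (.leaf 0x1020207020902000703040103000d))))))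

def argWS_139 : Store := (.node 1611 (.node 1605 (.node 1602 (.node 1601 (.leaf 0x0) (.leaf 0x0)) (.node 1603 (.leaf 0x20601070206000802040105000c) (.node 1604 (.leaf 0x0) (.leaf 0x0)))) (.node 1608 (.node 1606 (.leaf 0x502010207030802040105000b) (.node 1607 (.leaf 0x0) (.leaf 0x0))) (.node 1609 (.leaf 0xa0a0002) (.node 1610 (.leaf 0x2070209020802040105000b) (.leaf 0x0))))) (.node 1617 (.node 1614 (.node 1612 (.leaf 0xb0b0a0003) (.node 1613 (.leaf 0x0) (.leaf 0x64c))) (.node 1615 (.leaf 0xb0f0a0003) (.node 1616 (.leaf 0x0) (.leaf 0xb0b0002)))) (.node 1620 (.node 1618 (.leaf 0xf0a0002) (.node 1619 (.leaf 0x0) (.leaf 0x0))) (.node 1621 (.leaf 0x1040908050005) (.node 1622 (.leaf 0x20009020007010007) (.leaf 0x0))))))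

def argWS_140 : Store := (.node 1600 argWS_138 argWS_139)

def argWS_141 : Store := (.node 1578 argWS_137 argWS_140)

def argWS_142 : Store := (.node 1533 argWS_134 argWS_141)

def argWS_143 : Store := (.node 1634 (.node 1628 (.node 1625 (.node 1624 (.leaf 0xf0a0002) (.leaf 0x20700030306040802040105000c)) (.node 1626 (.leaf 0x0) (.node 1627 (.leaf 0x20003010102000007) (.leaf 0x0)))) (.node 1631 (.node 1629 (.leaf 0xf0a0a0003) (.node 1630 (.leaf 0x0) (.leaf 0xe0a0a0003))) (.node 1632 (.leaf 0xf0001) (.node 1633 (.leaf 0x705070209020802040105000b) (.leaf 0x0))))) (.node 1639 (.node 1636 (.node 1635 (.leaf 0x0) (.leaf 0x6620003f6)) (.node 1637 (.leaf 0x800090109000703040103000c) (.node 1638 (.leaf 0x0) (.leaf 0xb0a0a0003)))) (.node 1642 (.node 1640 (.leaf 0x0) (.node 1641 (.leaf 0x400030002080400000703040103000e) (.leaf 0x0))) (.node 1643 (.leaf 0xf0a0002) (.node 1644 (.leaf 0x20705020202010007) (.leaf 0x0))))))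

def argWS_144 : Store := (.node 1656 (.node 1650 (.node 1647 (.node 1646 (.leaf 0xa0f0b0003) (.leaf 0x0)) (.node 1648 (.leaf 0x7080007030401030008) (.node 1649 (.leaf 0x0) (.leaf 0xe0a0a0003)))) (.node 1653 (.node 1651 (.leaf 0x0) (.node 1652 (.leaf 0x1050202020900000802040105000d) (.leaf 0x0))) (.node 1654 (.leaf 0xd0001) (.node 1655 (.leaf 0x0) (.leaf 0x676000672))))) (.node 1662 (.node 1659 (.node 1657 (.leaf 0xa0f0b0003) (.node 1658 (.leaf 0x0) (.leaf 0x5020900000006))) (.node 1660 (.leaf 0x0) (.node 1661 (.leaf 0xd0b0b0003) (.leaf 0x6050004080703040103000a)))) (.node 1665 (.node 1663 (.leaf 0x0) (.node 1664 (.leaf 0xf0001) (.leaf 0x0))) (.node 1666 (.leaf 0x8000400000300000008) (.node 1667 (.leaf 0x600020703000703040103000c) (.leaf 0x0))))))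

def argWS_145 : Store := (.node 1645 argWS_143 argWS_144)

def argWS_146 : Store := (.node 1679 (.node 1673 (.node 1670 (.node 1669 (.leaf 0xf0b0b0003) (.leaf 0x0)) (.node 1671 (.leaf 0xa0001) (.node 1672 (.leaf 0x686) (.leaf 0xa0a0002)))) (.node 1676 (.node 1674 (.leaf 0xb0f0002) (.node 1675 (.leaf 0x30401070209020202000701000c) (.leaf 0x0))) (.node 1677 (.leaf 0x0) (.node 1678 (.leaf 0xb0b0a0a0004) (.leaf 0x20002))))) (.node 1684 (.node 1681 (.node 1680 (.leaf 0x0) (.leaf 0x0)) (.node 1682 (.leaf 0xf0b0a0003) (.node 1683 (.leaf 0x20002) (.leaf 0x0)))) (.node 1687 (.node 1685 (.leaf 0x0) (.node 1686 (.leaf 0x0) (.leaf 0x4040002))) (.node 1688 (.leaf 0x0) (.node 1689 (.leaf 0x0) (.leaf 0x8050002))))))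

def argWS_147 : Store := (.node 1701 (.node 1695 (.node 1692 (.node 1691 (.leaf 0x8050002) (.leaf 0x0)) (.node 1693 (.leaf 0xa0f0002) (.node 1694 (.leaf 0xf0b0b0a0004) (.leaf 0xd0001)))) (.node 1698 (.node 1696 (.leaf 0xe0d0002) (.node 1697 (.leaf 0xf0b0a0a0004) (.leaf 0xf0b0a0003))) (.node 1699 (.leaf 0xe0a0a0003) (.node 1700 (.leaf 0xd0b0b0003) (.leaf 0xa0f0b0b0004))))) (.node 1707 (.node 1704 (.node 1702 (.leaf 0xb0f0a0a0004) (.node 1703 (.leaf 0xa0001) (.leaf 0xe0a0002))) (.node 1705 (.leaf 0x10301060207020703040103000c) (.node 1706 (.leaf 0x0) (.leaf 0x0)))) (.node 1710 (.node 1708 (.leaf 0x601020601050002000703040103000e) (.node 1709 (.leaf 0x0) (.leaf 0x0))) (.node 1711 (.leaf 0x6ad0006aa) (.node 1712 (.leaf 0x2020904020005) (.leaf 0x0))))))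

def argWS_148 : Store := (.node 1690 argWS_146 argWS_147)

def argWS_149 : Store := (.node 1668 argWS_145 argWS_148)

def argWS_150 : Store := (.node 1724 (.node 1718 (.node 1715 (.node 1714 (.leaf 0x0) (.leaf 0x0)) (.node 1716 (.leaf 0x0) (.node 1717 (.leaf 0x60601020000030703040103000c) (.leaf 0x207030608020401050009)))) (.node 1721 (.node 1719 (.leaf 0x0) (.node 1720 (.leaf 0x207030608020401050009) (.leaf 0x0))) (.node 1722 (.leaf 0x4040002) (.node 1723 (.leaf 0x0) (.leaf 0x8050002))))) (.node 1729 (.node 1726 (.node 1725 (.leaf 0x0) (.leaf 0x207030608020401050009)) (.node 1727 (.leaf 0x0) (.node 1728 (.leaf 0x4040002) (.leaf 0x0)))) (.node 1732 (.node 1730 (.leaf 0x8050002) (.node 1731 (.leaf 0x0) (.leaf 0x503000408010802040105000b))) (.node 1733 (.leaf 0x0) (.node 1734 (.leaf 0x0) (.leaf 0x4020900000802040105000a))))))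

def argWS_151 : Store := (.node 1746 (.node 1740 (.node 1737 (.node 1736 (.leaf 0x0) (.leaf 0x0)) (.node 1738 (.leaf 0x7070209020202000701000a) (.node 1739 (.leaf 0x20601090805000703040103000c) (.leaf 0x0)))) (.node 1743 (.node 1741 (.leaf 0x0) (.node 1742 (.leaf 0x6cc0004a9) (.leaf 0xb0a0a0003))) (.node 1744 (.leaf 0x0) (.node 1745 (.leaf 0x403040002080400000703040103000e) (.leaf 0x0))))) (.node 1752 (.node 1749 (.node 1747 (.leaf 0xa0a0002) (.node 1748 (.leaf 0x304000408010202000701000b) (.leaf 0x0))) (.node 1750 (.leaf 0x0) (.node 1751 (.leaf 0x3030900090005) (.leaf 0x0)))) (.node 1755 (.node 1753 (.leaf 0x0) (.node 1754 (.leaf 0xd0b0b0003) (.leaf 0xb0b0002))) (.node 1756 (.leaf 0xf0b0b0a0004) (.node 1757 (.leaf 0x1020102020900000202000701000d) (.leaf 0x0))))))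

def argWS_152 : Store := (.node 1735 argWS_150 argWS_151)

def argWS_153 : Store := (.node 1769 (.node 1763 (.node 1760 (.node 1759 (.leaf 0x600090806000007) (.leaf 0x0)) (.node 1761 (.leaf 0x0) (.node 1762 (.leaf 0x7000900090802040105000a) (.leaf 0x0)))) (.node 1766 (.node 1764 (.leaf 0x0) (.node 1765 (.leaf 0x0) (.leaf 0xf0b0a0003))) (.node 1767 (.leaf 0x6020401050005) (.node 1768 (.leaf 0x0) (.leaf 0x0))))) (.node 1774 (.node 1771 (.node 1770 (.leaf 0xb0b0a0a0004) (.leaf 0x6020401050005)) (.node 1772 (.leaf 0x0) (.node 1773 (.leaf 0x0) (.leaf 0x0)))) (.node 1777 (.node 1775 (.leaf 0x8050002) (.node 1776 (.leaf 0x0) (.leaf 0x0))) (.node 1778 (.leaf 0x4040002) (.node 1779 (.leaf 0x4040002) (.leaf 0x0))))))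

def argWS_154 : Store := (.node 1791 (.node 1785 (.node 1782 (.node 1781 (.leaf 0xa0f0002) (.leaf 0xa0f0002)) (.node 1783 (.leaf 0xd0b0002) (.node 1784 (.leaf 0xf0b0b0a0004) (.leaf 0xa0001)))) (.node 1788 (.node 1786 (.leaf 0xb0f0002) (.node 1787 (.leaf 0xf0b0b0a0004) (.leaf 0x2040003030604000703040103000d))) (.node 1789 (.leaf 0x0) (.node 1790 (.leaf 0x0) (.leaf 0x6fd))))) (.node 1797 (.node 1794 (.node 1792 (.leaf 0xb0f0002) (.node 1793 (.leaf 0x0) (.leaf 0xa0a0002))) (.node 1795 (.leaf 0x0) (.node 1796 (.leaf 0x0) (.leaf 0xe0a0a0003)))) (.node 1800 (.node 1798 (.leaf 0xd0001) (.node 1799 (.leaf 0xa0a0002) (.leaf 0x101050206040802040105000b))) (.node 1801 (.leaf 0x0) (.node 1802 (.leaf 0x0) (.leaf 0x37f000709))))))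

def argWS_155 : Store := (.node 1780 argWS_153 argWS_154)

def argWS_156 : Store := (.node 1758 argWS_152 argWS_155)

def argWS_157 : Store := (.node 1713 argWS_149 argWS_156)

def argWS_158 : Store := (.node 1623 argWS_142 argWS_157)

def argWS_159 : Store := (.node 1814 (.node 1808 (.node 1805 (.node 1804 (.leaf 0x205070209020802040105000b) (.leaf 0x0)) (.node 1806 (.leaf 0xa0f0b0b0004) (.node 1807 (.leaf 0x0) (.leaf 0x80300020106060007)))) (.node 1811 (.node 1809 (.leaf 0x0) (.node 1810 (.leaf 0xf0b0002) (.leaf 0xf0b0b0a0a0005))) (.node 1812 (.leaf 0xb0b0a0a0004) (.node 1813 (.leaf 0xf0b0a0003) (.leaf 0x905020900000802040105000b))))) (.node 1819 (.node 1816 (.node 1815 (.leaf 0x0) (.leaf 0xa0f0b0003)) (.node 1817 (.leaf 0x0) (.node 1818 (.leaf 0x205010703060202000701000b) (.leaf 0x0)))) (.node 1822 (.node 1820 (.leaf 0xb0f0a0a0004) (.node 1821 (.leaf 0xb0f0a0003) (.leaf 0x8000601050002000703040103000e))) (.node 1823 (.leaf 0x0) (.node 1824 (.leaf 0x0)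 (.leaf 0x0))))))

def argWS_160 : Store := (.node 1836 (.node 1830 (.node 1827 (.node 1826 (.leaf 0x72000071f) (.leaf 0x0)) (.node 1828 (.leaf 0x0) (.node 1829 (.leaf 0x0) (.leaf 0x704070209020006)))) (.node 1833 (.node 1831 (.leaf 0x704070209020006) (.node 1832 (.leaf 0x0) (.leaf 0x704070209020006))) (.node 1834 (.leaf 0x0) (.node 1835 (.leaf 0x8050002) (.leaf 0x0))))) (.node 1842 (.node 1839 (.node 1837 (.leaf 0x4040002) (.node 1838 (.leaf 0x0) (.leaf 0x704070209020006))) (.node 1840 (.leaf 0x0) (.node 1841 (.leaf 0x8050002) (.leaf 0x0)))) (.node 1845 (.node 1843 (.leaf 0x4040002) (.node 1844 (.leaf 0x0) (.leaf 0x30106030500040202000701000c))) (.node 1846 (.leaf 0x0) (.node 1847 (.leaf 0xd0001) (.leaf 0x304010901090202000701000b))))))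

def argWS_161 : Store := (.node 1825 argWS_159 argWS_160)

def argWS_162 : Store := (.node 1859 (.node 1853 (.node 1850 (.node 1849 (.leaf 0x0) (.leaf 0x307020901060202000701000b)) (.node 1851 (.leaf 0x0) (.node 1852 (.leaf 0x0) (.leaf 0x6020702010802040105000b)))) (.node 1856 (.node 1854 (.leaf 0x0) (.node 1855 (.leaf 0x0) (.leaf 0xb0a0a0003))) (.node 1857 (.leaf 0xf0b0b0a0a0005) (.node 1858 (.leaf 0xb0b0a0003) (.leaf 0xe0d0002))))) (.node 1864 (.node 1861 (.node 1860 (.leaf 0x6010200000300000202000701000d) (.leaf 0x0)) (.node 1862 (.leaf 0x0) (.node 1863 (.leaf 0xf0b0a0a0004) (.leaf 0x2020908050202000701000a)))) (.node 1867 (.node 1865 (.leaf 0x0) (.node 1866 (.leaf 0x103070306000703040103000b) (.leaf 0x0))) (.node 1868 (.leaf 0x40008020401050008) (.node 1869 (.leaf 0x0) (.leaf 0xb0f0a0003))))))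

def argWS_163 : Store := (.node 1881 (.node 1875 (.node 1872 (.node 1871 (.leaf 0x0) (.leaf 0x5020206030005)) (.node 1873 (.leaf 0x0) (.node 1874 (.leaf 0xf0b0b0003) (.leaf 0x0)))) (.node 1878 (.node 1876 (.leaf 0x75200074e) (.node 1877 (.leaf 0xb0a0a0003) (.leaf 0x0))) (.node 1879 (.leaf 0x104090000090006) (.node 1880 (.leaf 0x0) (.leaf 0xd0b0002))))) (.node 1887 (.node 1884 (.node 1882 (.leaf 0xb0b0a0003) (.node 1883 (.leaf 0xb0b0002) (.leaf 0xf0001))) (.node 1885 (.leaf 0xf0b0b0003) (.node 1886 (.leaf 0xb0001) (.leaf 0x0)))) (.node 1890 (.node 1888 (.leaf 0x0) (.node 1889 (.leaf 0xf0b0a0a0004) (.leaf 0x102020003))) (.node 1891 (.leaf 0x0) (.node 1892 (.leaf 0x0) (.leaf 0xb0b0a0a0004))))))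

def argWS_164 : Store := (.node 1870 argWS_162 argWS_163)

def argWS_165 : Store := (.node 1848 argWS_161 argWS_164)

def argWS_166 : Store := (.node 1904 (.node 1898 (.node 1895 (.node 1894 (.leaf 0x102020003) (.leaf 0x0)) (.node 1896 (.leaf 0x0) (.node 1897 (.leaf 0x0) (.leaf 0x20600030306040802040105000c)))) (.node 1901 (.node 1899 (.leaf 0x0) (.node 1900 (.leaf 0x0) (.leaf 0x4040002))) (.node 1902 (.leaf 0x4040002) (.node 1903 (.leaf 0x0) (.leaf 0xd0b0b0003))))) (.node 1909 (.node 1906 (.node 1905 (.leaf 0xa0a0002) (.leaf 0x2020900000005)) (.node 1907 (.leaf 0x10400090206020202000701000c) (.node 1908 (.leaf 0xd0b0002) (.leaf 0xf0b0b0a0004)))) (.node 1912 (.node 1910 (.leaf 0x40206030005) (.node 1911 (.leaf 0x200020106060007) (.leaf 0x0))) (.node 1913 (.leaf 0x6000002000003010802040105000d) (.node 1914 (.leaf 0x0) (.leaf 0x902020900000202000701000b))))))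

def argWS_167 : Store := (.node 1926 (.node 1920 (.node 1917 (.node 1916 (.leaf 0x0) (.leaf 0x0)) (.node 1918 (.leaf 0x200020900090006) (.node 1919 (.leaf 0x0) (.leaf 0x0)))) (.node 1923 (.node 1921 (.leaf 0x77f00077c) (.node 1922 (.leaf 0x3010802040105000a) (.leaf 0x0))) (.node 1924 (.leaf 0xa0f0b0003) (.node 1925 (.leaf 0x0) (.leaf 0x40304000408010202000701000c))))) (.node 1932 (.node 1929 (.node 1927 (.leaf 0x0) (.node 1928 (.leaf 0x50200000300000007) (.leaf 0x0))) (.node 1930 (.leaf 0xe0a0a0003) (.node 1931 (.leaf 0x0) (.leaf 0x1030904020202000701000a)))) (.node 1935 (.node 1933 (.leaf 0x0) (.node 1934 (.leaf 0x80500090806000202000701000c) (.leaf 0x1070009080600000703040103000d))) (.node 1936 (.leaf 0x0) (.node 1937 (.leaf 0x0) (.leaf 0x790))))))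

def argWS_168 : Store := (.node 1915 argWS_166 argWS_167)

def argWS_169 : Store := (.node 1949 (.node 1943 (.node 1940 (.node 1939 (.leaf 0xb0f0a0003) (.leaf 0x0)) (.node 1941 (.leaf 0xb0f0a0a0004) (.node 1942 (.leaf 0x0) (.leaf 0xb0f0a0003)))) (.node 1946 (.node 1944 (.leaf 0x0) (.node 1945 (.leaf 0xb0a0002) (.leaf 0xa0a0002))) (.node 1947 (.leaf 0x1050200030306040802040105000d) (.node 1948 (.leaf 0x0) (.leaf 0xb0f0a0003))))) (.node 1954 (.node 1951 (.node 1950 (.leaf 0x0) (.leaf 0xb0f0002)) (.node 1952 (.leaf 0x79e00079d) (.node 1953 (.leaf 0xf0b0b0003) (.leaf 0x0)))) (.node 1957 (.node 1955 (.leaf 0xa0f0b0b0004) (.node 1956 (.leaf 0x60002080400000703040103000d) (.leaf 0x0))) (.node 1958 (.leaf 0xe0a0a0003) (.node 1959 (.leaf 0xb0a0a0003) (.leaf 0xa0a0002))))))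

def argWS_170 : Store := (.node 1971 (.node 1965 (.node 1962 (.node 1961 (.leaf 0x10400050202020703040103000c) (.leaf 0x202000901090202000701000b)) (.node 1963 (.leaf 0x0) (.node 1964 (.leaf 0x0) (.leaf 0x400030009020602000703040103000e)))) (.node 1968 (.node 1966 (.leaf 0x0) (.node 1967 (.leaf 0xe0001) (.leaf 0x0))) (.node 1969 (.leaf 0x7af) (.node 1970 (.leaf 0x205090000090006) (.leaf 0x0))))) (.node 1977 (.node 1974 (.node 1972 (.leaf 0xb0b0a0003) (.node 1973 (.leaf 0x0) (.leaf 0xb0a0a0003))) (.node 1975 (.leaf 0x0) (.node 1976 (.leaf 0x0) (.leaf 0xf0b0002)))) (.node 1980 (.node 1978 (.leaf 0xd0b0002) (.node 1979 (.leaf 0xb0a0002) (.leaf 0x200020206030006))) (.node 1981 (.leaf 0x0) (.node 1982 (.leaf 0x0) (.leaf 0x900020106060202000701000b))))))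

def argWS_171 : Store := (.node 1960 argWS_169 argWS_170)

def argWS_172 : Store := (.node 1938 argWS_168 argWS_171)

def argWS_173 : Store := (.node 1893 argWS_165 argWS_172)

def argWS_174 : Store := (.node 1994 (.node 1988 (.node 1985 (.node 1984 (.leaf 0x0) (.leaf 0xf0001)) (.node 1986 (.leaf 0x0) (.node 1987 (.leaf 0x7c10007bd) (.leaf 0xd0b0002)))) (.node 1991 (.node 1989 (.leaf 0x0) (.node 1990 (.leaf 0x502000400050802040105000b) (.leaf 0x0))) (.node 1992 (.leaf 0xd0b0002) (.node 1993 (.leaf 0x604000603050004000703040103000e) (.leaf 0xa0f0002))))) (.node 1999 (.node 1996 (.node 1995 (.leaf 0x0) (.leaf 0x0)) (.node 1997 (.leaf 0xf0b0002) (.node 1998 (.leaf 0x103010003) (.leaf 0x0)))) (.node 2002 (.node 2000 (.leaf 0x0) (.node 2001 (.leaf 0xb0b0a0a0004) (.leaf 0x103010003))) (.node 2003 (.leaf 0x0) (.node 2004 (.leaf 0x0) (.leaf 0x0))))))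

def argWS_175 : Store := (.node 2016 (.node 2010 (.node 2007 (.node 2006 (.leaf 0x7080002) (.leaf 0x0)) (.node 2008 (.leaf 0x0) (.node 2009 (.leaf 0x4040002) (.leaf 0x4040002)))) (.node 2013 (.node 2011 (.leaf 0x0) (.node 2012 (.leaf 0xf0b0a0003) (.leaf 0xf0b0b0a0a0005))) (.node 2014 (.leaf 0xa0001) (.node 2015 (.leaf 0xf0b0b0a0004) (.leaf 0xa0f0002))))) (.node 2022 (.node 2019 (.node 2017 (.leaf 0xa0f0b0b0004) (.node 2018 (.leaf 0xb0a0002) (.leaf 0xe0a0a0003))) (.node 2020 (.leaf 0xd0001) (.node 2021 (.leaf 0x20000020804000802040105000d) (.leaf 0xe0001)))) (.node 2025 (.node 2023 (.leaf 0xb0f0a0003) (.node 2024 (.leaf 0x704020106060202000701000b) (.leaf 0x0))) (.node 2026 (.leaf 0x0) (.node 2027 (.leaf 0x9010402000003010802040105000d) (.leaf 0x0))))))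

def argWS_176 : Store := (.node 2005 argWS_174 argWS_175)

def argWS_177 : Store := (.node 2039 (.node 2033 (.node 2030 (.node 2029 (.leaf 0xd0b0002) (.leaf 0x0)) (.node 2031 (.leaf 0x7ed0007e9) (.node 2032 (.leaf 0x80200070009030802040105000c) (.leaf 0x0)))) (.node 2036 (.node 2034 (.leaf 0xf0a0002) (.node 2035 (.leaf 0x0) (.leaf 0x0))) (.node 2037 (.leaf 0xb0a0f0003) (.node 2038 (.leaf 0x60000070009030802040105000c) (.leaf 0x0))))) (.node 2044 (.node 2041 (.node 2040 (.leaf 0xf0b0b0a0004) (.leaf 0x9040400050802040105000a)) (.node 2042 (.leaf 0x0) (.node 2043 (.leaf 0x0) (.leaf 0x7fa)))) (.node 2047 (.node 2045 (.leaf 0xf0b0a0a0004) (.node 2046 (.leaf 0x0) (.leaf 0xb0b0002))) (.node 2048 (.leaf 0x60507000903000703040103000c) (.node 2049 (.leaf 0x0) (.leaf 0xe0d0002))))))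

def argWS_178 : Store := (.node 2061 (.node 2055 (.node 2052 (.node 2051 (.leaf 0x400020900000802040105000b) (.leaf 0xf0b0a0003)) (.node 2053 (.leaf 0xb0f0a0a0004) (.node 2054 (.leaf 0x6040006020702010802040105000d) (.leaf 0x0)))) (.node 2058 (.node 2056 (.leaf 0x0) (.node 2057 (.leaf 0x8070001a7) (.leaf 0x2050206030005))) (.node 2059 (.leaf 0x0) (.node 2060 (.leaf 0xf0b0b0a0004) (.leaf 0x0))))) (.node 2067 (.node 2064 (.node 2062 (.leaf 0xa0f0b0b0004) (.node 2063 (.leaf 0x0) (.leaf 0x0))) (.node 2065 (.leaf 0xa0a0002) (.node 2066 (.leaf 0x10903010703060202000701000c) (.leaf 0x0)))) (.node 2070 (.node 2068 (.leaf 0xf0b0a0003) (.node 2069 (.leaf 0x0) (.leaf 0x507000903000703040103000b))) (.node 2071 (.leaf 0x0) (.node 2072 (.leaf 0xa0001) (.leaf 0x0))))))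

def argWS_179 : Store := (.node 2050 argWS_177 argWS_178)

def argWS_180 : Store := (.node 2028 argWS_176 argWS_179)

def argWS_181 : Store := (.node 2084 (.node 2078 (.node 2075 (.node 2074 (.leaf 0x605010900090006) (.leaf 0x0)) (.node 2076 (.leaf 0xd0b0b0003) (.node 2077 (.leaf 0x0) (.leaf 0x20502010703060202000701000c)))) (.node 2081 (.node 2079 (.leaf 0x0) (.node 2080 (.leaf 0x2090603050004000703040103000d) (.leaf 0x0))) (.node 2082 (.leaf 0x0) (.node 2083 (.leaf 0x0) (.leaf 0xb0b0a0a0004))))) (.node 2089 (.node 2086 (.node 2085 (.leaf 0x6040106010500020202000701000d) (.leaf 0x0)) (.node 2087 (.leaf 0x0) (.node 2088 (.leaf 0xe0a0002) (.leaf 0x6040106010500020202000701000d)))) (.node 2092 (.node 2090 (.leaf 0x0) (.node 2091 (.leaf 0x0) (.leaf 0x0))) (.node 2093 (.leaf 0x4040002) (.node 2094 (.leaf 0x0) (.leaf 0x0))))))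

def argWS_182 : Store := (.node 2106 (.node 2100 (.node 2097 (.node 2096 (.leaf 0x406060003) (.leaf 0x406060003)) (.node 2098 (.leaf 0x0) (.node 2099 (.leaf 0xb0b0a0003) (.leaf 0xa0f0002)))) (.node 2103 (.node 2101 (.leaf 0x30403080004) (.node 2102 (.leaf 0x0) (.leaf 0xa0f0b0003))) (.node 2104 (.leaf 0x0) (.node 2105 (.leaf 0x837) (.leaf 0xb0b0002))))) (.node 2112 (.node 2109 (.node 2107 (.leaf 0x0) (.node 2108 (.leaf 0x0) (.leaf 0xe0001))) (.node 2110 (.leaf 0xb0f0002) (.node 2111 (.leaf 0xb0f0002) (.leaf 0xb0a0a0003)))) (.node 2115 (.node 2113 (.leaf 0x3070002000003010008) (.node 2114 (.leaf 0x0) (.leaf 0x0))) (.node 2116 (.leaf 0x84200030c) (.node 2117 (.leaf 0x7040202090000000703040103000d) (.leaf 0x0))))))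

def argWS_183 : Store := (.node 2095 argWS_181 argWS_182)

def argWS_184 : Store := (.node 2129 (.node 2123 (.node 2120 (.node 2119 (.leaf 0xa0f0b0b0004) (.leaf 0x0)) (.node 2121 (.leaf 0x206010206020007010009) (.node 2122 (.leaf 0x0) (.leaf 0xd0b0b0003)))) (.node 2126 (.node 2124 (.leaf 0x40202090000000703040103000c) (.node 2125 (.leaf 0x0) (.leaf 0xa0f0b0003))) (.node 2127 (.leaf 0x0) (.node 2128 (.leaf 0xf0001) (.leaf 0xe0d0002))))) (.node 2135 (.node 2132 (.node 2130 (.leaf 0x105080007030401030009) (.node 2131 (.leaf 0x0) (.leaf 0x0))) (.node 2133 (.leaf 0x853) (.node 2134 (.leaf 0xe0001) (.leaf 0x0)))) (.node 2138 (.node 2136 (.leaf 0xd0001) (.node 2137 (.leaf 0x0) (.leaf 0x0))) (.node 2139 (.leaf 0xb0b0a0a0004) (.node 2140 (.leaf 0xf0a0a0003) (.leaf 0x644))))))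

def argWS_185 : Store := (.node 2152 (.node 2146 (.node 2143 (.node 2142 (.leaf 0xa0f0002) (.leaf 0x0)) (.node 2144 (.leaf 0x202020004080703040103000b) (.node 2145 (.leaf 0x0) (.leaf 0xb0a0f0003)))) (.node 2149 (.node 2147 (.leaf 0xa0f0b0003) (.node 2148 (.leaf 0xa0a0002) (.leaf 0x20601090806000202000701000c))) (.node 2150 (.leaf 0x0) (.node 2151 (.leaf 0x0) (.leaf 0x107050202020703040103000b))))) (.node 2158 (.node 2155 (.node 2153 (.leaf 0x0) (.node 2154 (.leaf 0xa0f0b0003) (.leaf 0x0))) (.node 2156 (.leaf 0x86a000804) (.node 2157 (.leaf 0x307090000090802040105000b) (.leaf 0x0)))) (.node 2161 (.node 2159 (.leaf 0xb0b0a0003) (.node 2160 (.leaf 0x50306020702010802040105000d) (.leaf 0x0))) (.node 2162 (.leaf 0xf0b0b0003) (.node 2163 (.leaf 0x0) (.leaf 0x0))))))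

def argWS_186 : Store := (.node 2141 argWS_184 argWS_185)

def argWS_187 : Store := (.node 2118 argWS_183 argWS_186)

def argWS_188 : Store := (.node 2073 argWS_180 argWS_187)

def argWS_189 : Store := (.node 1983 argWS_173 argWS_188)

def argWS_190 : Store := (.node 1803 argWS_158 argWS_189)

def argWS_191 : Store := (.node 2175 (.node 2169 (.node 2166 (.node 2165 (.leaf 0x0) (.leaf 0xe0d0002)) (.node 2167 (.leaf 0x300070209020006) (.node 2168 (.leaf 0x0) (.leaf 0x0)))) (.node 2172 (.node 2170 (.leaf 0x0) (.node 2171 (.leaf 0x50001) (.leaf 0x50001))) (.node 2173 (.leaf 0x0) (.node 2174 (.leaf 0x50001) (.leaf 0x0))))) (.node 2180 (.node 2177 (.node 2176 (.leaf 0x4040002) (.leaf 0x0)) (.node 2178 (.leaf 0xa0f0b0003) (.node 2179 (.leaf 0xf0b0a0a0004) (.leaf 0xa0f0002)))) (.node 2183 (.node 2181 (.leaf 0xb0b0a0a0004) (.node 2182 (.leaf 0xb0f0002) (.leaf 0xb0b0a0003))) (.node 2184 (.leaf 0x0) (.node 2185 (.leaf 0x0) (.leaf 0xb0b0a0a0004))))))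

def argWS_192 : Store := (.node 2197 (.node 2191 (.node 2188 (.node 2187 (.leaf 0x204000408010202000701000b) (.leaf 0x0)) (.node 2189 (.leaf 0x0) (.node 2190 (.leaf 0xf0b0a0a0004) (.leaf 0x204000408010202000701000b)))) (.node 2194 (.node 2192 (.leaf 0x0) (.node 2193 (.leaf 0x0) (.leaf 0x0))) (.node 2195 (.leaf 0x4040002) (.node 2196 (.leaf 0x0) (.leaf 0x0))))) (.node 2203 (.node 2200 (.node 2198 (.leaf 0x20600030306040802040105000c) (.node 2199 (.leaf 0x20600030306040802040105000c) (.leaf 0x0))) (.node 2201 (.leaf 0xa0a0002) (.node 2202 (.leaf 0xf0001) (.leaf 0xd0b0b0003)))) (.node 2206 (.node 2204 (.leaf 0xe0a0002) (.node 2205 (.leaf 0xe0d0002) (.leaf 0xa0f0b0003))) (.node 2207 (.leaf 0xf0001) (.node 2208 (.leaf 0xf0b0b0003) (.leaf 0xf0b0b0a0a0005))))))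

def argWS_193 : Store := (.node 2186 argWS_191 argWS_192)

def argWS_194 : Store := (.node 2220 (.node 2214 (.node 2211 (.node 2210 (.leaf 0xa0f0b0b0004) (.leaf 0x60400090109000703040103000c)) (.node 2212 (.leaf 0x0) (.node 2213 (.leaf 0x0) (.leaf 0xf0b0a0a0004)))) (.node 2217 (.node 2215 (.leaf 0x30301090805000703040103000c) (.node 2216 (.leaf 0x0) (.leaf 0x0))) (.node 2218 (.leaf 0x8a8000172) (.node 2219 (.leaf 0x4000303010102000202000701000d) (.leaf 0x0))))) (.node 2225 (.node 2222 (.node 2221 (.leaf 0x0) (.leaf 0x0)) (.node 2223 (.leaf 0x0) (.node 2224 (.leaf 0x80500070009030802040105000c) (.leaf 0x20600030306040802040105000c)))) (.node 2228 (.node 2226 (.leaf 0x0) (.node 2227 (.leaf 0x70209020004) (.leaf 0x0))) (.node 2229 (.leaf 0x70209020004) (.node 2230 (.leaf 0x0) (.leaf 0x4040002))))))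

def argWS_195 : Store := (.node 2242 (.node 2236 (.node 2233 (.node 2232 (.leaf 0x0) (.leaf 0x307050206040006)) (.node 2234 (.leaf 0x0) (.node 2235 (.leaf 0x60201090402000703040103000c) (.leaf 0x0)))) (.node 2239 (.node 2237 (.leaf 0x404070209020006) (.node 2238 (.leaf 0x0) (.leaf 0x90009080600000703040103000c))) (.node 2240 (.leaf 0x0) (.node 2241 (.leaf 0xb0a0002) (.leaf 0x0))))) (.node 2248 (.node 2245 (.node 2243 (.leaf 0x702010703060802040105000b) (.node 2244 (.leaf 0x0) (.leaf 0x0))) (.node 2246 (.leaf 0x60200000408010802040105000c) (.node 2247 (.leaf 0x0) (.leaf 0xa0a0002)))) (.node 2251 (.node 2249 (.leaf 0x0) (.node 2250 (.leaf 0x8c80008c4) (.leaf 0x903000007030401030009))) (.node 2252 (.leaf 0x0) (.node 2253 (.leaf 0xb0b0002) (.leaf 0x0))))))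

def argWS_196 : Store := (.node 2231 argWS_194 argWS_195)

def argWS_197 : Store := (.node 2209 argWS_193 argWS_196)

def argWS_198 : Store := (.node 2265 (.node 2259 (.node 2256 (.node 2255 (.leaf 0xf0b0b0a0004) (.leaf 0xf0b0b0003)) (.node 2257 (.leaf 0x40003010908050802040105000c) (.node 2258 (.leaf 0x0) (.leaf 0x0)))) (.node 2262 (.node 2260 (.leaf 0x8d2) (.node 2261 (.leaf 0xb0f0002) (.leaf 0x0))) (.node 2263 (.leaf 0xb0f0002) (.node 2264 (.leaf 0x0) (.leaf 0x8000000030306040202000701000d))))) (.node 2270 (.node 2267 (.node 2266 (.leaf 0x0) (.leaf 0xa0f0002)) (.node 2268 (.leaf 0x0) (.node 2269 (.leaf 0x9070006030500040802040105000d) (.leaf 0x0)))) (.node 2273 (.node 2271 (.leaf 0x0) (.node 2272 (.leaf 0x204030603050004000703040103000e) (.leaf 0x0))) (.node 2274 (.leaf 0xe0a0a0003) (.node 2275 (.leaf 0x0) (.leaf 0x70200000300000007))))))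

def argWS_199 : Store := (.node 2287 (.node 2281 (.node 2278 (.node 2277 (.leaf 0x0) (.leaf 0xb0f0a0a0004)) (.node 2279 (.leaf 0x0) (.node 2280 (.leaf 0x6040102000003010008) (.leaf 0x0)))) (.node 2284 (.node 2282 (.leaf 0xb0a0f0003) (.node 2283 (.leaf 0x0) (.leaf 0xb0b0002))) (.node 2285 (.leaf 0x8eb000796) (.node 2286 (.leaf 0x205020202090000000703040103000e) (.leaf 0x0))))) (.node 2293 (.node 2290 (.node 2288 (.leaf 0xa0a0002) (.node 2289 (.leaf 0x0) (.leaf 0xb0a0f0003))) (.node 2291 (.leaf 0x4090206020202000701000a) (.node 2292 (.leaf 0x0) (.leaf 0xa0f0b0003)))) (.node 2296 (.node 2294 (.leaf 0x70000000408010202000701000c) (.node 2295 (.leaf 0x0) (.leaf 0xb0b0a0a0004))) (.node 2297 (.leaf 0x0) (.node 2298 (.leaf 0x7000300000202000701000a) (.leaf 0x0))))))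

def argWS_200 : Store := (.node 2276 argWS_198 argWS_199)

def argWS_201 : Store := (.node 2310 (.node 2304 (.node 2301 (.node 2300 (.leaf 0xb0f0a0a0004) (.leaf 0x0)) (.node 2302 (.leaf 0x8fc) (.node 2303 (.leaf 0x102060207020703040103000b) (.leaf 0x0)))) (.node 2307 (.node 2305 (.leaf 0xb0b0a0a0004) (.node 2306 (.leaf 0x0) (.leaf 0x901040400050802040105000b))) (.node 2308 (.leaf 0x0) (.node 2309 (.leaf 0xa0f0b0b0004) (.leaf 0xf0b0002))))) (.node 2315 (.node 2312 (.node 2311 (.leaf 0xb0b0a0a0004) (.leaf 0xe0001)) (.node 2313 (.leaf 0xb0001) (.node 2314 (.leaf 0xf0b0a0003) (.leaf 0x90005020202010008)))) (.node 2318 (.node 2316 (.leaf 0x0) (.node 2317 (.leaf 0x0) (.leaf 0x8c100090c))) (.node 2319 (.leaf 0x9020107020600000703040103000d) (.node 2320 (.leaf 0x0) (.leaf 0xa0f0002))))))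

def argWS_202 : Store := (.node 2332 (.node 2326 (.node 2323 (.node 2322 (.leaf 0x0) (.leaf 0xf0a0002)) (.node 2324 (.leaf 0xd0b0b0003) (.node 2325 (.leaf 0xb0b0a0003) (.leaf 0xb0b0a0a0004)))) (.node 2329 (.node 2327 (.leaf 0x6040107020600000703040103000d) (.node 2328 (.leaf 0x0) (.leaf 0x9070206000202000701000a))) (.node 2330 (.leaf 0x40009080600000703040103000c) (.node 2331 (.leaf 0x0) (.leaf 0x0))))) (.node 2338 (.node 2335 (.node 2333 (.leaf 0x500040807030401030009) (.node 2334 (.leaf 0x0) (.leaf 0x0))) (.node 2336 (.leaf 0x91e0007f2) (.node 2337 (.leaf 0xd0b0002) (.leaf 0x0)))) (.node 2341 (.node 2339 (.leaf 0x205010102000202000701000b) (.node 2340 (.leaf 0x0) (.leaf 0xf0b0b0a0a0005))) (.node 2342 (.leaf 0x90002020900000802040105000c) (.node 2343 (.leaf 0x0) (.leaf 0xb0f0a0a0004))))))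

def argWS_203 : Store := (.node 2321 argWS_201 argWS_202)

def argWS_204 : Store := (.node 2299 argWS_200 argWS_203)

def argWS_205 : Store := (.node 2254 argWS_197 argWS_204)

def argWS_206 : Store := (.node 2355 (.node 2349 (.node 2346 (.node 2345 (.leaf 0x0) (.leaf 0x304000408010202000701000b)) (.node 2347 (.leaf 0x0) (.node 2348 (.leaf 0xb0a0f0003) (.leaf 0xf0a0a0003)))) (.node 2352 (.node 2350 (.leaf 0x8010106010500020802040105000d) (.node 2351 (.leaf 0x0) (.leaf 0x0))) (.node 2353 (.leaf 0xf0b0b0a0a0005) (.node 2354 (.leaf 0x604010401050006) (.leaf 0x0))))) (.node 2360 (.node 2357 (.node 2356 (.leaf 0xf0001) (.leaf 0x0)) (.node 2358 (.leaf 0x934000930) (.node 2359 (.leaf 0x2010400050005) (.leaf 0x0)))) (.node 2363 (.node 2361 (.leaf 0xe0a0002) (.node 2362 (.leaf 0x4040207020007010008) (.leaf 0x0))) (.node 2364 (.leaf 0x206000300000006) (.node 2365 (.leaf 0x0) (.leaf 0x0))))))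

def argWS_207 : Store := (.node 2377 (.node 2371 (.node 2368 (.node 2367 (.leaf 0x0) (.leaf 0xe0d0002)) (.node 2369 (.leaf 0x907020901060802040105000b) (.node 2370 (.leaf 0x0) (.leaf 0x0)))) (.node 2374 (.node 2372 (.leaf 0xb0a0002) (.node 2373 (.leaf 0x0) (.leaf 0x50001))) (.node 2375 (.leaf 0x50001) (.node 2376 (.leaf 0x0) (.leaf 0x50001))))) (.node 2383 (.node 2380 (.node 2378 (.leaf 0x0) (.node 2379 (.leaf 0x4040002) (.leaf 0x0))) (.node 2381 (.leaf 0xe0001) (.node 2382 (.leaf 0xf0a0002) (.leaf 0xf0b0b0003)))) (.node 2386 (.node 2384 (.leaf 0xf0a0a0003) (.node 2385 (.leaf 0x1020103010102000008) (.leaf 0x7090000090802040105000a))) (.node 2387 (.leaf 0x0) (.node 2388 (.leaf 0x40908050005) (.leaf 0x0))))))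

def argWS_208 : Store := (.node 2366 argWS_206 argWS_207)

def argWS_209 : Store := (.node 2400 (.node 2394 (.node 2391 (.node 2390 (.leaf 0x20202070009030802040105000c) (.leaf 0x0)) (.node 2392 (.leaf 0xf0b0b0003) (.node 2393 (.leaf 0x0) (.leaf 0x958)))) (.node 2397 (.node 2395 (.leaf 0xf0a0a0003) (.node 2396 (.leaf 0x0) (.leaf 0xf0b0002))) (.node 2398 (.leaf 0x0) (.node 2399 (.leaf 0x0) (.leaf 0xf0b0b0003))))) (.node 2405 (.node 2402 (.node 2401 (.leaf 0x2090106000703040103000c) (.leaf 0x502000401050006)) (.node 2403 (.leaf 0x0) (.node 2404 (.leaf 0xb0b0002) (.leaf 0x40304090806000202000701000c)))) (.node 2408 (.node 2406 (.leaf 0x0) (.node 2407 (.leaf 0x0) (.leaf 0xf0b0b0a0a0005))) (.node 2409 (.leaf 0x10001) (.node 2410 (.leaf 0x0) (.leaf 0x0))))))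

def argWS_210 : Store := (.node 2422 (.node 2416 (.node 2413 (.node 2412 (.leaf 0x0) (.leaf 0x9070908050005)) (.node 2414 (.leaf 0x0) (.node 2415 (.leaf 0x207000408010202000701000b) (.leaf 0x0)))) (.node 2419 (.node 2417 (.leaf 0xa0f0b0003) (.node 2418 (.leaf 0xa0f0002) (.leaf 0xf0b0b0a0004))) (.node 2420 (.leaf 0x702090000090202000701000b) (.node 2421 (.leaf 0x0) (.leaf 0xe0d0002))))) (.node 2428 (.node 2425 (.node 2423 (.leaf 0x0) (.node 2424 (.leaf 0x976) (.leaf 0xd0b0b0003))) (.node 2426 (.leaf 0xb0f0a0003) (.node 2427 (.leaf 0x6020106060802040105000b) (.leaf 0x0)))) (.node 2431 (.node 2429 (.leaf 0xf0b0b0a0a0005) (.node 2430 (.leaf 0x0) (.leaf 0x97d))) (.node 2432 (.leaf 0x90700070209020007) (.node 2433 (.leaf 0x0) (.leaf 0xb0f0a0a0004))))))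

def argWS_211 : Store := (.node 2411 argWS_209 argWS_210)

def argWS_212 : Store := (.node 2389 argWS_208 argWS_211)

def argWS_213 : Store := (.node 2445 (.node 2439 (.node 2436 (.node 2435 (.leaf 0x0) (.leaf 0xb0a0a0003)) (.node 2437 (.leaf 0x0) (.node 2438 (.leaf 0xf0b0002) (.leaf 0x0)))) (.node 2442 (.node 2440 (.leaf 0xf0001) (.node 2441 (.leaf 0xf0001) (.leaf 0x70107030401030007))) (.node 2443 (.leaf 0x0) (.node 2444 (.leaf 0x104090009000703040103000b) (.leaf 0x0))))) (.node 2450 (.node 2447 (.node 2446 (.leaf 0x0) (.leaf 0x98d)) (.node 2448 (.leaf 0xf0b0b0003) (.node 2449 (.leaf 0x0) (.leaf 0x7010207030802040105000a)))) (.node 2453 (.node 2451 (.leaf 0x0) (.node 2452 (.leaf 0xb0f0a0a0004) (.leaf 0xb0b0a0a0004))) (.node 2454 (.leaf 0xb0b0002) (.node 2455 (.leaf 0xa0f0002) (.leaf 0x2fc0002bf))))))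

def argWS_214 : Store := (.node 2467 (.node 2461 (.node 2458 (.node 2457 (.leaf 0x209010606000703040103000b) (.leaf 0x0)) (.node 2459 (.leaf 0xb0f0a0003) (.node 2460 (.leaf 0x0) (.leaf 0x0)))) (.node 2464 (.node 2462 (.leaf 0xe0a0002) (.node 2463 (.leaf 0xb0f0a0a0004) (.leaf 0xf0b0b0003))) (.node 2465 (.leaf 0x4000207030005) (.node 2466 (.leaf 0x0) (.leaf 0xb0f0002))))) (.node 2473 (.node 2470 (.node 2468 (.leaf 0x301020901060006) (.node 2469 (.leaf 0x0) (.leaf 0x0))) (.node 2471 (.leaf 0x9a5000447) (.node 2472 (.leaf 0xa0f0b0b0004) (.leaf 0x0)))) (.node 2476 (.node 2474 (.leaf 0xf0001) (.node 2475 (.leaf 0x0) (.leaf 0x0))) (.node 2477 (.leaf 0xb0a0a0003) (.node 2478 (.leaf 0xb0b0002) (.leaf 0xf0a0a0003))))))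

def argWS_215 : Store := (.node 2456 argWS_213 argWS_214)

def argWS_216 : Store := (.node 2490 (.node 2484 (.node 2481 (.node 2480 (.leaf 0x702050206040006) (.leaf 0x0)) (.node 2482 (.leaf 0xb0001) (.node 2483 (.leaf 0x0) (.leaf 0x9b2000647)))) (.node 2487 (.node 2485 (.leaf 0x401050206040202000701000b) (.node 2486 (.leaf 0x0) (.leaf 0xf0b0b0a0a0005))) (.node 2488 (.leaf 0x0) (.node 2489 (.leaf 0x2000502020007010008) (.leaf 0x0))))) (.node 2496 (.node 2493 (.node 2491 (.leaf 0xb0b0a0a0004) (.node 2492 (.leaf 0xa0f0b0b0004) (.leaf 0xb0a0002))) (.node 2494 (.leaf 0xd0b0002) (.node 2495 (.leaf 0xf0a0a0003) (.leaf 0xf0b0b0003)))) (.node 2499 (.node 2497 (.leaf 0xd0b0002) (.node 2498 (.leaf 0x502020804000802040105000b) (.leaf 0x10700020804000802040105000c))) (.node 2500 (.leaf 0x0) (.node 2501 (.leaf 0x0) (.leaf 0x3000207020007010008))))))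

def argWS_217 : Store := (.node 2513 (.node 2507 (.node 2504 (.node 2503 (.leaf 0x0) (.leaf 0xf0b0b0003)) (.node 2505 (.leaf 0x0) (.node 2506 (.leaf 0x9c80009c4) (.leaf 0xf0b0002)))) (.node 2510 (.node 2508 (.leaf 0x0) (.node 2509 (.leaf 0xb0a0f0003) (.leaf 0xa0001))) (.node 2511 (.leaf 0x904000502020007010009) (.node 2512 (.leaf 0x0) (.leaf 0x30601050002000703040103000d))))) (.node 2519 (.node 2516 (.node 2514 (.leaf 0xb0f0002) (.node 2515 (.leaf 0x80200000408010802040105000c) (.leaf 0x0))) (.node 2517 (.leaf 0xb0b0a0003) (.node 2518 (.leaf 0x0) (.leaf 0x9d500037a)))) (.node 2522 (.node 2520 (.leaf 0x80200070206000007) (.node 2521 (.leaf 0x0) (.leaf 0xe0a0002))) (.node 2523 (.leaf 0x0) (.node 2524 (.leaf 0x707000903000703040103000b) (.leaf 0x0))))))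

def argWS_218 : Store := (.node 2502 argWS_216 argWS_217)

def argWS_219 : Store := (.node 2479 argWS_215 argWS_218)

def argWS_220 : Store := (.node 2434 argWS_212 argWS_219)

def argWS_221 : Store := (.node 2344 argWS_205 argWS_220)

def argWS_222 : Store := (.node 2536 (.node 2530 (.node 2527 (.node 2526 (.leaf 0xe0a0a0003) (.leaf 0x40006020702010007)) (.node 2528 (.leaf 0x0) (.node 2529 (.leaf 0xb0b0a0003) (.leaf 0x0)))) (.node 2533 (.node 2531 (.leaf 0xf0b0002) (.node 2532 (.leaf 0x9070006030500040802040105000d) (.leaf 0x0))) (.node 2534 (.leaf 0xd0b0b0003) (.node 2535 (.leaf 0x606030500040802040105000c) (.leaf 0x0))))) (.node 2541 (.node 2538 (.node 2537 (.leaf 0x5000904020005) (.leaf 0x0)) (.node 2539 (.leaf 0xa0f0b0b0004) (.node 2540 (.leaf 0x0) (.leaf 0x9070006030500040802040105000d)))) (.node 2544 (.node 2542 (.leaf 0x0) (.node 2543 (.leaf 0xf0001) (.leaf 0x0))) (.node 2545 (.leaf 0x2020904020005) (.node 2546 (.leaf 0x0) (.leaf 0xb0b0a0003))))))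

def argWS_223 : Store := (.node 2558 (.node 2552 (.node 2549 (.node 2548 (.leaf 0x0) (.leaf 0x9f30009ef)) (.node 2550 (.leaf 0x6010207020902000703040103000d) (.node 2551 (.leaf 0x0) (.leaf 0xd0b0002)))) (.node 2555 (.node 2553 (.leaf 0x0) (.node 2554 (.leaf 0xa0001) (.leaf 0x0))) (.node 2556 (.leaf 0x0) (.node 2557 (.leaf 0xd0001) (.leaf 0xb0b0002))))) (.node 2564 (.node 2561 (.node 2559 (.leaf 0x987) (.node 2560 (.leaf 0xd0b0b0003) (.leaf 0x0))) (.node 2562 (.leaf 0xf0b0b0a0a0005) (.node 2563 (.leaf 0x0) (.leaf 0xb0b0002)))) (.node 2567 (.node 2565 (.leaf 0x90300090806000802040105000c) (.node 2566 (.leaf 0xa0f0b0b0004) (.leaf 0x0))) (.node 2568 (.leaf 0x0) (.node 2569 (.leaf 0xf0b0002) (.leaf 0x1090002))))))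

def argWS_224 : Store := (.node 2547 argWS_222 argWS_223)

def argWS_225 : Store := (.node 2581 (.node 2575 (.node 2572 (.node 2571 (.leaf 0x0) (.leaf 0x0)) (.node 2573 (.leaf 0x0) (.node 2574 (.leaf 0x7080002) (.leaf 0x0)))) (.node 2578 (.node 2576 (.leaf 0xb0b0a0003) (.node 2577 (.leaf 0xb0001) (.leaf 0xa0001))) (.node 2579 (.leaf 0xf0a0002) (.node 2580 (.leaf 0xa0f0002) (.leaf 0xf0b0a0a0004))))) (.node 2586 (.node 2583 (.node 2582 (.leaf 0xa0f0b0b0004) (.leaf 0xd0001)) (.node 2584 (.leaf 0xf0b0a0003) (.node 2585 (.leaf 0x306020702010006) (.leaf 0x20002070209020202000701000c)))) (.node 2589 (.node 2587 (.leaf 0x0) (.node 2588 (.leaf 0x0) (.leaf 0x7090805000703040103000a))) (.node 2590 (.leaf 0x0) (.node 2591 (.leaf 0x0) (.leaf 0xa1e000a1b))))))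

def argWS_226 : Store := (.node 2603 (.node 2597 (.node 2594 (.node 2593 (.leaf 0xd0b0002) (.leaf 0x0)) (.node 2595 (.leaf 0xd0b0b0003) (.node 2596 (.leaf 0x0) (.leaf 0xa0001)))) (.node 2600 (.node 2598 (.leaf 0x600000408010006) (.node 2599 (.leaf 0x0) (.leaf 0xf0b0b0a0a0005))) (.node 2601 (.leaf 0xb0b0002) (.node 2602 (.leaf 0xb0a0a0003) (.leaf 0x305000402020007010009))))) (.node 2609 (.node 2606 (.node 2604 (.leaf 0x0) (.node 2605 (.leaf 0xb0b0002) (.leaf 0x0))) (.node 2607 (.leaf 0x20002070206000007) (.node 2608 (.leaf 0x0) (.leaf 0x0)))) (.node 2612 (.node 2610 (.leaf 0xa3000094f) (.node 2611 (.leaf 0x5020206030005) (.leaf 0x0))) (.node 2613 (.leaf 0xf0a0002) (.node 2614 (.leaf 0x0) (.leaf 0x6010201020106060202000701000d))))))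

def argWS_227 : Store := (.node 2592 argWS_225 argWS_226)

def argWS_228 : Store := (.node 2570 argWS_224 argWS_227)

def argWS_229 : Store := (.node 2626 (.node 2620 (.node 2617 (.node 2616 (.leaf 0x0) (.leaf 0xf0b0a0003)) (.node 2618 (.leaf 0xa0f0b0003) (.node 2619 (.leaf 0x30401010703060202000701000c) (.leaf 0x0)))) (.node 2623 (.node 2621 (.leaf 0x0) (.node 2622 (.leaf 0xa3c0002da) (.leaf 0x10300000300000802040105000c))) (.node 2624 (.leaf 0x0) (.node 2625 (.leaf 0xf0b0b0003) (.leaf 0x0))))) (.node 2631 (.node 2628 (.node 2627 (.leaf 0x1020102090106000703040103000d) (.leaf 0x0)) (.node 2629 (.leaf 0xa0f0b0b0004) (.node 2630 (.leaf 0xd0001) (.leaf 0x20003010102000202000701000d)))) (.node 2634 (.node 2632 (.leaf 0x0) (.node 2633 (.leaf 0xf0b0b0003) (.leaf 0x7010900090005))) (.node 2635 (.leaf 0x0) (.node 2636 (.leaf 0x0) (.leaf 0xf0001))))))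

def argWS_230 : Store := (.node 2648 (.node 2642 (.node 2639 (.node 2638 (.leaf 0xa4c) (.leaf 0xb0b0a0003)) (.node 2640 (.leaf 0x0) (.node 2641 (.leaf 0x307070206000006) (.leaf 0x0)))) (.node 2645 (.node 2643 (.leaf 0xb0a0f0003) (.node 2644 (.leaf 0xf0a0a0003) (.leaf 0x5020005020202010202000701000d))) (.node 2646 (.leaf 0x0) (.node 2647 (.leaf 0x0) (.leaf 0xa0f0b0003))))) (.node 2654 (.node 2651 (.node 2649 (.leaf 0x70502000003010802040105000c) (.node 2650 (.leaf 0xe0001) (.leaf 0x7010408010202000701000a))) (.node 2652 (.leaf 0x0) (.node 2653 (.leaf 0x0) (.leaf 0xb0b0002)))) (.node 2657 (.node 2655 (.leaf 0x3000300000802040105000a) (.node 2656 (.leaf 0x20502010904020007) (.leaf 0x0))) (.node 2658 (.leaf 0x0) (.node 2659 (.leaf 0xa61) (.leaf 0x3000207020007010008))))))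

def argWS_231 : Store := (.node 2637 argWS_229 argWS_230)

def argWS_232 : Store := (.node 2671 (.node 2665 (.node 2662 (.node 2661 (.leaf 0x0) (.leaf 0xb0a0f0003)) (.node 2663 (.leaf 0x0) (.node 2664 (.leaf 0x0) (.leaf 0xf0b0b0a0004)))) (.node 2668 (.node 2666 (.leaf 0x500070306000703040103000b) (.node 2667 (.leaf 0x0) (.leaf 0xf0b0b0a0004))) (.node 2669 (.leaf 0x0) (.node 2670 (.leaf 0xb0a0a0003) (.leaf 0xa0f0002))))) (.node 2676 (.node 2673 (.node 2672 (.leaf 0x901090402000703040103000b) (.leaf 0x0)) (.node 2674 (.leaf 0x80009080600000703040103000c) (.node 2675 (.leaf 0x0) (.leaf 0xb0f0a0003)))) (.node 2679 (.node 2677 (.leaf 0x0) (.node 2678 (.leaf 0x0) (.leaf 0xa750004b9))) (.node 2680 (.leaf 0x3040400050005) (.node 2681 (.leaf 0x0) (.leaf 0xb0b0a0003))))))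

def argWS_233 : Store := (.node 2693 (.node 2687 (.node 2684 (.node 2683 (.leaf 0x0) (.leaf 0x40105020202010802040105000c)) (.node 2685 (.leaf 0x0) (.node 2686 (.leaf 0xe0a0002) (.leaf 0xb0f0002)))) (.node 2690 (.node 2688 (.leaf 0x800000202090000000703040103000e) (.node 2689 (.leaf 0x0) (.leaf 0x3040307000903000703040103000d))) (.node 2691 (.leaf 0x0) (.node 2692 (.leaf 0xe0a0002) (.leaf 0x0))))) (.node 2699 (.node 2696 (.node 2694 (.leaf 0xb0f0a0003) (.node 2695 (.leaf 0x10300090806000802040105000c) (.leaf 0x0))) (.node 2697 (.leaf 0x0) (.node 2698 (.leaf 0x20002090009000703040103000c) (.leaf 0x0)))) (.node 2702 (.node 2700 (.leaf 0xb0f0a0a0004) (.node 2701 (.leaf 0x0) (.leaf 0xf0b0b0003))) (.node 2703 (.leaf 0x10202050206040802040105000c) (.node 2704 (.leaf 0xb0b0a0a0004) (.leaf 0x0))))))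

def argWS_234 : Store := (.node 2682 argWS_232 argWS_233)

def argWS_235 : Store := (.node 2660 argWS_231 argWS_234)

def argWS_236 : Store := (.node 2615 argWS_228 argWS_235)

def argWS_237 : Store := (.node 2716 (.node 2710 (.node 2707 (.node 2706 (.leaf 0x0) (.leaf 0xa0f0002)) (.node 2708 (.leaf 0x20002) (.node 2709 (.leaf 0x0) (.leaf 0x0)))) (.node 2713 (.node 2711 (.leaf 0x0) (.node 2712 (.leaf 0x20502020901060202000701000c) (.leaf 0x0))) (.node 2714 (.leaf 0xd0b0b0003) (.node 2715 (.leaf 0xd0b0002) (.leaf 0x40003010908050202000701000c))))) (.node 2721 (.node 2718 (.node 2717 (.leaf 0x0) (.leaf 0x0)) (.node 2719 (.leaf 0xa9d) (.node 2720 (.leaf 0x30702010606000703040103000c) (.leaf 0x0)))) (.node 2724 (.node 2722 (.leaf 0xa0001) (.node 2723 (.leaf 0x0) (.leaf 0xa0a0002))) (.node 2725 (.leaf 0x0) (.node 2726 (.leaf 0x0) (.leaf 0xe0001))))))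

def argWS_238 : Store := (.node 2738 (.node 2732 (.node 2729 (.node 2728 (.leaf 0xf0b0b0003) (.leaf 0xb0a0002)) (.node 2730 (.leaf 0xb0a0002) (.node 2731 (.leaf 0xb0b0a0a0004) (.leaf 0xf0b0a0a0004)))) (.node 2735 (.node 2733 (.leaf 0xaab) (.node 2734 (.leaf 0xb0f0002) (.leaf 0x0))) (.node 2736 (.leaf 0xf0001) (.node 2737 (.leaf 0x0) (.leaf 0x0))))) (.node 2744 (.node 2741 (.node 2739 (.leaf 0xe0a0a0003) (.node 2740 (.leaf 0xb0b0a0003) (.leaf 0xb0a0a0003))) (.node 2742 (.leaf 0x1050207000902000701000a) (.node 2743 (.leaf 0x0) (.leaf 0x0)))) (.node 2747 (.node 2745 (.leaf 0x501060608020401050009) (.node 2746 (.leaf 0x0) (.leaf 0xa0f0002))) (.node 2748 (.leaf 0xd0001) (.node 2749 (.leaf 0x8000003030604000703040103000d) (.leaf 0x0))))))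

def argWS_239 : Store := (.node 2727 argWS_237 argWS_238)

def argWS_240 : Store := (.node 2761 (.node 2755 (.node 2752 (.node 2751 (.leaf 0x0) (.leaf 0xab4000abe)) (.node 2753 (.leaf 0x400050206040202000701000c) (.node 2754 (.leaf 0x0) (.leaf 0xa0a0002)))) (.node 2758 (.node 2756 (.leaf 0xb0a0a0003) (.node 2757 (.leaf 0x502010207030802040105000b) (.leaf 0x0))) (.node 2759 (.leaf 0xf0b0a0003) (.node 2760 (.leaf 0x0) (.leaf 0xf0b0a0003))))) (.node 2766 (.node 2763 (.node 2762 (.leaf 0x104090806000202000701000b) (.leaf 0x0)) (.node 2764 (.leaf 0x90700000300000802040105000c) (.node 2765 (.leaf 0xb0b0a0a0004) (.leaf 0xa0001)))) (.node 2769 (.node 2767 (.leaf 0xf0b0a0a0004) (.node 2768 (.leaf 0x0) (.leaf 0x0))) (.node 2770 (.leaf 0xb0b0a0a0004) (.node 2771 (.leaf 0x10001) (.leaf 0x0))))))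

def argWS_241 : Store := (.node 2783 (.node 2777 (.node 2774 (.node 2773 (.leaf 0x0) (.leaf 0x0)) (.node 2775 (.leaf 0x4040002) (.node 2776 (.leaf 0x0) (.leaf 0xa0a0002)))) (.node 2780 (.node 2778 (.leaf 0xf0b0a0003) (.node 2779 (.leaf 0x60103080004) (.leaf 0x0))) (.node 2781 (.leaf 0x0) (.node 2782 (.leaf 0x90300020106060007) (.leaf 0x0))))) (.node 2789 (.node 2786 (.node 2784 (.leaf 0x0) (.node 2785 (.leaf 0xadf000adc) (.leaf 0xe0a0a0003))) (.node 2787 (.leaf 0x0) (.node 2788 (.leaf 0xf0b0002) (.leaf 0x0)))) (.node 2792 (.node 2790 (.leaf 0x0) (.node 2791 (.leaf 0xb0001) (.leaf 0xf0a0a0003))) (.node 2793 (.leaf 0xb0f0002) (.node 2794 (.leaf 0xf0b0a0a0004) (.leaf 0xd0001))))))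

def argWS_242 : Store := (.node 2772 argWS_240 argWS_241)

def argWS_243 : Store := (.node 2750 argWS_239 argWS_242)

def argWS_244 : Store := (.node 2806 (.node 2800 (.node 2797 (.node 2796 (.leaf 0xb0001) (.leaf 0xb0a0a0003)) (.node 2798 (.leaf 0xe0a0002) (.node 2799 (.leaf 0xb0a0002) (.leaf 0xd0b0002)))) (.node 2803 (.node 2801 (.leaf 0xb0001) (.node 2802 (.leaf 0x902000003010202000701000b) (.leaf 0x0))) (.node 2804 (.leaf 0x30901090005) (.node 2805 (.leaf 0x0) (.leaf 0x0))))) (.node 2811 (.node 2808 (.node 2807 (.leaf 0xaf5) (.leaf 0xb0f0a0a0004)) (.node 2809 (.leaf 0x0) (.node 2810 (.leaf 0x0) (.leaf 0x10202070206000202000701000c)))) (.node 2814 (.node 2812 (.leaf 0x0) (.node 2813 (.leaf 0x10202010703060202000701000c) (.leaf 0x0))) (.node 2815 (.leaf 0x90300030306040202000701000c) (.node 2816 (.leaf 0x0) (.leaf 0xa0f0b0003))))))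

def argWS_245 : Store := (.node 2828 (.node 2822 (.node 2819 (.node 2818 (.leaf 0xf0b0b0a0a0005) (.leaf 0xb0f0a0a0004)) (.node 2820 (.leaf 0xa0f0002) (.node 2821 (.leaf 0xf0b0b0a0004) (.leaf 0x9030002000003010202000701000d)))) (.node 2825 (.node 2823 (.leaf 0x0) (.node 2824 (.leaf 0x303010102000202000701000c) (.leaf 0x0))) (.node 2826 (.leaf 0x0) (.node 2827 (.leaf 0xb09000390) (.leaf 0x902060008020401050009))))) (.node 2834 (.node 2831 (.node 2829 (.leaf 0x0) (.node 2830 (.leaf 0xb0b0002) (.leaf 0x0))) (.node 2832 (.leaf 0xd0b0002) (.node 2833 (.leaf 0x0) (.leaf 0xf0b0002)))) (.node 2837 (.node 2835 (.leaf 0x0) (.node 2836 (.leaf 0x901020106060802040105000b) (.leaf 0x0))) (.node 2838 (.leaf 0x6050102000003010802040105000d) (.node 2839 (.leaf 0x0) (.leaf 0x200020106060202000701000c))))))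

def argWS_246 : Store := (.node 2817 argWS_244 argWS_245)

def argWS_247 : Store := (.node 2851 (.node 2845 (.node 2842 (.node 2841 (.leaf 0x0) (.leaf 0x0)) (.node 2843 (.leaf 0xa0f0b0003) (.node 2844 (.leaf 0xb1a000b19) (.leaf 0xe0d0002)))) (.node 2848 (.node 2846 (.leaf 0x0) (.node 2847 (.leaf 0xf0a0a0003) (.leaf 0xa0f0b0b0004))) (.node 2849 (.leaf 0x0) (.node 2850 (.leaf 0xf0b0b0003) (.leaf 0x0))))) (.node 2857 (.node 2854 (.node 2852 (.leaf 0xa0f0002) (.node 2853 (.leaf 0xb23) (.leaf 0xd0b0002))) (.node 2855 (.leaf 0x0) (.node 2856 (.leaf 0x204090806000802040105000b) (.leaf 0x0)))) (.node 2860 (.node 2858 (.leaf 0xe0a0a0003) (.node 2859 (.leaf 0x7000908050802040105000a) (.leaf 0x0))) (.node 2861 (.leaf 0xb0f0002) (.node 2862 (.leaf 0xe0a0002) (.leaf 0x7090206020802040105000a))))))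

def argWS_248 : Store := (.node 2874 (.node 2868 (.node 2865 (.node 2864 (.leaf 0x0) (.leaf 0x0)) (.node 2866 (.leaf 0x0) (.node 2867 (.leaf 0xb0b0a0a0004) (.leaf 0x30001)))) (.node 2871 (.node 2869 (.leaf 0x0) (.node 2870 (.leaf 0x0) (.leaf 0x0))) (.node 2872 (.leaf 0x4040002) (.node 2873 (.leaf 0x0) (.leaf 0x500020106060202000701000b))))) (.node 2880 (.node 2877 (.node 2875 (.leaf 0xe0a0a0003) (.node 2876 (.leaf 0x903050206040006) (.leaf 0x0))) (.node 2878 (.leaf 0xb0a0a0003) (.node 2879 (.leaf 0x0) (.leaf 0xb3e)))) (.node 2883 (.node 2881 (.leaf 0xb0b0a0a0004) (.node 2882 (.leaf 0x0) (.leaf 0x0))) (.node 2884 (.leaf 0xa0001) (.node 2885 (.leaf 0xf0b0002) (.leaf 0xd0b0b0003))))))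

def argWS_249 : Store := (.node 2863 argWS_247 argWS_248)

def argWS_250 : Store := (.node 2840 argWS_246 argWS_249)

def argWS_251 : Store := (.node 2795 argWS_243 argWS_250)

def argWS_252 : Store := (.node 2705 argWS_236 argWS_251)

def argWS_253 : Store := (.node 2525 argWS_221 argWS_252)

def argWS_254 : Store := (.node 2164 argWS_190 argWS_253)

def argWS_255 : Store := (.node 1443 argWS_127 argWS_254)

def argWS_256 : Store := (.node 2897 (.node 2891 (.node 2888 (.node 2887 (.leaf 0xa0f0b0003) (.leaf 0x700020804000802040105000b)) (.node 2889 (.leaf 0x0) (.node 2890 (.leaf 0x0) (.leaf 0x205010102000202000701000b)))) (.node 2894 (.node 2892 (.leaf 0x0) (.node 2893 (.leaf 0xf0b0002) (.leaf 0x0))) (.node 2895 (.leaf 0xb4d000b49) (.node 2896 (.leaf 0x900040005000703040103000b) (.leaf 0x0))))) (.node 2902 (.node 2899 (.node 2898 (.leaf 0xa0f0b0b0004) (.leaf 0x0)) (.node 2900 (.leaf 0x200000900090006) (.node 2901 (.leaf 0x0) (.leaf 0xf0b0b0a0004)))) (.node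 2905 (.node 2903 (.leaf 0x20409080600000703040103000c) (.node 2904 (.leaf 0xf0a0002) (.leaf 0xd0b0b0003))) (.node 2906 (.leaf 0xb58) (.node 2907 (.leaf 0x7010102000003010202000701000d) (.leaf 0x0))))))

def argWS_257 : Store := (.node 2919 (.node 2913 (.node 2910 (.node 2909 (.leaf 0xf0001) (.leaf 0x0)) (.node 2911 (.leaf 0xd0b0b0003) (.node 2912 (.leaf 0x0) (.leaf 0x0)))) (.node 2916 (.node 2914 (.leaf 0xb0f0002) (.node 2915 (.leaf 0x9030007030401030009) (.leaf 0x0))) (.node 2917 (.leaf 0xa0f0002) (.node 2918 (.leaf 0x0) (.leaf 0x20000030306040202000701000d))))) (.node 2925 (.node 2922 (.node 2920 (.leaf 0x0) (.node 2921 (.leaf 0x0) (.leaf 0xb68))) (.node 2923 (.leaf 0x70102000003010802040105000c) (.node 2924 (.leaf 0x0) (.leaf 0x0)))) (.node 2928 (.node 2926 (.leaf 0x5000300000202000701000a) (.node 2927 (.leaf 0x0) (.leaf 0xe0a0a0003))) (.node 2929 (.leaf 0xb0001) (.node 2930 (.leaf 0xa0f0b0b0004) (.leaf 0xf0b0a0a0004))))))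

def argWS_258 : Store := (.node 2908 argWS_256 argWS_257)

def argWS_259 : Store := (.node 2942 (.node 2936 (.node 2933 (.node 2932 (.leaf 0xd0001) (.leaf 0xb0a0002)) (.node 2934 (.leaf 0xb0a0a0003) (.node 2935 (.leaf 0x5020202010202000701000c) (.leaf 0x0)))) (.node 2939 (.node 2937 (.leaf 0xa0f0002) (.node 2938 (.leaf 0x0) (.leaf 0x305000402020007010009))) (.node 2940 (.leaf 0x0) (.node 2941 (.leaf 0xf0b0b0a0004) (.leaf 0x0))))) (.node 2947 (.node 2944 (.node 2943 (.leaf 0x95b000b7d) (.leaf 0x701050206040802040105000b)) (.node 2945 (.leaf 0x0) (.node 2946 (.leaf 0xa0001) (.leaf 0x0)))) (.node 2950 (.node 2948 (.leaf 0x2000006030500040202000701000d) (.node 2949 (.leaf 0x0) (.leaf 0xd0001))) (.node 2951 (.leaf 0x701010904020202000701000b) (.node 2952 (.leaf 0x60200070009030802040105000c) (.leaf 0xb0b0a0a0004))))))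

def argWS_260 : Store := (.node 2964 (.node 2958 (.node 2955 (.node 2954 (.leaf 0x1070002020900000008) (.leaf 0x0)) (.node 2956 (.leaf 0xb0f0002) (.node 2957 (.leaf 0x600070306000703040103000b) (.leaf 0x0)))) (.node 2961 (.node 2959 (.leaf 0xb0f0a0a0004) (.node 2960 (.leaf 0x0) (.leaf 0xf0a0002))) (.node 2962 (.leaf 0x103050206040802040105000b) (.node 2963 (.leaf 0x0) (.leaf 0x0))))) (.node 2970 (.node 2967 (.node 2965 (.leaf 0x0) (.node 2966 (.leaf 0xb0b0a0a0004) (.leaf 0x20001))) (.node 2968 (.leaf 0x0) (.node 2969 (.leaf 0x0) (.leaf 0x0)))) (.node 2973 (.node 2971 (.leaf 0x4040002) (.node 2972 (.leaf 0x0) (.leaf 0xb0001))) (.node 2974 (.leaf 0xe0a0002) (.node 2975 (.leaf 0xe0d0002) (.leaf 0xf0b0a0a0004))))))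

def argWS_261 : Store := (.node 2953 argWS_259 argWS_260)

def argWS_262 : Store := (.node 2931 argWS_258 argWS_261)

def argWS_263 : Store := (.node 2987 (.node 2981 (.node 2978 (.node 2977 (.leaf 0x513) (.leaf 0x105020604000703040103000b)) (.node 2979 (.leaf 0x0) (.node 2980 (.leaf 0xa0001) (.leaf 0x0)))) (.node 2984 (.node 2982 (.leaf 0xb0b0002) (.node 2983 (.leaf 0x0) (.leaf 0x0))) (.node 2985 (.leaf 0x60506020702010007) (.node 2986 (.leaf 0xb0f0002) (.leaf 0x901010908050202000701000b))))) (.node 2992 (.node 2989 (.node 2988 (.leaf 0x0) (.leaf 0x0)) (.node 2990 (.leaf 0xbac) (.node 2991 (.leaf 0xe0d0002) (.leaf 0x0)))) (.node 2995 (.node 2993 (.leaf 0xf0001) (.node 2994 (.leaf 0x0) (.leaf 0x0))) (.node 2996 (.leaf 0xb0a0a0003) (.node 2997 (.leaf 0xd0b0b0003) (.leaf 0x6000007000902000701000a))))))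

def argWS_264 : Store := (.node 3009 (.node 3003 (.node 3000 (.node 2999 (.leaf 0x0) (.leaf 0xb0a0f0003)) (.node 3001 (.leaf 0x0) (.node 3002 (.leaf 0x800090000090006) (.leaf 0x0)))) (.node 3006 (.node 3004 (.leaf 0xe0001) (.node 3005 (.leaf 0x0) (.leaf 0xbbc000bb8))) (.node 3007 (.leaf 0xf0a0a0003) (.node 3008 (.leaf 0x0) (.leaf 0xf0b0b0003))))) (.node 3015 (.node 3012 (.node 3010 (.leaf 0x0) (.node 3011 (.leaf 0x0) (.leaf 0xb0001))) (.node 3013 (.leaf 0x9050202020703040103000a) (.node 3014 (.leaf 0x20600020804000007) (.leaf 0x0)))) (.node 3018 (.node 3016 (.leaf 0xd0b0b0003) (.node 3017 (.leaf 0x0) (.leaf 0xe0a0002))) (.node 3019 (.leaf 0x606010901090202000701000b) (.node 3020 (.leaf 0x0) (.leaf 0xa0f0002))))))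

def argWS_265 : Store := (.node 2998 argWS_263 argWS_264)

def argWS_266 : Store := (.node 3032 (.node 3026 (.node 3023 (.node 3022 (.leaf 0x0) (.leaf 0xbcd)) (.node 3024 (.leaf 0xf0b0002) (.node 3025 (.leaf 0x0) (.leaf 0x0)))) (.node 3029 (.node 3027 (.leaf 0xf0b0b0a0004) (.node 3028 (.leaf 0x60201090805000703040103000c) (.leaf 0x0))) (.node 3030 (.leaf 0x0) (.node 3031 (.leaf 0xbd5) (.leaf 0x307050206040802040105000b))))) (.node 3037 (.node 3034 (.node 3033 (.leaf 0x0) (.leaf 0xa0f0b0003)) (.node 3035 (.leaf 0xb0001) (.node 3036 (.leaf 0xf0001) (.leaf 0xa0f0b0003)))) (.node 3040 (.node 3038 (.leaf 0xa0001) (.node 3039 (.leaf 0xf0b0b0a0a0005) (.leaf 0x70105020604000703040103000c))) (.node 3041 (.leaf 0x0) (.node 3042 (.leaf 0x0) (.leaf 0xe0a0a0003))))))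

def argWS_267 : Store := (.node 3054 (.node 3048 (.node 3045 (.node 3044 (.leaf 0x40306010500020007) (.leaf 0x0)) (.node 3046 (.leaf 0x0) (.node 3047 (.leaf 0x5000007020600000703040103000d) (.leaf 0x0)))) (.node 3051 (.node 3049 (.leaf 0x0) (.node 3050 (.leaf 0xbe8000be5) (.leaf 0x30401070009030802040105000c))) (.node 3052 (.leaf 0x0) (.node 3053 (.leaf 0xb0a0002) (.leaf 0x0))))) (.node 3060 (.node 3057 (.node 3055 (.leaf 0xd0b0b0003) (.node 3056 (.leaf 0x0) (.leaf 0x0))) (.node 3058 (.leaf 0xf0b0b0a0a0005) (.node 3059 (.leaf 0xb0001) (.leaf 0x0)))) (.node 3063 (.node 3061 (.leaf 0xbf3) (.node 3062 (.leaf 0x605020901060802040105000b) (.leaf 0x0))) (.node 3064 (.leaf 0xd0001) (.node 3065 (.leaf 0x0) (.leaf 0x503070009030007))))))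

def argWS_268 : Store := (.node 3043 argWS_266 argWS_267)

def argWS_269 : Store := (.node 3021 argWS_265 argWS_268)

def argWS_270 : Store := (.node 2976 argWS_262 argWS_269)

def argWS_271 : Store := (.node 3077 (.node 3071 (.node 3068 (.node 3067 (.leaf 0x0) (.leaf 0xa0f0002)) (.node 3069 (.leaf 0xb0f0002) (.node 3070 (.leaf 0xb0b0a0003) (.leaf 0xb0f0a0a0004)))) (.node 3074 (.node 3072 (.leaf 0x2090102020900000008) (.node 3073 (.leaf 0x0) (.leaf 0x20000090000090802040105000c))) (.node 3075 (.leaf 0x0) (.node 3076 (.leaf 0x60501060207020703040103000c) (.leaf 0x0))))) (.node 3082 (.node 3079 (.node 3078 (.leaf 0x502040807030401030009) (.leaf 0x0)) (.node 3080 (.leaf 0x0) (.node 3081 (.leaf 0xd0b0b0003) (.leaf 0xc08000c07)))) (.node 3085 (.node 3083 (.leaf 0x7050007030401030008) (.node 3084 (.leaf 0x0) (.leaf 0xa0f0b0003))) (.node 3086 (.leaf 0x0) (.node 3087 (.leaf 0xf0a0002) (.leaf 0xf0b0a0a0004))))))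

def argWS_272 : Store := (.node 3099 (.node 3093 (.node 3090 (.node 3089 (.leaf 0x0) (.leaf 0x0)) (.node 3091 (.leaf 0xd0b0b0003) (.node 3092 (.leaf 0x5030400050202000701000a) (.leaf 0x0)))) (.node 3096 (.node 3094 (.leaf 0xb0f0a0a0004) (.node 3095 (.leaf 0xb0f0002) (.leaf 0x4030901090802040105000a))) (.node 3097 (.leaf 0x70200000300000007) (.node 3098 (.leaf 0x0) (.leaf 0xa0001))))) (.node 3105 (.node 3102 (.node 3100 (.leaf 0x0) (.node 3101 (.leaf 0x2010307020600000703040103000d) (.leaf 0x0))) (.node 3103 (.leaf 0xe0001) (.node 3104 (.leaf 0x0) (.leaf 0xbe1000c1f)))) (.node 3108 (.node 3106 (.leaf 0xf0b0a0a0004) (.node 3107 (.leaf 0x0) (.leaf 0xa0f0b0003))) (.node 3109 (.leaf 0x0) (.node 3110 (.leaf 0x0) (.leaf 0x9000901090005))))))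

def argWS_273 : Store := (.node 3088 argWS_271 argWS_272)

def argWS_274 : Store := (.node 3122 (.node 3116 (.node 3113 (.node 3112 (.leaf 0x0) (.leaf 0xb0001)) (.node 3114 (.leaf 0x0) (.node 3115 (.leaf 0xb0b0002) (.leaf 0xa0001)))) (.node 3119 (.node 3117 (.leaf 0xc2b000c2a) (.node 3118 (.leaf 0x20703000703040103000a) (.leaf 0x0))) (.node 3120 (.leaf 0xa0f0b0b0004) (.node 3121 (.leaf 0x0) (.leaf 0x0))))) (.node 3127 (.node 3124 (.node 3123 (.leaf 0x3010901090202000701000a) (.leaf 0x0)) (.node 3125 (.leaf 0x0) (.node 3126 (.leaf 0xa0f0b0b0004) (.leaf 0x102070206000006)))) (.node 3130 (.node 3128 (.leaf 0x0) (.node 3129 (.leaf 0x0) (.leaf 0xc38))) (.node 3131 (.leaf 0xa0001) (.node 3132 (.leaf 0x0) (.leaf 0xd0b0b0003))))))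

def argWS_275 : Store := (.node 3144 (.node 3138 (.node 3135 (.node 3134 (.leaf 0x0) (.leaf 0x0)) (.node 3136 (.leaf 0x60501010703060202000701000c) (.node 3137 (.leaf 0x0) (.leaf 0xb0a0002)))) (.node 3141 (.node 3139 (.leaf 0x0) (.node 3140 (.leaf 0x304030002080400000703040103000e) (.leaf 0x0))) (.node 3142 (.leaf 0xf0b0002) (.node 3143 (.leaf 0x0) (.leaf 0xc4600081c))))) (.node 3150 (.node 3147 (.node 3145 (.leaf 0x2000006010500020008) (.node 3146 (.leaf 0x0) (.leaf 0xe0d0002))) (.node 3148 (.leaf 0x0) (.node 3149 (.leaf 0x30908050004) (.leaf 0x0)))) (.node 3153 (.node 3151 (.leaf 0xa0f0b0003) (.node 3152 (.leaf 0xf0b0b0a0004) (.leaf 0x8020005020202010202000701000d))) (.node 3154 (.leaf 0x0) (.node 3155 (.leaf 0x0) (.leaf 0xb0b0002))))))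

def argWS_276 : Store := (.node 3133 argWS_274 argWS_275)

def argWS_277 : Store := (.node 3111 argWS_273 argWS_276)

def argWS_278 : Store := (.node 3167 (.node 3161 (.node 3158 (.node 3157 (.leaf 0x1040006010500020802040105000d) (.leaf 0x0)) (.node 3159 (.leaf 0x0) (.node 3160 (.leaf 0xe0a0a0003) (.leaf 0xc57000c56)))) (.node 3164 (.node 3162 (.leaf 0x7020901060802040105000b) (.node 3163 (.leaf 0x0) (.leaf 0xb0a0f0003))) (.node 3165 (.leaf 0x0) (.node 3166 (.leaf 0xf0b0b0a0a0005) (.leaf 0x0))))) (.node 3172 (.node 3169 (.node 3168 (.leaf 0x0) (.leaf 0x60301090000090802040105000c)) (.node 3170 (.leaf 0x0) (.node 3171 (.leaf 0xe0a0a0003) (.leaf 0x0)))) (.node 3175 (.node 3173 (.leaf 0x5010703060202000701000a) (.node 3174 (.leaf 0x0) (.leaf 0x0))) (.node 3176 (.leaf 0xc66) (.node 3177 (.leaf 0xb0f0a0a0004) (.leaf 0xc52000b61))))))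

def argWS_279 : Store := (.node 3189 (.node 3183 (.node 3180 (.node 3179 (.leaf 0xa0f0b0003) (.leaf 0x0)) (.node 3181 (.leaf 0x705020202010202000701000c) (.node 3182 (.leaf 0x0) (.leaf 0xf0a0a0003)))) (.node 3186 (.node 3184 (.leaf 0xe0a0a0003) (.node 3185 (.leaf 0xb0b0002) (.leaf 0xa0f0002))) (.node 3187 (.leaf 0xc71000c70) (.node 3188 (.leaf 0x1070904020005) (.leaf 0x0))))) (.node 3195 (.node 3192 (.node 3190 (.leaf 0xe0d0002) (.node 3191 (.leaf 0x0) (.leaf 0x804000007030401030009))) (.node 3193 (.leaf 0x0) (.node 3194 (.leaf 0xf0a0002) (.leaf 0xb0a0f0003)))) (.node 3198 (.node 3196 (.leaf 0xe0d0002) (.node 3197 (.leaf 0x5060207020703040103000a) (.leaf 0x0))) (.node 3199 (.leaf 0xb0f0a0a0004) (.node 3200 (.leaf 0x0) (.leaf 0xc7f000345))))))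

def argWS_280 : Store := (.node 3178 argWS_278 argWS_279)

def argWS_281 : Store := (.node 3212 (.node 3206 (.node 3203 (.node 3202 (.leaf 0x0) (.leaf 0x902070308020401050009)) (.node 3204 (.leaf 0x0) (.node 3205 (.leaf 0xf0a0a0003) (.leaf 0x2000904020202000701000a)))) (.node 3209 (.node 3207 (.leaf 0x0) (.node 3208 (.leaf 0xb0f0002) (.leaf 0x0))) (.node 3210 (.leaf 0x2050206040005) (.node 3211 (.leaf 0x0) (.leaf 0x0))))) (.node 3217 (.node 3214 (.node 3213 (.leaf 0xc8b000c88) (.leaf 0x0)) (.node 3215 (.leaf 0xd0b0b0003) (.node 3216 (.leaf 0x0) (.leaf 0xb0f0a0a0004)))) (.node 3220 (.node 3218 (.leaf 0x0) (.node 3219 (.leaf 0x0) (.leaf 0x10105020202010802040105000c))) (.node 3221 (.leaf 0x0) (.node 3222 (.leaf 0xb0f0002) (.leaf 0x0))))))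

def argWS_282 : Store := (.node 3234 (.node 3228 (.node 3225 (.node 3224 (.leaf 0xc96) (.leaf 0x20000020804000202000701000d)) (.node 3226 (.leaf 0x0) (.node 3227 (.leaf 0xf0b0002) (.leaf 0x0)))) (.node 3231 (.node 3229 (.leaf 0x605000300000202000701000b) (.node 3230 (.leaf 0x0) (.leaf 0x90503040005000703040103000c))) (.node 3232 (.leaf 0x0) (.node 3233 (.leaf 0xa0001) (.leaf 0x0))))) (.node 3240 (.node 3237 (.node 3235 (.leaf 0xf0b0b0a0a0005) (.node 3236 (.leaf 0xca2) (.leaf 0x90300020106060202000701000c))) (.node 3238 (.leaf 0x0) (.node 3239 (.leaf 0xd0b0002) (.leaf 0xa0f0b0b0004)))) (.node 3243 (.node 3241 (.leaf 0xb0a0f0003) (.node 3242 (.leaf 0xf0b0a0a0004) (.leaf 0xca9000ca8))) (.node 3244 (.leaf 0x20901020603000703040103000c) (.node 3245 (.leaf 0x0) (.leaf 0xf0001))))))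

def argWS_283 : Store := (.node 3223 argWS_281 argWS_282)

def argWS_284 : Store := (.node 3201 argWS_280 argWS_283)

def argWS_285 : Store := (.node 3156 argWS_277 argWS_284)

def argWS_286 : Store := (.node 3066 argWS_270 argWS_285)

def argWS_287 : Store := (.node 3257 (.node 3251 (.node 3248 (.node 3247 (.leaf 0x0) (.leaf 0xd0001)) (.node 3249 (.leaf 0x0) (.node 3250 (.leaf 0x0) (.leaf 0xe0a0002)))) (.node 3254 (.node 3252 (.leaf 0xa5c) (.node 3253 (.leaf 0xf0a0a0003) (.leaf 0x0))) (.node 3255 (.leaf 0xb0b0a0a0004) (.node 3256 (.leaf 0x0) (.leaf 0x0))))) (.node 3262 (.node 3259 (.node 3258 (.leaf 0x0) (.leaf 0x0)) (.node 3260 (.leaf 0xb0b0a0a0004) (.node 3261 (.leaf 0x50002) (.leaf 0x0)))) (.node 3265 (.node 3263 (.leaf 0x0) (.node 3264 (.leaf 0x0) (.leaf 0x4040002))) (.node 3266 (.leaf 0x0) (.node 3267 (.leaf 0x301010200000703040103000d) (.leaf 0xa0a0002))))))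

def argWS_288 : Store := (.node 3279 (.node 3273 (.node 3270 (.node 3269 (.leaf 0xd0001) (.leaf 0x40205090806000202000701000c)) (.node 3271 (.leaf 0x0) (.node 3272 (.leaf 0xe0a0a0003) (.leaf 0x0)))) (.node 3276 (.node 3274 (.leaf 0xcc8) (.node 3275 (.leaf 0xb0b0002) (.leaf 0x0))) (.node 3277 (.leaf 0x208060008020401050009) (.node 3278 (.leaf 0x0) (.leaf 0xb0a0a0003))))) (.node 3285 (.node 3282 (.node 3280 (.leaf 0xb0b0a0a0004) (.node 3281 (.leaf 0xb0f0002) (.leaf 0xf0b0a0003))) (.node 3283 (.leaf 0x700090206020802040105000c) (.node 3284 (.leaf 0x0) (.leaf 0x0)))) (.node 3288 (.node 3286 (.leaf 0x799000cd4) (.node 3287 (.leaf 0x202000003010802040105000c) (.leaf 0x0))) (.node 3289 (.leaf 0xb0b0002) (.node 3290 (.leaf 0x0) (.leaf 0xb0b0002))))))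

def argWS_289 : Store := (.node 3268 argWS_287 argWS_288)

def argWS_290 : Store := (.node 3302 (.node 3296 (.node 3293 (.node 3292 (.leaf 0x0) (.leaf 0xb0f0a0a0004)) (.node 3294 (.leaf 0xf0a0002) (.node 3295 (.leaf 0xa0f0b0003) (.leaf 0x3050206040006)))) (.node 3299 (.node 3297 (.leaf 0x0) (.node 3298 (.leaf 0x0) (.leaf 0xce1))) (.node 3300 (.leaf 0xf0001) (.node 3301 (.leaf 0x0) (.leaf 0xa0f0b0b0004))))) (.node 3307 (.node 3304 (.node 3303 (.leaf 0x0) (.leaf 0x0)) (.node 3305 (.leaf 0xe0a0002) (.node 3306 (.leaf 0xf0b0b0a0004) (.leaf 0xf0001)))) (.node 3310 (.node 3308 (.leaf 0x20502020106060202000701000c) (.node 3309 (.leaf 0x0) (.leaf 0x5030506020702010802040105000d))) (.node 3311 (.leaf 0x0) (.node 3312 (.leaf 0x0) (.leaf 0x3040307000903000703040103000d))))))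

def argWS_291 : Store := (.node 3324 (.node 3318 (.node 3315 (.node 3314 (.leaf 0x0) (.leaf 0xd0b0002)) (.node 3316 (.leaf 0x0) (.node 3317 (.leaf 0xcf3000cef) (.leaf 0xa0a0002)))) (.node 3321 (.node 3319 (.leaf 0x0) (.node 3320 (.leaf 0xb0b0a0a0004) (.leaf 0x0))) (.node 3322 (.leaf 0xe0a0a0003) (.node 3323 (.leaf 0x20002010606000703040103000c) (.leaf 0x0))))) (.node 3330 (.node 3327 (.node 3325 (.leaf 0x209010900090202000701000b) (.node 3326 (.leaf 0x0) (.leaf 0x0))) (.node 3328 (.leaf 0xf0a0002) (.node 3329 (.leaf 0xb0f0002) (.leaf 0xb0f0002)))) (.node 3333 (.node 3331 (.leaf 0x90406010500020202000701000c) (.node 3332 (.leaf 0x0) (.leaf 0xa0f0b0003))) (.node 3334 (.leaf 0x0) (.node 3335 (.leaf 0x0) (.leaf 0xb0b0a0a0004))))))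

def argWS_292 : Store := (.node 3313 argWS_290 argWS_291)

def argWS_293 : Store := (.node 3291 argWS_289 argWS_292)

def argWS_294 : Store := (.node 3347 (.node 3341 (.node 3338 (.node 3337 (.leaf 0xb0a0f0003) (.leaf 0xd0001)) (.node 3339 (.leaf 0x7000009020602000703040103000d) (.node 3340 (.leaf 0x0) (.leaf 0xf0b0b0003)))) (.node 3344 (.node 3342 (.leaf 0x0) (.node 3343 (.leaf 0xb0a0f0003) (.leaf 0xf0b0a0003))) (.node 3345 (.leaf 0xb0b0002) (.node 3346 (.leaf 0xf0b0002) (.leaf 0xb0001))))) (.node 3352 (.node 3349 (.node 3348 (.leaf 0x50201040005000703040103000c) (.leaf 0x0)) (.node 3350 (.leaf 0x0) (.node 3351 (.leaf 0xd15) (.leaf 0x6020107020902000703040103000d)))) (.node 3355 (.node 3353 (.leaf 0x0) (.node 3354 (.leaf 0xa0a0002) (.leaf 0x0))) (.node 3356 (.leaf 0xd0b0002) (.node 3357 (.leaf 0xb0001) (.leaf 0x701090000090202000701000b))))))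

def argWS_295 : Store := (.node 3369 (.node 3363 (.node 3360 (.node 3359 (.leaf 0x0) (.leaf 0x0)) (.node 3361 (.leaf 0xd1f) (.node 3362 (.leaf 0x805000003030604000703040103000e) (.leaf 0x0)))) (.node 3366 (.node 3364 (.leaf 0xb0b0a0003) (.node 3365 (.leaf 0x0) (.leaf 0xb0001))) (.node 3367 (.leaf 0xd0b0002) (.node 3368 (.leaf 0xa0f0b0003) (.leaf 0xc34))))) (.node 3375 (.node 3372 (.node 3370 (.leaf 0xe0d0002) (.node 3371 (.leaf 0x0) (.leaf 0xf0b0b0003))) (.node 3373 (.leaf 0xf0b0b0a0a0005) (.node 3374 (.leaf 0x6020804000202000701000a) (.leaf 0x0)))) (.node 3378 (.node 3376 (.leaf 0x0) (.node 3377 (.leaf 0xd2f000aea) (.leaf 0xd0b0002))) (.node 3379 (.leaf 0x0) (.node 3380 (.leaf 0x602090806000202000701000b) (.leaf 0x0))))))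

def argWS_296 : Store := (.node 3358 argWS_294 argWS_295)

def argWS_297 : Store := (.node 3392 (.node 3386 (.node 3383 (.node 3382 (.leaf 0xb0f0002) (.leaf 0xb0a0a0003)) (.node 3384 (.leaf 0xbdd) (.node 3385 (.leaf 0xf0a0002) (.leaf 0x0)))) (.node 3389 (.node 3387 (.leaf 0xb0001) (.node 3388 (.leaf 0x207020901060202000701000b) (.leaf 0x0))) (.node 3390 (.leaf 0x0) (.node 3391 (.leaf 0x2fb000d3d) (.leaf 0x4070209020802040105000b))))) (.node 3397 (.node 3394 (.node 3393 (.leaf 0x0) (.leaf 0x0)) (.node 3395 (.leaf 0x0) (.node 3396 (.leaf 0x0) (.leaf 0x0)))) (.node 3400 (.node 3398 (.leaf 0x80200000408010802040105000c) (.node 3399 (.leaf 0x4040002) (.leaf 0x0))) (.node 3401 (.leaf 0x0) (.node 3402 (.leaf 0xb0001) (.leaf 0x0))))))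

def argWS_298 : Store := (.node 3414 (.node 3408 (.node 3405 (.node 3404 (.leaf 0x202000003010802040105000c) (.leaf 0x0)) (.node 3406 (.leaf 0x0) (.node 3407 (.leaf 0xf0b0a0003) (.leaf 0x0)))) (.node 3411 (.node 3409 (.leaf 0x600070306000703040103000b) (.node 3410 (.leaf 0x0) (.leaf 0x0))) (.node 3412 (.leaf 0xd0001) (.node 3413 (.leaf 0x0) (.leaf 0x202020003))))) (.node 3420 (.node 3417 (.node 3415 (.leaf 0x0) (.node 3416 (.leaf 0x0) (.leaf 0xb0b0002))) (.node 3418 (.leaf 0x0) (.node 3419 (.leaf 0x6050105020604000703040103000d) (.leaf 0x0)))) (.node 3423 (.node 3421 (.leaf 0x0) (.node 3422 (.leaf 0xe0d0002) (.leaf 0x0))) (.node 3424 (.leaf 0x0) (.node 3425 (.leaf 0x0) (.leaf 0x0))))))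

def argWS_299 : Store := (.node 3403 argWS_297 argWS_298)

def argWS_300 : Store := (.node 3381 argWS_296 argWS_299)

def argWS_301 : Store := (.node 3336 argWS_293 argWS_300)

def argWS_302 : Store := (.node 3437 (.node 3431 (.node 3428 (.node 3427 (.leaf 0x0) (.leaf 0x0)) (.node 3429 (.leaf 0x0) (.node 3430 (.leaf 0x2020400050802040105000a) (.leaf 0xe0001)))) (.node 3434 (.node 3432 (.leaf 0x90105020604000703040103000c) (.node 3433 (.leaf 0x0) (.leaf 0x5080002))) (.node 3435 (.leaf 0xe0001) (.node 3436 (.leaf 0x305020000030703040103000b) (.leaf 0x0))))) (.node 3442 (.node 3439 (.node 3438 (.leaf 0x70306000703040103000a) (.leaf 0x0)) (.node 3440 (.leaf 0xb0b0a0a0004) (.node 3441 (.leaf 0x2090109000703040103000a) (.leaf 0x0)))) (.node 3445 (.node 3443 (.leaf 0x50105020604000703040103000c) (.node 3444 (.leaf 0x0) (.leaf 0x907000003030604000703040103000e))) (.node 3446 (.leaf 0x0) (.node 3447 (.leaf 0x90703010102000202000701000c) (.leaf 0xe0a0002))))))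

def argWS_303 : Store := (.node 3459 (.node 3453 (.node 3450 (.node 3449 (.leaf 0x40305020202010802040105000c) (.leaf 0x707020902000703040103000c)) (.node 3451 (.leaf 0xd0001) (.node 3452 (.leaf 0x6000904020802040105000a) (.leaf 0x0)))) (.node 3456 (.node 3454 (.leaf 0x0) (.node 3455 (.leaf 0xd7d) (.leaf 0xf0a0a0003))) (.node 3457 (.leaf 0x0) (.node 3458 (.leaf 0x0) (.leaf 0x9050202020703040103000a))))) (.node 3465 (.node 3462 (.node 3460 (.leaf 0x0) (.node 3461 (.leaf 0xa0f0b0b0004) (.leaf 0x0))) (.node 3463 (.leaf 0x2010306020702010802040105000d) (.node 3464 (.leaf 0x900020804000802040105000b) (.leaf 0x0)))) (.node 3468 (.node 3466 (.leaf 0x0) (.node 3467 (.leaf 0xd890002ff) (.leaf 0xb0f0002))) (.node 3469 (.leaf 0x0) (.node 3470 (.leaf 0xb0f0a0a0004) (.leaf 0x0))))))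

def argWS_304 : Store := (.node 3448 argWS_302 argWS_303)

def argWS_305 : Store := (.node 3482 (.node 3476 (.node 3473 (.node 3472 (.leaf 0x0) (.leaf 0x30702010606000703040103000c)) (.node 3474 (.leaf 0x307020902000703040103000b) (.node 3475 (.leaf 0x0) (.leaf 0x209010308000703040103000b)))) (.node 3479 (.node 3477 (.leaf 0x0) (.node 3478 (.leaf 0xb0b0a0003) (.leaf 0xb0f0a0003))) (.node 3480 (.leaf 0x0) (.node 3481 (.leaf 0xd97) (.leaf 0x604080102020007010009))))) (.node 3487 (.node 3484 (.node 3483 (.leaf 0x0) (.leaf 0xb0b0a0003)) (.node 3485 (.leaf 0x0) (.node 3486 (.leaf 0x202020202090000000703040103000e) (.leaf 0x0)))) (.node 3490 (.node 3488 (.leaf 0xb0b0a0a0004) (.node 3489 (.leaf 0x103090000090802040105000b) (.leaf 0x0))) (.node 3491 (.leaf 0x2090603050004000703040103000d) (.node 3492 (.leaf 0x0) (.leaf 0x0))))))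

def argWS_306 : Store := (.node 3504 (.node 3498 (.node 3495 (.node 3494 (.leaf 0x2000000020804000802040105000d) (.leaf 0x0)) (.node 3496 (.leaf 0xe0a0002) (.node 3497 (.leaf 0xe0d0002) (.leaf 0x6010904020202000701000b)))) (.node 3501 (.node 3499 (.leaf 0x10202020106060202000701000c) (.node 3500 (.leaf 0x0) (.leaf 0x0))) (.node 3502 (.leaf 0x20002090009000703040103000c) (.node 3503 (.leaf 0x0) (.leaf 0x0))))) (.node 3510 (.node 3507 (.node 3505 (.leaf 0xdaf000dac) (.node 3506 (.leaf 0xa0f0002) (.leaf 0x0))) (.node 3508 (.leaf 0xf0b0a0003) (.node 3509 (.leaf 0x0) (.leaf 0x7080002)))) (.node 3513 (.node 3511 (.leaf 0x903000007030401030009) (.node 3512 (.leaf 0x0) (.leaf 0x0))) (.node 3514 (.leaf 0x20900000004) (.node 3515 (.leaf 0x0) (.leaf 0x0))))))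

def argWS_307 : Store := (.node 3493 argWS_305 argWS_306)

def argWS_308 : Store := (.node 3471 argWS_304 argWS_307)

def argWS_309 : Store := (.node 3527 (.node 3521 (.node 3518 (.node 3517 (.leaf 0xdbb0006d8) (.leaf 0xa0001)) (.node 3519 (.leaf 0x0) (.node 3520 (.leaf 0xb0f0002) (.leaf 0x0)))) (.node 3524 (.node 3522 (.leaf 0x0) (.node 3523 (.leaf 0xf0b0b0a0a0005) (.leaf 0x500000000030000000703040103000e))) (.node 3525 (.leaf 0x0) (.node 3526 (.leaf 0x0) (.leaf 0x0))))) (.node 3532 (.node 3529 (.node 3528 (.leaf 0xdc6) (.leaf 0xa0f0b0003)) (.node 3530 (.leaf 0x0) (.node 3531 (.leaf 0x0) (.leaf 0x8090805000703040103000b)))) (.node 3535 (.node 3533 (.leaf 0x0) (.node 3534 (.leaf 0x0) (.leaf 0x8050002))) (.node 3536 (.leaf 0x0) (.node 3537 (.leaf 0xb90000dcf) (.leaf 0xb0a0a0003))))))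

def argWS_310 : Store := (.node 3549 (.node 3543 (.node 3540 (.node 3539 (.leaf 0x0) (.leaf 0xf0b0a0003)) (.node 3541 (.leaf 0x0) (.node 3542 (.leaf 0x0) (.leaf 0x9080508020401050008)))) (.node 3546 (.node 3544 (.leaf 0x0) (.node 3545 (.leaf 0x0) (.leaf 0x304020901060006))) (.node 3547 (.leaf 0x0) (.node 3548 (.leaf 0x0) (.leaf 0xddb))))) (.node 3555 (.node 3552 (.node 3550 (.leaf 0xb0a0a0003) (.node 3551 (.leaf 0x5020002010606000703040103000d) (.leaf 0x0))) (.node 3553 (.leaf 0xe0a0002) (.node 3554 (.leaf 0x0) (.leaf 0x50102000003010202000701000c)))) (.node 3558 (.node 3556 (.leaf 0x0) (.node 3557 (.leaf 0x0) (.leaf 0xde4000b03))) (.node 3559 (.leaf 0x70009030802040105000a) (.node 3560 (.leaf 0x0) (.leaf 0xf0001))))))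

def argWS_311 : Store := (.node 3538 argWS_309 argWS_310)

def argWS_312 : Store := (.node 3572 (.node 3566 (.node 3563 (.node 3562 (.leaf 0x0) (.leaf 0xf0b0b0a0004)) (.node 3564 (.leaf 0xa0f0b0003) (.node 3565 (.leaf 0x0) (.leaf 0xb0b0a0003)))) (.node 3569 (.node 3567 (.leaf 0x306040003) (.node 3568 (.leaf 0x0) (.leaf 0xb0f0a0003))) (.node 3570 (.leaf 0x20202020106060007) (.node 3571 (.leaf 0x0) (.leaf 0xb0b0a0a0004))))) (.node 3578 (.node 3575 (.node 3573 (.leaf 0x0) (.node 3574 (.leaf 0xdf4000df0) (.leaf 0xf0b0b0a0a0005))) (.node 3576 (.leaf 0x0) (.node 3577 (.leaf 0xd0b0b0003) (.leaf 0x0)))) (.node 3581 (.node 3579 (.leaf 0x0) (.node 3580 (.leaf 0xf0a0a0003) (.leaf 0x0))) (.node 3582 (.leaf 0x0) (.node 3583 (.leaf 0xb0b0a0a0004) (.leaf 0x2070002))))))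

def argWS_313 : Store := (.node 3595 (.node 3589 (.node 3586 (.node 3585 (.leaf 0x0) (.leaf 0x0)) (.node 3587 (.leaf 0x0) (.node 3588 (.leaf 0x4040002) (.leaf 0x0)))) (.node 3592 (.node 3590 (.leaf 0xa0a0002) (.node 3591 (.leaf 0xf0b0002) (.leaf 0x601020102000003010202000701000e))) (.node 3593 (.leaf 0x0) (.node 3594 (.leaf 0x0) (.leaf 0xe09))))) (.node 3601 (.node 3598 (.node 3596 (.leaf 0xa0f0002) (.node 3597 (.leaf 0x0) (.leaf 0xf0b0002))) (.node 3599 (.leaf 0x0) (.node 3600 (.leaf 0x0) (.leaf 0xb0001)))) (.node 3604 (.node 3602 (.leaf 0xb0f0a0a0004) (.node 3603 (.leaf 0x1070002020900000802040105000d) (.leaf 0x0))) (.node 3605 (.leaf 0xb0b0a0003) (.node 3606 (.leaf 0x0) (.leaf 0xd0b0002))))))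

def argWS_314 : Store := (.node 3584 argWS_312 argWS_313)

def argWS_315 : Store := (.node 3561 argWS_311 argWS_314)

def argWS_316 : Store := (.node 3516 argWS_308 argWS_315)

def argWS_317 : Store := (.node 3426 argWS_301 argWS_316)

def argWS_318 : Store := (.node 3246 argWS_286 argWS_317)

def argWS_319 : Store := (.node 3618 (.node 3612 (.node 3609 (.node 3608 (.leaf 0xe16000e15) (.leaf 0xf0a0a0003)) (.node 3610 (.leaf 0x0) (.node 3611 (.leaf 0xf0a0a0003) (.leaf 0x0)))) (.node 3615 (.node 3613 (.leaf 0x0) (.node 3614 (.leaf 0xb0a0002) (.leaf 0xb0b0a0003))) (.node 3616 (.leaf 0xf0b0002) (.node 3617 (.leaf 0xe1d) (.leaf 0xe0a0a0003))))) (.node 3623 (.node 3620 (.node 3619 (.leaf 0x0) (.leaf 0x0)) (.node 3621 (.leaf 0xd0b0b0003) (.node 3622 (.leaf 0xe0d0002) (.leaf 0x0)))) (.node 3626 (.node 3624 (.leaf 0x306020702010007) (.node 3625 (.leaf 0x0) (.leaf 0xb0a0f0003))) (.node 3627 (.leaf 0x0) (.node 3628 (.leaf 0xe2a000e26) (.leaf 0x90700050206040802040105000c))))))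

def argWS_320 : Store := (.node 3640 (.node 3634 (.node 3631 (.node 3630 (.leaf 0x0) (.leaf 0xf0a0a0003)) (.node 3632 (.leaf 0x0) (.node 3633 (.leaf 0x102010400050006) (.leaf 0x0)))) (.node 3637 (.node 3635 (.leaf 0xf0b0b0a0a0005) (.node 3636 (.leaf 0xe0a0002) (.leaf 0xf0b0a0003))) (.node 3638 (.leaf 0x2070207030005) (.node 3639 (.leaf 0x0) (.leaf 0xd0b0002))))) (.node 3646 (.node 3643 (.node 3641 (.leaf 0x0) (.node 3642 (.leaf 0xb0b0a0a0004) (.leaf 0x2040106020702010802040105000d))) (.node 3644 (.leaf 0x0) (.node 3645 (.leaf 0xb0a0002) (.leaf 0x0)))) (.node 3649 (.node 3647 (.leaf 0xe3d000e39) (.node 3648 (.leaf 0xf0a0002) (.leaf 0x0))) (.node 3650 (.leaf 0x0) (.node 3651 (.leaf 0xf0b0b0a0004) (.leaf 0xb0b0a0a0004))))))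

def argWS_321 : Store := (.node 3629 argWS_319 argWS_320)

def argWS_322 : Store := (.node 3663 (.node 3657 (.node 3654 (.node 3653 (.leaf 0x2060603050004000703040103000d) (.leaf 0x0)) (.node 3655 (.leaf 0xd0001) (.node 3656 (.leaf 0x0) (.leaf 0xe0001)))) (.node 3660 (.node 3658 (.leaf 0x900060207020703040103000c) (.node 3659 (.leaf 0x0) (.leaf 0xb0a0002))) (.node 3661 (.leaf 0xe4b) (.node 3662 (.leaf 0x904020004) (.leaf 0x0))))) (.node 3668 (.node 3665 (.node 3664 (.leaf 0xf0001) (.leaf 0x0)) (.node 3666 (.leaf 0xa0f0b0003) (.node 3667 (.leaf 0x0) (.leaf 0x0)))) (.node 3671 (.node 3669 (.leaf 0xf0b0002) (.node 3670 (.leaf 0x10705020202010202000701000c) (.leaf 0x40206030802040105000a))) (.node 3672 (.leaf 0xb0a0f0003) (.node 3673 (.leaf 0x502010904020802040105000b) (.leaf 0x0))))))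

def argWS_323 : Store := (.node 3685 (.node 3679 (.node 3676 (.node 3675 (.leaf 0x7040003030604000703040103000d) (.leaf 0x0)) (.node 3677 (.leaf 0x0) (.node 3678 (.leaf 0x9070202090000000703040103000d) (.leaf 0x0)))) (.node 3682 (.node 3680 (.leaf 0x0) (.node 3681 (.leaf 0xe5f000e5c) (.leaf 0xf0a0002))) (.node 3683 (.leaf 0x0) (.node 3684 (.leaf 0xb0b0a0003) (.leaf 0x0))))) (.node 3691 (.node 3688 (.node 3686 (.leaf 0x0) (.node 3687 (.leaf 0xb0b0002) (.leaf 0x9280007a6))) (.node 3689 (.leaf 0x60501020106060007) (.node 3690 (.leaf 0x0) (.leaf 0xd0001)))) (.node 3694 (.node 3692 (.leaf 0x0) (.node 3693 (.leaf 0xf0b0a0003) (.leaf 0x0))) (.node 3695 (.leaf 0xb0f0a0003) (.node 3696 (.leaf 0x0) (.leaf 0x20601070209020802040105000c))))))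

def argWS_324 : Store := (.node 3674 argWS_322 argWS_323)

def argWS_325 : Store := (.node 3652 argWS_321 argWS_324)

def argWS_326 : Store := (.node 3708 (.node 3702 (.node 3699 (.node 3698 (.leaf 0x0) (.leaf 0xb0f0a0a0004)) (.node 3700 (.leaf 0xb0a0002) (.node 3701 (.leaf 0xf0b0b0003) (.leaf 0x400070206000006)))) (.node 3705 (.node 3703 (.leaf 0x0) (.node 3704 (.leaf 0x0) (.leaf 0xb0a0a0003))) (.node 3706 (.leaf 0xe78000e77) (.node 3707 (.leaf 0x204010703060202000701000b) (.leaf 0x0))))) (.node 3713 (.node 3710 (.node 3709 (.leaf 0xb0a0002) (.leaf 0x0)) (.node 3711 (.leaf 0x40300070009030802040105000c) (.node 3712 (.leaf 0x0) (.leaf 0xf0a0a0003)))) (.node 3716 (.node 3714 (.leaf 0x20007030401030008) (.node 3715 (.leaf 0x0) (.leaf 0xb0f0a0003))) (.node 3717 (.leaf 0x0) (.node 3718 (.leaf 0xb0b0a0a0004) (.leaf 0xb0a0a0003))))))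

def argWS_327 : Store := (.node 3730 (.node 3724 (.node 3721 (.node 3720 (.leaf 0xe86000e85) (.leaf 0xa0a0002)) (.node 3722 (.leaf 0x0) (.node 3723 (.leaf 0x7010101070306000703040103000d) (.leaf 0x0)))) (.node 3727 (.node 3725 (.leaf 0xf0b0b0a0a0005) (.node 3726 (.leaf 0xa0f0b0003) (.leaf 0x20502090109000703040103000c))) (.node 3728 (.leaf 0x0) (.node 3729 (.leaf 0x0) (.leaf 0xe9000060c))))) (.node 3736 (.node 3733 (.node 3731 (.leaf 0x20106020702010802040105000c) (.node 3732 (.leaf 0x0) (.leaf 0xa0a0002))) (.node 3734 (.leaf 0x0) (.node 3735 (.leaf 0x60102000003010802040105000c) (.leaf 0x0)))) (.node 3739 (.node 3737 (.leaf 0xa0a0002) (.node 3738 (.leaf 0xb0b0002) (.leaf 0x2010908050802040105000b))) (.node 3740 (.leaf 0x0) (.node 3741 (.leaf 0xb0f0a0a0004) (.leaf 0x0))))))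

def argWS_328 : Store := (.node 3719 argWS_326 argWS_327)

def argWS_329 : Store := (.node 3753 (.node 3747 (.node 3744 (.node 3743 (.leaf 0xe9d) (.leaf 0xd0b0b0003)) (.node 3745 (.leaf 0x0) (.node 3746 (.leaf 0xf0b0002) (.leaf 0x0)))) (.node 3750 (.node 3748 (.leaf 0x0) (.node 3749 (.leaf 0x4030000090206020202000701000d) (.leaf 0x0))) (.node 3751 (.leaf 0xb0f0a0003) (.node 3752 (.leaf 0x0) (.leaf 0xbfd))))) (.node 3758 (.node 3755 (.node 3754 (.leaf 0xf0b0a0003) (.leaf 0x0)) (.node 3756 (.leaf 0xd0001) (.node 3757 (.leaf 0x0) (.leaf 0x0)))) (.node 3761 (.node 3759 (.leaf 0x0) (.node 3760 (.leaf 0x0) (.leaf 0xb0b0a0a0004))) (.node 3762 (.leaf 0x10001) (.node 3763 (.leaf 0x0) (.leaf 0x0))))))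

def argWS_330 : Store := (.node 3775 (.node 3769 (.node 3766 (.node 3765 (.leaf 0x0) (.leaf 0x4040002)) (.node 3767 (.leaf 0x0) (.node 3768 (.leaf 0xa0a0002) (.leaf 0xd0b0002)))) (.node 3772 (.node 3770 (.leaf 0xf0b0b0003) (.node 3771 (.leaf 0xb0b0002) (.leaf 0x60400020106060802040105000c))) (.node 3773 (.leaf 0x0) (.node 3774 (.leaf 0x60002) (.leaf 0x2000900090005))))) (.node 3781 (.node 3778 (.node 3776 (.leaf 0x0) (.node 3777 (.leaf 0x0) (.leaf 0x7030500020804000008))) (.node 3779 (.leaf 0x0) (.node 3780 (.leaf 0x0) (.leaf 0xa0001)))) (.node 3784 (.node 3782 (.leaf 0xec4000ec3) (.node 3783 (.leaf 0xb0f0a0a0004) (.leaf 0x0))) (.node 3785 (.leaf 0x4000206040202000701000a) (.node 3786 (.leaf 0x0) (.leaf 0xb0f0a0003))))))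

def argWS_331 : Store := (.node 3764 argWS_329 argWS_330)

def argWS_332 : Store := (.node 3742 argWS_328 argWS_331)

def argWS_333 : Store := (.node 3697 argWS_325 argWS_332)

def argWS_334 : Store := (.node 3798 (.node 3792 (.node 3789 (.node 3788 (.leaf 0xb0f0002) (.leaf 0xa0f0b0b0004)) (.node 3790 (.leaf 0x0) (.node 3791 (.leaf 0xe0001) (.leaf 0xf0001)))) (.node 3795 (.node 3793 (.leaf 0x50305070209020007) (.node 3794 (.leaf 0x0) (.leaf 0x0))) (.node 3796 (.leaf 0xed20005dd) (.node 3797 (.leaf 0xf0001) (.leaf 0x0))))) (.node 3803 (.node 3800 (.node 3799 (.leaf 0x0) (.leaf 0xa0a0002)) (.node 3801 (.leaf 0x5030005000703040103000a) (.node 3802 (.leaf 0x0) (.leaf 0x0)))) (.node 3806 (.node 3804 (.leaf 0xb0b0a0a0004) (.node 3805 (.leaf 0xedb000eda) (.leaf 0x0))) (.node 3807 (.leaf 0xe0a0a0003) (.node 3808 (.leaf 0x0) (.leaf 0x3070209020202000701000a))))))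

def argWS_335 : Store := (.node 3820 (.node 3814 (.node 3811 (.node 3810 (.leaf 0x0) (.leaf 0xf0b0b0a0004)) (.node 3812 (.leaf 0x202020900000802040105000b) (.node 3813 (.leaf 0x0) (.leaf 0x200020603050004000703040103000e)))) (.node 3817 (.node 3815 (.leaf 0x0) (.node 3816 (.leaf 0x20000020901060007) (.leaf 0x0))) (.node 3818 (.leaf 0x0) (.node 3819 (.leaf 0xe0a0002) (.leaf 0xeea000ee9))))) (.node 3826 (.node 3823 (.node 3821 (.leaf 0x202090106000703040103000b) (.node 3822 (.leaf 0x0) (.leaf 0xf0a0a0003))) (.node 3824 (.leaf 0x0) (.node 3825 (.leaf 0xb0001) (.leaf 0x0)))) (.node 3829 (.node 3827 (.leaf 0x0) (.node 3828 (.leaf 0xe0a0a0003) (.leaf 0x20007030401030008))) (.node 3830 (.leaf 0x0) (.node 3831 (.leaf 0x0) (.leaf 0xef60003c3))))))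

def argWS_336 : Store := (.node 3809 argWS_334 argWS_335)

def argWS_337 : Store := (.node 3843 (.node 3837 (.node 3834 (.node 3833 (.leaf 0xf0b0b0a0004) (.leaf 0x0)) (.node 3835 (.leaf 0xb0b0a0003) (.node 3836 (.leaf 0x0) (.leaf 0x0)))) (.node 3840 (.node 3838 (.leaf 0x20705020202010007) (.node 3839 (.leaf 0x0) (.leaf 0x0))) (.node 3841 (.leaf 0xeff) (.node 3842 (.leaf 0xa0a0002) (.leaf 0x0))))) (.node 3848 (.node 3845 (.node 3844 (.leaf 0x0) (.leaf 0xb0f0002)) (.node 3846 (.leaf 0xb0b0a0003) (.node 3847 (.leaf 0x1030102000003010008) (.leaf 0xf0a0002)))) (.node 3851 (.node 3849 (.leaf 0x70105020202010802040105000c) (.node 3850 (.leaf 0x0) (.leaf 0xd0b0002))) (.node 3852 (.leaf 0x0) (.node 3853 (.leaf 0xf0b) (.leaf 0x10903090009000703040103000c))))))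

def argWS_338 : Store := (.node 3865 (.node 3859 (.node 3856 (.node 3855 (.leaf 0x0) (.leaf 0xa0f0002)) (.node 3857 (.leaf 0xa0001) (.node 3858 (.leaf 0x1070003010102000802040105000d) (.leaf 0x0)))) (.node 3862 (.node 3860 (.leaf 0xf0b0b0a0a0005) (.node 3861 (.leaf 0xf0b0b0a0004) (.leaf 0xf14))) (.node 3863 (.leaf 0x9040603050004000703040103000d) (.node 3864 (.leaf 0x0) (.leaf 0xb0b0a0003))))) (.node 3871 (.node 3868 (.node 3866 (.leaf 0x0) (.node 3867 (.leaf 0x304070009030006) (.leaf 0x0))) (.node 3869 (.leaf 0xf0b0b0a0a0005) (.node 3870 (.leaf 0xf0a0002) (.leaf 0xf1d000650)))) (.node 3874 (.node 3872 (.leaf 0xb0b0a0a0004) (.node 3873 (.leaf 0x0) (.leaf 0x6010201040005000703040103000d))) (.node 3875 (.leaf 0x0) (.node 3876 (.leaf 0xa0f0002) (.leaf 0xf0b0b0a0a0005))))))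

def argWS_339 : Store := (.node 3854 argWS_337 argWS_338)

def argWS_340 : Store := (.node 3832 argWS_336 argWS_339)

def argWS_341 : Store := (.node 3888 (.node 3882 (.node 3879 (.node 3878 (.leaf 0x0) (.leaf 0xf25)) (.node 3880 (.leaf 0xb0a0a0003) (.node 3881 (.leaf 0x0) (.leaf 0x0)))) (.node 3885 (.node 3883 (.leaf 0x9050305020604000703040103000d) (.node 3884 (.leaf 0x0) (.leaf 0xa0a0002))) (.node 3886 (.leaf 0xd0b0002) (.node 3887 (.leaf 0x20202020901060202000701000c) (.leaf 0x0))))) (.node 3893 (.node 3890 (.node 3889 (.leaf 0x0) (.leaf 0xf3000053e)) (.node 3891 (.leaf 0x90806000202000701000a) (.node 3892 (.leaf 0x0) (.leaf 0xf0b0002)))) (.node 3896 (.node 3894 (.leaf 0x0) (.node 3895 (.leaf 0xf0b0b0a0004) (.leaf 0x0))) (.node 3897 (.leaf 0x0) (.node 3898 (.leaf 0xb0f0a0a0004) (.leaf 0xf0b0a0a0004))))))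

def argWS_342 : Store := (.node 3910 (.node 3904 (.node 3901 (.node 3900 (.leaf 0x2080400000703040103000c) (.leaf 0x0)) (.node 3902 (.leaf 0x0) (.node 3903 (.leaf 0xf3d000f3a) (.leaf 0xf0a0002)))) (.node 3907 (.node 3905 (.leaf 0x0) (.node 3906 (.leaf 0xf0b0b0003) (.leaf 0x0))) (.node 3908 (.leaf 0x0) (.node 3909 (.leaf 0x3030802020007010008) (.leaf 0x0))))) (.node 3916 (.node 3913 (.node 3911 (.leaf 0x0) (.node 3912 (.leaf 0x500000408010802040105000b) (.leaf 0x0))) (.node 3914 (.leaf 0xa0f0b0b0004) (.node 3915 (.leaf 0x0) (.leaf 0xf4a000f46)))) (.node 3919 (.node 3917 (.leaf 0xf0a0a0003) (.node 3918 (.leaf 0x0) (.leaf 0xf0b0b0a0004))) (.node 3920 (.leaf 0x0) (.node 3921 (.leaf 0x0) (.leaf 0x8000206040802040105000a))))))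

def argWS_343 : Store := (.node 3899 argWS_341 argWS_342)

def argWS_344 : Store := (.node 3933 (.node 3927 (.node 3924 (.node 3923 (.leaf 0x0) (.leaf 0x2040300090206020202000701000d)) (.node 3925 (.leaf 0x0) (.node 3926 (.leaf 0x0) (.leaf 0x0)))) (.node 3930 (.node 3928 (.leaf 0xb0b0a0a0004) (.node 3929 (.leaf 0x30001) (.leaf 0x0))) (.node 3931 (.leaf 0x0) (.node 3932 (.leaf 0x0) (.leaf 0x4040002))))) (.node 3939 (.node 3936 (.node 3934 (.leaf 0x0) (.node 3935 (.leaf 0xa0a0002) (.leaf 0xf0b0a0003))) (.node 3937 (.leaf 0xb0f0002) (.node 3938 (.leaf 0xe0a0a0003) (.leaf 0xb0f0002)))) (.node 3942 (.node 3940 (.leaf 0x907050206040006) (.node 3941 (.leaf 0xd0b0b0003) (.leaf 0xe0d0002))) (.node 3943 (.leaf 0xd0001) (.node 3944 (.leaf 0x5010606000703040103000a) (.leaf 0x0))))))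

def argWS_345 : Store := (.node 3956 (.node 3950 (.node 3947 (.node 3946 (.leaf 0x0) (.leaf 0xf69)) (.node 3948 (.leaf 0xd0b0002) (.node 3949 (.leaf 0x0) (.leaf 0x0)))) (.node 3953 (.node 3951 (.leaf 0xf0b0002) (.node 3952 (.leaf 0xf0b0002) (.leaf 0xf0b0b0a0004))) (.node 3954 (.leaf 0xe0001) (.node 3955 (.leaf 0x606010500020006) (.leaf 0x207090806000802040105000b))))) (.node 3962 (.node 3959 (.node 3957 (.leaf 0x0) (.node 3958 (.leaf 0xb0a0a0003) (.leaf 0xe0d0002))) (.node 3960 (.leaf 0x50305020000030703040103000c) (.node 3961 (.leaf 0x0) (.leaf 0xb0001)))) (.node 3965 (.node 3963 (.leaf 0x0) (.node 3964 (.leaf 0xf7a) (.leaf 0xb0f0a0a0004))) (.node 3966 (.leaf 0x9050308020401050008) (.node 3967 (.leaf 0x6010200090206020202000701000d) (.leaf 0x0))))))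

def argWS_346 : Store := (.node 3945 argWS_344 argWS_345)

def argWS_347 : Store := (.node 3922 argWS_343 argWS_346)

def argWS_348 : Store := (.node 3877 argWS_340 argWS_347)

def argWS_349 : Store := (.node 3787 argWS_333 argWS_348)

def argWS_350 : Store := (.node 3979 (.node 3973 (.node 3970 (.node 3969 (.leaf 0x0) (.leaf 0xb0f0002)) (.node 3971 (.leaf 0xf81000f80) (.node 3972 (.leaf 0x7010908050006) (.leaf 0x0)))) (.node 3976 (.node 3974 (.leaf 0xd0001) (.node 3975 (.leaf 0x0) (.leaf 0xe0001))) (.node 3977 (.leaf 0x0) (.node 3978 (.leaf 0x0) (.leaf 0xf0b0a0003))))) (.node 3984 (.node 3981 (.node 3980 (.leaf 0xf6e) (.leaf 0xa0001)) (.node 3982 (.leaf 0x0) (.node 3983 (.leaf 0xb0b0002) (.leaf 0xa0f0002)))) (.node 3987 (.node 3985 (.leaf 0xa0f0002) (.node 3986 (.leaf 0xf0b0002) (.leaf 0xab3000f91))) (.node 3988 (.leaf 0xd0b0002) (.node 3989 (.leaf 0x0) (.leaf 0xe0d0002))))))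

def argWS_351 : Store := (.node 4001 (.node 3995 (.node 3992 (.node 3991 (.leaf 0x0) (.leaf 0x0)) (.node 3993 (.leaf 0x1020101090402000703040103000d) (.node 3994 (.leaf 0x0) (.leaf 0xb0f0a0a0004)))) (.node 3998 (.node 3996 (.leaf 0x0) (.node 3997 (.leaf 0xf9b) (.leaf 0x0))) (.node 3999 (.leaf 0xb0b0002) (.node 4000 (.leaf 0x0) (.leaf 0xd0b0002))))) (.node 4007 (.node 4004 (.node 4002 (.leaf 0x0) (.node 4003 (.leaf 0x0) (.leaf 0x604070306000703040103000b))) (.node 4005 (.leaf 0x10306040004) (.node 4006 (.leaf 0x0) (.leaf 0x6000207030006)))) (.node 4010 (.node 4008 (.leaf 0x0) (.node 4009 (.leaf 0xe0001) (.leaf 0x0))) (.node 4011 (.leaf 0x7020002080400000703040103000d) (.node 4012 (.leaf 0x0) (.leaf 0xd0001))))))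

def argWS_352 : Store := (.node 3990 argWS_350 argWS_351)

def argWS_353 : Store := (.node 4024 (.node 4018 (.node 4015 (.node 4014 (.leaf 0x0) (.leaf 0xfad)) (.node 4016 (.leaf 0xe0a0a0003) (.node 4017 (.leaf 0x3040807030401030008) (.leaf 0x0)))) (.node 4021 (.node 4019 (.leaf 0x0) (.node 4020 (.leaf 0xb0f0002) (.leaf 0xfb3000fb2))) (.node 4022 (.leaf 0xb0a0a0003) (.node 4023 (.leaf 0x0) (.leaf 0x20202020901060202000701000c))))) (.node 4029 (.node 4026 (.node 4025 (.leaf 0x0) (.leaf 0xb0f0a0a0004)) (.node 4027 (.leaf 0x6030408010802040105000a) (.node 4028 (.leaf 0x0) (.leaf 0xb0b0002)))) (.node 4032 (.node 4030 (.leaf 0x0) (.node 4031 (.leaf 0x1020900090802040105000a) (.leaf 0x0))) (.node 4033 (.leaf 0x0) (.node 4034 (.leaf 0x0) (.leaf 0xfc10003fa))))))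

def argWS_354 : Store := (.node 4046 (.node 4040 (.node 4037 (.node 4036 (.leaf 0xe0d0002) (.leaf 0x0)) (.node 4038 (.leaf 0x9010402090106000703040103000d) (.node 4039 (.leaf 0x0) (.leaf 0xf0b0a0003)))) (.node 4043 (.node 4041 (.leaf 0xb0a0f0003) (.node 4042 (.leaf 0x2000205020202010008) (.leaf 0x0))) (.node 4044 (.leaf 0x0) (.node 4045 (.leaf 0x2070207030005) (.leaf 0x0))))) (.node 4052 (.node 4049 (.node 4047 (.leaf 0xd0b0002) (.node 4048 (.leaf 0x0) (.leaf 0xfcf000fcb))) (.node 4050 (.leaf 0x7000006010500020202000701000d) (.node 4051 (.leaf 0x0) (.leaf 0xa0f0b0b0004)))) (.node 4055 (.node 4053 (.leaf 0x0) (.node 4054 (.leaf 0xa0a0002) (.leaf 0x0))) (.node 4056 (.leaf 0x0) (.node 4057 (.leaf 0x2090303010102000008) (.leaf 0x0))))))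

def argWS_355 : Store := (.node 4035 argWS_353 argWS_354)

def argWS_356 : Store := (.node 4013 argWS_352 argWS_355)

def argWS_357 : Store := (.node 4069 (.node 4063 (.node 4060 (.node 4059 (.leaf 0x0) (.leaf 0x0)) (.node 4061 (.leaf 0xb0b0a0a0004) (.node 4062 (.leaf 0x1010002) (.leaf 0x0)))) (.node 4066 (.node 4064 (.leaf 0x0) (.node 4065 (.leaf 0x0) (.leaf 0x4040002))) (.node 4067 (.leaf 0x0) (.node 4068 (.leaf 0xa0a0002) (.leaf 0xb0f0a0003))))) (.node 4074 (.node 4071 (.node 4070 (.leaf 0xb0b0a0a0004) (.leaf 0xe0001)) (.node 4072 (.leaf 0xf0a0002) (.node 4073 (.leaf 0xb0a0f0003) (.leaf 0xb0b0a0003)))) (.node 4077 (.node 4075 (.leaf 0xb0a0002) (.node 4076 (.leaf 0xf0b0b0a0004) (.leaf 0xb0b0002))) (.node 4078 (.leaf 0xa0f0b0003) (.node 4079 (.leaf 0xb0b0a0a0004) (.leaf 0x0))))))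

def argWS_358 : Store := (.node 4091 (.node 4085 (.node 4082 (.node 4081 (.leaf 0xfef) (.leaf 0x70402010606000703040103000c)) (.node 4083 (.leaf 0x0) (.node 4084 (.leaf 0xe0001) (.leaf 0x0)))) (.node 4088 (.node 4086 (.leaf 0x90006020702010007) (.node 4087 (.leaf 0x0) (.leaf 0xf0b0b0003))) (.node 4089 (.leaf 0xd0b0002) (.node 4090 (.leaf 0xe0a0a0003) (.leaf 0x502020106060202000701000b))))) (.node 4097 (.node 4094 (.node 4092 (.leaf 0x0) (.node 4093 (.leaf 0x0) (.leaf 0xb0b0a0a0004))) (.node 4095 (.leaf 0x1030002) (.node 4096 (.leaf 0x0) (.leaf 0x0)))) (.node 4100 (.node 4098 (.leaf 0x0) (.node 4099 (.leaf 0x4040002) (.leaf 0x0))) (.node 4101 (.leaf 0xf0b0b0003) (.node 4102 (.leaf 0xe0001) (.leaf 0xb0001))))))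

def argWS_359 : Store := (.node 4080 argWS_357 argWS_358)

def argWS_360 : Store := (.node 4114 (.node 4108 (.node 4105 (.node 4104 (.leaf 0xf0001) (.leaf 0x301070009030802040105000b)) (.node 4106 (.leaf 0xb0b0a0003) (.node 4107 (.leaf 0xf0a0a0003) (.leaf 0xa0a0002)))) (.node 4111 (.node 4109 (.leaf 0xb0a0f0003) (.node 4110 (.leaf 0xb0b0002) (.leaf 0x20002090109000703040103000c))) (.node 4112 (.leaf 0x0) (.node 4113 (.leaf 0x0) (.leaf 0x1010))))) (.node 4119 (.node 4116 (.node 4115 (.leaf 0xa0001) (.leaf 0x0)) (.node 4117 (.leaf 0xb0f0a0003) (.node 4118 (.leaf 0x0) (.leaf 0x0)))) (.node 4122 (.node 4120 (.leaf 0xb0a0f0003) (.node 4121 (.leaf 0x20506020702010202000701000c) (.leaf 0x0))) (.node 4123 (.leaf 0x0) (.node 4124 (.leaf 0x101a) (.leaf 0xb0f0002))))))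

def argWS_361 : Store := (.node 4136 (.node 4130 (.node 4127 (.node 4126 (.leaf 0xe0d0002) (.leaf 0xb0f0a0003)) (.node 4128 (.leaf 0xe0a0002) (.node 4129 (.leaf 0xa0f0b0003) (.leaf 0x903000408010006)))) (.node 4133 (.node 4131 (.leaf 0x0) (.node 4132 (.leaf 0x4030004080703040103000a) (.leaf 0x0))) (.node 4134 (.leaf 0x2070306000703040103000a) (.node 4135 (.leaf 0x0) (.leaf 0x5000005020202010202000701000d))))) (.node 4142 (.node 4139 (.node 4137 (.leaf 0xb0b0a0a0004) (.node 4138 (.leaf 0x95f) (.leaf 0x101070209020202000701000b))) (.node 4140 (.leaf 0x0) (.node 4141 (.leaf 0xa0001) (.leaf 0x0)))) (.node 4145 (.node 4143 (.leaf 0xb0b0a0a0004) (.node 4144 (.leaf 0x0) (.leaf 0x0))) (.node 4146 (.leaf 0x60501010908050202000701000c) (.node 4147 (.leaf 0x0) (.leaf 0xa0f0002))))))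

def argWS_362 : Store := (.node 4125 argWS_360 argWS_361)

def argWS_363 : Store := (.node 4103 argWS_359 argWS_362)

def argWS_364 : Store := (.node 4058 argWS_356 argWS_363)

def argWS_365 : Store := (.node 4159 (.node 4153 (.node 4150 (.node 4149 (.leaf 0x0) (.leaf 0xd0b0b0003)) (.node 4151 (.leaf 0x1035000a7e) (.node 4152 (.leaf 0xd0b0002) (.leaf 0x0)))) (.node 4156 (.node 4154 (.leaf 0x300070009030802040105000b) (.node 4155 (.leaf 0x0) (.leaf 0xb0f0a0a0004))) (.node 4157 (.leaf 0xa0a0002) (.node 4158 (.leaf 0x7010900090202000701000a) (.leaf 0x0))))) (.node 4164 (.node 4161 (.node 4160 (.leaf 0xb0a0f0003) (.leaf 0xf0b0b0a0004)) (.node 4162 (.leaf 0x5020202010802040105000c) (.node 4163 (.leaf 0x0) (.leaf 0x0)))) (.node 4167 (.node 4165 (.leaf 0x1043000387) (.node 4166 (.leaf 0xb0001) (.leaf 0x0))) (.node 4168 (.leaf 0x0) (.node 4169 (.leaf 0xf0a0002) (.leaf 0x60206020702010007))))))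

def argWS_366 : Store := (.node 4181 (.node 4175 (.node 4172 (.node 4171 (.leaf 0x0) (.leaf 0xa0001)) (.node 4173 (.leaf 0x0) (.node 4174 (.leaf 0xa0a0002) (.leaf 0x0)))) (.node 4178 (.node 4176 (.leaf 0x104e00071b) (.node 4177 (.leaf 0x3030400050202000701000a) (.leaf 0x0))) (.node 4179 (.leaf 0xb0f0a0a0004) (.node 4180 (.leaf 0x0) (.leaf 0xf0b0a0a0004))))) (.node 4187 (.node 4184 (.node 4182 (.leaf 0x0) (.node 4183 (.leaf 0x202000901090802040105000b) (.leaf 0x0))) (.node 4185 (.leaf 0xa0a0002) (.node 4186 (.leaf 0x0) (.leaf 0x604010901090006)))) (.node 4190 (.node 4188 (.leaf 0x0) (.node 4189 (.leaf 0xd0b0002) (.leaf 0x0))) (.node 4191 (.leaf 0x105d) (.node 4192 (.leaf 0x2020900000005) (.leaf 0x0))))))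

def argWS_367 : Store := (.node 4170 argWS_365 argWS_366)

def argWS_368 : Store := (.node 4204 (.node 4198 (.node 4195 (.node 4194 (.leaf 0xb0b0a0a0004) (.leaf 0x0)) (.node 4196 (.leaf 0x103010102000006) (.node 4197 (.leaf 0x0) (.leaf 0xd0b0b0003)))) (.node 4201 (.node 4199 (.leaf 0xb0f0002) (.node 4200 (.leaf 0x1050202020007010008) (.leaf 0x0))) (.node 4202 (.leaf 0x0) (.node 4203 (.leaf 0x1069) (.leaf 0xf0a0002))))) (.node 4209 (.node 4206 (.node 4205 (.leaf 0x0) (.leaf 0xf0001)) (.node 4207 (.leaf 0x0) (.node 4208 (.leaf 0x0) (.leaf 0x90306030500040802040105000c)))) (.node 4212 (.node 4210 (.leaf 0x0) (.node 4211 (.leaf 0xf0b0b0a0a0005) (.leaf 0x0))) (.node 4213 (.leaf 0x90000000300000007) (.node 4214 (.leaf 0x0) (.leaf 0xb0b0002))))))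

def argWS_369 : Store := (.node 4226 (.node 4220 (.node 4217 (.node 4216 (.leaf 0x0) (.leaf 0x107700069c)) (.node 4218 (.leaf 0xe0a0a0003) (.node 4219 (.leaf 0x0) (.leaf 0xf0b0b0a0a0005)))) (.node 4223 (.node 4221 (.leaf 0x0) (.node 4222 (.leaf 0x0) (.leaf 0x5000003030604000703040103000d))) (.node 4224 (.leaf 0x0) (.node 4225 (.leaf 0x0) (.leaf 0x703050207020007010009))))) (.node 4232 (.node 4229 (.node 4227 (.leaf 0x0) (.node 4228 (.leaf 0x0) (.leaf 0x1083001080))) (.node 4230 (.leaf 0xf0001) (.node 4231 (.leaf 0x0) (.leaf 0x90606010500020007)))) (.node 4235 (.node 4233 (.leaf 0x0) (.node 4234 (.leaf 0xb0f0a0a0004) (.leaf 0xb0001))) (.node 4236 (.leaf 0x50102020900000202000701000c) (.node 4237 (.leaf 0x0) (.leaf 0xf0a0a0003))))))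

def argWS_370 : Store := (.node 4215 argWS_368 argWS_369)

def argWS_371 : Store := (.node 4193 argWS_367 argWS_370)

def argWS_372 : Store := (.node 4249 (.node 4243 (.node 4240 (.node 4239 (.leaf 0x40103010102000802040105000c) (.leaf 0x0)) (.node 4241 (.leaf 0x0) (.node 4242 (.leaf 0x109000108d) (.leaf 0xe0d0002)))) (.node 4246 (.node 4244 (.leaf 0x0) (.node 4245 (.leaf 0x8000400050006) (.leaf 0x0))) (.node 4247 (.leaf 0xd0001) (.node 4248 (.leaf 0x60402080400000703040103000c) (.leaf 0x0))))) (.node 4254 (.node 4251 (.node 4250 (.leaf 0x0) (.leaf 0xa0f0b0b0004)) (.node 4252 (.leaf 0x109a001099) (.node 4253 (.leaf 0x90000030306040202000701000d) (.leaf 0x0)))) (.node 4257 (.node 4255 (.leaf 0xf0b0002) (.node 4256 (.leaf 0x0) (.leaf 0x3040002080400000703040103000d))) (.node 4258 (.leaf 0x0) (.node 4259 (.leaf 0xa0001) (.leaf 0xe0d0002))))))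

def argWS_373 : Store := (.node 4271 (.node 4265 (.node 4262 (.node 4261 (.leaf 0xb0001) (.leaf 0x1030408010802040105000a)) (.node 4263 (.leaf 0x0) (.node 4264 (.leaf 0x404070209020006) (.leaf 0x0)))) (.node 4268 (.node 4266 (.leaf 0x0) (.node 4267 (.leaf 0xf0b0002) (.leaf 0x10aa000cfe))) (.node 4269 (.leaf 0xf0b0a0003) (.node 4270 (.leaf 0x0) (.leaf 0xa0a0002))))) (.node 4277 (.node 4274 (.node 4272 (.leaf 0x0) (.node 4273 (.leaf 0x0) (.leaf 0x0))) (.node 4275 (.leaf 0x0) (.node 4276 (.leaf 0xb0b0a0a0004) (.leaf 0x1090002)))) (.node 4280 (.node 4278 (.leaf 0x0) (.node 4279 (.leaf 0x0) (.leaf 0x0))) (.node 4281 (.leaf 0x4040002) (.node 4282 (.leaf 0x0) (.leaf 0xb0a0a0003))))))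

def argWS_374 : Store := (.node 4260 argWS_372 argWS_373)

def argWS_375 : Store := (.node 4294 (.node 4288 (.node 4285 (.node 4284 (.leaf 0xb0f0002) (.leaf 0x8050009080600000703040103000d)) (.node 4286 (.leaf 0x0) (.node 4287 (.leaf 0xf0b0b0a0a0005) (.leaf 0x0)))) (.node 4291 (.node 4289 (.leaf 0x10bf0008a4) (.node 4290 (.leaf 0xa0f0b0b0004) (.leaf 0x0))) (.node 4292 (.leaf 0xe0a0002) (.node 4293 (.leaf 0x0) (.leaf 0x0))))) (.node 4300 (.node 4297 (.node 4295 (.leaf 0x104000207030006) (.node 4296 (.leaf 0x0) (.leaf 0xb0f0a0003))) (.node 4298 (.leaf 0xa0f0002) (.node 4299 (.leaf 0xf0b0a0a0004) (.leaf 0xb0f0a0a0004)))) (.node 4303 (.node 4301 (.leaf 0xe0d0002) (.node 4302 (.leaf 0xf0b0b0a0004) (.leaf 0xb0001))) (.node 4304 (.leaf 0xb0b0a0a0004) (.node 4305 (.leaf 0x3040300090206020008) (.leaf 0x0))))))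

def argWS_376 : Store := (.node 4317 (.node 4311 (.node 4308 (.node 4307 (.leaf 0xf0a0002) (.leaf 0xe0d0002)) (.node 4309 (.leaf 0xf0a0a0003) (.node 4310 (.leaf 0xe0a0a0003) (.leaf 0x407030602020007010009)))) (.node 4314 (.node 4312 (.leaf 0x0) (.node 4313 (.leaf 0x0) (.leaf 0x0))) (.node 4315 (.leaf 0x0) (.node 4316 (.leaf 0xb0b0a0a0004) (.leaf 0x30002))))) (.node 4323 (.node 4320 (.node 4318 (.leaf 0x0) (.node 4319 (.leaf 0x0) (.leaf 0x0))) (.node 4321 (.leaf 0x4040002) (.node 4322 (.leaf 0x0) (.leaf 0xe0a0a0003)))) (.node 4326 (.node 4324 (.leaf 0xb0b0a0003) (.node 4325 (.leaf 0xa0a0002) (.leaf 0xd0b0002))) (.node 4327 (.leaf 0xa0f0002) (.node 4328 (.leaf 0x20601090402000703040103000c) (.leaf 0x0))))))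

def argWS_377 : Store := (.node 4306 argWS_375 argWS_376)

def argWS_378 : Store := (.node 4283 argWS_374 argWS_377)

def argWS_379 : Store := (.node 4238 argWS_371 argWS_378)

def argWS_380 : Store := (.node 4148 argWS_364 argWS_379)

def argWS_381 : Store := (.node 3968 argWS_349 argWS_380)

def argWS_382 : Store := (.node 3607 argWS_318 argWS_381)

def argWS_383 : Store := (.node 4340 (.node 4334 (.node 4331 (.node 4330 (.leaf 0xf0b0b0003) (.leaf 0xb0f0a0003)) (.node 4332 (.leaf 0x700070209020202000701000b) (.node 4333 (.leaf 0xf0a0a0003) (.leaf 0xb0b0002)))) (.node 4337 (.node 4335 (.leaf 0x10300050206040007) (.node 4336 (.leaf 0x0) (.leaf 0xd0b0b0003))) (.node 4338 (.leaf 0x0) (.node 4339 (.leaf 0xd0b0b0003) (.leaf 0x10f2))))) (.node 4345 (.node 4342 (.node 4341 (.leaf 0x803000900090202000701000b) (.leaf 0x0)) (.node 4343 (.leaf 0xb0001) (.node 4344 (.leaf 0x0) (.leaf 0x60401070206000007)))) (.node 4348 (.node 4346 (.leaf 0x0) (.node 4347 (.leaf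 0xf0b0b0003) (.leaf 0x60200020901060802040105000c))) (.node 4349 (.leaf 0xe0a0002) (.node 4350 (.leaf 0xb0f0a0a0004) (.leaf 0x102070206000202000701000b))))))

def argWS_384 : Store := (.node 4362 (.node 4356 (.node 4353 (.node 4352 (.leaf 0x0) (.leaf 0x0)) (.node 4354 (.leaf 0x1100) (.node 4355 (.leaf 0x0) (.leaf 0xa0a0002)))) (.node 4359 (.node 4357 (.leaf 0x0) (.node 4358 (.leaf 0x0) (.leaf 0xb0001))) (.node 4360 (.leaf 0x90106060004) (.node 4361 (.leaf 0x0) (.leaf 0x901040000030000000703040103000e))))) (.node 4368 (.node 4365 (.node 4363 (.leaf 0x0) (.node 4364 (.leaf 0x0) (.leaf 0x304010904020006))) (.node 4366 (.leaf 0x0) (.node 4367 (.leaf 0x1030000020804000802040105000d) (.leaf 0x0)))) (.node 4371 (.node 4369 (.leaf 0x0) (.node 4370 (.leaf 0x1110) (.leaf 0xb0f0a0a0004))) (.node 4372 (.leaf 0x0) (.node 4373 (.leaf 0x0) (.leaf 0x209000408010802040105000b))))))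

def argWS_385 : Store := (.node 4351 argWS_383 argWS_384)

def argWS_386 : Store := (.node 4385 (.node 4379 (.node 4376 (.node 4375 (.leaf 0x0) (.leaf 0xd0b0b0003)) (.node 4377 (.leaf 0x0) (.node 4378 (.leaf 0x1118) (.leaf 0x60200020901060802040105000c)))) (.node 4382 (.node 4380 (.leaf 0x0) (.node 4381 (.leaf 0xf0b0b0003) (.leaf 0x0))) (.node 4383 (.leaf 0x0) (.node 4384 (.leaf 0x50201040005000703040103000c) (.leaf 0x0))))) (.node 4390 (.node 4387 (.node 4386 (.leaf 0x40206030802040105000a) (.leaf 0x0)) (.node 4388 (.leaf 0xb0a0002) (.node 4389 (.leaf 0xa0f0002) (.leaf 0x7010106010500020008)))) (.node 4393 (.node 4391 (.leaf 0x1020202020900000802040105000d) (.node 4392 (.leaf 0x0) (.leaf 0x700000900090802040105000b))) (.node 4394 (.leaf 0x0) (.node 4395 (.leaf 0x0) (.leaf 0x112a))))))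

def argWS_387 : Store := (.node 4407 (.node 4401 (.node 4398 (.node 4397 (.leaf 0x0) (.leaf 0xf0a0002)) (.node 4399 (.leaf 0x60301070206000202000701000c) (.node 4400 (.leaf 0x0) (.leaf 0x9020900000005)))) (.node 4404 (.node 4402 (.leaf 0x0) (.node 4403 (.leaf 0x2000400050202000701000a) (.leaf 0x50200090000090202000701000c))) (.node 4405 (.leaf 0x6010206030500040202000701000d) (.node 4406 (.leaf 0x0) (.leaf 0xb0b0002))))) (.node 4413 (.node 4410 (.node 4408 (.leaf 0x6020000020804000008) (.node 4409 (.leaf 0xf0b0b0a0004) (.leaf 0x0))) (.node 4411 (.leaf 0x0) (.node 4412 (.leaf 0xb0b0a0a0004) (.leaf 0x20002)))) (.node 4416 (.node 4414 (.leaf 0x0) (.node 4415 (.leaf 0x0) (.leaf 0x0))) (.node 4417 (.leaf 0x4040002) (.node 4418 (.leaf 0x0) (.leaf 0xa0001))))))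

def argWS_388 : Store := (.node 4396 argWS_386 argWS_387)

def argWS_389 : Store := (.node 4374 argWS_385 argWS_388)

def argWS_390 : Store := (.node 4430 (.node 4424 (.node 4421 (.node 4420 (.leaf 0xe0001) (.leaf 0xb0f0a0a0004)) (.node 4422 (.leaf 0xb0a0a0003) (.node 4423 (.leaf 0xe0d0002) (.leaf 0xb0001)))) (.node 4427 (.node 4425 (.leaf 0x105000208020401050009) (.node 4426 (.leaf 0x0) (.leaf 0xf0b0b0003))) (.node 4428 (.leaf 0x0) (.node 4429 (.leaf 0x201090007030401030009) (.leaf 0x0))))) (.node 4435 (.node 4432 (.node 4431 (.leaf 0xb0a0a0003) (.leaf 0x0)) (.node 4433 (.leaf 0x114f) (.node 4434 (.leaf 0x604000202090000000703040103000e) (.leaf 0x0)))) (.node 4438 (.node 4436 (.leaf 0xd0b0002) (.node 4437 (.leaf 0x0) (.leaf 0x0))) (.node 4439 (.leaf 0x10102090106000703040103000c) (.node 4440 (.leaf 0x0) (.leaf 0x0))))))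

def argWS_391 : Store := (.node 4452 (.node 4446 (.node 4443 (.node 4442 (.leaf 0xf0b0b0a0a0005) (.leaf 0x1159001158)) (.node 4444 (.leaf 0xb0f0002) (.node 4445 (.leaf 0x0) (.leaf 0xf0b0b0a0a0005)))) (.node 4449 (.node 4447 (.leaf 0xb0001) (.node 4448 (.leaf 0xe0d0002) (.leaf 0xa0f0b0b0004))) (.node 4450 (.leaf 0xf0b0a0003) (.node 4451 (.leaf 0xd0b0002) (.leaf 0xf0a0002))))) (.node 4458 (.node 4455 (.node 4453 (.leaf 0xe0a0002) (.node 4454 (.leaf 0x606020804000006) (.leaf 0x0))) (.node 4456 (.leaf 0xa0f0b0b0004) (.node 4457 (.leaf 0x0) (.leaf 0x1168001164)))) (.node 4461 (.node 4459 (.leaf 0xf0b0a0003) (.node 4460 (.leaf 0x0) (.leaf 0xf0a0a0003))) (.node 4462 (.leaf 0x0) (.node 4463 (.leaf 0x0) (.leaf 0xa0f0b0b0004))))))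

def argWS_392 : Store := (.node 4441 argWS_390 argWS_391)

def argWS_393 : Store := (.node 4475 (.node 4469 (.node 4466 (.node 4465 (.leaf 0x205020901060202000701000b) (.leaf 0x604000508020401050009)) (.node 4467 (.leaf 0x0) (.node 4468 (.leaf 0xf0b0b0a0004) (.leaf 0x0)))) (.node 4472 (.node 4470 (.leaf 0x37c001174) (.node 4471 (.leaf 0x200020900090006) (.leaf 0x0))) (.node 4473 (.leaf 0xb0b0a0a0004) (.node 4474 (.leaf 0x0) (.leaf 0xa0f0b0b0004))))) (.node 4480 (.node 4477 (.node 4476 (.leaf 0xb0f0a0a0004) (.leaf 0x60601010703060202000701000c)) (.node 4478 (.leaf 0x202000408010006) (.node 4479 (.leaf 0xa0f0b0b0004) (.leaf 0x6010201090109000703040103000d)))) (.node 4483 (.node 4481 (.leaf 0x0) (.node 4482 (.leaf 0x0) (.leaf 0x70206020007010007))) (.node 4484 (.leaf 0x0) (.node 4485 (.leaf 0xa0f0b0003) (.leaf 0x0))))))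

def argWS_394 : Store := (.node 4497 (.node 4491 (.node 4488 (.node 4487 (.leaf 0x1185001181) (.leaf 0x6000300000005)) (.node 4489 (.leaf 0x0) (.node 4490 (.leaf 0xa0a0002) (.leaf 0x0)))) (.node 4494 (.node 4492 (.leaf 0x2020703060202000701000a) (.node 4493 (.leaf 0x0) (.leaf 0xe0d0002))) (.node 4495 (.leaf 0x8050002020900000802040105000d) (.node 4496 (.leaf 0x0) (.leaf 0x0))))) (.node 4503 (.node 4500 (.node 4498 (.leaf 0x1190) (.node 4499 (.leaf 0xf0b0b0003) (.leaf 0x0))) (.node 4501 (.leaf 0xb0f0a0a0004) (.node 4502 (.leaf 0x0) (.leaf 0x403000207030802040105000b)))) (.node 4506 (.node 4504 (.leaf 0x0) (.node 4505 (.leaf 0x0) (.leaf 0xf0b0b0a0a0005))) (.node 4507 (.leaf 0x1199001198) (.node 4508 (.leaf 0xb0b0a0a0004) (.leaf 0x0))))))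

def argWS_395 : Store := (.node 4486 argWS_393 argWS_394)

def argWS_396 : Store := (.node 4464 argWS_392 argWS_395)

def argWS_397 : Store := (.node 4419 argWS_389 argWS_396)

def argWS_398 : Store := (.node 4520 (.node 4514 (.node 4511 (.node 4510 (.leaf 0x2020200030306040202000701000d) (.leaf 0x0)) (.node 4512 (.leaf 0xb0a0f0003) (.node 4513 (.leaf 0xb0a0002) (.leaf 0xb0f0002)))) (.node 4517 (.node 4515 (.leaf 0xb0a0f0003) (.node 4516 (.leaf 0x50000090806000202000701000c) (.leaf 0x0))) (.node 4518 (.leaf 0x0) (.node 4519 (.leaf 0x11a5) (.leaf 0xe0001))))) (.node 4525 (.node 4522 (.node 4521 (.leaf 0x0) (.leaf 0xa0f0002)) (.node 4523 (.leaf 0xb0f0a0003) (.node 4524 (.leaf 0xe0a0a0003) (.leaf 0xf0a0002)))) (.node 4528 (.node 4526 (.leaf 0xb0f0a0003) (.node 4527 (.leaf 0xf0b0a0a0004) (.leaf 0xe0001))) (.node 4529 (.leaf 0x7040004080703040103000a) (.node 4530 (.leaf 0x0) (.leaf 0xf0b0b0a0a0005))))))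

def argWS_399 : Store := (.node 4542 (.node 4536 (.node 4533 (.node 4532 (.leaf 0x0) (.leaf 0x11b3)) (.node 4534 (.leaf 0x3070703060202000701000a) (.node 4535 (.leaf 0x0) (.leaf 0xf0b0002)))) (.node 4539 (.node 4537 (.leaf 0x0) (.node 4538 (.leaf 0x6040002000003010008) (.leaf 0x0))) (.node 4540 (.leaf 0xa0f0b0003) (.node 4541 (.leaf 0x600000408010802040105000b) (.leaf 0x0))))) (.node 4548 (.node 4545 (.node 4543 (.leaf 0x0) (.node 4544 (.leaf 0x0) (.leaf 0xb0b0a0a0004))) (.node 4546 (.leaf 0x2010002) (.node 4547 (.leaf 0x0) (.leaf 0x0)))) (.node 4551 (.node 4549 (.leaf 0x0) (.node 4550 (.leaf 0x4040002) (.leaf 0x0))) (.node 4552 (.leaf 0xf0b0002) (.node 4553 (.leaf 0xf0b0b0a0a0005) (.leaf 0xd0001))))))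

def argWS_400 : Store := (.node 4531 argWS_398 argWS_399)

def argWS_401 : Store := (.node 4565 (.node 4559 (.node 4556 (.node 4555 (.leaf 0xf0a0a0003) (.leaf 0x202060402020007010009)) (.node 4557 (.leaf 0x0) (.node 4558 (.leaf 0xa0f0002) (.leaf 0x0)))) (.node 4562 (.node 4560 (.leaf 0x11ce00018d) (.node 4561 (.leaf 0xd0b0b0003) (.leaf 0x0))) (.node 4563 (.leaf 0x4000300020804000008) (.node 4564 (.leaf 0x0) (.leaf 0xf0b0002))))) (.node 4570 (.node 4567 (.node 4566 (.leaf 0xe0001) (.leaf 0xf0b0b0a0004)) (.node 4568 (.leaf 0xd0001) (.node 4569 (.leaf 0xb0b0a0a0004) (.leaf 0xf0a0a0003)))) (.node 4573 (.node 4571 (.leaf 0x20202090106000703040103000c) (.node 4572 (.leaf 0x0) (.leaf 0x0))) (.node 4574 (.leaf 0x109030301010200000703040103000e) (.node 4575 (.leaf 0x0) (.leaf 0xf0a0a0003))))))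

def argWS_402 : Store := (.node 4587 (.node 4581 (.node 4578 (.node 4577 (.leaf 0x0) (.leaf 0x11e0)) (.node 4579 (.leaf 0xf0b0b0a0a0005) (.node 4580 (.leaf 0x0) (.leaf 0xf0b0b0a0a0005)))) (.node 4584 (.node 4582 (.leaf 0x0) (.node 4583 (.leaf 0x0) (.leaf 0x300020804000007))) (.node 4585 (.leaf 0x0) (.node 4586 (.leaf 0xf0b0a0003) (.leaf 0x0))))) (.node 4593 (.node 4590 (.node 4588 (.leaf 0xe0a0002) (.node 4589 (.leaf 0xb0f0002) (.leaf 0x202020207030802040105000b))) (.node 4591 (.leaf 0x0) (.node 4592 (.leaf 0xd0001) (.leaf 0x0)))) (.node 4596 (.node 4594 (.leaf 0x5d60011f0) (.node 4595 (.leaf 0x10201070209020007) (.leaf 0x0))) (.node 4597 (.leaf 0xb0f0a0003) (.node 4598 (.leaf 0x0) (.leaf 0xf0b0002))))))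

def argWS_403 : Store := (.node 4576 argWS_401 argWS_402)

def argWS_404 : Store := (.node 4554 argWS_400 argWS_403)

def argWS_405 : Store := (.node 4610 (.node 4604 (.node 4601 (.node 4600 (.leaf 0x0) (.leaf 0x0)) (.node 4602 (.leaf 0xd0b0b0003) (.node 4603 (.leaf 0x502000003030604000703040103000e) (.leaf 0x0)))) (.node 4607 (.node 4605 (.leaf 0xe0a0002) (.node 4606 (.leaf 0x605010603050004000703040103000e) (.leaf 0x0))) (.node 4608 (.leaf 0xe0001) (.node 4609 (.leaf 0x0) (.leaf 0x1200))))) (.node 4615 (.node 4612 (.node 4611 (.leaf 0xe0a0a0003) (.leaf 0x0)) (.node 4613 (.leaf 0x0) (.node 4614 (.leaf 0xb0b0a0003) (.leaf 0x20107020902000703040103000c)))) (.node 4618 (.node 4616 (.leaf 0x0) (.node 4617 (.leaf 0x0) (.leaf 0x1208))) (.node 4619 (.leaf 0xf0b0b0a0004) (.node 4620 (.leaf 0x0) (.leaf 0x0))))))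

def argWS_406 : Store := (.node 4632 (.node 4626 (.node 4623 (.node 4622 (.leaf 0xd0001) (.leaf 0xa0f0002)) (.node 4624 (.leaf 0x1040002000003010802040105000d) (.node 4625 (.leaf 0x0) (.leaf 0xf0b0b0a0a0005)))) (.node 4629 (.node 4627 (.leaf 0x0) (.node 4628 (.leaf 0x906010500020802040105000b) (.leaf 0x0))) (.node 4630 (.leaf 0xa0f0002) (.node 4631 (.leaf 0x0) (.leaf 0x1216001212))))) (.node 4638 (.node 4635 (.node 4633 (.leaf 0x600000207030006) (.node 4634 (.leaf 0x0) (.leaf 0xf0a0002))) (.node 4636 (.leaf 0x0) (.node 4637 (.leaf 0x4030401090805000703040103000d) (.leaf 0x0)))) (.node 4641 (.node 4639 (.leaf 0xb0a0002) (.node 4640 (.leaf 0xd0001) (.leaf 0xe0a0002))) (.node 4642 (.leaf 0xa0001) (.node 4643 (.leaf 0xb0f0002) (.leaf 0x1090206020802040105000a))))))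

def argWS_407 : Store := (.node 4621 argWS_405 argWS_406)

def argWS_408 : Store := (.node 4655 (.node 4649 (.node 4646 (.node 4645 (.leaf 0x0) (.leaf 0x700090206020202000701000b)) (.node 4647 (.leaf 0x704000502020007010009) (.node 4648 (.leaf 0x0) (.leaf 0x0)))) (.node 4652 (.node 4650 (.leaf 0x1228) (.node 4651 (.leaf 0x7050004080703040103000a) (.leaf 0x0))) (.node 4653 (.leaf 0xf0b0b0003) (.node 4654 (.leaf 0x0) (.leaf 0xf0b0002))))) (.node 4661 (.node 4658 (.node 4656 (.leaf 0x0) (.node 4657 (.leaf 0x0) (.leaf 0xa0f0002))) (.node 4659 (.leaf 0xd0b0002) (.node 4660 (.leaf 0xd0b0b0003) (.leaf 0xa0a0002)))) (.node 4664 (.node 4662 (.leaf 0x70406020702010802040105000c) (.node 4663 (.leaf 0x0) (.leaf 0x704070206000202000701000b))) (.node 4665 (.leaf 0x0) (.node 4666 (.leaf 0xe0a0002) (.leaf 0x0))))))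

def argWS_409 : Store := (.node 4678 (.node 4672 (.node 4669 (.node 4668 (.leaf 0x70400090206020202000701000c) (.leaf 0x0)) (.node 4670 (.leaf 0x0) (.node 4671 (.leaf 0x123d00060e) (.leaf 0xe0a0a0003)))) (.node 4675 (.node 4673 (.leaf 0x0) (.node 4674 (.leaf 0x9010406010500020008) (.leaf 0x0))) (.node 4676 (.leaf 0xb0a0f0003) (.node 4677 (.leaf 0x80300090806000802040105000c) (.leaf 0xe0a0a0003))))) (.node 4684 (.node 4681 (.node 4679 (.leaf 0x0) (.node 4680 (.leaf 0x0) (.leaf 0xb0b0a0a0004))) (.node 4682 (.leaf 0x2000002) (.node 4683 (.leaf 0x0) (.leaf 0x0)))) (.node 4687 (.node 4685 (.leaf 0x0) (.node 4686 (.leaf 0x4040002) (.leaf 0x0))) (.node 4688 (.leaf 0xf0b0002) (.node 4689 (.leaf 0xb0a0f0003) (.leaf 0xd0b0b0003))))))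

def argWS_410 : Store := (.node 4667 argWS_408 argWS_409)

def argWS_411 : Store := (.node 4644 argWS_407 argWS_410)

def argWS_412 : Store := (.node 4599 argWS_404 argWS_411)

def argWS_413 : Store := (.node 4509 argWS_397 argWS_412)

def argWS_414 : Store := (.node 4701 (.node 4695 (.node 4692 (.node 4691 (.leaf 0xf0b0a0a0004) (.leaf 0x1020702010005)) (.node 4693 (.leaf 0x0) (.node 4694 (.leaf 0xa0001) (.leaf 0x0)))) (.node 4698 (.node 4696 (.leaf 0x125600085a) (.node 4697 (.leaf 0x700000308000703040103000b) (.leaf 0x0))) (.node 4699 (.leaf 0xd0b0002) (.node 4700 (.leaf 0x0) (.leaf 0x503070009020007010009))))) (.node 4706 (.node 4703 (.node 4702 (.leaf 0x0) (.leaf 0xf0a0002)) (.node 4704 (.leaf 0xd0b0b0003) (.node 4705 (.leaf 0x3770001dc) (.leaf 0x502010207030802040105000b)))) (.node 4709 (.node 4707 (.leaf 0x0) (.node 4708 (.leaf 0x0) (.leaf 0xe0a0002))) (.node 4710 (.leaf 0x0) (.node 4711 (.leaf 0x0) (.leaf 0xd0b0002))))))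

def argWS_415 : Store := (.node 4723 (.node 4717 (.node 4714 (.node 4713 (.leaf 0x1267) (.leaf 0xb0001)) (.node 4715 (.leaf 0x0) (.node 4716 (.leaf 0xf0b0b0003) (.leaf 0xf0b0b0003)))) (.node 4720 (.node 4718 (.leaf 0x0) (.node 4719 (.leaf 0xf0b0a0a0004) (.leaf 0x207010908050802040105000b))) (.node 4721 (.leaf 0x0) (.node 4722 (.leaf 0xe0a0002) (.leaf 0xf0b0b0a0a0005))))) (.node 4729 (.node 4726 (.node 4724 (.leaf 0x60400050202000701000a) (.node 4725 (.leaf 0x0) (.leaf 0x0))) (.node 4727 (.leaf 0x1275001272) (.node 4728 (.leaf 0xf0b0a0a0004) (.leaf 0x0)))) (.node 4732 (.node 4730 (.leaf 0x40205090000090007) (.node 4731 (.leaf 0x0) (.leaf 0xf0b0002))) (.node 4733 (.leaf 0xe0d0002) (.node 4734 (.leaf 0xf0a0a0003) (.leaf 0xb0b0002))))))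

def argWS_416 : Store := (.node 4712 argWS_414 argWS_415)

def argWS_417 : Store := (.node 4746 (.node 4740 (.node 4737 (.node 4736 (.leaf 0x904070009030006) (.leaf 0xf0b0b0a0004)) (.node 4738 (.leaf 0x9030002000003010008) (.node 4739 (.leaf 0x0) (.leaf 0x0)))) (.node 4743 (.node 4741 (.leaf 0x1283) (.node 4742 (.leaf 0xf0b0a0003) (.leaf 0x0))) (.node 4744 (.leaf 0x0) (.node 4745 (.leaf 0x50305020000030703040103000c) (.leaf 0x0))))) (.node 4751 (.node 4748 (.node 4747 (.leaf 0xb0f0a0a0004) (.leaf 0x0)) (.node 4749 (.leaf 0xb0a0002) (.node 4750 (.leaf 0x128c00128b) (.leaf 0xf0b0b0a0004)))) (.node 4754 (.node 4752 (.leaf 0x0) (.node 4753 (.leaf 0x0) (.leaf 0xb0001))) (.node 4755 (.leaf 0xe0a0a0003) (.node 4756 (.leaf 0x907090000090802040105000b) (.leaf 0x0))))))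

def argWS_418 : Store := (.node 4768 (.node 4762 (.node 4759 (.node 4758 (.leaf 0xb0f0002) (.leaf 0x209000908020401050009)) (.node 4760 (.leaf 0xa0001) (.node 4761 (.leaf 0xa0f0b0b0004) (.leaf 0x0)))) (.node 4765 (.node 4763 (.leaf 0x0) (.node 4764 (.leaf 0xb0b0a0a0004) (.leaf 0x9010002))) (.node 4766 (.leaf 0x0) (.node 4767 (.leaf 0x0) (.leaf 0x0))))) (.node 4774 (.node 4771 (.node 4769 (.leaf 0x4040002) (.node 4770 (.leaf 0x0) (.leaf 0xb0f0002))) (.node 4772 (.leaf 0xb0a0002) (.node 4773 (.leaf 0x205070209020202000701000b) (.leaf 0x0)))) (.node 4777 (.node 4775 (.leaf 0xd0b0b0003) (.node 4776 (.leaf 0xe0a0002) (.leaf 0xb0b0002))) (.node 4778 (.leaf 0x206000300000202000701000b) (.node 4779 (.leaf 0x0) (.leaf 0x0))))))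

def argWS_419 : Store := (.node 4757 argWS_417 argWS_418)

def argWS_420 : Store := (.node 4735 argWS_416 argWS_419)

def argWS_421 : Store := (.node 4791 (.node 4785 (.node 4782 (.node 4781 (.leaf 0x20109000009000703040103000c) (.leaf 0x0)) (.node 4783 (.leaf 0x0) (.node 4784 (.leaf 0x12ae0012ab) (.leaf 0xa0f0b0b0004)))) (.node 4788 (.node 4786 (.leaf 0x0) (.node 4787 (.leaf 0x70209020004) (.leaf 0x0))) (.node 4789 (.leaf 0xa0f0b0003) (.node 4790 (.leaf 0xf0b0a0003) (.leaf 0x305020901060006))))) (.node 4796 (.node 4793 (.node 4792 (.leaf 0x0) (.leaf 0xf0a0a0003)) (.node 4794 (.leaf 0x0) (.node 4795 (.leaf 0x12b9) (.leaf 0xf0b0002)))) (.node 4799 (.node 4797 (.leaf 0x0) (.node 4798 (.leaf 0xb0b0a0003) (.leaf 0x0))) (.node 4800 (.leaf 0x0) (.node 4801 (.leaf 0xd0b0002) (.leaf 0x903000206020007010009))))))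

def argWS_422 : Store := (.node 4813 (.node 4807 (.node 4804 (.node 4803 (.leaf 0x0) (.leaf 0xa0f0b0003)) (.node 4805 (.leaf 0xb0a0002) (.node 4806 (.leaf 0x6010205020604000703040103000d) (.leaf 0x0)))) (.node 4810 (.node 4808 (.leaf 0x0) (.node 4809 (.leaf 0x105020202010802040105000b) (.leaf 0x0))) (.node 4811 (.leaf 0xe0a0a0003) (.node 4812 (.leaf 0x0) (.leaf 0x20106010500020202000701000c))))) (.node 4819 (.node 4816 (.node 4814 (.leaf 0x0) (.node 4815 (.leaf 0xf0b0b0a0004) (.leaf 0x0))) (.node 4817 (.leaf 0xf0a0002) (.node 4818 (.leaf 0x12d00012cf) (.leaf 0xb0f0a0003)))) (.node 4822 (.node 4820 (.leaf 0x0) (.node 4821 (.leaf 0x5000000020804000802040105000d) (.leaf 0x0))) (.node 4823 (.leaf 0xd0b0002) (.node 4824 (.leaf 0x9070009020007010008) (.leaf 0x0))))))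

def argWS_423 : Store := (.node 4802 argWS_421 argWS_422)

def argWS_424 : Store := (.node 4836 (.node 4830 (.node 4827 (.node 4826 (.leaf 0x80004090009000703040103000c) (.leaf 0x8000000020804000802040105000d)) (.node 4828 (.leaf 0x0) (.node 4829 (.leaf 0xb0f0a0a0004) (.leaf 0x0)))) (.node 4833 (.node 4831 (.leaf 0xf0b0b0a0a0005) (.node 4832 (.leaf 0x1245) (.leaf 0xf0b0b0003))) (.node 4834 (.leaf 0x0) (.node 4835 (.leaf 0x90306030500040802040105000c) (.leaf 0x0))))) (.node 4841 (.node 4838 (.node 4837 (.leaf 0xb0a0a0003) (.leaf 0x20003010102000202000701000d)) (.node 4839 (.leaf 0x0) (.node 4840 (.leaf 0xd0b0002) (.leaf 0x0)))) (.node 4844 (.node 4842 (.leaf 0xf0a0a0003) (.node 4843 (.leaf 0x20403010102000007) (.leaf 0x0))) (.node 4845 (.leaf 0xf0b0b0a0a0005) (.node 4846 (.leaf 0x0) (.leaf 0xe0d0002))))))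

def argWS_425 : Store := (.node 4858 (.node 4852 (.node 4849 (.node 4848 (.leaf 0xa0f0b0003) (.leaf 0x107020901060802040105000b)) (.node 4850 (.leaf 0x0) (.node 4851 (.leaf 0xf0a0a0003) (.leaf 0x0)))) (.node 4855 (.node 4853 (.leaf 0xa0a0002) (.node 4854 (.leaf 0x12f40012f3) (.leaf 0xb0f0002))) (.node 4856 (.leaf 0x0) (.node 4857 (.leaf 0x8050009000009000703040103000d) (.leaf 0x0))))) (.node 4864 (.node 4861 (.node 4859 (.leaf 0xf0b0b0a0a0005) (.node 4860 (.leaf 0x20106060802040105000a) (.leaf 0xf0001))) (.node 4862 (.leaf 0x4030009000009000703040103000d) (.node 4863 (.leaf 0x0) (.leaf 0x0)))) (.node 4867 (.node 4865 (.leaf 0xb0b0a0a0004) (.node 4866 (.leaf 0x9020106060802040105000a) (.leaf 0x0))) (.node 4868 (.leaf 0x0) (.node 4869 (.leaf 0x0) (.leaf 0x4040002))))))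

def argWS_426 : Store := (.node 4847 argWS_424 argWS_425)

def argWS_427 : Store := (.node 4825 argWS_423 argWS_426)

def argWS_428 : Store := (.node 4780 argWS_420 argWS_427)

def argWS_429 : Store := (.node 4881 (.node 4875 (.node 4872 (.node 4871 (.leaf 0x0) (.leaf 0xb0a0002)) (.node 4873 (.leaf 0xf0a0a0003) (.node 4874 (.leaf 0xf0a0002) (.leaf 0x600070206000006)))) (.node 4878 (.node 4876 (.leaf 0x0) (.node 4877 (.leaf 0xd0001) (.leaf 0x707030401030006))) (.node 4879 (.leaf 0x0) (.node 4880 (.leaf 0xa0f0b0b0004) (.leaf 0xf0b0b0003))))) (.node 4886 (.node 4883 (.node 4882 (.leaf 0xf0b0b0a0a0005) (.leaf 0xd0b0b0003)) (.node 4884 (.leaf 0xe0001) (.node 4885 (.leaf 0x50000020804000802040105000c) (.leaf 0x0)))) (.node 4889 (.node 4887 (.leaf 0xa0f0002) (.node 4888 (.leaf 0x9050901060202000701000a) (.leaf 0x0))) (.node 4890 (.leaf 0x1090106060202000701000a) (.node 4891 (.leaf 0x0) (.leaf 0x0))))))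

def argWS_430 : Store := (.node 4903 (.node 4897 (.node 4894 (.node 4893 (.leaf 0x131b001298) (.leaf 0xf0a0002)) (.node 4895 (.leaf 0xf0b0a0a0004) (.node 4896 (.leaf 0xeba) (.leaf 0xa0a0002)))) (.node 4900 (.node 4898 (.leaf 0x0) (.node 4899 (.leaf 0xf0001) (.leaf 0x0))) (.node 4901 (.leaf 0x0) (.node 4902 (.leaf 0xa0f0002) (.leaf 0x200040005000703040103000b))))) (.node 4909 (.node 4906 (.node 4904 (.leaf 0x0) (.node 4905 (.leaf 0xa0f0b0003) (.leaf 0x0))) (.node 4907 (.leaf 0xa84001329) (.node 4908 (.leaf 0xe0a0a0003) (.leaf 0x0)))) (.node 4912 (.node 4910 (.leaf 0x40205010908050007) (.node 4911 (.leaf 0x0) (.leaf 0xf0b0002))) (.node 4913 (.leaf 0x60005020202010008) (.node 4914 (.leaf 0x0) (.leaf 0xb0f0002))))))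

def argWS_431 : Store := (.node 4892 argWS_429 argWS_430)

def argWS_432 : Store := (.node 4926 (.node 4920 (.node 4917 (.node 4916 (.leaf 0xf0b0a0003) (.leaf 0x703000008020401050009)) (.node 4918 (.leaf 0x0) (.node 4919 (.leaf 0x0) (.leaf 0x1336)))) (.node 4923 (.node 4921 (.leaf 0xd0b0002) (.node 4922 (.leaf 0x0) (.leaf 0xf0a0a0003))) (.node 4924 (.leaf 0xf0b0b0a0004) (.node 4925 (.leaf 0x0) (.leaf 0x0))))) (.node 4931 (.node 4928 (.node 4927 (.leaf 0xa0f0b0b0004) (.leaf 0x30000090206020007)) (.node 4929 (.leaf 0x0) (.node 4930 (.leaf 0x0) (.leaf 0x1341000187)))) (.node 4934 (.node 4932 (.leaf 0xb0b0002) (.node 4933 (.leaf 0x0) (.leaf 0x2020207020007010008))) (.node 4935 (.leaf 0x0) (.node 4936 (.leaf 0xa0a0002) (.leaf 0xb0b0a0a0004))))))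

def argWS_433 : Store := (.node 4948 (.node 4942 (.node 4939 (.node 4938 (.leaf 0xb0a0f0003) (.leaf 0x5000006010500020802040105000d)) (.node 4940 (.leaf 0x0) (.node 4941 (.leaf 0xf0b0a0a0004) (.leaf 0x0)))) (.node 4945 (.node 4943 (.leaf 0x134d) (.node 4944 (.leaf 0xe0d0002) (.leaf 0x0))) (.node 4946 (.leaf 0xb0a0a0003) (.node 4947 (.leaf 0x0) (.leaf 0x0))))) (.node 4954 (.node 4951 (.node 4949 (.leaf 0xf0b0b0003) (.node 4950 (.leaf 0x103050004000703040103000b) (.leaf 0x0))) (.node 4952 (.leaf 0xf0001) (.node 4953 (.leaf 0x0) (.leaf 0x1358001354)))) (.node 4957 (.node 4955 (.leaf 0x3010904020202000701000b) (.node 4956 (.leaf 0x0) (.leaf 0xe0a0002))) (.node 4958 (.leaf 0x0) (.node 4959 (.leaf 0x90602020900000202000701000c) (.leaf 0x0))))))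

def argWS_434 : Store := (.node 4937 argWS_432 argWS_433)

def argWS_435 : Store := (.node 4915 argWS_431 argWS_434)

def argWS_436 : Store := (.node 4971 (.node 4965 (.node 4962 (.node 4961 (.leaf 0xa0a0002) (.leaf 0x40106020702010802040105000c)) (.node 4963 (.leaf 0x0) (.node 4964 (.leaf 0x0) (.leaf 0xdeb001363)))) (.node 4968 (.node 4966 (.leaf 0x702090806000202000701000b) (.node 4967 (.leaf 0x0) (.leaf 0xf0b0002))) (.node 4969 (.leaf 0x0) (.node 4970 (.leaf 0xf0b0a0003) (.leaf 0x0))))) (.node 4976 (.node 4973 (.node 4972 (.leaf 0x0) (.leaf 0xf0a0002)) (.node 4974 (.leaf 0x1010602020007010008) (.node 4975 (.leaf 0x0) (.leaf 0xd0b0b0003)))) (.node 4979 (.node 4977 (.leaf 0xe0001) (.node 4978 (.leaf 0x1370001145) (.leaf 0xb0b0a0003))) (.node 4980 (.leaf 0x0) (.node 4981 (.leaf 0xa0f0b0b0004) (.leaf 0xb0f0a0003))))))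

def argWS_437 : Store := (.node 4993 (.node 4987 (.node 4984 (.node 4983 (.leaf 0x0) (.leaf 0x502090000090202000701000b)) (.node 4985 (.leaf 0x0) (.node 4986 (.leaf 0x0) (.leaf 0x1379)))) (.node 4990 (.node 4988 (.leaf 0xf0a0002) (.node 4989 (.leaf 0x0) (.leaf 0xb0a0f0003))) (.node 4991 (.leaf 0x0) (.node 4992 (.leaf 0x9050300090206020008) (.leaf 0x0))))) (.node 4999 (.node 4996 (.node 4994 (.leaf 0xf0001) (.node 4995 (.leaf 0x0) (.leaf 0x90700040005000703040103000c))) (.node 4997 (.leaf 0x0) (.node 4998 (.leaf 0x0) (.leaf 0x8030000000300000008)))) (.node 5002 (.node 5000 (.leaf 0x0) (.node 5001 (.leaf 0xf0001) (.leaf 0x0))) (.node 5003 (.leaf 0x1389001385) (.node 5004 (.leaf 0x4000303010102000202000701000d) (.leaf 0x0))))))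

def argWS_438 : Store := (.node 4982 argWS_436 argWS_437)

def argWS_439 : Store := (.node 5016 (.node 5010 (.node 5007 (.node 5006 (.leaf 0xa0f0b0b0004) (.leaf 0x0)) (.node 5008 (.leaf 0x1080002) (.node 5009 (.leaf 0x0) (.leaf 0xb0b0a0a0004)))) (.node 5013 (.node 5011 (.leaf 0x903000206030802040105000b) (.node 5012 (.leaf 0x0) (.leaf 0xe0a0002))) (.node 5014 (.leaf 0x0) (.node 5015 (.leaf 0x5f9001395) (.leaf 0x4030006020702010202000701000d))))) (.node 5022 (.node 5019 (.node 5017 (.leaf 0x0) (.node 5018 (.leaf 0xa0a0002) (.leaf 0x0))) (.node 5020 (.leaf 0xb0a0a0003) (.node 5021 (.leaf 0xb0f0a0003) (.leaf 0xe0a0a0003)))) (.node 5025 (.node 5023 (.leaf 0xb0b0a0003) (.node 5024 (.leaf 0x6000000030306040202000701000d) (.leaf 0x0))) (.node 5026 (.leaf 0xb0f0a0003) (.node 5027 (.leaf 0x0) (.leaf 0x13a2))))))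

def argWS_440 : Store := (.node 5039 (.node 5033 (.node 5030 (.node 5029 (.leaf 0xa0f0002) (.leaf 0x0)) (.node 5031 (.leaf 0x704080102020007010009) (.node 5032 (.leaf 0x0) (.leaf 0xd0b0b0003)))) (.node 5036 (.node 5034 (.leaf 0xe0001) (.node 5035 (.leaf 0x1070000000300000802040105000d) (.leaf 0x0))) (.node 5037 (.leaf 0x40205090009000703040103000c) (.node 5038 (.leaf 0x4020506010500020008) (.leaf 0x0))))) (.node 5045 (.node 5042 (.node 5040 (.leaf 0x20502010908050202000701000c) (.node 5041 (.leaf 0x0) (.leaf 0x0))) (.node 5043 (.leaf 0x13320013b1) (.node 5044 (.leaf 0x80200070206000007) (.leaf 0x0)))) (.node 5048 (.node 5046 (.leaf 0xb0f0a0a0004) (.node 5047 (.leaf 0x0) (.leaf 0x10409080600000703040103000c))) (.node 5049 (.leaf 0x0) (.node 5050 (.leaf 0xb0a0f0003) (.leaf 0x80008020401050007))))))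

def argWS_441 : Store := (.node 5028 argWS_439 argWS_440)

def argWS_442 : Store := (.node 5005 argWS_438 argWS_441)

def argWS_443 : Store := (.node 4960 argWS_435 argWS_442)

def argWS_444 : Store := (.node 4870 argWS_428 argWS_443)

def argWS_445 : Store := (.node 4690 argWS_413 argWS_444)

def argWS_446 : Store := (.node 5062 (.node 5056 (.node 5053 (.node 5052 (.leaf 0x0) (.leaf 0x80101070206000202000701000c)) (.node 5054 (.leaf 0x0) (.node 5055 (.leaf 0xb0f0a0003) (.leaf 0x9010402020900000008)))) (.node 5059 (.node 5057 (.leaf 0x0) (.node 5058 (.leaf 0x3070000000300000802040105000d) (.leaf 0x0))) (.node 5060 (.leaf 0x0) (.node 5061 (.leaf 0x3010102000802040105000a) (.leaf 0x0))))) (.node 5067 (.node 5064 (.node 5063 (.leaf 0x0) (.leaf 0x13c600094e)) (.node 5065 (.leaf 0xb0a0a0003) (.node 5066 (.leaf 0x0) (.leaf 0x6010201070206000802040105000d)))) (.node 5070 (.node 5068 (.leaf 0x0) (.node 5069 (.leaf 0xf0b0a0a0004) (.leaf 0xb0f0a0a0004))) (.node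 5071 (.leaf 0x202010904020802040105000b) (.node 5072 (.leaf 0x0) (.leaf 0xb0b0a0003))))))

def argWS_447 : Store := (.node 5084 (.node 5078 (.node 5075 (.node 5074 (.leaf 0x0) (.leaf 0x5030004080703040103000b)) (.node 5076 (.leaf 0x0) (.node 5077 (.leaf 0xd0b0002) (.leaf 0x0)))) (.node 5081 (.node 5079 (.leaf 0x13d5) (.node 5080 (.leaf 0x10202000408010007) (.leaf 0x0))) (.node 5082 (.leaf 0x0) (.node 5083 (.leaf 0xb0b0002) (.leaf 0x0))))) (.node 5090 (.node 5087 (.node 5085 (.leaf 0x0) (.node 5086 (.leaf 0x90002090106000703040103000c) (.leaf 0x0))) (.node 5088 (.leaf 0xb0a0a0003) (.node 5089 (.leaf 0x0) (.leaf 0xf0a0002)))) (.node 5093 (.node 5091 (.leaf 0x13e1) (.node 5092 (.leaf 0x20202050206040202000701000c) (.leaf 0x0))) (.node 5094 (.leaf 0xf0b0b0a0a0005) (.node 5095 (.leaf 0x0) (.leaf 0x0))))))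

def argWS_448 : Store := (.node 5073 argWS_446 argWS_447)

def argWS_449 : Store := (.node 5107 (.node 5101 (.node 5098 (.node 5097 (.leaf 0x3010900090202000701000a) (.leaf 0x0)) (.node 5099 (.leaf 0x90005020202010202000701000c) (.node 5100 (.leaf 0x0) (.leaf 0xb0a0f0003)))) (.node 5104 (.node 5102 (.leaf 0x0) (.node 5103 (.leaf 0xb0b0a0a0004) (.leaf 0x13ee0013ed))) (.node 5105 (.leaf 0x901040000030000000703040103000e) (.node 5106 (.leaf 0x0) (.leaf 0xf0001))))) (.node 5112 (.node 5109 (.node 5108 (.leaf 0x0) (.leaf 0x0)) (.node 5110 (.leaf 0xf0b0b0a0004) (.node 5111 (.leaf 0x503070206000006) (.leaf 0x60301090806000007)))) (.node 5115 (.node 5113 (.leaf 0x0) (.node 5114 (.leaf 0x0) (.leaf 0x13f90004a4))) (.node 5116 (.leaf 0xa0f0002) (.node 5117 (.leaf 0x0) (.leaf 0x704010703060202000701000b))))))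

def argWS_450 : Store := (.node 5129 (.node 5123 (.node 5120 (.node 5119 (.leaf 0x0) (.leaf 0x9030002000003010202000701000d)) (.node 5121 (.leaf 0xb0b0a0003) (.node 5122 (.leaf 0x4090009000703040103000a) (.leaf 0x0)))) (.node 5126 (.node 5124 (.leaf 0x606010500020802040105000b) (.node 5125 (.leaf 0xf0b0b0a0a0005) (.leaf 0x20200070209020202000701000c))) (.node 5127 (.leaf 0x0) (.node 5128 (.leaf 0x0) (.leaf 0x1407))))) (.node 5135 (.node 5132 (.node 5130 (.leaf 0x9020703000703040103000a) (.node 5131 (.leaf 0x0) (.leaf 0xf0a0a0003))) (.node 5133 (.leaf 0x0) (.node 5134 (.leaf 0x4090106000703040103000a) (.leaf 0x0)))) (.node 5138 (.node 5136 (.leaf 0xb0f0a0003) (.node 5137 (.leaf 0xa0f0b0b0004) (.leaf 0xa0f0b0003))) (.node 5139 (.leaf 0xb0f0002) (.node 5140 (.leaf 0x200020603000703040103000b) (.leaf 0x0))))))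

def argWS_451 : Store := (.node 5118 argWS_449 argWS_450)

def argWS_452 : Store := (.node 5096 argWS_448 argWS_451)

def argWS_453 : Store := (.node 5152 (.node 5146 (.node 5143 (.node 5142 (.leaf 0xb0a0a0003) (.leaf 0x0)) (.node 5144 (.leaf 0x1416) (.node 5145 (.leaf 0xa0f0b0b0004) (.leaf 0x0)))) (.node 5149 (.node 5147 (.leaf 0x0) (.node 5148 (.leaf 0x7090806000005) (.leaf 0x0))) (.node 5150 (.leaf 0xb0b0002) (.node 5151 (.leaf 0x0) (.leaf 0x90300090009000703040103000c))))) (.node 5157 (.node 5154 (.node 5153 (.leaf 0x0) (.leaf 0xb0b0a0a0004)) (.node 5155 (.leaf 0x0) (.node 5156 (.leaf 0x142200141e) (.leaf 0x10300060207020703040103000c)))) (.node 5160 (.node 5158 (.leaf 0x0) (.node 5159 (.leaf 0xd0b0002) (.leaf 0x0))) (.node 5161 (.leaf 0x400040400050202000701000b) (.node 5162 (.leaf 0x0) (.leaf 0xe0d0002))))))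

def argWS_454 : Store := (.node 5174 (.node 5168 (.node 5165 (.node 5164 (.leaf 0xa0001) (.leaf 0x30700000408010202000701000c)) (.node 5166 (.leaf 0x0) (.node 5167 (.leaf 0xb0f0a0a0004) (.leaf 0x9070002090106000703040103000d)))) (.node 5171 (.node 5169 (.leaf 0x0) (.node 5170 (.leaf 0xd0b0002) (.leaf 0x0))) (.node 5172 (.leaf 0xb0a0a0003) (.node 5173 (.leaf 0x1433) (.leaf 0xf0b0b0a0004))))) (.node 5180 (.node 5177 (.node 5175 (.leaf 0x0) (.node 5176 (.leaf 0x8030000030306040202000701000d) (.leaf 0x0))) (.node 5178 (.leaf 0xb0a0f0003) (.node 5179 (.leaf 0xa0f0002) (.leaf 0xf0a0002)))) (.node 5183 (.node 5181 (.leaf 0x403000901090202000701000b) (.node 5182 (.leaf 0x0) (.leaf 0x0))) (.node 5184 (.leaf 0x143e00143b) (.node 5185 (.leaf 0xb0f0a0a0004) (.leaf 0x0))))))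

def argWS_455 : Store := (.node 5163 argWS_453 argWS_454)

def argWS_456 : Store := (.node 5197 (.node 5191 (.node 5188 (.node 5187 (.leaf 0xb0b0002) (.leaf 0x0)) (.node 5189 (.leaf 0x0) (.node 5190 (.leaf 0x7010900090005) (.leaf 0x0)))) (.node 5194 (.node 5192 (.leaf 0xb0b0a0a0004) (.node 5193 (.leaf 0x0) (.leaf 0x602010900090006))) (.node 5195 (.leaf 0x0) (.node 5196 (.leaf 0xd0b0b0003) (.leaf 0x0))))) (.node 5202 (.node 5199 (.node 5198 (.leaf 0x144c000ec5) (.leaf 0x1070000000300000802040105000d)) (.node 5200 (.leaf 0x0) (.node 5201 (.leaf 0xd0b0b0003) (.leaf 0x0)))) (.node 5205 (.node 5203 (.leaf 0x102050206040006) (.node 5204 (.leaf 0x0) (.leaf 0x400050004))) (.node 5206 (.leaf 0x0) (.node 5207 (.leaf 0xb0a0a0003) (.leaf 0x0))))))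

def argWS_457 : Store := (.node 5219 (.node 5213 (.node 5210 (.node 5209 (.leaf 0x38f001457) (.leaf 0x0)) (.node 5211 (.leaf 0xf0a0002) (.node 5212 (.leaf 0x0) (.leaf 0xa0f0b0b0004)))) (.node 5216 (.node 5214 (.leaf 0xf0a0a0003) (.node 5215 (.leaf 0x0) (.leaf 0x0))) (.node 5217 (.leaf 0xa0001) (.node 5218 (.leaf 0x1020102090106000703040103000d) (.leaf 0x0))))) (.node 5225 (.node 5222 (.node 5220 (.leaf 0xe0a0a0003) (.node 5221 (.leaf 0x0) (.leaf 0x904090806000202000701000b))) (.node 5223 (.leaf 0x0) (.node 5224 (.leaf 0xb0f0002) (.leaf 0x0)))) (.node 5228 (.node 5226 (.leaf 0x1468) (.node 5227 (.leaf 0xf0a0a0003) (.leaf 0xb0b0a0003))) (.node 5229 (.leaf 0x20507020600000703040103000c) (.node 5230 (.leaf 0x0) (.leaf 0xe0d0002))))))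

def argWS_458 : Store := (.node 5208 argWS_456 argWS_457)

def argWS_459 : Store := (.node 5186 argWS_455 argWS_458)

def argWS_460 : Store := (.node 5141 argWS_452 argWS_459)

def argWS_461 : Store := (.node 5242 (.node 5236 (.node 5233 (.node 5232 (.leaf 0x0) (.leaf 0xab700146f)) (.node 5234 (.leaf 0x2060106010500020802040105000d) (.node 5235 (.leaf 0x0) (.leaf 0xf0b0002)))) (.node 5239 (.node 5237 (.leaf 0x0) (.node 5238 (.leaf 0xa0f0b0003) (.leaf 0x0))) (.node 5240 (.leaf 0x0) (.node 5241 (.leaf 0xf0b0a0a0004) (.leaf 0x11e900032f))))) (.node 5247 (.node 5244 (.node 5243 (.leaf 0xf0001) (.leaf 0x0)) (.node 5245 (.leaf 0x0) (.node 5246 (.leaf 0x2090000030000000703040103000d) (.leaf 0x0)))) (.node 5250 (.node 5248 (.leaf 0xf0b0b0a0004) (.node 5249 (.leaf 0x200020603050004000703040103000e) (.leaf 0x0))) (.node 5251 (.leaf 0x0) (.node 5252 (.leaf 0xecd001482) (.leaf 0xd0001))))))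

def argWS_462 : Store := (.node 5264 (.node 5258 (.node 5255 (.node 5254 (.leaf 0x0) (.leaf 0xb0a0002)) (.node 5256 (.leaf 0x0) (.node 5257 (.leaf 0x0) (.leaf 0x20202010904020007)))) (.node 5261 (.node 5259 (.leaf 0x0) (.node 5260 (.leaf 0xb0b0a0a0004) (.leaf 0x0))) (.node 5262 (.leaf 0xb0a0002) (.node 5263 (.leaf 0x148d00148c) (.leaf 0x901020202010802040105000b))))) (.node 5270 (.node 5267 (.node 5265 (.leaf 0x0) (.node 5266 (.leaf 0xa0f0b0003) (.leaf 0x0))) (.node 5268 (.leaf 0xd0b0002) (.node 5269 (.leaf 0x2000206030802040105000b) (.leaf 0x0)))) (.node 5273 (.node 5271 (.leaf 0x0) (.node 5272 (.leaf 0x80004090806000007) (.leaf 0x0))) (.node 5274 (.leaf 0x0) (.node 5275 (.leaf 0x1499001496) (.leaf 0x4000508020401050009))))))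

def argWS_463 : Store := (.node 5253 argWS_461 argWS_462)

def argWS_464 : Store := (.node 5287 (.node 5281 (.node 5278 (.node 5277 (.leaf 0x0) (.leaf 0xe0d0002)) (.node 5279 (.leaf 0x0) (.node 5280 (.leaf 0xa0f0b0b0004) (.leaf 0x0)))) (.node 5284 (.node 5282 (.leaf 0x0) (.node 5283 (.leaf 0x5030901090202000701000b) (.leaf 0x0))) (.node 5285 (.leaf 0xa0a0002) (.node 5286 (.leaf 0x0) (.leaf 0x20903000408010802040105000c))))) (.node 5292 (.node 5289 (.node 5288 (.leaf 0x0) (.leaf 0xd0b0b0003)) (.node 5290 (.leaf 0x0) (.node 5291 (.leaf 0x14a9) (.leaf 0x20000030306040202000701000d)))) (.node 5295 (.node 5293 (.leaf 0x0) (.node 5294 (.leaf 0xd0b0002) (.leaf 0x0))) (.node 5296 (.leaf 0xf0b0a0003) (.node 5297 (.leaf 0x0) (.leaf 0x0))))))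

def argWS_465 : Store := (.node 5309 (.node 5303 (.node 5300 (.node 5299 (.leaf 0x0) (.leaf 0x0)) (.node 5301 (.leaf 0xb0b0a0a0004) (.node 5302 (.leaf 0x70108020401050007) (.leaf 0x0)))) (.node 5306 (.node 5304 (.leaf 0x0) (.node 5305 (.leaf 0x0) (.leaf 0x4040002))) (.node 5307 (.leaf 0x0) (.node 5308 (.leaf 0xa0f0b0003) (.leaf 0xa0001))))) (.node 5315 (.node 5312 (.node 5310 (.leaf 0xd0b0002) (.node 5311 (.leaf 0xd0b0b0003) (.leaf 0x110b))) (.node 5313 (.leaf 0xb0001) (.node 5314 (.leaf 0x0) (.leaf 0xf0a0a0003)))) (.node 5318 (.node 5316 (.leaf 0x0) (.node 5317 (.leaf 0x0) (.leaf 0x4000900090802040105000b))) (.node 5319 (.leaf 0x0) (.node 5320 (.leaf 0xb0f0002) (.leaf 0x0))))))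

def argWS_466 : Store := (.node 5298 argWS_464 argWS_465)

def argWS_467 : Store := (.node 5276 argWS_463 argWS_466)

def argWS_468 : Store := (.node 5332 (.node 5326 (.node 5323 (.node 5322 (.leaf 0x1179) (.leaf 0x2020000000300000008)) (.node 5324 (.leaf 0x0) (.node 5325 (.leaf 0xf0b0b0003) (.leaf 0x0)))) (.node 5329 (.node 5327 (.leaf 0x40103010102000202000701000c) (.node 5328 (.leaf 0x0) (.leaf 0xb0b0a0a0004))) (.node 5330 (.leaf 0xf0b0b0a0a0005) (.node 5331 (.leaf 0xf0a0002) (.leaf 0x4030002000003010202000701000d))))) (.node 5337 (.node 5334 (.node 5333 (.leaf 0x0) (.leaf 0xb0b0a0a0004)) (.node 5335 (.leaf 0x0) (.node 5336 (.leaf 0x60006030500040007) (.leaf 0x0)))) (.node 5340 (.node 5338 (.leaf 0xb0a0a0003) (.node 5339 (.leaf 0x0) (.leaf 0x14da))) (.node 5341 (.leaf 0x7020600000703040103000a) (.node 5342 (.leaf 0x0) (.leaf 0xb0f0a0003))))))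

def argWS_469 : Store := (.node 5354 (.node 5348 (.node 5345 (.node 5344 (.leaf 0x0) (.leaf 0x20906030500040007)) (.node 5346 (.leaf 0x0) (.node 5347 (.leaf 0xf0b0002) (.leaf 0xe0d0002)))) (.node 5351 (.node 5349 (.leaf 0xb0a0f0003) (.node 5350 (.leaf 0xe0d0002) (.leaf 0x10502090009000703040103000c))) (.node 5352 (.leaf 0x0) (.node 5353 (.leaf 0x0) (.leaf 0x14e80010cb))))) (.node 5360 (.node 5357 (.node 5355 (.leaf 0x0) (.node 5356 (.leaf 0xf0b0b0a0a0005) (.leaf 0x0))) (.node 5358 (.leaf 0x0) (.node 5359 (.leaf 0xb0b0a0003) (.leaf 0x60309020602000703040103000c)))) (.node 5363 (.node 5361 (.leaf 0x9020102090106000703040103000d) (.node 5362 (.leaf 0x0) (.leaf 0x0))) (.node 5364 (.leaf 0x4040206020007010008) (.node 5365 (.leaf 0x0) (.leaf 0xf0a0a0003))))))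

def argWS_470 : Store := (.node 5343 argWS_468 argWS_469)

def argWS_471 : Store := (.node 5377 (.node 5371 (.node 5368 (.node 5367 (.leaf 0x0) (.leaf 0x14f60014f2)) (.node 5369 (.leaf 0xe0d0002) (.node 5370 (.leaf 0x0) (.leaf 0xb0f0a0003)))) (.node 5374 (.node 5372 (.leaf 0x0) (.node 5373 (.leaf 0x0) (.leaf 0xe0d0002))) (.node 5375 (.leaf 0x400030306040802040105000b) (.node 5376 (.leaf 0x202090000090006) (.leaf 0x60502090106000703040103000c))))) (.node 5383 (.node 5380 (.node 5378 (.leaf 0xb0f0a0003) (.node 5379 (.leaf 0x14e30010ca) (.leaf 0xd0b0b0003))) (.node 5381 (.leaf 0x0) (.node 5382 (.leaf 0x905000003010202000701000b) (.leaf 0x0)))) (.node 5386 (.node 5384 (.leaf 0xb0a0002) (.node 5385 (.leaf 0x90307020600000703040103000c) (.leaf 0x0))) (.node 5387 (.leaf 0xf0a0002) (.node 5388 (.leaf 0x0) (.leaf 0x202000400050006))))))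

def argWS_472 : Store := (.node 5400 (.node 5394 (.node 5391 (.node 5390 (.leaf 0x0) (.leaf 0xf0b0b0a0a0005)) (.node 5392 (.leaf 0xe0a0a0003) (.node 5393 (.leaf 0xf0b0a0a0004) (.leaf 0x80006030500040007)))) (.node 5397 (.node 5395 (.leaf 0x0) (.node 5396 (.leaf 0x3050206040202000701000a) (.leaf 0x0))) (.node 5398 (.leaf 0xf0b0b0a0a0005) (.node 5399 (.leaf 0x9070000000300000802040105000d) (.leaf 0x0))))) (.node 5406 (.node 5403 (.node 5401 (.leaf 0xf0b0002) (.node 5402 (.leaf 0x0) (.leaf 0xb0001))) (.node 5404 (.leaf 0xe0001) (.node 5405 (.leaf 0x800040400050202000701000b) (.leaf 0x0)))) (.node 5409 (.node 5407 (.leaf 0x0) (.node 5408 (.leaf 0x0) (.leaf 0xb0b0a0a0004))) (.node 5410 (.leaf 0x5000206020007010008) (.node 5411 (.leaf 0x0) (.leaf 0x0))))))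

def argWS_473 : Store := (.node 5389 argWS_471 argWS_472)

def argWS_474 : Store := (.node 5366 argWS_470 argWS_473)

def argWS_475 : Store := (.node 5321 argWS_467 argWS_474)

def argWS_476 : Store := (.node 5231 argWS_460 argWS_475)

def argWS_477 : Store := (.node 5423 (.node 5417 (.node 5414 (.node 5413 (.leaf 0x0) (.leaf 0x4040002)) (.node 5415 (.leaf 0x0) (.node 5416 (.leaf 0xa0a0002) (.leaf 0xf0001)))) (.node 5420 (.node 5418 (.leaf 0xf0b0a0003) (.node 5419 (.leaf 0xb0f0a0a0004) (.leaf 0xf0001))) (.node 5421 (.leaf 0xd0001) (.node 5422 (.leaf 0x7030507020600000703040103000d) (.leaf 0x0))))) (.node 5428 (.node 5425 (.node 5424 (.leaf 0x0) (.leaf 0xe0a0002)) (.node 5426 (.leaf 0x153000152f) (.node 5427 (.leaf 0xb0b0002) (.leaf 0x0)))) (.node 5431 (.node 5429 (.leaf 0xd0b0b0003) (.node 5430 (.leaf 0x0) (.leaf 0x0))) (.node 5432 (.leaf 0xb0f0002) (.node 5433 (.leaf 0x604040807030401030009) (.leaf 0xf0a0002))))))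

def argWS_478 : Store := (.node 5445 (.node 5439 (.node 5436 (.node 5435 (.leaf 0xf0b0b0003) (.leaf 0xa0f0b0b0004)) (.node 5437 (.leaf 0x90503090806000007) (.node 5438 (.leaf 0x0) (.leaf 0xd0b0002)))) (.node 5442 (.node 5440 (.leaf 0xa0f0002) (.node 5441 (.leaf 0xb0a0002) (.leaf 0xa0a0002))) (.node 5443 (.leaf 0x60002000003010202000701000c) (.node 5444 (.leaf 0x0) (.leaf 0x0))))) (.node 5451 (.node 5448 (.node 5446 (.leaf 0x1138001544) (.node 5447 (.leaf 0x6010201020901060008) (.leaf 0x0))) (.node 5449 (.leaf 0xb0a0a0003) (.node 5450 (.leaf 0x0) (.leaf 0xf0a0002)))) (.node 5454 (.node 5452 (.leaf 0x0) (.node 5453 (.leaf 0x0) (.leaf 0x20406010500020202000701000c))) (.node 5455 (.leaf 0x0) (.node 5456 (.leaf 0x0) (.leaf 0x60209000009000703040103000c))))))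

def argWS_479 : Store := (.node 5434 argWS_477 argWS_478)

def argWS_480 : Store := (.node 5468 (.node 5462 (.node 5459 (.node 5458 (.leaf 0x0) (.leaf 0xe0a0a0003)) (.node 5460 (.leaf 0xb0a0002) (.node 5461 (.leaf 0x705070209020006) (.leaf 0x0)))) (.node 5465 (.node 5463 (.leaf 0xf0b0b0003) (.node 5464 (.leaf 0x0) (.leaf 0x600020603000703040103000b))) (.node 5466 (.leaf 0xa0a0002) (.node 5467 (.leaf 0x1559) (.leaf 0xf0a0a0003))))) (.node 5473 (.node 5470 (.node 5469 (.leaf 0x0) (.leaf 0xe0d0002)) (.node 5471 (.leaf 0x0) (.node 5472 (.leaf 0x0) (.leaf 0x90006030500040008)))) (.node 5476 (.node 5474 (.leaf 0x0) (.node 5475 (.leaf 0xb0001) (.leaf 0x0))) (.node 5477 (.leaf 0x60301090000090802040105000c) (.node 5478 (.leaf 0x0) (.leaf 0x2050209000009000703040103000d))))))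

def argWS_481 : Store := (.node 5490 (.node 5484 (.node 5481 (.node 5480 (.leaf 0xa0f0b0b0004) (.leaf 0x154f)) (.node 5482 (.leaf 0xe0a0a0003) (.node 5483 (.leaf 0x0) (.leaf 0xe0d0002)))) (.node 5487 (.node 5485 (.leaf 0x0) (.node 5486 (.leaf 0x0) (.leaf 0x30400030000000703040103000c))) (.node 5488 (.leaf 0x0) (.node 5489 (.leaf 0xd0001) (.leaf 0xa0a0002))))) (.node 5496 (.node 5493 (.node 5491 (.leaf 0x1571) (.node 5492 (.leaf 0x107000009020602000703040103000e) (.leaf 0x0))) (.node 5494 (.leaf 0xe0001) (.node 5495 (.leaf 0x0) (.leaf 0x90806000202000701000a)))) (.node 5499 (.node 5497 (.leaf 0x0) (.node 5498 (.leaf 0xf0b0b0a0004) (.leaf 0xb0f0002))) (.node 5500 (.leaf 0xa0f0b0003) (.node 5501 (.leaf 0xb0001) (.leaf 0xb0b0002))))))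

def argWS_482 : Store := (.node 5479 argWS_480 argWS_481)

def argWS_483 : Store := (.node 5457 argWS_479 argWS_482)

def argWS_484 : Store := (.node 5513 (.node 5507 (.node 5504 (.node 5503 (.leaf 0x157d) (.leaf 0xb0f0a0a0004)) (.node 5505 (.leaf 0x0) (.node 5506 (.leaf 0xf0a0a0003) (.leaf 0x0)))) (.node 5510 (.node 5508 (.leaf 0x0) (.node 5509 (.leaf 0xb0b0a0a0004) (.leaf 0xe0a0002))) (.node 5511 (.leaf 0xd0b0b0003) (.node 5512 (.leaf 0x80500090806000202000701000c) (.leaf 0x7070209020005))))) (.node 5518 (.node 5515 (.node 5514 (.leaf 0x0) (.leaf 0x0)) (.node 5516 (.leaf 0x0) (.node 5517 (.leaf 0x0) (.leaf 0xb0b0a0a0004)))) (.node 5521 (.node 5519 (.leaf 0x602090402000703040103000b) (.node 5520 (.leaf 0x0) (.leaf 0x0))) (.node 5522 (.leaf 0x0) (.node 5523 (.leaf 0x4040002) (.leaf 0x0))))))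

def argWS_485 : Store := (.node 5535 (.node 5529 (.node 5526 (.node 5525 (.leaf 0xf0b0b0a0a0005) (.leaf 0xf0a0002)) (.node 5527 (.leaf 0xf0001) (.node 5528 (.leaf 0xb0f0a0003) (.leaf 0xb0f0a0a0004)))) (.node 5532 (.node 5530 (.leaf 0xb0a0f0003) (.node 5531 (.leaf 0xb0a0002) (.leaf 0xf0b0b0a0004))) (.node 5533 (.leaf 0x60400050206040802040105000c) (.node 5534 (.leaf 0x0) (.leaf 0x0))))) (.node 5541 (.node 5538 (.node 5536 (.leaf 0x159e) (.node 5537 (.leaf 0xa0a0002) (.leaf 0x0))) (.node 5539 (.leaf 0xe0a0a0003) (.node 5540 (.leaf 0x0) (.leaf 0x0)))) (.node 5544 (.node 5542 (.leaf 0x4030006010500020008) (.node 5543 (.leaf 0x0) (.leaf 0x0))) (.node 5545 (.leaf 0x15a7) (.node 5546 (.leaf 0xe0001) (.leaf 0x0))))))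

def argWS_486 : Store := (.node 5524 argWS_484 argWS_485)

def argWS_487 : Store := (.node 5558 (.node 5552 (.node 5549 (.node 5548 (.leaf 0xb0f0a0003) (.leaf 0x0)) (.node 5550 (.leaf 0x0) (.node 5551 (.leaf 0xf0b0a0003) (.leaf 0xd0001)))) (.node 5555 (.node 5553 (.leaf 0xf0a0002) (.node 5554 (.leaf 0xf0a0002) (.leaf 0xe0a0a0003))) (.node 5556 (.leaf 0xe0d0002) (.node 5557 (.leaf 0xb0f0002) (.leaf 0xd0b0002))))) (.node 5563 (.node 5560 (.node 5559 (.leaf 0xe0a0a0003) (.leaf 0x702050202020703040103000b)) (.node 5561 (.leaf 0x0) (.node 5562 (.leaf 0x0) (.leaf 0x15b9)))) (.node 5566 (.node 5564 (.leaf 0xe0a0002) (.node 5565 (.leaf 0x0) (.leaf 0xf0b0b0a0004))) (.node 5567 (.leaf 0x0) (.node 5568 (.leaf 0x0) (.leaf 0xb0f0002))))))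

def argWS_488 : Store := (.node 5580 (.node 5574 (.node 5571 (.node 5570 (.leaf 0xe0001) (.leaf 0xd0b0002)) (.node 5572 (.leaf 0xf0b0002) (.node 5573 (.leaf 0xe0001) (.leaf 0x7010904020005)))) (.node 5577 (.node 5575 (.leaf 0x0) (.node 5576 (.leaf 0xb0a0a0003) (.leaf 0xb0001))) (.node 5578 (.leaf 0xe0a0a0003) (.node 5579 (.leaf 0x15c900143a) (.leaf 0x300020106060802040105000b))))) (.node 5586 (.node 5583 (.node 5581 (.leaf 0x0) (.node 5582 (.leaf 0xb0b0a0a0004) (.leaf 0x0))) (.node 5584 (.leaf 0xe0001) (.node 5585 (.leaf 0x0) (.leaf 0x0)))) (.node 5589 (.node 5587 (.leaf 0xa0001) (.node 5588 (.leaf 0x142e) (.leaf 0xb0a0f0003))) (.node 5590 (.leaf 0x0) (.node 5591 (.leaf 0xf0a0a0003) (.leaf 0xb0f0a0003))))))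

def argWS_489 : Store := (.node 5569 argWS_487 argWS_488)

def argWS_490 : Store := (.node 5547 argWS_486 argWS_489)

def argWS_491 : Store := (.node 5502 argWS_483 argWS_490)

def argWS_492 : Store := (.node 5603 (.node 5597 (.node 5594 (.node 5593 (.leaf 0x90009080600000703040103000c) (.leaf 0x0)) (.node 5595 (.leaf 0x0) (.node 5596 (.leaf 0x4bc0015da) (.leaf 0x0)))) (.node 5600 (.node 5598 (.leaf 0x201020603000703040103000b) (.node 5599 (.leaf 0x206000300000202000701000b) (.leaf 0x0))) (.node 5601 (.leaf 0x4040002) (.node 5602 (.leaf 0x0) (.leaf 0x4040002))))) (.node 5608 (.node 5605 (.node 5604 (.leaf 0x0) (.leaf 0x6050105020604000703040103000d)) (.node 5606 (.leaf 0x0) (.node 5607 (.leaf 0xf0b0b0a0004) (.leaf 0xa0f0b0b0004)))) (.node 5611 (.node 5609 (.leaf 0xf0b0a0a0004) (.node 5610 (.leaf 0x400040400050202000701000b) (.leaf 0x0))) (.node 5612 (.leaf 0x0) (.node 5613 (.leaf 0x307010908050006) (.leaf 0x0))))))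

def argWS_493 : Store := (.node 5625 (.node 5619 (.node 5616 (.node 5615 (.leaf 0x0) (.leaf 0x15ee)) (.node 5617 (.leaf 0xb0a0002) (.node 5618 (.leaf 0x0) (.leaf 0x20500000300000007)))) (.node 5622 (.node 5620 (.leaf 0x0) (.node 5621 (.leaf 0xa0f0002) (.leaf 0xe0a0002))) (.node 5623 (.leaf 0xb0a0002) (.node 5624 (.leaf 0x60401020106060802040105000c) (.leaf 0x0))))) (.node 5631 (.node 5628 (.node 5626 (.leaf 0xb0a0a0003) (.node 5627 (.leaf 0x0) (.leaf 0xa0001))) (.node 5629 (.leaf 0xf0001) (.node 5630 (.leaf 0x90201070209020202000701000c) (.leaf 0x0)))) (.node 5634 (.node 5632 (.leaf 0xb0b0a0003) (.node 5633 (.leaf 0x0) (.leaf 0x1600))) (.node 5635 (.leaf 0xf0b0a0003) (.node 5636 (.leaf 0x0) (.leaf 0x90007000903000703040103000c))))))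

def argWS_494 : Store := (.node 5614 argWS_492 argWS_493)

def argWS_495 : Store := (.node 5648 (.node 5642 (.node 5639 (.node 5638 (.leaf 0x0) (.leaf 0xb0a0a0003)) (.node 5640 (.leaf 0x20400030306040202000701000c) (.node 5641 (.leaf 0x0) (.leaf 0xe0001)))) (.node 5645 (.node 5643 (.leaf 0x0) (.node 5644 (.leaf 0xf0b0b0003) (.leaf 0x160b000a56))) (.node 5646 (.leaf 0x50305020202010802040105000c) (.node 5647 (.leaf 0x0) (.leaf 0xf0b0a0a0004))))) (.node 5653 (.node 5650 (.node 5649 (.leaf 0x0) (.leaf 0x5000400050005)) (.node 5651 (.leaf 0x0) (.node 5652 (.leaf 0xf0b0a0a0004) (.leaf 0x803000601050002000703040103000e)))) (.node 5656 (.node 5654 (.leaf 0x0) (.node 5655 (.leaf 0xe0001) (.leaf 0xd0001))) (.node 5657 (.leaf 0xf0b0b0a0a0005) (.node 5658 (.leaf 0xa0f0b0b0004) (.leaf 0x6010201090009000703040103000d))))))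

def argWS_496 : Store := (.node 5670 (.node 5664 (.node 5661 (.node 5660 (.leaf 0x0) (.leaf 0xe0001)) (.node 5662 (.leaf 0x0) (.node 5663 (.leaf 0xe0001) (.leaf 0x161e00161d)))) (.node 5667 (.node 5665 (.leaf 0xb0001) (.node 5666 (.leaf 0x0) (.leaf 0xf0b0b0a0a0005))) (.node 5668 (.leaf 0x0) (.node 5669 (.leaf 0x0) (.leaf 0xd0001))))) (.node 5676 (.node 5673 (.node 5671 (.leaf 0xf0b0002) (.node 5672 (.leaf 0x0) (.leaf 0x0))) (.node 5674 (.leaf 0xb0b0a0a0004) (.node 5675 (.leaf 0x104000003) (.leaf 0x0)))) (.node 5679 (.node 5677 (.leaf 0x0) (.node 5678 (.leaf 0x0) (.leaf 0x4040002))) (.node 5680 (.leaf 0x0) (.node 5681 (.leaf 0xf0b0002) (.leaf 0xa0001))))))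

def argWS_497 : Store := (.node 5659 argWS_495 argWS_496)

def argWS_498 : Store := (.node 5637 argWS_494 argWS_497)

def argWS_499 : Store := (.node 5693 (.node 5687 (.node 5684 (.node 5683 (.leaf 0xe0001) (.leaf 0xa0f0002)) (.node 5685 (.leaf 0x403010102000202000701000c) (.node 5686 (.leaf 0x0) (.leaf 0x102000007030401030009)))) (.node 5690 (.node 5688 (.leaf 0x0) (.node 5689 (.leaf 0x0) (.leaf 0x1638))) (.node 5691 (.leaf 0xb0b0a0003) (.node 5692 (.leaf 0x0) (.leaf 0xf0001))))) (.node 5698 (.node 5695 (.node 5694 (.leaf 0x0) (.leaf 0x0)) (.node 5696 (.leaf 0xf0a0002) (.node 5697 (.leaf 0x10702010606000703040103000c) (.leaf 0xb0a0002)))) (.node 5701 (.node 5699 (.leaf 0x407030007030401030009) (.node 5700 (.leaf 0x0) (.leaf 0xf0001))) (.node 5702 (.leaf 0xb0b0002) (.node 5703 (.leaf 0xa0f0002) (.leaf 0x11aa))))))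

def argWS_500 : Store := (.node 5715 (.node 5709 (.node 5706 (.node 5705 (.leaf 0xb0b0a0003) (.leaf 0x0)) (.node 5707 (.leaf 0xd0b0b0003) (.node 5708 (.leaf 0x0) (.leaf 0x0)))) (.node 5712 (.node 5710 (.leaf 0x206010207030802040105000b) (.node 5711 (.leaf 0x20608020401050007) (.leaf 0x0))) (.node 5713 (.leaf 0x0) (.node 5714 (.leaf 0x1650000fe3) (.leaf 0xb0f0002))))) (.node 5721 (.node 5718 (.node 5716 (.leaf 0x0) (.node 5717 (.leaf 0xa0a0002) (.leaf 0x0))) (.node 5719 (.leaf 0x0) (.node 5720 (.leaf 0xa0f0b0b0004) (.leaf 0x1657)))) (.node 5724 (.node 5722 (.leaf 0xb0f0002) (.node 5723 (.leaf 0x0) (.leaf 0xb0a0f0003))) (.node 5725 (.leaf 0x0) (.node 5726 (.leaf 0x0) (.leaf 0x9030002000003010202000701000d))))))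

def argWS_501 : Store := (.node 5704 argWS_499 argWS_500)

def argWS_502 : Store := (.node 5738 (.node 5732 (.node 5729 (.node 5728 (.leaf 0x0) (.leaf 0xe0a0a0003)) (.node 5730 (.leaf 0x7020207030802040105000a) (.node 5731 (.leaf 0x0) (.leaf 0x104010904020006)))) (.node 5735 (.node 5733 (.leaf 0x0) (.node 5734 (.leaf 0x20703060202000701000a) (.leaf 0x800020603000703040103000b))) (.node 5736 (.leaf 0x0) (.node 5737 (.leaf 0x0) (.leaf 0xb0b0a0a0004))))) (.node 5744 (.node 5741 (.node 5739 (.leaf 0x2040206020007010008) (.node 5740 (.leaf 0x0) (.leaf 0x0))) (.node 5742 (.leaf 0x0) (.node 5743 (.leaf 0x4040002) (.leaf 0x0)))) (.node 5747 (.node 5745 (.leaf 0xa0a0002) (.node 5746 (.leaf 0xb0b0a0003) (.leaf 0xb0f0a0a0004))) (.node 5748 (.leaf 0xe0a0002) (.node 5749 (.leaf 0xa0001) (.leaf 0xf0b0b0a0004))))))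

def argWS_503 : Store := (.node 5761 (.node 5755 (.node 5752 (.node 5751 (.leaf 0xb0b0a0a0004) (.leaf 0x60101090805000703040103000c)) (.node 5753 (.leaf 0x0) (.node 5754 (.leaf 0x0) (.leaf 0x1679)))) (.node 5758 (.node 5756 (.leaf 0xa0f0b0003) (.node 5757 (.leaf 0x0) (.leaf 0xa0f0b0003))) (.node 5759 (.leaf 0xf0a0002) (.node 5760 (.leaf 0xe0a0a0003) (.leaf 0xb0001))))) (.node 5767 (.node 5764 (.node 5762 (.leaf 0x40103010102000007) (.node 5763 (.leaf 0x0) (.leaf 0xb0a0002))) (.node 5765 (.leaf 0xa0a0002) (.node 5766 (.leaf 0xa0f0002) (.leaf 0x70305090009000703040103000c)))) (.node 5770 (.node 5768 (.leaf 0x0) (.node 5769 (.leaf 0x0) (.leaf 0x202000003010802040105000c))) (.node 5771 (.leaf 0x0) (.node 5772 (.leaf 0x0) (.leaf 0x168b001688))))))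

def argWS_504 : Store := (.node 5750 argWS_502 argWS_503)

def argWS_505 : Store := (.node 5727 argWS_501 argWS_504)

def argWS_506 : Store := (.node 5682 argWS_498 argWS_505)

def argWS_507 : Store := (.node 5592 argWS_491 argWS_506)

def argWS_508 : Store := (.node 5412 argWS_476 argWS_507)

def argWS_509 : Store := (.node 5051 argWS_445 argWS_508)

def argWS_510 : Store := (.node 4329 argWS_382 argWS_509)

def argWS_511 : Store := (.node 2886 argWS_255 argWS_510)

def argWS_512 : Store := (.node 5784 (.node 5778 (.node 5775 (.node 5774 (.leaf 0xb0f0a0003) (.leaf 0x0)) (.node 5776 (.leaf 0xf0001) (.node 5777 (.leaf 0x0) (.leaf 0x0)))) (.node 5781 (.node 5779 (.leaf 0x7010900090005) (.node 5780 (.leaf 0x0) (.leaf 0x0))) (.node 5782 (.leaf 0x7fe001694) (.node 5783 (.leaf 0x0) (.leaf 0xb0b0002))))) (.node 5789 (.node 5786 (.node 5785 (.leaf 0x0) (.leaf 0xf0001)) (.node 5787 (.leaf 0xb0a0002) (.node 5788 (.leaf 0xe0a0002) (.leaf 0x169b0010e5)))) (.node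 5792 (.node 5790 (.leaf 0xf0b0b0003) (.node 5791 (.leaf 0xf0001) (.leaf 0x20002070206000202000701000c))) (.node 5793 (.leaf 0x0) (.node 5794 (.leaf 0xf0b0b0a0a0005) (.leaf 0x0))))))

def argWS_513 : Store := (.node 5806 (.node 5800 (.node 5797 (.node 5796 (.leaf 0x16a200169e) (.leaf 0xf0b0002)) (.node 5798 (.leaf 0x0) (.node 5799 (.leaf 0xb0b0002) (.leaf 0x0)))) (.node 5803 (.node 5801 (.leaf 0x0) (.node 5802 (.leaf 0xa0f0002) (.leaf 0x202010908050202000701000b))) (.node 5804 (.leaf 0x0) (.node 5805 (.leaf 0x0) (.leaf 0xf0a0002))))) (.node 5812 (.node 5809 (.node 5807 (.leaf 0x50201020106060802040105000c) (.node 5808 (.leaf 0x0) (.leaf 0xb0b0a0a0004))) (.node 5810 (.leaf 0x0) (.node 5811 (.leaf 0x16b1) (.leaf 0xf0a0002)))) (.node 5815 (.node 5813 (.leaf 0x0) (.node 5814 (.leaf 0xa0f0002) (.leaf 0x0))) (.node 5816 (.leaf 0x0) (.node 5817 (.leaf 0x503060207020703040103000b) (.leaf 0x3040107000902000701000a))))))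

def argWS_514 : Store := (.node 5795 argWS_512 argWS_513)

def argWS_515 : Store := (.node 5829 (.node 5823 (.node 5820 (.node 5819 (.leaf 0x0) (.leaf 0x10400090109000703040103000c)) (.node 5821 (.leaf 0x0) (.node 5822 (.leaf 0x0) (.leaf 0xb0b0a0a0004)))) (.node 5826 (.node 5824 (.leaf 0x2020000090206020008) (.node 5825 (.leaf 0x0) (.leaf 0x0))) (.node 5827 (.leaf 0x0) (.node 5828 (.leaf 0x4040002) (.leaf 0x0))))) (.node 5834 (.node 5831 (.node 5830 (.leaf 0xe0001) (.leaf 0xb0f0002)) (.node 5832 (.leaf 0x400000003010202000701000b) (.node 5833 (.leaf 0x0) (.leaf 0x0)))) (.node 5837 (.node 5835 (.leaf 0x16c9) (.node 5836 (.leaf 0xf0b0002) (.leaf 0x0))) (.node 5838 (.leaf 0xb0b0002) (.node 5839 (.leaf 0x0) (.leaf 0x0))))))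

def argWS_516 : Store := (.node 5851 (.node 5845 (.node 5842 (.node 5841 (.leaf 0xe0a0a0003) (.leaf 0x101f)) (.node 5843 (.leaf 0xf0b0002) (.node 5844 (.leaf 0x0) (.leaf 0xb0b0a0a0004)))) (.node 5848 (.node 5846 (.leaf 0x0) (.node 5847 (.leaf 0x0) (.leaf 0xe0a0a0003))) (.node 5849 (.leaf 0xd0001) (.node 5850 (.leaf 0xf0b0a0003) (.leaf 0x16d90016d8))))) (.node 5857 (.node 5854 (.node 5852 (.leaf 0xf0001) (.node 5853 (.leaf 0x0) (.leaf 0xf0b0002))) (.node 5855 (.leaf 0x0) (.node 5856 (.leaf 0x0) (.leaf 0x8000006010500020802040105000d)))) (.node 5860 (.node 5858 (.leaf 0x0) (.node 5859 (.leaf 0xa0f0b0b0004) (.leaf 0x0))) (.node 5861 (.leaf 0x20202090806000802040105000c) (.node 5862 (.leaf 0x0) (.leaf 0xe0a0002))))))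

def argWS_517 : Store := (.node 5840 argWS_515 argWS_516)

def argWS_518 : Store := (.node 5818 argWS_514 argWS_517)

def argWS_519 : Store := (.node 5874 (.node 5868 (.node 5865 (.node 5864 (.leaf 0x0) (.leaf 0x503090109000703040103000c)) (.node 5866 (.leaf 0x0) (.node 5867 (.leaf 0x0) (.leaf 0x16ea0016e7)))) (.node 5871 (.node 5869 (.leaf 0x1020207020902000703040103000d) (.node 5870 (.leaf 0x0) (.leaf 0x0))) (.node 5872 (.leaf 0x1030102010606000703040103000d) (.node 5873 (.leaf 0x0) (.leaf 0xf0b0a0003))))) (.node 5879 (.node 5876 (.node 5875 (.leaf 0xf0001) (.leaf 0xf0b0b0a0004)) (.node 5877 (.leaf 0xb0f0a0003) (.node 5878 (.leaf 0xb0a0f0003) (.leaf 0xf0a0a0003)))) (.node 5882 (.node 5880 (.leaf 0xb0f0a0003) (.node 5881 (.leaf 0xe0a0002) (.leaf 0xa0001))) (.node 5883 (.leaf 0x206050202020703040103000b) (.node 5884 (.leaf 0x0) (.leaf 0x20903070009030007))))))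

def argWS_520 : Store := (.node 5896 (.node 5890 (.node 5887 (.node 5886 (.leaf 0x0) (.leaf 0x1070006030500040008)) (.node 5888 (.leaf 0x0) (.node 5889 (.leaf 0x2000003010102000202000701000d) (.leaf 0x0)))) (.node 5893 (.node 5891 (.leaf 0x700090206020202000701000b) (.node 5892 (.leaf 0x0) (.leaf 0x1013))) (.node 5894 (.leaf 0xf0a0002) (.node 5895 (.leaf 0x0) (.leaf 0xa0a0002))))) (.node 5902 (.node 5899 (.node 5897 (.leaf 0x0) (.node 5898 (.leaf 0x0) (.leaf 0xe0d0002))) (.node 5900 (.leaf 0x2000000020804000802040105000d) (.node 5901 (.leaf 0x0) (.leaf 0xa0f0002)))) (.node 5905 (.node 5903 (.leaf 0x0) (.node 5904 (.leaf 0x170e00170a) (.leaf 0x901030802020007010009))) (.node 5906 (.leaf 0x0) (.node 5907 (.leaf 0xb0a0f0003) (.leaf 0x0))))))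

def argWS_521 : Store := (.node 5885 argWS_519 argWS_520)

def argWS_522 : Store := (.node 5919 (.node 5913 (.node 5910 (.node 5909 (.leaf 0x900060207020703040103000b) (.leaf 0x0)) (.node 5911 (.leaf 0xf0b0b0a0004) (.node 5912 (.leaf 0xa0f0b0003) (.leaf 0x1010904020802040105000a)))) (.node 5916 (.node 5914 (.leaf 0x0) (.node 5915 (.leaf 0xb0a0f0003) (.leaf 0xe0001))) (.node 5917 (.leaf 0x171b) (.node 5918 (.leaf 0xb0b0002) (.leaf 0xb0a0002))))) (.node 5924 (.node 5921 (.node 5920 (.leaf 0x503070206000202000701000c) (.leaf 0xb0a0f0003)) (.node 5922 (.leaf 0x16f4) (.node 5923 (.leaf 0xb0a0f0003) (.leaf 0x0)))) (.node 5927 (.node 5925 (.leaf 0x7010901090202000701000a) (.node 5926 (.leaf 0x0) (.leaf 0xe0d0002))) (.node 5928 (.leaf 0x200000206030802040105000b) (.node 5929 (.leaf 0x0) (.leaf 0xf0a0002))))))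

def argWS_523 : Store := (.node 5941 (.node 5935 (.node 5932 (.node 5931 (.leaf 0xb0f0a0003) (.leaf 0x2060308020401050008)) (.node 5933 (.leaf 0xa0001) (.node 5934 (.leaf 0x0) (.leaf 0x0)))) (.node 5938 (.node 5936 (.leaf 0xb0b0a0a0004) (.node 5937 (.leaf 0x7020009020602000703040103000d) (.leaf 0x0))) (.node 5939 (.leaf 0x0) (.node 5940 (.leaf 0x0) (.leaf 0x4040002))))) (.node 5947 (.node 5944 (.node 5942 (.leaf 0x0) (.node 5943 (.leaf 0xb0b0002) (.leaf 0xd0001))) (.node 5945 (.leaf 0xf0b0b0a0004) (.node 5946 (.leaf 0xf0b0a0a0004) (.leaf 0xb0b0a0003)))) (.node 5950 (.node 5948 (.leaf 0xf0a0002) (.node 5949 (.leaf 0x8a0) (.leaf 0x800070306000703040103000b))) (.node 5951 (.leaf 0x0) (.node 5952 (.leaf 0xa0f0002) (.leaf 0x0))))))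

def argWS_524 : Store := (.node 5930 argWS_522 argWS_523)

def argWS_525 : Store := (.node 5908 argWS_521 argWS_524)

def argWS_526 : Store := (.node 5863 argWS_518 argWS_525)

def argWS_527 : Store := (.node 5964 (.node 5958 (.node 5955 (.node 5954 (.leaf 0xf0b0a0003) (.leaf 0xb0b0a0003)) (.node 5956 (.leaf 0xa0f0b0003) (.node 5957 (.leaf 0xa0f0b0b0004) (.leaf 0xf0a0002)))) (.node 5961 (.node 5959 (.leaf 0x10107020902000703040103000c) (.node 5960 (.leaf 0x0) (.leaf 0xb0a0f0003))) (.node 5962 (.leaf 0x142a000ffb) (.node 5963 (.leaf 0xb0a0002) (.leaf 0x0))))) (.node 5969 (.node 5966 (.node 5965 (.leaf 0xb0f0002) (.leaf 0xa0001)) (.node 5967 (.leaf 0x10202020007010007) (.node 5968 (.leaf 0x0) (.leaf 0x6050102000003010802040105000d)))) (.node 5972 (.node 5970 (.leaf 0x0) (.node 5971 (.leaf 0x0) (.leaf 0x1752000899))) (.node 5973 (.leaf 0xa0f0b0003) (.node 5974 (.leaf 0x0) (.leaf 0xb0a0f0003))))))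

def argWS_528 : Store := (.node 5986 (.node 5980 (.node 5977 (.node 5976 (.leaf 0x0) (.leaf 0x0)) (.node 5978 (.leaf 0xf0b0b0a0a0005) (.node 5979 (.leaf 0xe0a0a0003) (.leaf 0xd0001)))) (.node 5983 (.node 5981 (.leaf 0xf0a0002) (.node 5982 (.leaf 0xd0001) (.leaf 0xf0001))) (.node 5984 (.leaf 0x600090206020007) (.node 5985 (.leaf 0x0) (.leaf 0xa0a0002))))) (.node 5992 (.node 5989 (.node 5987 (.leaf 0x0) (.node 5988 (.leaf 0x14a4001762) (.leaf 0xb0a0a0003))) (.node 5990 (.leaf 0x0) (.node 5991 (.leaf 0xd0001) (.leaf 0x0)))) (.node 5995 (.node 5993 (.leaf 0x0) (.node 5994 (.leaf 0x60400090000090802040105000c) (.leaf 0x0))) (.node 5996 (.leaf 0x0) (.node 5997 (.leaf 0x122000176b) (.leaf 0xa0a0002))))))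

def argWS_529 : Store := (.node 5975 argWS_527 argWS_528)

def argWS_530 : Store := (.node 6009 (.node 6003 (.node 6000 (.node 5999 (.leaf 0x0) (.leaf 0xd0b0002)) (.node 6001 (.leaf 0x10700070209020202000701000c) (.node 6002 (.leaf 0x0) (.leaf 0xe0a0002)))) (.node 6006 (.node 6004 (.leaf 0x0) (.node 6005 (.leaf 0x6020401050005) (.leaf 0x0))) (.node 6007 (.leaf 0x0) (.node 6008 (.leaf 0x1776) (.leaf 0xb0a0002))))) (.node 6014 (.node 6011 (.node 6010 (.leaf 0x0) (.leaf 0x1030301010200000703040103000d)) (.node 6012 (.leaf 0x0) (.node 6013 (.leaf 0xb0f0a0003) (.leaf 0xa0a0002)))) (.node 6017 (.node 6015 (.leaf 0xd0b0002) (.node 6016 (.leaf 0x177e) (.leaf 0xa0f0b0003))) (.node 6018 (.leaf 0x0) (.node 6019 (.leaf 0xb0b0a0003) (.leaf 0xb0001))))))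

def argWS_531 : Store := (.node 6031 (.node 6025 (.node 6022 (.node 6021 (.leaf 0x10202090806000007) (.leaf 0x0)) (.node 6023 (.leaf 0x0) (.node 6024 (.leaf 0x30709080600000703040103000c) (.leaf 0x0)))) (.node 6028 (.node 6026 (.leaf 0x0) (.node 6027 (.leaf 0x17890011f9) (.leaf 0xa0f0b0b0004))) (.node 6029 (.leaf 0x0) (.node 6030 (.leaf 0xb0f0a0003) (.leaf 0x1070000030306040202000701000d))))) (.node 6037 (.node 6034 (.node 6032 (.leaf 0x0) (.node 6033 (.leaf 0xf0b0a0003) (.leaf 0xf0b0b0a0a0005))) (.node 6035 (.leaf 0x6010209000009000703040103000d) (.node 6036 (.leaf 0x0) (.leaf 0xb0b0002)))) (.node 6040 (.node 6038 (.leaf 0xa0001) (.node 6039 (.leaf 0x205020206030802040105000b) (.leaf 0x0))) (.node 6041 (.leaf 0x0) (.node 6042 (.leaf 0x1092001798) (.leaf 0x107010908050006))))))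

def argWS_532 : Store := (.node 6020 argWS_530 argWS_531)

def argWS_533 : Store := (.node 5998 argWS_529 argWS_532)

def argWS_534 : Store := (.node 6054 (.node 6048 (.node 6045 (.node 6044 (.leaf 0x0) (.leaf 0xb0f0a0a0004)) (.node 6046 (.leaf 0x0) (.node 6047 (.leaf 0xb0b0a0a0004) (.leaf 0x0)))) (.node 6051 (.node 6049 (.leaf 0x0) (.node 6050 (.leaf 0xd0b0b0003) (.leaf 0xe0001))) (.node 6052 (.leaf 0x17a2) (.node 6053 (.leaf 0xf0b0002) (.leaf 0xb0b0a0a0004))))) (.node 6059 (.node 6056 (.node 6055 (.leaf 0xb0f0a0003) (.leaf 0x90300090009000703040103000c)) (.node 6057 (.leaf 0x0) (.node 6058 (.leaf 0x0) (.leaf 0xe0a0002)))) (.node 6062 (.node 6060 (.leaf 0x5020007010006) (.node 6061 (.leaf 0x0) (.leaf 0xd0b0002))) (.node 6063 (.leaf 0x0) (.node 6064 (.leaf 0x301070206000802040105000b) (.leaf 0x0))))))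

def argWS_535 : Store := (.node 6076 (.node 6070 (.node 6067 (.node 6066 (.leaf 0xf0a0002) (.leaf 0x0)) (.node 6068 (.leaf 0x17b20017ae) (.node 6069 (.leaf 0x5020000030306040202000701000d) (.leaf 0x0)))) (.node 6073 (.node 6071 (.leaf 0xb0b0002) (.node 6072 (.leaf 0x0) (.leaf 0x603010207020007010009))) (.node 6074 (.leaf 0x0) (.node 6075 (.leaf 0xa0f0b0b0004) (.leaf 0x200020901060006))))) (.node 6082 (.node 6079 (.node 6077 (.leaf 0x0) (.node 6078 (.leaf 0x0) (.leaf 0xb0b0a0a0004))) (.node 6080 (.leaf 0x3070002000003010802040105000d) (.node 6081 (.leaf 0x0) (.leaf 0x0)))) (.node 6085 (.node 6083 (.leaf 0x0) (.node 6084 (.leaf 0x4040002) (.leaf 0x0))) (.node 6086 (.leaf 0xa0f0b0003) (.node 6087 (.leaf 0x601020106020702010009) (.leaf 0x0))))))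

def argWS_536 : Store := (.node 6065 argWS_534 argWS_535)

def argWS_537 : Store := (.node 6099 (.node 6093 (.node 6090 (.node 6089 (.leaf 0xb0a0002) (.leaf 0xa0f0002)) (.node 6091 (.leaf 0xb0f0a0003) (.node 6092 (.leaf 0xb0a0a0003) (.leaf 0x20401090000090802040105000c)))) (.node 6096 (.node 6094 (.leaf 0xb0b0a0003) (.node 6095 (.leaf 0xf0b0a0003) (.leaf 0xa0f0b0b0004))) (.node 6097 (.leaf 0x1020002080400000703040103000d) (.node 6098 (.leaf 0x0) (.leaf 0xf0b0a0a0004))))) (.node 6104 (.node 6101 (.node 6100 (.leaf 0x0) (.leaf 0x17d3)) (.node 6102 (.leaf 0x906020703000703040103000b) (.node 6103 (.leaf 0x0) (.leaf 0xa0f0002)))) (.node 6107 (.node 6105 (.leaf 0x0) (.node 6106 (.leaf 0xb0f0a0a0004) (.leaf 0x0))) (.node 6108 (.leaf 0x0) (.node 6109 (.leaf 0xb0b0002) (.leaf 0xb0a0002))))))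

def argWS_538 : Store := (.node 6121 (.node 6115 (.node 6112 (.node 6111 (.leaf 0x209020003) (.leaf 0x0)) (.node 6113 (.leaf 0xa0f0002) (.node 6114 (.leaf 0x0) (.leaf 0x30700000300000802040105000c)))) (.node 6118 (.node 6116 (.leaf 0x0) (.node 6117 (.leaf 0xd0001) (.leaf 0x0))) (.node 6119 (.leaf 0x17e5) (.node 6120 (.leaf 0x701020804000202000701000b) (.leaf 0x0))))) (.node 6127 (.node 6124 (.node 6122 (.leaf 0xa0f0002) (.node 6123 (.leaf 0x0) (.leaf 0x703050002080400000703040103000e))) (.node 6125 (.leaf 0x0) (.node 6126 (.leaf 0xf0b0a0a0004) (.leaf 0xa0f0b0003)))) (.node 6130 (.node 6128 (.leaf 0x70101010703060007) (.node 6129 (.leaf 0x0) (.leaf 0x50300000300000007))) (.node 6131 (.leaf 0x0) (.node 6132 (.leaf 0x0) (.leaf 0x17f3))))))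

def argWS_539 : Store := (.node 6110 argWS_537 argWS_538)

def argWS_540 : Store := (.node 6088 argWS_536 argWS_539)

def argWS_541 : Store := (.node 6043 argWS_533 argWS_540)

def argWS_542 : Store := (.node 5953 argWS_526 argWS_541)

def argWS_543 : Store := (.node 6144 (.node 6138 (.node 6135 (.node 6134 (.leaf 0xa0f0002) (.leaf 0x0)) (.node 6136 (.leaf 0xf0b0b0a0a0005) (.node 6137 (.leaf 0x0) (.leaf 0xf0b0b0003)))) (.node 6141 (.node 6139 (.leaf 0x0) (.node 6140 (.leaf 0x2020703060202000701000a) (.leaf 0x0))) (.node 6142 (.leaf 0xb0a0002) (.node 6143 (.leaf 0x0) (.leaf 0x17fe0001d1))))) (.node 6149 (.node 6146 (.node 6145 (.leaf 0x9050305020202010008) (.leaf 0x0)) (.node 6147 (.leaf 0xf0a0002) (.node 6148 (.leaf 0x0) (.leaf 0x8020006030500040008)))) (.node 6152 (.node 6150 (.leaf 0x0) (.node 6151 (.leaf 0xf0b0a0a0004) (.leaf 0x70305070206000802040105000c))) (.node 6153 (.leaf 0x0) (.node 6154 (.leaf 0x0) (.leaf 0x1809))))))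

def argWS_544 : Store := (.node 6166 (.node 6160 (.node 6157 (.node 6156 (.leaf 0xd0b0002) (.leaf 0x0)) (.node 6158 (.leaf 0xa0f0b0b0004) (.node 6159 (.leaf 0x0) (.leaf 0x0)))) (.node 6163 (.node 6161 (.leaf 0x17ca) (.node 6162 (.leaf 0xb0b0002) (.leaf 0x0))) (.node 6164 (.leaf 0x0) (.node 6165 (.leaf 0xb0a0002) (.leaf 0xb0b0a0003))))) (.node 6172 (.node 6169 (.node 6167 (.leaf 0x40003070206000202000701000c) (.node 6168 (.leaf 0x0) (.leaf 0x0))) (.node 6170 (.leaf 0x17f9001818) (.node 6171 (.leaf 0xf0b0a0a0004) (.leaf 0x0)))) (.node 6175 (.node 6173 (.leaf 0x6040105020604000703040103000d) (.node 6174 (.leaf 0x0) (.leaf 0xb0f0a0003))) (.node 6176 (.leaf 0x107070306000703040103000b) (.node 6177 (.leaf 0x0) (.leaf 0xf0001))))))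

def argWS_545 : Store := (.node 6155 argWS_543 argWS_544)

def argWS_546 : Store := (.node 6189 (.node 6183 (.node 6180 (.node 6179 (.leaf 0x0) (.leaf 0x18220012e8)) (.node 6181 (.leaf 0x705020202010202000701000b) (.node 6182 (.leaf 0x0) (.leaf 0xf0b0b0a0a0005)))) (.node 6186 (.node 6184 (.leaf 0x0) (.node 6185 (.leaf 0x60501070206000007) (.leaf 0x0))) (.node 6187 (.leaf 0xf0b0b0a0a0005) (.node 6188 (.leaf 0x103090806000802040105000b) (.leaf 0x0))))) (.node 6194 (.node 6191 (.node 6190 (.leaf 0x0) (.leaf 0x0)) (.node 6192 (.leaf 0x182e001162) (.node 6193 (.leaf 0xf0b0b0a0004) (.leaf 0x0)))) (.node 6197 (.node 6195 (.leaf 0xb0b0002) (.node 6196 (.leaf 0x0) (.leaf 0x0))) (.node 6198 (.leaf 0xb0f0002) (.node 6199 (.leaf 0x705070206000202000701000b) (.leaf 0x0))))))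

def argWS_547 : Store := (.node 6211 (.node 6205 (.node 6202 (.node 6201 (.leaf 0x0) (.leaf 0xf0b0a0003)) (.node 6203 (.leaf 0x0) (.node 6204 (.leaf 0x183a001838) (.leaf 0x9070000090206020202000701000d)))) (.node 6208 (.node 6206 (.leaf 0x0) (.node 6207 (.leaf 0xa0f0b0003) (.leaf 0x0))) (.node 6209 (.leaf 0x200020603000703040103000b) (.node 6210 (.leaf 0x0) (.leaf 0xe0a0a0003))))) (.node 6217 (.node 6214 (.node 6212 (.leaf 0xb0a0a0003) (.node 6213 (.leaf 0x20201090402000703040103000c) (.leaf 0x0))) (.node 6215 (.leaf 0xe0a0a0003) (.node 6216 (.leaf 0x0) (.leaf 0x1847)))) (.node 6220 (.node 6218 (.leaf 0xa0f0b0b0004) (.node 6219 (.leaf 0x50901060802040105000a) (.leaf 0x0))) (.node 6221 (.leaf 0xa0f0b0003) (.node 6222 (.leaf 0xd0b0002) (.leaf 0x703050004080703040103000b))))))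

def argWS_548 : Store := (.node 6200 argWS_546 argWS_547)

def argWS_549 : Store := (.node 6178 argWS_545 argWS_548)

def argWS_550 : Store := (.node 6234 (.node 6228 (.node 6225 (.node 6224 (.leaf 0x0) (.leaf 0xb0a0002)) (.node 6226 (.leaf 0x0) (.node 6227 (.leaf 0x101070009030006) (.leaf 0x0)))) (.node 6231 (.node 6229 (.leaf 0xb0b0a0003) (.node 6230 (.leaf 0x0) (.leaf 0x1855))) (.node 6232 (.leaf 0x80101090806000007) (.node 6233 (.leaf 0x0) (.leaf 0xf0b0b0003))))) (.node 6239 (.node 6236 (.node 6235 (.leaf 0x0) (.leaf 0x40304070206000802040105000c)) (.node 6237 (.leaf 0x0) (.node 6238 (.leaf 0xd0b0002) (.leaf 0xb0b0a0003)))) (.node 6242 (.node 6240 (.leaf 0xb0f0002) (.node 6241 (.leaf 0x904020106060006) (.leaf 0x0))) (.node 6243 (.leaf 0x0) (.node 6244 (.leaf 0x17a9001862) (.leaf 0x0))))))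

def argWS_551 : Store := (.node 6256 (.node 6250 (.node 6247 (.node 6246 (.leaf 0x8020005020202010202000701000d) (.leaf 0x0)) (.node 6248 (.leaf 0xb0f0002) (.node 6249 (.leaf 0x80003080005) (.leaf 0x0)))) (.node 6253 (.node 6251 (.leaf 0x0) (.node 6252 (.leaf 0x186a0003bd) (.leaf 0x30306040802040105000c))) (.node 6254 (.leaf 0x0) (.node 6255 (.leaf 0xb0001) (.leaf 0x0))))) (.node 6262 (.node 6259 (.node 6257 (.leaf 0xf0a0a0003) (.node 6258 (.leaf 0x0) (.leaf 0x0))) (.node 6260 (.leaf 0xf0b0002) (.node 6261 (.leaf 0x702020900000202000701000c) (.leaf 0x0)))) (.node 6265 (.node 6263 (.leaf 0x0) (.node 6264 (.leaf 0x1876000aaa) (.leaf 0x6020109000009000703040103000d))) (.node 6266 (.leaf 0x0) (.node 6267 (.leaf 0xf0b0002) (.leaf 0x0))))))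

def argWS_552 : Store := (.node 6245 argWS_550 argWS_551)

def argWS_553 : Store := (.node 6279 (.node 6273 (.node 6270 (.node 6269 (.leaf 0x0) (.leaf 0x0)) (.node 6271 (.leaf 0x50003010102000202000701000c) (.node 6272 (.leaf 0x20401070209020802040105000c) (.leaf 0x0)))) (.node 6276 (.node 6274 (.leaf 0x4040002) (.node 6275 (.leaf 0x0) (.leaf 0x4040002))) (.node 6277 (.leaf 0x0) (.node 6278 (.leaf 0x20401070209020802040105000c) (.leaf 0x0))))) (.node 6284 (.node 6281 (.node 6280 (.leaf 0x20401070209020802040105000c) (.leaf 0x0)) (.node 6282 (.leaf 0x4040002) (.node 6283 (.leaf 0x0) (.leaf 0x4040002)))) (.node 6287 (.node 6285 (.leaf 0x0) (.node 6286 (.leaf 0x600070306000703040103000b) (.leaf 0x0))) (.node 6288 (.leaf 0xf0a0a0003) (.node 6289 (.leaf 0x6000003) (.leaf 0x0))))))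

def argWS_554 : Store := (.node 6301 (.node 6295 (.node 6292 (.node 6291 (.leaf 0xb0b0a0a0004) (.leaf 0x202020003)) (.node 6293 (.leaf 0x0) (.node 6294 (.leaf 0xe0d0002) (.leaf 0x202000003010802040105000c)))) (.node 6298 (.node 6296 (.leaf 0x0) (.node 6297 (.leaf 0xf0b0b0a0a0005) (.leaf 0xf0b0b0003))) (.node 6299 (.leaf 0x6050105020604000703040103000d) (.node 6300 (.leaf 0x0) (.leaf 0xf0b0a0003))))) (.node 6307 (.node 6304 (.node 6302 (.leaf 0xf0b0b0003) (.node 6303 (.leaf 0x4040603050004000703040103000d) (.leaf 0x0))) (.node 6305 (.leaf 0xa0001) (.node 6306 (.leaf 0x500090000090006) (.leaf 0x0)))) (.node 6310 (.node 6308 (.leaf 0xf0b0a0a0004) (.node 6309 (.leaf 0x0) (.leaf 0x60501090109000703040103000c))) (.node 6311 (.leaf 0x0) (.node 6312 (.leaf 0xf0001) (.leaf 0xe0d0002))))))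

def argWS_555 : Store := (.node 6290 argWS_553 argWS_554)

def argWS_556 : Store := (.node 6268 argWS_552 argWS_555)

def argWS_557 : Store := (.node 6223 argWS_549 argWS_556)

def argWS_558 : Store := (.node 6324 (.node 6318 (.node 6315 (.node 6314 (.leaf 0x6060102020900000202000701000d) (.leaf 0x0)) (.node 6316 (.leaf 0x0) (.node 6317 (.leaf 0xd0b0b0003) (.leaf 0x18ac0018ab)))) (.node 6321 (.node 6319 (.leaf 0x601020102090106000703040103000e) (.node 6320 (.leaf 0x0) (.leaf 0xd0001))) (.node 6322 (.leaf 0x0) (.node 6323 (.leaf 0xa0a0002) (.leaf 0x0))))) (.node 6329 (.node 6326 (.node 6325 (.leaf 0x0) (.leaf 0xa0f0002)) (.node 6327 (.leaf 0xb0f0a0a0004) (.node 6328 (.leaf 0xf0b0a0a0004) (.leaf 0xb0f0a0003)))) (.node 6332 (.node 6330 (.leaf 0x90600000300000802040105000c) (.node 6331 (.leaf 0x0) (.leaf 0x0))) (.node 6333 (.leaf 0x1010904020202000701000a) (.node 6334 (.leaf 0x0) (.leaf 0x0))))))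

def argWS_559 : Store := (.node 6346 (.node 6340 (.node 6337 (.node 6336 (.leaf 0x18be000188) (.leaf 0xa0f0b0003)) (.node 6338 (.leaf 0x0) (.node 6339 (.leaf 0x5070209020802040105000a) (.leaf 0x0)))) (.node 6343 (.node 6341 (.leaf 0xf0a0002) (.node 6342 (.leaf 0xf0a0a0003) (.leaf 0xa0001))) (.node 6344 (.leaf 0x200060207020703040103000c) (.node 6345 (.leaf 0x0) (.leaf 0x1020603000703040103000a))))) (.node 6352 (.node 6349 (.node 6347 (.leaf 0xb0b0a0003) (.node 6348 (.leaf 0x702010703060802040105000b) (.leaf 0xf0b0a0003))) (.node 6350 (.leaf 0xb0b0002) (.node 6351 (.leaf 0x0) (.leaf 0x18ce)))) (.node 6355 (.node 6353 (.leaf 0x1030007020902000703040103000d) (.node 6354 (.leaf 0x0) (.leaf 0xb0f0a0a0004))) (.node 6356 (.leaf 0xf0b0b0a0a0005) (.node 6357 (.leaf 0xb0001) (.leaf 0x18d4000bde))))))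

def argWS_560 : Store := (.node 6335 argWS_558 argWS_559)

def argWS_561 : Store := (.node 6369 (.node 6363 (.node 6360 (.node 6359 (.leaf 0x8000409000009000703040103000d) (.leaf 0x0)) (.node 6361 (.leaf 0xa0001) (.node 6362 (.leaf 0x0) (.leaf 0x90303010102000007)))) (.node 6366 (.node 6364 (.leaf 0x0) (.node 6365 (.leaf 0xb0b0002) (.leaf 0x204020804000802040105000b))) (.node 6367 (.leaf 0x0) (.node 6368 (.leaf 0xd0b0b0003) (.leaf 0xf0001))))) (.node 6374 (.node 6371 (.node 6370 (.leaf 0xb0b0002) (.leaf 0x18e10018e0)) (.node 6372 (.leaf 0x40007020007010007) (.node 6373 (.leaf 0x0) (.leaf 0xa0f0002)))) (.node 6377 (.node 6375 (.leaf 0x0) (.node 6376 (.leaf 0xf0a0002) (.leaf 0x0))) (.node 6378 (.leaf 0x0) (.node 6379 (.leaf 0xa0f0b0003) (.leaf 0xe0a0002))))))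

def argWS_562 : Store := (.node 6391 (.node 6385 (.node 6382 (.node 6381 (.leaf 0xb0f0a0003) (.leaf 0x18ec0018eb)) (.node 6383 (.leaf 0xb0f0002) (.node 6384 (.leaf 0x0) (.leaf 0x3070003030604000703040103000d)))) (.node 6388 (.node 6386 (.leaf 0x0) (.node 6387 (.leaf 0xb0b0a0a0004) (.leaf 0xd0b0002))) (.node 6389 (.leaf 0x9070006010500020202000701000d) (.node 6390 (.leaf 0x0) (.leaf 0xf0a0002))))) (.node 6397 (.node 6394 (.node 6392 (.leaf 0x0) (.node 6393 (.leaf 0x18f7) (.leaf 0xf0b0002))) (.node 6395 (.leaf 0x0) (.node 6396 (.leaf 0x700090000090802040105000b) (.leaf 0x0)))) (.node 6400 (.node 6398 (.leaf 0xf0b0a0a0004) (.node 6399 (.leaf 0x107090109000703040103000b) (.leaf 0xf0b0b0003))) (.node 6401 (.leaf 0xf0a0002) (.node 6402 (.leaf 0x10501010200000703040103000c) (.leaf 0x0))))))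

def argWS_563 : Store := (.node 6380 argWS_561 argWS_562)

def argWS_564 : Store := (.node 6358 argWS_560 argWS_563)

def argWS_565 : Store := (.node 6414 (.node 6408 (.node 6405 (.node 6404 (.leaf 0xb0b0a0a0004) (.leaf 0x0)) (.node 6406 (.leaf 0x301020106060802040105000b) (.node 6407 (.leaf 0x0) (.leaf 0xb0f0a0003)))) (.node 6411 (.node 6409 (.leaf 0x0) (.node 6410 (.leaf 0x1908001904) (.leaf 0xf0a0002))) (.node 6412 (.leaf 0x0) (.node 6413 (.leaf 0x5000308000703040103000a) (.leaf 0x0))))) (.node 6419 (.node 6416 (.node 6415 (.leaf 0xb0f0a0003) (.leaf 0xb0f0002)) (.node 6417 (.leaf 0x20502000408010202000701000c) (.node 6418 (.leaf 0x0) (.leaf 0xd0b0b0003)))) (.node 6422 (.node 6420 (.leaf 0x0) (.node 6421 (.leaf 0x1913001791) (.leaf 0x7050901090005))) (.node 6423 (.leaf 0x0) (.node 6424 (.leaf 0xe0a0002) (.leaf 0x0))))))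

def argWS_566 : Store := (.node 6436 (.node 6430 (.node 6427 (.node 6426 (.leaf 0x90707020902000703040103000c) (.leaf 0x0)) (.node 6428 (.leaf 0xa0f0002) (.node 6429 (.leaf 0x20002090009000703040103000c) (.leaf 0x0)))) (.node 6433 (.node 6431 (.leaf 0xa0a0002) (.node 6432 (.leaf 0x0) (.leaf 0x204090000090202000701000b))) (.node 6434 (.leaf 0x904020703000703040103000b) (.node 6435 (.leaf 0x0) (.leaf 0x0))))) (.node 6442 (.node 6439 (.node 6437 (.leaf 0xa0f0b0003) (.node 6438 (.leaf 0x9bb001924) (.leaf 0x900020703000703040103000c))) (.node 6440 (.leaf 0x0) (.node 6441 (.leaf 0xf0a0002) (.leaf 0x0)))) (.node 6445 (.node 6443 (.leaf 0x2090000000703040103000b) (.node 6444 (.leaf 0x0) (.leaf 0xb0b0002))) (.node 6446 (.leaf 0xa0f0002) (.node 6447 (.leaf 0xd0b0002) (.leaf 0x192e))))))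

def argWS_567 : Store := (.node 6425 argWS_565 argWS_566)

def argWS_568 : Store := (.node 6459 (.node 6453 (.node 6450 (.node 6449 (.leaf 0x702060002020007010009) (.leaf 0x0)) (.node 6451 (.leaf 0x0) (.node 6452 (.leaf 0xb0b0002) (.leaf 0x0)))) (.node 6456 (.node 6454 (.leaf 0x0) (.node 6455 (.leaf 0x6010900090005) (.leaf 0x40002000003010007))) (.node 6457 (.leaf 0x0) (.node 6458 (.leaf 0xa0f0b0b0004) (.leaf 0x0))))) (.node 6465 (.node 6462 (.node 6460 (.leaf 0x193a) (.node 6461 (.leaf 0x5000904020005) (.leaf 0x0))) (.node 6463 (.leaf 0xa0f0b0003) (.node 6464 (.leaf 0x0) (.leaf 0xf0a0002)))) (.node 6468 (.node 6466 (.leaf 0x6060007030401030008) (.node 6467 (.leaf 0x0) (.leaf 0xf0b0b0a0a0005))) (.node 6469 (.leaf 0x0) (.node 6470 (.leaf 0x7020007010006) (.leaf 0x0))))))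

def argWS_569 : Store := (.node 6482 (.node 6476 (.node 6473 (.node 6472 (.leaf 0xf0001) (.leaf 0x0)) (.node 6474 (.leaf 0x1948) (.node 6475 (.leaf 0xa0a0002) (.leaf 0x0)))) (.node 6479 (.node 6477 (.leaf 0x7030502000003010008) (.node 6478 (.leaf 0x0) (.leaf 0xf0b0b0a0004))) (.node 6480 (.leaf 0xb0b0a0003) (.node 6481 (.leaf 0xf0b0002) (.leaf 0x4090806000802040105000b))))) (.node 6488 (.node 6485 (.node 6483 (.leaf 0x80300020106060802040105000c) (.node 6484 (.leaf 0x0) (.leaf 0xe0001))) (.node 6486 (.leaf 0x0) (.node 6487 (.leaf 0x18e2) (.leaf 0x6000206020007010009)))) (.node 6491 (.node 6489 (.leaf 0x0) (.node 6490 (.leaf 0xb0001) (.leaf 0x0))) (.node 6492 (.leaf 0x805000007030401030009) (.node 6493 (.leaf 0x0) (.leaf 0xb0a0002))))))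

def argWS_570 : Store := (.node 6471 argWS_568 argWS_569)

def argWS_571 : Store := (.node 6448 argWS_567 argWS_570)

def argWS_572 : Store := (.node 6403 argWS_564 argWS_571)

def argWS_573 : Store := (.node 6313 argWS_557 argWS_572)

def argWS_574 : Store := (.node 6133 argWS_542 argWS_573)

def argWS_575 : Store := (.node 6505 (.node 6499 (.node 6496 (.node 6495 (.leaf 0x6020005020202010802040105000d) (.leaf 0x0)) (.node 6497 (.leaf 0x0) (.node 6498 (.leaf 0x19600002fb) (.leaf 0xf0a0a0003)))) (.node 6502 (.node 6500 (.leaf 0x0) (.node 6501 (.leaf 0x90503010908050007) (.leaf 0x0))) (.node 6503 (.leaf 0xf0a0a0003) (.node 6504 (.leaf 0x20903010904020202000701000c) (.leaf 0x0))))) (.node 6510 (.node 6507 (.node 6506 (.leaf 0xa0f0002) (.leaf 0x0)) (.node 6508 (.leaf 0xa0f0b0b0004) (.node 6509 (.leaf 0xf0b0a0003) (.leaf 0x196c00196b)))) (.node 6513 (.node 6511 (.leaf 0xb0001) (.node 6512 (.leaf 0x0) (.leaf 0x70200000300000802040105000c))) (.node 6514 (.leaf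 0x0) (.node 6515 (.leaf 0xb0a0a0003) (.leaf 0x20600090206020802040105000c))))))

def argWS_576 : Store := (.node 6527 (.node 6521 (.node 6518 (.node 6517 (.leaf 0x0) (.leaf 0xb0b0a0003)) (.node 6519 (.leaf 0x0) (.node 6520 (.leaf 0x704070206000202000701000b) (.leaf 0x0)))) (.node 6524 (.node 6522 (.leaf 0xe0a0002) (.node 6523 (.leaf 0x0) (.leaf 0xf0b0002))) (.node 6525 (.leaf 0x0) (.node 6526 (.leaf 0x197c) (.leaf 0x404010703060802040105000b))))) (.node 6533 (.node 6530 (.node 6528 (.leaf 0x0) (.node 6529 (.leaf 0xe0001) (.leaf 0x0))) (.node 6531 (.leaf 0x0) (.node 6532 (.leaf 0xa0001) (.leaf 0x700030000000703040103000b)))) (.node 6536 (.node 6534 (.leaf 0x0) (.node 6535 (.leaf 0x0) (.leaf 0xd0b0b0003))) (.node 6537 (.leaf 0x1987001986) (.node 6538 (.leaf 0x5020005020202010202000701000d) (.leaf 0x0))))))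

def argWS_577 : Store := (.node 6516 argWS_575 argWS_576)

def argWS_578 : Store := (.node 6550 (.node 6544 (.node 6541 (.node 6540 (.leaf 0xe0001) (.leaf 0x0)) (.node 6542 (.leaf 0xb0f0002) (.node 6543 (.leaf 0x0) (.leaf 0x0)))) (.node 6547 (.node 6545 (.leaf 0x3010908050802040105000b) (.node 6546 (.leaf 0x0) (.leaf 0xb0f0a0003))) (.node 6548 (.leaf 0x0) (.node 6549 (.leaf 0x9050300020804000202000701000d) (.leaf 0x0))))) (.node 6555 (.node 6552 (.node 6551 (.leaf 0xe0d0002) (.leaf 0x0)) (.node 6553 (.leaf 0x1997) (.node 6554 (.leaf 0x5020908050802040105000a) (.leaf 0x0)))) (.node 6558 (.node 6556 (.leaf 0xa0f0b0b0004) (.node 6557 (.leaf 0x0) (.leaf 0x50102000003010802040105000c))) (.node 6559 (.leaf 0x0) (.node 6560 (.leaf 0xb0f0a0003) (.leaf 0xa0f0b0b0004))))))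

def argWS_579 : Store := (.node 6572 (.node 6566 (.node 6563 (.node 6562 (.leaf 0x1563) (.leaf 0xb0b0002)) (.node 6564 (.leaf 0x0) (.node 6565 (.leaf 0x702060402020007010009) (.leaf 0x0)))) (.node 6569 (.node 6567 (.leaf 0xb0a0002) (.node 6568 (.leaf 0xd0b0002) (.leaf 0x50106020702010802040105000c))) (.node 6570 (.leaf 0x0) (.node 6571 (.leaf 0xf0a0002) (.leaf 0x0))))) (.node 6578 (.node 6575 (.node 6573 (.leaf 0x19ab) (.node 6574 (.leaf 0xe0a0002) (.leaf 0x0))) (.node 6576 (.leaf 0x1020603000703040103000a) (.node 6577 (.leaf 0x0) (.leaf 0xf0b0002)))) (.node 6581 (.node 6579 (.leaf 0xb0b0a0003) (.node 6580 (.leaf 0xe0a0002) (.leaf 0x0))) (.node 6582 (.leaf 0x0) (.node 6583 (.leaf 0xb0b0a0a0004) (.leaf 0x602010301010200000703040103000e))))))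

def argWS_580 : Store := (.node 6561 argWS_578 argWS_579)

def argWS_581 : Store := (.node 6539 argWS_577 argWS_580)

def argWS_582 : Store := (.node 6595 (.node 6589 (.node 6586 (.node 6585 (.leaf 0x0) (.leaf 0x0)) (.node 6587 (.leaf 0x0) (.node 6588 (.leaf 0x4040002) (.leaf 0x0)))) (.node 6592 (.node 6590 (.leaf 0xa0a0002) (.node 6591 (.leaf 0xf0a0a0003) (.leaf 0xa0f0b0b0004))) (.node 6593 (.leaf 0xa0f0b0003) (.node 6594 (.leaf 0x3040305020202010802040105000d) (.leaf 0x0))))) (.node 6600 (.node 6597 (.node 6596 (.leaf 0x0) (.leaf 0x19c3)) (.node 6598 (.leaf 0xe0d0002) (.node 6599 (.leaf 0x0) (.leaf 0xf0a0002)))) (.node 6603 (.node 6601 (.leaf 0x0) (.node 6602 (.leaf 0x0) (.leaf 0xb0b0a0a0004))) (.node 6604 (.leaf 0xb0b0a0003) (.node 6605 (.leaf 0xf0a0a0003) (.leaf 0x19cc))))))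

def argWS_583 : Store := (.node 6617 (.node 6611 (.node 6608 (.node 6607 (.leaf 0xe0a0002) (.leaf 0x0)) (.node 6609 (.leaf 0xa0f0b0b0004) (.node 6610 (.leaf 0x0) (.leaf 0xf0b0b0a0a0005)))) (.node 6614 (.node 6612 (.leaf 0x0) (.node 6613 (.leaf 0xf0001) (.leaf 0xb0a0002))) (.node 6615 (.leaf 0x80101020106060202000701000c) (.node 6616 (.leaf 0x0) (.leaf 0x0))))) (.node 6623 (.node 6620 (.node 6618 (.leaf 0x0) (.node 6619 (.leaf 0x19d90019d8) (.leaf 0xd0001))) (.node 6621 (.leaf 0x0) (.node 6622 (.leaf 0xb0f0a0003) (.leaf 0x0)))) (.node 6626 (.node 6624 (.leaf 0x0) (.node 6625 (.leaf 0x204010207030802040105000b) (.leaf 0x0))) (.node 6627 (.leaf 0xf0a0002) (.node 6628 (.leaf 0x0) (.leaf 0x30502000003010007))))))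

def argWS_584 : Store := (.node 6606 argWS_582 argWS_583)

def argWS_585 : Store := (.node 6640 (.node 6634 (.node 6631 (.node 6630 (.leaf 0x60301020703000703040103000c) (.leaf 0x0)) (.node 6632 (.leaf 0xf0a0002) (.node 6633 (.leaf 0x0) (.leaf 0xd0b0002)))) (.node 6637 (.node 6635 (.leaf 0x19e900128b) (.node 6636 (.leaf 0x10502070209020802040105000c) (.leaf 0x0))) (.node 6638 (.leaf 0xf0b0b0a0004) (.node 6639 (.leaf 0x0) (.leaf 0x3000400050202000701000a))))) (.node 6645 (.node 6642 (.node 6641 (.leaf 0x0) (.leaf 0xf0b0b0a0a0005)) (.node 6643 (.leaf 0xb0001) (.node 6644 (.leaf 0x11950011ae) (.leaf 0xf0a0002)))) (.node 6648 (.node 6646 (.leaf 0x0) (.node 6647 (.leaf 0xb0a0f0003) (.leaf 0x0))) (.node 6649 (.leaf 0xf0a0002) (.node 6650 (.leaf 0xe0001) (.leaf 0xb0a0f0003))))))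

def argWS_586 : Store := (.node 6662 (.node 6656 (.node 6653 (.node 6652 (.leaf 0xb0a0a0003) (.leaf 0x2000408010202000701000b)) (.node 6654 (.leaf 0x0) (.node 6655 (.leaf 0x0) (.leaf 0x19fe000201)))) (.node 6659 (.node 6657 (.leaf 0x6020005020202010202000701000d) (.node 6658 (.leaf 0x0) (.leaf 0x0))) (.node 6660 (.leaf 0x90303010102000007) (.node 6661 (.leaf 0x0) (.leaf 0xb0b0002))))) (.node 6668 (.node 6665 (.node 6663 (.leaf 0x50200000408010802040105000c) (.node 6664 (.leaf 0x0) (.leaf 0xe0d0002))) (.node 6666 (.leaf 0x0) (.node 6667 (.leaf 0x90306030500040802040105000c) (.leaf 0x0)))) (.node 6671 (.node 6669 (.leaf 0x0) (.node 6670 (.leaf 0x1a0c0002ff) (.leaf 0x605020202010202000701000c))) (.node 6672 (.leaf 0x0) (.node 6673 (.leaf 0xe0d0002) (.leaf 0x0))))))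

def argWS_587 : Store := (.node 6651 argWS_585 argWS_586)

def argWS_588 : Store := (.node 6629 argWS_584 argWS_587)

def argWS_589 : Store := (.node 6584 argWS_581 argWS_588)

def argWS_590 : Store := (.node 6685 (.node 6679 (.node 6676 (.node 6675 (.leaf 0x307030401030006) (.leaf 0x0)) (.node 6677 (.leaf 0xf0b0002) (.node 6678 (.leaf 0xf0b0002) (.leaf 0x60601090806000202000701000c)))) (.node 6682 (.node 6680 (.leaf 0xa0a0002) (.node 6681 (.leaf 0x40003010908050202000701000c) (.leaf 0x0))) (.node 6683 (.leaf 0xb0a0a0003) (.node 6684 (.leaf 0x0) (.leaf 0x1a1b001162))))) (.node 6690 (.node 6687 (.node 6686 (.leaf 0xf0b0b0003) (.leaf 0x0)) (.node 6688 (.leaf 0xd0b0b0003) (.node 6689 (.leaf 0x0) (.leaf 0x0)))) (.node 6693 (.node 6691 (.leaf 0xe0a0002) (.node 6692 (.leaf 0x501020901060202000701000b) (.leaf 0x0))) (.node 6694 (.leaf 0xa0f0b0b0004) (.node 6695 (.leaf 0x0) (.leaf 0x1a26001a22))))))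

def argWS_591 : Store := (.node 6707 (.node 6701 (.node 6698 (.node 6697 (.leaf 0x40006030500040007) (.leaf 0x0)) (.node 6699 (.leaf 0xf0b0b0a0a0005) (.node 6700 (.leaf 0x0) (.leaf 0xf0a0002)))) (.node 6704 (.node 6702 (.leaf 0x0) (.node 6703 (.leaf 0x0) (.leaf 0x14ee))) (.node 6705 (.leaf 0xf0a0a0003) (.node 6706 (.leaf 0x0) (.leaf 0xa0f0b0003))))) (.node 6713 (.node 6710 (.node 6708 (.leaf 0x0) (.node 6709 (.leaf 0x0) (.leaf 0xf0b0002))) (.node 6711 (.leaf 0x153f0009ac) (.node 6712 (.leaf 0xb0b0002) (.leaf 0x0)))) (.node 6716 (.node 6714 (.leaf 0x30406030500040007) (.node 6715 (.leaf 0x0) (.leaf 0xb0001))) (.node 6717 (.leaf 0x7070209020005) (.node 6718 (.leaf 0x0) (.leaf 0x4030901090802040105000a))))))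

def argWS_592 : Store := (.node 6696 argWS_590 argWS_591)

def argWS_593 : Store := (.node 6730 (.node 6724 (.node 6721 (.node 6720 (.leaf 0x4000305020202010802040105000d) (.leaf 0x0)) (.node 6722 (.leaf 0x901040901090802040105000b) (.node 6723 (.leaf 0x0) (.leaf 0x202020102020007010009)))) (.node 6727 (.node 6725 (.leaf 0x0) (.node 6726 (.leaf 0xf0b0a0003) (.leaf 0x0))) (.node 6728 (.leaf 0x0) (.node 6729 (.leaf 0x0) (.leaf 0xb0b0a0a0004))))) (.node 6735 (.node 6732 (.node 6731 (.leaf 0x4000202020703040103000a) (.leaf 0x0)) (.node 6733 (.leaf 0x0) (.node 6734 (.leaf 0x0) (.leaf 0x4040002)))) (.node 6738 (.node 6736 (.leaf 0x0) (.node 6737 (.leaf 0xd0b0b0003) (.leaf 0xb0001))) (.node 6739 (.leaf 0xb0f0a0a0004) (.node 6740 (.leaf 0xf0b0b0003) (.leaf 0xe0d0002))))))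

def argWS_594 : Store := (.node 6752 (.node 6746 (.node 6743 (.node 6742 (.leaf 0x301060602020007010009) (.leaf 0x0)) (.node 6744 (.leaf 0x7090009000703040103000a) (.node 6745 (.leaf 0x0) (.leaf 0xb0b0a0003)))) (.node 6749 (.node 6747 (.leaf 0xf0b0b0a0004) (.node 6748 (.leaf 0xa0f0002) (.leaf 0x200000207030006))) (.node 6750 (.leaf 0x0) (.node 6751 (.leaf 0xf0b0b0003) (.leaf 0x0))))) (.node 6758 (.node 6755 (.node 6753 (.leaf 0x8010106020702010202000701000d) (.node 6754 (.leaf 0x0) (.leaf 0xf0a0a0003))) (.node 6756 (.leaf 0x0) (.node 6757 (.leaf 0x1a63) (.leaf 0x50002010606000703040103000c)))) (.node 6761 (.node 6759 (.leaf 0x0) (.node 6760 (.leaf 0xb0001) (.leaf 0x0))) (.node 6762 (.leaf 0x2090300090206020802040105000d) (.node 6763 (.leaf 0x0) (.leaf 0x0))))))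

def argWS_595 : Store := (.node 6741 argWS_593 argWS_594)

def argWS_596 : Store := (.node 6719 argWS_592 argWS_595)

def argWS_597 : Store := (.node 6775 (.node 6769 (.node 6766 (.node 6765 (.leaf 0x5020002020900000008) (.leaf 0x0)) (.node 6767 (.leaf 0xd0b0002) (.node 6768 (.leaf 0x1a6e001a6d) (.leaf 0xb0a0a0003)))) (.node 6772 (.node 6770 (.leaf 0x0) (.node 6771 (.leaf 0xb0f0a0a0004) (.leaf 0x0))) (.node 6773 (.leaf 0x0) (.node 6774 (.leaf 0x605010901090202000701000b) (.leaf 0x0))))) (.node 6780 (.node 6777 (.node 6776 (.leaf 0x0) (.leaf 0x9050300020804000802040105000d)) (.node 6778 (.leaf 0x0) (.node 6779 (.leaf 0x0) (.leaf 0x1a7a001a77)))) (.node 6783 (.node 6781 (.leaf 0x4020500030306040802040105000d) (.node 6782 (.leaf 0x0) (.leaf 0xa0f0b0b0004))) (.node 6784 (.leaf 0x0) (.node 6785 (.leaf 0x4000306030500040202000701000d) (.leaf 0x0))))))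

def argWS_598 : Store := (.node 6797 (.node 6791 (.node 6788 (.node 6787 (.leaf 0xd0b0b0003) (.leaf 0x2090103080202000701000a)) (.node 6789 (.leaf 0x0) (.node 6790 (.leaf 0xd0b0002) (.leaf 0x0)))) (.node 6794 (.node 6792 (.leaf 0x1a86) (.node 6793 (.leaf 0x101070209020202000701000b) (.leaf 0x0))) (.node 6795 (.leaf 0xd0001) (.node 6796 (.leaf 0x0) (.leaf 0xe0a0a0003))))) (.node 6803 (.node 6800 (.node 6798 (.leaf 0x404070209020802040105000b) (.node 6799 (.leaf 0x0) (.leaf 0x0))) (.node 6801 (.leaf 0xa0f0b0003) (.node 6802 (.leaf 0x3040308020401050008) (.leaf 0x0)))) (.node 6806 (.node 6804 (.leaf 0xf0001) (.node 6805 (.leaf 0x0) (.leaf 0x3070908050802040105000a))) (.node 6807 (.leaf 0x0) (.node 6808 (.leaf 0x0) (.leaf 0xa0f0002))))))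

def argWS_599 : Store := (.node 6786 argWS_597 argWS_598)

def argWS_600 : Store := (.node 6820 (.node 6814 (.node 6811 (.node 6810 (.leaf 0x1a98001a97) (.leaf 0x402000508020401050009)) (.node 6812 (.leaf 0x0) (.node 6813 (.leaf 0xa0f0b0b0004) (.leaf 0x0)))) (.node 6817 (.node 6815 (.leaf 0x4030007020902000703040103000d) (.node 6816 (.leaf 0x0) (.leaf 0xb0a0002))) (.node 6818 (.leaf 0x6030604000703040103000a) (.node 6819 (.leaf 0x204090206020202000701000b) (.leaf 0x0))))) (.node 6826 (.node 6823 (.node 6821 (.leaf 0x0) (.node 6822 (.leaf 0x19e3001aa4) (.leaf 0xb0a0a0003))) (.node 6824 (.leaf 0x0) (.node 6825 (.leaf 0xa0f0b0003) (.leaf 0x0)))) (.node 6829 (.node 6827 (.leaf 0x0) (.node 6828 (.leaf 0xe0d0002) (.leaf 0xa0f0002))) (.node 6830 (.leaf 0xb0a0f0003) (.node 6831 (.leaf 0xd0001) (.leaf 0xf0b0b0a0004))))))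

def argWS_601 : Store := (.node 6843 (.node 6837 (.node 6834 (.node 6833 (.leaf 0x1625) (.leaf 0xf0b0b0a0004)) (.node 6835 (.leaf 0x0) (.node 6836 (.leaf 0xf0b0b0a0a0005) (.leaf 0x30700090806000802040105000c)))) (.node 6840 (.node 6838 (.leaf 0x0) (.node 6839 (.leaf 0x0) (.leaf 0xb0f0a0a0004))) (.node 6841 (.leaf 0x1ab7) (.node 6842 (.leaf 0x201030003) (.leaf 0x0))))) (.node 6849 (.node 6846 (.node 6844 (.leaf 0xd0b0b0003) (.node 6845 (.leaf 0x0) (.leaf 0xf0b0a0a0004))) (.node 6847 (.leaf 0x0) (.node 6848 (.leaf 0xd0b0b0003) (.leaf 0x206010500020802040105000c)))) (.node 6852 (.node 6850 (.leaf 0x0) (.node 6851 (.leaf 0x0) (.leaf 0x1070000000300000802040105000d))) (.node 6853 (.leaf 0x0) (.node 6854 (.leaf 0x0) (.leaf 0x1ac5001ac2))))))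

def argWS_602 : Store := (.node 6832 argWS_600 argWS_601)

def argWS_603 : Store := (.node 6809 argWS_599 argWS_602)

def argWS_604 : Store := (.node 6764 argWS_596 argWS_603)

def argWS_605 : Store := (.node 6674 argWS_589 argWS_604)

def argWS_606 : Store := (.node 6866 (.node 6860 (.node 6857 (.node 6856 (.leaf 0xd0b0002) (.leaf 0x0)) (.node 6858 (.leaf 0xa0f0b0b0004) (.node 6859 (.leaf 0x0) (.leaf 0x0)))) (.node 6863 (.node 6861 (.leaf 0xd0001) (.node 6862 (.leaf 0xa0f0b0003) (.leaf 0xb0b0a0a0004))) (.node 6864 (.leaf 0x17e8000aa7) (.node 6865 (.leaf 0x4030000000300000008) (.leaf 0x0))))) (.node 6871 (.node 6868 (.node 6867 (.leaf 0xb0b0a0003) (.leaf 0x0)) (.node 6869 (.leaf 0x201050002000703040103000b) (.node 6870 (.leaf 0x0) (.leaf 0xb0f0a0a0004)))) (.node 6874 (.node 6872 (.leaf 0x403010904020006) (.node 6873 (.leaf 0x0) (.leaf 0x1020200020804000802040105000d))) (.node 6875 (.leaf 0x0) (.node 6876 (.leaf 0x0) (.leaf 0x1adb))))))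

def argWS_607 : Store := (.node 6888 (.node 6882 (.node 6879 (.node 6878 (.leaf 0xb0b0002) (.leaf 0x0)) (.node 6880 (.leaf 0xb0b0002) (.node 6881 (.leaf 0xf0b0002) (.leaf 0x7050206040802040105000b)))) (.node 6885 (.node 6883 (.leaf 0x0) (.node 6884 (.leaf 0xa0f0b0003) (.leaf 0x0))) (.node 6886 (.leaf 0xd0b0002) (.node 6887 (.leaf 0x1ae5001ae4) (.leaf 0x8030000090206020202000701000d))))) (.node 6894 (.node 6891 (.node 6889 (.leaf 0x0) (.node 6890 (.leaf 0xf0a0a0003) (.leaf 0x0))) (.node 6892 (.leaf 0x6020000030306040008) (.node 6893 (.leaf 0x0) (.leaf 0xb0f0a0003)))) (.node 6897 (.node 6895 (.leaf 0xa0f0b0b0004) (.node 6896 (.leaf 0x0) (.leaf 0xf0b0b0003))) (.node 6898 (.leaf 0x702010908050006) (.node 6899 (.leaf 0x0) (.leaf 0xb0f0a0a0004))))))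

def argWS_608 : Store := (.node 6877 argWS_606 argWS_607)

def argWS_609 : Store := (.node 6911 (.node 6905 (.node 6902 (.node 6901 (.leaf 0x0) (.leaf 0x20002050206040007)) (.node 6903 (.leaf 0x0) (.node 6904 (.leaf 0x0) (.leaf 0x1af7)))) (.node 6908 (.node 6906 (.leaf 0xd0001) (.node 6907 (.leaf 0x0) (.leaf 0x40105020202010202000701000c))) (.node 6909 (.leaf 0x0) (.node 6910 (.leaf 0xf0001) (.leaf 0x1aad))))) (.node 6916 (.node 6913 (.node 6912 (.leaf 0xa0f0002) (.leaf 0x0)) (.node 6914 (.leaf 0xe0a0002) (.node 6915 (.leaf 0x0) (.leaf 0x0)))) (.node 6919 (.node 6917 (.leaf 0x307000408010802040105000b) (.node 6918 (.leaf 0x0) (.leaf 0x80101010904020802040105000c))) (.node 6920 (.leaf 0x0) (.node 6921 (.leaf 0x0) (.leaf 0x1b08))))))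

def argWS_610 : Store := (.node 6933 (.node 6927 (.node 6924 (.node 6923 (.leaf 0xd0001) (.leaf 0x0)) (.node 6925 (.leaf 0xe0a0a0003) (.node 6926 (.leaf 0x0) (.leaf 0x0)))) (.node 6930 (.node 6928 (.leaf 0xd0b0b0003) (.node 6929 (.leaf 0xa0001) (.leaf 0x10102020900000802040105000c))) (.node 6931 (.leaf 0x0) (.node 6932 (.leaf 0xf0b0b0003) (.leaf 0x0))))) (.node 6939 (.node 6936 (.node 6934 (.leaf 0x1b14001b10) (.node 6935 (.leaf 0xd0001) (.leaf 0x0))) (.node 6937 (.leaf 0x6010209000009000703040103000d) (.node 6938 (.leaf 0x0) (.leaf 0xb0a0002)))) (.node 6942 (.node 6940 (.leaf 0xa0f0b0b0004) (.node 6941 (.leaf 0x50006010500020007) (.leaf 0x0))) (.node 6943 (.leaf 0xf0a0a0003) (.node 6944 (.leaf 0x0) (.leaf 0x1b1f))))))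

def argWS_611 : Store := (.node 6922 argWS_609 argWS_610)

def argWS_612 : Store := (.node 6900 argWS_608 argWS_611)

def argWS_613 : Store := (.node 6956 (.node 6950 (.node 6947 (.node 6946 (.leaf 0x8020401050006) (.leaf 0x0)) (.node 6948 (.leaf 0xb0a0f0003) (.node 6949 (.leaf 0x0) (.leaf 0x6000007030401030008)))) (.node 6953 (.node 6951 (.leaf 0x0) (.node 6952 (.leaf 0xe0001) (.leaf 0x5000007030401030008))) (.node 6954 (.leaf 0x0) (.node 6955 (.leaf 0xd0001) (.leaf 0x0))))) (.node 6961 (.node 6958 (.node 6957 (.leaf 0xa0f0002) (.leaf 0x1b2c)) (.node 6959 (.leaf 0xf0b0b0a0004) (.node 6960 (.leaf 0x0) (.leaf 0x2010904020202000701000a)))) (.node 6964 (.node 6962 (.leaf 0x0) (.node 6963 (.leaf 0xb0b0a0003) (.leaf 0x50201020703000703040103000c))) (.node 6965 (.leaf 0x0) (.node 6966 (.leaf 0xe0d0002) (.leaf 0x30900090004))))))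

def argWS_614 : Store := (.node 6978 (.node 6972 (.node 6969 (.node 6968 (.leaf 0x0) (.leaf 0xd0b0002)) (.node 6970 (.leaf 0x0) (.node 6971 (.leaf 0x201030900090802040105000b) (.leaf 0x0)))) (.node 6975 (.node 6973 (.leaf 0xf0001) (.node 6974 (.leaf 0x0) (.leaf 0x1b3d001b39))) (.node 6976 (.leaf 0x0) (.node 6977 (.leaf 0x604000000030000000703040103000e) (.leaf 0x0))))) (.node 6984 (.node 6981 (.node 6979 (.leaf 0xd0b0002) (.node 6980 (.leaf 0xb0a0f0003) (.leaf 0x0))) (.node 6982 (.leaf 0x200070209020202000701000b) (.node 6983 (.leaf 0x0) (.leaf 0xa0f0002)))) (.node 6987 (.node 6985 (.leaf 0x0) (.node 6986 (.leaf 0x1b48) (.leaf 0x1030108020401050008))) (.node 6988 (.leaf 0x0) (.node 6989 (.leaf 0xb0a0002) (.leaf 0x0))))))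

def argWS_615 : Store := (.node 6967 argWS_613 argWS_614)

def argWS_616 : Store := (.node 7001 (.node 6995 (.node 6992 (.node 6991 (.leaf 0x9010900090005) (.leaf 0x0)) (.node 6993 (.leaf 0xb0b0a0a0004) (.node 6994 (.leaf 0xa0a0002) (.leaf 0xd0b0b0003)))) (.node 6998 (.node 6996 (.leaf 0x6040009000009000703040103000d) (.node 6997 (.leaf 0x0) (.leaf 0xd0001))) (.node 6999 (.leaf 0x0) (.node 7000 (.leaf 0x70101070009030007) (.leaf 0x0))))) (.node 7006 (.node 7003 (.node 7002 (.leaf 0xb0a0002) (.leaf 0x0)) (.node 7004 (.leaf 0x1b5a001b56) (.node 7005 (.leaf 0xb0a0002) (.leaf 0x0)))) (.node 7009 (.node 7007 (.leaf 0x20202090806000007) (.node 7008 (.leaf 0x0) (.leaf 0xb0b0a0a0004))) (.node 7010 (.leaf 0x202000206020007010009) (.node 7011 (.leaf 0x0) (.leaf 0xb0a0002))))))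

def argWS_617 : Store := (.node 7023 (.node 7017 (.node 7014 (.node 7013 (.leaf 0x0) (.leaf 0x10201010908050202000701000c)) (.node 7015 (.leaf 0x0) (.node 7016 (.leaf 0xe0a0002) (.leaf 0x0)))) (.node 7020 (.node 7018 (.leaf 0x1b68) (.node 7019 (.leaf 0xb0f0002) (.leaf 0x102050206040006))) (.node 7021 (.leaf 0x0) (.node 7022 (.leaf 0xb0001) (.leaf 0x0))))) (.node 7029 (.node 7026 (.node 7024 (.leaf 0x5000003010802040105000a) (.node 7025 (.leaf 0x0) (.leaf 0xa0f0002))) (.node 7027 (.leaf 0x0) (.node 7028 (.leaf 0x1b72) (.leaf 0xf0b0a0a0004)))) (.node 7032 (.node 7030 (.leaf 0x0) (.node 7031 (.leaf 0x700000002080400000703040103000e) (.leaf 0x0))) (.node 7033 (.leaf 0xa0a0002) (.node 7034 (.leaf 0x20200020106060007) (.leaf 0x0))))))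

def argWS_618 : Store := (.node 7012 argWS_616 argWS_617)

def argWS_619 : Store := (.node 6990 argWS_615 argWS_618)

def argWS_620 : Store := (.node 6945 argWS_612 argWS_619)

def argWS_621 : Store := (.node 7046 (.node 7040 (.node 7037 (.node 7036 (.leaf 0xe0a0002) (.leaf 0x0)) (.node 7038 (.leaf 0x3070000000300000008) (.node 7039 (.leaf 0x0) (.leaf 0xd0001)))) (.node 7043 (.node 7041 (.leaf 0x0) (.node 7042 (.leaf 0xd0001) (.leaf 0x1b81001b80))) (.node 7044 (.leaf 0x9020102000003010008) (.node 7045 (.leaf 0x0) (.leaf 0xb0f0a0a0004))))) (.node 7051 (.node 7048 (.node 7047 (.leaf 0x0) (.leaf 0x2020207000902000701000a)) (.node 7049 (.leaf 0x0) (.node 7050 (.leaf 0xb0b0a0003) (.leaf 0x402020108020401050009)))) (.node 7054 (.node 7052 (.leaf 0x0) (.node 7053 (.leaf 0xf0b0002) (.leaf 0x0))) (.node 7055 (.leaf 0x200090805000703040103000b) (.node 7056 (.leaf 0x0) (.leaf 0xf0a0a0003))))))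

def argWS_622 : Store := (.node 7068 (.node 7062 (.node 7059 (.node 7058 (.leaf 0x0) (.leaf 0x13cd001b91)) (.node 7060 (.leaf 0x1020007010005) (.node 7061 (.leaf 0x0) (.leaf 0xb0b0a0003)))) (.node 7065 (.node 7063 (.leaf 0x0) (.node 7064 (.leaf 0xb0a0a0003) (.leaf 0x0))) (.node 7066 (.leaf 0x0) (.node 7067 (.leaf 0x900020901060802040105000c) (.leaf 0x0))))) (.node 7074 (.node 7071 (.node 7069 (.leaf 0xf0b0b0a0004) (.node 7070 (.leaf 0x0) (.leaf 0xd0001))) (.node 7072 (.leaf 0x1020004080703040103000a) (.node 7073 (.leaf 0x0) (.leaf 0xf0b0a0a0004)))) (.node 7077 (.node 7075 (.leaf 0x0) (.node 7076 (.leaf 0x1ba2001b9e) (.leaf 0x80101010904020007))) (.node 7078 (.leaf 0x0) (.node 7079 (.leaf 0x0) (.leaf 0x30502000003010802040105000c))))))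

def argWS_623 : Store := (.node 7057 argWS_621 argWS_622)

def argWS_624 : Store := (.node 7091 (.node 7085 (.node 7082 (.node 7081 (.leaf 0x0) (.leaf 0xa0a0002)) (.node 7083 (.leaf 0xe0a0002) (.node 7084 (.leaf 0xb0f0a0a0004) (.leaf 0x1bab001baa)))) (.node 7088 (.node 7086 (.leaf 0x8030904020202000701000a) (.node 7087 (.leaf 0x0) (.leaf 0xe0d0002))) (.node 7089 (.leaf 0x0) (.node 7090 (.leaf 0x1050200090206020802040105000d) (.leaf 0x0))))) (.node 7096 (.node 7093 (.node 7092 (.leaf 0xb0f0002) (.leaf 0x6010201020702000701000a)) (.node 7094 (.leaf 0x0) (.node 7095 (.leaf 0xb0b0a0003) (.leaf 0x0)))) (.node 7099 (.node 7097 (.leaf 0xb0b0a0a0004) (.node 7098 (.leaf 0x1bb8001bb7) (.leaf 0xb0001))) (.node 7100 (.leaf 0x0) (.node 7101 (.leaf 0xe0d0002) (.leaf 0x0))))))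

def argWS_625 : Store := (.node 7113 (.node 7107 (.node 7104 (.node 7103 (.leaf 0x0) (.leaf 0x0)) (.node 7105 (.leaf 0x1bbf00038e) (.node 7106 (.leaf 0xb0001) (.leaf 0x0)))) (.node 7110 (.node 7108 (.leaf 0xf0b0002) (.node 7109 (.leaf 0x0) (.leaf 0x0))) (.node 7111 (.leaf 0xb0b0a0003) (.node 7112 (.leaf 0x30407020902000703040103000c) (.leaf 0x0))))) (.node 7119 (.node 7116 (.node 7114 (.leaf 0xb0a0002) (.node 7115 (.leaf 0x0) (.leaf 0x4030004080703040103000a))) (.node 7117 (.leaf 0x0) (.node 7118 (.leaf 0x0) (.leaf 0x1bcd)))) (.node 7122 (.node 7120 (.leaf 0x6010500020005) (.node 7121 (.leaf 0x0) (.leaf 0xe0001))) (.node 7123 (.leaf 0x0) (.node 7124 (.leaf 0xf0001) (.leaf 0x0))))))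

def argWS_626 : Store := (.node 7102 argWS_624 argWS_625)

def argWS_627 : Store := (.node 7080 argWS_623 argWS_626)

def argWS_628 : Store := (.node 7136 (.node 7130 (.node 7127 (.node 7126 (.leaf 0x0) (.leaf 0x602000000030000000703040103000e)) (.node 7128 (.leaf 0x0) (.node 7129 (.leaf 0xa0f0b0003) (.leaf 0x0)))) (.node 7133 (.node 7131 (.leaf 0x209030601050002000703040103000e) (.node 7132 (.leaf 0x0) (.leaf 0xe0d0002))) (.node 7134 (.leaf 0x0) (.node 7135 (.leaf 0x1bdd0011d8) (.leaf 0xf0a0a0003))))) (.node 7141 (.node 7138 (.node 7137 (.leaf 0x0) (.leaf 0xd0b0002)) (.node 7139 (.leaf 0x0) (.node 7140 (.leaf 0x0) (.leaf 0x50006030500040007)))) (.node 7144 (.node 7142 (.leaf 0x0) (.node 7143 (.leaf 0xf0b0b0003) (.leaf 0x0))) (.node 7145 (.leaf 0xf0b0a0a0004) (.node 7146 (.leaf 0x20002080400000703040103000c) (.leaf 0x0))))))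

def argWS_629 : Store := (.node 7158 (.node 7152 (.node 7149 (.node 7148 (.leaf 0x0) (.leaf 0x1beb001be8)) (.node 7150 (.leaf 0x30403000408010007) (.node 7151 (.leaf 0x0) (.leaf 0xb0b0002)))) (.node 7155 (.node 7153 (.leaf 0x0) (.node 7154 (.leaf 0x402020900000802040105000b) (.leaf 0x0))) (.node 7156 (.leaf 0xf0b0b0a0004) (.node 7157 (.leaf 0xa0f0b0003) (.leaf 0x0))))) (.node 7164 (.node 7161 (.node 7159 (.leaf 0xe0a0002) (.node 7160 (.leaf 0xd0b0b0003) (.leaf 0x1bf7001bf6))) (.node 7162 (.leaf 0x9050603000703040103000a) (.node 7163 (.leaf 0x0) (.leaf 0x0)))) (.node 7167 (.node 7165 (.leaf 0xf0b0002) (.node 7166 (.leaf 0x0) (.leaf 0x0))) (.node 7168 (.leaf 0x60502080400000703040103000c) (.node 7169 (.leaf 0x0) (.leaf 0xd0b0b0003))))))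

def argWS_630 : Store := (.node 7147 argWS_628 argWS_629)

def argWS_631 : Store := (.node 7181 (.node 7175 (.node 7172 (.node 7171 (.leaf 0x0) (.leaf 0xb0f0a0003)) (.node 7173 (.leaf 0x1c03) (.node 7174 (.leaf 0x403000900090006) (.leaf 0x0)))) (.node 7178 (.node 7176 (.leaf 0xe0001) (.node 7177 (.leaf 0x0) (.leaf 0xe0001))) (.node 7179 (.leaf 0x0) (.node 7180 (.leaf 0x0) (.leaf 0x907020902000703040103000b))))) (.node 7187 (.node 7184 (.node 7182 (.leaf 0x0) (.node 7183 (.leaf 0xf0001) (.leaf 0x0))) (.node 7185 (.leaf 0x903070206000802040105000b) (.node 7186 (.leaf 0x0) (.leaf 0xd0b0002)))) (.node 7190 (.node 7188 (.leaf 0x0) (.node 7189 (.leaf 0x1c1300192c) (.leaf 0xe0001))) (.node 7191 (.leaf 0x0) (.node 7192 (.leaf 0x700000002080400000703040103000e) (.leaf 0x0))))))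

def argWS_632 : Store := (.node 7204 (.node 7198 (.node 7195 (.node 7194 (.leaf 0xa0a0002) (.leaf 0xa0f0b0003)) (.node 7196 (.leaf 0xe0001) (.node 7197 (.leaf 0x606010207030802040105000b) (.leaf 0x0)))) (.node 7201 (.node 7199 (.leaf 0x0) (.node 7200 (.leaf 0x1c1e001c1b) (.leaf 0x0))) (.node 7202 (.leaf 0xf0a0a0003) (.node 7203 (.leaf 0x0) (.leaf 0xb0b0a0a0004))))) (.node 7210 (.node 7207 (.node 7205 (.leaf 0x0) (.node 7206 (.leaf 0x0) (.leaf 0xe0d0002))) (.node 7208 (.leaf 0x202000009020602000703040103000e) (.node 7209 (.leaf 0x0) (.leaf 0xf0001)))) (.node 7213 (.node 7211 (.leaf 0x0) (.node 7212 (.leaf 0xb0f0a0003) (.leaf 0x1c2b001c2a))) (.node 7214 (.leaf 0x70200020804000802040105000c) (.node 7215 (.leaf 0x0) (.leaf 0xb0b0a0003))))))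

def argWS_633 : Store := (.node 7193 argWS_631 argWS_632)

def argWS_634 : Store := (.node 7170 argWS_630 argWS_633)

def argWS_635 : Store := (.node 7125 argWS_627 argWS_634)

def argWS_636 : Store := (.node 7035 argWS_620 argWS_635)

def argWS_637 : Store := (.node 6855 argWS_605 argWS_636)

def argWS_638 : Store := (.node 6494 argWS_574 argWS_637)

def argWS_639 : Store := (.node 7227 (.node 7221 (.node 7218 (.node 7217 (.leaf 0x0) (.leaf 0x5000603050004000703040103000d)) (.node 7219 (.leaf 0x0) (.node 7220 (.leaf 0xf0b0a0a0004) (.leaf 0xf0b0b0a0a0005)))) (.node 7224 (.node 7222 (.leaf 0x404070209020202000701000b) (.node 7223 (.leaf 0x0) (.leaf 0xa0a0002))) (.node 7225 (.leaf 0x0) (.node 7226 (.leaf 0x1c38) (.leaf 0xf0b0a0003))))) (.node 7232 (.node 7229 (.node 7228 (.leaf 0x0) (.leaf 0x803000901090202000701000b)) (.node 7230 (.leaf 0x0) (.node 7231 (.leaf 0xd0b0b0003) (.leaf 0x20600030306040202000701000c)))) (.node 7235 (.node 7233 (.leaf 0x0) (.node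 7234 (.leaf 0x0) (.leaf 0x903050206040006))) (.node 7236 (.leaf 0x0) (.node 7237 (.leaf 0xb0a0a0003) (.leaf 0x0))))))

def argWS_640 : Store := (.node 7249 (.node 7243 (.node 7240 (.node 7239 (.leaf 0xb0f0a0003) (.leaf 0x1c46001c45)) (.node 7241 (.leaf 0x0) (.node 7242 (.leaf 0xf0b0002) (.leaf 0x0)))) (.node 7246 (.node 7244 (.leaf 0x8000207030802040105000b) (.node 7245 (.leaf 0x0) (.leaf 0xb0a0f0003))) (.node 7247 (.leaf 0x6010201070009030802040105000d) (.node 7248 (.leaf 0x0) (.leaf 0xa0f0b0b0004))))) (.node 7255 (.node 7252 (.node 7250 (.leaf 0x0) (.node 7251 (.leaf 0x6020900090802040105000a) (.leaf 0x0))) (.node 7253 (.leaf 0x0) (.node 7254 (.leaf 0xf0a0002) (.leaf 0x1c55001c54)))) (.node 7258 (.node 7256 (.leaf 0x3040107000902000701000a) (.node 7257 (.leaf 0x0) (.leaf 0xa0f0b0003))) (.node 7259 (.leaf 0x0) (.node 7260 (.leaf 0x1050200090206020202000701000d) (.leaf 0x0))))))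

def argWS_641 : Store := (.node 7238 argWS_639 argWS_640)

def argWS_642 : Store := (.node 7272 (.node 7266 (.node 7263 (.node 7262 (.leaf 0xb0a0002) (.leaf 0x4020901060005)) (.node 7264 (.leaf 0x0) (.node 7265 (.leaf 0x0) (.leaf 0x1c60)))) (.node 7269 (.node 7267 (.leaf 0xf0b0b0a0a0005) (.node 7268 (.leaf 0x0) (.leaf 0x6010306040202000701000a))) (.node 7270 (.leaf 0x0) (.node 7271 (.leaf 0xb0a0f0003) (.leaf 0xe0d0002))))) (.node 7277 (.node 7274 (.node 7273 (.leaf 0x4030407020902000703040103000d) (.leaf 0x0)) (.node 7275 (.leaf 0xb0a0a0003) (.node 7276 (.leaf 0x0) (.leaf 0x90005020202010802040105000d)))) (.node 7280 (.node 7278 (.leaf 0x0) (.node 7279 (.leaf 0xb0a0002) (.leaf 0x0))) (.node 7281 (.leaf 0x1c6f001c6b) (.node 7282 (.leaf 0xa0001) (.leaf 0x0))))))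

def argWS_643 : Store := (.node 7294 (.node 7288 (.node 7285 (.node 7284 (.leaf 0xb0f0002) (.leaf 0x0)) (.node 7286 (.leaf 0x0) (.node 7287 (.leaf 0xb0b0002) (.leaf 0xb0f0002)))) (.node 7291 (.node 7289 (.leaf 0x1c77) (.node 7290 (.leaf 0x800090109000703040103000c) (.leaf 0x0))) (.node 7292 (.leaf 0xb0a0a0003) (.node 7293 (.leaf 0x0) (.leaf 0x80000030306040202000701000d))))) (.node 7300 (.node 7297 (.node 7295 (.leaf 0x0) (.node 7296 (.leaf 0xb0b0002) (.leaf 0x409040202020007010009))) (.node 7298 (.leaf 0x0) (.node 7299 (.leaf 0xd0001) (.leaf 0x0)))) (.node 7303 (.node 7301 (.leaf 0x1c830005cf) (.node 7302 (.leaf 0x90007020902000703040103000d) (.leaf 0x0))) (.node 7304 (.leaf 0xa0f0b0003) (.node 7305 (.leaf 0x0) (.leaf 0xe0d0002))))))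

def argWS_644 : Store := (.node 7283 argWS_642 argWS_643)

def argWS_645 : Store := (.node 7261 argWS_641 argWS_644)

def argWS_646 : Store := (.node 7317 (.node 7311 (.node 7308 (.node 7307 (.leaf 0x0) (.leaf 0x0)) (.node 7309 (.leaf 0x7000000030000000703040103000d) (.node 7310 (.leaf 0x0) (.leaf 0xb0001)))) (.node 7314 (.node 7312 (.leaf 0x0) (.node 7313 (.leaf 0x3040301070306000703040103000d) (.leaf 0x0))) (.node 7315 (.leaf 0xb0f0a0003) (.node 7316 (.leaf 0x0) (.leaf 0x1c93))))) (.node 7322 (.node 7319 (.node 7318 (.leaf 0x1040005000703040103000a) (.leaf 0x0)) (.node 7320 (.leaf 0xd0b0002) (.node 7321 (.leaf 0x0) (.leaf 0x70506020702010802040105000c)))) (.node 7325 (.node 7323 (.leaf 0x0) (.node 7324 (.leaf 0xf0b0b0a0004) (.leaf 0x2040900090005))) (.node 7326 (.leaf 0x0) (.node 7327 (.leaf 0xe0d0002) (.leaf 0x0))))))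

def argWS_647 : Store := (.node 7339 (.node 7333 (.node 7330 (.node 7329 (.leaf 0x204070308020401050009) (.leaf 0x0)) (.node 7331 (.leaf 0xb0b0a0003) (.node 7332 (.leaf 0x0) (.leaf 0x1ca3)))) (.node 7336 (.node 7334 (.leaf 0xb0b0a0003) (.node 7335 (.leaf 0x0) (.leaf 0xf0b0b0a0004))) (.node 7337 (.leaf 0x4000003) (.node 7338 (.leaf 0x0) (.leaf 0x0))))) (.node 7345 (.node 7342 (.node 7340 (.leaf 0xb0a0f0003) (.node 7341 (.leaf 0x0) (.leaf 0x103070009030006))) (.node 7343 (.leaf 0x80004020703000703040103000c) (.node 7344 (.leaf 0x0) (.leaf 0x4040002)))) (.node 7348 (.node 7346 (.leaf 0x0) (.node 7347 (.leaf 0x4040002) (.leaf 0x0))) (.node 7349 (.leaf 0x80004020703000703040103000c) (.node 7350 (.leaf 0x0) (.leaf 0x80004020703000703040103000c))))))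

def argWS_648 : Store := (.node 7328 argWS_646 argWS_647)

def argWS_649 : Store := (.node 7362 (.node 7356 (.node 7353 (.node 7352 (.leaf 0x0) (.leaf 0x4040002)) (.node 7354 (.leaf 0x0) (.node 7355 (.leaf 0x4040002) (.leaf 0x0)))) (.node 7359 (.node 7357 (.leaf 0x6050105020604000703040103000d) (.node 7358 (.leaf 0x0) (.leaf 0xb0f0a0003))) (.node 7360 (.leaf 0x202000003010802040105000c) (.node 7361 (.leaf 0x0) (.leaf 0xf0001))))) (.node 7367 (.node 7364 (.node 7363 (.leaf 0x202020003) (.leaf 0x0)) (.node 7365 (.leaf 0xf0001) (.node 7366 (.leaf 0x600070306000703040103000b) (.leaf 0x0)))) (.node 7370 (.node 7368 (.leaf 0xb0001) (.node 7369 (.leaf 0x30106030500040202000701000c) (.leaf 0x0))) (.node 7371 (.leaf 0xb0f0002) (.node 7372 (.leaf 0x6000901090802040105000b) (.leaf 0x0))))))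

def argWS_650 : Store := (.node 7384 (.node 7378 (.node 7375 (.node 7374 (.leaf 0xf0b0b0a0004) (.leaf 0x4010206020007010008)) (.node 7376 (.leaf 0x0) (.node 7377 (.leaf 0xa0f0002) (.leaf 0x6040000030306040802040105000d)))) (.node 7381 (.node 7379 (.leaf 0x0) (.node 7380 (.leaf 0xe0d0002) (.leaf 0x0))) (.node 7382 (.leaf 0x40401070306000703040103000c) (.node 7383 (.leaf 0x0) (.leaf 0xb0b0a0a0004))))) (.node 7390 (.node 7387 (.node 7385 (.leaf 0x60301020106060202000701000c) (.node 7386 (.leaf 0x0) (.leaf 0xf0b0b0a0004))) (.node 7388 (.leaf 0x0) (.node 7389 (.leaf 0x1cdb) (.leaf 0xf0a0002)))) (.node 7393 (.node 7391 (.leaf 0x0) (.node 7392 (.leaf 0xa0a0002) (.leaf 0x0))) (.node 7394 (.leaf 0x0) (.node 7395 (.leaf 0x90503090806000802040105000c) (.leaf 0x0))))))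

def argWS_651 : Store := (.node 7373 argWS_649 argWS_650)

def argWS_652 : Store := (.node 7351 argWS_648 argWS_651)

def argWS_653 : Store := (.node 7306 argWS_645 argWS_652)

def argWS_654 : Store := (.node 7407 (.node 7401 (.node 7398 (.node 7397 (.leaf 0x0) (.leaf 0x10400090000090802040105000c)) (.node 7399 (.leaf 0x0) (.node 7400 (.leaf 0x0) (.leaf 0x1ce7001ce4)))) (.node 7404 (.node 7402 (.leaf 0x20106030500040202000701000c) (.node 7403 (.leaf 0x0) (.leaf 0xf0b0002))) (.node 7405 (.leaf 0x0) (.node 7406 (.leaf 0x109030002080400000703040103000e) (.leaf 0x0))))) (.node 7412 (.node 7409 (.node 7408 (.leaf 0xf0a0a0003) (.leaf 0xd0001)) (.node 7410 (.leaf 0x2000900090005) (.node 7411 (.leaf 0x0) (.leaf 0xa0f0b0b0004)))) (.node 7415 (.node 7413 (.leaf 0x0) (.node 7414 (.leaf 0x1cf4001cf0) (.leaf 0xe0d0002))) (.node 7416 (.leaf 0x0) (.node 7417 (.leaf 0xb0001) (.leaf 0x0))))))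

def argWS_655 : Store := (.node 7429 (.node 7423 (.node 7420 (.node 7419 (.leaf 0x0) (.leaf 0x402050000030000000703040103000e)) (.node 7421 (.leaf 0x0) (.node 7422 (.leaf 0x0) (.leaf 0x704000508020401050009)))) (.node 7426 (.node 7424 (.leaf 0x0) (.node 7425 (.leaf 0xf0a0002) (.leaf 0x0))) (.node 7427 (.leaf 0x1d01001cfd) (.node 7428 (.leaf 0xb0b0a0a0004) (.leaf 0x0))))) (.node 7435 (.node 7432 (.node 7430 (.leaf 0x20903000408010007) (.node 7431 (.leaf 0x0) (.leaf 0xa0a0002))) (.node 7433 (.leaf 0x40004020703000703040103000c) (.node 7434 (.leaf 0x0) (.leaf 0x0)))) (.node 7438 (.node 7436 (.leaf 0x1050206010500020008) (.node 7437 (.leaf 0x0) (.leaf 0x0))) (.node 7439 (.leaf 0x60200000408010802040105000c) (.node 7440 (.leaf 0x0) (.leaf 0xd0b0002))))))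

def argWS_656 : Store := (.node 7418 argWS_654 argWS_655)

def argWS_657 : Store := (.node 7452 (.node 7446 (.node 7443 (.node 7442 (.leaf 0x0) (.leaf 0x1d11)) (.node 7444 (.leaf 0x50206030500040007) (.node 7445 (.leaf 0x0) (.leaf 0x0)))) (.node 7449 (.node 7447 (.leaf 0x502020106060802040105000b) (.node 7448 (.leaf 0x0) (.leaf 0xd0001))) (.node 7450 (.leaf 0xd0b0b0003) (.node 7451 (.leaf 0xf0001) (.leaf 0xe0001))))) (.node 7457 (.node 7454 (.node 7453 (.leaf 0x4070209020005) (.leaf 0x0)) (.node 7455 (.leaf 0xf0b0a0a0004) (.node 7456 (.leaf 0x0) (.leaf 0x20002000003010008)))) (.node 7460 (.node 7458 (.leaf 0x0) (.node 7459 (.leaf 0xf0001) (.leaf 0x0))) (.node 7461 (.leaf 0x1d230018c6) (.node 7462 (.leaf 0xb0b0a0003) (.leaf 0x0))))))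

def argWS_658 : Store := (.node 7474 (.node 7468 (.node 7465 (.node 7464 (.leaf 0xd0001) (.leaf 0x0)) (.node 7466 (.leaf 0x0) (.node 7467 (.leaf 0xf0b0a0003) (.leaf 0xa0f0002)))) (.node 7471 (.node 7469 (.leaf 0x16f9001d2b) (.node 7470 (.leaf 0x4020901060202000701000a) (.leaf 0x0))) (.node 7472 (.leaf 0xf0b0b0a0a0005) (.node 7473 (.leaf 0x0) (.leaf 0x601020004080703040103000b))))) (.node 7480 (.node 7477 (.node 7475 (.leaf 0x0) (.node 7476 (.leaf 0xf0a0a0003) (.leaf 0x20401090806000202000701000c))) (.node 7478 (.leaf 0x0) (.node 7479 (.leaf 0xb0a0a0003) (.leaf 0x0)))) (.node 7483 (.node 7481 (.leaf 0x5020106030500040202000701000d) (.node 7482 (.leaf 0x0) (.leaf 0xf0b0a0003))) (.node 7484 (.leaf 0x0) (.node 7485 (.leaf 0x1d3b) (.leaf 0x605010900090006))))))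

def argWS_659 : Store := (.node 7463 argWS_657 argWS_658)

def argWS_660 : Store := (.node 7441 argWS_656 argWS_659)

def argWS_661 : Store := (.node 7497 (.node 7491 (.node 7488 (.node 7487 (.leaf 0x0) (.leaf 0xd0001)) (.node 7489 (.leaf 0x0) (.node 7490 (.leaf 0x60102010901090007) (.leaf 0x0)))) (.node 7494 (.node 7492 (.leaf 0xf0b0b0a0004) (.node 7493 (.leaf 0xf0b0002) (.leaf 0x1683001d44))) (.node 7495 (.leaf 0x3070908050202000701000a) (.node 7496 (.leaf 0x0) (.leaf 0xf0a0002))))) (.node 7502 (.node 7499 (.node 7498 (.leaf 0x0) (.leaf 0x207090806000802040105000b)) (.node 7500 (.leaf 0x0) (.node 7501 (.leaf 0xb0b0a0a0004) (.leaf 0x30102020900000202000701000c)))) (.node 7505 (.node 7503 (.leaf 0x0) (.node 7504 (.leaf 0xf0b0b0a0004) (.leaf 0x0))) (.node 7506 (.leaf 0x9030000000300000008) (.node 7507 (.leaf 0x0) (.leaf 0xf0b0a0a0004))))))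

def argWS_662 : Store := (.node 7519 (.node 7513 (.node 7510 (.node 7509 (.leaf 0x0) (.leaf 0x1d54)) (.node 7511 (.leaf 0x8000908050202000701000a) (.node 7512 (.leaf 0x0) (.leaf 0xb0a0002)))) (.node 7516 (.node 7514 (.leaf 0x0) (.node 7515 (.leaf 0x0) (.leaf 0x800090000090802040105000b))) (.node 7517 (.leaf 0x0) (.node 7518 (.leaf 0xf0b0002) (.leaf 0x0))))) (.node 7525 (.node 7522 (.node 7520 (.leaf 0x19b2) (.node 7521 (.leaf 0xb0b0a0a0004) (.leaf 0x0))) (.node 7523 (.leaf 0xb0001) (.node 7524 (.leaf 0x0) (.leaf 0x0)))) (.node 7528 (.node 7526 (.leaf 0x60000020804000202000701000d) (.node 7527 (.leaf 0x0) (.leaf 0xd0b0002))) (.node 7529 (.leaf 0x0) (.node 7530 (.leaf 0x172a00094d) (.leaf 0xa0f0002))))))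

def argWS_663 : Store := (.node 7508 argWS_661 argWS_662)

def argWS_664 : Store := (.node 7542 (.node 7536 (.node 7533 (.node 7532 (.leaf 0x0) (.leaf 0x606010308000703040103000b)) (.node 7534 (.leaf 0x0) (.node 7535 (.leaf 0xb0a0f0003) (.leaf 0xd0b0002)))) (.node 7539 (.node 7537 (.leaf 0x70406030500040202000701000c) (.node 7538 (.leaf 0x0) (.leaf 0xd0001))) (.node 7540 (.leaf 0x0) (.node 7541 (.leaf 0x2070206020007010008) (.leaf 0x0))))) (.node 7547 (.node 7544 (.node 7543 (.leaf 0xf0b0a0a0004) (.leaf 0x0)) (.node 7545 (.leaf 0x1d77001d73) (.node 7546 (.leaf 0x5020006030500040008) (.leaf 0x0)))) (.node 7550 (.node 7548 (.leaf 0xb0f0002) (.node 7549 (.leaf 0x0) (.leaf 0x0))) (.node 7551 (.leaf 0x0) (.node 7552 (.leaf 0x703050007030401030009) (.leaf 0x904020007030401030009))))))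

def argWS_665 : Store := (.node 7564 (.node 7558 (.node 7555 (.node 7554 (.leaf 0x0) (.leaf 0x904020007030401030009)) (.node 7556 (.leaf 0x0) (.node 7557 (.leaf 0x4040002) (.leaf 0x0)))) (.node 7561 (.node 7559 (.leaf 0x206000300000202000701000b) (.node 7560 (.leaf 0x0) (.leaf 0x904020007030401030009))) (.node 7562 (.leaf 0x0) (.node 7563 (.leaf 0x904020007030401030009) (.leaf 0x0))))) (.node 7570 (.node 7567 (.node 7565 (.leaf 0x4040002) (.node 7566 (.leaf 0x0) (.leaf 0x206000300000202000701000b))) (.node 7568 (.leaf 0x0) (.node 7569 (.leaf 0x904020007030401030009) (.leaf 0x0)))) (.node 7573 (.node 7571 (.leaf 0x904020007030401030009) (.node 7572 (.leaf 0x0) (.leaf 0x4040002))) (.node 7574 (.leaf 0x0) (.node 7575 (.leaf 0x904020007030401030009) (.leaf 0x0))))))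

def argWS_666 : Store := (.node 7553 argWS_664 argWS_665)

def argWS_667 : Store := (.node 7531 argWS_663 argWS_666)

def argWS_668 : Store := (.node 7486 argWS_660 argWS_667)

def argWS_669 : Store := (.node 7396 argWS_653 argWS_668)

def argWS_670 : Store := (.node 7587 (.node 7581 (.node 7578 (.node 7577 (.leaf 0x4040002) (.leaf 0x0)) (.node 7579 (.leaf 0x206000300000202000701000b) (.node 7580 (.leaf 0x0) (.leaf 0x904020007030401030009)))) (.node 7584 (.node 7582 (.leaf 0x0) (.node 7583 (.leaf 0x904020007030401030009) (.leaf 0x0))) (.node 7585 (.leaf 0x4040002) (.node 7586 (.leaf 0x0) (.leaf 0x904020007030401030009))))) (.node 7592 (.node 7589 (.node 7588 (.leaf 0x0) (.leaf 0x4040002)) (.node 7590 (.leaf 0x0) (.node 7591 (.leaf 0x206000300000202000701000b) (.leaf 0x0)))) (.node 7595 (.node 7593 (.leaf 0x904020007030401030009) (.node 7594 (.leaf 0x0) (.leaf 0x904020007030401030009))) (.node 7596 (.leaf 0x0) (.node 7597 (.leaf 0x202020003) (.leaf 0x0))))))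

def argWS_671 : Store := (.node 7609 (.node 7603 (.node 7600 (.node 7599 (.leaf 0xb0b0002) (.leaf 0x1020206020702010802040105000d)) (.node 7601 (.leaf 0x0) (.node 7602 (.leaf 0xf0a0002) (.leaf 0x600070306000703040103000b)))) (.node 7606 (.node 7604 (.leaf 0x0) (.node 7605 (.leaf 0xb0a0a0003) (.leaf 0x604010400050202000701000b))) (.node 7607 (.leaf 0x0) (.node 7608 (.leaf 0xa0001) (.leaf 0x3010003))))) (.node 7615 (.node 7612 (.node 7610 (.leaf 0x0) (.node 7611 (.leaf 0xa0f0b0b0004) (.leaf 0xe0a0a0003))) (.node 7613 (.leaf 0x7070209020005) (.node 7614 (.leaf 0x0) (.leaf 0x0)))) (.node 7618 (.node 7616 (.leaf 0x402050003030604000703040103000e) (.node 7617 (.leaf 0x0) (.leaf 0x0))) (.node 7619 (.leaf 0x1dc1001dbe) (.node 7620 (.leaf 0xb0b0a0a0004) (.leaf 0x0))))))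

def argWS_672 : Store := (.node 7598 argWS_670 argWS_671)

def argWS_673 : Store := (.node 7632 (.node 7626 (.node 7623 (.node 7622 (.leaf 0xa0f0b0b0004) (.leaf 0x0)) (.node 7624 (.leaf 0x0) (.node 7625 (.leaf 0x2090309080600000703040103000d) (.leaf 0x0)))) (.node 7629 (.node 7627 (.leaf 0x9000301010200000703040103000e) (.node 7628 (.leaf 0x0) (.leaf 0xf0b0002))) (.node 7630 (.leaf 0x0) (.node 7631 (.leaf 0x8000400090206020202000701000d) (.leaf 0x0))))) (.node 7637 (.node 7634 (.node 7633 (.leaf 0xf0b0b0a0004) (.leaf 0x0)) (.node 7635 (.leaf 0x1dd1) (.node 7636 (.leaf 0x5070209020802040105000a) (.leaf 0x0)))) (.node 7640 (.node 7638 (.leaf 0xf0b0b0003) (.node 7639 (.leaf 0x0) (.leaf 0xb0001))) (.node 7641 (.leaf 0x0) (.node 7642 (.leaf 0x0) (.leaf 0x5070209020005))))))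

def argWS_674 : Store := (.node 7654 (.node 7648 (.node 7645 (.node 7644 (.leaf 0xb0b0a0a0004) (.leaf 0xb0b0a0a0004)) (.node 7646 (.leaf 0x60400050005) (.node 7647 (.leaf 0x0) (.leaf 0x0)))) (.node 7651 (.node 7649 (.leaf 0x2050206010500020802040105000d) (.node 7650 (.leaf 0x0) (.leaf 0xa0001))) (.node 7652 (.leaf 0x0) (.node 7653 (.leaf 0xa0f0b0003) (.leaf 0x20401020901060202000701000c))))) (.node 7660 (.node 7657 (.node 7655 (.leaf 0x0) (.node 7656 (.leaf 0xe0001) (.leaf 0x0))) (.node 7658 (.leaf 0x1de8) (.node 7659 (.leaf 0xf0b0b0a0a0005) (.leaf 0x0)))) (.node 7663 (.node 7661 (.leaf 0x0) (.node 7662 (.leaf 0x600090806000802040105000b) (.leaf 0x0))) (.node 7664 (.leaf 0xb0f0a0003) (.node 7665 (.leaf 0x0) (.leaf 0xb0f0002))))))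

def argWS_675 : Store := (.node 7643 argWS_673 argWS_674)

def argWS_676 : Store := (.node 7621 argWS_672 argWS_675)

def argWS_677 : Store := (.node 7677 (.node 7671 (.node 7668 (.node 7667 (.leaf 0x1df1) (.leaf 0x30400050004)) (.node 7669 (.leaf 0x0) (.node 7670 (.leaf 0xa0001) (.leaf 0x0)))) (.node 7674 (.node 7672 (.leaf 0x70502020900000802040105000c) (.node 7673 (.leaf 0x0) (.leaf 0xe0a0002))) (.node 7675 (.leaf 0x4020202010202000701000a) (.node 7676 (.leaf 0x0) (.leaf 0x0))))) (.node 7682 (.node 7679 (.node 7678 (.leaf 0x2000009000009000703040103000d) (.leaf 0x0)) (.node 7680 (.leaf 0xf0b0a0003) (.node 7681 (.leaf 0x0) (.leaf 0x1e00001dfc)))) (.node 7685 (.node 7683 (.leaf 0x70202020900000007) (.node 7684 (.leaf 0x0) (.leaf 0xf0b0b0a0a0005))) (.node 7686 (.leaf 0x0) (.node 7687 (.leaf 0x4040206020007010008) (.leaf 0x0))))))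

def argWS_678 : Store := (.node 7699 (.node 7693 (.node 7690 (.node 7689 (.leaf 0xf0a0a0003) (.leaf 0x50202020900000802040105000c)) (.node 7691 (.leaf 0x0) (.node 7692 (.leaf 0xd0001) (.leaf 0x0)))) (.node 7696 (.node 7694 (.leaf 0x207000408010006) (.node 7695 (.leaf 0x0) (.leaf 0xb0f0a0003))) (.node 7697 (.leaf 0x0) (.node 7698 (.leaf 0x20902090000000703040103000c) (.leaf 0x0))))) (.node 7705 (.node 7702 (.node 7700 (.leaf 0x0) (.node 7701 (.leaf 0x1e13001e10) (.leaf 0xe0a0a0003))) (.node 7703 (.leaf 0x0) (.node 7704 (.leaf 0x80002020900000802040105000d) (.leaf 0x0)))) (.node 7708 (.node 7706 (.leaf 0xf0a0002) (.node 7707 (.leaf 0x6010908050006) (.leaf 0x0))) (.node 7709 (.leaf 0x0) (.node 7710 (.leaf 0x3070904020005) (.leaf 0x0))))))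

def argWS_679 : Store := (.node 7688 argWS_677 argWS_678)

def argWS_680 : Store := (.node 7722 (.node 7716 (.node 7713 (.node 7712 (.leaf 0xd0b0b0003) (.leaf 0x0)) (.node 7714 (.leaf 0x1e20) (.node 7715 (.leaf 0xa0f0b0b0004) (.leaf 0x0)))) (.node 7719 (.node 7717 (.leaf 0xb0a0f0003) (.node 7718 (.leaf 0x0) (.leaf 0x0))) (.node 7720 (.leaf 0x2060103010102000202000701000d) (.node 7721 (.leaf 0x0) (.leaf 0x0))))) (.node 7727 (.node 7724 (.node 7723 (.leaf 0x1e290002c9) (.leaf 0x6050202090000000703040103000d)) (.node 7725 (.leaf 0x0) (.node 7726 (.leaf 0xf0a0002) (.leaf 0x0)))) (.node 7730 (.node 7728 (.leaf 0xe0001) (.node 7729 (.leaf 0x0) (.leaf 0x0))) (.node 7731 (.leaf 0x200020206030006) (.node 7732 (.leaf 0x0) (.leaf 0xb0b0002))))))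

def argWS_681 : Store := (.node 7744 (.node 7738 (.node 7735 (.node 7734 (.leaf 0x0) (.leaf 0x1552)) (.node 7736 (.leaf 0x80006010500020802040105000d) (.node 7737 (.leaf 0x0) (.leaf 0xb0a0f0003)))) (.node 7741 (.node 7739 (.leaf 0x0) (.node 7740 (.leaf 0xd0b0002) (.leaf 0x0))) (.node 7742 (.leaf 0x0) (.node 7743 (.leaf 0x209020003) (.leaf 0x0))))) (.node 7750 (.node 7747 (.node 7745 (.leaf 0xa0f0002) (.node 7746 (.leaf 0x0) (.leaf 0xf0a0002))) (.node 7748 (.leaf 0x0) (.node 7749 (.leaf 0x1e43000a29) (.leaf 0xd0b0b0003)))) (.node 7753 (.node 7751 (.leaf 0x0) (.node 7752 (.leaf 0x206010900090802040105000b) (.leaf 0x0))) (.node 7754 (.leaf 0xf0b0b0003) (.node 7755 (.leaf 0xf0b0b0003) (.leaf 0x109030901090202000701000b))))))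

def argWS_682 : Store := (.node 7733 argWS_680 argWS_681)

def argWS_683 : Store := (.node 7711 argWS_679 argWS_682)

def argWS_684 : Store := (.node 7666 argWS_676 argWS_683)

def argWS_685 : Store := (.node 7767 (.node 7761 (.node 7758 (.node 7757 (.leaf 0x0) (.leaf 0xe0a0a0003)) (.node 7759 (.leaf 0x0) (.node 7760 (.leaf 0x20407020600000703040103000c) (.leaf 0x0)))) (.node 7764 (.node 7762 (.leaf 0xb0001) (.node 7763 (.leaf 0x0) (.leaf 0x1e52))) (.node 7765 (.leaf 0x5000400050202000701000a) (.node 7766 (.leaf 0x0) (.leaf 0xb0b0a0a0004))))) (.node 7772 (.node 7769 (.node 7768 (.leaf 0x0) (.leaf 0x0)) (.node 7770 (.leaf 0x60507020600000703040103000c) (.node 7771 (.leaf 0x0) (.leaf 0x0)))) (.node 7775 (.node 7773 (.leaf 0x1020603000703040103000a) (.node 7774 (.leaf 0x0) (.leaf 0xb0f0002))) (.node 7776 (.leaf 0x0) (.node 7777 (.leaf 0x1e5f) (.leaf 0x4030000090206020202000701000d))))))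

def argWS_686 : Store := (.node 7789 (.node 7783 (.node 7780 (.node 7779 (.leaf 0x0) (.leaf 0xd0b0b0003)) (.node 7781 (.leaf 0x0) (.node 7782 (.leaf 0xf0001) (.leaf 0x0)))) (.node 7786 (.node 7784 (.leaf 0x0) (.node 7785 (.leaf 0xd0b0002) (.leaf 0x102010401050006))) (.node 7787 (.leaf 0x0) (.node 7788 (.leaf 0xe0a0a0003) (.leaf 0x0))))) (.node 7795 (.node 7792 (.node 7790 (.leaf 0x305020901060006) (.node 7791 (.leaf 0x0) (.leaf 0xb0b0002))) (.node 7793 (.leaf 0x0) (.node 7794 (.leaf 0x1e70001e6c) (.leaf 0x2020206020702010802040105000d)))) (.node 7798 (.node 7796 (.leaf 0x0) (.node 7797 (.leaf 0xb0a0002) (.leaf 0x0))) (.node 7799 (.leaf 0x5010603050004000703040103000d) (.node 7800 (.leaf 0x0) (.leaf 0xb0b0002))))))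

def argWS_687 : Store := (.node 7778 argWS_685 argWS_686)

def argWS_688 : Store := (.node 7812 (.node 7806 (.node 7803 (.node 7802 (.leaf 0xe0a0a0003) (.leaf 0x205070009030006)) (.node 7804 (.leaf 0x0) (.node 7805 (.leaf 0xb0a0f0003) (.leaf 0x0)))) (.node 7809 (.node 7807 (.leaf 0xd0001) (.node 7808 (.leaf 0x60400090806000007) (.leaf 0x0))) (.node 7810 (.leaf 0xb0f0002) (.node 7811 (.leaf 0x0) (.leaf 0x1e82001e7e))))) (.node 7817 (.node 7814 (.node 7813 (.leaf 0xb0a0a0003) (.leaf 0x0)) (.node 7815 (.leaf 0x8030006020702010202000701000d) (.node 7816 (.leaf 0x0) (.leaf 0xb0f0002)))) (.node 7820 (.node 7818 (.leaf 0x10202000408010202000701000c) (.node 7819 (.leaf 0x0) (.leaf 0xf0a0002))) (.node 7821 (.leaf 0x0) (.node 7822 (.leaf 0x1e8c) (.leaf 0x40005020604000703040103000d))))))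

def argWS_689 : Store := (.node 7834 (.node 7828 (.node 7825 (.node 7824 (.leaf 0x0) (.leaf 0xf0b0b0003)) (.node 7826 (.leaf 0x0) (.node 7827 (.leaf 0xb0a0f0003) (.leaf 0x0)))) (.node 7831 (.node 7829 (.leaf 0x0) (.node 7830 (.leaf 0x105020400050202000701000b) (.leaf 0x0))) (.node 7832 (.leaf 0xb0a0a0003) (.node 7833 (.leaf 0x0) (.leaf 0x30408010004))))) (.node 7840 (.node 7837 (.node 7835 (.leaf 0x0) (.node 7836 (.leaf 0xa0f0b0b0004) (.leaf 0x0))) (.node 7838 (.leaf 0x1e9c001e98) (.node 7839 (.leaf 0x605020603000703040103000b) (.leaf 0x0)))) (.node 7843 (.node 7841 (.leaf 0xd0b0b0003) (.node 7842 (.leaf 0x0) (.leaf 0xa0001))) (.node 7844 (.leaf 0x0) (.node 7845 (.leaf 0x0) (.leaf 0x20901010703060202000701000c))))))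

def argWS_690 : Store := (.node 7823 argWS_688 argWS_689)

def argWS_691 : Store := (.node 7801 argWS_687 argWS_690)

def argWS_692 : Store := (.node 7857 (.node 7851 (.node 7848 (.node 7847 (.leaf 0x0) (.leaf 0xf0a0002)) (.node 7849 (.leaf 0x0) (.node 7850 (.leaf 0x902090208020401050009) (.leaf 0x0)))) (.node 7854 (.node 7852 (.leaf 0xf0b0b0a0004) (.node 7853 (.leaf 0x0) (.leaf 0x1eac000e97))) (.node 7855 (.leaf 0x0) (.node 7856 (.leaf 0xf0b0a0003) (.leaf 0x0))))) (.node 7862 (.node 7859 (.node 7858 (.leaf 0x90007000903000703040103000c) (.leaf 0x0)) (.node 7860 (.leaf 0xe0a0002) (.node 7861 (.leaf 0x6010206020702010202000701000d) (.leaf 0x0)))) (.node 7865 (.node 7863 (.leaf 0xd0b0002) (.node 7864 (.leaf 0x0) (.leaf 0x20000000408010802040105000c))) (.node 7866 (.leaf 0x0) (.node 7867 (.leaf 0x0) (.leaf 0x8000904020802040105000a))))))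

def argWS_693 : Store := (.node 7879 (.node 7873 (.node 7870 (.node 7869 (.leaf 0x0) (.leaf 0xf0a0002)) (.node 7871 (.leaf 0x0) (.node 7872 (.leaf 0x1ebe001eba) (.leaf 0x6010900090202000701000a)))) (.node 7876 (.node 7874 (.leaf 0x0) (.node 7875 (.leaf 0xf0a0a0003) (.leaf 0x0))) (.node 7877 (.leaf 0x5030503010102000008) (.node 7878 (.leaf 0x0) (.leaf 0xd0b0b0003))))) (.node 7885 (.node 7882 (.node 7880 (.leaf 0xe0a0a0003) (.node 7881 (.leaf 0xb0f0a0003) (.leaf 0x1ec8001e4a))) (.node 7883 (.leaf 0x60102000300000007) (.node 7884 (.leaf 0x0) (.leaf 0xe0a0002)))) (.node 7888 (.node 7886 (.leaf 0x0) (.node 7887 (.leaf 0x4000400050202000701000a) (.leaf 0x0))) (.node 7889 (.leaf 0xb0b0002) (.node 7890 (.leaf 0x0) (.leaf 0x0))))))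

def argWS_694 : Store := (.node 7868 argWS_692 argWS_693)

def argWS_695 : Store := (.node 7902 (.node 7896 (.node 7893 (.node 7892 (.leaf 0xb0a0f0003) (.leaf 0x1)) (.node 7894 (.leaf 0x0) (.node 7895 (.leaf 0x0) (.leaf 0x0)))) (.node 7899 (.node 7897 (.leaf 0x5080002) (.node 7898 (.leaf 0x0) (.leaf 0xb0a0a0003))) (.node 7900 (.leaf 0xf0a0002) (.node 7901 (.leaf 0xe0d0002) (.leaf 0xe0001))))) (.node 7908 (.node 7905 (.node 7903 (.leaf 0x60000070009030802040105000c) (.node 7904 (.leaf 0xa0a0002) (.leaf 0x402000003010007))) (.node 7906 (.leaf 0x0) (.node 7907 (.leaf 0x0) (.leaf 0x1ee20015e8)))) (.node 7911 (.node 7909 (.leaf 0x5000003010102000202000701000d) (.node 7910 (.leaf 0x0) (.leaf 0xb0a0002))) (.node 7912 (.leaf 0xa0a0002) (.node 7913 (.leaf 0x300090806000802040105000b) (.leaf 0x0))))))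

def argWS_696 : Store := (.node 7925 (.node 7919 (.node 7916 (.node 7915 (.leaf 0x0) (.leaf 0x300090806000802040105000b)) (.node 7917 (.leaf 0x0) (.node 7918 (.leaf 0x0) (.leaf 0x1eed001eea)))) (.node 7922 (.node 7920 (.leaf 0xe0a0002) (.node 7921 (.leaf 0x0) (.leaf 0xd0b0002))) (.node 7923 (.leaf 0x0) (.node 7924 (.leaf 0x0) (.leaf 0xf0b0b0a0004))))) (.node 7931 (.node 7928 (.node 7926 (.leaf 0xf0001) (.node 7927 (.leaf 0xf0b0a0a0004) (.leaf 0x102080003))) (.node 7929 (.leaf 0x0) (.node 7930 (.leaf 0xe0a0a0003) (.leaf 0x0)))) (.node 7934 (.node 7932 (.leaf 0x1efa001ef6) (.node 7933 (.leaf 0x30601050002000703040103000c) (.leaf 0x0))) (.node 7935 (.leaf 0xb0001) (.node 7936 (.leaf 0x0) (.leaf 0x50000020901060202000701000c))))))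

def argWS_697 : Store := (.node 7914 argWS_695 argWS_696)

def argWS_698 : Store := (.node 7891 argWS_694 argWS_697)

def argWS_699 : Store := (.node 7846 argWS_691 argWS_698)

def argWS_700 : Store := (.node 7756 argWS_684 argWS_699)

def argWS_701 : Store := (.node 7576 argWS_669 argWS_700)

def argWS_702 : Store := (.node 7948 (.node 7942 (.node 7939 (.node 7938 (.leaf 0x0) (.leaf 0xf0b0b0a0a0005)) (.node 7940 (.leaf 0xb0a0a0003) (.node 7941 (.leaf 0xe0001) (.leaf 0x5050206040202000701000a)))) (.node 7945 (.node 7943 (.leaf 0x0) (.node 7944 (.leaf 0xa0001) (.leaf 0x0))) (.node 7946 (.leaf 0x502090206020006) (.node 7947 (.leaf 0x0) (.leaf 0xb0a0a0003))))) (.node 7953 (.node 7950 (.node 7949 (.leaf 0x0) (.leaf 0x1f0c)) (.node 7951 (.leaf 0xf0b0a0a0004) (.node 7952 (.leaf 0x0) (.leaf 0x3090106000703040103000a)))) (.node 7956 (.node 7954 (.leaf 0x0) (.node 7955 (.leaf 0xb0b0a0a0004) (.leaf 0xf0b0a0003))) (.node 7957 (.leaf 0xb0a0a0003) (.node 7958 (.leaf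 0x10903010904020802040105000c) (.leaf 0x0))))))

def argWS_703 : Store := (.node 7970 (.node 7964 (.node 7961 (.node 7960 (.leaf 0xb0f0a0a0004) (.leaf 0x102050206040802040105000b)) (.node 7962 (.leaf 0x0) (.node 7963 (.leaf 0x0) (.leaf 0x1f1a)))) (.node 7967 (.node 7965 (.leaf 0x705010908050202000701000b) (.node 7966 (.leaf 0x0) (.leaf 0xb0a0002))) (.node 7968 (.leaf 0x0) (.node 7969 (.leaf 0x4010901090202000701000a) (.leaf 0x0))))) (.node 7976 (.node 7973 (.node 7971 (.leaf 0xa0a0002) (.node 7972 (.leaf 0xb0b0a0a0004) (.leaf 0x0))) (.node 7974 (.leaf 0xb0a0f0003) (.node 7975 (.leaf 0x20206010500020007) (.leaf 0x0)))) (.node 7979 (.node 7977 (.leaf 0xf0001) (.node 7978 (.leaf 0x0) (.leaf 0x1f29))) (.node 7980 (.leaf 0x103010901090802040105000b) (.node 7981 (.leaf 0x0) (.leaf 0xd0001))))))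

def argWS_704 : Store := (.node 7959 argWS_702 argWS_703)

def argWS_705 : Store := (.node 7993 (.node 7987 (.node 7984 (.node 7983 (.leaf 0x0) (.leaf 0xb0b0a0a0004)) (.node 7985 (.leaf 0x0) (.node 7986 (.leaf 0x0) (.leaf 0x60200030306040007)))) (.node 7990 (.node 7988 (.leaf 0xa0f0002) (.node 7989 (.leaf 0xf0b0b0a0004) (.leaf 0x6040105020604000703040103000d))) (.node 7991 (.leaf 0x0) (.node 7992 (.leaf 0xb0a0f0003) (.leaf 0x0))))) (.node 7998 (.node 7995 (.node 7994 (.leaf 0xb0f0a0a0004) (.leaf 0xf0b0a0a0004)) (.node 7996 (.leaf 0xa0f0b0003) (.node 7997 (.leaf 0x204090000090202000701000b) (.leaf 0x0)))) (.node 8001 (.node 7999 (.leaf 0xb0a0a0003) (.node 8000 (.leaf 0x0) (.leaf 0x15d2001f3f))) (.node 8002 (.leaf 0xf0a0a0003) (.node 8003 (.leaf 0x0) (.leaf 0xb0f0002))))))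

def argWS_706 : Store := (.node 8015 (.node 8009 (.node 8006 (.node 8005 (.leaf 0x0) (.leaf 0x0)) (.node 8007 (.leaf 0x6040000030306040802040105000d) (.node 8008 (.leaf 0x0) (.leaf 0x0)))) (.node 8012 (.node 8010 (.leaf 0x0) (.node 8011 (.leaf 0x1f49001f48) (.leaf 0x503050202020703040103000b))) (.node 8013 (.leaf 0x0) (.node 8014 (.leaf 0xb0a0f0003) (.leaf 0x0))))) (.node 8021 (.node 8018 (.node 8016 (.leaf 0x0) (.node 8017 (.leaf 0x0) (.leaf 0x30002000003010202000701000c))) (.node 8019 (.leaf 0x905030400050802040105000b) (.node 8020 (.leaf 0x0) (.leaf 0x905030400050802040105000b)))) (.node 8024 (.node 8022 (.leaf 0x0) (.node 8023 (.leaf 0x4080102020007010009) (.leaf 0x0))) (.node 8025 (.leaf 0x404020901060802040105000b) (.node 8026 (.leaf 0x0) (.leaf 0x40402020900000802040105000c))))))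

def argWS_707 : Store := (.node 8004 argWS_705 argWS_706)

def argWS_708 : Store := (.node 7982 argWS_704 argWS_707)

def argWS_709 : Store := (.node 8038 (.node 8032 (.node 8029 (.node 8028 (.leaf 0x0) (.leaf 0x905030400050802040105000b)) (.node 8030 (.leaf 0x0) (.node 8031 (.leaf 0x905030400050802040105000b) (.leaf 0x0)))) (.node 8035 (.node 8033 (.leaf 0x404020901060802040105000b) (.node 8034 (.leaf 0x0) (.leaf 0x404020901060802040105000b))) (.node 8036 (.leaf 0x0) (.node 8037 (.leaf 0x5020901060802040105000a) (.leaf 0x0))))) (.node 8043 (.node 8040 (.node 8039 (.leaf 0x5000408010202000701000a) (.leaf 0x0)) (.node 8041 (.leaf 0x2020900000802040105000a) (.node 8042 (.leaf 0x0) (.leaf 0x9070202090000000703040103000d)))) (.node 8046 (.node 8044 (.leaf 0x0) (.node 8045 (.leaf 0xb0b0a0003) (.leaf 0x304030003))) (.node 8047 (.leaf 0x0) (.node 8048 (.leaf 0xb0b0a0a0004) (.leaf 0x600070306000703040103000b))))))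

def argWS_710 : Store := (.node 8060 (.node 8054 (.node 8051 (.node 8050 (.leaf 0x0) (.leaf 0xd0b0002)) (.node 8052 (.leaf 0x202020003) (.node 8053 (.leaf 0x0) (.leaf 0x700070206000202000701000b)))) (.node 8057 (.node 8055 (.leaf 0x0) (.node 8056 (.leaf 0xd0b0b0003) (.leaf 0xf0b0b0a0004))) (.node 8058 (.leaf 0x102060402020007010009) (.node 8059 (.leaf 0x0) (.leaf 0x0))))) (.node 8066 (.node 8063 (.node 8061 (.leaf 0x901090109000703040103000b) (.node 8062 (.leaf 0x0) (.leaf 0xf0b0a0003))) (.node 8064 (.leaf 0x0) (.node 8065 (.leaf 0x1f7f001f7b) (.leaf 0xf0001)))) (.node 8069 (.node 8067 (.leaf 0x0) (.node 8068 (.leaf 0xa0001) (.leaf 0x0))) (.node 8070 (.leaf 0x0) (.node 8071 (.leaf 0xd0b0b0003) (.leaf 0x9010409080600000703040103000d))))))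

def argWS_711 : Store := (.node 8049 argWS_709 argWS_710)

def argWS_712 : Store := (.node 8083 (.node 8077 (.node 8074 (.node 8073 (.leaf 0x0) (.leaf 0x0)) (.node 8075 (.leaf 0x1f89) (.node 8076 (.leaf 0xb0a0002) (.leaf 0x0)))) (.node 8080 (.node 8078 (.leaf 0x209070009030802040105000b) (.node 8079 (.leaf 0x0) (.leaf 0xf0b0b0003))) (.node 8081 (.leaf 0xf0b0b0003) (.node 8082 (.leaf 0x1f90) (.leaf 0x2040107000902000701000a))))) (.node 8088 (.node 8085 (.node 8084 (.leaf 0x0) (.leaf 0xb0f0a0003)) (.node 8086 (.leaf 0x0) (.node 8087 (.leaf 0x904040005000703040103000b) (.leaf 0x0)))) (.node 8091 (.node 8089 (.leaf 0xb0b0a0a0004) (.node 8090 (.leaf 0xd0b0b0003) (.leaf 0x60202020900000802040105000c))) (.node 8092 (.leaf 0x0) (.node 8093 (.leaf 0xb0001) (.leaf 0x0))))))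

def argWS_713 : Store := (.node 8105 (.node 8099 (.node 8096 (.node 8095 (.leaf 0x205020004080703040103000b) (.leaf 0x0)) (.node 8097 (.leaf 0x0) (.node 8098 (.leaf 0x1fa0000718) (.leaf 0x4020506030500040202000701000d)))) (.node 8102 (.node 8100 (.leaf 0x0) (.node 8101 (.leaf 0x0) (.leaf 0x20903000408010802040105000c))) (.node 8103 (.leaf 0x0) (.node 8104 (.leaf 0xf0b0002) (.leaf 0xb0b0a0003))))) (.node 8111 (.node 8108 (.node 8106 (.leaf 0xb0a0f0003) (.node 8107 (.leaf 0x600090009000703040103000b) (.leaf 0x0))) (.node 8109 (.leaf 0x0) (.node 8110 (.leaf 0x103010206030802040105000b) (.leaf 0x0)))) (.node 8114 (.node 8112 (.leaf 0xa0f0002) (.node 8113 (.leaf 0x0) (.leaf 0x1fb0001fac))) (.node 8115 (.leaf 0x403010102000006) (.node 8116 (.leaf 0x0) (.leaf 0xd0b0b0003))))))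

def argWS_714 : Store := (.node 8094 argWS_712 argWS_713)

def argWS_715 : Store := (.node 8072 argWS_711 argWS_714)

def argWS_716 : Store := (.node 8027 argWS_708 argWS_715)

def argWS_717 : Store := (.node 8128 (.node 8122 (.node 8119 (.node 8118 (.leaf 0x0) (.leaf 0x1080007030401030008)) (.node 8120 (.leaf 0x0) (.node 8121 (.leaf 0xf0001) (.leaf 0xb0a0a0003)))) (.node 8125 (.node 8123 (.leaf 0x9020102090106000703040103000d) (.node 8124 (.leaf 0x0) (.leaf 0x3040306010500020202000701000d))) (.node 8126 (.leaf 0x0) (.node 8127 (.leaf 0xb0b0a0003) (.leaf 0x0))))) (.node 8133 (.node 8130 (.node 8129 (.leaf 0x7020900090005) (.leaf 0x0)) (.node 8131 (.leaf 0xa0001) (.node 8132 (.leaf 0x0) (.leaf 0x1fc3)))) (.node 8136 (.node 8134 (.leaf 0xd0b0002) (.node 8135 (.leaf 0x0) (.leaf 0x409000009000703040103000b))) (.node 8137 (.leaf 0x0) (.node 8138 (.leaf 0xf0b0b0a0a0005) (.leaf 0x1050002000703040103000a))))))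

def argWS_718 : Store := (.node 8150 (.node 8144 (.node 8141 (.node 8140 (.leaf 0x0) (.leaf 0xa0a0002)) (.node 8142 (.leaf 0x0) (.node 8143 (.leaf 0x1533) (.leaf 0xb0b0a0003)))) (.node 8147 (.node 8145 (.leaf 0x0) (.node 8146 (.leaf 0xb0b0a0a0004) (.leaf 0x0))) (.node 8148 (.leaf 0x0) (.node 8149 (.leaf 0x60000060207020703040103000c) (.leaf 0x0))))) (.node 8156 (.node 8153 (.node 8151 (.leaf 0xf0001) (.node 8152 (.leaf 0x0) (.leaf 0x9040207030802040105000a))) (.node 8154 (.leaf 0x0) (.node 8155 (.leaf 0xd0001) (.leaf 0x0)))) (.node 8159 (.node 8157 (.leaf 0x1fdb001fd7) (.node 8158 (.leaf 0xb0b0a0a0004) (.leaf 0x0))) (.node 8160 (.leaf 0x4000406010500020802040105000d) (.node 8161 (.leaf 0x0) (.leaf 0xe0a0002))))))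

def argWS_719 : Store := (.node 8139 argWS_717 argWS_718)

def argWS_720 : Store := (.node 8173 (.node 8167 (.node 8164 (.node 8163 (.leaf 0xf0b0b0a0004) (.leaf 0x6010205020202010802040105000d)) (.node 8165 (.leaf 0x0) (.node 8166 (.leaf 0x0) (.leaf 0x90600000300000802040105000c)))) (.node 8170 (.node 8168 (.leaf 0xe0a0a0003) (.node 8169 (.leaf 0xa0f0b0b0004) (.leaf 0xb0f0002))) (.node 8171 (.leaf 0x2000006030500040802040105000d) (.node 8172 (.leaf 0x0) (.leaf 0x0))))) (.node 8178 (.node 8175 (.node 8174 (.leaf 0xf0b0002) (.leaf 0x1fed001fec)) (.node 8176 (.leaf 0x8010106010500020202000701000d) (.node 8177 (.leaf 0x0) (.leaf 0xf0a0002)))) (.node 8181 (.node 8179 (.leaf 0x0) (.node 8180 (.leaf 0x907030401030006) (.leaf 0x0))) (.node 8182 (.leaf 0xa0a0002) (.node 8183 (.leaf 0x10400090206020202000701000c) (.leaf 0x0))))))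

def argWS_721 : Store := (.node 8195 (.node 8189 (.node 8186 (.node 8185 (.leaf 0xb0a0a0003) (.leaf 0x0)) (.node 8187 (.leaf 0x6020000090206020802040105000d) (.node 8188 (.leaf 0x0) (.leaf 0xe0a0002)))) (.node 8192 (.node 8190 (.leaf 0x0) (.node 8191 (.leaf 0x1ffd) (.leaf 0x0))) (.node 8193 (.leaf 0xa0a0002) (.node 8194 (.leaf 0x0) (.leaf 0xe0a0a0003))))) (.node 8201 (.node 8198 (.node 8196 (.leaf 0x0) (.node 8197 (.leaf 0x0) (.leaf 0x80006010500020802040105000c))) (.node 8199 (.leaf 0x0) (.node 8200 (.leaf 0x0) (.leaf 0x308000703040103000a)))) (.node 8204 (.node 8202 (.leaf 0x0) (.node 8203 (.leaf 0x0) (.leaf 0x200a002007))) (.node 8205 (.leaf 0xb0001) (.node 8206 (.leaf 0x0) (.leaf 0xa0a0002))))))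

def argWS_722 : Store := (.node 8184 argWS_720 argWS_721)

def argWS_723 : Store := (.node 8162 argWS_719 argWS_722)

def argWS_724 : Store := (.node 8218 (.node 8212 (.node 8209 (.node 8208 (.leaf 0x0) (.leaf 0x0)) (.node 8210 (.leaf 0x10400070209020007) (.node 8211 (.leaf 0x0) (.leaf 0x0)))) (.node 8215 (.node 8213 (.leaf 0xb0f0a0a0004) (.node 8214 (.leaf 0x2014002013) (.leaf 0xe0a0a0003))) (.node 8216 (.leaf 0x0) (.node 8217 (.leaf 0xd0b0b0003) (.leaf 0x0))))) (.node 8223 (.node 8220 (.node 8219 (.leaf 0x0) (.leaf 0x8020005020202010802040105000d)) (.node 8221 (.leaf 0x0) (.node 8222 (.leaf 0x0) (.leaf 0xf0b0b0003)))) (.node 8226 (.node 8224 (.leaf 0x201e00201d) (.node 8225 (.leaf 0x301070009030802040105000b) (.leaf 0x0))) (.node 8227 (.leaf 0xb0b0a0a0004) (.node 8228 (.leaf 0x0) (.leaf 0xb0a0a0003))))))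

def argWS_725 : Store := (.node 8240 (.node 8234 (.node 8231 (.node 8230 (.leaf 0x0) (.leaf 0x0)) (.node 8232 (.leaf 0x20403080004) (.node 8233 (.leaf 0x0) (.leaf 0xf0001)))) (.node 8237 (.node 8235 (.leaf 0x0) (.node 8236 (.leaf 0xf0b0002) (.leaf 0x304010301010200000703040103000e))) (.node 8238 (.leaf 0x0) (.node 8239 (.leaf 0xe0d0002) (.leaf 0x0))))) (.node 8246 (.node 8243 (.node 8241 (.leaf 0x202f00202b) (.node 8242 (.leaf 0xa0a0002) (.leaf 0x0))) (.node 8244 (.leaf 0xb0f0a0a0004) (.node 8245 (.leaf 0x0) (.leaf 0x0)))) (.node 8249 (.node 8247 (.leaf 0x303070009020007010009) (.node 8248 (.leaf 0x5000009080600000703040103000d) (.leaf 0x0))) (.node 8250 (.leaf 0x0) (.node 8251 (.leaf 0x206020901060802040105000b) (.leaf 0x0))))))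

def argWS_726 : Store := (.node 8229 argWS_724 argWS_725)

def argWS_727 : Store := (.node 8263 (.node 8257 (.node 8254 (.node 8253 (.leaf 0xb0f0a0a0004) (.leaf 0x0)) (.node 8255 (.leaf 0x203d002039) (.node 8256 (.leaf 0x20202000408010202000701000c) (.leaf 0x0)))) (.node 8260 (.node 8258 (.leaf 0xf0a0a0003) (.node 8259 (.leaf 0x0) (.leaf 0x2060002020007010008))) (.node 8261 (.leaf 0x0) (.node 8262 (.leaf 0xe0001) (.leaf 0x6000009080600000703040103000d))))) (.node 8269 (.node 8266 (.node 8264 (.leaf 0x0) (.node 8265 (.leaf 0xe0001) (.leaf 0x0))) (.node 8267 (.leaf 0x90201090806000202000701000c) (.node 8268 (.leaf 0x0) (.leaf 0x0)))) (.node 8272 (.node 8270 (.leaf 0x204c0003eb) (.node 8271 (.leaf 0x30402000003010802040105000c) (.leaf 0x0))) (.node 8273 (.leaf 0xf0b0a0003) (.node 8274 (.leaf 0x0) (.leaf 0xe0d0002))))))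

def argWS_728 : Store := (.node 8286 (.node 8280 (.node 8277 (.node 8276 (.leaf 0x0) (.leaf 0x0)) (.node 8278 (.leaf 0xe0d0002) (.node 8279 (.leaf 0x103010301010200000703040103000e) (.leaf 0x0)))) (.node 8283 (.node 8281 (.leaf 0x0) (.node 8282 (.leaf 0x40205050202020703040103000c) (.leaf 0x0))) (.node 8284 (.leaf 0xd0001) (.node 8285 (.leaf 0x0) (.leaf 0x205c002058))))) (.node 8292 (.node 8289 (.node 8287 (.leaf 0xf0a0a0003) (.node 8288 (.leaf 0x0) (.leaf 0xf0001))) (.node 8290 (.leaf 0xb0f0002) (.node 8291 (.leaf 0x7000400050005) (.leaf 0x0)))) (.node 8295 (.node 8293 (.leaf 0xb0b0002) (.node 8294 (.leaf 0x0) (.leaf 0x60403030604000703040103000c))) (.node 8296 (.leaf 0x0) (.node 8297 (.leaf 0xb0a0002) (.leaf 0x0))))))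

def argWS_729 : Store := (.node 8275 argWS_727 argWS_728)

def argWS_730 : Store := (.node 8252 argWS_726 argWS_729)

def argWS_731 : Store := (.node 8207 argWS_723 argWS_730)

def argWS_732 : Store := (.node 8117 argWS_716 argWS_731)

def argWS_733 : Store := (.node 8309 (.node 8303 (.node 8300 (.node 8299 (.leaf 0x2069) (.leaf 0x202020007030401030009)) (.node 8301 (.leaf 0x0) (.node 8302 (.leaf 0xf0b0b0003) (.leaf 0x0)))) (.node 8306 (.node 8304 (.leaf 0x102070209020006) (.node 8305 (.leaf 0x0) (.leaf 0xb0a0f0003))) (.node 8307 (.leaf 0xf0a0002) (.node 8308 (.leaf 0x601020101090805000703040103000e) (.leaf 0x0))))) (.node 8314 (.node 8311 (.node 8310 (.leaf 0xf0001) (.leaf 0x0)) (.node 8312 (.leaf 0x20502090000090007) (.node 8313 (.leaf 0x0) (.leaf 0xf0b0a0a0004)))) (.node 8317 (.node 8315 (.leaf 0x0) (.node 8316 (.leaf 0xf0b0a0a0004) (.leaf 0x207b00207a))) (.node 8318 (.leaf 0x3010102000802040105000a) (.node 8319 (.leaf 0x0) (.leaf 0xf0a0a0003))))))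

def argWS_734 : Store := (.node 8331 (.node 8325 (.node 8322 (.node 8321 (.leaf 0x0) (.leaf 0x300000202000701000b)) (.node 8323 (.leaf 0x0) (.node 8324 (.leaf 0xf0b0b0a0a0005) (.leaf 0xe0a0a0003)))) (.node 8328 (.node 8326 (.leaf 0x2084) (.node 8327 (.leaf 0x2050200030306040802040105000d) (.leaf 0x0))) (.node 8329 (.leaf 0xb0f0a0a0004) (.node 8330 (.leaf 0x0) (.leaf 0xb0b0002))))) (.node 8337 (.node 8334 (.node 8332 (.leaf 0x0) (.node 8333 (.leaf 0x0) (.leaf 0x50002080400000703040103000c))) (.node 8335 (.leaf 0x0) (.node 8336 (.leaf 0xe0a0a0003) (.leaf 0x0)))) (.node 8340 (.node 8338 (.leaf 0x2020000000300000008) (.node 8339 (.leaf 0x0) (.leaf 0xf0a0002))) (.node 8341 (.leaf 0x0) (.node 8342 (.leaf 0x2094002090) (.leaf 0xa0f0b0b0004))))))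

def argWS_735 : Store := (.node 8320 argWS_733 argWS_734)

def argWS_736 : Store := (.node 8354 (.node 8348 (.node 8345 (.node 8344 (.leaf 0x0) (.leaf 0x2050200090206020008)) (.node 8346 (.leaf 0x0) (.node 8347 (.leaf 0xb0f0002) (.leaf 0x301010908050006)))) (.node 8351 (.node 8349 (.leaf 0x0) (.node 8350 (.leaf 0xe0a0a0003) (.leaf 0x0))) (.node 8352 (.leaf 0xa0f0002) (.node 8353 (.leaf 0x601090000090802040105000b) (.leaf 0x0))))) (.node 8359 (.node 8356 (.node 8355 (.leaf 0xf0b0a0a0004) (.leaf 0x0)) (.node 8357 (.leaf 0x700000603050004000703040103000e) (.node 8358 (.leaf 0x0) (.leaf 0xa0f0b0b0004)))) (.node 8362 (.node 8360 (.leaf 0x0) (.node 8361 (.leaf 0x20a70020a3) (.leaf 0xf0b0b0003))) (.node 8363 (.leaf 0x0) (.node 8364 (.leaf 0xb0b0002) (.leaf 0x0))))))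

def argWS_737 : Store := (.node 8376 (.node 8370 (.node 8367 (.node 8366 (.leaf 0x0) (.leaf 0xa0f0002)) (.node 8368 (.leaf 0x901040603050004000703040103000e) (.node 8369 (.leaf 0x0) (.leaf 0xb0a0a0003)))) (.node 8373 (.node 8371 (.leaf 0x0) (.node 8372 (.leaf 0x20b2001433) (.leaf 0x502020007010007))) (.node 8374 (.leaf 0x0) (.node 8375 (.leaf 0xa0f0b0b0004) (.leaf 0x0))))) (.node 8382 (.node 8379 (.node 8377 (.leaf 0x2040206030802040105000a) (.node 8378 (.leaf 0x0) (.leaf 0xd0001))) (.node 8380 (.leaf 0x209070209020802040105000b) (.node 8381 (.leaf 0x0) (.leaf 0x0)))) (.node 8385 (.node 8383 (.leaf 0x1f0f0020bd) (.node 8384 (.leaf 0xb0f0a0003) (.leaf 0x0))) (.node 8386 (.leaf 0x4040601050002000703040103000d) (.node 8387 (.leaf 0x0) (.leaf 0xa0f0b0003))))))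

def argWS_738 : Store := (.node 8365 argWS_736 argWS_737)

def argWS_739 : Store := (.node 8343 argWS_735 argWS_738)

def argWS_740 : Store := (.node 8399 (.node 8393 (.node 8390 (.node 8389 (.leaf 0x90701070306000703040103000c) (.leaf 0x0)) (.node 8391 (.leaf 0xf0b0b0a0a0005) (.node 8392 (.leaf 0x0) (.leaf 0x90201020603000703040103000c)))) (.node 8396 (.node 8394 (.leaf 0x0) (.node 8395 (.leaf 0x0) (.leaf 0x509000902020007010009))) (.node 8397 (.leaf 0x0) (.node 8398 (.leaf 0xb0b0002) (.leaf 0x0))))) (.node 8404 (.node 8401 (.node 8400 (.leaf 0x20ce0020ca) (.leaf 0x2010908020401050008)) (.node 8402 (.leaf 0x0) (.node 8403 (.leaf 0xd0001) (.leaf 0x0)))) (.node 8407 (.node 8405 (.leaf 0x0) (.node 8406 (.leaf 0xf0b0002) (.leaf 0x903010703060802040105000b))) (.node 8408 (.leaf 0x0) (.node 8409 (.leaf 0xb0001) (.leaf 0x0))))))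

def argWS_741 : Store := (.node 8421 (.node 8415 (.node 8412 (.node 8411 (.leaf 0xb0b0a0003) (.leaf 0x500000601050002000703040103000e)) (.node 8413 (.leaf 0x0) (.node 8414 (.leaf 0xe0d0002) (.leaf 0x0)))) (.node 8418 (.node 8416 (.leaf 0x20de0020da) (.node 8417 (.leaf 0x70000090000090007) (.leaf 0x0))) (.node 8419 (.leaf 0xf0b0a0003) (.node 8420 (.leaf 0x6060102010606000703040103000d) (.leaf 0x0))))) (.node 8427 (.node 8424 (.node 8422 (.leaf 0xa0f0b0003) (.node 8423 (.leaf 0x0) (.leaf 0x20e6))) (.node 8425 (.leaf 0x2060102090106000703040103000d) (.node 8426 (.leaf 0x0) (.leaf 0xf0b0b0a0a0005)))) (.node 8430 (.node 8428 (.leaf 0x0) (.node 8429 (.leaf 0xb0f0a0a0004) (.leaf 0x0))) (.node 8431 (.leaf 0x0) (.node 8432 (.leaf 0xb0f0a0a0004) (.leaf 0x802000900090202000701000b))))))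

def argWS_742 : Store := (.node 8410 argWS_740 argWS_741)

def argWS_743 : Store := (.node 8444 (.node 8438 (.node 8435 (.node 8434 (.leaf 0x0) (.leaf 0xb0a0f0003)) (.node 8436 (.leaf 0x0) (.node 8437 (.leaf 0xa0001) (.leaf 0x20f40020f3)))) (.node 8441 (.node 8439 (.leaf 0x202000000030000000703040103000e) (.node 8440 (.leaf 0x0) (.leaf 0xf0b0b0a0004))) (.node 8442 (.leaf 0x0) (.node 8443 (.leaf 0x7070206000202000701000a) (.leaf 0x0))))) (.node 8449 (.node 8446 (.node 8445 (.leaf 0xb0001) (.leaf 0x20500030306040802040105000c)) (.node 8447 (.leaf 0x0) (.node 8448 (.leaf 0x0) (.leaf 0xb0b0a0a0004)))) (.node 8452 (.node 8450 (.leaf 0x905060308020401050009) (.node 8451 (.leaf 0x0) (.leaf 0xb0b0a0003))) (.node 8453 (.leaf 0x0) (.node 8454 (.leaf 0x2104002100) (.leaf 0x802000308000703040103000b))))))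

def argWS_744 : Store := (.node 8466 (.node 8460 (.node 8457 (.node 8456 (.leaf 0x0) (.leaf 0xf0b0002)) (.node 8458 (.leaf 0x0) (.node 8459 (.leaf 0x0) (.leaf 0xd0b0b0003)))) (.node 8463 (.node 8461 (.leaf 0x900070009020007010009) (.node 8462 (.leaf 0x0) (.leaf 0xa0f0002))) (.node 8464 (.leaf 0x0) (.node 8465 (.leaf 0x200000202090000000703040103000e) (.leaf 0x0))))) (.node 8472 (.node 8469 (.node 8467 (.leaf 0xf0b0b0003) (.node 8468 (.leaf 0x0) (.leaf 0x2113))) (.node 8470 (.leaf 0xf0b0002) (.node 8471 (.leaf 0x0) (.leaf 0x704020106060006)))) (.node 8475 (.node 8473 (.leaf 0x0) (.node 8474 (.leaf 0xe0a0002) (.leaf 0x80002020900000007))) (.node 8476 (.leaf 0x0) (.node 8477 (.leaf 0x0) (.leaf 0x207090806000802040105000b))))))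

def argWS_745 : Store := (.node 8455 argWS_743 argWS_744)

def argWS_746 : Store := (.node 8433 argWS_742 argWS_745)

def argWS_747 : Store := (.node 8388 argWS_739 argWS_746)

def argWS_748 : Store := (.node 8489 (.node 8483 (.node 8480 (.node 8479 (.leaf 0x0) (.leaf 0xf0a0002)) (.node 8481 (.leaf 0x0) (.node 8482 (.leaf 0x212000211c) (.leaf 0xd0001)))) (.node 8486 (.node 8484 (.leaf 0x0) (.node 8485 (.leaf 0x0) (.leaf 0xf0b0b0a0004))) (.node 8487 (.leaf 0x40102010606000703040103000c) (.node 8488 (.leaf 0x0) (.leaf 0xf0b0a0003))))) (.node 8494 (.node 8491 (.node 8490 (.leaf 0x0) (.leaf 0x105080003)) (.node 8492 (.leaf 0x0) (.node 8493 (.leaf 0x0) (.leaf 0xbc000212c)))) (.node 8497 (.node 8495 (.leaf 0xf0001) (.node 8496 (.leaf 0x0) (.leaf 0xe0a0a0003))) (.node 8498 (.leaf 0x0) (.node 8499 (.leaf 0x0) (.leaf 0xe0001))))))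

def argWS_749 : Store := (.node 8511 (.node 8505 (.node 8502 (.node 8501 (.leaf 0x30301010200000703040103000d) (.leaf 0x0)) (.node 8503 (.leaf 0xf0b0b0a0a0005) (.node 8504 (.leaf 0x0) (.leaf 0x2137)))) (.node 8508 (.node 8506 (.leaf 0xf0a0002) (.node 8507 (.leaf 0x0) (.leaf 0x0))) (.node 8509 (.leaf 0xf0b0002) (.node 8510 (.leaf 0x90401050004) (.leaf 0x0))))) (.node 8517 (.node 8514 (.node 8512 (.leaf 0xe0a0002) (.node 8513 (.leaf 0x0) (.leaf 0x214000213c))) (.node 8515 (.leaf 0xf0001) (.node 8516 (.leaf 0x0) (.leaf 0x4010900090202000701000a)))) (.node 8520 (.node 8518 (.leaf 0x0) (.node 8519 (.leaf 0x30406030500040007) (.leaf 0x0))) (.node 8521 (.leaf 0xb0a0002) (.node 8522 (.leaf 0x0) (.leaf 0x10707000903000703040103000c))))))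

def argWS_750 : Store := (.node 8500 argWS_748 argWS_749)

def argWS_751 : Store := (.node 8534 (.node 8528 (.node 8525 (.node 8524 (.leaf 0x0) (.leaf 0xe0d0002)) (.node 8526 (.leaf 0x0) (.node 8527 (.leaf 0x9bf00214d) (.leaf 0xb0f0a0003)))) (.node 8531 (.node 8529 (.leaf 0x0) (.node 8530 (.leaf 0x90600020804000202000701000c) (.leaf 0x0))) (.node 8532 (.leaf 0xf0001) (.node 8533 (.leaf 0xa0a0002) (.leaf 0xf0b0b0003))))) (.node 8539 (.node 8536 (.node 8535 (.leaf 0x2155) (.leaf 0x0)) (.node 8537 (.leaf 0x700000004080703040103000b) (.node 8538 (.leaf 0x0) (.leaf 0xa0f0b0b0004)))) (.node 8542 (.node 8540 (.leaf 0x907070009030006) (.node 8541 (.leaf 0x0) (.leaf 0xf0001))) (.node 8543 (.leaf 0x0) (.node 8544 (.leaf 0xd0b0b0003) (.leaf 0x90306030500040007))))))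

def argWS_752 : Store := (.node 8556 (.node 8550 (.node 8547 (.node 8546 (.leaf 0x0) (.leaf 0xe0a0a0003)) (.node 8548 (.leaf 0x0) (.node 8549 (.leaf 0x216300215f) (.leaf 0x6030500040005)))) (.node 8553 (.node 8551 (.leaf 0x0) (.node 8552 (.leaf 0xb0a0a0003) (.leaf 0x0))) (.node 8554 (.leaf 0x6040106020702010202000701000d) (.node 8555 (.leaf 0x0) (.leaf 0xb0b0a0003))))) (.node 8562 (.node 8559 (.node 8557 (.leaf 0xf0a0002) (.node 8558 (.leaf 0x102000003010802040105000b) (.leaf 0x0))) (.node 8560 (.leaf 0xb0f0002) (.node 8561 (.leaf 0x0) (.leaf 0x2170)))) (.node 8565 (.node 8563 (.leaf 0x6010202010606000703040103000d) (.node 8564 (.leaf 0x0) (.leaf 0xd0b0b0003))) (.node 8566 (.leaf 0x0) (.node 8567 (.leaf 0xf0b0002) (.leaf 0x0))))))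

def argWS_753 : Store := (.node 8545 argWS_751 argWS_752)

def argWS_754 : Store := (.node 8523 argWS_750 argWS_753)

def argWS_755 : Store := (.node 8579 (.node 8573 (.node 8570 (.node 8569 (.leaf 0x0) (.leaf 0x90600090206020202000701000c)) (.node 8571 (.leaf 0x0) (.node 8572 (.leaf 0x0) (.leaf 0x90102000003010007)))) (.node 8576 (.node 8574 (.leaf 0x0) (.node 8575 (.leaf 0xb0f0a0a0004) (.leaf 0x0))) (.node 8577 (.leaf 0x217f00217b) (.node 8578 (.leaf 0x20709080600000703040103000c) (.leaf 0x0))))) (.node 8584 (.node 8581 (.node 8580 (.leaf 0xd0b0b0003) (.leaf 0x0)) (.node 8582 (.leaf 0xe0a0002) (.node 8583 (.leaf 0x0) (.leaf 0x0)))) (.node 8587 (.node 8585 (.leaf 0x20103010904020802040105000c) (.node 8586 (.leaf 0x0) (.leaf 0x0))) (.node 8588 (.leaf 0x8020002020007010008) (.node 8589 (.leaf 0x0) (.leaf 0xf0a0002))))))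

def argWS_756 : Store := (.node 8601 (.node 8595 (.node 8592 (.node 8591 (.leaf 0x0) (.leaf 0x218e00218a)) (.node 8593 (.leaf 0xb0b0a0a0004) (.node 8594 (.leaf 0x0) (.leaf 0x403050206040202000701000b)))) (.node 8598 (.node 8596 (.leaf 0x0) (.node 8597 (.leaf 0xe0a0a0003) (.leaf 0xf0b0b0003))) (.node 8599 (.leaf 0x8030007020902000703040103000d) (.node 8600 (.leaf 0x0) (.leaf 0xb0f0a0a0004))))) (.node 8607 (.node 8604 (.node 8602 (.leaf 0x0) (.node 8603 (.leaf 0x600000300000202000701000c) (.leaf 0x0))) (.node 8605 (.leaf 0xf0b0b0003) (.node 8606 (.leaf 0x0) (.leaf 0x219d002199)))) (.node 8610 (.node 8608 (.leaf 0xf0b0b0003) (.node 8609 (.leaf 0x0) (.leaf 0x403000400050202000701000b))) (.node 8611 (.leaf 0x0) (.node 8612 (.leaf 0xf0b0b0a0004) (.leaf 0x6040000030306040008))))))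

def argWS_757 : Store := (.node 8590 argWS_755 argWS_756)

def argWS_758 : Store := (.node 8624 (.node 8618 (.node 8615 (.node 8614 (.leaf 0x0) (.leaf 0xb0001)) (.node 8616 (.leaf 0x0) (.node 8617 (.leaf 0x7000703060202000701000a) (.leaf 0x0)))) (.node 8621 (.node 8619 (.leaf 0xd0b0002) (.node 8620 (.leaf 0x0) (.leaf 0x21ab))) (.node 8622 (.leaf 0xa0f0b0003) (.node 8623 (.leaf 0x0) (.leaf 0x6010206010500020802040105000d))))) (.node 8630 (.node 8627 (.node 8625 (.leaf 0x0) (.node 8626 (.leaf 0xf0b0b0a0a0005) (.leaf 0x2090109080600000703040103000d))) (.node 8628 (.leaf 0x0) (.node 8629 (.leaf 0x0) (.leaf 0x104010703060006)))) (.node 8633 (.node 8631 (.leaf 0x0) (.node 8632 (.leaf 0xb0f0a0a0004) (.leaf 0x0))) (.node 8634 (.leaf 0x705010703060202000701000b) (.node 8635 (.leaf 0x0) (.leaf 0x0))))))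

def argWS_759 : Store := (.node 8647 (.node 8641 (.node 8638 (.node 8637 (.leaf 0x21bb0021b8) (.leaf 0xf0001)) (.node 8639 (.leaf 0x0) (.node 8640 (.leaf 0x50201070206000007) (.leaf 0x0)))) (.node 8644 (.node 8642 (.leaf 0xf0a0a0003) (.node 8643 (.leaf 0x702020900000802040105000c) (.leaf 0x0))) (.node 8645 (.leaf 0x0) (.node 8646 (.leaf 0x8000400020804000008) (.leaf 0x0))))) (.node 8653 (.node 8650 (.node 8648 (.leaf 0xf0b0a0003) (.node 8649 (.leaf 0x0) (.leaf 0x21c80021c4))) (.node 8651 (.leaf 0xe0d0002) (.node 8652 (.leaf 0x0) (.leaf 0xf0b0b0a0004)))) (.node 8656 (.node 8654 (.leaf 0xb0b0a0a0004) (.node 8655 (.leaf 0x0) (.leaf 0x205020400050202000701000b))) (.node 8657 (.leaf 0x0) (.node 8658 (.leaf 0x0) (.leaf 0x21d10007e0))))))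

def argWS_760 : Store := (.node 8636 argWS_758 argWS_759)

def argWS_761 : Store := (.node 8613 argWS_757 argWS_760)

def argWS_762 : Store := (.node 8568 argWS_754 argWS_761)

def argWS_763 : Store := (.node 8478 argWS_747 argWS_762)

def argWS_764 : Store := (.node 8298 argWS_732 argWS_763)

def argWS_765 : Store := (.node 7937 argWS_701 argWS_764)

def argWS_766 : Store := (.node 7216 argWS_638 argWS_765)

def argWS_767 : Store := (.node 8670 (.node 8664 (.node 8661 (.node 8660 (.leaf 0xf0a0002) (.leaf 0x0)) (.node 8662 (.leaf 0x0) (.node 8663 (.leaf 0xb0b0002) (.leaf 0x103000900090006)))) (.node 8667 (.node 8665 (.leaf 0x0) (.node 8666 (.leaf 0xd0001) (.leaf 0x0))) (.node 8668 (.leaf 0x40000030306040802040105000d) (.node 8669 (.leaf 0x0) (.leaf 0xb0a0a0003))))) (.node 8675 (.node 8672 (.node 8671 (.leaf 0x0) (.leaf 0x21de)) (.node 8673 (.leaf 0xf0b0a0003) (.node 8674 (.leaf 0x0) (.leaf 0xf0b0a0a0004)))) (.node 8678 (.node 8676 (.leaf 0x0) (.node 8677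 (.leaf 0x0) (.leaf 0xf0b0b0003))) (.node 8679 (.leaf 0x30403070209020202000701000c) (.node 8680 (.leaf 0x0) (.leaf 0x0))))))

def argWS_768 : Store := (.node 8692 (.node 8686 (.node 8683 (.node 8682 (.leaf 0x21e8) (.leaf 0x200020603000703040103000b)) (.node 8684 (.leaf 0x0) (.node 8685 (.leaf 0xe0a0a0003) (.leaf 0x0)))) (.node 8689 (.node 8687 (.leaf 0xb0001) (.node 8688 (.leaf 0x0) (.leaf 0x0))) (.node 8690 (.leaf 0xb0f0002) (.node 8691 (.leaf 0x60000070206000202000701000c) (.leaf 0x0))))) (.node 8698 (.node 8695 (.node 8693 (.leaf 0xa0f0b0003) (.node 8694 (.leaf 0x0) (.leaf 0x105020003030604000703040103000e))) (.node 8696 (.leaf 0x0) (.node 8697 (.leaf 0xb0b0a0003) (.leaf 0x0)))) (.node 8701 (.node 8699 (.leaf 0x21f90021f5) (.node 8700 (.leaf 0x601090000090802040105000b) (.leaf 0x0))) (.node 8702 (.leaf 0xf0b0a0a0004) (.node 8703 (.leaf 0x0) (.leaf 0xe0a0a0003))))))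

def argWS_769 : Store := (.node 8681 argWS_767 argWS_768)

def argWS_770 : Store := (.node 8715 (.node 8709 (.node 8706 (.node 8705 (.leaf 0x0) (.leaf 0x0)) (.node 8707 (.leaf 0xa0f0b0b0004) (.node 8708 (.leaf 0x200090806000802040105000c) (.leaf 0x0)))) (.node 8712 (.node 8710 (.leaf 0xe0a0a0003) (.node 8711 (.leaf 0x0) (.leaf 0x8000901090005))) (.node 8713 (.leaf 0x0) (.node 8714 (.leaf 0x0) (.leaf 0x2209002206))))) (.node 8720 (.node 8717 (.node 8716 (.leaf 0xa0f0b0003) (.leaf 0x0)) (.node 8718 (.leaf 0x9040002080400000703040103000d) (.node 8719 (.leaf 0x0) (.leaf 0xf0a0a0003)))) (.node 8723 (.node 8721 (.leaf 0x7010703060202000701000a) (.node 8722 (.leaf 0x0) (.leaf 0xf0b0002))) (.node 8724 (.leaf 0x0) (.node 8725 (.leaf 0x901050206040202000701000b) (.leaf 0x0))))))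

def argWS_771 : Store := (.node 8737 (.node 8731 (.node 8728 (.node 8727 (.leaf 0xb0f0002) (.leaf 0x0)) (.node 8729 (.leaf 0x2217) (.node 8730 (.leaf 0x700020804000802040105000c) (.leaf 0x0)))) (.node 8734 (.node 8732 (.leaf 0xb0b0a0003) (.node 8733 (.leaf 0x0) (.leaf 0x402020102020007010009))) (.node 8735 (.leaf 0x0) (.node 8736 (.leaf 0xa0f0b0b0004) (.leaf 0x70402000003010007))))) (.node 8743 (.node 8740 (.node 8738 (.leaf 0x0) (.node 8739 (.leaf 0x0) (.leaf 0x8000904020802040105000a))) (.node 8741 (.leaf 0x0) (.node 8742 (.leaf 0xf0a0002) (.leaf 0x0)))) (.node 8746 (.node 8744 (.leaf 0x2226002222) (.node 8745 (.leaf 0x400050206040007) (.leaf 0x0))) (.node 8747 (.leaf 0xf0b0a0a0004) (.node 8748 (.leaf 0x0) (.leaf 0x900070209020006))))))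

def argWS_772 : Store := (.node 8726 argWS_770 argWS_771)

def argWS_773 : Store := (.node 8704 argWS_769 argWS_772)

def argWS_774 : Store := (.node 8760 (.node 8754 (.node 8751 (.node 8750 (.leaf 0x0) (.leaf 0xd0001)) (.node 8752 (.leaf 0x20900020804000007) (.node 8753 (.leaf 0x0) (.leaf 0xf0b0a0a0004)))) (.node 8757 (.node 8755 (.leaf 0x0) (.node 8756 (.leaf 0x2232000350) (.leaf 0x80000040005000703040103000c))) (.node 8758 (.leaf 0x0) (.node 8759 (.leaf 0xb0a0002) (.leaf 0x0))))) (.node 8765 (.node 8762 (.node 8761 (.leaf 0xb0f0002) (.leaf 0x0)) (.node 8763 (.leaf 0x0) (.node 8764 (.leaf 0xd0b0b0003) (.leaf 0x10902020007010007)))) (.node 8768 (.node 8766 (.leaf 0x0) (.node 8767 (.leaf 0xb0a0a0003) (.leaf 0x0))) (.node 8769 (.leaf 0x223f) (.node 8770 (.leaf 0xe0001) (.leaf 0x0))))))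

def argWS_775 : Store := (.node 8782 (.node 8776 (.node 8773 (.node 8772 (.leaf 0x6040102010606000703040103000d) (.leaf 0x0)) (.node 8774 (.leaf 0xe0d0002) (.node 8775 (.leaf 0x1020105020202010008) (.leaf 0x0)))) (.node 8779 (.node 8777 (.leaf 0xf0a0a0003) (.node 8778 (.leaf 0x0) (.leaf 0x10400050202020703040103000c))) (.node 8780 (.leaf 0x0) (.node 8781 (.leaf 0xf0a0002) (.leaf 0x0))))) (.node 8788 (.node 8785 (.node 8783 (.leaf 0x224d002249) (.node 8784 (.leaf 0xb0f0a0a0004) (.leaf 0x0))) (.node 8786 (.leaf 0x501010908050202000701000b) (.node 8787 (.leaf 0x0) (.leaf 0xe0a0002)))) (.node 8791 (.node 8789 (.leaf 0xa0f0002) (.node 8790 (.leaf 0x20207020600000703040103000c) (.leaf 0x0))) (.node 8792 (.leaf 0x0) (.node 8793 (.leaf 0x2257) (.leaf 0xb0b0a0a0004))))))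

def argWS_776 : Store := (.node 8771 argWS_774 argWS_775)

def argWS_777 : Store := (.node 8805 (.node 8799 (.node 8796 (.node 8795 (.leaf 0x0) (.leaf 0xb0b0002)) (.node 8797 (.leaf 0x0) (.node 8798 (.leaf 0x0) (.leaf 0xb0b0a0a0004)))) (.node 8802 (.node 8800 (.leaf 0x20401090806000202000701000c) (.node 8801 (.leaf 0x0) (.leaf 0xb0a0a0003))) (.node 8803 (.leaf 0x0) (.node 8804 (.leaf 0xf0001) (.leaf 0x2263002262))))) (.node 8810 (.node 8807 (.node 8806 (.leaf 0x20403050206040007) (.leaf 0x0)) (.node 8808 (.leaf 0xe0d0002) (.node 8809 (.leaf 0x0) (.leaf 0x9020108020401050008)))) (.node 8813 (.node 8811 (.leaf 0x0) (.node 8812 (.leaf 0xb0a0f0003) (.leaf 0x6000000020804000008))) (.node 8814 (.leaf 0x0) (.node 8815 (.leaf 0xd0b0002) (.leaf 0x0))))))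

def argWS_778 : Store := (.node 8827 (.node 8821 (.node 8818 (.node 8817 (.leaf 0xe0001) (.leaf 0xe1f002270)) (.node 8819 (.leaf 0xb0001) (.node 8820 (.leaf 0x0) (.leaf 0x905020007010006)))) (.node 8824 (.node 8822 (.leaf 0x0) (.node 8823 (.leaf 0xb0b0a0a0004) (.leaf 0x7050601050002000703040103000d))) (.node 8825 (.leaf 0x0) (.node 8826 (.leaf 0xf0b0002) (.leaf 0x0))))) (.node 8833 (.node 8830 (.node 8828 (.leaf 0xe0d0002) (.node 8829 (.leaf 0x227b) (.leaf 0xa0f0002))) (.node 8831 (.leaf 0x0) (.node 8832 (.leaf 0x701010900090202000701000b) (.leaf 0x0)))) (.node 8836 (.node 8834 (.leaf 0xb0a0f0003) (.node 8835 (.leaf 0x50200070206000802040105000c) (.leaf 0x0))) (.node 8837 (.leaf 0xf0b0a0a0004) (.node 8838 (.leaf 0x0) (.leaf 0xa0f0b0003))))))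

def argWS_779 : Store := (.node 8816 argWS_777 argWS_778)

def argWS_780 : Store := (.node 8794 argWS_776 argWS_779)

def argWS_781 : Store := (.node 8749 argWS_773 argWS_780)

def argWS_782 : Store := (.node 8850 (.node 8844 (.node 8841 (.node 8840 (.leaf 0x2286) (.leaf 0xe0a0002)) (.node 8842 (.leaf 0x0) (.node 8843 (.leaf 0xd0001) (.leaf 0x0)))) (.node 8847 (.node 8845 (.leaf 0x0) (.node 8846 (.leaf 0x407020007010006) (.leaf 0x0))) (.node 8848 (.leaf 0xe0a0002) (.node 8849 (.leaf 0x0) (.leaf 0xf0001))))) (.node 8855 (.node 8852 (.node 8851 (.leaf 0x2291002290) (.leaf 0x10903050206040802040105000c)) (.node 8853 (.leaf 0x0) (.node 8854 (.leaf 0xe0a0002) (.leaf 0x0)))) (.node 8858 (.node 8856 (.leaf 0xf0b0002) (.node 8857 (.leaf 0x0) (.leaf 0x0))) (.node 8859 (.leaf 0x105020401050006) (.node 8860 (.leaf 0x0) (.leaf 0xf0b0002))))))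

def argWS_783 : Store := (.node 8872 (.node 8866 (.node 8863 (.node 8862 (.leaf 0x0) (.leaf 0x10300050206040007)) (.node 8864 (.leaf 0x0) (.node 8865 (.leaf 0x0) (.leaf 0x22a000099f)))) (.node 8869 (.node 8867 (.leaf 0xd0b0b0003) (.node 8868 (.leaf 0x0) (.leaf 0x306030500040006))) (.node 8870 (.leaf 0x0) (.node 8871 (.leaf 0xa0f0b0003) (.leaf 0x20002020106060007))))) (.node 8878 (.node 8875 (.node 8873 (.leaf 0x0) (.node 8874 (.leaf 0x0) (.leaf 0xf0b0a0003))) (.node 8876 (.leaf 0x22aa0022a9) (.node 8877 (.leaf 0xd0001) (.leaf 0x0)))) (.node 8881 (.node 8879 (.leaf 0x0) (.node 8880 (.leaf 0x902010206020007010009) (.leaf 0x0))) (.node 8882 (.leaf 0xb0f0a0a0004) (.node 8883 (.leaf 0x0) (.leaf 0x600090806000007))))))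

def argWS_784 : Store := (.node 8861 argWS_782 argWS_783)

def argWS_785 : Store := (.node 8895 (.node 8889 (.node 8886 (.node 8885 (.leaf 0x0) (.leaf 0xd0b0b0003)) (.node 8887 (.leaf 0x0) (.node 8888 (.leaf 0x22670022b6) (.leaf 0xd0001)))) (.node 8892 (.node 8890 (.leaf 0x0) (.node 8891 (.leaf 0xb0a0a0003) (.leaf 0x0))) (.node 8893 (.leaf 0x0) (.node 8894 (.leaf 0x2000006010500020008) (.leaf 0x0))))) (.node 8900 (.node 8897 (.node 8896 (.leaf 0xb0a0002) (.leaf 0x0)) (.node 8898 (.leaf 0x101010904020802040105000b) (.node 8899 (.leaf 0x0) (.leaf 0xa0001)))) (.node 8903 (.node 8901 (.leaf 0x0) (.node 8902 (.leaf 0x22c4001795) (.leaf 0x7010408010005))) (.node 8904 (.leaf 0x0) (.node 8905 (.leaf 0xb0001) (.leaf 0x0))))))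

def argWS_786 : Store := (.node 8917 (.node 8911 (.node 8908 (.node 8907 (.leaf 0xf0a0002) (.leaf 0x0)) (.node 8909 (.leaf 0x0) (.node 8910 (.leaf 0x501070209020802040105000b) (.leaf 0x0)))) (.node 8914 (.node 8912 (.leaf 0x0) (.node 8913 (.leaf 0x2060103080202000701000a) (.leaf 0x0))) (.node 8915 (.leaf 0x0) (.node 8916 (.leaf 0x22d20022cf) (.leaf 0x1020101070306000703040103000d))))) (.node 8923 (.node 8920 (.node 8918 (.leaf 0x0) (.node 8919 (.leaf 0xb0f0002) (.leaf 0x0))) (.node 8921 (.leaf 0x2000200000300000008) (.node 8922 (.leaf 0x0) (.leaf 0xd0001)))) (.node 8926 (.node 8924 (.leaf 0xb0a0002) (.node 8925 (.leaf 0xf0001) (.leaf 0x7030401030006))) (.node 8927 (.leaf 0x0) (.node 8928 (.leaf 0x0) (.leaf 0x60309020602000703040103000c))))))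

def argWS_787 : Store := (.node 8906 argWS_785 argWS_786)

def argWS_788 : Store := (.node 8884 argWS_784 argWS_787)

def argWS_789 : Store := (.node 8940 (.node 8934 (.node 8931 (.node 8930 (.leaf 0x0) (.leaf 0xf0b0b0a0004)) (.node 8932 (.leaf 0x0) (.node 8933 (.leaf 0x22e30022df) (.leaf 0x40205050206040802040105000c)))) (.node 8937 (.node 8935 (.leaf 0x0) (.node 8936 (.leaf 0xa0f0002) (.leaf 0x0))) (.node 8938 (.leaf 0x301020106060006) (.node 8939 (.leaf 0x0) (.leaf 0xf0b0b0003))))) (.node 8945 (.node 8942 (.node 8941 (.leaf 0x3000002020007010009) (.leaf 0x0)) (.node 8943 (.leaf 0xb0a0002) (.node 8944 (.leaf 0x0) (.leaf 0x20007030401030008)))) (.node 8948 (.node 8946 (.leaf 0x0) (.node 8947 (.leaf 0x0) (.leaf 0x22f20022ef))) (.node 8949 (.leaf 0x4000400090206020802040105000d) (.node 8950 (.leaf 0x0) (.leaf 0xd0b0002))))))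

def argWS_790 : Store := (.node 8962 (.node 8956 (.node 8953 (.node 8952 (.leaf 0x0) (.leaf 0x30401070209020007)) (.node 8954 (.leaf 0x0) (.node 8955 (.leaf 0xb0001) (.leaf 0x2090303010102000202000701000d)))) (.node 8959 (.node 8957 (.leaf 0x0) (.node 8958 (.leaf 0xe0001) (.leaf 0x0))) (.node 8960 (.leaf 0x20002020007010007) (.node 8961 (.leaf 0x0) (.leaf 0xd0b0b0003))))) (.node 8968 (.node 8965 (.node 8963 (.leaf 0x0) (.node 8964 (.leaf 0x4000300020804000008) (.leaf 0x0))) (.node 8966 (.leaf 0xf0b0002) (.node 8967 (.leaf 0x0) (.leaf 0x2306002302)))) (.node 8971 (.node 8969 (.leaf 0xb0f0a0a0004) (.node 8970 (.leaf 0x0) (.leaf 0x3050002080400000703040103000d))) (.node 8972 (.leaf 0x0) (.node 8973 (.leaf 0xf0a0a0003) (.leaf 0xa0f0b0b0004))))))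

def argWS_791 : Store := (.node 8951 argWS_789 argWS_790)

def argWS_792 : Store := (.node 8985 (.node 8979 (.node 8976 (.node 8975 (.leaf 0xb0a0002) (.leaf 0xb0f0a0003)) (.node 8977 (.leaf 0x230f00230e) (.node 8978 (.leaf 0x70102000003010802040105000c) (.leaf 0x0)))) (.node 8982 (.node 8980 (.leaf 0xf0001) (.node 8981 (.leaf 0x0) (.leaf 0x0))) (.node 8983 (.leaf 0x0) (.node 8984 (.leaf 0x702060008020401050009) (.leaf 0x9050306030500040008))))) (.node 8990 (.node 8987 (.node 8986 (.leaf 0x0) (.leaf 0x4040002)) (.node 8988 (.leaf 0x0) (.node 8989 (.leaf 0x4040002) (.leaf 0x0)))) (.node 8993 (.node 8991 (.leaf 0x5090000090802040105000a) (.node 8992 (.leaf 0x0) (.leaf 0x4040002))) (.node 8994 (.leaf 0x0) (.node 8995 (.leaf 0x9050306030500040008) (.leaf 0x0))))))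

def argWS_793 : Store := (.node 9007 (.node 9001 (.node 8998 (.node 8997 (.leaf 0x4090000090802040105000a) (.leaf 0x0)) (.node 8999 (.leaf 0x600070306000703040103000b) (.node 9000 (.leaf 0x0) (.leaf 0xb0b0002)))) (.node 9004 (.node 9002 (.leaf 0x202020003) (.node 9003 (.leaf 0x0) (.leaf 0xa0f0002))) (.node 9005 (.leaf 0x202000003010802040105000c) (.node 9006 (.leaf 0x0) (.leaf 0xb0b0a0a0004))))) (.node 9013 (.node 9010 (.node 9008 (.leaf 0x6050105020604000703040103000d) (.node 9009 (.leaf 0x0) (.leaf 0xb0a0a0003))) (.node 9011 (.leaf 0xf0b0b0a0a0005) (.node 9012 (.leaf 0x1030009000009000703040103000d) (.leaf 0x0)))) (.node 9016 (.node 9014 (.leaf 0xf0b0b0a0004) (.node 9015 (.leaf 0x400030009020602000703040103000e) (.leaf 0x0))) (.node 9017 (.leaf 0xe0d0002) (.node 9018 (.leaf 0x2020202010005) (.leaf 0x0))))))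

def argWS_794 : Store := (.node 8996 argWS_792 argWS_793)

def argWS_795 : Store := (.node 8974 argWS_791 argWS_794)

def argWS_796 : Store := (.node 8929 argWS_788 argWS_795)

def argWS_797 : Store := (.node 8839 argWS_781 argWS_796)

def argWS_798 : Store := (.node 9030 (.node 9024 (.node 9021 (.node 9020 (.leaf 0xa0f0b0003) (.leaf 0x9070202090000000703040103000d)) (.node 9022 (.leaf 0x0) (.node 9023 (.leaf 0xb0f0a0a0004) (.leaf 0x300000003)))) (.node 9027 (.node 9025 (.leaf 0x0) (.node 9026 (.leaf 0xf0b0b0003) (.leaf 0x0))) (.node 9028 (.leaf 0xb0f0a0003) (.node 9029 (.leaf 0x6020106030500040008) (.leaf 0x0))))) (.node 9035 (.node 9032 (.node 9031 (.leaf 0xa0a0002) (.leaf 0x0)) (.node 9033 (.leaf 0x6020002020900000802040105000d) (.node 9034 (.leaf 0x0) (.leaf 0xb0b0a0003)))) (.node 9038 (.node 9036 (.leaf 0x0) (.node 9037 (.leaf 0xa0f0b0003) (.leaf 0x20202090806000802040105000c))) (.node 9039 (.leaf 0x0) (.node 9040 (.leaf 0xb0f0a0003) (.leaf 0x0))))))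

def argWS_799 : Store := (.node 9052 (.node 9046 (.node 9043 (.node 9042 (.leaf 0x235000234c) (.leaf 0x0)) (.node 9044 (.leaf 0x8000601050002000703040103000e) (.node 9045 (.leaf 0x0) (.leaf 0xb0a0f0003)))) (.node 9049 (.node 9047 (.leaf 0xf0a0002) (.node 9048 (.leaf 0xb0b0002) (.leaf 0xf0b0b0a0a0005))) (.node 9050 (.leaf 0xf0b0a0003) (.node 9051 (.leaf 0x9070000020804000202000701000d) (.leaf 0xf0b0002))))) (.node 9058 (.node 9055 (.node 9053 (.leaf 0xd0001) (.node 9054 (.leaf 0x20903070209020202000701000c) (.leaf 0x0))) (.node 9056 (.leaf 0x0) (.node 9057 (.leaf 0x80101070209020802040105000c) (.leaf 0x0)))) (.node 9061 (.node 9059 (.leaf 0x0) (.node 9060 (.leaf 0x236200235f) (.leaf 0x304090000090202000701000b))) (.node 9062 (.leaf 0x0) (.node 9063 (.leaf 0xb0b0a0003) (.leaf 0x0))))))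

def argWS_800 : Store := (.node 9041 argWS_798 argWS_799)

def argWS_801 : Store := (.node 9075 (.node 9069 (.node 9066 (.node 9065 (.leaf 0xa0f0b0003) (.leaf 0x0)) (.node 9067 (.leaf 0x0) (.node 9068 (.leaf 0xe0001) (.leaf 0x20600090206020007)))) (.node 9072 (.node 9070 (.leaf 0x0) (.node 9071 (.leaf 0xf0b0b0a0a0005) (.leaf 0x0))) (.node 9073 (.leaf 0x236f00236b) (.node 9074 (.leaf 0x20804000802040105000c) (.leaf 0x0))))) (.node 9080 (.node 9077 (.node 9076 (.leaf 0xb0a0a0003) (.leaf 0x0)) (.node 9078 (.leaf 0x50301090805000703040103000c) (.node 9079 (.leaf 0x0) (.leaf 0xb0b0a0a0004)))) (.node 9083 (.node 9081 (.leaf 0xe0001) (.node 9082 (.leaf 0x10201050202020703040103000c) (.leaf 0x0))) (.node 9084 (.leaf 0x0) (.node 9085 (.leaf 0xf0b0b0003) (.leaf 0x237c00237b))))))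

def argWS_802 : Store := (.node 9097 (.node 9091 (.node 9088 (.node 9087 (.leaf 0x40400090206020802040105000c) (.leaf 0x0)) (.node 9089 (.leaf 0xa0f0b0003) (.node 9090 (.leaf 0x0) (.leaf 0x8000400020804000202000701000d)))) (.node 9094 (.node 9092 (.leaf 0x0) (.node 9093 (.leaf 0xb0b0a0003) (.leaf 0xb0a0002))) (.node 9095 (.leaf 0x400000003010006) (.node 9096 (.leaf 0x0) (.leaf 0xb0001))))) (.node 9103 (.node 9100 (.node 9098 (.leaf 0x0) (.node 9099 (.leaf 0x1f24002389) (.leaf 0x9020007010005))) (.node 9101 (.leaf 0x0) (.node 9102 (.leaf 0xe0001) (.leaf 0x0)))) (.node 9106 (.node 9104 (.leaf 0x0) (.node 9105 (.leaf 0x0) (.leaf 0x60301050202020703040103000c))) (.node 9107 (.leaf 0x2000200090206020202000701000d) (.node 9108 (.leaf 0x0) (.leaf 0x4040002))))))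

def argWS_803 : Store := (.node 9086 argWS_801 argWS_802)

def argWS_804 : Store := (.node 9064 argWS_800 argWS_803)

def argWS_805 : Store := (.node 9120 (.node 9114 (.node 9111 (.node 9110 (.leaf 0x0) (.leaf 0x2000200090206020202000701000d)) (.node 9112 (.leaf 0x0) (.node 9113 (.leaf 0x4040002) (.leaf 0x0)))) (.node 9117 (.node 9115 (.leaf 0x2000200090206020202000701000d) (.node 9116 (.leaf 0x0) (.leaf 0x4040002))) (.node 9118 (.leaf 0x0) (.node 9119 (.leaf 0x2000200090206020202000701000d) (.leaf 0x0))))) (.node 9125 (.node 9122 (.node 9121 (.leaf 0x9070202090000000703040103000d) (.leaf 0x0)) (.node 9123 (.leaf 0xb0f0a0003) (.node 9124 (.leaf 0xa0f0b0003) (.leaf 0x600070306000703040103000b)))) (.node 9128 (.node 9126 (.leaf 0x0) (.node 9127 (.leaf 0xf0001) (.leaf 0x6050105020604000703040103000d))) (.node 9129 (.leaf 0x0) (.node 9130 (.leaf 0xa0f0002) (.leaf 0x200000300000006))))))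

def argWS_806 : Store := (.node 9142 (.node 9136 (.node 9133 (.node 9132 (.leaf 0x0) (.leaf 0xa0f0002)) (.node 9134 (.leaf 0x202000003010802040105000c) (.node 9135 (.leaf 0x0) (.leaf 0xf0b0002)))) (.node 9139 (.node 9137 (.leaf 0x202020003) (.node 9138 (.leaf 0x0) (.leaf 0xa0001))) (.node 9140 (.leaf 0x4000003) (.node 9141 (.leaf 0x0) (.leaf 0xe0001))))) (.node 9148 (.node 9145 (.node 9143 (.leaf 0x6000003) (.node 9144 (.leaf 0x0) (.leaf 0xb0b0a0a0004))) (.node 9146 (.leaf 0x2000006010500020802040105000d) (.node 9147 (.leaf 0x0) (.leaf 0xa0f0b0b0004)))) (.node 9151 (.node 9149 (.leaf 0x0) (.node 9150 (.leaf 0xf0a0a0003) (.leaf 0xb0a0f0003))) (.node 9152 (.leaf 0xf0001) (.node 9153 (.leaf 0xa0f0002) (.leaf 0x6010201020702000701000a))))))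

def argWS_807 : Store := (.node 9131 argWS_805 argWS_806)

def argWS_808 : Store := (.node 9165 (.node 9159 (.node 9156 (.node 9155 (.leaf 0x0) (.leaf 0xd0b0002)) (.node 9157 (.leaf 0x0) (.node 9158 (.leaf 0xf0001) (.leaf 0xa0f0b0003)))) (.node 9162 (.node 9160 (.leaf 0xa0f0002) (.node 9161 (.leaf 0xa0f0b0003) (.leaf 0xb0f0a0003))) (.node 9163 (.leaf 0xf0001) (.node 9164 (.leaf 0xd0001) (.leaf 0x9020106030500040202000701000d))))) (.node 9170 (.node 9167 (.node 9166 (.leaf 0x0) (.leaf 0x0)) (.node 9168 (.leaf 0x23ce) (.node 9169 (.leaf 0x200020804000802040105000b) (.leaf 0x0)))) (.node 9173 (.node 9171 (.leaf 0xb0a0002) (.node 9172 (.leaf 0x0) (.leaf 0x301010908050802040105000b))) (.node 9174 (.leaf 0x0) (.node 9175 (.leaf 0xf0b0a0a0004) (.leaf 0xd0001))))))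

def argWS_809 : Store := (.node 9187 (.node 9181 (.node 9178 (.node 9177 (.leaf 0xb0f0a0003) (.leaf 0x6000000030306040008)) (.node 9179 (.leaf 0x0) (.node 9180 (.leaf 0xf0b0b0a0a0005) (.leaf 0x0)))) (.node 9184 (.node 9182 (.leaf 0xe250023dc) (.node 9183 (.leaf 0x9050106060802040105000a) (.leaf 0x0))) (.node 9185 (.leaf 0xf0b0b0a0004) (.node 9186 (.leaf 0x0) (.leaf 0xf0b0b0003))))) (.node 9193 (.node 9190 (.node 9188 (.leaf 0x0) (.node 9189 (.leaf 0x0) (.leaf 0x906020702010006))) (.node 9191 (.leaf 0x0) (.node 9192 (.leaf 0xa0f0b0003) (.leaf 0x0)))) (.node 9196 (.node 9194 (.leaf 0x23e8) (.node 9195 (.leaf 0x10201070206000802040105000c) (.leaf 0x0))) (.node 9197 (.leaf 0xf0b0b0a0a0005) (.node 9198 (.leaf 0x0) (.leaf 0xf0b0a0a0004))))))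

def argWS_810 : Store := (.node 9176 argWS_808 argWS_809)

def argWS_811 : Store := (.node 9154 argWS_807 argWS_810)

def argWS_812 : Store := (.node 9109 argWS_804 argWS_811)

def argWS_813 : Store := (.node 9210 (.node 9204 (.node 9201 (.node 9200 (.leaf 0x0) (.leaf 0x0)) (.node 9202 (.leaf 0x50306030500040802040105000d) (.node 9203 (.leaf 0x0) (.leaf 0xe0a0a0003)))) (.node 9207 (.node 9205 (.leaf 0x0) (.node 9206 (.leaf 0xb0a0f0003) (.leaf 0xb0f0a0a0004))) (.node 9208 (.leaf 0xb0b0002) (.node 9209 (.leaf 0xf0b0002) (.leaf 0x40005020202010802040105000d))))) (.node 9215 (.node 9212 (.node 9211 (.leaf 0x0) (.leaf 0x0)) (.node 9213 (.leaf 0x23fb0023f8) (.node 9214 (.leaf 0xb0b0002) (.leaf 0x0)))) (.node 9218 (.node 9216 (.leaf 0xb0a0f0003) (.node 9217 (.leaf 0x0) (.leaf 0x0))) (.node 9219 (.leaf 0xd0b0002) (.node 9220 (.leaf 0x30406010500020007) (.leaf 0x0))))))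

def argWS_814 : Store := (.node 9232 (.node 9226 (.node 9223 (.node 9222 (.leaf 0xe0001) (.leaf 0x0)) (.node 9224 (.leaf 0x2406001d19) (.node 9225 (.leaf 0x5000000030306040008) (.leaf 0x0)))) (.node 9229 (.node 9227 (.leaf 0xb0b0a0003) (.node 9228 (.leaf 0x0) (.leaf 0x1030000090206020008))) (.node 9230 (.leaf 0x0) (.node 9231 (.leaf 0xb0f0a0003) (.leaf 0xa0f0b0b0004))))) (.node 9238 (.node 9235 (.node 9233 (.leaf 0x20900030306040007) (.node 9234 (.leaf 0x0) (.leaf 0x0))) (.node 9236 (.leaf 0x503090000090202000701000c) (.node 9237 (.leaf 0x0) (.leaf 0xa0f0b0b0004)))) (.node 9241 (.node 9239 (.leaf 0x0) (.node 9240 (.leaf 0xa0f0b0b0004) (.leaf 0x0))) (.node 9242 (.leaf 0x2418002416) (.node 9243 (.leaf 0x10705020604000703040103000c) (.leaf 0x0))))))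

def argWS_815 : Store := (.node 9221 argWS_813 argWS_814)

def argWS_816 : Store := (.node 9255 (.node 9249 (.node 9246 (.node 9245 (.leaf 0xa0a0002) (.leaf 0x0)) (.node 9247 (.leaf 0x0) (.node 9248 (.leaf 0x0) (.leaf 0x500020901060202000701000b)))) (.node 9252 (.node 9250 (.leaf 0x40001) (.node 9251 (.leaf 0x0) (.leaf 0x9010902020007010008))) (.node 9253 (.leaf 0x0) (.node 9254 (.leaf 0x2020900000802040105000a) (.leaf 0x0))))) (.node 9260 (.node 9257 (.node 9256 (.leaf 0x9010902020007010008) (.leaf 0x0)) (.node 9258 (.leaf 0x2020900000802040105000a) (.node 9259 (.leaf 0x0) (.leaf 0x2020900000802040105000a)))) (.node 9263 (.node 9261 (.leaf 0x0) (.node 9262 (.leaf 0x9010902020007010008) (.leaf 0x0))) (.node 9264 (.leaf 0x2020900000802040105000a) (.node 9265 (.leaf 0x0) (.leaf 0x2020900000802040105000a))))))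

def argWS_817 : Store := (.node 9277 (.node 9271 (.node 9268 (.node 9267 (.leaf 0x0) (.leaf 0x2020900000802040105000a)) (.node 9269 (.leaf 0x0) (.node 9270 (.leaf 0x509010902020007010009) (.leaf 0x0)))) (.node 9274 (.node 9272 (.leaf 0x905030000030000000703040103000e) (.node 9273 (.leaf 0x0) (.leaf 0x90206020005))) (.node 9275 (.leaf 0x0) (.node 9276 (.leaf 0x90503090000090007) (.leaf 0x0))))) (.node 9283 (.node 9280 (.node 9278 (.leaf 0x500090206020006) (.node 9279 (.leaf 0x0) (.leaf 0x500090206020006))) (.node 9281 (.leaf 0x0) (.node 9282 (.leaf 0x40400000300000007) (.leaf 0x0)))) (.node 9286 (.node 9284 (.leaf 0x90206020005) (.node 9285 (.leaf 0x0) (.leaf 0x90206020005))) (.node 9287 (.leaf 0x0) (.node 9288 (.leaf 0x900000908020401050009) (.leaf 0x0))))))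

def argWS_818 : Store := (.node 9266 argWS_816 argWS_817)

def argWS_819 : Store := (.node 9244 argWS_815 argWS_818)

def argWS_820 : Store := (.node 9300 (.node 9294 (.node 9291 (.node 9290 (.leaf 0x40400000300000007) (.leaf 0x0)) (.node 9292 (.leaf 0x5030802020007010008) (.node 9293 (.leaf 0x0) (.leaf 0x404060207020703040103000b)))) (.node 9297 (.node 9295 (.leaf 0x0) (.node 9296 (.leaf 0x905030901090802040105000b) (.leaf 0x0))) (.node 9298 (.leaf 0x509010902020007010009) (.node 9299 (.leaf 0x0) (.leaf 0x509010902020007010009))))) (.node 9305 (.node 9302 (.node 9301 (.leaf 0x0) (.leaf 0x90206020005)) (.node 9303 (.leaf 0x0) (.node 9304 (.leaf 0x5020202010202000701000a) (.leaf 0x0)))) (.node 9308 (.node 9306 (.leaf 0x4020000030703040103000a) (.node 9307 (.leaf 0x0) (.leaf 0x0))) (.node 9309 (.leaf 0x4090806000202000701000a) (.node 9310 (.leaf 0x0) (.leaf 0x5090806000202000701000a))))))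

def argWS_821 : Store := (.node 9322 (.node 9316 (.node 9313 (.node 9312 (.leaf 0x70802020007010007) (.leaf 0x0)) (.node 9314 (.leaf 0xf0a0002) (.node 9315 (.leaf 0x9050306010500020008) (.leaf 0x0)))) (.node 9319 (.node 9317 (.leaf 0x0) (.node 9318 (.leaf 0x5060207020703040103000a) (.leaf 0x102020003))) (.node 9320 (.leaf 0x0) (.node 9321 (.leaf 0xa0f0002) (.leaf 0x5090806000202000701000a))))) (.node 9328 (.node 9325 (.node 9323 (.leaf 0x0) (.node 9324 (.leaf 0x6000901090802040105000b) (.leaf 0x0))) (.node 9326 (.leaf 0xb0f0a0003) (.node 9327 (.leaf 0x103080003) (.leaf 0x0)))) (.node 9331 (.node 9329 (.leaf 0xa0f0002) (.node 9330 (.leaf 0x1030002) (.leaf 0x0))) (.node 9332 (.leaf 0xb0f0a0003) (.node 9333 (.leaf 0xa0001) (.leaf 0x10a1))))))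

def argWS_822 : Store := (.node 9311 argWS_820 argWS_821)

def argWS_823 : Store := (.node 9345 (.node 9339 (.node 9336 (.node 9335 (.leaf 0xe0a0002) (.leaf 0x0)) (.node 9337 (.leaf 0x0) (.node 9338 (.leaf 0xb0a0002) (.leaf 0xb0a0a0003)))) (.node 9342 (.node 9340 (.leaf 0x70406020702010007) (.node 9341 (.leaf 0x0) (.leaf 0xb0a0a0003))) (.node 9343 (.leaf 0x0) (.node 9344 (.leaf 0xb0a0a0003) (.leaf 0x247f00247e))))) (.node 9351 (.node 9348 (.node 9346 (.leaf 0xb0001) (.node 9347 (.leaf 0x0) (.leaf 0x10200020804000802040105000c))) (.node 9349 (.leaf 0x0) (.node 9350 (.leaf 0xf0b0002) (.leaf 0x6040105020202010202000701000d)))) (.node 9354 (.node 9352 (.leaf 0x0) (.node 9353 (.leaf 0xb0f0002) (.leaf 0x0))) (.node 9355 (.leaf 0xf0b0b0a0a0005) (.node 9356 (.leaf 0x248a) (.leaf 0x1020400050802040105000a))))))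

def argWS_824 : Store := (.node 9368 (.node 9362 (.node 9359 (.node 9358 (.leaf 0x0) (.leaf 0xf0a0a0003)) (.node 9360 (.leaf 0x0) (.node 9361 (.leaf 0x70002020007010007) (.leaf 0x0)))) (.node 9365 (.node 9363 (.leaf 0xe0001) (.node 9364 (.leaf 0xf0a0002) (.leaf 0x60102010603050004000703040103000f))) (.node 9366 (.leaf 0x0) (.node 9367 (.leaf 0x0) (.leaf 0xe0a0a0003))))) (.node 9374 (.node 9371 (.node 9369 (.leaf 0x10306030500040802040105000c) (.node 9370 (.leaf 0x0) (.leaf 0x0))) (.node 9372 (.leaf 0x1020101070306000703040103000d) (.node 9373 (.leaf 0x0) (.leaf 0xb0001)))) (.node 9377 (.node 9375 (.leaf 0x0) (.node 9376 (.leaf 0x249e00249a) (.leaf 0x304030308000703040103000b))) (.node 9378 (.leaf 0x0) (.node 9379 (.leaf 0x0) (.leaf 0x6050601050002000703040103000d))))))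

def argWS_825 : Store := (.node 9357 argWS_823 argWS_824)

def argWS_826 : Store := (.node 9334 argWS_822 argWS_825)

def argWS_827 : Store := (.node 9289 argWS_819 argWS_826)

def argWS_828 : Store := (.node 9199 argWS_812 argWS_827)

def argWS_829 : Store := (.node 9019 argWS_797 argWS_828)

def argWS_830 : Store := (.node 9391 (.node 9385 (.node 9382 (.node 9381 (.leaf 0x0) (.leaf 0xd0b0b0003)) (.node 9383 (.leaf 0x30403050206040007) (.node 9384 (.leaf 0x0) (.leaf 0xf0b0a0003)))) (.node 9388 (.node 9386 (.leaf 0x0) (.node 9387 (.leaf 0xb0b0a0003) (.leaf 0x24aa0024a9))) (.node 9389 (.leaf 0x109030900090802040105000b) (.node 9390 (.leaf 0x0) (.leaf 0x0))))) (.node 9396 (.node 9393 (.node 9392 (.leaf 0xe0d0002) (.leaf 0x0)) (.node 9394 (.leaf 0x0) (.node 9395 (.leaf 0x600090806000202000701000b) (.leaf 0x0)))) (.node 9399 (.node 9397 (.leaf 0xa0f0002) (.node 9398 (.leaf 0x0) (.leaf 0x90402010606000703040103000c))) (.node 9400 (.leaf 0x0) (.node 9401 (.leaf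 0xb0b0a0a0004) (.leaf 0x0))))))

def argWS_831 : Store := (.node 9413 (.node 9407 (.node 9404 (.node 9403 (.leaf 0x24b90024b5) (.leaf 0xd0b0b0003)) (.node 9405 (.leaf 0x0) (.node 9406 (.leaf 0x7070009020007010009) (.leaf 0x0)))) (.node 9410 (.node 9408 (.leaf 0xb0b0002) (.node 9409 (.leaf 0x402000003010202000701000c) (.leaf 0x0))) (.node 9411 (.leaf 0xe0a0002) (.node 9412 (.leaf 0x60200020603000703040103000c) (.leaf 0x0))))) (.node 9419 (.node 9416 (.node 9414 (.leaf 0xb0b0a0a0004) (.node 9415 (.leaf 0x0) (.leaf 0x900090308020401050009))) (.node 9417 (.leaf 0x0) (.node 9418 (.leaf 0xb0a0a0003) (.leaf 0x0)))) (.node 9422 (.node 9420 (.leaf 0x24ca0024c6) (.node 9421 (.leaf 0x907020703000703040103000b) (.leaf 0x0))) (.node 9423 (.leaf 0xf0a0002) (.node 9424 (.leaf 0x0) (.leaf 0x102040005000703040103000b))))))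

def argWS_832 : Store := (.node 9402 argWS_830 argWS_831)

def argWS_833 : Store := (.node 9436 (.node 9430 (.node 9427 (.node 9426 (.leaf 0x0) (.leaf 0xa0f0b0003)) (.node 9428 (.leaf 0x404000502020007010009) (.node 9429 (.leaf 0x0) (.leaf 0xf0b0b0a0004)))) (.node 9433 (.node 9431 (.leaf 0x0) (.node 9432 (.leaf 0x6030102010606000703040103000d) (.leaf 0x0))) (.node 9434 (.leaf 0xf0a0002) (.node 9435 (.leaf 0x0) (.leaf 0x24da001d1a))))) (.node 9441 (.node 9438 (.node 9437 (.leaf 0x400020106060802040105000c) (.leaf 0x0)) (.node 9439 (.leaf 0xd0001) (.node 9440 (.leaf 0x0) (.leaf 0x303060207020703040103000b)))) (.node 9444 (.node 9442 (.leaf 0x0) (.node 9443 (.leaf 0xb0a0a0003) (.leaf 0xe0a0a0003))) (.node 9445 (.leaf 0x8000601050002000703040103000e) (.node 9446 (.leaf 0x0) (.leaf 0xb0f0a0a0004))))))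

def argWS_834 : Store := (.node 9458 (.node 9452 (.node 9449 (.node 9448 (.leaf 0x0) (.leaf 0x24e70024e3)) (.node 9450 (.leaf 0xd0b0b0003) (.node 9451 (.leaf 0x0) (.leaf 0x4020500000300000202000701000d)))) (.node 9455 (.node 9453 (.leaf 0x0) (.node 9454 (.leaf 0xa0f0b0b0004) (.leaf 0x40000030000000703040103000d))) (.node 9456 (.leaf 0x0) (.node 9457 (.leaf 0x0) (.leaf 0x6040006020702010008))))) (.node 9464 (.node 9461 (.node 9459 (.leaf 0x0) (.node 9460 (.leaf 0x0) (.leaf 0x24f3))) (.node 9462 (.leaf 0x4030000090206020802040105000d) (.node 9463 (.leaf 0x0) (.leaf 0xb0a0f0003)))) (.node 9467 (.node 9465 (.leaf 0x0) (.node 9466 (.leaf 0x204010901090006) (.leaf 0x0))) (.node 9468 (.leaf 0xb0b0a0a0004) (.node 9469 (.leaf 0xf0a0002) (.leaf 0x200050206040007))))))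

def argWS_835 : Store := (.node 9447 argWS_833 argWS_834)

def argWS_836 : Store := (.node 9425 argWS_832 argWS_835)

def argWS_837 : Store := (.node 9481 (.node 9475 (.node 9472 (.node 9471 (.leaf 0x0) (.leaf 0xb0001)) (.node 9473 (.leaf 0x0) (.node 9474 (.leaf 0xf0b0a0a0004) (.leaf 0x2501001b55)))) (.node 9478 (.node 9476 (.leaf 0xf0a0002) (.node 9477 (.leaf 0x0) (.leaf 0xb0b0002))) (.node 9479 (.leaf 0x0) (.node 9480 (.leaf 0x0) (.leaf 0xb0b0a0003))))) (.node 9486 (.node 9483 (.node 9482 (.leaf 0xf0b0b0a0a0005) (.leaf 0xe0d0002)) (.node 9484 (.leaf 0x0) (.node 9485 (.leaf 0x301020703000703040103000b) (.leaf 0x0)))) (.node 9489 (.node 9487 (.leaf 0xf0b0a0003) (.node 9488 (.leaf 0x0) (.leaf 0x250f00250b))) (.node 9490 (.leaf 0x1070006020702010802040105000d) (.node 9491 (.leaf 0x0) (.leaf 0xb0b0002))))))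

def argWS_838 : Store := (.node 9503 (.node 9497 (.node 9494 (.node 9493 (.leaf 0x0) (.leaf 0xd0001)) (.node 9495 (.leaf 0x0) (.node 9496 (.leaf 0x0) (.leaf 0x1090007030401030008)))) (.node 9500 (.node 9498 (.leaf 0x0) (.node 9499 (.leaf 0x0) (.leaf 0xe0a0002))) (.node 9501 (.leaf 0xb0001) (.node 9502 (.leaf 0x251c00251b) (.leaf 0x7010901090802040105000a))))) (.node 9509 (.node 9506 (.node 9504 (.leaf 0x0) (.node 9505 (.leaf 0xd0b0002) (.leaf 0x0))) (.node 9507 (.leaf 0x701030802020007010009) (.node 9508 (.leaf 0x0) (.leaf 0xa0f0b0003)))) (.node 9512 (.node 9510 (.leaf 0x8030000030306040008) (.node 9511 (.leaf 0x0) (.leaf 0xf0b0a0003))) (.node 9513 (.leaf 0x0) (.node 9514 (.leaf 0x300060207020703040103000b) (.leaf 0x0))))))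

def argWS_839 : Store := (.node 9492 argWS_837 argWS_838)

def argWS_840 : Store := (.node 9526 (.node 9520 (.node 9517 (.node 9516 (.leaf 0x0) (.leaf 0x40000090206020008)) (.node 9518 (.leaf 0x0) (.node 9519 (.leaf 0x0) (.leaf 0x252e00252b)))) (.node 9523 (.node 9521 (.leaf 0xe0001) (.node 9522 (.leaf 0x0) (.leaf 0x202020900000006))) (.node 9524 (.leaf 0x0) (.node 9525 (.leaf 0xf0b0a0a0004) (.leaf 0x6020900090005))))) (.node 9531 (.node 9528 (.node 9527 (.leaf 0x0) (.leaf 0xa0001)) (.node 9529 (.leaf 0x0) (.node 9530 (.leaf 0xb0b0a0a0004) (.leaf 0x2539001b84)))) (.node 9534 (.node 9532 (.leaf 0x90400000300000202000701000c) (.node 9533 (.leaf 0x0) (.leaf 0xa0a0002))) (.node 9535 (.leaf 0x0) (.node 9536 (.leaf 0x60400090806000007) (.leaf 0x0))))))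

def argWS_841 : Store := (.node 9548 (.node 9542 (.node 9539 (.node 9538 (.leaf 0xb0f0002) (.leaf 0xa0a0002)) (.node 9540 (.leaf 0x1040003080005) (.node 9541 (.leaf 0x0) (.leaf 0x0)))) (.node 9545 (.node 9543 (.leaf 0x7000408010006) (.node 9544 (.leaf 0x0) (.leaf 0xa0001))) (.node 9546 (.leaf 0x0) (.node 9547 (.leaf 0x2549002545) (.leaf 0xa0f0b0003))))) (.node 9554 (.node 9551 (.node 9549 (.leaf 0x0) (.node 9550 (.leaf 0x307090109000703040103000b) (.leaf 0x0))) (.node 9552 (.leaf 0xd0001) (.node 9553 (.leaf 0xb0a0002) (.leaf 0xf0b0b0a0a0005)))) (.node 9557 (.node 9555 (.leaf 0x204010908050202000701000b) (.node 9556 (.leaf 0x0) (.leaf 0xb0b0a0003))) (.node 9558 (.leaf 0x0) (.node 9559 (.leaf 0x25550015b1) (.leaf 0x4000306030500040202000701000d))))))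

def argWS_842 : Store := (.node 9537 argWS_840 argWS_841)

def argWS_843 : Store := (.node 9515 argWS_839 argWS_842)

def argWS_844 : Store := (.node 9470 argWS_836 argWS_843)

def argWS_845 : Store := (.node 9571 (.node 9565 (.node 9562 (.node 9561 (.leaf 0x0) (.leaf 0xd0b0b0003)) (.node 9563 (.leaf 0x0) (.node 9564 (.leaf 0x902020900000802040105000b) (.leaf 0x0)))) (.node 9568 (.node 9566 (.leaf 0xe0a0002) (.node 9567 (.leaf 0xb0a0a0003) (.leaf 0x404000502020007010009))) (.node 9569 (.leaf 0x0) (.node 9570 (.leaf 0xa0f0b0b0004) (.leaf 0x0))))) (.node 9576 (.node 9573 (.node 9572 (.leaf 0xbe2002562) (.leaf 0xd0b0b0003)) (.node 9574 (.leaf 0x0) (.node 9575 (.leaf 0x10201070206000007) (.leaf 0x0)))) (.node 9579 (.node 9577 (.leaf 0xd0b0b0003) (.node 9578 (.leaf 0x20202010904020202000701000c) (.leaf 0x0))) (.node 9580 (.leaf 0x0) (.node 9581 (.leaf 0x40003090806000007) (.leaf 0x0))))))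

def argWS_846 : Store := (.node 9593 (.node 9587 (.node 9584 (.node 9583 (.leaf 0x0) (.leaf 0x256e000613)) (.node 9585 (.leaf 0x8010103010102000202000701000d) (.node 9586 (.leaf 0x0) (.leaf 0xb0f0a0a0004)))) (.node 9590 (.node 9588 (.leaf 0x0) (.node 9589 (.leaf 0xe0001) (.leaf 0x0))) (.node 9591 (.leaf 0x0) (.node 9592 (.leaf 0xf0b0a0a0004) (.leaf 0x8000206040802040105000a))))) (.node 9599 (.node 9596 (.node 9594 (.leaf 0x0) (.node 9595 (.leaf 0xa0f0b0003) (.leaf 0x0))) (.node 9597 (.leaf 0x101070209020202000701000b) (.node 9598 (.leaf 0x0) (.leaf 0x0)))) (.node 9602 (.node 9600 (.leaf 0x257e00257b) (.node 9601 (.leaf 0xa0f0b0003) (.leaf 0x0))) (.node 9603 (.leaf 0x10702020900000007) (.node 9604 (.leaf 0x0) (.leaf 0xa0f0b0003))))))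

def argWS_847 : Store := (.node 9582 argWS_845 argWS_846)

def argWS_848 : Store := (.node 9616 (.node 9610 (.node 9607 (.node 9606 (.leaf 0x7010900090202000701000a) (.leaf 0xb0001)) (.node 9608 (.leaf 0xe0001) (.node 9609 (.leaf 0x2587) (.leaf 0x60904020004)))) (.node 9613 (.node 9611 (.leaf 0x0) (.node 9612 (.leaf 0xa0a0002) (.leaf 0x0))) (.node 9614 (.leaf 0x2020901060802040105000b) (.node 9615 (.leaf 0x0) (.leaf 0xb0f0a0a0004))))) (.node 9621 (.node 9618 (.node 9617 (.leaf 0xb0f0a0003) (.leaf 0x10700090000090802040105000c)) (.node 9619 (.leaf 0x0) (.node 9620 (.leaf 0xe0a0a0003) (.leaf 0x0)))) (.node 9624 (.node 9622 (.leaf 0x2594) (.node 9623 (.leaf 0x107010908050802040105000b) (.leaf 0x0))) (.node 9625 (.leaf 0xf0b0a0a0004) (.node 9626 (.leaf 0x0) (.leaf 0x6040101090402000703040103000d))))))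

def argWS_849 : Store := (.node 9638 (.node 9632 (.node 9629 (.node 9628 (.leaf 0x0) (.leaf 0xf0b0b0a0a0005)) (.node 9630 (.leaf 0xf0b0b0a0004) (.node 9631 (.leaf 0x10d80019d5) (.leaf 0xe0d0002)))) (.node 9635 (.node 9633 (.leaf 0x0) (.node 9634 (.leaf 0xa0f0b0b0004) (.leaf 0x0))) (.node 9636 (.leaf 0x0) (.node 9637 (.leaf 0xf0a0002) (.leaf 0x70006030500040202000701000c))))) (.node 9644 (.node 9641 (.node 9639 (.leaf 0x0) (.node 9640 (.leaf 0x0) (.leaf 0x200090109000703040103000c))) (.node 9642 (.leaf 0x0) (.node 9643 (.leaf 0x0) (.leaf 0x25aa0025a7)))) (.node 9647 (.node 9645 (.leaf 0x60200090206020007) (.node 9646 (.leaf 0x0) (.leaf 0xe0a0002))) (.node 9648 (.leaf 0x0) (.node 9649 (.leaf 0x20900000004) (.leaf 0x0))))))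

def argWS_850 : Store := (.node 9627 argWS_848 argWS_849)

def argWS_851 : Store := (.node 9605 argWS_847 argWS_850)

def argWS_852 : Store := (.node 9661 (.node 9655 (.node 9652 (.node 9651 (.leaf 0xb0a0a0003) (.leaf 0xe0001)) (.node 9653 (.leaf 0xb0001) (.node 9654 (.leaf 0x25b4) (.leaf 0x4000207030005)))) (.node 9658 (.node 9656 (.leaf 0x0) (.node 9657 (.leaf 0xa0f0b0003) (.leaf 0x0))) (.node 9659 (.leaf 0x206030306040802040105000b) (.node 9660 (.leaf 0x0) (.leaf 0xd0001))))) (.node 9666 (.node 9663 (.node 9662 (.leaf 0x9000202090000000703040103000e) (.leaf 0x0)) (.node 9664 (.leaf 0xe0d0002) (.node 9665 (.leaf 0x0) (.leaf 0x901020901060802040105000b)))) (.node 9669 (.node 9667 (.leaf 0x0) (.node 9668 (.leaf 0xd0b0002) (.leaf 0x0))) (.node 9670 (.leaf 0xb0b0a0a0004) (.node 9671 (.leaf 0x0) (.leaf 0x25c60025c4))))))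

def argWS_853 : Store := (.node 9683 (.node 9677 (.node 9674 (.node 9673 (.leaf 0xb0a0f0003) (.leaf 0x0)) (.node 9675 (.leaf 0x2040408010202000701000a) (.node 9676 (.leaf 0x0) (.leaf 0xa0001)))) (.node 9680 (.node 9678 (.leaf 0x20601070306000703040103000c) (.node 9679 (.leaf 0x0) (.leaf 0x0))) (.node 9681 (.leaf 0x126e0025cf) (.node 9682 (.leaf 0x304000300000802040105000b) (.leaf 0x0))))) (.node 9689 (.node 9686 (.node 9684 (.leaf 0xa0f0b0b0004) (.node 9685 (.leaf 0x0) (.leaf 0x2020207000903000703040103000d))) (.node 9687 (.leaf 0x0) (.node 9688 (.leaf 0xb0f0a0003) (.leaf 0x20503010102000802040105000c)))) (.node 9692 (.node 9690 (.leaf 0x0) (.node 9691 (.leaf 0x0) (.leaf 0x403000400050202000701000b))) (.node 9693 (.leaf 0x0) (.node 9694 (.leaf 0xf0b0b0a0004) (.leaf 0x0))))))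

def argWS_854 : Store := (.node 9672 argWS_852 argWS_853)

def argWS_855 : Store := (.node 9706 (.node 9700 (.node 9697 (.node 9696 (.leaf 0xe0d0002) (.leaf 0x25df0025de)) (.node 9698 (.leaf 0x209070308020401050009) (.node 9699 (.leaf 0x0) (.leaf 0xd0b0002)))) (.node 9703 (.node 9701 (.leaf 0x0) (.node 9702 (.leaf 0xf0a0a0003) (.leaf 0x0))) (.node 9704 (.leaf 0x0) (.node 9705 (.leaf 0x1030006030500040008) (.leaf 0x0))))) (.node 9712 (.node 9709 (.node 9707 (.leaf 0xa0f0b0b0004) (.node 9708 (.leaf 0x0) (.leaf 0xe0d0002))) (.node 9710 (.leaf 0x25ec) (.node 9711 (.leaf 0x0) (.leaf 0xe0001)))) (.node 9715 (.node 9713 (.leaf 0x0) (.node 9714 (.leaf 0x0) (.leaf 0x3000408010802040105000a))) (.node 9716 (.leaf 0x0) (.node 9717 (.leaf 0x0) (.leaf 0x200020003))))))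

def argWS_856 : Store := (.node 9729 (.node 9723 (.node 9720 (.node 9719 (.leaf 0x0) (.leaf 0xa0001)) (.node 9721 (.leaf 0x0) (.node 9722 (.leaf 0x20901090805000703040103000c) (.leaf 0x0)))) (.node 9726 (.node 9724 (.leaf 0x0) (.node 9725 (.leaf 0x25fb0025f8) (.leaf 0xb0a0a0003))) (.node 9727 (.leaf 0x0) (.node 9728 (.leaf 0x901040003) (.leaf 0x0))))) (.node 9735 (.node 9732 (.node 9730 (.leaf 0x9020102020007010008) (.node 9731 (.leaf 0x0) (.leaf 0x0))) (.node 9733 (.leaf 0xb0a0f0003) (.node 9734 (.leaf 0x309010902020007010009) (.leaf 0x0)))) (.node 9738 (.node 9736 (.leaf 0xf0a0002) (.node 9737 (.leaf 0x0) (.leaf 0x2608002604))) (.node 9739 (.leaf 0xe0001) (.node 9740 (.leaf 0x0) (.leaf 0x104020106060802040105000b))))))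

def argWS_857 : Store := (.node 9718 argWS_855 argWS_856)

def argWS_858 : Store := (.node 9695 argWS_854 argWS_857)

def argWS_859 : Store := (.node 9650 argWS_851 argWS_858)

def argWS_860 : Store := (.node 9560 argWS_844 argWS_859)

def argWS_861 : Store := (.node 9752 (.node 9746 (.node 9743 (.node 9742 (.leaf 0x0) (.leaf 0xe0a0002)) (.node 9744 (.leaf 0x70000020106060007) (.node 9745 (.leaf 0x0) (.leaf 0xf0b0a0003)))) (.node 9749 (.node 9747 (.leaf 0x0) (.node 9748 (.leaf 0xf0b0b0a0004) (.leaf 0x2613002474))) (.node 9750 (.leaf 0x408010802040105000b) (.node 9751 (.leaf 0x0) (.leaf 0xd0b0002))))) (.node 9757 (.node 9754 (.node 9753 (.leaf 0x0) (.leaf 0x403040601050002000703040103000e)) (.node 9755 (.leaf 0x0) (.node 9756 (.leaf 0xf0b0b0003) (.leaf 0xf0001)))) (.node 9760 (.node 9758 (.leaf 0x2040003030604000703040103000d) (.node 9759 (.leaf 0x0) (.leaf 0xf0b0b0a0a0005))) (.node 9761 (.leaf 0x0) (.node 9762 (.leaf 0x2620) (.leaf 0x2020206030500040008))))))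

def argWS_862 : Store := (.node 9774 (.node 9768 (.node 9765 (.node 9764 (.leaf 0x0) (.leaf 0xf0b0002)) (.node 9766 (.leaf 0x0) (.node 9767 (.leaf 0x80004020703000703040103000c) (.leaf 0x0)))) (.node 9771 (.node 9769 (.leaf 0xb0001) (.node 9770 (.leaf 0x9070703060202000701000a) (.leaf 0x0))) (.node 9772 (.leaf 0xa0a0002) (.node 9773 (.leaf 0x0) (.leaf 0x262c))))) (.node 9780 (.node 9777 (.node 9775 (.leaf 0xd0001) (.node 9776 (.leaf 0x0) (.leaf 0x601020102020900000802040105000e))) (.node 9778 (.leaf 0x0) (.node 9779 (.leaf 0xb0f0a0003) (.leaf 0x10102000003010202000701000c)))) (.node 9783 (.node 9781 (.leaf 0x0) (.node 9782 (.leaf 0xb0b0a0a0004) (.leaf 0x0))) (.node 9784 (.leaf 0x202010703060006) (.node 9785 (.leaf 0x0) (.leaf 0xa0f0b0b0004))))))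

def argWS_863 : Store := (.node 9763 argWS_861 argWS_862)

def argWS_864 : Store := (.node 9797 (.node 9791 (.node 9788 (.node 9787 (.leaf 0x0) (.leaf 0x263a002636)) (.node 9789 (.leaf 0x5020603000703040103000a) (.node 9790 (.leaf 0x0) (.leaf 0xe0d0002)))) (.node 9794 (.node 9792 (.leaf 0x0) (.node 9793 (.leaf 0x700020703000703040103000b) (.leaf 0x0))) (.node 9795 (.leaf 0xb0a0f0003) (.node 9796 (.leaf 0xf0a0002) (.leaf 0x50200020804000007))))) (.node 9802 (.node 9799 (.node 9798 (.leaf 0x0) (.leaf 0xf0b0b0a0a0005)) (.node 9800 (.leaf 0x0) (.node 9801 (.leaf 0x705020202010802040105000c) (.leaf 0x0)))) (.node 9805 (.node 9803 (.leaf 0xb0a0f0003) (.node 9804 (.leaf 0x0) (.leaf 0xac300264b))) (.node 9806 (.leaf 0x402050206030802040105000b) (.node 9807 (.leaf 0x0) (.leaf 0xb0b0a0003))))))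

def argWS_865 : Store := (.node 9819 (.node 9813 (.node 9810 (.node 9809 (.leaf 0x0) (.leaf 0xf0b0a0003)) (.node 9811 (.leaf 0x0) (.node 9812 (.leaf 0x0) (.leaf 0x20202020901060202000701000c)))) (.node 9816 (.node 9814 (.leaf 0x0) (.node 9815 (.leaf 0xb0f0a0a0004) (.leaf 0x0))) (.node 9817 (.leaf 0x2657) (.node 9818 (.leaf 0x9020106060202000701000a) (.leaf 0x0))))) (.node 9825 (.node 9822 (.node 9820 (.leaf 0xd0b0b0003) (.node 9821 (.leaf 0x0) (.leaf 0x40300090009000703040103000c))) (.node 9823 (.leaf 0x0) (.node 9824 (.leaf 0xe0001) (.leaf 0xb0b0a0a0004)))) (.node 9828 (.node 9826 (.leaf 0x50603050004000703040103000c) (.node 9827 (.leaf 0x0) (.leaf 0x0))) (.node 9829 (.leaf 0x10407020600000703040103000c) (.node 9830 (.leaf 0x0) (.leaf 0xb0001))))))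

def argWS_866 : Store := (.node 9808 argWS_864 argWS_865)

def argWS_867 : Store := (.node 9786 argWS_863 argWS_866)

def argWS_868 : Store := (.node 9842 (.node 9836 (.node 9833 (.node 9832 (.leaf 0x0) (.leaf 0x2667002663)) (.node 9834 (.leaf 0x70101010904020007) (.node 9835 (.leaf 0x0) (.leaf 0xf0b0002)))) (.node 9839 (.node 9837 (.leaf 0x0) (.node 9838 (.leaf 0xb0b0002) (.leaf 0x0))) (.node 9840 (.leaf 0x0) (.node 9841 (.leaf 0x600090009000703040103000b) (.leaf 0x0))))) (.node 9847 (.node 9844 (.node 9843 (.leaf 0xa0f0002) (.leaf 0x0)) (.node 9845 (.leaf 0x307070209020202000701000b) (.node 9846 (.leaf 0x0) (.leaf 0xa0a0002)))) (.node 9850 (.node 9848 (.leaf 0x0) (.node 9849 (.leaf 0x2677002673) (.leaf 0x6010202080400000703040103000d))) (.node 9851 (.leaf 0x0) (.node 9852 (.leaf 0xb0f0a0a0004) (.leaf 0x0))))))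

def argWS_869 : Store := (.node 9864 (.node 9858 (.node 9855 (.node 9854 (.leaf 0x5070009020007010008) (.leaf 0x0)) (.node 9856 (.leaf 0xa0f0002) (.node 9857 (.leaf 0x80300070209020202000701000c) (.leaf 0x0)))) (.node 9861 (.node 9859 (.leaf 0xb0f0002) (.node 9860 (.leaf 0x0) (.leaf 0xb0b0a0003))) (.node 9862 (.leaf 0x1070007000903000703040103000d) (.node 9863 (.leaf 0x0) (.leaf 0xf0b0b0a0004))))) (.node 9870 (.node 9867 (.node 9865 (.leaf 0x0) (.node 9866 (.leaf 0x2688002684) (.leaf 0x400030308000703040103000b))) (.node 9868 (.leaf 0x0) (.node 9869 (.leaf 0xf0b0002) (.leaf 0x0)))) (.node 9873 (.node 9871 (.leaf 0xd0b0002) (.node 9872 (.leaf 0x0) (.leaf 0x0))) (.node 9874 (.leaf 0x304000300000802040105000b) (.node 9875 (.leaf 0x0) (.leaf 0xb0a0f0003))))))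

def argWS_870 : Store := (.node 9853 argWS_868 argWS_869)

def argWS_871 : Store := (.node 9887 (.node 9881 (.node 9878 (.node 9877 (.leaf 0x0) (.leaf 0xe0d0002)) (.node 9879 (.leaf 0x2695) (.node 9880 (.leaf 0xb0a0a0003) (.leaf 0x0)))) (.node 9884 (.node 9882 (.leaf 0x600020106060007) (.node 9883 (.leaf 0x0) (.leaf 0xb0b0a0003))) (.node 9885 (.leaf 0xb0a0f0003) (.node 9886 (.leaf 0x803000004080703040103000b) (.leaf 0x0))))) (.node 9892 (.node 9889 (.node 9888 (.leaf 0x0) (.leaf 0xf0b0b0a0a0005)) (.node 9890 (.leaf 0x26a000269f) (.node 9891 (.leaf 0x4020500030306040202000701000d) (.leaf 0x0)))) (.node 9895 (.node 9893 (.leaf 0xf0b0002) (.node 9894 (.leaf 0x0) (.leaf 0xa0f0b0003))) (.node 9896 (.leaf 0x0) (.node 9897 (.leaf 0x0) (.leaf 0x704000508020401050009))))))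

def argWS_872 : Store := (.node 9909 (.node 9903 (.node 9900 (.node 9899 (.leaf 0x0) (.leaf 0xf0a0002)) (.node 9901 (.leaf 0x0) (.node 9902 (.leaf 0xf0a0a0003) (.leaf 0xf0b0b0a0a0005)))) (.node 9906 (.node 9904 (.leaf 0x26ae0026ad) (.node 9905 (.leaf 0x3070000030306040802040105000d) (.leaf 0x0))) (.node 9907 (.leaf 0xb0f0a0a0004) (.node 9908 (.leaf 0x0) (.leaf 0xb0001))))) (.node 9915 (.node 9912 (.node 9910 (.leaf 0x0) (.node 9911 (.leaf 0x0) (.leaf 0xe0a0002))) (.node 9913 (.leaf 0x4030400030306040008) (.node 9914 (.leaf 0x0) (.leaf 0xf0a0a0003)))) (.node 9918 (.node 9916 (.leaf 0x0) (.node 9917 (.leaf 0x26bb) (.leaf 0xb0001))) (.node 9919 (.leaf 0x0) (.node 9920 (.leaf 0xa0a0002) (.leaf 0x0))))))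

def argWS_873 : Store := (.node 9898 argWS_871 argWS_872)

def argWS_874 : Store := (.node 9876 argWS_870 argWS_873)

def argWS_875 : Store := (.node 9831 argWS_867 argWS_874)

def argWS_876 : Store := (.node 9932 (.node 9926 (.node 9923 (.node 9922 (.leaf 0x0) (.leaf 0xa0f0b0003)) (.node 9924 (.leaf 0xb0f0a0a0004) (.node 9925 (.leaf 0x26c3) (.leaf 0x0)))) (.node 9929 (.node 9927 (.leaf 0xb0b0a0a0004) (.node 9928 (.leaf 0x0) (.leaf 0x502090106000703040103000b))) (.node 9930 (.leaf 0x0) (.node 9931 (.leaf 0xb0b0002) (.leaf 0xe0d0002))))) (.node 9937 (.node 9934 (.node 9933 (.leaf 0x10402020900000202000701000c) (.leaf 0x0)) (.node 9935 (.leaf 0xe0a0002) (.node 9936 (.leaf 0x0) (.leaf 0x26cf)))) (.node 9940 (.node 9938 (.leaf 0x20103010908050202000701000c) (.node 9939 (.leaf 0x0) (.leaf 0xd0001))) (.node 9941 (.leaf 0x0) (.node 9942 (.leaf 0xb0001) (.leaf 0x0))))))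

def argWS_877 : Store := (.node 9954 (.node 9948 (.node 9945 (.node 9944 (.leaf 0x0) (.leaf 0x208040002020007010009)) (.node 9946 (.leaf 0x0) (.node 9947 (.leaf 0xb0f0a0a0004) (.leaf 0x0)))) (.node 9951 (.node 9949 (.leaf 0x1c160026db) (.node 9950 (.leaf 0x602040807030401030009) (.leaf 0x0))) (.node 9952 (.leaf 0xb0a0002) (.node 9953 (.leaf 0x0) (.leaf 0xb0a0f0003))))) (.node 9960 (.node 9957 (.node 9955 (.leaf 0x0) (.node 9956 (.leaf 0x0) (.leaf 0x605020804000802040105000b))) (.node 9958 (.leaf 0x0) (.node 9959 (.leaf 0x0) (.leaf 0xd0001)))) (.node 9963 (.node 9961 (.leaf 0xd0b0b0003) (.node 9962 (.leaf 0x26e80026e7) (.leaf 0x401090806000202000701000b))) (.node 9964 (.leaf 0x0) (.node 9965 (.leaf 0xb0a0002) (.leaf 0x0))))))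

def argWS_878 : Store := (.node 9943 argWS_876 argWS_877)

def argWS_879 : Store := (.node 9977 (.node 9971 (.node 9968 (.node 9967 (.leaf 0x60102010703060802040105000c) (.leaf 0x0)) (.node 9969 (.leaf 0xa0f0b0003) (.node 9970 (.leaf 0x701050206040202000701000b) (.leaf 0x0)))) (.node 9974 (.node 9972 (.leaf 0xb0a0f0003) (.node 9973 (.leaf 0x0) (.leaf 0x704020106060202000701000b))) (.node 9975 (.leaf 0x0) (.node 9976 (.leaf 0xa0a0002) (.leaf 0x0))))) (.node 9982 (.node 9979 (.node 9978 (.leaf 0x20002070206000802040105000c) (.leaf 0x0)) (.node 9980 (.leaf 0xa0f0b0b0004) (.node 9981 (.leaf 0x0) (.leaf 0x26fc0026f8)))) (.node 9985 (.node 9983 (.leaf 0xe0d0002) (.node 9984 (.leaf 0x0) (.leaf 0x70000020901060802040105000c))) (.node 9986 (.leaf 0x0) (.node 9987 (.leaf 0xb0a0f0003) (.leaf 0xf0b0002))))))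

def argWS_880 : Store := (.node 9999 (.node 9993 (.node 9990 (.node 9989 (.leaf 0x907000603050004000703040103000e) (.leaf 0x0)) (.node 9991 (.leaf 0x0) (.node 9992 (.leaf 0x2706002703) (.leaf 0xd0b0002)))) (.node 9996 (.node 9994 (.leaf 0x0) (.node 9995 (.leaf 0xb0f0002) (.leaf 0x0))) (.node 9997 (.leaf 0x0) (.node 9998 (.leaf 0x907070209020802040105000b) (.leaf 0x0))))) (.node 10005 (.node 10002 (.node 10000 (.leaf 0xb0f0a0a0004) (.node 10001 (.leaf 0x0) (.leaf 0x2040305020202010008))) (.node 10003 (.leaf 0x0) (.node 10004 (.leaf 0xf0b0b0a0a0005) (.leaf 0x0)))) (.node 10008 (.node 10006 (.leaf 0x200000900090802040105000b) (.node 10007 (.leaf 0x0) (.leaf 0xb0f0a0a0004))) (.node 10009 (.leaf 0x0) (.node 10010 (.leaf 0x2718002714) (.leaf 0x204010308000703040103000b))))))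

def argWS_881 : Store := (.node 9988 argWS_879 argWS_880)

def argWS_882 : Store := (.node 9966 argWS_878 argWS_881)

def argWS_883 : Store := (.node 10022 (.node 10016 (.node 10013 (.node 10012 (.leaf 0x0) (.leaf 0xb0b0002)) (.node 10014 (.leaf 0x0) (.node 10015 (.leaf 0xf0b0a0a0004) (.leaf 0x0)))) (.node 10019 (.node 10017 (.leaf 0x0) (.node 10018 (.leaf 0x6060102000003010802040105000d) (.leaf 0x0))) (.node 10020 (.leaf 0xf0b0002) (.node 10021 (.leaf 0x0) (.leaf 0x7020901060202000701000b))))) (.node 10027 (.node 10024 (.node 10023 (.leaf 0x0) (.leaf 0x0)) (.node 10025 (.leaf 0xb0b0002) (.node 10026 (.leaf 0x2728002727) (.leaf 0x1070009030005)))) (.node 10030 (.node 10028 (.leaf 0x0) (.node 10029 (.leaf 0xb0f0a0a0004) (.leaf 0x0))) (.node 10031 (.leaf 0xb0f0002) (.node 10032 (.leaf 0x0) (.leaf 0x0))))))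

def argWS_884 : Store := (.node 10044 (.node 10038 (.node 10035 (.node 10034 (.leaf 0xb0f0002) (.leaf 0xa0a0002)) (.node 10036 (.leaf 0xb0a0f0003) (.node 10037 (.leaf 0x2733002732) (.leaf 0x303060207020703040103000b)))) (.node 10041 (.node 10039 (.leaf 0x0) (.node 10040 (.leaf 0xb0f0002) (.leaf 0x0))) (.node 10042 (.leaf 0x0) (.node 10043 (.leaf 0xb0001) (.leaf 0x0))))) (.node 10050 (.node 10047 (.node 10045 (.leaf 0x273b000389) (.node 10046 (.leaf 0xe0a0002) (.leaf 0x0))) (.node 10048 (.leaf 0x0) (.node 10049 (.leaf 0xd0b0b0003) (.leaf 0xb0f0a0a0004)))) (.node 10053 (.node 10051 (.leaf 0x101070009020007010009) (.node 10052 (.leaf 0x0) (.leaf 0xb0001))) (.node 10054 (.leaf 0x0) (.node 10055 (.leaf 0xcf9002745) (.leaf 0x500000408010802040105000b))))))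

def argWS_885 : Store := (.node 10033 argWS_883 argWS_884)

def argWS_886 : Store := (.node 10067 (.node 10061 (.node 10058 (.node 10057 (.leaf 0x0) (.leaf 0xb0001)) (.node 10059 (.leaf 0x0) (.node 10060 (.leaf 0xb0b0a0a0004) (.leaf 0x0)))) (.node 10064 (.node 10062 (.leaf 0x0) (.node 10063 (.leaf 0xe0001) (.leaf 0x8000400030306040802040105000d))) (.node 10065 (.leaf 0x0) (.node 10066 (.leaf 0xe0001) (.leaf 0x0))))) (.node 10073 (.node 10070 (.node 10068 (.leaf 0x2752) (.node 10069 (.leaf 0xb0a0a0003) (.leaf 0x0))) (.node 10071 (.leaf 0xf0b0b0a0a0005) (.node 10072 (.leaf 0x0) (.leaf 0x0)))) (.node 10076 (.node 10074 (.leaf 0x90201090806000802040105000c) (.node 10075 (.leaf 0x0) (.leaf 0xa0001))) (.node 10077 (.leaf 0x0) (.node 10078 (.leaf 0xd0001) (.leaf 0x275d0025c3))))))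

def argWS_887 : Store := (.node 10090 (.node 10084 (.node 10081 (.node 10080 (.leaf 0x0) (.leaf 0xb0a0f0003)) (.node 10082 (.leaf 0x0) (.node 10083 (.leaf 0xd0b0002) (.leaf 0x0)))) (.node 10087 (.node 10085 (.leaf 0x0) (.node 10086 (.leaf 0xb0b0002) (.leaf 0x27650005e2))) (.node 10088 (.leaf 0x60201020106060202000701000c) (.node 10089 (.leaf 0x0) (.leaf 0xf0a0a0003))))) (.node 10096 (.node 10093 (.node 10091 (.leaf 0x0) (.node 10092 (.leaf 0x400030603050004000703040103000e) (.leaf 0x0))) (.node 10094 (.leaf 0xf0b0002) (.node 10095 (.leaf 0x9070000030306040008) (.leaf 0x0)))) (.node 10099 (.node 10097 (.leaf 0x0) (.node 10098 (.leaf 0x70407020902000703040103000c) (.leaf 0x0))) (.node 10100 (.leaf 0xa0f0002) (.node 10101 (.leaf 0x0) (.leaf 0x2774))))))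

def argWS_888 : Store := (.node 10079 argWS_886 argWS_887)

def argWS_889 : Store := (.node 10056 argWS_885 argWS_888)

def argWS_890 : Store := (.node 10011 argWS_882 argWS_889)

def argWS_891 : Store := (.node 9921 argWS_875 argWS_890)

def argWS_892 : Store := (.node 9741 argWS_860 argWS_891)

def argWS_893 : Store := (.node 9380 argWS_829 argWS_892)

def argWS_894 : Store := (.node 10113 (.node 10107 (.node 10104 (.node 10103 (.leaf 0xb0f0002) (.leaf 0x0)) (.node 10105 (.leaf 0xb0b0a0003) (.node 10106 (.leaf 0x0) (.leaf 0x0)))) (.node 10110 (.node 10108 (.leaf 0xd0b0b0003) (.node 10109 (.leaf 0x9030000090206020008) (.leaf 0x0))) (.node 10111 (.leaf 0xb0a0a0003) (.node 10112 (.leaf 0x0) (.leaf 0xf0b0a0a0004))))) (.node 10118 (.node 10115 (.node 10114 (.leaf 0x278000277f) (.leaf 0x501020603000703040103000b)) (.node 10116 (.leaf 0x0) (.node 10117 (.leaf 0xf0b0a0003) (.leaf 0x0)))) (.node 10121 (.node 10119 (.leaf 0x9010206020007010008) (.node 10120 (.leaf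 0x0) (.leaf 0xf0b0b0a0004))) (.node 10122 (.leaf 0x109030003) (.node 10123 (.leaf 0x0) (.leaf 0xa0f0002))))))

def argWS_895 : Store := (.node 10135 (.node 10129 (.node 10126 (.node 10125 (.leaf 0x0) (.leaf 0xa0f0b0b0004)) (.node 10127 (.leaf 0x278d000ac2) (.node 10128 (.leaf 0x503050202020703040103000c) (.leaf 0x0)))) (.node 10132 (.node 10130 (.leaf 0xb0f0002) (.node 10131 (.leaf 0x0) (.leaf 0xa0f0b0b0004))) (.node 10133 (.leaf 0x0) (.node 10134 (.leaf 0x0) (.leaf 0xf0a0a0003))))) (.node 10141 (.node 10138 (.node 10136 (.leaf 0xe0a0a0003) (.node 10137 (.leaf 0x2797) (.leaf 0xb0a0a0003))) (.node 10139 (.leaf 0x0) (.node 10140 (.leaf 0x20500000300000202000701000c) (.leaf 0x0)))) (.node 10144 (.node 10142 (.leaf 0xf0b0b0003) (.node 10143 (.leaf 0xb0f0a0a0004) (.leaf 0x50305020202010802040105000c))) (.node 10145 (.leaf 0x0) (.node 10146 (.leaf 0xf0b0a0a0004) (.leaf 0x0))))))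

def argWS_896 : Store := (.node 10124 argWS_894 argWS_895)

def argWS_897 : Store := (.node 10158 (.node 10152 (.node 10149 (.node 10148 (.leaf 0x27a2) (.leaf 0x10206020702010007)) (.node 10150 (.leaf 0x0) (.node 10151 (.leaf 0xa0f0b0003) (.leaf 0x0)))) (.node 10155 (.node 10153 (.leaf 0x403070209020202000701000b) (.node 10154 (.leaf 0x0) (.leaf 0xf0b0b0003))) (.node 10156 (.leaf 0x603010202090000000703040103000e) (.node 10157 (.leaf 0x0) (.leaf 0xb0a0a0003))))) (.node 10163 (.node 10160 (.node 10159 (.leaf 0x0) (.leaf 0x903000003030604000703040103000e)) (.node 10161 (.leaf 0x0) (.node 10162 (.leaf 0xa0a0002) (.leaf 0x0)))) (.node 10166 (.node 10164 (.leaf 0x27b20027ae) (.node 10165 (.leaf 0x304000502020007010009) (.leaf 0x0))) (.node 10167 (.leaf 0xf0b0b0a0a0005) (.node 10168 (.leaf 0x0) (.leaf 0x800070206000802040105000c))))))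

def argWS_898 : Store := (.node 10180 (.node 10174 (.node 10171 (.node 10170 (.leaf 0x0) (.leaf 0xe0a0002)) (.node 10172 (.leaf 0xb0b0a0003) (.node 10173 (.leaf 0x20601020901060007) (.leaf 0x0)))) (.node 10177 (.node 10175 (.leaf 0xb0f0002) (.node 10176 (.leaf 0x0) (.leaf 0x27bf))) (.node 10178 (.leaf 0x8000006020702010202000701000d) (.node 10179 (.leaf 0x0) (.leaf 0xb0b0a0003))))) (.node 10186 (.node 10183 (.node 10181 (.leaf 0x0) (.node 10182 (.leaf 0x1080007030401030008) (.leaf 0x0))) (.node 10184 (.leaf 0xf0001) (.node 10185 (.leaf 0xb0f0a0a0004) (.leaf 0x90503070009030007)))) (.node 10189 (.node 10187 (.leaf 0x0) (.node 10188 (.leaf 0xb0f0002) (.leaf 0x0))) (.node 10190 (.leaf 0x602090805000703040103000b) (.node 10191 (.leaf 0x0) (.leaf 0xe0a0a0003))))))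

def argWS_899 : Store := (.node 10169 argWS_897 argWS_898)

def argWS_900 : Store := (.node 10147 argWS_896 argWS_899)

def argWS_901 : Store := (.node 10203 (.node 10197 (.node 10194 (.node 10193 (.leaf 0x0) (.leaf 0x27d00027cc)) (.node 10195 (.leaf 0x50102020007010007) (.node 10196 (.leaf 0x0) (.leaf 0xb0b0a0a0004)))) (.node 10200 (.node 10198 (.leaf 0x0) (.node 10199 (.leaf 0x50305090806000202000701000c) (.leaf 0x0))) (.node 10201 (.leaf 0xb0f0002) (.node 10202 (.leaf 0x303070209020006) (.leaf 0x0))))) (.node 10208 (.node 10205 (.node 10204 (.leaf 0x0) (.leaf 0x307020901060202000701000b)) (.node 10206 (.leaf 0x0) (.node 10207 (.leaf 0xb0f0a0a0004) (.leaf 0x0)))) (.node 10211 (.node 10209 (.leaf 0x27df0027db) (.node 10210 (.leaf 0xb0b0a0003) (.leaf 0x0))) (.node 10212 (.leaf 0xa0f0b0b0004) (.node 10213 (.leaf 0x0) (.leaf 0x0))))))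

def argWS_902 : Store := (.node 10225 (.node 10219 (.node 10216 (.node 10215 (.leaf 0x602020804000802040105000b) (.leaf 0x0)) (.node 10217 (.leaf 0xf0b0a0003) (.node 10218 (.leaf 0x0) (.leaf 0x10101090402000703040103000c)))) (.node 10222 (.node 10220 (.leaf 0x0) (.node 10221 (.leaf 0xe0a0002) (.leaf 0x0))) (.node 10223 (.leaf 0x7000900090202000701000a) (.node 10224 (.leaf 0x0) (.leaf 0xd0b0002))))) (.node 10231 (.node 10228 (.node 10226 (.leaf 0x0) (.node 10227 (.leaf 0x27f10027ed) (.leaf 0x9000902020007010008))) (.node 10229 (.leaf 0x0) (.node 10230 (.leaf 0xb0f0a0a0004) (.leaf 0x0)))) (.node 10234 (.node 10232 (.leaf 0x102010908050202000701000b) (.node 10233 (.leaf 0x0) (.leaf 0xe0a0a0003))) (.node 10235 (.leaf 0x50105020202010802040105000c) (.node 10236 (.leaf 0x0) (.leaf 0xe0a0002))))))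

def argWS_903 : Store := (.node 10214 argWS_901 argWS_902)

def argWS_904 : Store := (.node 10248 (.node 10242 (.node 10239 (.node 10238 (.leaf 0x0) (.leaf 0x17aa0027fd)) (.node 10240 (.leaf 0x50202010606000703040103000c) (.node 10241 (.leaf 0x0) (.leaf 0xd0b0b0003)))) (.node 10245 (.node 10243 (.leaf 0x0) (.node 10244 (.leaf 0x6020003010102000202000701000d) (.leaf 0x0))) (.node 10246 (.leaf 0xe0a0002) (.node 10247 (.leaf 0x503050206020007010009) (.leaf 0x0))))) (.node 10253 (.node 10250 (.node 10249 (.leaf 0xb0f0a0003) (.leaf 0x0)) (.node 10251 (.leaf 0x8000002000003010008) (.node 10252 (.leaf 0x0) (.leaf 0xe0a0002)))) (.node 10256 (.node 10254 (.leaf 0x0) (.node 10255 (.leaf 0x280d) (.leaf 0xf0b0b0a0a0005))) (.node 10257 (.leaf 0x0) (.node 10258 (.leaf 0x500000900090202000701000b) (.leaf 0x0))))))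

def argWS_905 : Store := (.node 10270 (.node 10264 (.node 10261 (.node 10260 (.leaf 0xb0b0002) (.leaf 0x704090000090006)) (.node 10262 (.leaf 0x0) (.node 10263 (.leaf 0xa0f0b0003) (.leaf 0x0)))) (.node 10267 (.node 10265 (.leaf 0x1030101090805000703040103000d) (.node 10266 (.leaf 0x0) (.leaf 0xb0f0a0003))) (.node 10268 (.leaf 0x0) (.node 10269 (.leaf 0x281b) (.leaf 0xf0b0a0003))))) (.node 10276 (.node 10273 (.node 10271 (.leaf 0x80004090806000802040105000c) (.node 10272 (.leaf 0x0) (.leaf 0xe0a0a0003))) (.node 10274 (.leaf 0x0) (.node 10275 (.leaf 0x702020703000703040103000b) (.leaf 0x0)))) (.node 10279 (.node 10277 (.leaf 0xe0a0002) (.node 10278 (.leaf 0x0) (.leaf 0x2825))) (.node 10280 (.leaf 0x4020501090402000703040103000d) (.node 10281 (.leaf 0x0) (.leaf 0xb0f0a0a0004))))))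

def argWS_906 : Store := (.node 10259 argWS_904 argWS_905)

def argWS_907 : Store := (.node 10237 argWS_903 argWS_906)

def argWS_908 : Store := (.node 10192 argWS_900 argWS_907)

def argWS_909 : Store := (.node 10293 (.node 10287 (.node 10284 (.node 10283 (.leaf 0x0) (.leaf 0x4070009030006)) (.node 10285 (.leaf 0x0) (.node 10286 (.leaf 0xe0a0002) (.leaf 0xd0b0b0003)))) (.node 10290 (.node 10288 (.leaf 0x0) (.node 10289 (.leaf 0x3040306020702010008) (.leaf 0x0))) (.node 10291 (.leaf 0xb0f0002) (.node 10292 (.leaf 0x0) (.leaf 0x2000903000703040103000a))))) (.node 10298 (.node 10295 (.node 10294 (.leaf 0x0) (.leaf 0xa0f0b0003)) (.node 10296 (.leaf 0x0) (.node 10297 (.leaf 0x2837002833) (.leaf 0xf0b0b0003)))) (.node 10301 (.node 10299 (.leaf 0x0) (.node 10300 (.leaf 0x900020804000006) (.leaf 0x0))) (.node 10302 (.leaf 0xf0a0002) (.node 10303 (.leaf 0xb0a0f0003) (.leaf 0x5020206030005))))))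

def argWS_910 : Store := (.node 10315 (.node 10309 (.node 10306 (.node 10305 (.leaf 0x0) (.leaf 0x0)) (.node 10307 (.leaf 0x2841000713) (.node 10308 (.leaf 0x80000020804000008) (.leaf 0x0)))) (.node 10312 (.node 10310 (.leaf 0xa0a0002) (.node 10311 (.leaf 0x0) (.leaf 0x90503010908050007))) (.node 10313 (.leaf 0x0) (.node 10314 (.leaf 0xd0b0002) (.leaf 0x803000901090202000701000b))))) (.node 10321 (.node 10318 (.node 10316 (.leaf 0x0) (.node 10317 (.leaf 0xb0b0a0003) (.leaf 0x0))) (.node 10319 (.leaf 0x502000900090202000701000b) (.node 10320 (.leaf 0x0) (.leaf 0xe0a0002)))) (.node 10324 (.node 10322 (.leaf 0x0) (.node 10323 (.leaf 0x2851) (.leaf 0x401020106060202000701000b))) (.node 10325 (.leaf 0x0) (.node 10326 (.leaf 0xe0a0002) (.leaf 0x0))))))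

def argWS_911 : Store := (.node 10304 argWS_909 argWS_910)

def argWS_912 : Store := (.node 10338 (.node 10332 (.node 10329 (.node 10328 (.leaf 0xf0b0a0a0004) (.leaf 0x0)) (.node 10330 (.leaf 0x0) (.node 10331 (.leaf 0x400090000090802040105000b) (.leaf 0x0)))) (.node 10335 (.node 10333 (.leaf 0xe0d0002) (.node 10334 (.leaf 0x0) (.leaf 0xf0b0b0a0a0005))) (.node 10336 (.leaf 0x285e000c7a) (.node 10337 (.leaf 0xb0f0a0a0004) (.leaf 0x0))))) (.node 10343 (.node 10340 (.node 10339 (.leaf 0x8030006030500040008) (.leaf 0x0)) (.node 10341 (.leaf 0xd0b0b0003) (.node 10342 (.leaf 0x3040102000003010202000701000d) (.leaf 0x0)))) (.node 10346 (.node 10344 (.leaf 0xe0a0a0003) (.node 10345 (.leaf 0x0) (.leaf 0x1f38002868))) (.node 10347 (.leaf 0x6040101090402000703040103000d) (.node 10348 (.leaf 0x0) (.leaf 0xb0a0002))))))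

def argWS_913 : Store := (.node 10360 (.node 10354 (.node 10351 (.node 10350 (.leaf 0x0) (.leaf 0x60401010703060007)) (.node 10352 (.leaf 0x0) (.node 10353 (.leaf 0xe0001) (.leaf 0x702040005000703040103000b)))) (.node 10357 (.node 10355 (.leaf 0x0) (.node 10356 (.leaf 0xb0b0002) (.leaf 0x0))) (.node 10358 (.leaf 0xb0f0a0a0004) (.node 10359 (.leaf 0x202a002875) (.leaf 0x5090000090802040105000a))))) (.node 10366 (.node 10363 (.node 10361 (.leaf 0x0) (.node 10362 (.leaf 0xf0b0b0a0a0005) (.leaf 0x0))) (.node 10364 (.leaf 0x2040102020007010008) (.node 10365 (.leaf 0x0) (.leaf 0xf0b0a0a0004)))) (.node 10369 (.node 10367 (.leaf 0xb0f0a0a0004) (.node 10368 (.leaf 0x2010703060202000701000a) (.leaf 0x0))) (.node 10370 (.leaf 0xb0f0a0003) (.node 10371 (.leaf 0x0) (.leaf 0x700090206020802040105000c))))))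

def argWS_914 : Store := (.node 10349 argWS_912 argWS_913)

def argWS_915 : Store := (.node 10327 argWS_911 argWS_914)

def argWS_916 : Store := (.node 10383 (.node 10377 (.node 10374 (.node 10373 (.leaf 0x0) (.leaf 0xf0001)) (.node 10375 (.leaf 0x0) (.node 10376 (.leaf 0xf0b0a0003) (.leaf 0x2887002886)))) (.node 10380 (.node 10378 (.leaf 0xe0a0a0003) (.node 10379 (.leaf 0x0) (.leaf 0x5020400050802040105000a))) (.node 10381 (.leaf 0x0) (.node 10382 (.leaf 0xf0001) (.leaf 0xb0a0a0003))))) (.node 10388 (.node 10385 (.node 10384 (.leaf 0x6040007000903000703040103000d) (.leaf 0x0)) (.node 10386 (.leaf 0xb0f0002) (.node 10387 (.leaf 0x0) (.leaf 0x2892000970)))) (.node 10391 (.node 10389 (.leaf 0xb0f0a0a0004) (.node 10390 (.leaf 0x0) (.leaf 0x400070209020802040105000b))) (.node 10392 (.leaf 0x0) (.node 10393 (.leaf 0xa0a0002) (.leaf 0x3040206030005))))))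

def argWS_917 : Store := (.node 10405 (.node 10399 (.node 10396 (.node 10395 (.leaf 0x0) (.leaf 0xf0a0a0003)) (.node 10397 (.leaf 0x0) (.node 10398 (.leaf 0x289c) (.leaf 0xa0a0002)))) (.node 10402 (.node 10400 (.leaf 0x0) (.node 10401 (.leaf 0x50305060207020703040103000c) (.leaf 0x0))) (.node 10403 (.leaf 0xb0b0002) (.node 10404 (.leaf 0xa0f0b0003) (.leaf 0x701010904020202000701000b))))) (.node 10411 (.node 10408 (.node 10406 (.leaf 0x0) (.node 10407 (.leaf 0xb0b0002) (.leaf 0x0))) (.node 10409 (.leaf 0x307090109000703040103000b) (.node 10410 (.leaf 0x0) (.leaf 0xa0001)))) (.node 10414 (.node 10412 (.leaf 0x0) (.node 10413 (.leaf 0x28ab0028a7) (.leaf 0x3010500020202000701000a))) (.node 10415 (.leaf 0x0) (.node 10416 (.leaf 0xa0f0002) (.leaf 0x0))))))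

def argWS_918 : Store := (.node 10394 argWS_916 argWS_917)

def argWS_919 : Store := (.node 10428 (.node 10422 (.node 10419 (.node 10418 (.leaf 0xa0f0b0b0004) (.leaf 0x0)) (.node 10420 (.leaf 0x0) (.node 10421 (.leaf 0x903000408010006) (.leaf 0x0)))) (.node 10425 (.node 10423 (.leaf 0x0) (.node 10424 (.leaf 0x202060002020007010009) (.leaf 0x0))) (.node 10426 (.leaf 0x0) (.node 10427 (.leaf 0x30401050005) (.leaf 0x0))))) (.node 10434 (.node 10431 (.node 10429 (.leaf 0x0) (.node 10430 (.leaf 0x28bc0028b9) (.leaf 0x600020106060202000701000b))) (.node 10432 (.leaf 0x0) (.node 10433 (.leaf 0xa0f0002) (.leaf 0x0)))) (.node 10437 (.node 10435 (.leaf 0x204060207020703040103000b) (.node 10436 (.leaf 0x0) (.leaf 0xb0f0a0003))) (.node 10438 (.leaf 0x10608020401050007) (.node 10439 (.leaf 0x0) (.leaf 0xf0b0a0a0004))))))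

def argWS_920 : Store := (.node 10451 (.node 10445 (.node 10442 (.node 10441 (.leaf 0x0) (.leaf 0x40004020901060202000701000c)) (.node 10443 (.leaf 0x0) (.node 10444 (.leaf 0x0) (.leaf 0x601090000090202000701000b)))) (.node 10448 (.node 10446 (.leaf 0x0) (.node 10447 (.leaf 0xa0f0002) (.leaf 0x0))) (.node 10449 (.leaf 0x28cf0028cb) (.node 10450 (.leaf 0xf0b0a0a0004) (.leaf 0x0))))) (.node 10457 (.node 10454 (.node 10452 (.leaf 0x20502020900000007) (.node 10453 (.leaf 0x0) (.leaf 0xb0b0a0003))) (.node 10455 (.leaf 0xd0b0002) (.node 10456 (.leaf 0x0) (.leaf 0xb0a0f0003)))) (.node 10460 (.node 10458 (.leaf 0x90104020901060007) (.node 10459 (.leaf 0x0) (.leaf 0xf0b0b0a0a0005))) (.node 10461 (.leaf 0x0) (.node 10462 (.leaf 0x28dc) (.leaf 0xf0b0a0a0004))))))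

def argWS_921 : Store := (.node 10440 argWS_919 argWS_920)

def argWS_922 : Store := (.node 10417 argWS_918 argWS_921)

def argWS_923 : Store := (.node 10372 argWS_915 argWS_922)

def argWS_924 : Store := (.node 10282 argWS_908 argWS_923)

def argWS_925 : Store := (.node 10474 (.node 10468 (.node 10465 (.node 10464 (.leaf 0x0) (.leaf 0x2090309080600000703040103000d)) (.node 10466 (.leaf 0x0) (.node 10467 (.leaf 0xb0b0002) (.leaf 0xb0b0a0003)))) (.node 10471 (.node 10469 (.leaf 0x70200030306040202000701000c) (.node 10470 (.leaf 0x0) (.leaf 0xf0b0b0003))) (.node 10472 (.leaf 0x0) (.node 10473 (.leaf 0xb0f0002) (.leaf 0x28e80028e7))))) (.node 10479 (.node 10476 (.node 10475 (.leaf 0x20000050206040007) (.leaf 0x0)) (.node 10477 (.leaf 0xb0f0a0003) (.node 10478 (.leaf 0x0) (.leaf 0x0)))) (.node 10482 (.node 10480 (.leaf 0x8000000030306040008) (.node 10481 (.leaf 0x0) (.leaf 0xf0b0002))) (.node 10483 (.leaf 0x0) (.node 10484 (.leaf 0x20200000408010007) (.leaf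 0x0))))))

def argWS_926 : Store := (.node 10496 (.node 10490 (.node 10487 (.node 10486 (.leaf 0xb0a0f0003) (.leaf 0x0)) (.node 10488 (.leaf 0x28f60028f2) (.node 10489 (.leaf 0xa0f0002) (.leaf 0x0)))) (.node 10493 (.node 10491 (.leaf 0x803000601050002000703040103000e) (.node 10492 (.leaf 0x0) (.leaf 0xf0a0002))) (.node 10494 (.leaf 0x1040005000703040103000a) (.node 10495 (.leaf 0x0) (.leaf 0xb0f0a0003))))) (.node 10502 (.node 10499 (.node 10497 (.leaf 0x0) (.node 10498 (.leaf 0x1020102090106000703040103000d) (.leaf 0x0))) (.node 10500 (.leaf 0xe0a0002) (.node 10501 (.leaf 0x0) (.leaf 0x2904002900)))) (.node 10505 (.node 10503 (.leaf 0xd0b0002) (.node 10504 (.leaf 0x0) (.leaf 0x80200090000090802040105000c))) (.node 10506 (.leaf 0x0) (.node 10507 (.leaf 0xf0a0002) (.leaf 0xf0b0002))))))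

def argWS_927 : Store := (.node 10485 argWS_925 argWS_926)

def argWS_928 : Store := (.node 10519 (.node 10513 (.node 10510 (.node 10509 (.leaf 0x1020202090000000703040103000d) (.leaf 0x0)) (.node 10511 (.leaf 0xe0d0002) (.node 10512 (.leaf 0x0) (.leaf 0xf0a0002)))) (.node 10516 (.node 10514 (.leaf 0x0) (.node 10515 (.leaf 0x291100290f) (.leaf 0x3040400050802040105000a))) (.node 10517 (.leaf 0x0) (.node 10518 (.leaf 0xb0f0a0003) (.leaf 0x0))))) (.node 10524 (.node 10521 (.node 10520 (.leaf 0xa0f0b0b0004) (.leaf 0x0)) (.node 10522 (.leaf 0x20106060004) (.node 10523 (.leaf 0x0) (.leaf 0xb0b0a0a0004)))) (.node 10527 (.node 10525 (.leaf 0x0) (.node 10526 (.leaf 0x90002020900000202000701000d) (.leaf 0x0))) (.node 10528 (.leaf 0xe0001) (.node 10529 (.leaf 0x0) (.leaf 0xf0b0002))))))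

def argWS_929 : Store := (.node 10541 (.node 10535 (.node 10532 (.node 10531 (.leaf 0x2921002920) (.leaf 0xa0a0002)) (.node 10533 (.leaf 0x0) (.node 10534 (.leaf 0x300050003) (.leaf 0x0)))) (.node 10538 (.node 10536 (.leaf 0xa0a0002) (.node 10537 (.leaf 0xa0f0002) (.leaf 0x2060105020604000703040103000d))) (.node 10539 (.leaf 0x0) (.node 10540 (.leaf 0xb0f0002) (.leaf 0x0))))) (.node 10547 (.node 10544 (.node 10542 (.leaf 0x9030000030000000703040103000d) (.node 10543 (.leaf 0x0) (.leaf 0x0))) (.node 10545 (.leaf 0x292f00292c) (.node 10546 (.leaf 0xe0a0a0003) (.leaf 0x0)))) (.node 10550 (.node 10548 (.leaf 0x80000070209020802040105000c) (.node 10549 (.leaf 0x0) (.leaf 0x209030003030604000703040103000e))) (.node 10551 (.leaf 0x0) (.node 10552 (.leaf 0xb0a0002) (.leaf 0x0))))))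

def argWS_930 : Store := (.node 10530 argWS_928 argWS_929)

def argWS_931 : Store := (.node 10508 argWS_927 argWS_930)

def argWS_932 : Store := (.node 10564 (.node 10558 (.node 10555 (.node 10554 (.leaf 0x303040005000703040103000b) (.leaf 0x0)) (.node 10556 (.leaf 0xb0a0f0003) (.node 10557 (.leaf 0x0) (.leaf 0x293c)))) (.node 10561 (.node 10559 (.leaf 0x40807030401030008) (.node 10560 (.leaf 0x0) (.leaf 0xa0f0b0003))) (.node 10562 (.leaf 0x0) (.node 10563 (.leaf 0xa0f0b0b0004) (.leaf 0x0))))) (.node 10569 (.node 10566 (.node 10565 (.leaf 0x0) (.leaf 0x30700090206020802040105000c)) (.node 10567 (.leaf 0x0) (.node 10568 (.leaf 0xf0b0a0003) (.leaf 0x0)))) (.node 10572 (.node 10570 (.leaf 0xd0b0b0003) (.node 10571 (.leaf 0x2949002948) (.leaf 0xf0b0b0a0a0005))) (.node 10573 (.leaf 0x0) (.node 10574 (.leaf 0xb0a0002) (.leaf 0x0))))))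

def argWS_933 : Store := (.node 10586 (.node 10580 (.node 10577 (.node 10576 (.leaf 0x0) (.leaf 0xb0001)) (.node 10578 (.leaf 0x30306040006) (.node 10579 (.leaf 0x0) (.leaf 0xd0b0b0003)))) (.node 10583 (.node 10581 (.leaf 0x0) (.node 10582 (.leaf 0x2954000651) (.leaf 0x30708020401050007))) (.node 10584 (.leaf 0x0) (.node 10585 (.leaf 0xe0a0002) (.leaf 0x0))))) (.node 10592 (.node 10589 (.node 10587 (.leaf 0x20401070206000802040105000c) (.node 10588 (.leaf 0x0) (.leaf 0xf0b0b0a0004))) (.node 10590 (.leaf 0x200020603000703040103000b) (.node 10591 (.leaf 0x0) (.leaf 0xe0001)))) (.node 10595 (.node 10593 (.leaf 0x0) (.node 10594 (.leaf 0x903030802020007010009) (.leaf 0x0))) (.node 10596 (.leaf 0x0) (.node 10597 (.leaf 0x296300173e) (.leaf 0xb0f0a0a0004))))))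

def argWS_934 : Store := (.node 10575 argWS_932 argWS_933)

def argWS_935 : Store := (.node 10609 (.node 10603 (.node 10600 (.node 10599 (.leaf 0x0) (.leaf 0x20202070009030802040105000c)) (.node 10601 (.leaf 0x0) (.node 10602 (.leaf 0xb0f0a0003) (.leaf 0xf0b0b0a0004)))) (.node 10606 (.node 10604 (.leaf 0x10301090000090802040105000c) (.node 10605 (.leaf 0x0) (.leaf 0xd0b0b0003))) (.node 10607 (.leaf 0x0) (.node 10608 (.leaf 0xb0a0a0003) (.leaf 0x296f00296e))))) (.node 10614 (.node 10611 (.node 10610 (.leaf 0x4090009000703040103000a) (.leaf 0x0)) (.node 10612 (.leaf 0xd0b0b0003) (.node 10613 (.leaf 0x0) (.leaf 0x7020000030000000703040103000d)))) (.node 10617 (.node 10615 (.leaf 0x0) (.node 10616 (.leaf 0xe0d0002) (.leaf 0x4000400050802040105000a))) (.node 10618 (.leaf 0x0) (.node 10619 (.leaf 0xb0b0002) (.leaf 0x0))))))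

def argWS_936 : Store := (.node 10631 (.node 10625 (.node 10622 (.node 10621 (.leaf 0xb0b0a0003) (.leaf 0xa0f0002)) (.node 10623 (.leaf 0x297d00297c) (.node 10624 (.leaf 0xf0b0a0a0004) (.leaf 0x0)))) (.node 10628 (.node 10626 (.leaf 0x402000003010202000701000c) (.node 10627 (.leaf 0x0) (.leaf 0xa0f0002))) (.node 10629 (.leaf 0xd0001) (.node 10630 (.leaf 0x402020900000006) (.leaf 0x0))))) (.node 10637 (.node 10634 (.node 10632 (.leaf 0xd0b0b0003) (.node 10633 (.leaf 0x0) (.leaf 0x2988002984))) (.node 10635 (.leaf 0x70400020804000202000701000c) (.node 10636 (.leaf 0x0) (.leaf 0xe0d0002)))) (.node 10640 (.node 10638 (.leaf 0x0) (.node 10639 (.leaf 0xa0a0002) (.leaf 0x0))) (.node 10641 (.leaf 0x0) (.node 10642 (.leaf 0x2020000090206020802040105000d) (.leaf 0x0))))))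

def argWS_937 : Store := (.node 10620 argWS_935 argWS_936)

def argWS_938 : Store := (.node 10598 argWS_934 argWS_937)

def argWS_939 : Store := (.node 10553 argWS_931 argWS_938)

def argWS_940 : Store := (.node 10654 (.node 10648 (.node 10645 (.node 10644 (.leaf 0x0) (.leaf 0x1080007030401030008)) (.node 10646 (.leaf 0x0) (.node 10647 (.leaf 0xf0b0b0003) (.leaf 0x0)))) (.node 10651 (.node 10649 (.leaf 0x70407000903000703040103000c) (.node 10650 (.leaf 0x0) (.leaf 0x0))) (.node 10652 (.leaf 0x299a002997) (.node 10653 (.leaf 0x605030306040006) (.leaf 0x0))))) (.node 10659 (.node 10656 (.node 10655 (.leaf 0x0) (.leaf 0x2090603000703040103000a)) (.node 10657 (.leaf 0x0) (.node 10658 (.leaf 0xf0b0a0a0004) (.leaf 0xf0b0b0003)))) (.node 10662 (.node 10660 (.leaf 0xf0a0a0003) (.node 10661 (.leaf 0x29a3) (.leaf 0xe0a0a0003))) (.node 10663 (.leaf 0x0) (.node 10664 (.leaf 0xb0f0a0a0004) (.leaf 0x0))))))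

def argWS_941 : Store := (.node 10676 (.node 10670 (.node 10667 (.node 10666 (.leaf 0x0) (.leaf 0x80004020106060202000701000c)) (.node 10668 (.leaf 0x0) (.node 10669 (.leaf 0xe0d0002) (.leaf 0x0)))) (.node 10673 (.node 10671 (.leaf 0xf0a0002) (.node 10672 (.leaf 0x29ae0021ef) (.leaf 0xf0b0a0a0004))) (.node 10674 (.leaf 0x0) (.node 10675 (.leaf 0x4010703060005) (.leaf 0x0))))) (.node 10682 (.node 10679 (.node 10677 (.leaf 0xb0a0002) (.node 10678 (.leaf 0xb0b0a0a0004) (.leaf 0x9070009000009000703040103000d))) (.node 10680 (.leaf 0x0) (.node 10681 (.leaf 0xe0001) (.leaf 0x0)))) (.node 10685 (.node 10683 (.leaf 0x1070002000003010802040105000d) (.node 10684 (.leaf 0x0) (.leaf 0x0))) (.node 10686 (.leaf 0x29bc0029b9) (.node 10687 (.leaf 0xb0001) (.leaf 0x0))))))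

def argWS_942 : Store := (.node 10665 argWS_940 argWS_941)

def argWS_943 : Store := (.node 10699 (.node 10693 (.node 10690 (.node 10689 (.leaf 0xb0a0a0003) (.leaf 0x0)) (.node 10691 (.leaf 0x0) (.node 10692 (.leaf 0x304020900000006) (.leaf 0x0)))) (.node 10696 (.node 10694 (.leaf 0xb0f0a0a0004) (.node 10695 (.leaf 0x0) (.leaf 0x60501020901060007))) (.node 10697 (.leaf 0x0) (.node 10698 (.leaf 0xf0b0b0a0a0005) (.leaf 0x0))))) (.node 10704 (.node 10701 (.node 10700 (.leaf 0x10502060207020703040103000c) (.leaf 0x0)) (.node 10702 (.leaf 0x0) (.node 10703 (.leaf 0x29cd0029ca) (.leaf 0xa0f0b0b0004)))) (.node 10707 (.node 10705 (.leaf 0x0) (.node 10706 (.leaf 0x902000003010006) (.leaf 0x0))) (.node 10708 (.leaf 0xb0a0002) (.node 10709 (.leaf 0x10303010102000802040105000c) (.leaf 0x0))))))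

def argWS_944 : Store := (.node 10721 (.node 10715 (.node 10712 (.node 10711 (.leaf 0xb0a0a0003) (.leaf 0x0)) (.node 10713 (.leaf 0x6060102000003010008) (.node 10714 (.leaf 0x0) (.leaf 0x0)))) (.node 10718 (.node 10716 (.leaf 0x29da000745) (.node 10717 (.leaf 0xa0001) (.leaf 0x0))) (.node 10719 (.leaf 0x704000508020401050009) (.node 10720 (.leaf 0x0) (.leaf 0xf0a0002))))) (.node 10727 (.node 10724 (.node 10722 (.leaf 0xf0a0a0003) (.node 10723 (.leaf 0xb0b0a0003) (.leaf 0x60301020106060802040105000c))) (.node 10725 (.leaf 0x0) (.node 10726 (.leaf 0xa0a0002) (.leaf 0x0)))) (.node 10730 (.node 10728 (.leaf 0x29e60029e2) (.node 10729 (.leaf 0xf0b0a0003) (.leaf 0x0))) (.node 10731 (.leaf 0x800040005000703040103000b) (.node 10732 (.leaf 0x0) (.leaf 0xb0f0002))))))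

def argWS_945 : Store := (.node 10710 argWS_943 argWS_944)

def argWS_946 : Store := (.node 10688 argWS_942 argWS_945)

def argWS_947 : Store := (.node 10744 (.node 10738 (.node 10735 (.node 10734 (.leaf 0xb0f0002) (.leaf 0x3040301090805000703040103000d)) (.node 10736 (.leaf 0x0) (.node 10737 (.leaf 0x0) (.leaf 0xf0b0b0a0004)))) (.node 10741 (.node 10739 (.leaf 0x29f10029f0) (.node 10740 (.leaf 0xf0001) (.leaf 0x0))) (.node 10742 (.leaf 0x206010206030802040105000b) (.node 10743 (.leaf 0x0) (.leaf 0xf0a0002))))) (.node 10749 (.node 10746 (.node 10745 (.leaf 0x1020106010500020802040105000d) (.leaf 0x0)) (.node 10747 (.leaf 0xb0a0002) (.node 10748 (.leaf 0x0) (.leaf 0x2050206020702010802040105000d)))) (.node 10752 (.node 10750 (.leaf 0x0) (.node 10751 (.leaf 0xa0f0b0b0004) (.leaf 0x0))) (.node 10753 (.leaf 0x29ff) (.node 10754 (.leaf 0xf0b0a0003) (.leaf 0x0))))))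

def argWS_948 : Store := (.node 10766 (.node 10760 (.node 10757 (.node 10756 (.leaf 0x20901010908050007) (.leaf 0x0)) (.node 10758 (.leaf 0xa0a0002) (.node 10759 (.leaf 0x1010908050202000701000a) (.leaf 0x0)))) (.node 10763 (.node 10761 (.leaf 0xb0001) (.node 10762 (.leaf 0x0) (.leaf 0x191f0023cb))) (.node 10764 (.leaf 0xd0b0b0003) (.node 10765 (.leaf 0x0) (.leaf 0x40300070009030802040105000c))))) (.node 10772 (.node 10769 (.node 10767 (.leaf 0x0) (.node 10768 (.leaf 0xd0b0002) (.leaf 0x103010206030802040105000b))) (.node 10770 (.leaf 0x0) (.node 10771 (.leaf 0xa0f0b0b0004) (.leaf 0x0)))) (.node 10775 (.node 10773 (.leaf 0x50306010500020202000701000c) (.node 10774 (.leaf 0x0) (.leaf 0xb0b0a0a0004))) (.node 10776 (.leaf 0x0) (.node 10777 (.leaf 0x2a17002a13) (.leaf 0x904070009030802040105000b))))))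

def argWS_949 : Store := (.node 10755 argWS_947 argWS_948)

def argWS_950 : Store := (.node 10789 (.node 10783 (.node 10780 (.node 10779 (.leaf 0x0) (.leaf 0xf0001)) (.node 10781 (.leaf 0x0) (.node 10782 (.leaf 0xf0b0b0003) (.leaf 0x0)))) (.node 10786 (.node 10784 (.leaf 0x0) (.node 10785 (.leaf 0x20601090009000703040103000c) (.leaf 0x0))) (.node 10787 (.leaf 0xe0d0002) (.node 10788 (.leaf 0x0) (.leaf 0x701010301010200000703040103000e))))) (.node 10795 (.node 10792 (.node 10790 (.leaf 0x0) (.node 10791 (.leaf 0xf0a0a0003) (.leaf 0x0))) (.node 10793 (.leaf 0x2a27) (.node 10794 (.leaf 0xb0b0002) (.leaf 0x0)))) (.node 10798 (.node 10796 (.leaf 0x4000400020804000802040105000d) (.node 10797 (.leaf 0x0) (.leaf 0xf0b0002))) (.node 10799 (.leaf 0x600070206000007) (.node 10800 (.leaf 0x0) (.leaf 0x0))))))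

def argWS_951 : Store := (.node 10812 (.node 10806 (.node 10803 (.node 10802 (.leaf 0xb0b0a0003) (.leaf 0x2a31002a30)) (.node 10804 (.leaf 0x2090102020900000008) (.node 10805 (.leaf 0x0) (.leaf 0xb0b0a0a0004)))) (.node 10809 (.node 10807 (.leaf 0x0) (.node 10808 (.leaf 0x605000300000202000701000b) (.leaf 0x0))) (.node 10810 (.leaf 0xb0b0002) (.node 10811 (.leaf 0x6000400050802040105000a) (.leaf 0x0))))) (.node 10818 (.node 10815 (.node 10813 (.leaf 0xf0b0a0a0004) (.node 10814 (.leaf 0x0) (.leaf 0x401060602020007010009))) (.node 10816 (.leaf 0x0) (.node 10817 (.leaf 0xa0a0002) (.leaf 0x0)))) (.node 10821 (.node 10819 (.leaf 0x2a41) (.node 10820 (.leaf 0x40901090005) (.leaf 0x0))) (.node 10822 (.leaf 0xe0001) (.node 10823 (.leaf 0x0) (.leaf 0x605010207030006))))))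

def argWS_952 : Store := (.node 10801 argWS_950 argWS_951)

def argWS_953 : Store := (.node 10778 argWS_949 argWS_952)

def argWS_954 : Store := (.node 10733 argWS_946 argWS_953)

def argWS_955 : Store := (.node 10643 argWS_939 argWS_954)

def argWS_956 : Store := (.node 10463 argWS_924 argWS_955)

def argWS_957 : Store := (.node 10835 (.node 10829 (.node 10826 (.node 10825 (.leaf 0x0) (.leaf 0xf0b0b0a0004)) (.node 10827 (.leaf 0x60102050206040007) (.node 10828 (.leaf 0x0) (.leaf 0xb0b0002)))) (.node 10832 (.node 10830 (.leaf 0x0) (.node 10831 (.leaf 0x601020901060006) (.leaf 0x0))) (.node 10833 (.leaf 0xf0b0b0a0004) (.node 10834 (.leaf 0x0) (.leaf 0x2040105020604000703040103000d))))) (.node 10840 (.node 10837 (.node 10836 (.leaf 0x0) (.leaf 0xb0a0f0003)) (.node 10838 (.leaf 0x0) (.node 10839 (.leaf 0x2a55002a51) (.leaf 0xb0001)))) (.node 10843 (.node 10841 (.leaf 0x0) (.node 10842 (.leaf 0x3050007030401030008) (.leaf 0x0))) (.node 10844 (.leaf 0xf0b0b0a0004)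 (.node 10845 (.leaf 0x40205050206040802040105000c) (.leaf 0x0))))))

def argWS_958 : Store := (.node 10857 (.node 10851 (.node 10848 (.node 10847 (.leaf 0xa0f0002) (.leaf 0x0)) (.node 10849 (.leaf 0x6040103010102000008) (.node 10850 (.leaf 0x0) (.leaf 0x0)))) (.node 10854 (.node 10852 (.leaf 0x2a62) (.node 10853 (.leaf 0x2010206030005) (.leaf 0x0))) (.node 10855 (.leaf 0xa0f0b0003) (.node 10856 (.leaf 0x0) (.leaf 0x20401070206000802040105000c))))) (.node 10863 (.node 10860 (.node 10858 (.leaf 0x0) (.node 10859 (.leaf 0xe0001) (.leaf 0x502000901090802040105000b))) (.node 10861 (.leaf 0x0) (.node 10862 (.leaf 0x0) (.leaf 0x40601050002000703040103000c)))) (.node 10866 (.node 10864 (.leaf 0x0) (.node 10865 (.leaf 0xa0001) (.leaf 0x0))) (.node 10867 (.leaf 0x2a71002a6d) (.node 10868 (.leaf 0x8020002010606000703040103000d) (.leaf 0x0))))))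

def argWS_959 : Store := (.node 10846 argWS_957 argWS_958)

def argWS_960 : Store := (.node 10880 (.node 10874 (.node 10871 (.node 10870 (.leaf 0xd0b0b0003) (.leaf 0x0)) (.node 10872 (.leaf 0x80200050206040802040105000c) (.node 10873 (.leaf 0x0) (.leaf 0xd0b0002)))) (.node 10877 (.node 10875 (.leaf 0x3070202090000000703040103000d) (.node 10876 (.leaf 0x0) (.leaf 0xe0001))) (.node 10878 (.leaf 0x0) (.node 10879 (.leaf 0x8060008020401050008) (.leaf 0x0))))) (.node 10885 (.node 10882 (.node 10881 (.leaf 0x0) (.leaf 0x701020106060202000701000b)) (.node 10883 (.leaf 0x0) (.node 10884 (.leaf 0xa0a0002) (.leaf 0x0)))) (.node 10888 (.node 10886 (.leaf 0x2a84002a80) (.node 10887 (.leaf 0x3040400050005) (.leaf 0x0))) (.node 10889 (.leaf 0xd0b0002) (.node 10890 (.leaf 0x0) (.leaf 0xf0b0a0a0004))))))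

def argWS_961 : Store := (.node 10902 (.node 10896 (.node 10893 (.node 10892 (.leaf 0x0) (.leaf 0x0)) (.node 10894 (.leaf 0x30503010102000007) (.node 10895 (.leaf 0x0) (.leaf 0xa0a0002)))) (.node 10899 (.node 10897 (.leaf 0x0) (.node 10898 (.leaf 0x60201020000030703040103000c) (.leaf 0x0))) (.node 10900 (.leaf 0xf0b0002) (.node 10901 (.leaf 0x0) (.leaf 0x2a94))))) (.node 10908 (.node 10905 (.node 10903 (.leaf 0x2060900090005) (.node 10904 (.leaf 0x0) (.leaf 0xe0001))) (.node 10906 (.leaf 0x0) (.node 10907 (.leaf 0xb0b0a0a0004) (.leaf 0x0)))) (.node 10911 (.node 10909 (.leaf 0x0) (.node 10910 (.leaf 0xf0a0a0003) (.leaf 0x800090109000703040103000c))) (.node 10912 (.leaf 0x0) (.node 10913 (.leaf 0xe0a0a0003) (.leaf 0x0))))))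

def argWS_962 : Store := (.node 10891 argWS_960 argWS_961)

def argWS_963 : Store := (.node 10869 argWS_959 argWS_962)

def argWS_964 : Store := (.node 10925 (.node 10919 (.node 10916 (.node 10915 (.leaf 0x2aa1) (.leaf 0x403050202020703040103000b)) (.node 10917 (.leaf 0x0) (.node 10918 (.leaf 0xb0f0a0003) (.leaf 0x8000400030306040008)))) (.node 10922 (.node 10920 (.leaf 0x0) (.node 10921 (.leaf 0x0) (.leaf 0x103010908050802040105000b))) (.node 10923 (.leaf 0x0) (.node 10924 (.leaf 0xd0b0002) (.leaf 0x0))))) (.node 10930 (.node 10927 (.node 10926 (.leaf 0x1e13002aac) (.leaf 0x30507000903000703040103000c)) (.node 10928 (.leaf 0x0) (.node 10929 (.leaf 0xe0a0a0003) (.leaf 0x0)))) (.node 10933 (.node 10931 (.leaf 0x9050309080600000703040103000d) (.node 10932 (.leaf 0x0) (.leaf 0xa0a0002))) (.node 10934 (.leaf 0xf0b0a0a0004) (.node 10935 (.leaf 0xa0f0b0b0004) (.leaf 0x8010103080202000701000a))))))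

def argWS_965 : Store := (.node 10947 (.node 10941 (.node 10938 (.node 10937 (.leaf 0x0) (.leaf 0xd0b0b0003)) (.node 10939 (.leaf 0x0) (.node 10940 (.leaf 0x2aba002ab6) (.leaf 0xa0a0002)))) (.node 10944 (.node 10942 (.leaf 0x0) (.node 10943 (.leaf 0xb0001) (.leaf 0x0))) (.node 10945 (.leaf 0x0) (.node 10946 (.leaf 0x202020009020602000703040103000e) (.leaf 0x0))))) (.node 10953 (.node 10950 (.node 10948 (.leaf 0xe0d0002) (.node 10949 (.leaf 0x0) (.leaf 0x4030409080600000703040103000d))) (.node 10951 (.leaf 0x0) (.node 10952 (.leaf 0x0) (.leaf 0x901020106060802040105000b)))) (.node 10956 (.node 10954 (.leaf 0x0) (.node 10955 (.leaf 0xf0a0002) (.leaf 0x0))) (.node 10957 (.leaf 0x2acb002ac7) (.node 10958 (.leaf 0xa0f0b0003) (.leaf 0x0))))))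

def argWS_966 : Store := (.node 10936 argWS_964 argWS_965)

def argWS_967 : Store := (.node 10970 (.node 10964 (.node 10961 (.node 10960 (.leaf 0x40005020202010202000701000d) (.leaf 0x0)) (.node 10962 (.leaf 0xa0f0002) (.node 10963 (.leaf 0xe0a0a0003) (.leaf 0xb0f0a0003)))) (.node 10967 (.node 10965 (.leaf 0x7050206040202000701000a) (.node 10966 (.leaf 0x0) (.leaf 0xe0a0a0003))) (.node 10968 (.leaf 0x0) (.node 10969 (.leaf 0x2ad7002ad3) (.leaf 0x60401090806000007))))) (.node 10975 (.node 10972 (.node 10971 (.leaf 0x0) (.leaf 0xd0b0002)) (.node 10973 (.leaf 0x0) (.node 10974 (.leaf 0xf0a0a0003) (.leaf 0x0)))) (.node 10978 (.node 10976 (.leaf 0x0) (.node 10977 (.leaf 0x4020901060202000701000a) (.leaf 0x0))) (.node 10979 (.leaf 0xa0f0b0b0004) (.node 10980 (.leaf 0x0) (.leaf 0xa0a0002))))))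

def argWS_968 : Store := (.node 10992 (.node 10986 (.node 10983 (.node 10982 (.leaf 0x2ae4002ae3) (.leaf 0xb0f0a0a0004)) (.node 10984 (.leaf 0x0) (.node 10985 (.leaf 0x2070003030604000703040103000d) (.leaf 0x0)))) (.node 10989 (.node 10987 (.leaf 0xb0a0a0003) (.node 10988 (.leaf 0x2020108020401050008) (.leaf 0x0))) (.node 10990 (.leaf 0xb0a0a0003) (.node 10991 (.leaf 0x0) (.leaf 0x603010202090000000703040103000e))))) (.node 10998 (.node 10995 (.node 10993 (.leaf 0x0) (.node 10994 (.leaf 0xb0f0a0a0004) (.leaf 0x0))) (.node 10996 (.leaf 0x2af2001bc6) (.node 10997 (.leaf 0x6020103080005) (.leaf 0x0)))) (.node 11001 (.node 10999 (.leaf 0xa0f0002) (.node 11000 (.leaf 0x0) (.leaf 0x602090009000703040103000b))) (.node 11002 (.leaf 0x0) (.node 11003 (.leaf 0xb0f0a0a0004) (.leaf 0xa0f0002))))))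

def argWS_969 : Store := (.node 10981 argWS_967 argWS_968)

def argWS_970 : Store := (.node 10959 argWS_966 argWS_969)

def argWS_971 : Store := (.node 10914 argWS_963 argWS_970)

def argWS_972 : Store := (.node 11015 (.node 11009 (.node 11006 (.node 11005 (.leaf 0x500020804000802040105000b) (.leaf 0x0)) (.node 11007 (.leaf 0xf0b0a0a0004) (.node 11008 (.leaf 0x0) (.leaf 0x20603010102000802040105000c)))) (.node 11012 (.node 11010 (.leaf 0x0) (.node 11011 (.leaf 0xf0b0002) (.leaf 0x0))) (.node 11013 (.leaf 0x2b03002aff) (.node 11014 (.leaf 0xb0f0002) (.leaf 0x0))))) (.node 11020 (.node 11017 (.node 11016 (.leaf 0xb0a0a0003) (.leaf 0x0)) (.node 11018 (.leaf 0x0) (.node 11019 (.leaf 0xa0f0b0b0004) (.leaf 0xb0001)))) (.node 11023 (.node 11021 (.leaf 0x2b0b) (.node 11022 (.leaf 0xf0b0b0003) (.leaf 0x0))) (.node 11024 (.leaf 0x40300070206000007) (.node 11025 (.leaf 0x0) (.leaf 0xf0b0a0003))))))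

def argWS_973 : Store := (.node 11037 (.node 11031 (.node 11028 (.node 11027 (.leaf 0x102020007030401030009) (.leaf 0x0)) (.node 11029 (.leaf 0xe0001) (.node 11030 (.leaf 0x0) (.leaf 0xb0a0a0003)))) (.node 11034 (.node 11032 (.leaf 0x907050206040202000701000b) (.node 11033 (.leaf 0x0) (.leaf 0xb0a0002))) (.node 11035 (.leaf 0x0) (.node 11036 (.leaf 0x2b1a002b16) (.leaf 0xd0b0b0003))))) (.node 11043 (.node 11040 (.node 11038 (.leaf 0x0) (.node 11039 (.leaf 0x0) (.leaf 0xb0b0002))) (.node 11041 (.leaf 0xe0a0002) (.node 11042 (.leaf 0xf0b0b0a0004) (.leaf 0x90003010102000008)))) (.node 11046 (.node 11044 (.leaf 0x0) (.node 11045 (.leaf 0xf0a0a0003) (.leaf 0x0))) (.node 11047 (.leaf 0x2b25002b21) (.node 11048 (.leaf 0x60000090806000802040105000c) (.leaf 0x0))))))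

def argWS_974 : Store := (.node 11026 argWS_972 argWS_973)

def argWS_975 : Store := (.node 11060 (.node 11054 (.node 11051 (.node 11050 (.leaf 0xe0a0a0003) (.leaf 0x0)) (.node 11052 (.leaf 0xe0a0002) (.node 11053 (.leaf 0x0) (.leaf 0x0)))) (.node 11057 (.node 11055 (.leaf 0x3070202090000000703040103000d) (.node 11056 (.leaf 0x0) (.leaf 0xe0001))) (.node 11058 (.leaf 0x0) (.node 11059 (.leaf 0xf0001) (.leaf 0x2b32))))) (.node 11065 (.node 11062 (.node 11061 (.leaf 0x604000207030006) (.leaf 0x0)) (.node 11063 (.leaf 0xa0f0b0003) (.node 11064 (.leaf 0x0) (.leaf 0xf0b0002)))) (.node 11068 (.node 11066 (.leaf 0x0) (.node 11067 (.leaf 0x0) (.leaf 0x90104010703060802040105000c))) (.node 11069 (.leaf 0x0) (.node 11070 (.leaf 0xb0f0002) (.leaf 0x0))))))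

def argWS_976 : Store := (.node 11082 (.node 11076 (.node 11073 (.node 11072 (.leaf 0x5020202010005) (.leaf 0x0)) (.node 11074 (.leaf 0xb0b0a0003) (.node 11075 (.leaf 0x0) (.leaf 0x403040901090006)))) (.node 11079 (.node 11077 (.leaf 0x0) (.node 11078 (.leaf 0xa0f0b0003) (.leaf 0x0))) (.node 11080 (.leaf 0x2b46002b42) (.node 11081 (.leaf 0xe0a0a0003) (.leaf 0x0))))) (.node 11088 (.node 11085 (.node 11083 (.leaf 0x80007000902000701000a) (.node 11084 (.leaf 0x0) (.leaf 0xf0b0002))) (.node 11086 (.leaf 0x10103010102000007) (.node 11087 (.leaf 0x0) (.leaf 0xb0f0002)))) (.node 11091 (.node 11089 (.leaf 0x0) (.node 11090 (.leaf 0x403040206030006) (.leaf 0x0))) (.node 11092 (.leaf 0xf0a0002) (.node 11093 (.leaf 0x0) (.leaf 0x2b54))))))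

def argWS_977 : Store := (.node 11071 argWS_975 argWS_976)

def argWS_978 : Store := (.node 11049 argWS_974 argWS_977)

def argWS_979 : Store := (.node 11105 (.node 11099 (.node 11096 (.node 11095 (.leaf 0x901040400050202000701000b) (.leaf 0x0)) (.node 11097 (.leaf 0xb0b0a0003) (.node 11098 (.leaf 0x0) (.leaf 0x0)))) (.node 11102 (.node 11100 (.leaf 0x901050206040202000701000b) (.node 11101 (.leaf 0x0) (.leaf 0x0))) (.node 11103 (.leaf 0x0) (.node 11104 (.leaf 0x107070306000703040103000b) (.leaf 0x0))))) (.node 11110 (.node 11107 (.node 11106 (.leaf 0xb0b0a0003) (.leaf 0x0)) (.node 11108 (.leaf 0x2b62002b5e) (.node 11109 (.leaf 0x800020604000703040103000b) (.leaf 0x0)))) (.node 11113 (.node 11111 (.leaf 0xb0b0a0a0004) (.node 11112 (.leaf 0x0) (.leaf 0x8000207030802040105000b))) (.node 11114 (.leaf 0x0) (.node 11115 (.leaf 0xf0a0002) (.leaf 0xa0a0002))))))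

def argWS_980 : Store := (.node 11127 (.node 11121 (.node 11118 (.node 11117 (.leaf 0x6000007000902000701000a) (.leaf 0x0)) (.node 11119 (.leaf 0xb0b0002) (.node 11120 (.leaf 0x0) (.leaf 0x2b6f)))) (.node 11124 (.node 11122 (.leaf 0x2000002090106000703040103000d) (.node 11123 (.leaf 0x0) (.leaf 0xb0a0f0003))) (.node 11125 (.leaf 0x0) (.node 11126 (.leaf 0x30700020106060007) (.leaf 0x0))))) (.node 11133 (.node 11130 (.node 11128 (.leaf 0xa0f0002) (.node 11129 (.leaf 0xe0a0002) (.leaf 0x1bf5))) (.node 11131 (.leaf 0xb0a0002) (.node 11132 (.leaf 0x0) (.leaf 0x7020900090005)))) (.node 11136 (.node 11134 (.leaf 0x0) (.node 11135 (.leaf 0xd0b0b0003) (.leaf 0xb0a0f0003))) (.node 11137 (.leaf 0x90702010606000703040103000c) (.node 11138 (.leaf 0x0) (.leaf 0x0))))))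

def argWS_981 : Store := (.node 11116 argWS_979 argWS_980)

def argWS_982 : Store := (.node 11150 (.node 11144 (.node 11141 (.node 11140 (.leaf 0x2b82) (.leaf 0x90005020202010008)) (.node 11142 (.leaf 0x0) (.node 11143 (.leaf 0xb0a0002) (.leaf 0x0)))) (.node 11147 (.node 11145 (.leaf 0x503070209020006) (.node 11146 (.leaf 0x0) (.leaf 0xf0a0a0003))) (.node 11148 (.leaf 0x50200070206000802040105000c) (.node 11149 (.leaf 0x0) (.leaf 0x0))))) (.node 11156 (.node 11153 (.node 11151 (.leaf 0x9010403010102000008) (.node 11152 (.leaf 0x0) (.leaf 0xa0a0002))) (.node 11154 (.leaf 0x0) (.node 11155 (.leaf 0x2b91002b8d) (.leaf 0x1020106060802040105000a)))) (.node 11159 (.node 11157 (.leaf 0x0) (.node 11158 (.leaf 0xd0001) (.leaf 0x0))) (.node 11160 (.leaf 0x400040400050202000701000b) (.node 11161 (.leaf 0x0) (.leaf 0xe0d0002))))))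

def argWS_983 : Store := (.node 11173 (.node 11167 (.node 11164 (.node 11163 (.leaf 0xe0a0002) (.leaf 0xf0a0002)) (.node 11165 (.leaf 0x2b9b) (.node 11166 (.leaf 0xa0a0002) (.leaf 0x0)))) (.node 11170 (.node 11168 (.leaf 0x20905020202010202000701000c) (.node 11169 (.leaf 0x0) (.leaf 0xb0a0a0003))) (.node 11171 (.leaf 0x20200020804000802040105000c) (.node 11172 (.leaf 0x0) (.leaf 0xe0a0a0003))))) (.node 11179 (.node 11176 (.node 11174 (.leaf 0x0) (.node 11175 (.leaf 0xb0f0a0003) (.leaf 0x2ba6))) (.node 11177 (.leaf 0x403040901090202000701000b) (.node 11178 (.leaf 0x0) (.leaf 0xb0f0002)))) (.node 11182 (.node 11180 (.leaf 0x0) (.node 11181 (.leaf 0xa0f0b0b0004) (.leaf 0x0))) (.node 11183 (.leaf 0x0) (.node 11184 (.leaf 0xf0b0002) (.leaf 0x5010900090005))))))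

def argWS_984 : Store := (.node 11162 argWS_982 argWS_983)

def argWS_985 : Store := (.node 11139 argWS_981 argWS_984)

def argWS_986 : Store := (.node 11094 argWS_978 argWS_985)

def argWS_987 : Store := (.node 11004 argWS_971 argWS_986)

def argWS_988 : Store := (.node 11196 (.node 11190 (.node 11187 (.node 11186 (.leaf 0x0) (.leaf 0x0)) (.node 11188 (.leaf 0x10702020900000007) (.node 11189 (.leaf 0x0) (.leaf 0xa0f0b0003)))) (.node 11193 (.node 11191 (.leaf 0x0) (.node 11192 (.leaf 0x2bb6002bb2) (.leaf 0x20103060207020703040103000c))) (.node 11194 (.leaf 0x0) (.node 11195 (.leaf 0xb0001) (.leaf 0x0))))) (.node 11201 (.node 11198 (.node 11197 (.leaf 0xb0f0a0003) (.leaf 0x0)) (.node 11199 (.leaf 0x0) (.node 11200 (.leaf 0xb0a0002) (.leaf 0x150b002bbf)))) (.node 11204 (.node 11202 (.leaf 0xf0b0002) (.node 11203 (.leaf 0x0) (.leaf 0x1040005000703040103000a))) (.node 11205 (.leaf 0x0) (.node 11206 (.leaf 0xd0b0002) (.leaf 0xb0b0a0003))))))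

def argWS_989 : Store := (.node 11218 (.node 11212 (.node 11209 (.node 11208 (.leaf 0xf0b0a0003) (.leaf 0xa0f0b0b0004)) (.node 11210 (.leaf 0x1bce002bc8) (.node 11211 (.leaf 0xb0b0a0a0004) (.leaf 0x0)))) (.node 11215 (.node 11213 (.leaf 0x0) (.node 11214 (.leaf 0x9010400050202000701000a) (.leaf 0x0))) (.node 11216 (.leaf 0xd0b0b0003) (.node 11217 (.leaf 0x0) (.leaf 0x20103070206000802040105000c))))) (.node 11224 (.node 11221 (.node 11219 (.leaf 0x0) (.node 11220 (.leaf 0xb0b0a0a0004) (.leaf 0x0))) (.node 11222 (.leaf 0xb0a0a0003) (.node 11223 (.leaf 0x2bd5002bd4) (.leaf 0x6040002010606000703040103000d)))) (.node 11227 (.node 11225 (.leaf 0x0) (.node 11226 (.leaf 0xa0a0002) (.leaf 0x0))) (.node 11228 (.leaf 0x5030900090802040105000a) (.node 11229 (.leaf 0x0) (.leaf 0xf0a0002))))))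

def argWS_990 : Store := (.node 11207 argWS_988 argWS_989)

def argWS_991 : Store := (.node 11241 (.node 11235 (.node 11232 (.node 11231 (.leaf 0x21d3) (.leaf 0xd0b0002)) (.node 11233 (.leaf 0x0) (.node 11234 (.leaf 0xf0b0b0a0a0005) (.leaf 0x0)))) (.node 11238 (.node 11236 (.leaf 0x0) (.node 11237 (.leaf 0x2090106010500020202000701000d) (.leaf 0x0))) (.node 11239 (.leaf 0xa0001) (.node 11240 (.leaf 0x0) (.leaf 0x40000090206020008))))) (.node 11246 (.node 11243 (.node 11242 (.leaf 0x0) (.leaf 0xe0001)) (.node 11244 (.leaf 0x0) (.node 11245 (.leaf 0x158a002beb) (.leaf 0xd0b0002)))) (.node 11249 (.node 11247 (.leaf 0x0) (.node 11248 (.leaf 0x300040005000703040103000b) (.leaf 0x0))) (.node 11250 (.leaf 0xe0d0002) (.node 11251 (.leaf 0x0) (.leaf 0xf0b0a0a0004))))))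

def argWS_992 : Store := (.node 11263 (.node 11257 (.node 11254 (.node 11253 (.leaf 0x8000005020202010202000701000d) (.leaf 0x0)) (.node 11255 (.leaf 0xb0b0a0a0004) (.node 11256 (.leaf 0x0) (.leaf 0x2bf7002bf3)))) (.node 11260 (.node 11258 (.leaf 0x90201010908050202000701000c) (.node 11259 (.leaf 0x0) (.leaf 0xa0001))) (.node 11261 (.leaf 0x0) (.node 11262 (.leaf 0x2090009000703040103000b) (.leaf 0x0))))) (.node 11269 (.node 11266 (.node 11264 (.leaf 0xd0b0b0003) (.node 11265 (.leaf 0x601090000090006) (.leaf 0x0))) (.node 11267 (.leaf 0xf0001) (.node 11268 (.leaf 0x0) (.leaf 0xb0a0f0003)))) (.node 11272 (.node 11270 (.leaf 0x2c04) (.node 11271 (.leaf 0x40300070009030802040105000c) (.leaf 0x0))) (.node 11273 (.leaf 0xd0b0002) (.node 11274 (.leaf 0x0) (.leaf 0xf0a0a0003))))))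

def argWS_993 : Store := (.node 11252 argWS_991 argWS_992)

def argWS_994 : Store := (.node 11230 argWS_990 argWS_993)

def argWS_995 : Store := (.node 11286 (.node 11280 (.node 11277 (.node 11276 (.leaf 0x0) (.leaf 0x0)) (.node 11278 (.leaf 0x40306010500020802040105000c) (.node 11279 (.leaf 0x0) (.leaf 0xf0b0b0003)))) (.node 11283 (.node 11281 (.leaf 0x0) (.node 11282 (.leaf 0x5030603050004000703040103000e) (.leaf 0x0))) (.node 11284 (.leaf 0xa0a0002) (.node 11285 (.leaf 0x0) (.leaf 0xb04002c14))))) (.node 11291 (.node 11288 (.node 11287 (.leaf 0x60401010703060202000701000c) (.leaf 0x0)) (.node 11289 (.leaf 0xb0001) (.node 11290 (.leaf 0x0) (.leaf 0x10106010500020007)))) (.node 11294 (.node 11292 (.leaf 0x0) (.node 11293 (.leaf 0xe0a0002) (.leaf 0x202000206030802040105000b))) (.node 11295 (.leaf 0x0) (.node 11296 (.leaf 0xf0a0002) (.leaf 0x0))))))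

def argWS_996 : Store := (.node 11308 (.node 11302 (.node 11299 (.node 11298 (.leaf 0x3050901090202000701000a) (.leaf 0x0)) (.node 11300 (.leaf 0x0) (.node 11301 (.leaf 0xa0f0002) (.leaf 0x2c24002c23)))) (.node 11305 (.node 11303 (.leaf 0xd0001) (.node 11304 (.leaf 0x0) (.leaf 0xf0b0b0a0004))) (.node 11306 (.leaf 0x0) (.node 11307 (.leaf 0x0) (.leaf 0xb0001))))) (.node 11314 (.node 11311 (.node 11309 (.leaf 0x283e) (.node 11310 (.leaf 0x20103090000090007) (.leaf 0x0))) (.node 11312 (.leaf 0xf0001) (.node 11313 (.leaf 0x0) (.leaf 0x103010400050006)))) (.node 11317 (.node 11315 (.leaf 0x0) (.node 11316 (.leaf 0xf0b0b0a0004) (.leaf 0x30403010908050007))) (.node 11318 (.leaf 0x0) (.node 11319 (.leaf 0x0) (.leaf 0x800000408010007))))))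

def argWS_997 : Store := (.node 11297 argWS_995 argWS_996)

def argWS_998 : Store := (.node 11331 (.node 11325 (.node 11322 (.node 11321 (.leaf 0x0) (.leaf 0xf0b0b0a0004)) (.node 11323 (.leaf 0x0) (.node 11324 (.leaf 0x2c3a002c36) (.leaf 0xe0001)))) (.node 11328 (.node 11326 (.leaf 0x0) (.node 11327 (.leaf 0x4030406030500040008) (.leaf 0x0))) (.node 11329 (.leaf 0xe0a0a0003) (.node 11330 (.leaf 0xf0001) (.leaf 0x10201090806000202000701000c))))) (.node 11336 (.node 11333 (.node 11332 (.leaf 0x0) (.leaf 0xb0b0a0a0004)) (.node 11334 (.leaf 0x0) (.node 11335 (.leaf 0x2c45002c41) (.leaf 0x80000050206040802040105000c)))) (.node 11339 (.node 11337 (.leaf 0x0) (.node 11338 (.leaf 0xb0001) (.leaf 0x0))) (.node 11340 (.leaf 0xf0b0b0a0a0005) (.node 11341 (.leaf 0x0) (.leaf 0x0))))))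

def argWS_999 : Store := (.node 11353 (.node 11347 (.node 11344 (.node 11343 (.leaf 0xd0b0002) (.leaf 0x90402010606000703040103000c)) (.node 11345 (.leaf 0x0) (.node 11346 (.leaf 0xf0b0b0003) (.leaf 0x0)))) (.node 11350 (.node 11348 (.leaf 0xf0a0002) (.node 11349 (.leaf 0x2c53002c52) (.leaf 0x40009020602000703040103000c))) (.node 11351 (.leaf 0x0) (.node 11352 (.leaf 0xa0a0002) (.leaf 0x0))))) (.node 11359 (.node 11356 (.node 11354 (.leaf 0x90401090805000703040103000c) (.node 11355 (.leaf 0x0) (.leaf 0xd0b0b0003))) (.node 11357 (.leaf 0xe0a0002) (.node 11358 (.leaf 0xb0b0a0a0004) (.leaf 0x2000206030005)))) (.node 11362 (.node 11360 (.leaf 0x0) (.node 11361 (.leaf 0xf0b0b0003) (.leaf 0x0))) (.node 11363 (.leaf 0x2c61) (.node 11364 (.leaf 0xb0f0a0003) (.leaf 0x0))))))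

def argWS_1000 : Store := (.node 11342 argWS_998 argWS_999)

def argWS_1001 : Store := (.node 11320 argWS_997 argWS_1000)

def argWS_1002 : Store := (.node 11275 argWS_994 argWS_1001)

def argWS_1003 : Store := (.node 11376 (.node 11370 (.node 11367 (.node 11366 (.leaf 0x9030003080005) (.leaf 0x0)) (.node 11368 (.leaf 0xf0a0002) (.node 11369 (.leaf 0xf0b0a0a0004) (.leaf 0xb0f0002)))) (.node 11373 (.node 11371 (.leaf 0x2000209080600000703040103000d) (.node 11372 (.leaf 0x0) (.leaf 0x0))) (.node 11374 (.leaf 0x2c6c002c69) (.node 11375 (.leaf 0xf0b0b0a0a0005) (.leaf 0x0))))) (.node 11381 (.node 11378 (.node 11377 (.leaf 0x50201010908050007) (.leaf 0x0)) (.node 11379 (.leaf 0xa0f0002) (.node 11380 (.leaf 0x209010908050202000701000b) (.leaf 0x0)))) (.node 11384 (.node 11382 (.leaf 0xb0a0a0003) (.node 11383 (.leaf 0x0) (.leaf 0xe0a0002))) (.node 11385 (.leaf 0x2c77) (.node 11386 (.leaf 0xf0b0a0003) (.leaf 0x0))))))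

def argWS_1004 : Store := (.node 11398 (.node 11392 (.node 11389 (.node 11388 (.leaf 0x903010102000006) (.leaf 0x0)) (.node 11390 (.leaf 0xe0a0002) (.node 11391 (.leaf 0xb0a0002) (.leaf 0xf0001)))) (.node 11395 (.node 11393 (.leaf 0x2c7f) (.node 11394 (.leaf 0xb0a0002) (.leaf 0x0))) (.node 11396 (.leaf 0xd0001) (.node 11397 (.leaf 0x0) (.leaf 0x0))))) (.node 11404 (.node 11401 (.node 11399 (.leaf 0xd0b0b0003) (.node 11400 (.leaf 0x6010202090106000703040103000d) (.leaf 0x0))) (.node 11402 (.leaf 0xf0b0002) (.node 11403 (.leaf 0x0) (.leaf 0x2c8a0019ec)))) (.node 11407 (.node 11405 (.leaf 0xb0f0a0003) (.node 11406 (.leaf 0x0) (.leaf 0xa0f0002))) (.node 11408 (.leaf 0x0) (.node 11409 (.leaf 0x0) (.leaf 0xf0b0a0003))))))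

def argWS_1005 : Store := (.node 11387 argWS_1003 argWS_1004)

def argWS_1006 : Store := (.node 11421 (.node 11415 (.node 11412 (.node 11411 (.leaf 0x2c91) (.leaf 0x70101010703060202000701000c)) (.node 11413 (.leaf 0x0) (.node 11414 (.leaf 0xf0b0a0003) (.leaf 0x0)))) (.node 11418 (.node 11416 (.leaf 0x40304070206000802040105000c) (.node 11417 (.leaf 0x0) (.leaf 0xd0b0002))) (.node 11419 (.leaf 0xb0b0a0003) (.node 11420 (.leaf 0x8000403080202000701000a) (.leaf 0x0))))) (.node 11426 (.node 11423 (.node 11422 (.leaf 0xb0f0a0a0004) (.leaf 0x0)) (.node 11424 (.leaf 0x102010400050006) (.node 11425 (.leaf 0x0) (.leaf 0xf0b0b0a0a0005)))) (.node 11429 (.node 11427 (.leaf 0x0) (.node 11428 (.leaf 0xb0a0a0003) (.leaf 0x2ca3002ca2))) (.node 11430 (.leaf 0xd0b0b0003) (.node 11431 (.leaf 0x0) (.leaf 0xf0b0b0003))))))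

def argWS_1007 : Store := (.node 11443 (.node 11437 (.node 11434 (.node 11433 (.leaf 0x0) (.leaf 0x0)) (.node 11435 (.leaf 0x90707020902000703040103000c) (.node 11436 (.leaf 0x0) (.leaf 0xa0f0002)))) (.node 11440 (.node 11438 (.leaf 0x0) (.node 11439 (.leaf 0x7020600000703040103000a) (.leaf 0x0))) (.node 11441 (.leaf 0xf0b0a0a0004) (.node 11442 (.leaf 0x0) (.leaf 0xf0b0a0003))))) (.node 11449 (.node 11446 (.node 11444 (.leaf 0x2cb2002cb1) (.node 11445 (.leaf 0x3010904020202000701000a) (.leaf 0x0))) (.node 11447 (.leaf 0xb0b0a0a0004) (.node 11448 (.leaf 0x0) (.leaf 0x204010900090202000701000b)))) (.node 11452 (.node 11450 (.leaf 0x0) (.node 11451 (.leaf 0xe0a0002) (.leaf 0x8030002020900000008))) (.node 11453 (.leaf 0x0) (.node 11454 (.leaf 0xb0b0a0a0004) (.leaf 0x0))))))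

def argWS_1008 : Store := (.node 11432 argWS_1006 argWS_1007)

def argWS_1009 : Store := (.node 11410 argWS_1005 argWS_1008)

def argWS_1010 : Store := (.node 11466 (.node 11460 (.node 11457 (.node 11456 (.leaf 0x7020207030802040105000a) (.leaf 0x0)) (.node 11458 (.leaf 0xf0b0a0003) (.node 11459 (.leaf 0x0) (.leaf 0x2cc2)))) (.node 11463 (.node 11461 (.leaf 0xe0001) (.node 11462 (.leaf 0x0) (.leaf 0x0))) (.node 11464 (.leaf 0xa0f0b0003) (.node 11465 (.leaf 0xb0b0a0a0004) (.leaf 0x2cc8))))) (.node 11471 (.node 11468 (.node 11467 (.leaf 0x60200070009030007) (.leaf 0x0)) (.node 11469 (.leaf 0xb0f0002) (.node 11470 (.leaf 0x0) (.leaf 0xb0a0002)))) (.node 11474 (.node 11472 (.leaf 0x3030604000703040103000d) (.node 11473 (.leaf 0x0) (.leaf 0x0))) (.node 11475 (.leaf 0x20003010102000802040105000c) (.node 11476 (.leaf 0x0) (.leaf 0x0))))))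

def argWS_1011 : Store := (.node 11488 (.node 11482 (.node 11479 (.node 11478 (.leaf 0x2cd4002cd1) (.leaf 0xf0a0002)) (.node 11480 (.leaf 0x0) (.node 11481 (.leaf 0x6040101070306000703040103000d) (.leaf 0x0)))) (.node 11485 (.node 11483 (.leaf 0xb0b0a0003) (.node 11484 (.leaf 0xd0b0002) (.leaf 0x70207020600000703040103000c))) (.node 11486 (.leaf 0x0) (.node 11487 (.leaf 0xf0001) (.leaf 0x0))))) (.node 11494 (.node 11491 (.node 11489 (.leaf 0x9020900000005) (.node 11490 (.leaf 0x0) (.leaf 0xe0d0002))) (.node 11492 (.leaf 0x0) (.node 11493 (.leaf 0x2ce3) (.leaf 0x40002080400000703040103000d)))) (.node 11497 (.node 11495 (.leaf 0x0) (.node 11496 (.leaf 0xf0b0a0003) (.leaf 0x0))) (.node 11498 (.leaf 0x90002) (.node 11499 (.leaf 0x0) (.leaf 0xf0b0002))))))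

def argWS_1012 : Store := (.node 11477 argWS_1010 argWS_1011)

def argWS_1013 : Store := (.node 11511 (.node 11505 (.node 11502 (.node 11501 (.leaf 0x3040400050005) (.leaf 0x0)) (.node 11503 (.leaf 0x0) (.node 11504 (.leaf 0x4040206020007010008) (.leaf 0x0)))) (.node 11508 (.node 11506 (.leaf 0xf0b0002) (.node 11507 (.leaf 0x0) (.leaf 0x2cf2002cee))) (.node 11509 (.leaf 0x1020901060005) (.node 11510 (.leaf 0x0) (.leaf 0xb0f0a0003))))) (.node 11517 (.node 11514 (.node 11512 (.leaf 0x0) (.node 11513 (.leaf 0x4030406030500040008) (.leaf 0x0))) (.node 11515 (.leaf 0xe0a0a0003) (.node 11516 (.leaf 0xd0001) (.leaf 0x3070908050802040105000a)))) (.node 11520 (.node 11518 (.leaf 0x0) (.node 11519 (.leaf 0xa0001) (.leaf 0x0))) (.node 11521 (.leaf 0x2cff) (.node 11522 (.leaf 0x101010908050006) (.leaf 0x0))))))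

def argWS_1014 : Store := (.node 11534 (.node 11528 (.node 11525 (.node 11524 (.leaf 0xe0a0002) (.leaf 0x0)) (.node 11526 (.leaf 0xa0f0b0003) (.node 11527 (.leaf 0x0) (.leaf 0x0)))) (.node 11531 (.node 11529 (.leaf 0x70109080600000703040103000c) (.node 11530 (.leaf 0x0) (.leaf 0xf0a0a0003))) (.node 11532 (.leaf 0x0) (.node 11533 (.leaf 0x103010603050004000703040103000e) (.leaf 0x0))))) (.node 11540 (.node 11537 (.node 11535 (.leaf 0x0) (.node 11536 (.leaf 0x404020603000703040103000b) (.leaf 0x0))) (.node 11538 (.leaf 0xb0001) (.node 11539 (.leaf 0x0) (.leaf 0x2d12002d0e)))) (.node 11543 (.node 11541 (.leaf 0xb0f0002) (.node 11542 (.leaf 0x0) (.leaf 0xb0f0a0a0004))) (.node 11544 (.leaf 0x0) (.node 11545 (.leaf 0x0) (.leaf 0xa0001))))))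

def argWS_1015 : Store := (.node 11523 argWS_1013 argWS_1014)

def argWS_1016 : Store := (.node 11500 argWS_1012 argWS_1015)

def argWS_1017 : Store := (.node 11455 argWS_1009 argWS_1016)

def argWS_1018 : Store := (.node 11365 argWS_1002 argWS_1017)

def argWS_1019 : Store := (.node 11185 argWS_987 argWS_1018)

def argWS_1020 : Store := (.node 10824 argWS_956 argWS_1019)

def argWS_1021 : Store := (.node 10102 argWS_893 argWS_1020)

def argWS_1022 : Store := (.node 8659 argWS_766 argWS_1021)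

def argWS_1023 : Store := (.node 5773 argWS_511 argWS_1022)

def argWS_1024 : Store := (.node 11557 (.node 11551 (.node 11548 (.node 11547 (.leaf 0xe0d0002) (.leaf 0x9070000000300000008)) (.node 11549 (.leaf 0x0) (.node 11550 (.leaf 0xb0a0a0003) (.leaf 0x0)))) (.node 11554 (.node 11552 (.leaf 0x2d1e002d1a) (.node 11553 (.leaf 0xb0b0a0a0004) (.leaf 0x0))) (.node 11555 (.leaf 0xf0b0a0a0004) (.node 11556 (.leaf 0x0) (.leaf 0x0))))) (.node 11562 (.node 11559 (.node 11558 (.leaf 0xe0a0a0003) (.leaf 0x109080502020007010009)) (.node 11560 (.leaf 0x0) (.node 11561 (.leaf 0x0) (.leaf 0x70101040005000703040103000c)))) (.node 11565 (.node 11563 (.leaf 0x0) (.node 11564 (.leaf 0xd0b0b0003) (.leaf 0x0))) (.node 11566 (.leaf 0x2d2c002d28) (.node 11567 (.leaf 0x1020102000003010802040105000d) (.leaf 0x0))))))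

def argWS_1025 : Store := (.node 11579 (.node 11573 (.node 11570 (.node 11569 (.leaf 0x0) (.leaf 0xf0b0b0a0004)) (.node 11571 (.leaf 0x0) (.node 11572 (.leaf 0x0) (.leaf 0x900090206020802040105000b)))) (.node 11576 (.node 11574 (.leaf 0x0) (.node 11575 (.leaf 0xf0a0a0003) (.leaf 0x0))) (.node 11577 (.leaf 0x29c9) (.node 11578 (.leaf 0x403050206040006) (.leaf 0x0))))) (.node 11585 (.node 11582 (.node 11580 (.leaf 0xb0f0002) (.node 11581 (.leaf 0x0) (.leaf 0x7010102020007010008))) (.node 11583 (.leaf 0x0) (.node 11584 (.leaf 0xb0a0002) (.leaf 0xb0b0a0a0004)))) (.node 11588 (.node 11586 (.leaf 0x8020703060802040105000a) (.node 11587 (.leaf 0x0) (.leaf 0xf0b0b0a0004))) (.node 11589 (.leaf 0x0) (.node 11590 (.leaf 0x2d44) (.leaf 0x20903000408010802040105000c))))))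

def argWS_1026 : Store := (.node 11568 argWS_1024 argWS_1025)

def argWS_1027 : Store := (.node 11602 (.node 11596 (.node 11593 (.node 11592 (.leaf 0x0) (.leaf 0xd0b0002)) (.node 11594 (.leaf 0x0) (.node 11595 (.leaf 0x50206010500020007) (.leaf 0x0)))) (.node 11599 (.node 11597 (.leaf 0xa0f0b0003) (.node 11598 (.leaf 0x40003050206040007) (.leaf 0x0))) (.node 11600 (.leaf 0xf0b0b0003) (.node 11601 (.leaf 0x0) (.leaf 0xb0a0f0003))))) (.node 11607 (.node 11604 (.node 11603 (.leaf 0x2d51002d50) (.leaf 0xf0b0b0a0004)) (.node 11605 (.leaf 0x0) (.node 11606 (.leaf 0x4000502020007010009) (.leaf 0x0)))) (.node 11610 (.node 11608 (.leaf 0xb0b0a0003) (.node 11609 (.leaf 0xd0b0002) (.leaf 0xd0b0b0003))) (.node 11611 (.leaf 0x2d59) (.node 11612 (.leaf 0xb0f0a0a0004) (.leaf 0x0))))))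

def argWS_1028 : Store := (.node 11624 (.node 11618 (.node 11615 (.node 11614 (.leaf 0xb0a0002) (.leaf 0x0)) (.node 11616 (.leaf 0x0) (.node 11617 (.leaf 0x9070003010102000008) (.leaf 0x0)))) (.node 11621 (.node 11619 (.leaf 0x0) (.node 11620 (.leaf 0x0) (.leaf 0xb0b0a0003))) (.node 11622 (.leaf 0x2d64002d63) (.node 11623 (.leaf 0xb0a0002) (.leaf 0x0))))) (.node 11630 (.node 11627 (.node 11625 (.leaf 0xb0a0f0003) (.node 11626 (.leaf 0x0) (.leaf 0x0))) (.node 11628 (.leaf 0xf0b0b0a0a0005) (.node 11629 (.leaf 0x104010703060202000701000b) (.leaf 0x0)))) (.node 11633 (.node 11631 (.leaf 0xf0a0002) (.node 11632 (.leaf 0x0) (.leaf 0x10202010703060202000701000c))) (.node 11634 (.leaf 0x0) (.node 11635 (.leaf 0xf0b0002) (.leaf 0x0))))))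

def argWS_1029 : Store := (.node 11613 argWS_1027 argWS_1028)

def argWS_1030 : Store := (.node 11591 argWS_1026 argWS_1029)

def argWS_1031 : Store := (.node 11647 (.node 11641 (.node 11638 (.node 11637 (.leaf 0x2d73002d6f) (.leaf 0xf0b0b0a0a0005)) (.node 11639 (.leaf 0x0) (.node 11640 (.leaf 0x40205020106060202000701000c) (.leaf 0x0)))) (.node 11644 (.node 11642 (.leaf 0xa0a0002) (.node 11643 (.leaf 0xa0001) (.leaf 0x30308020401050007))) (.node 11645 (.leaf 0x0) (.node 11646 (.leaf 0xb0a0a0003) (.leaf 0x0))))) (.node 11652 (.node 11649 (.node 11648 (.leaf 0xd0b0b0003) (.leaf 0x2d7f002d7e)) (.node 11650 (.leaf 0xf0b0b0003) (.node 11651 (.leaf 0x0) (.leaf 0x2020000020804000802040105000d)))) (.node 11655 (.node 11653 (.leaf 0x0) (.node 11654 (.leaf 0xb0f0a0003) (.leaf 0x6030106020702010802040105000d))) (.node 11656 (.leaf 0x0) (.node 11657 (.leaf 0xf0b0a0003) (.leaf 0x0))))))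

def argWS_1032 : Store := (.node 11669 (.node 11663 (.node 11660 (.node 11659 (.leaf 0xa0001) (.leaf 0xd0001)) (.node 11661 (.leaf 0x2d8b002d8a) (.node 11662 (.leaf 0xb0a0f0003) (.leaf 0x0)))) (.node 11666 (.node 11664 (.leaf 0xb0f0a0a0004) (.node 11665 (.leaf 0x0) (.leaf 0x0))) (.node 11667 (.leaf 0x7020102020007010008) (.node 11668 (.leaf 0x0) (.leaf 0x0))))) (.node 11675 (.node 11672 (.node 11670 (.leaf 0x306020702010007) (.node 11671 (.leaf 0x0) (.leaf 0xb0a0f0003))) (.node 11673 (.leaf 0x0) (.node 11674 (.leaf 0x2d98002d94) (.leaf 0x403000207030802040105000b)))) (.node 11678 (.node 11676 (.leaf 0x0) (.node 11677 (.leaf 0xb0001) (.leaf 0x0))) (.node 11679 (.leaf 0xe0001) (.node 11680 (.leaf 0x0) (.leaf 0xf0b0a0003))))))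

def argWS_1033 : Store := (.node 11658 argWS_1031 argWS_1032)

def argWS_1034 : Store := (.node 11692 (.node 11686 (.node 11683 (.node 11682 (.leaf 0x1090603000703040103000a) (.leaf 0x0)) (.node 11684 (.leaf 0xa0f0002) (.node 11685 (.leaf 0x0) (.leaf 0x2da4000a99)))) (.node 11689 (.node 11687 (.leaf 0xf0b0b0a0a0005) (.node 11688 (.leaf 0x0) (.leaf 0xb0f0002))) (.node 11690 (.leaf 0x0) (.node 11691 (.leaf 0x0) (.leaf 0x23f8))))) (.node 11697 (.node 11694 (.node 11693 (.leaf 0xb0a0002) (.leaf 0x0)) (.node 11695 (.leaf 0xf0b0b0a0a0005) (.node 11696 (.leaf 0x0) (.leaf 0x0)))) (.node 11700 (.node 11698 (.leaf 0x80004090806000007) (.node 11699 (.leaf 0x0) (.leaf 0xd0001))) (.node 11701 (.leaf 0x0) (.node 11702 (.leaf 0x704020901060802040105000b) (.leaf 0x0))))))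

def argWS_1035 : Store := (.node 11714 (.node 11708 (.node 11705 (.node 11704 (.leaf 0xb0f0a0a0004) (.leaf 0x0)) (.node 11706 (.leaf 0x200020207030006) (.node 11707 (.leaf 0x0) (.leaf 0xb0001)))) (.node 11711 (.node 11709 (.leaf 0x0) (.node 11710 (.leaf 0x2dbc002db8) (.leaf 0x1030000020804000202000701000d))) (.node 11712 (.leaf 0x0) (.node 11713 (.leaf 0xb0a0002) (.leaf 0x0))))) (.node 11720 (.node 11717 (.node 11715 (.leaf 0x401090000090202000701000b) (.node 11716 (.leaf 0x0) (.leaf 0xf0b0a0a0004))) (.node 11718 (.leaf 0x0) (.node 11719 (.leaf 0x80101020901060202000701000c) (.leaf 0x0)))) (.node 11723 (.node 11721 (.leaf 0x0) (.node 11722 (.leaf 0x2dc8002dc5) (.leaf 0xb0b0a0a0004))) (.node 11724 (.leaf 0x0) (.node 11725 (.leaf 0x5000000030306040802040105000d) (.leaf 0x0))))))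

def argWS_1036 : Store := (.node 11703 argWS_1034 argWS_1035)

def argWS_1037 : Store := (.node 11681 argWS_1033 argWS_1036)

def argWS_1038 : Store := (.node 11636 argWS_1030 argWS_1037)

def argWS_1039 : Store := (.node 11737 (.node 11731 (.node 11728 (.node 11727 (.leaf 0xd0b0b0003) (.leaf 0x40004010904020802040105000c)) (.node 11729 (.leaf 0x0) (.node 11730 (.leaf 0xf0001) (.leaf 0x0)))) (.node 11734 (.node 11732 (.leaf 0x300070009020007010009) (.node 11733 (.leaf 0x0) (.leaf 0xd0001))) (.node 11735 (.leaf 0x0) (.node 11736 (.leaf 0x2dd6002dd2) (.leaf 0xb0f0a0a0004))))) (.node 11742 (.node 11739 (.node 11738 (.leaf 0x0) (.leaf 0xb0001)) (.node 11740 (.leaf 0x0) (.node 11741 (.leaf 0x0) (.leaf 0x700040807030401030009)))) (.node 11745 (.node 11743 (.leaf 0x0) (.node 11744 (.leaf 0xa0f0b0b0004) (.leaf 0x0))) (.node 11746 (.leaf 0xa0a0002) (.node 11747 (.leaf 0xb0001) (.leaf 0x0))))))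

def argWS_1040 : Store := (.node 11759 (.node 11753 (.node 11750 (.node 11749 (.leaf 0x2de3002de1) (.leaf 0x204030009020602000703040103000e)) (.node 11751 (.leaf 0x0) (.node 11752 (.leaf 0xb0f0002) (.leaf 0x0)))) (.node 11756 (.node 11754 (.leaf 0x8010103080202000701000a) (.node 11755 (.leaf 0x0) (.leaf 0xd0001))) (.node 11757 (.leaf 0xb0a0002) (.node 11758 (.leaf 0xb0f0a0003) (.leaf 0xf0b0b0003))))) (.node 11765 (.node 11762 (.node 11760 (.leaf 0x903010102000802040105000b) (.node 11761 (.leaf 0x0) (.leaf 0xf0b0b0003))) (.node 11763 (.leaf 0x0) (.node 11764 (.leaf 0x2df2002dee) (.leaf 0x601050002000703040103000c)))) (.node 11768 (.node 11766 (.leaf 0x0) (.node 11767 (.leaf 0xa0a0002) (.leaf 0x0))) (.node 11769 (.leaf 0x0) (.node 11770 (.leaf 0x2070206000202000701000b) (.leaf 0x0))))))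

def argWS_1041 : Store := (.node 11748 argWS_1039 argWS_1040)

def argWS_1042 : Store := (.node 11782 (.node 11776 (.node 11773 (.node 11772 (.leaf 0x0) (.leaf 0x704020901060802040105000b)) (.node 11774 (.leaf 0x0) (.node 11775 (.leaf 0xb0f0002) (.leaf 0x0)))) (.node 11779 (.node 11777 (.leaf 0x60103010102000202000701000c) (.node 11778 (.leaf 0x0) (.leaf 0xa0a0002))) (.node 11780 (.leaf 0x0) (.node 11781 (.leaf 0x2e03002dff) (.leaf 0xf0a0a0003))))) (.node 11787 (.node 11784 (.node 11783 (.leaf 0x0) (.leaf 0xb0a0a0003)) (.node 11785 (.leaf 0x0) (.node 11786 (.leaf 0x0) (.leaf 0x5000300000202000701000a)))) (.node 11790 (.node 11788 (.leaf 0x0) (.node 11789 (.leaf 0xb0001) (.leaf 0x0))) (.node 11791 (.leaf 0x705090009000703040103000b) (.node 11792 (.leaf 0x0) (.leaf 0xd0b0002))))))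

def argWS_1043 : Store := (.node 11804 (.node 11798 (.node 11795 (.node 11794 (.leaf 0x0) (.leaf 0x206010703060202000701000b)) (.node 11796 (.leaf 0x0) (.node 11797 (.leaf 0xb0a0f0003) (.leaf 0x0)))) (.node 11801 (.node 11799 (.leaf 0x2e15002e11) (.node 11800 (.leaf 0xa0001) (.leaf 0x0))) (.node 11802 (.leaf 0xf0b0b0a0004) (.node 11803 (.leaf 0x0) (.leaf 0x0))))) (.node 11810 (.node 11807 (.node 11805 (.leaf 0x10700020603000703040103000c) (.node 11806 (.leaf 0x0) (.leaf 0xb0a0f0003))) (.node 11808 (.leaf 0x0) (.node 11809 (.leaf 0x800000003030604000703040103000e) (.leaf 0x0)))) (.node 11813 (.node 11811 (.leaf 0xf0b0a0003) (.node 11812 (.leaf 0x0) (.leaf 0x2e23))) (.node 11814 (.leaf 0xa0f0002) (.node 11815 (.leaf 0x0) (.leaf 0x20901070209020802040105000c))))))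

def argWS_1044 : Store := (.node 11793 argWS_1042 argWS_1043)

def argWS_1045 : Store := (.node 11771 argWS_1041 argWS_1044)

def argWS_1046 : Store := (.node 11827 (.node 11821 (.node 11818 (.node 11817 (.leaf 0x0) (.leaf 0xe0a0a0003)) (.node 11819 (.leaf 0x20105020604000703040103000c) (.node 11820 (.leaf 0x0) (.leaf 0x0)))) (.node 11824 (.node 11822 (.leaf 0x3070207020007010008) (.node 11823 (.leaf 0x0) (.leaf 0x0))) (.node 11825 (.leaf 0x60301020106060202000701000c) (.node 11826 (.leaf 0x0) (.leaf 0xb0f0a0003))))) (.node 11832 (.node 11829 (.node 11828 (.leaf 0x0) (.leaf 0x2e33002e2f)) (.node 11830 (.leaf 0x40406020702010802040105000c) (.node 11831 (.leaf 0x0) (.leaf 0xf0b0a0a0004)))) (.node 11835 (.node 11833 (.leaf 0x0) (.node 11834 (.leaf 0x3040305020202010202000701000d) (.leaf 0x0))) (.node 11836 (.leaf 0xf0b0002) (.node 11837 (.leaf 0xf0b0b0a0004) (.leaf 0x603010102000802040105000b))))))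

def argWS_1047 : Store := (.node 11849 (.node 11843 (.node 11840 (.node 11839 (.leaf 0x0) (.leaf 0xf0b0002)) (.node 11841 (.leaf 0x0) (.node 11842 (.leaf 0x2e40002e3c) (.leaf 0xf0b0002)))) (.node 11846 (.node 11844 (.leaf 0x0) (.node 11845 (.leaf 0xd0b0b0003) (.leaf 0x0))) (.node 11847 (.leaf 0x0) (.node 11848 (.leaf 0x600020901060802040105000b) (.leaf 0x0))))) (.node 11855 (.node 11852 (.node 11850 (.leaf 0xa0a0002) (.node 11851 (.leaf 0x0) (.leaf 0x30101090402000703040103000c))) (.node 11853 (.leaf 0x0) (.node 11854 (.leaf 0xb0f0002) (.leaf 0x0)))) (.node 11858 (.node 11856 (.leaf 0x2e4e) (.node 11857 (.leaf 0x6000009080600000703040103000d) (.leaf 0x0))) (.node 11859 (.leaf 0xb0001) (.node 11860 (.leaf 0x0) (.leaf 0xf0a0a0003))))))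

def argWS_1048 : Store := (.node 11838 argWS_1046 argWS_1047)

def argWS_1049 : Store := (.node 11872 (.node 11866 (.node 11863 (.node 11862 (.leaf 0xf0b0b0a0004) (.leaf 0xb0b0a0a0004)) (.node 11864 (.leaf 0x804000007030401030009) (.node 11865 (.leaf 0x0) (.leaf 0xf0a0002)))) (.node 11869 (.node 11867 (.leaf 0x0) (.node 11868 (.leaf 0x2e5a002e56) (.leaf 0x40304010908050802040105000c))) (.node 11870 (.leaf 0x0) (.node 11871 (.leaf 0xb0a0a0003) (.leaf 0x0))))) (.node 11877 (.node 11874 (.node 11873 (.leaf 0x700020804000202000701000c) (.leaf 0x0)) (.node 11875 (.leaf 0xb0b0a0a0004) (.node 11876 (.leaf 0xb0f0002) (.leaf 0xb0b0002)))) (.node 11880 (.node 11878 (.leaf 0x2e64) (.node 11879 (.leaf 0xa0f0002) (.leaf 0x0))) (.node 11881 (.leaf 0xb0b0a0003) (.node 11882 (.leaf 0x0) (.leaf 0x0))))))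

def argWS_1050 : Store := (.node 11894 (.node 11888 (.node 11885 (.node 11884 (.leaf 0xf0b0b0003) (.leaf 0x10209000009000703040103000c)) (.node 11886 (.leaf 0x0) (.node 11887 (.leaf 0xd0b0b0003) (.leaf 0x0)))) (.node 11891 (.node 11889 (.leaf 0xf0b0a0003) (.node 11890 (.leaf 0x2e70002e6f) (.leaf 0x20000020106060007))) (.node 11892 (.leaf 0x0) (.node 11893 (.leaf 0xa0a0002) (.leaf 0xf0b0a0003))))) (.node 11900 (.node 11897 (.node 11895 (.leaf 0x6000408010006) (.node 11896 (.leaf 0x0) (.leaf 0x0))) (.node 11898 (.leaf 0xd0b0002) (.node 11899 (.leaf 0x2e79002e78) (.leaf 0xf0a0002)))) (.node 11903 (.node 11901 (.leaf 0x0) (.node 11902 (.leaf 0xa0001) (.leaf 0x0))) (.node 11904 (.leaf 0x0) (.node 11905 (.leaf 0xb0f0002) (.leaf 0xb0a0002))))))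

def argWS_1051 : Store := (.node 11883 argWS_1049 argWS_1050)

def argWS_1052 : Store := (.node 11861 argWS_1048 argWS_1051)

def argWS_1053 : Store := (.node 11816 argWS_1045 argWS_1052)

def argWS_1054 : Store := (.node 11726 argWS_1038 argWS_1053)

def argWS_1055 : Store := (.node 11917 (.node 11911 (.node 11908 (.node 11907 (.leaf 0x2000502020007010008) (.leaf 0x0)) (.node 11909 (.leaf 0x0) (.node 11910 (.leaf 0x2e84002e81) (.leaf 0x9010207030005)))) (.node 11914 (.node 11912 (.leaf 0x0) (.node 11913 (.leaf 0xa0a0002) (.leaf 0x0))) (.node 11915 (.leaf 0x2020200090206020802040105000d) (.node 11916 (.leaf 0x0) (.leaf 0xd0b0b0003))))) (.node 11922 (.node 11919 (.node 11918 (.leaf 0x402050004080703040103000b) (.leaf 0x0)) (.node 11920 (.leaf 0xb0b0a0a0004) (.node 11921 (.leaf 0x0) (.leaf 0x6050103010102000008)))) (.node 11925 (.node 11923 (.leaf 0x0) (.node 11924 (.leaf 0xd0b0b0003) (.leaf 0x0))) (.node 11926 (.leaf 0x2e94) (.node 11927 (.leaf 0x200000004080703040103000b)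 (.leaf 0x0))))))

def argWS_1056 : Store := (.node 11939 (.node 11933 (.node 11930 (.node 11929 (.leaf 0xe0001) (.leaf 0x0)) (.node 11931 (.leaf 0x80004000408010007) (.node 11932 (.leaf 0x0) (.leaf 0xa0f0b0003)))) (.node 11936 (.node 11934 (.leaf 0x60002020900000008) (.node 11935 (.leaf 0x0) (.leaf 0xb0a0f0003))) (.node 11937 (.leaf 0x0) (.node 11938 (.leaf 0x906030802020007010009) (.leaf 0x0))))) (.node 11945 (.node 11942 (.node 11940 (.leaf 0xf0a0002) (.node 11941 (.leaf 0x0) (.leaf 0x90201010904020802040105000c))) (.node 11943 (.leaf 0x0) (.node 11944 (.leaf 0xf0a0002) (.leaf 0x0)))) (.node 11948 (.node 11946 (.leaf 0x2ea8002ea4) (.node 11947 (.leaf 0xa0f0b0003) (.leaf 0x0))) (.node 11949 (.leaf 0x20406010500020202000701000c) (.node 11950 (.leaf 0x0) (.leaf 0xb0b0a0003))))))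

def argWS_1057 : Store := (.node 11928 argWS_1055 argWS_1056)

def argWS_1058 : Store := (.node 11962 (.node 11956 (.node 11953 (.node 11952 (.leaf 0xe0d0002) (.leaf 0x1070308020401050008)) (.node 11954 (.leaf 0x0) (.node 11955 (.leaf 0x0) (.leaf 0x2eb2)))) (.node 11959 (.node 11957 (.leaf 0x6000000020804000802040105000d) (.node 11958 (.leaf 0x0) (.leaf 0xa0a0002))) (.node 11960 (.leaf 0x0) (.node 11961 (.leaf 0x8030005020202010202000701000d) (.leaf 0x0))))) (.node 11967 (.node 11964 (.node 11963 (.leaf 0xa0001) (.leaf 0x304000502020007010009)) (.node 11965 (.leaf 0x0) (.node 11966 (.leaf 0xf0b0b0a0a0005) (.leaf 0x0)))) (.node 11970 (.node 11968 (.leaf 0xb0f0002) (.node 11969 (.leaf 0x1030006030500040202000701000d) (.leaf 0x0))) (.node 11971 (.leaf 0xf0b0b0a0004) (.node 11972 (.leaf 0x0) (.leaf 0x2ec3002ebf))))))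

def argWS_1059 : Store := (.node 11984 (.node 11978 (.node 11975 (.node 11974 (.leaf 0x102000007030401030009) (.leaf 0x0)) (.node 11976 (.leaf 0xb0a0002) (.node 11977 (.leaf 0x0) (.leaf 0xe0a0002)))) (.node 11981 (.node 11979 (.leaf 0x0) (.node 11980 (.leaf 0x0) (.leaf 0xe0d0002))) (.node 11982 (.leaf 0x9010202090000000703040103000d) (.node 11983 (.leaf 0x0) (.leaf 0x0))))) (.node 11990 (.node 11987 (.node 11985 (.leaf 0x2ecf0011c8) (.node 11986 (.leaf 0xb0a0002) (.leaf 0x0))) (.node 11988 (.leaf 0x60006030500040008) (.node 11989 (.leaf 0x0) (.leaf 0xa0f0002)))) (.node 11993 (.node 11991 (.leaf 0xf0b0a0003) (.node 11992 (.leaf 0x7010601050002000703040103000d) (.leaf 0x0))) (.node 11994 (.leaf 0xf0b0002) (.node 11995 (.leaf 0x0) (.leaf 0xf0b0002))))))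

def argWS_1060 : Store := (.node 11973 argWS_1058 argWS_1059)

def argWS_1061 : Store := (.node 11951 argWS_1057 argWS_1060)

def argWS_1062 : Store := (.node 12007 (.node 12001 (.node 11998 (.node 11997 (.leaf 0xa0f0b0b0004) (.leaf 0x2edc002edb)) (.node 11999 (.leaf 0x3030802020007010009) (.node 12000 (.leaf 0x0) (.leaf 0xb0001)))) (.node 12004 (.node 12002 (.leaf 0x0) (.node 12003 (.leaf 0x6000900090005) (.leaf 0x0))) (.node 12005 (.leaf 0xf0b0b0003) (.node 12006 (.leaf 0x7020901060006) (.leaf 0x0))))) (.node 12012 (.node 12009 (.node 12008 (.leaf 0x0) (.leaf 0xa0f0b0b0004)) (.node 12010 (.leaf 0x2ee8002ee7) (.node 12011 (.leaf 0x60207020007010008) (.leaf 0x0)))) (.node 12015 (.node 12013 (.leaf 0xf0b0a0a0004) (.node 12014 (.leaf 0x0) (.leaf 0x602000900090006))) (.node 12016 (.leaf 0x0) (.node 12017 (.leaf 0xa0f0b0003) (.leaf 0xf0b0a0003))))))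

def argWS_1063 : Store := (.node 12029 (.node 12023 (.node 12020 (.node 12019 (.leaf 0xa0a0002) (.leaf 0x2ef200128e)) (.node 12021 (.leaf 0x907020901060006) (.node 12022 (.leaf 0x0) (.leaf 0xb0f0a0a0004)))) (.node 12026 (.node 12024 (.leaf 0x0) (.node 12025 (.leaf 0x306030007030401030009) (.leaf 0x0))) (.node 12027 (.leaf 0xd0001) (.node 12028 (.leaf 0x80200050202020703040103000c) (.leaf 0x0))))) (.node 12035 (.node 12032 (.node 12030 (.leaf 0xd0b0002) (.node 12031 (.leaf 0x0) (.leaf 0xb0001))) (.node 12033 (.leaf 0x2eff) (.node 12034 (.leaf 0x900090206020802040105000b) (.leaf 0x0)))) (.node 12038 (.node 12036 (.leaf 0xb0f0a0003) (.node 12037 (.leaf 0x0) (.leaf 0xa0001))) (.node 12039 (.leaf 0x0) (.node 12040 (.leaf 0x0) (.leaf 0xe0d0002))))))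

def argWS_1064 : Store := (.node 12018 argWS_1062 argWS_1063)

def argWS_1065 : Store := (.node 12052 (.node 12046 (.node 12043 (.node 12042 (.leaf 0x60506010500020007) (.leaf 0x0)) (.node 12044 (.leaf 0x0) (.node 12045 (.leaf 0x105020207030006) (.leaf 0x0)))) (.node 12049 (.node 12047 (.leaf 0xe0d0002) (.node 12048 (.leaf 0x0) (.leaf 0x2f0f002f0b))) (.node 12050 (.leaf 0x60400070209020202000701000c) (.node 12051 (.leaf 0x0) (.leaf 0xb0f0002))))) (.node 12057 (.node 12054 (.node 12053 (.leaf 0x0) (.leaf 0xf0a0002)) (.node 12055 (.leaf 0x0) (.node 12056 (.leaf 0x0) (.leaf 0xe0a0a0003)))) (.node 12060 (.node 12058 (.leaf 0x2040401050005) (.node 12059 (.leaf 0x0) (.leaf 0xf0b0a0003))) (.node 12061 (.leaf 0x0) (.node 12062 (.leaf 0x9e5002f1c) (.leaf 0xf0b0b0a0a0005))))))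

def argWS_1066 : Store := (.node 12074 (.node 12068 (.node 12065 (.node 12064 (.leaf 0x0) (.leaf 0xd0b0b0003)) (.node 12066 (.leaf 0x0) (.node 12067 (.leaf 0x0) (.leaf 0x60502090106000703040103000c)))) (.node 12071 (.node 12069 (.leaf 0x0) (.node 12070 (.leaf 0x0) (.leaf 0x30403080004))) (.node 12072 (.leaf 0x0) (.node 12073 (.leaf 0xa0f0b0003) (.leaf 0x0))))) (.node 12080 (.node 12077 (.node 12075 (.leaf 0x2f29) (.node 12076 (.leaf 0x10201070206000202000701000c) (.leaf 0x0))) (.node 12078 (.leaf 0xf0a0a0003) (.node 12079 (.leaf 0x0) (.leaf 0x0)))) (.node 12083 (.node 12081 (.leaf 0x80200000408010802040105000c) (.node 12082 (.leaf 0x0) (.leaf 0xb0b0a0a0004))) (.node 12084 (.leaf 0x0) (.node 12085 (.leaf 0x2f33001742) (.leaf 0x10106020702010802040105000c))))))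

def argWS_1067 : Store := (.node 12063 argWS_1065 argWS_1066)

def argWS_1068 : Store := (.node 12041 argWS_1064 argWS_1067)

def argWS_1069 : Store := (.node 11996 argWS_1061 argWS_1068)

def argWS_1070 : Store := (.node 12097 (.node 12091 (.node 12088 (.node 12087 (.leaf 0x0) (.leaf 0xb0001)) (.node 12089 (.leaf 0x0) (.node 12090 (.leaf 0xd0b0b0003) (.leaf 0x0)))) (.node 12094 (.node 12092 (.leaf 0x0) (.node 12093 (.leaf 0xb0a0a0003) (.leaf 0xe0d0002))) (.node 12095 (.leaf 0x601050002000703040103000d) (.node 12096 (.leaf 0x0) (.leaf 0xf0b0a0003))))) (.node 12102 (.node 12099 (.node 12098 (.leaf 0x0) (.leaf 0x2f41002f3d)) (.node 12100 (.leaf 0x705020106060202000701000b) (.node 12101 (.leaf 0x0) (.leaf 0x0)))) (.node 12105 (.node 12103 (.leaf 0xb0b0a0a0004) (.node 12104 (.leaf 0x0) (.leaf 0x0))) (.node 12106 (.leaf 0xf0b0002) (.node 12107 (.leaf 0x90104020106060007) (.leaf 0x0))))))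

def argWS_1071 : Store := (.node 12119 (.node 12113 (.node 12110 (.node 12109 (.leaf 0xd0b0b0003) (.leaf 0x0)) (.node 12111 (.leaf 0x70308020401050008) (.node 12112 (.leaf 0x0) (.leaf 0xa0f0002)))) (.node 12116 (.node 12114 (.leaf 0x0) (.node 12115 (.leaf 0x2f51002f4d) (.leaf 0x800070206000007))) (.node 12117 (.leaf 0x0) (.node 12118 (.leaf 0xf0b0a0003) (.leaf 0x0))))) (.node 12125 (.node 12122 (.node 12120 (.leaf 0x0) (.node 12121 (.leaf 0xa0001) (.leaf 0x30401090109000703040103000c))) (.node 12123 (.leaf 0x0) (.node 12124 (.leaf 0x0) (.leaf 0x401070206000006)))) (.node 12128 (.node 12126 (.leaf 0x0) (.node 12127 (.leaf 0x0) (.leaf 0x2f5e002f5b))) (.node 12129 (.leaf 0xb0f0a0a0004) (.node 12130 (.leaf 0x0) (.leaf 0xf0b0b0a0a0005))))))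

def argWS_1072 : Store := (.node 12108 argWS_1070 argWS_1071)

def argWS_1073 : Store := (.node 12142 (.node 12136 (.node 12133 (.node 12132 (.leaf 0x0) (.leaf 0x0)) (.node 12134 (.leaf 0xe0001) (.node 12135 (.leaf 0xa0001) (.leaf 0xb0f0a0a0004)))) (.node 12139 (.node 12137 (.leaf 0x2f67002f66) (.node 12138 (.leaf 0xf0b0b0a0a0005) (.leaf 0x0))) (.node 12140 (.leaf 0x2000002000003010202000701000d) (.node 12141 (.leaf 0x0) (.leaf 0xf0b0b0a0a0005))))) (.node 12147 (.node 12144 (.node 12143 (.leaf 0xe0a0a0003) (.leaf 0x90104090000090007)) (.node 12145 (.leaf 0x0) (.node 12146 (.leaf 0xf0b0b0003) (.leaf 0x0)))) (.node 12150 (.node 12148 (.leaf 0x2f72) (.node 12149 (.leaf 0xb0a0a0003) (.leaf 0x0))) (.node 12151 (.leaf 0xd0b0002) (.node 12152 (.leaf 0x0) (.leaf 0x0))))))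

def argWS_1074 : Store := (.node 12164 (.node 12158 (.node 12155 (.node 12154 (.leaf 0x209020603000703040103000b) (.leaf 0x0)) (.node 12156 (.leaf 0xa0a0002) (.node 12157 (.leaf 0x0) (.leaf 0x907090806000802040105000b)))) (.node 12161 (.node 12159 (.leaf 0x0) (.node 12160 (.leaf 0xf0b0b0003) (.leaf 0x0))) (.node 12162 (.leaf 0x2f80) (.node 12163 (.leaf 0xb0f0a0a0004) (.leaf 0x0))))) (.node 12170 (.node 12167 (.node 12165 (.leaf 0x0) (.node 12166 (.leaf 0xb0b0a0a0004) (.leaf 0x1030802020007010008))) (.node 12168 (.leaf 0x0) (.node 12169 (.leaf 0xa0f0b0003) (.leaf 0x0)))) (.node 12173 (.node 12171 (.leaf 0x2020702010802040105000a) (.node 12172 (.leaf 0x0) (.leaf 0x0))) (.node 12174 (.leaf 0x2f8c0001c8) (.node 12175 (.leaf 0x70401050005) (.leaf 0x0))))))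

def argWS_1075 : Store := (.node 12153 argWS_1073 argWS_1074)

def argWS_1076 : Store := (.node 12131 argWS_1072 argWS_1075)

def argWS_1077 : Store := (.node 12187 (.node 12181 (.node 12178 (.node 12177 (.leaf 0xa0f0002) (.leaf 0x0)) (.node 12179 (.leaf 0x8010102000003010802040105000d) (.node 12180 (.leaf 0x0) (.leaf 0xb0b0a0003)))) (.node 12184 (.node 12182 (.leaf 0x103090806000202000701000b) (.node 12183 (.leaf 0x0) (.leaf 0xb0b0a0a0004))) (.node 12185 (.leaf 0x0) (.node 12186 (.leaf 0x2f98) (.leaf 0xa0f0002))))) (.node 12192 (.node 12189 (.node 12188 (.leaf 0x0) (.leaf 0x40006020702010007)) (.node 12190 (.leaf 0x0) (.node 12191 (.leaf 0xb0b0a0003) (.leaf 0x400000408010802040105000c)))) (.node 12195 (.node 12193 (.leaf 0x0) (.node 12194 (.leaf 0xa0a0002) (.leaf 0x0))) (.node 12196 (.leaf 0x6010202010606000703040103000d) (.node 12197 (.leaf 0x0) (.leaf 0xf0b0a0a0004))))))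

def argWS_1078 : Store := (.node 12209 (.node 12203 (.node 12200 (.node 12199 (.leaf 0x0) (.leaf 0x2fa6)) (.node 12201 (.leaf 0x0) (.node 12202 (.leaf 0xb0f0002) (.leaf 0x0)))) (.node 12206 (.node 12204 (.leaf 0xf0b0b0a0a0005) (.node 12205 (.leaf 0x0) (.leaf 0x0))) (.node 12207 (.leaf 0xe0a0002) (.node 12208 (.leaf 0x103010908050802040105000b) (.leaf 0x0))))) (.node 12215 (.node 12212 (.node 12210 (.leaf 0xd0b0002) (.node 12211 (.leaf 0x0) (.leaf 0x2fb2))) (.node 12213 (.leaf 0xb0a0f0003) (.node 12214 (.leaf 0x0) (.leaf 0x5030900090202000701000b)))) (.node 12218 (.node 12216 (.leaf 0x0) (.node 12217 (.leaf 0xf0a0a0003) (.leaf 0xf0b0b0a0a0005))) (.node 12219 (.leaf 0xb0001) (.node 12220 (.leaf 0x0) (.leaf 0x2000004080703040103000a))))))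

def argWS_1079 : Store := (.node 12198 argWS_1077 argWS_1078)

def argWS_1080 : Store := (.node 12232 (.node 12226 (.node 12223 (.node 12222 (.leaf 0x0) (.leaf 0xd0b0b0003)) (.node 12224 (.leaf 0x0) (.node 12225 (.leaf 0x2fbf) (.leaf 0x5000003010802040105000a)))) (.node 12229 (.node 12227 (.leaf 0x0) (.node 12228 (.leaf 0xe0d0002) (.leaf 0x0))) (.node 12230 (.leaf 0xb0a0a0003) (.node 12231 (.leaf 0x0) (.leaf 0x0))))) (.node 12238 (.node 12235 (.node 12233 (.leaf 0xf0a0002) (.node 12234 (.leaf 0x40002020007010008) (.leaf 0x0))) (.node 12236 (.leaf 0x0) (.node 12237 (.leaf 0xf0b0a0a0004) (.leaf 0x2fcc002fcb)))) (.node 12241 (.node 12239 (.leaf 0x9030007030401030008) (.node 12240 (.leaf 0x0) (.leaf 0xd0b0002))) (.node 12242 (.leaf 0x0) (.node 12243 (.leaf 0x30101090402000703040103000c) (.leaf 0x0))))))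

def argWS_1081 : Store := (.node 12255 (.node 12249 (.node 12246 (.node 12245 (.leaf 0xb0f0002) (.leaf 0xf0b0a0a0004)) (.node 12247 (.leaf 0x0) (.node 12248 (.leaf 0x104010904020802040105000b) (.leaf 0x0)))) (.node 12252 (.node 12250 (.leaf 0x0) (.node 12251 (.leaf 0x2fd90007e3) (.leaf 0x900070209020006))) (.node 12253 (.leaf 0x0) (.node 12254 (.leaf 0xd0001) (.leaf 0x0))))) (.node 12261 (.node 12258 (.node 12256 (.leaf 0x0) (.node 12257 (.leaf 0xf0b0a0003) (.leaf 0x9020900000802040105000a))) (.node 12259 (.leaf 0x0) (.node 12260 (.leaf 0x0) (.leaf 0xa0f0b0b0004)))) (.node 12264 (.node 12262 (.leaf 0x2fe4002fe3) (.node 12263 (.leaf 0x20000050202020703040103000c) (.leaf 0x0))) (.node 12265 (.leaf 0xa0f0b0b0004) (.node 12266 (.leaf 0x0) (.leaf 0xb0b0002))))))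

def argWS_1082 : Store := (.node 12244 argWS_1080 argWS_1081)

def argWS_1083 : Store := (.node 12221 argWS_1079 argWS_1082)

def argWS_1084 : Store := (.node 12176 argWS_1076 argWS_1083)

def argWS_1085 : Store := (.node 12086 argWS_1069 argWS_1084)

def argWS_1086 : Store := (.node 11906 argWS_1054 argWS_1085)

def argWS_1087 : Store := (.node 12278 (.node 12272 (.node 12269 (.node 12268 (.leaf 0x0) (.leaf 0x0)) (.node 12270 (.leaf 0x80904020802040105000a) (.node 12271 (.leaf 0x0) (.leaf 0x0)))) (.node 12275 (.node 12273 (.leaf 0x80003080005) (.node 12274 (.leaf 0x0) (.leaf 0xf0b0b0a0004))) (.node 12276 (.leaf 0x0) (.node 12277 (.leaf 0x2ff3002fef) (.leaf 0x800020106060202000701000b))))) (.node 12283 (.node 12280 (.node 12279 (.leaf 0x0) (.leaf 0xf0b0002)) (.node 12281 (.leaf 0x0) (.node 12282 (.leaf 0xb0a0f0003) (.leaf 0x0)))) (.node 12286 (.node 12284 (.leaf 0x0) (.node 12285 (.leaf 0x7000300000202000701000a) (.leaf 0x0))) (.node 12287 (.leaf 0xa0001)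 (.node 12288 (.leaf 0x0) (.leaf 0xe0a0a0003))))))

def argWS_1088 : Store := (.node 12300 (.node 12294 (.node 12291 (.node 12290 (.leaf 0x3000002fff) (.leaf 0x3010102000802040105000a)) (.node 12292 (.leaf 0x0) (.node 12293 (.leaf 0xf0a0a0003) (.leaf 0x0)))) (.node 12297 (.node 12295 (.leaf 0xb0b0002) (.node 12296 (.leaf 0x0) (.leaf 0x0))) (.node 12298 (.leaf 0x60505020604000703040103000c) (.node 12299 (.leaf 0x0) (.leaf 0xf0a0a0003))))) (.node 12306 (.node 12303 (.node 12301 (.leaf 0x0) (.node 12302 (.leaf 0x2000601050002000703040103000d) (.leaf 0x0))) (.node 12304 (.leaf 0xb0001) (.node 12305 (.leaf 0x0) (.leaf 0x3010)))) (.node 12309 (.node 12307 (.leaf 0xb0a0002) (.node 12308 (.leaf 0x0) (.leaf 0x40300060207020703040103000c))) (.node 12310 (.leaf 0x0) (.node 12311 (.leaf 0xf0b0b0a0004) (.leaf 0xa0f0b0003))))))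

def argWS_1089 : Store := (.node 12289 argWS_1087 argWS_1088)

def argWS_1090 : Store := (.node 12323 (.node 12317 (.node 12314 (.node 12313 (.leaf 0x20601090806000202000701000c) (.leaf 0x0)) (.node 12315 (.leaf 0xd0001) (.node 12316 (.leaf 0x0) (.leaf 0x7030503010102000202000701000d)))) (.node 12320 (.node 12318 (.leaf 0x0) (.node 12319 (.leaf 0xf0b0b0a0004) (.leaf 0x0))) (.node 12321 (.leaf 0xa0f0002) (.node 12322 (.leaf 0x302000301f) (.leaf 0xa0a0002))))) (.node 12328 (.node 12325 (.node 12324 (.leaf 0x0) (.leaf 0x901090806000006)) (.node 12326 (.leaf 0x0) (.node 12327 (.leaf 0xa0f0b0003) (.leaf 0x306030500040202000701000c)))) (.node 12331 (.node 12329 (.leaf 0x0) (.node 12330 (.leaf 0xb0b0002) (.leaf 0x0))) (.node 12332 (.leaf 0xf0b0002) (.node 12333 (.leaf 0x0) (.leaf 0x302c))))))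

def argWS_1091 : Store := (.node 12345 (.node 12339 (.node 12336 (.node 12335 (.leaf 0xb0f0a0a0004) (.leaf 0x0)) (.node 12337 (.leaf 0x20000030306040802040105000d) (.node 12338 (.leaf 0x0) (.leaf 0xd0b0002)))) (.node 12342 (.node 12340 (.leaf 0x300020703000703040103000b) (.node 12341 (.leaf 0x0) (.leaf 0xb0a0a0003))) (.node 12343 (.leaf 0x0) (.node 12344 (.leaf 0xa0f0b0b0004) (.leaf 0x3037))))) (.node 12351 (.node 12348 (.node 12346 (.leaf 0x305030802020007010009) (.node 12347 (.leaf 0x0) (.leaf 0xe0a0a0003))) (.node 12349 (.leaf 0x0) (.node 12350 (.leaf 0x90602020007010007) (.leaf 0x0)))) (.node 12354 (.node 12352 (.leaf 0xd0b0002) (.node 12353 (.leaf 0xa0f0b0003) (.leaf 0x201030901090006))) (.node 12355 (.leaf 0x0) (.node 12356 (.leaf 0x0) (.leaf 0x30430015c7))))))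

def argWS_1092 : Store := (.node 12334 argWS_1090 argWS_1091)

def argWS_1093 : Store := (.node 12312 argWS_1089 argWS_1092)

def argWS_1094 : Store := (.node 12368 (.node 12362 (.node 12359 (.node 12358 (.leaf 0x80005020202010802040105000c) (.leaf 0x0)) (.node 12360 (.leaf 0xe0a0002) (.node 12361 (.leaf 0x0) (.leaf 0x2040306010500020008)))) (.node 12365 (.node 12363 (.leaf 0x0) (.node 12364 (.leaf 0xb0f0002) (.leaf 0x20601040005000703040103000c))) (.node 12366 (.leaf 0x0) (.node 12367 (.leaf 0xa0f0b0003) (.leaf 0x0))))) (.node 12373 (.node 12370 (.node 12369 (.leaf 0xe0001) (.leaf 0x3050)) (.node 12371 (.leaf 0x3090806000802040105000b) (.node 12372 (.leaf 0x0) (.leaf 0xb0a0a0003)))) (.node 12376 (.node 12374 (.leaf 0x0) (.node 12375 (.leaf 0x206090206020802040105000b) (.leaf 0x0))) (.node 12377 (.leaf 0xf0001) (.node 12378 (.leaf 0x70101020901060202000701000c) (.leaf 0x0))))))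

def argWS_1095 : Store := (.node 12390 (.node 12384 (.node 12381 (.node 12380 (.leaf 0xf0b0002) (.leaf 0x0)) (.node 12382 (.leaf 0x209020602000703040103000b) (.node 12383 (.leaf 0x0) (.leaf 0xb0b0a0003)))) (.node 12387 (.node 12385 (.leaf 0x0) (.node 12386 (.leaf 0x3060) (.leaf 0x605010308000703040103000b))) (.node 12388 (.leaf 0x0) (.node 12389 (.leaf 0xf0001) (.leaf 0x0))))) (.node 12396 (.node 12393 (.node 12391 (.leaf 0x204030401050006) (.node 12392 (.leaf 0x0) (.leaf 0xd0b0b0003))) (.node 12394 (.leaf 0xa0001) (.node 12395 (.leaf 0x20903000408010007) (.leaf 0x0)))) (.node 12399 (.node 12397 (.leaf 0xa0f0002) (.node 12398 (.leaf 0x0) (.leaf 0x275200306d))) (.node 12400 (.leaf 0x7010106020702010802040105000d) (.node 12401 (.leaf 0x0) (.leaf 0xa0a0002))))))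

def argWS_1096 : Store := (.node 12379 argWS_1094 argWS_1095)

def argWS_1097 : Store := (.node 12413 (.node 12407 (.node 12404 (.node 12403 (.leaf 0x0) (.leaf 0xb0b0a0a0004)) (.node 12405 (.leaf 0x0) (.node 12406 (.leaf 0xe0a0a0003) (.leaf 0x70109020602000703040103000c)))) (.node 12410 (.node 12408 (.leaf 0x0) (.node 12409 (.leaf 0xa0001) (.leaf 0x0))) (.node 12411 (.leaf 0x700000007030401030009) (.node 12412 (.leaf 0x0) (.leaf 0xe0a0002))))) (.node 12418 (.node 12415 (.node 12414 (.leaf 0x0) (.leaf 0x307d003079)) (.node 12416 (.leaf 0x901090402000703040103000b) (.node 12417 (.leaf 0x0) (.leaf 0xf0b0b0a0a0005)))) (.node 12421 (.node 12419 (.leaf 0x0) (.node 12420 (.leaf 0x307090009000703040103000b) (.leaf 0x0))) (.node 12422 (.leaf 0xb0f0002) (.node 12423 (.leaf 0x6020106010500020802040105000d) (.leaf 0x0))))))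

def argWS_1098 : Store := (.node 12435 (.node 12429 (.node 12426 (.node 12425 (.leaf 0x0) (.leaf 0x3088001794)) (.node 12427 (.leaf 0xa0f0b0003) (.node 12428 (.leaf 0x0) (.leaf 0x6010500020202000701000c)))) (.node 12432 (.node 12430 (.leaf 0x0) (.node 12431 (.leaf 0xa0f0b0003) (.leaf 0x7030507000903000703040103000d))) (.node 12433 (.leaf 0x0) (.node 12434 (.leaf 0xa0a0002) (.leaf 0x0))))) (.node 12441 (.node 12438 (.node 12436 (.leaf 0x50901060004) (.node 12437 (.leaf 0x0) (.leaf 0xf0b0a0a0004))) (.node 12439 (.leaf 0x0) (.node 12440 (.leaf 0x3096) (.leaf 0x300020804000006)))) (.node 12444 (.node 12442 (.leaf 0x0) (.node 12443 (.leaf 0xf0b0002) (.leaf 0x0))) (.node 12445 (.leaf 0xe0a0a0003) (.node 12446 (.leaf 0x0) (.leaf 0x0))))))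

def argWS_1099 : Store := (.node 12424 argWS_1097 argWS_1098)

def argWS_1100 : Store := (.node 12402 argWS_1096 argWS_1099)

def argWS_1101 : Store := (.node 12357 argWS_1093 argWS_1100)

def argWS_1102 : Store := (.node 12458 (.node 12452 (.node 12449 (.node 12448 (.leaf 0x104070009030006) (.leaf 0x0)) (.node 12450 (.leaf 0xf0a0a0003) (.node 12451 (.leaf 0x0) (.leaf 0x200020804000802040105000b)))) (.node 12455 (.node 12453 (.leaf 0x0) (.node 12454 (.leaf 0xb0a0f0003) (.leaf 0x0))) (.node 12456 (.leaf 0xc680030a6) (.node 12457 (.leaf 0xf0a0002) (.leaf 0x0))))) (.node 12463 (.node 12460 (.node 12459 (.leaf 0xf0b0b0a0a0005) (.leaf 0x0)) (.node 12461 (.leaf 0x0) (.node 12462 (.leaf 0xf0b0b0a0a0005) (.leaf 0xb0f0a0003)))) (.node 12466 (.node 12464 (.leaf 0x30ae) (.node 12465 (.leaf 0xb0b0a0a0004) (.leaf 0x0))) (.node 12467 (.leaf 0x0) (.node 12468 (.leaf 0xf0b0a0003) (.leaf 0x2000202020900000202000701000d))))))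

def argWS_1103 : Store := (.node 12480 (.node 12474 (.node 12471 (.node 12470 (.leaf 0x0) (.leaf 0x0)) (.node 12472 (.leaf 0x60000090109000703040103000c) (.node 12473 (.leaf 0x0) (.leaf 0xa0f0002)))) (.node 12477 (.node 12475 (.leaf 0x0) (.node 12476 (.leaf 0x30ba) (.leaf 0x304030009020602000703040103000e))) (.node 12478 (.leaf 0x0) (.node 12479 (.leaf 0xf0a0002) (.leaf 0x0))))) (.node 12486 (.node 12483 (.node 12481 (.leaf 0x207010908050802040105000b) (.node 12482 (.leaf 0x0) (.leaf 0xb0b0a0003))) (.node 12484 (.leaf 0x20509080600000703040103000c) (.node 12485 (.leaf 0x0) (.leaf 0xa0f0002)))) (.node 12489 (.node 12487 (.leaf 0x0) (.node 12488 (.leaf 0x70206030500040202000701000c) (.leaf 0x0))) (.node 12490 (.leaf 0xa0f0002) (.node 12491 (.leaf 0x0) (.leaf 0x30ca))))))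

def argWS_1104 : Store := (.node 12469 argWS_1102 argWS_1103)

def argWS_1105 : Store := (.node 12503 (.node 12497 (.node 12494 (.node 12493 (.leaf 0xb0a0a0003) (.leaf 0x0)) (.node 12495 (.leaf 0x1020106020702010008) (.node 12496 (.leaf 0x0) (.leaf 0xf0b0b0003)))) (.node 12500 (.node 12498 (.leaf 0xf0b0a0a0004) (.node 12499 (.leaf 0x20403000408010802040105000c) (.leaf 0x0))) (.node 12501 (.leaf 0xf0b0b0a0004) (.node 12502 (.leaf 0x0) (.leaf 0x30d500108a))))) (.node 12508 (.node 12505 (.node 12504 (.leaf 0x20403050206040007) (.leaf 0x0)) (.node 12506 (.leaf 0xf0a0a0003) (.node 12507 (.leaf 0x0) (.leaf 0x7050007030401030008)))) (.node 12511 (.node 12509 (.leaf 0x0) (.node 12510 (.leaf 0xe0001) (.leaf 0x905020900000802040105000b))) (.node 12512 (.leaf 0x0) (.node 12513 (.leaf 0xf0b0002) (.leaf 0x0))))))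

def argWS_1106 : Store := (.node 12525 (.node 12519 (.node 12516 (.node 12515 (.leaf 0xb0f0002) (.leaf 0x30e2)) (.node 12517 (.leaf 0x206030007030401030009) (.node 12518 (.leaf 0x0) (.leaf 0xe0a0a0003)))) (.node 12522 (.node 12520 (.leaf 0x0) (.node 12521 (.leaf 0x403000408010802040105000b) (.leaf 0x0))) (.node 12523 (.leaf 0xe0001) (.node 12524 (.leaf 0xd0b0002) (.leaf 0xf0a0a0003))))) (.node 12531 (.node 12528 (.node 12526 (.leaf 0x30ec0009e1) (.node 12527 (.leaf 0xb0f0002) (.leaf 0x0))) (.node 12529 (.leaf 0x103010901090802040105000b) (.node 12530 (.leaf 0x0) (.leaf 0xd0001)))) (.node 12534 (.node 12532 (.leaf 0xb0f0a0003) (.node 12533 (.leaf 0xf0b0b0a0a0005) (.leaf 0x503060207020703040103000b))) (.node 12535 (.leaf 0x0) (.node 12536 (.leaf 0xb0f0a0003) (.leaf 0x0))))))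

def argWS_1107 : Store := (.node 12514 argWS_1105 argWS_1106)

def argWS_1108 : Store := (.node 12492 argWS_1104 argWS_1107)

def argWS_1109 : Store := (.node 12548 (.node 12542 (.node 12539 (.node 12538 (.leaf 0x30f80030f4) (.leaf 0x6010703060202000701000b)) (.node 12540 (.leaf 0x0) (.node 12541 (.leaf 0xf0b0b0a0004) (.leaf 0x0)))) (.node 12545 (.node 12543 (.leaf 0xb0001) (.node 12544 (.leaf 0x0) (.leaf 0x0))) (.node 12546 (.leaf 0x1050200030306040202000701000d) (.node 12547 (.leaf 0x0) (.leaf 0xf0a0a0003))))) (.node 12553 (.node 12550 (.node 12549 (.leaf 0x0) (.leaf 0xb00003104)) (.node 12551 (.leaf 0xf0b0b0003) (.node 12552 (.leaf 0x0) (.leaf 0xb0a0002)))) (.node 12556 (.node 12554 (.leaf 0x0) (.node 12555 (.leaf 0x0) (.leaf 0x70406020702010802040105000c))) (.node 12557 (.leaf 0x0) (.node 12558 (.leaf 0xa0f0b0b0004) (.leaf 0x0))))))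

def argWS_1110 : Store := (.node 12570 (.node 12564 (.node 12561 (.node 12560 (.leaf 0x6020900090802040105000a) (.leaf 0x0)) (.node 12562 (.leaf 0xb0f0002) (.node 12563 (.leaf 0x0) (.leaf 0x3112)))) (.node 12567 (.node 12565 (.leaf 0x5020206020007010008) (.node 12566 (.leaf 0x0) (.leaf 0xd0b0002))) (.node 12568 (.leaf 0x0) (.node 12569 (.leaf 0x1070206030005) (.leaf 0x0))))) (.node 12576 (.node 12573 (.node 12571 (.leaf 0xa0f0002) (.node 12572 (.leaf 0xe0a0a0003) (.leaf 0xf0b0b0a0004))) (.node 12574 (.leaf 0x311c) (.node 12575 (.leaf 0x80000020901060202000701000c) (.leaf 0x0)))) (.node 12579 (.node 12577 (.leaf 0xd0b0b0003) (.node 12578 (.leaf 0x0) (.leaf 0xb0b0002))) (.node 12580 (.leaf 0x0) (.node 12581 (.leaf 0x0) (.leaf 0x900000908020401050009))))))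

def argWS_1111 : Store := (.node 12559 argWS_1109 argWS_1110)

def argWS_1112 : Store := (.node 12593 (.node 12587 (.node 12584 (.node 12583 (.leaf 0x0) (.leaf 0xf0b0b0a0004)) (.node 12585 (.leaf 0x0) (.node 12586 (.leaf 0x102020003) (.leaf 0x0)))) (.node 12590 (.node 12588 (.leaf 0xa0f0b0b0004) (.node 12589 (.leaf 0x0) (.leaf 0x312c))) (.node 12591 (.leaf 0xf0b0002) (.node 12592 (.leaf 0x0) (.leaf 0xf0a0a0003))))) (.node 12599 (.node 12596 (.node 12594 (.leaf 0x0) (.node 12595 (.leaf 0x0) (.leaf 0xb0f0a0003))) (.node 12597 (.leaf 0x800090000090007) (.node 12598 (.leaf 0x0) (.leaf 0xe0d0002)))) (.node 12602 (.node 12600 (.leaf 0x0) (.node 12601 (.leaf 0x3137) (.leaf 0xb0a0a0003))) (.node 12603 (.leaf 0x0) (.node 12604 (.leaf 0xd0b0b0003) (.leaf 0x0))))))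

def argWS_1113 : Store := (.node 12616 (.node 12610 (.node 12607 (.node 12606 (.leaf 0x0) (.leaf 0xb0a0002)) (.node 12608 (.leaf 0xe0001) (.node 12609 (.leaf 0x313f) (.leaf 0xb0f0a0003)))) (.node 12613 (.node 12611 (.leaf 0x0) (.node 12612 (.leaf 0x103000400050202000701000b) (.leaf 0x0))) (.node 12614 (.leaf 0xb0f0002) (.node 12615 (.leaf 0x60201070209020202000701000c) (.leaf 0x0))))) (.node 12622 (.node 12619 (.node 12617 (.leaf 0xf0001) (.node 12618 (.leaf 0x0) (.leaf 0x403050202020703040103000b))) (.node 12620 (.leaf 0x0) (.node 12621 (.leaf 0xb0f0a0003) (.leaf 0x0)))) (.node 12625 (.node 12623 (.leaf 0x314d) (.node 12624 (.leaf 0x600090806000202000701000b) (.leaf 0x0))) (.node 12626 (.leaf 0xa0f0002) (.node 12627 (.leaf 0x0) (.leaf 0xa0f0b0003))))))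

def argWS_1114 : Store := (.node 12605 argWS_1112 argWS_1113)

def argWS_1115 : Store := (.node 12582 argWS_1111 argWS_1114)

def argWS_1116 : Store := (.node 12537 argWS_1108 argWS_1115)

def argWS_1117 : Store := (.node 12447 argWS_1101 argWS_1116)

def argWS_1118 : Store := (.node 12639 (.node 12633 (.node 12630 (.node 12629 (.leaf 0x0) (.leaf 0x0)) (.node 12631 (.leaf 0xa0a0002) (.node 12632 (.leaf 0x6000400050005) (.leaf 0x0)))) (.node 12636 (.node 12634 (.leaf 0xb0001) (.node 12635 (.leaf 0x0) (.leaf 0x101d00315a))) (.node 12637 (.leaf 0x50200070206000007) (.node 12638 (.leaf 0x0) (.leaf 0xd0b0002))))) (.node 12644 (.node 12641 (.node 12640 (.leaf 0x0) (.leaf 0x20403050206040007)) (.node 12642 (.leaf 0x0) (.node 12643 (.leaf 0xf0b0b0003) (.leaf 0x40003010904020202000701000c)))) (.node 12647 (.node 12645 (.leaf 0x0) (.node 12646 (.leaf 0xb0001) (.leaf 0x0))) (.node 12648 (.leaf 0xb0a0a0003) (.node 12649 (.leaf 0x3167) (.leaf 0xa0f0b0b0004))))))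

def argWS_1119 : Store := (.node 12661 (.node 12655 (.node 12652 (.node 12651 (.leaf 0x0) (.leaf 0xb0f0002)) (.node 12653 (.leaf 0x0) (.node 12654 (.leaf 0x0) (.leaf 0x605020202010802040105000b)))) (.node 12658 (.node 12656 (.leaf 0x0) (.node 12657 (.leaf 0xa0a0002) (.leaf 0x0))) (.node 12659 (.leaf 0x10200030306040202000701000c) (.node 12660 (.leaf 0x0) (.leaf 0xa0f0b0b0004))))) (.node 12667 (.node 12664 (.node 12662 (.leaf 0x0) (.node 12663 (.leaf 0xa0f0b0003) (.leaf 0x3176003175))) (.node 12665 (.leaf 0xd0b0002) (.node 12666 (.leaf 0x0) (.leaf 0x403000401050006)))) (.node 12670 (.node 12668 (.leaf 0x0) (.node 12669 (.leaf 0xb0f0a0003) (.leaf 0x90601090402000703040103000c))) (.node 12671 (.leaf 0x0) (.node 12672 (.leaf 0xa0f0b0b0004) (.leaf 0x0))))))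

def argWS_1120 : Store := (.node 12650 argWS_1118 argWS_1119)

def argWS_1121 : Store := (.node 12684 (.node 12678 (.node 12675 (.node 12674 (.leaf 0xb0f0a0a0004) (.leaf 0x3181001541)) (.node 12676 (.leaf 0x10502010908050202000701000c) (.node 12677 (.leaf 0x0) (.leaf 0xb0a0a0003)))) (.node 12681 (.node 12679 (.leaf 0x0) (.node 12680 (.leaf 0xf0b0b0a0004) (.leaf 0x0))) (.node 12682 (.leaf 0x0) (.node 12683 (.leaf 0x10301090009000703040103000c) (.leaf 0x0))))) (.node 12689 (.node 12686 (.node 12685 (.leaf 0xf0b0b0a0a0005) (.leaf 0x0)) (.node 12687 (.leaf 0x907020106060006) (.node 12688 (.leaf 0x0) (.leaf 0xb0f0a0003)))) (.node 12692 (.node 12690 (.leaf 0x0) (.node 12691 (.leaf 0x3191) (.leaf 0x50306010500020802040105000c))) (.node 12693 (.leaf 0x0) (.node 12694 (.leaf 0xf0b0b0a0a0005) (.leaf 0x0))))))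

def argWS_1122 : Store := (.node 12706 (.node 12700 (.node 12697 (.node 12696 (.leaf 0xf0b0b0a0a0005) (.leaf 0x0)) (.node 12698 (.leaf 0x0) (.node 12699 (.leaf 0xe0001) (.leaf 0x7000508020401050008)))) (.node 12703 (.node 12701 (.leaf 0x0) (.node 12702 (.leaf 0xf0a0a0003) (.leaf 0x0))) (.node 12704 (.leaf 0x103000408010006) (.node 12705 (.leaf 0x0) (.leaf 0xf0b0b0a0004))))) (.node 12712 (.node 12709 (.node 12707 (.leaf 0x0) (.node 12708 (.leaf 0x31a200319e) (.leaf 0xd0b0b0003))) (.node 12710 (.leaf 0x0) (.node 12711 (.leaf 0x109000003010202000701000b) (.leaf 0x0)))) (.node 12715 (.node 12713 (.leaf 0xe0a0002) (.node 12714 (.leaf 0xd0b0b0003) (.leaf 0x0))) (.node 12716 (.leaf 0xf0b0a0003) (.node 12717 (.leaf 0x90102000003010802040105000c) (.leaf 0x0))))))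

def argWS_1123 : Store := (.node 12695 argWS_1121 argWS_1122)

def argWS_1124 : Store := (.node 12673 argWS_1120 argWS_1123)

def argWS_1125 : Store := (.node 12729 (.node 12723 (.node 12720 (.node 12719 (.leaf 0xf0001) (.leaf 0x0)) (.node 12721 (.leaf 0x31af) (.node 12722 (.leaf 0xb0001) (.leaf 0x0)))) (.node 12726 (.node 12724 (.leaf 0xf0b0002) (.node 12725 (.leaf 0x0) (.leaf 0x0))) (.node 12727 (.leaf 0x104000207030802040105000b) (.node 12728 (.leaf 0x0) (.leaf 0xa0f0b0b0004))))) (.node 12734 (.node 12731 (.node 12730 (.leaf 0x0) (.leaf 0x20400090206020007)) (.node 12732 (.leaf 0x0) (.node 12733 (.leaf 0xb0a0f0003) (.leaf 0x0)))) (.node 12737 (.node 12735 (.leaf 0x31bd) (.node 12736 (.leaf 0x101070009030006) (.leaf 0x0))) (.node 12738 (.leaf 0xb0f0002) (.node 12739 (.leaf 0x0) (.leaf 0x60005020202010008))))))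

def argWS_1126 : Store := (.node 12751 (.node 12745 (.node 12742 (.node 12741 (.leaf 0x0) (.leaf 0x2090202090000000703040103000d)) (.node 12743 (.leaf 0x0) (.node 12744 (.leaf 0x0) (.leaf 0x101020901060802040105000b)))) (.node 12748 (.node 12746 (.leaf 0x0) (.node 12747 (.leaf 0xd0b0002) (.leaf 0x0))) (.node 12749 (.leaf 0x31cb) (.node 12750 (.leaf 0xf0a0002) (.leaf 0x20400090206020007))))) (.node 12757 (.node 12754 (.node 12752 (.leaf 0x0) (.node 12753 (.leaf 0xf0a0002) (.leaf 0x0))) (.node 12755 (.leaf 0xe0a0a0003) (.node 12756 (.leaf 0xb0b0a0003) (.leaf 0x0)))) (.node 12760 (.node 12758 (.leaf 0x31d40031d2) (.node 12759 (.leaf 0x6010201020702000701000a) (.leaf 0x0))) (.node 12761 (.leaf 0xb0001) (.node 12762 (.leaf 0x0) (.leaf 0xd0b0002))))))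

def argWS_1127 : Store := (.node 12740 argWS_1125 argWS_1126)

def argWS_1128 : Store := (.node 12774 (.node 12768 (.node 12765 (.node 12764 (.leaf 0x0) (.leaf 0x0)) (.node 12766 (.leaf 0x1030400050802040105000a) (.node 12767 (.leaf 0x0) (.leaf 0xf0b0b0a0004)))) (.node 12771 (.node 12769 (.leaf 0x0) (.node 12770 (.leaf 0x2020207020600000703040103000d) (.leaf 0x0))) (.node 12772 (.leaf 0xe0d0002) (.node 12773 (.leaf 0x0) (.leaf 0x31e40031e0))))) (.node 12779 (.node 12776 (.node 12775 (.leaf 0xb0f0002) (.leaf 0x0)) (.node 12777 (.leaf 0x8040002020007010008) (.node 12778 (.leaf 0x0) (.leaf 0xf0b0b0a0004)))) (.node 12782 (.node 12780 (.leaf 0x80101020000030703040103000c) (.node 12781 (.leaf 0x0) (.leaf 0x0))) (.node 12783 (.leaf 0x402050206030006) (.node 12784 (.leaf 0x0) (.leaf 0x0))))))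

def argWS_1129 : Store := (.node 12796 (.node 12790 (.node 12787 (.node 12786 (.leaf 0x31f00012dd) (.leaf 0xe0a0a0003)) (.node 12788 (.leaf 0x0) (.node 12789 (.leaf 0x50103080004) (.leaf 0x0)))) (.node 12793 (.node 12791 (.leaf 0xb0b0a0003) (.node 12792 (.leaf 0x10201090806000802040105000c) (.leaf 0x0))) (.node 12794 (.leaf 0xb0b0002) (.node 12795 (.leaf 0x0) (.leaf 0x1a8f0018b7))))) (.node 12802 (.node 12799 (.node 12797 (.leaf 0xa0f0b0b0004) (.node 12798 (.leaf 0x0) (.leaf 0x0))) (.node 12800 (.leaf 0xb0b0a0a0004) (.node 12801 (.leaf 0x107000207020007010009) (.leaf 0x0)))) (.node 12805 (.node 12803 (.leaf 0xb0b0002) (.node 12804 (.leaf 0x0) (.leaf 0x31aa))) (.node 12806 (.leaf 0xd0b0002) (.node 12807 (.leaf 0x0) (.leaf 0x10201090806000202000701000c))))))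

def argWS_1130 : Store := (.node 12785 argWS_1128 argWS_1129)

def argWS_1131 : Store := (.node 12763 argWS_1127 argWS_1130)

def argWS_1132 : Store := (.node 12718 argWS_1124 argWS_1131)

def argWS_1133 : Store := (.node 12819 (.node 12813 (.node 12810 (.node 12809 (.leaf 0x0) (.leaf 0xb0b0002)) (.node 12811 (.leaf 0x900090005) (.node 12812 (.leaf 0x0) (.leaf 0xd0b0002)))) (.node 12816 (.node 12814 (.leaf 0x0) (.node 12815 (.leaf 0x609040208020401050009) (.leaf 0x0))) (.node 12817 (.leaf 0xb0b0a0003) (.node 12818 (.leaf 0x0) (.leaf 0x321100320d))))) (.node 12824 (.node 12821 (.node 12820 (.leaf 0xf0b0b0a0004) (.leaf 0x0)) (.node 12822 (.leaf 0x0) (.node 12823 (.leaf 0xf0001) (.leaf 0xb0a0002)))) (.node 12827 (.node 12825 (.leaf 0x604000300000202000701000b) (.node 12826 (.leaf 0x0) (.leaf 0xb0b0a0a0004))) (.node 12828 (.leaf 0x0) (.node 12829 (.leaf 0x321b003217) (.leaf 0x702010904020802040105000b))))))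

def argWS_1134 : Store := (.node 12841 (.node 12835 (.node 12832 (.node 12831 (.leaf 0x0) (.leaf 0xf0001)) (.node 12833 (.leaf 0x0) (.node 12834 (.leaf 0x206030802020007010009) (.leaf 0x0)))) (.node 12838 (.node 12836 (.leaf 0xf0b0a0003) (.node 12837 (.leaf 0xb0b0002) (.leaf 0xf0b0a0003))) (.node 12839 (.leaf 0x0) (.node 12840 (.leaf 0x602000207030006) (.leaf 0x0))))) (.node 12847 (.node 12844 (.node 12842 (.leaf 0xe0d0002) (.node 12843 (.leaf 0x0) (.leaf 0x322a003226))) (.node 12845 (.leaf 0xd0001) (.node 12846 (.leaf 0x0) (.leaf 0x80006030500040202000701000c)))) (.node 12850 (.node 12848 (.leaf 0x0) (.node 12849 (.leaf 0xb0f0a0003) (.leaf 0x5000005020202010802040105000d))) (.node 12851 (.leaf 0x0) (.node 12852 (.leaf 0xe0a0002) (.leaf 0x0))))))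

def argWS_1135 : Store := (.node 12830 argWS_1133 argWS_1134)

def argWS_1136 : Store := (.node 12864 (.node 12858 (.node 12855 (.node 12854 (.leaf 0xf0b0b0a0a0005) (.leaf 0x3235)) (.node 12856 (.leaf 0x709000908020401050009) (.node 12857 (.leaf 0x0) (.leaf 0xf0b0002)))) (.node 12861 (.node 12859 (.leaf 0x0) (.node 12860 (.leaf 0x70101070209020007) (.leaf 0x0))) (.node 12862 (.leaf 0xb0a0f0003) (.node 12863 (.leaf 0xe0001) (.leaf 0xb0b0002))))) (.node 12869 (.node 12866 (.node 12865 (.leaf 0x9070000020804000802040105000d) (.leaf 0x0)) (.node 12867 (.leaf 0xf0001) (.node 12868 (.leaf 0x0) (.leaf 0x324300323f)))) (.node 12872 (.node 12870 (.leaf 0x20901070306000703040103000c) (.node 12871 (.leaf 0x0) (.leaf 0xf0b0b0a0a0005))) (.node 12873 (.leaf 0x0) (.node 12874 (.leaf 0x2060106030500040202000701000d) (.leaf 0x0))))))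

def argWS_1137 : Store := (.node 12886 (.node 12880 (.node 12877 (.node 12876 (.leaf 0xa0f0002) (.leaf 0x601090806000202000701000b)) (.node 12878 (.leaf 0x0) (.node 12879 (.leaf 0xa0a0002) (.leaf 0x0)))) (.node 12883 (.node 12881 (.leaf 0x500070209020202000701000b) (.node 12882 (.leaf 0x0) (.leaf 0xf0a0a0003))) (.node 12884 (.leaf 0x0) (.node 12885 (.leaf 0xd0b0002) (.leaf 0x3254003253))))) (.node 12892 (.node 12889 (.node 12887 (.leaf 0xf0b0b0a0a0005) (.node 12888 (.leaf 0x0) (.leaf 0x906030003))) (.node 12890 (.leaf 0x0) (.node 12891 (.leaf 0xd0001) (.leaf 0xb0a0002)))) (.node 12895 (.node 12893 (.leaf 0x0) (.node 12894 (.leaf 0xa0f0002) (.leaf 0x1030900090802040105000a))) (.node 12896 (.leaf 0x0) (.node 12897 (.leaf 0xd0001) (.leaf 0x0))))))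

def argWS_1138 : Store := (.node 12875 argWS_1136 argWS_1137)

def argWS_1139 : Store := (.node 12853 argWS_1135 argWS_1138)

def argWS_1140 : Store := (.node 12909 (.node 12903 (.node 12900 (.node 12899 (.leaf 0xd0b0b0003) (.leaf 0x3262003261)) (.node 12901 (.leaf 0x502020106060202000701000b) (.node 12902 (.leaf 0x0) (.leaf 0xb0b0a0003)))) (.node 12906 (.node 12904 (.leaf 0x0) (.node 12905 (.leaf 0xf0b0a0a0004) (.leaf 0x0))) (.node 12907 (.leaf 0x0) (.node 12908 (.leaf 0x10502000408010007) (.leaf 0x0))))) (.node 12914 (.node 12911 (.node 12910 (.leaf 0xb0b0a0003) (.leaf 0x0)) (.node 12912 (.leaf 0x1030006020702010802040105000d) (.node 12913 (.leaf 0x0) (.leaf 0xb0b0002)))) (.node 12917 (.node 12915 (.leaf 0x0) (.node 12916 (.leaf 0x3272) (.leaf 0xd0001))) (.node 12918 (.leaf 0x0) (.node 12919 (.leaf 0xb0a0a0003) (.leaf 0x0))))))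

def argWS_1141 : Store := (.node 12931 (.node 12925 (.node 12922 (.node 12921 (.leaf 0x0) (.leaf 0xf0b0a0a0004)) (.node 12923 (.leaf 0x0) (.node 12924 (.leaf 0xa0f0002) (.leaf 0x327b)))) (.node 12928 (.node 12926 (.leaf 0x906020703000703040103000b) (.node 12927 (.leaf 0x0) (.leaf 0xa0f0002))) (.node 12929 (.leaf 0x0) (.node 12930 (.leaf 0x90103010102000007) (.leaf 0x0))))) (.node 12937 (.node 12934 (.node 12932 (.leaf 0xa0f0b0b0004) (.node 12933 (.leaf 0x502000900090202000701000b) (.leaf 0x0))) (.node 12935 (.leaf 0xb0a0002) (.node 12936 (.leaf 0x0) (.leaf 0xe0d0002)))) (.node 12940 (.node 12938 (.leaf 0x3288) (.node 12939 (.leaf 0xb0a0f0003) (.leaf 0x0))) (.node 12941 (.leaf 0x104020106060802040105000b) (.node 12942 (.leaf 0x0) (.leaf 0xb0001))))))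

def argWS_1142 : Store := (.node 12920 argWS_1140 argWS_1141)

def argWS_1143 : Store := (.node 12954 (.node 12948 (.node 12945 (.node 12944 (.leaf 0x9000900090202000701000b) (.leaf 0x0)) (.node 12946 (.leaf 0x0) (.node 12947 (.leaf 0x40008020401050007) (.leaf 0x0)))) (.node 12951 (.node 12949 (.leaf 0xb0b0a0003) (.node 12950 (.leaf 0x0) (.leaf 0x3295003291))) (.node 12952 (.leaf 0x50000090806000202000701000c) (.node 12953 (.leaf 0x0) (.leaf 0xf0b0b0a0004))))) (.node 12960 (.node 12957 (.node 12955 (.leaf 0x0) (.node 12956 (.leaf 0xb0a0a0003) (.leaf 0x0))) (.node 12958 (.leaf 0x0) (.node 12959 (.leaf 0x2090004080703040103000a) (.leaf 0x0)))) (.node 12963 (.node 12961 (.leaf 0xa0001) (.node 12962 (.leaf 0x0) (.leaf 0xb0a0f0003))) (.node 12964 (.leaf 0x32a2) (.node 12965 (.leaf 0x0) (.leaf 0xe0d0002))))))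

def argWS_1144 : Store := (.node 12977 (.node 12971 (.node 12968 (.node 12967 (.leaf 0x0) (.leaf 0x104000901090802040105000b)) (.node 12969 (.leaf 0x0) (.node 12970 (.leaf 0xf0a0002) (.leaf 0x90602000003010802040105000c)))) (.node 12974 (.node 12972 (.leaf 0x0) (.node 12973 (.leaf 0xf0001) (.leaf 0x0))) (.node 12975 (.leaf 0x701090402000703040103000b) (.node 12976 (.leaf 0x0) (.leaf 0x0))))) (.node 12983 (.node 12980 (.node 12978 (.leaf 0x32b0000416) (.node 12979 (.leaf 0x307020106060802040105000b) (.leaf 0x0))) (.node 12981 (.leaf 0xe0d0002) (.node 12982 (.leaf 0x0) (.leaf 0xe0a0002)))) (.node 12986 (.node 12984 (.leaf 0x0) (.node 12985 (.leaf 0x0) (.leaf 0x6010201060207020703040103000d))) (.node 12987 (.leaf 0x0) (.node 12988 (.leaf 0xa0f0002) (.leaf 0x0))))))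

def argWS_1145 : Store := (.node 12966 argWS_1143 argWS_1144)

def argWS_1146 : Store := (.node 12943 argWS_1142 argWS_1145)

def argWS_1147 : Store := (.node 12898 argWS_1139 argWS_1146)

def argWS_1148 : Store := (.node 12808 argWS_1132 argWS_1147)

def argWS_1149 : Store := (.node 12628 argWS_1117 argWS_1148)

def argWS_1150 : Store := (.node 12267 argWS_1086 argWS_1149)

def argWS_1151 : Store := (.node 13000 (.node 12994 (.node 12991 (.node 12990 (.leaf 0x40400050202000701000a) (.leaf 0x0)) (.node 12992 (.leaf 0xb0001) (.node 12993 (.leaf 0x0) (.leaf 0x32c00032bc)))) (.node 12997 (.node 12995 (.leaf 0xb0b0002) (.node 12996 (.leaf 0x0) (.leaf 0x209080508020401050009))) (.node 12998 (.leaf 0x0) (.node 12999 (.leaf 0xf0b0a0a0004) (.leaf 0x70206030500040202000701000c))))) (.node 13005 (.node 13002 (.node 13001 (.leaf 0x0) (.leaf 0xa0f0002)) (.node 13003 (.leaf 0x0) (.node 13004 (.leaf 0x50102010606000703040103000c) (.leaf 0x0)))) (.node 13008 (.node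 13006 (.leaf 0xa0f0b0003) (.node 13007 (.leaf 0x0) (.leaf 0x32ce))) (.node 13009 (.leaf 0xa0f0002) (.node 13010 (.leaf 0x0) (.leaf 0xf0b0a0003))))))

def argWS_1152 : Store := (.node 13022 (.node 13016 (.node 13013 (.node 13012 (.leaf 0x0) (.leaf 0xa0a0002)) (.node 13014 (.leaf 0xe0a0002) (.node 13015 (.leaf 0x32d5) (.leaf 0x404010908050202000701000b)))) (.node 13019 (.node 13017 (.leaf 0x0) (.node 13018 (.leaf 0xa0a0002) (.leaf 0x0))) (.node 13020 (.leaf 0xa0f0002) (.node 13021 (.leaf 0x0) (.leaf 0x0))))) (.node 13028 (.node 13025 (.node 13023 (.leaf 0xb0a0a0003) (.node 13024 (.leaf 0x1040308000703040103000a) (.leaf 0x0))) (.node 13026 (.leaf 0xd0b0002) (.node 13027 (.leaf 0x0) (.leaf 0xb0a0f0003)))) (.node 13031 (.node 13029 (.leaf 0x32e30032e2) (.node 13030 (.leaf 0x4030006020702010802040105000d) (.leaf 0x0))) (.node 13032 (.leaf 0xb0b0a0003) (.node 13033 (.leaf 0x0) (.leaf 0x40003030604000703040103000c))))))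

def argWS_1153 : Store := (.node 13011 argWS_1151 argWS_1152)

def argWS_1154 : Store := (.node 13045 (.node 13039 (.node 13036 (.node 13035 (.leaf 0x0) (.leaf 0xb0001)) (.node 13037 (.leaf 0xb0001) (.node 13038 (.leaf 0xb0a0a0003) (.leaf 0x90201070206000202000701000c)))) (.node 13042 (.node 13040 (.leaf 0x0) (.node 13041 (.leaf 0xf0b0b0a0a0005) (.leaf 0x0))) (.node 13043 (.leaf 0x2090303010102000008) (.node 13044 (.leaf 0x0) (.leaf 0xa0f0b0b0004))))) (.node 13050 (.node 13047 (.node 13046 (.leaf 0x0) (.leaf 0x32f50032f1)) (.node 13048 (.leaf 0x20702010802040105000a) (.node 13049 (.leaf 0x0) (.leaf 0xf0b0b0003)))) (.node 13053 (.node 13051 (.leaf 0x0) (.node 13052 (.leaf 0x307000301010200000703040103000e) (.leaf 0x0))) (.node 13054 (.leaf 0xe0d0002) (.node 13055 (.leaf 0xb0a0f0003) (.leaf 0x1020102090106000703040103000d))))))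

def argWS_1155 : Store := (.node 13067 (.node 13061 (.node 13058 (.node 13057 (.leaf 0x0) (.leaf 0xe0a0002)) (.node 13059 (.leaf 0x0) (.node 13060 (.leaf 0x3302) (.leaf 0x90806000005)))) (.node 13064 (.node 13062 (.leaf 0x0) (.node 13063 (.leaf 0xf0a0002) (.leaf 0x0))) (.node 13065 (.leaf 0x60200090000090202000701000c) (.node 13066 (.leaf 0x0) (.leaf 0xa0f0b0003))))) (.node 13073 (.node 13070 (.node 13068 (.leaf 0x605010908050802040105000b) (.node 13069 (.leaf 0x0) (.leaf 0xa0f0b0b0004))) (.node 13071 (.leaf 0x0) (.node 13072 (.leaf 0x6010904020802040105000b) (.leaf 0x0)))) (.node 13076 (.node 13074 (.leaf 0xd0001) (.node 13075 (.leaf 0x0) (.leaf 0x331200330e))) (.node 13077 (.leaf 0x502070009030006) (.node 13078 (.leaf 0x0) (.leaf 0xa0f0002))))))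

def argWS_1156 : Store := (.node 13056 argWS_1154 argWS_1155)

def argWS_1157 : Store := (.node 13034 argWS_1153 argWS_1156)

def argWS_1158 : Store := (.node 13090 (.node 13084 (.node 13081 (.node 13080 (.leaf 0x0) (.leaf 0xb0b0a0003)) (.node 13082 (.leaf 0x0) (.node 13083 (.leaf 0x0) (.leaf 0xb0f0a0003)))) (.node 13087 (.node 13085 (.leaf 0xb0a0f0003) (.node 13086 (.leaf 0x80200020703000703040103000c) (.leaf 0x0))) (.node 13088 (.leaf 0xd0b0002) (.node 13089 (.leaf 0x0) (.leaf 0x332000331c))))) (.node 13095 (.node 13092 (.node 13091 (.leaf 0x1090306010500020202000701000d) (.leaf 0x0)) (.node 13093 (.leaf 0xb0b0002) (.node 13094 (.leaf 0x0) (.leaf 0x3000300000202000701000a)))) (.node 13098 (.node 13096 (.leaf 0x0) (.node 13097 (.leaf 0xd0b0b0003) (.leaf 0x20407020902000703040103000c))) (.node 13099 (.leaf 0x0) (.node 13100 (.leaf 0x0) (.leaf 0xf0001))))))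

def argWS_1159 : Store := (.node 13112 (.node 13106 (.node 13103 (.node 13102 (.leaf 0x332c) (.leaf 0xf0001)) (.node 13104 (.leaf 0x0) (.node 13105 (.leaf 0xe0a0002) (.leaf 0x0)))) (.node 13109 (.node 13107 (.leaf 0x0) (.node 13108 (.leaf 0xa0a0002) (.leaf 0xf0b0a0003))) (.node 13110 (.leaf 0x206000408010802040105000b) (.node 13111 (.leaf 0x0) (.leaf 0x0))))) (.node 13118 (.node 13115 (.node 13113 (.leaf 0x3337003334) (.node 13114 (.leaf 0x90005020202010007) (.leaf 0x0))) (.node 13116 (.leaf 0xa0a0002) (.node 13117 (.leaf 0x0) (.leaf 0x401040005000703040103000b)))) (.node 13121 (.node 13119 (.leaf 0x0) (.node 13120 (.leaf 0xb0a0a0003) (.leaf 0x4030400050005))) (.node 13122 (.leaf 0x0) (.node 13123 (.leaf 0x0) (.leaf 0x304030900090802040105000b))))))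

def argWS_1160 : Store := (.node 13101 argWS_1158 argWS_1159)

def argWS_1161 : Store := (.node 13135 (.node 13129 (.node 13126 (.node 13125 (.leaf 0x0) (.leaf 0xe0d0002)) (.node 13127 (.leaf 0x0) (.node 13128 (.leaf 0x3346) (.leaf 0x40103010102000007)))) (.node 13132 (.node 13130 (.leaf 0x0) (.node 13131 (.leaf 0xb0b0a0a0004) (.leaf 0x0))) (.node 13133 (.leaf 0x306020702010006) (.node 13134 (.leaf 0x0) (.leaf 0xf0a0a0003))))) (.node 13140 (.node 13137 (.node 13136 (.leaf 0x50300090206020008) (.leaf 0x0)) (.node 13138 (.leaf 0xb0a0002) (.node 13139 (.leaf 0x0) (.leaf 0xf0b0a0a0004)))) (.node 13143 (.node 13141 (.leaf 0xf0b0b0a0a0005) (.node 13142 (.leaf 0x3354003353) (.leaf 0xe0d0002))) (.node 13144 (.leaf 0x0) (.node 13145 (.leaf 0xb0a0f0003) (.leaf 0x0))))))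

def argWS_1162 : Store := (.node 13157 (.node 13151 (.node 13148 (.node 13147 (.leaf 0x0) (.leaf 0x10107020902000703040103000c)) (.node 13149 (.leaf 0x0) (.node 13150 (.leaf 0xb0a0a0003) (.leaf 0x0)))) (.node 13154 (.node 13152 (.leaf 0x702000003010802040105000b) (.node 13153 (.leaf 0x0) (.leaf 0xe0001))) (.node 13155 (.leaf 0x0) (.node 13156 (.leaf 0xe0001) (.leaf 0x0))))) (.node 13163 (.node 13160 (.node 13158 (.leaf 0x3364003362) (.node 13159 (.leaf 0x9070401050005) (.leaf 0x0))) (.node 13161 (.leaf 0xb0a0a0003) (.node 13162 (.leaf 0x0) (.leaf 0xa0f0b0003)))) (.node 13166 (.node 13164 (.leaf 0x0) (.node 13165 (.leaf 0x0) (.leaf 0xa0f0b0b0004))) (.node 13167 (.leaf 0xd0b0b0003) (.node 13168 (.leaf 0x200070009020007010009) (.leaf 0x0))))))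

def argWS_1163 : Store := (.node 13146 argWS_1161 argWS_1162)

def argWS_1164 : Store := (.node 13124 argWS_1160 argWS_1163)

def argWS_1165 : Store := (.node 13079 argWS_1157 argWS_1164)

def argWS_1166 : Store := (.node 13180 (.node 13174 (.node 13171 (.node 13170 (.leaf 0xf0b0b0a0a0005) (.leaf 0x0)) (.node 13172 (.leaf 0x337200336e) (.node 13173 (.leaf 0xb0a0002) (.leaf 0x0)))) (.node 13177 (.node 13175 (.leaf 0x10202050206040802040105000c) (.node 13176 (.leaf 0x0) (.leaf 0xe0a0002))) (.node 13178 (.leaf 0x4020502000003010802040105000d) (.node 13179 (.leaf 0x0) (.leaf 0x0))))) (.node 13185 (.node 13182 (.node 13181 (.leaf 0x1020400050802040105000a) (.leaf 0x0)) (.node 13183 (.leaf 0xf0b0b0a0004) (.node 13184 (.leaf 0x0) (.leaf 0xe0a0002)))) (.node 13188 (.node 13186 (.leaf 0x338000337f) (.node 13187 (.leaf 0xa0f0b0b0004) (.leaf 0x0))) (.node 13189 (.leaf 0x40206020007010008) (.node 13190 (.leaf 0x0) (.leaf 0xf0b0a0003))))))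

def argWS_1167 : Store := (.node 13202 (.node 13196 (.node 13193 (.node 13192 (.leaf 0xe0a0002) (.leaf 0x500090206020202000701000b)) (.node 13194 (.leaf 0x0) (.node 13195 (.leaf 0xf0a0a0003) (.leaf 0x0)))) (.node 13199 (.node 13197 (.leaf 0x338b) (.node 13198 (.leaf 0xb0b0a0003) (.leaf 0x0))) (.node 13200 (.leaf 0x70500030306040802040105000c) (.node 13201 (.leaf 0x0) (.leaf 0xf0b0b0a0004))))) (.node 13208 (.node 13205 (.node 13203 (.leaf 0x4070009030005) (.node 13204 (.leaf 0x0) (.leaf 0xf0b0b0003))) (.node 13206 (.leaf 0x0) (.node 13207 (.leaf 0x400030401050006) (.leaf 0x0)))) (.node 13211 (.node 13209 (.leaf 0xe0d0002) (.node 13210 (.leaf 0x0) (.leaf 0x10300020106060007))) (.node 13212 (.leaf 0x0) (.node 13213 (.leaf 0xd0b0002) (.leaf 0x0))))))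

def argWS_1168 : Store := (.node 13191 argWS_1166 argWS_1167)

def argWS_1169 : Store := (.node 13225 (.node 13219 (.node 13216 (.node 13215 (.leaf 0x339d003399) (.leaf 0xf0b0a0a0004)) (.node 13217 (.leaf 0x0) (.node 13218 (.leaf 0x30400050005) (.leaf 0x0)))) (.node 13222 (.node 13220 (.leaf 0xb0f0002) (.node 13221 (.leaf 0x20601050002000703040103000c) (.leaf 0x0))) (.node 13223 (.leaf 0x0) (.node 13224 (.leaf 0x20506010500020007) (.leaf 0x0))))) (.node 13230 (.node 13227 (.node 13226 (.leaf 0xa0f0b0003) (.leaf 0x0)) (.node 13228 (.leaf 0x33aa) (.node 13229 (.leaf 0x307020901060802040105000b) (.leaf 0x0)))) (.node 13233 (.node 13231 (.leaf 0xa0f0b0b0004) (.node 13232 (.leaf 0x0) (.leaf 0x0))) (.node 13234 (.leaf 0x30000030306040202000701000c) (.node 13235 (.leaf 0x0) (.leaf 0xe0d0002))))))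

def argWS_1170 : Store := (.node 13247 (.node 13241 (.node 13238 (.node 13237 (.leaf 0x0) (.leaf 0x30700090000090007)) (.node 13239 (.leaf 0x0) (.node 13240 (.leaf 0xf0a0002) (.leaf 0x0)))) (.node 13244 (.node 13242 (.leaf 0x33b8) (.node 13243 (.leaf 0xf0b0a0a0004) (.leaf 0x0))) (.node 13245 (.leaf 0xf0b0a0003) (.node 13246 (.leaf 0x0) (.leaf 0x0))))) (.node 13253 (.node 13250 (.node 13248 (.leaf 0xa0a0002) (.node 13249 (.leaf 0xf0b0b0003) (.leaf 0xb0001))) (.node 13251 (.leaf 0x33c10033c0) (.node 13252 (.leaf 0xf0b0a0a0004) (.leaf 0x0)))) (.node 13256 (.node 13254 (.leaf 0x10409080600000703040103000c) (.node 13255 (.leaf 0x0) (.leaf 0xb0a0f0003))) (.node 13257 (.leaf 0x3050206040202000701000b) (.node 13258 (.leaf 0x0) (.leaf 0xe0a0a0003))))))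

def argWS_1171 : Store := (.node 13236 argWS_1169 argWS_1170)

def argWS_1172 : Store := (.node 13214 argWS_1168 argWS_1171)

def argWS_1173 : Store := (.node 13270 (.node 13264 (.node 13261 (.node 13260 (.leaf 0x0) (.leaf 0x90700070206000007)) (.node 13262 (.leaf 0x0) (.node 13263 (.leaf 0xf0b0b0a0004) (.leaf 0x0)))) (.node 13267 (.node 13265 (.leaf 0xa0a0002) (.node 13266 (.leaf 0x0) (.leaf 0x33d10033cf))) (.node 13268 (.leaf 0x900070209020802040105000b) (.node 13269 (.leaf 0x0) (.leaf 0xb0a0a0003))))) (.node 13275 (.node 13272 (.node 13271 (.leaf 0x0) (.leaf 0x503080007030401030009)) (.node 13273 (.leaf 0x0) (.node 13274 (.leaf 0xa0001) (.leaf 0x9020901060802040105000a)))) (.node 13278 (.node 13276 (.leaf 0x0) (.node 13277 (.leaf 0xf0a0a0003) (.leaf 0x0))) (.node 13279 (.leaf 0x33dd) (.node 13280 (.leaf 0x8000005020202010802040105000d) (.leaf 0x0))))))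

def argWS_1174 : Store := (.node 13292 (.node 13286 (.node 13283 (.node 13282 (.leaf 0xb0f0a0a0004) (.leaf 0x0)) (.node 13284 (.leaf 0x4040007030401030008) (.node 13285 (.leaf 0x0) (.leaf 0xf0001)))) (.node 13289 (.node 13287 (.leaf 0x60002020900000008) (.node 13288 (.leaf 0x0) (.leaf 0xf0b0a0003))) (.node 13290 (.leaf 0x0) (.node 13291 (.leaf 0xa0f0002) (.leaf 0x33ea))))) (.node 13298 (.node 13295 (.node 13293 (.leaf 0xa0001) (.node 13294 (.leaf 0x0) (.leaf 0x3090806000006))) (.node 13296 (.leaf 0x0) (.node 13297 (.leaf 0xa0a0002) (.leaf 0xb0a0a0003)))) (.node 13301 (.node 13299 (.leaf 0x30705020202010802040105000c) (.node 13300 (.leaf 0x0) (.leaf 0xb0a0a0003))) (.node 13302 (.leaf 0x0) (.node 13303 (.leaf 0x904020003) (.leaf 0x0))))))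

def argWS_1175 : Store := (.node 13281 argWS_1173 argWS_1174)

def argWS_1176 : Store := (.node 13315 (.node 13309 (.node 13306 (.node 13305 (.leaf 0xb0f0a0a0004) (.leaf 0x0)) (.node 13307 (.leaf 0x33f90033f5) (.node 13308 (.leaf 0x1020900000005) (.leaf 0x0)))) (.node 13312 (.node 13310 (.leaf 0xa0f0b0b0004) (.node 13311 (.leaf 0x0) (.leaf 0x5010901090802040105000a))) (.node 13313 (.leaf 0x0) (.node 13314 (.leaf 0x907000400050802040105000b) (.leaf 0x0))))) (.node 13320 (.node 13317 (.node 13316 (.leaf 0xe0a0a0003) (.leaf 0x0)) (.node 13318 (.leaf 0x3404) (.node 13319 (.leaf 0xb0001) (.leaf 0x0)))) (.node 13323 (.node 13321 (.leaf 0xd0b0b0003) (.node 13322 (.leaf 0x0) (.leaf 0x0))) (.node 13324 (.leaf 0xb0b0a0003) (.node 13325 (.leaf 0x1090000090005) (.leaf 0x0))))))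

def argWS_1177 : Store := (.node 13337 (.node 13331 (.node 13328 (.node 13327 (.leaf 0x0) (.leaf 0x340e000995)) (.node 13329 (.leaf 0xb0a0f0003) (.node 13330 (.leaf 0x0) (.leaf 0xe0a0002)))) (.node 13334 (.node 13332 (.leaf 0x0) (.node 13333 (.leaf 0x0) (.leaf 0xa0f0002))) (.node 13335 (.leaf 0x10201020901060202000701000c) (.node 13336 (.leaf 0x0) (.leaf 0xe0a0a0003))))) (.node 13343 (.node 13340 (.node 13338 (.leaf 0x0) (.node 13339 (.leaf 0x3419003415) (.leaf 0x8020000020804000802040105000d))) (.node 13341 (.leaf 0x0) (.node 13342 (.leaf 0xb0f0a0003) (.leaf 0x0)))) (.node 13346 (.node 13344 (.leaf 0x9050300000300000802040105000d) (.node 13345 (.leaf 0x0) (.leaf 0xb0f0a0a0004))) (.node 13347 (.leaf 0x2040308000703040103000a) (.node 13348 (.leaf 0x0) (.leaf 0x0))))))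

def argWS_1178 : Store := (.node 13326 argWS_1176 argWS_1177)

def argWS_1179 : Store := (.node 13304 argWS_1175 argWS_1178)

def argWS_1180 : Store := (.node 13259 argWS_1172 argWS_1179)

def argWS_1181 : Store := (.node 13169 argWS_1165 argWS_1180)

def argWS_1182 : Store := (.node 13360 (.node 13354 (.node 13351 (.node 13350 (.leaf 0x3010904020802040105000b) (.leaf 0x0)) (.node 13352 (.leaf 0xb0001) (.node 13353 (.leaf 0x0) (.leaf 0x900050206040007)))) (.node 13357 (.node 13355 (.leaf 0x0) (.node 13356 (.leaf 0xf0b0b0a0004) (.leaf 0x0))) (.node 13358 (.leaf 0x342c003428) (.node 13359 (.leaf 0x102020000030703040103000b) (.leaf 0x0))))) (.node 13365 (.node 13362 (.node 13361 (.leaf 0xf0a0a0003) (.leaf 0x0)) (.node 13363 (.leaf 0x60401050206040007) (.node 13364 (.leaf 0x0) (.leaf 0xd0001)))) (.node 13368 (.node 13366 (.leaf 0x6000002080400000703040103000d) (.node 13367 (.leaf 0x0) (.leaf 0xd0b0b0003))) (.node 13369 (.leaf 0x0) (.node 13370 (.leaf 0x60306040004)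 (.leaf 0x0))))))

def argWS_1183 : Store := (.node 13382 (.node 13376 (.node 13373 (.node 13372 (.leaf 0xb0f0002) (.leaf 0x0)) (.node 13374 (.leaf 0x343c003438) (.node 13375 (.leaf 0x40306030500040007) (.leaf 0x0)))) (.node 13379 (.node 13377 (.leaf 0xd0b0002) (.node 13378 (.leaf 0x0) (.leaf 0x906020603000703040103000b))) (.node 13380 (.leaf 0x0) (.node 13381 (.leaf 0xb0001) (.leaf 0xf0b0b0a0a0005))))) (.node 13388 (.node 13385 (.node 13383 (.leaf 0x40103010102000802040105000c) (.node 13384 (.leaf 0x0) (.leaf 0xb0a0a0003))) (.node 13386 (.leaf 0x0) (.node 13387 (.leaf 0x3449001f4e) (.leaf 0xb0a0a0003)))) (.node 13391 (.node 13389 (.leaf 0x0) (.node 13390 (.leaf 0x5030900090802040105000b) (.leaf 0x0))) (.node 13392 (.leaf 0xf0b0a0003) (.node 13393 (.leaf 0x300070206000202000701000b) (.leaf 0x0))))))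

def argWS_1184 : Store := (.node 13371 argWS_1182 argWS_1183)

def argWS_1185 : Store := (.node 13405 (.node 13399 (.node 13396 (.node 13395 (.leaf 0xf0b0b0a0004) (.leaf 0x0)) (.node 13397 (.leaf 0x40304040005000703040103000c) (.node 13398 (.leaf 0x0) (.leaf 0xa0f0002)))) (.node 13402 (.node 13400 (.leaf 0x0) (.node 13401 (.leaf 0x3457) (.leaf 0x0))) (.node 13403 (.leaf 0xb0a0002) (.node 13404 (.leaf 0x0) (.leaf 0x20601090402000703040103000c))))) (.node 13410 (.node 13407 (.node 13406 (.leaf 0x0) (.leaf 0xb0b0a0a0004)) (.node 13408 (.leaf 0x8060008020401050008) (.node 13409 (.leaf 0x0) (.leaf 0x0)))) (.node 13413 (.node 13411 (.leaf 0x40003050206040202000701000c) (.node 13412 (.leaf 0x0) (.leaf 0xa0001))) (.node 13414 (.leaf 0x0) (.node 13415 (.leaf 0xb0a0002) (.leaf 0x3466003465))))))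

def argWS_1186 : Store := (.node 13427 (.node 13421 (.node 13418 (.node 13417 (.leaf 0x2000200030306040202000701000d) (.leaf 0x0)) (.node 13419 (.leaf 0xa0f0002) (.node 13420 (.leaf 0x0) (.leaf 0x0)))) (.node 13424 (.node 13422 (.leaf 0x0) (.node 13423 (.leaf 0x5030502020900000202000701000d) (.leaf 0x402020900000802040105000b))) (.node 13425 (.leaf 0x0) (.node 13426 (.leaf 0x4040002) (.leaf 0x0))))) (.node 13433 (.node 13430 (.node 13428 (.leaf 0x406060003) (.node 13429 (.leaf 0x0) (.leaf 0x406060003))) (.node 13431 (.leaf 0x0) (.node 13432 (.leaf 0x406060003) (.leaf 0x0)))) (.node 13436 (.node 13434 (.leaf 0x502020900000802040105000b) (.node 13435 (.leaf 0x0) (.leaf 0x8020002020900000008))) (.node 13437 (.leaf 0x0) (.node 13438 (.leaf 0x900020901060202000701000c) (.leaf 0x0))))))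

def argWS_1187 : Store := (.node 13416 argWS_1185 argWS_1186)

def argWS_1188 : Store := (.node 13394 argWS_1184 argWS_1187)

def argWS_1189 : Store := (.node 13450 (.node 13444 (.node 13441 (.node 13440 (.leaf 0x502020900000802040105000b) (.leaf 0x0)) (.node 13442 (.leaf 0x70308020401050008) (.node 13443 (.leaf 0x0) (.leaf 0x502020900000802040105000b)))) (.node 13447 (.node 13445 (.leaf 0x0) (.node 13446 (.leaf 0x900020901060202000701000c) (.leaf 0x0))) (.node 13448 (.leaf 0x502020900000802040105000b) (.node 13449 (.leaf 0x0) (.leaf 0x8020002090106000703040103000d))))) (.node 13455 (.node 13452 (.node 13451 (.leaf 0x0) (.leaf 0x502020900000802040105000b)) (.node 13453 (.leaf 0x0) (.node 13454 (.leaf 0x30106030500040202000701000c) (.leaf 0x0)))) (.node 13458 (.node 13456 (.leaf 0xf0b0002) (.node 13457 (.leaf 0x600070306000703040103000b) (.leaf 0x0))) (.node 13459 (.leaf 0xd0b0002) (.node 13460 (.leaf 0x202020003) (.leaf 0x0))))))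

def argWS_1190 : Store := (.node 13472 (.node 13466 (.node 13463 (.node 13462 (.leaf 0x5000000000300000802040105000d) (.leaf 0x0)) (.node 13464 (.leaf 0xb0f0a0003) (.node 13465 (.leaf 0x700070206000202000701000b) (.leaf 0x0)))) (.node 13469 (.node 13467 (.leaf 0xa0001) (.node 13468 (.leaf 0x1020206020702010802040105000d) (.leaf 0x0))) (.node 13470 (.leaf 0xb0001) (.node 13471 (.leaf 0x207030003) (.leaf 0x0))))) (.node 13478 (.node 13475 (.node 13473 (.leaf 0xf0b0b0a0004) (.node 13474 (.leaf 0x606010400050802040105000b) (.leaf 0x0))) (.node 13476 (.leaf 0xf0b0b0a0a0005) (.node 13477 (.leaf 0x500090000090006) (.leaf 0x0)))) (.node 13481 (.node 13479 (.leaf 0xa0f0b0b0004) (.node 13480 (.leaf 0xd0b0b0003) (.leaf 0x90000020804000007))) (.node 13482 (.leaf 0x0) (.node 13483 (.leaf 0xb0f0a0003) (.leaf 0x0))))))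

def argWS_1191 : Store := (.node 13461 argWS_1189 argWS_1190)

def argWS_1192 : Store := (.node 13495 (.node 13489 (.node 13486 (.node 13485 (.leaf 0xf0001) (.leaf 0x34ac)) (.node 13487 (.leaf 0x202060408020401050009) (.node 13488 (.leaf 0x0) (.leaf 0xb0a0a0003)))) (.node 13492 (.node 13490 (.leaf 0x0) (.node 13491 (.leaf 0xd0001) (.leaf 0x0))) (.node 13493 (.leaf 0x0) (.node 13494 (.leaf 0x70000030306040007) (.leaf 0x0))))) (.node 13500 (.node 13497 (.node 13496 (.leaf 0x0) (.leaf 0x34b7)) (.node 13498 (.leaf 0x20403070206000007) (.node 13499 (.leaf 0x0) (.leaf 0xb0b0002)))) (.node 13503 (.node 13501 (.leaf 0x0) (.node 13502 (.leaf 0xb0a0a0003) (.leaf 0x0))) (.node 13504 (.leaf 0x0) (.node 13505 (.leaf 0xf0b0b0003) (.leaf 0xb0a0002))))))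

def argWS_1193 : Store := (.node 13517 (.node 13511 (.node 13508 (.node 13507 (.leaf 0xb0a0a0003) (.leaf 0xd0b0b0003)) (.node 13509 (.leaf 0x34c3) (.node 13510 (.leaf 0x5020002010606000703040103000d) (.leaf 0x0)))) (.node 13514 (.node 13512 (.leaf 0xb0a0a0003) (.node 13513 (.leaf 0x0) (.leaf 0x7030506030500040802040105000d))) (.node 13515 (.leaf 0x0) (.node 13516 (.leaf 0xf0a0002) (.leaf 0x20903010904020202000701000c))))) (.node 13523 (.node 13520 (.node 13518 (.leaf 0x0) (.node 13519 (.leaf 0xa0f0002) (.leaf 0x0))) (.node 13521 (.leaf 0x9030002) (.node 13522 (.leaf 0x0) (.leaf 0x0)))) (.node 13526 (.node 13524 (.leaf 0x34d2) (.node 13525 (.leaf 0x20901010908050802040105000c) (.leaf 0x0))) (.node 13527 (.leaf 0xf0b0a0003) (.node 13528 (.leaf 0x0) (.leaf 0xb0b0002))))))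

def argWS_1194 : Store := (.node 13506 argWS_1192 argWS_1193)

def argWS_1195 : Store := (.node 13484 argWS_1191 argWS_1194)

def argWS_1196 : Store := (.node 13439 argWS_1188 argWS_1195)

def argWS_1197 : Store := (.node 13540 (.node 13534 (.node 13531 (.node 13530 (.leaf 0x0) (.leaf 0x0)) (.node 13532 (.leaf 0xf0b0b0a0a0005) (.node 13533 (.leaf 0x500000601050002000703040103000e) (.leaf 0x0)))) (.node 13537 (.node 13535 (.leaf 0x0) (.node 13536 (.leaf 0x1f340034de) (.leaf 0xf0b0b0003))) (.node 13538 (.leaf 0x0) (.node 13539 (.leaf 0xb0001) (.leaf 0x0))))) (.node 13545 (.node 13542 (.node 13541 (.leaf 0x0) (.leaf 0xf0b0a0a0004)) (.node 13543 (.leaf 0x80006030500040802040105000c) (.node 13544 (.leaf 0x0) (.leaf 0x0)))) (.node 13548 (.node 13546 (.leaf 0x10903000408010007) (.node 13547 (.leaf 0x0) (.leaf 0xe0001))) (.node 13549 (.leaf 0x0) (.node 13550 (.leaf 0x7000408010802040105000a) (.leaf 0x0))))))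

def argWS_1198 : Store := (.node 13562 (.node 13556 (.node 13553 (.node 13552 (.leaf 0xa0f0002) (.leaf 0x0)) (.node 13554 (.leaf 0x34f00034ec) (.node 13555 (.leaf 0xf0b0b0a0004) (.leaf 0x0)))) (.node 13559 (.node 13557 (.leaf 0x2010606000703040103000c) (.node 13558 (.leaf 0x0) (.leaf 0xf0a0a0003))) (.node 13560 (.leaf 0xf0b0b0a0a0005) (.node 13561 (.leaf 0xb0001) (.leaf 0x2050901090202000701000a))))) (.node 13568 (.node 13565 (.node 13563 (.leaf 0x0) (.node 13564 (.leaf 0xe0a0002) (.leaf 0x0))) (.node 13566 (.leaf 0xf0b0b0a0004) (.node 13567 (.leaf 0x6020702010202000701000c) (.leaf 0x0)))) (.node 13571 (.node 13569 (.leaf 0xa0f0b0b0004) (.node 13570 (.leaf 0x0) (.leaf 0x35010034fd))) (.node 13572 (.leaf 0x204030601050002000703040103000e) (.node 13573 (.leaf 0x0) (.leaf 0xf0a0a0003))))))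

def argWS_1199 : Store := (.node 13551 argWS_1197 argWS_1198)

def argWS_1200 : Store := (.node 13585 (.node 13579 (.node 13576 (.node 13575 (.leaf 0x0) (.leaf 0xb0001)) (.node 13577 (.leaf 0x0) (.node 13578 (.leaf 0x0) (.leaf 0xe0a0002)))) (.node 13582 (.node 13580 (.leaf 0xf0a0002) (.node 13581 (.leaf 0xf0b0b0a0004) (.leaf 0xb0001))) (.node 13583 (.leaf 0xe0d0002) (.node 13584 (.leaf 0x350e) (.leaf 0x1040703060202000701000a))))) (.node 13590 (.node 13587 (.node 13586 (.leaf 0x0) (.leaf 0xb0b0a0003)) (.node 13588 (.leaf 0x0) (.node 13589 (.leaf 0xe0a0a0003) (.leaf 0x0)))) (.node 13593 (.node 13591 (.leaf 0x0) (.node 13592 (.leaf 0x400030601050002000703040103000e) (.leaf 0x0))) (.node 13594 (.leaf 0x0) (.node 13595 (.leaf 0x604000400050202000701000b) (.leaf 0x0))))))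

def argWS_1201 : Store := (.node 13607 (.node 13601 (.node 13598 (.node 13597 (.leaf 0xf0a0a0003) (.leaf 0x0)) (.node 13599 (.leaf 0x5000009000009000703040103000d) (.node 13600 (.leaf 0x0) (.leaf 0xf0001)))) (.node 13604 (.node 13602 (.leaf 0x0) (.node 13603 (.leaf 0x352100351d) (.leaf 0xb0a0a0003))) (.node 13605 (.leaf 0x0) (.node 13606 (.leaf 0x20202010904020802040105000c) (.leaf 0x0))))) (.node 13613 (.node 13610 (.node 13608 (.leaf 0xd0001) (.node 13609 (.leaf 0x500000408010202000701000b) (.leaf 0x0))) (.node 13611 (.leaf 0xd0001) (.node 13612 (.leaf 0x0) (.leaf 0x0)))) (.node 13616 (.node 13614 (.leaf 0x6040105020202010802040105000d) (.node 13615 (.leaf 0x0) (.leaf 0x0))) (.node 13617 (.leaf 0xe0d0002) (.node 13618 (.leaf 0x353000352f) (.leaf 0x4030900090802040105000a))))))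

def argWS_1202 : Store := (.node 13596 argWS_1200 argWS_1201)

def argWS_1203 : Store := (.node 13574 argWS_1199 argWS_1202)

def argWS_1204 : Store := (.node 13630 (.node 13624 (.node 13621 (.node 13620 (.leaf 0x0) (.leaf 0xa0f0002)) (.node 13622 (.leaf 0x0) (.node 13623 (.leaf 0x80101090000090802040105000c) (.leaf 0x0)))) (.node 13627 (.node 13625 (.leaf 0xf0b0b0a0a0005) (.node 13626 (.leaf 0xf0b0a0003) (.leaf 0x9010400090206020008))) (.node 13628 (.leaf 0x0) (.node 13629 (.leaf 0xb0a0002) (.leaf 0x0))))) (.node 13635 (.node 13632 (.node 13631 (.leaf 0x353d) (.leaf 0x30700090206020202000701000c)) (.node 13633 (.leaf 0x0) (.node 13634 (.leaf 0xf0b0b0a0a0005) (.leaf 0x0)))) (.node 13638 (.node 13636 (.leaf 0x809040208020401050009) (.node 13637 (.leaf 0x0) (.leaf 0xd0001))) (.node 13639 (.leaf 0x800040900090802040105000b) (.node 13640 (.leaf 0x0) (.leaf 0xb0f0002))))))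

def argWS_1205 : Store := (.node 13652 (.node 13646 (.node 13643 (.node 13642 (.leaf 0x0) (.leaf 0x403040400050006)) (.node 13644 (.leaf 0x0) (.node 13645 (.leaf 0xe0001) (.leaf 0x0)))) (.node 13649 (.node 13647 (.leaf 0x40101090805000703040103000c) (.node 13648 (.leaf 0x0) (.leaf 0xb0f0002))) (.node 13650 (.leaf 0x0) (.node 13651 (.leaf 0x355100354d) (.leaf 0x3040300020804000202000701000d))))) (.node 13658 (.node 13655 (.node 13653 (.leaf 0x0) (.node 13654 (.leaf 0xf0a0a0003) (.leaf 0x0))) (.node 13656 (.leaf 0xf0b0a0003) (.node 13657 (.leaf 0x0) (.leaf 0x0)))) (.node 13661 (.node 13659 (.leaf 0xb0001) (.node 13660 (.leaf 0x30106030500040007) (.leaf 0x0))) (.node 13662 (.leaf 0x0) (.node 13663 (.leaf 0x5020105020604000703040103000d) (.leaf 0x0))))))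

def argWS_1206 : Store := (.node 13641 argWS_1204 argWS_1205)

def argWS_1207 : Store := (.node 13675 (.node 13669 (.node 13666 (.node 13665 (.leaf 0xf0a0002) (.leaf 0x0)) (.node 13667 (.leaf 0x60009000009000703040103000c) (.node 13668 (.leaf 0x0) (.leaf 0xa0a0002)))) (.node 13672 (.node 13670 (.leaf 0x0) (.node 13671 (.leaf 0x4020207030401030008) (.leaf 0x0))) (.node 13673 (.leaf 0xe0a0002) (.node 13674 (.leaf 0x0) (.leaf 0x3569003565))))) (.node 13681 (.node 13678 (.node 13676 (.leaf 0xb0a0002) (.node 13677 (.leaf 0x0) (.leaf 0x20609020602000703040103000c))) (.node 13679 (.leaf 0x0) (.node 13680 (.leaf 0xe0a0002) (.leaf 0x2000408010802040105000a)))) (.node 13684 (.node 13682 (.leaf 0x0) (.node 13683 (.leaf 0xa0f0b0b0004) (.leaf 0x0))) (.node 13685 (.leaf 0x600000206030802040105000b) (.node 13686 (.leaf 0x0) (.leaf 0xb0b0a0a0004))))))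

def argWS_1208 : Store := (.node 13698 (.node 13692 (.node 13689 (.node 13688 (.leaf 0x0) (.leaf 0xa0f0b0b0004)) (.node 13690 (.leaf 0x3578003577) (.node 13691 (.leaf 0xa0f0002) (.leaf 0x0)))) (.node 13695 (.node 13693 (.leaf 0xb0f0a0003) (.node 13694 (.leaf 0x0) (.leaf 0x0))) (.node 13696 (.leaf 0x204000300000202000701000b) (.node 13697 (.leaf 0x0) (.leaf 0xf0b0002))))) (.node 13704 (.node 13701 (.node 13699 (.leaf 0x0) (.node 13700 (.leaf 0x107070306000703040103000b) (.leaf 0x0))) (.node 13702 (.leaf 0xf0a0a0003) (.node 13703 (.leaf 0x0) (.leaf 0xf0b0a0003)))) (.node 13707 (.node 13705 (.leaf 0x3587003586) (.node 13706 (.leaf 0xf0b0b0a0a0005) (.leaf 0x0))) (.node 13708 (.leaf 0x0) (.node 13709 (.leaf 0xb0b0002) (.leaf 0x8000400030306040202000701000d))))))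

def argWS_1209 : Store := (.node 13687 argWS_1207 argWS_1208)

def argWS_1210 : Store := (.node 13664 argWS_1206 argWS_1209)

def argWS_1211 : Store := (.node 13619 argWS_1203 argWS_1210)

def argWS_1212 : Store := (.node 13529 argWS_1196 argWS_1211)

def argWS_1213 : Store := (.node 13349 argWS_1181 argWS_1212)

def argWS_1214 : Store := (.node 13721 (.node 13715 (.node 13712 (.node 13711 (.leaf 0x0) (.leaf 0xb0001)) (.node 13713 (.leaf 0x0) (.node 13714 (.leaf 0x1040601050002000703040103000d) (.leaf 0x0)))) (.node 13718 (.node 13716 (.leaf 0xb0f0a0003) (.node 13717 (.leaf 0x0) (.leaf 0x3594003590))) (.node 13719 (.leaf 0xf0b0002) (.node 13720 (.leaf 0x0) (.leaf 0x0))))) (.node 13726 (.node 13723 (.node 13722 (.leaf 0x0) (.leaf 0x9070901090005)) (.node 13724 (.leaf 0x204000508020401050009) (.node 13725 (.leaf 0x0) (.leaf 0x4040002)))) (.node 13729 (.node 13727 (.leaf 0x0) (.node 13728 (.leaf 0x4040002) (.leaf 0x0))) (.node 13730 (.leaf 0x204000508020401050009)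 (.node 13731 (.leaf 0x0) (.leaf 0x204000508020401050009))))))

def argWS_1215 : Store := (.node 13743 (.node 13737 (.node 13734 (.node 13733 (.leaf 0x0) (.leaf 0x4040002)) (.node 13735 (.leaf 0x0) (.node 13736 (.leaf 0x4040002) (.leaf 0x0)))) (.node 13740 (.node 13738 (.leaf 0x30106030500040202000701000c) (.node 13739 (.leaf 0x0) (.leaf 0xb0b0a0a0004))) (.node 13741 (.leaf 0x9070202090000000703040103000d) (.node 13742 (.leaf 0x0) (.leaf 0xf0b0b0a0a0005))))) (.node 13749 (.node 13746 (.node 13744 (.leaf 0x6050105020604000703040103000d) (.node 13745 (.leaf 0x0) (.leaf 0xa0f0002))) (.node 13747 (.leaf 0x600070306000703040103000b) (.node 13748 (.leaf 0x0) (.leaf 0xb0b0002)))) (.node 13752 (.node 13750 (.leaf 0x400030009020602000703040103000e) (.node 13751 (.leaf 0x0) (.leaf 0xb0f0a0003))) (.node 13753 (.leaf 0x202000003010802040105000c) (.node 13754 (.leaf 0x0) (.leaf 0xa0f0002))))))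

def argWS_1216 : Store := (.node 13732 argWS_1214 argWS_1215)

def argWS_1217 : Store := (.node 13766 (.node 13760 (.node 13757 (.node 13756 (.leaf 0x202020003) (.leaf 0x0)) (.node 13758 (.leaf 0xb0f0002) (.node 13759 (.leaf 0x200000300000006) (.leaf 0x0)))) (.node 13763 (.node 13761 (.leaf 0xa0f0b0003) (.node 13762 (.leaf 0x702070209020802040105000b) (.leaf 0x0))) (.node 13764 (.leaf 0xd0b0b0003) (.node 13765 (.leaf 0x70901090802040105000a) (.leaf 0x0))))) (.node 13771 (.node 13768 (.node 13767 (.leaf 0xf0a0a0003) (.leaf 0x207030003)) (.node 13769 (.leaf 0x0) (.node 13770 (.leaf 0xb0f0a0a0004) (.leaf 0x304030003)))) (.node 13774 (.node 13772 (.leaf 0x0) (.node 13773 (.leaf 0xf0b0a0003) (.leaf 0x5000206020007010008))) (.node 13775 (.leaf 0x0) (.node 13776 (.leaf 0xf0b0b0a0a0005) (.leaf 0x6080102020007010008))))))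

def argWS_1218 : Store := (.node 13788 (.node 13782 (.node 13779 (.node 13778 (.leaf 0x0) (.leaf 0xb0a0002)) (.node 13780 (.leaf 0x3090009000703040103000b) (.node 13781 (.leaf 0x0) (.leaf 0xa0001)))) (.node 13785 (.node 13783 (.leaf 0x0) (.node 13784 (.leaf 0x9030007000902000701000a) (.leaf 0x0))) (.node 13786 (.leaf 0xa0f0b0003) (.node 13787 (.leaf 0x0) (.leaf 0x2010500020802040105000a))))) (.node 13794 (.node 13791 (.node 13789 (.leaf 0x0) (.node 13790 (.leaf 0xe0d0002) (.leaf 0x0))) (.node 13792 (.leaf 0x35de) (.node 13793 (.leaf 0x70308020401050008) (.leaf 0x0)))) (.node 13797 (.node 13795 (.leaf 0xe0a0a0003) (.node 13796 (.leaf 0x0) (.leaf 0xf0a0002))) (.node 13798 (.leaf 0x0) (.node 13799 (.leaf 0x0) (.leaf 0x40002020007010007))))))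

def argWS_1219 : Store := (.node 13777 argWS_1217 argWS_1218)

def argWS_1220 : Store := (.node 13755 argWS_1216 argWS_1219)

def argWS_1221 : Store := (.node 13811 (.node 13805 (.node 13802 (.node 13801 (.leaf 0x0) (.leaf 0xb0b0a0003)) (.node 13803 (.leaf 0x0) (.node 13804 (.leaf 0x4020503080202000701000a) (.leaf 0x0)))) (.node 13808 (.node 13806 (.leaf 0xa0f0002) (.node 13807 (.leaf 0x0) (.leaf 0xb0a0f0003))) (.node 13809 (.leaf 0x35ef0035ee) (.node 13810 (.leaf 0x90006020702010802040105000d) (.leaf 0x0))))) (.node 13816 (.node 13813 (.node 13812 (.leaf 0xb0a0a0003) (.leaf 0x0)) (.node 13814 (.leaf 0x200090007030401030009) (.node 13815 (.leaf 0x0) (.leaf 0xf0a0a0003)))) (.node 13819 (.node 13817 (.leaf 0x702090806000802040105000b) (.node 13818 (.leaf 0x0) (.leaf 0xf0001))) (.node 13820 (.leaf 0x0) (.node 13821 (.leaf 0xb0f0002) (.leaf 0x35fc))))))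

def argWS_1222 : Store := (.node 13833 (.node 13827 (.node 13824 (.node 13823 (.leaf 0x502010308000703040103000b) (.leaf 0x0)) (.node 13825 (.leaf 0xe0001) (.node 13826 (.leaf 0x0) (.leaf 0x104020901060802040105000b)))) (.node 13830 (.node 13828 (.leaf 0x0) (.node 13829 (.leaf 0xe0d0002) (.leaf 0xb0f0002))) (.node 13831 (.leaf 0xd0b0002) (.node 13832 (.leaf 0xa0a0002) (.leaf 0xf0a0a0003))))) (.node 13839 (.node 13836 (.node 13834 (.leaf 0xb0b0002) (.node 13835 (.leaf 0xe0a0a0003) (.leaf 0xf0a0002))) (.node 13837 (.leaf 0xd0b0002) (.node 13838 (.leaf 0x2040106020702010802040105000d) (.leaf 0x0)))) (.node 13842 (.node 13840 (.leaf 0xb0a0f0003) (.node 13841 (.leaf 0x0) (.leaf 0xe0a0a0003))) (.node 13843 (.leaf 0x3611003610) (.node 13844 (.leaf 0xe0001) (.leaf 0x0))))))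

def argWS_1223 : Store := (.node 13822 argWS_1221 argWS_1222)

def argWS_1224 : Store := (.node 13856 (.node 13850 (.node 13847 (.node 13846 (.leaf 0x901020202010802040105000b) (.leaf 0x0)) (.node 13848 (.leaf 0xf0001) (.node 13849 (.leaf 0xf0001) (.leaf 0x0)))) (.node 13853 (.node 13851 (.leaf 0xb0f0a0a0004) (.node 13852 (.leaf 0x6050601050002000703040103000d) (.leaf 0x0))) (.node 13854 (.leaf 0xb0b0a0003) (.node 13855 (.leaf 0x0) (.leaf 0xa0a0002))))) (.node 13861 (.node 13858 (.node 13857 (.leaf 0x60308020401050008) (.leaf 0x0)) (.node 13859 (.leaf 0x0) (.node 13860 (.leaf 0x50202080400000703040103000c) (.leaf 0x0)))) (.node 13864 (.node 13862 (.leaf 0xb0f0002) (.node 13863 (.leaf 0x0) (.leaf 0x32c2003626))) (.node 13865 (.leaf 0xd0001) (.node 13866 (.leaf 0x0) (.leaf 0x8010105020604000703040103000d))))))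

def argWS_1225 : Store := (.node 13878 (.node 13872 (.node 13869 (.node 13868 (.leaf 0x0) (.leaf 0xb0b0a0003)) (.node 13870 (.leaf 0xf0b0b0a0004) (.node 13871 (.leaf 0x207090806000802040105000b) (.leaf 0x0)))) (.node 13875 (.node 13873 (.leaf 0xb0b0a0a0004) (.node 13874 (.leaf 0x0) (.leaf 0x3631))) (.node 13876 (.leaf 0x6010200020804000008) (.node 13877 (.leaf 0x0) (.leaf 0xf0b0a0003))))) (.node 13884 (.node 13881 (.node 13879 (.leaf 0x0) (.node 13880 (.leaf 0xe0d0002) (.leaf 0x0))) (.node 13882 (.leaf 0x0) (.node 13883 (.leaf 0xb0b0002) (.leaf 0x10300030000000703040103000c)))) (.node 13887 (.node 13885 (.leaf 0x8000000030306040202000701000d) (.node 13886 (.leaf 0x0) (.leaf 0xe0a0a0003))) (.node 13888 (.leaf 0x0) (.node 13889 (.leaf 0xe0001) (.leaf 0x1090206020202000701000a))))))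

def argWS_1226 : Store := (.node 13867 argWS_1224 argWS_1225)

def argWS_1227 : Store := (.node 13845 argWS_1223 argWS_1226)

def argWS_1228 : Store := (.node 13800 argWS_1220 argWS_1227)

def argWS_1229 : Store := (.node 13901 (.node 13895 (.node 13892 (.node 13891 (.leaf 0x0) (.leaf 0xb0b0a0a0004)) (.node 13893 (.leaf 0x0) (.node 13894 (.leaf 0x3644003640) (.leaf 0x503050603050004000703040103000e)))) (.node 13898 (.node 13896 (.leaf 0x0) (.node 13897 (.leaf 0xa0f0002) (.leaf 0x0))) (.node 13899 (.leaf 0x10400000408010007) (.node 13900 (.leaf 0x0) (.leaf 0xd0b0b0003))))) (.node 13906 (.node 13903 (.node 13902 (.leaf 0xb0001) (.leaf 0xe0001)) (.node 13904 (.leaf 0x364e) (.node 13905 (.leaf 0x9030401050005) (.leaf 0x0)))) (.node 13909 (.node 13907 (.leaf 0xb0a0002) (.node 13908 (.leaf 0x0) (.leaf 0x60000020000030703040103000c))) (.node 13910 (.leaf 0x0) (.node 13911 (.leaf 0xb0b0002) (.leaf 0x4020901060005))))))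

def argWS_1230 : Store := (.node 13923 (.node 13917 (.node 13914 (.node 13913 (.leaf 0x0) (.leaf 0xe0d0002)) (.node 13915 (.leaf 0x0) (.node 13916 (.leaf 0x6060106030500040202000701000d) (.leaf 0x0)))) (.node 13920 (.node 13918 (.leaf 0xb0b0a0003) (.node 13919 (.leaf 0x0) (.leaf 0x60102010900090202000701000c))) (.node 13921 (.leaf 0x0) (.node 13922 (.leaf 0xb0f0a0a0004) (.leaf 0x0))))) (.node 13929 (.node 13926 (.node 13924 (.leaf 0x366200365e) (.node 13925 (.leaf 0x40205050206040802040105000c) (.leaf 0x0))) (.node 13927 (.leaf 0xa0f0002) (.node 13928 (.leaf 0x0) (.leaf 0x502000000030000000703040103000e)))) (.node 13932 (.node 13930 (.leaf 0x0) (.node 13931 (.leaf 0xf0a0a0003) (.leaf 0xa0f0b0b0004))) (.node 13933 (.leaf 0xb0b0a0a0004) (.node 13934 (.leaf 0xb0a0a0003) (.leaf 0x4000007030401030008))))))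

def argWS_1231 : Store := (.node 13912 argWS_1229 argWS_1230)

def argWS_1232 : Store := (.node 13946 (.node 13940 (.node 13937 (.node 13936 (.leaf 0x0) (.leaf 0xa0001)) (.node 13938 (.leaf 0x0) (.node 13939 (.leaf 0x20900090004) (.leaf 0x0)))) (.node 13943 (.node 13941 (.leaf 0xe0a0002) (.node 13942 (.leaf 0x0) (.leaf 0xa0f0002))) (.node 13944 (.leaf 0x3676003675) (.node 13945 (.leaf 0xb0b0002) (.leaf 0x0))))) (.node 13951 (.node 13948 (.node 13947 (.leaf 0x207020106060202000701000b) (.leaf 0x0)) (.node 13949 (.leaf 0xb0b0002) (.node 13950 (.leaf 0x8000406030500040202000701000d) (.leaf 0x0)))) (.node 13954 (.node 13952 (.leaf 0xf0b0b0a0004) (.node 13953 (.leaf 0x0) (.leaf 0xd0b0b0003))) (.node 13955 (.leaf 0x3681) (.node 13956 (.leaf 0x0) (.leaf 0xa0001))))))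

def argWS_1233 : Store := (.node 13968 (.node 13962 (.node 13959 (.node 13958 (.leaf 0x0) (.leaf 0xe0a0002)) (.node 13960 (.leaf 0x0) (.node 13961 (.leaf 0x0) (.leaf 0x603000300000202000701000b)))) (.node 13965 (.node 13963 (.leaf 0x0) (.node 13964 (.leaf 0xe0a0002) (.leaf 0x0))) (.node 13966 (.leaf 0x1020205020202010008) (.node 13967 (.leaf 0x0) (.leaf 0xb0001))))) (.node 13974 (.node 13971 (.node 13969 (.leaf 0x0) (.node 13970 (.leaf 0x3690) (.leaf 0x6060101090805000703040103000d))) (.node 13972 (.leaf 0x0) (.node 13973 (.leaf 0xf0b0b0a0004) (.leaf 0x0)))) (.node 13977 (.node 13975 (.leaf 0xf0b0002) (.node 13976 (.leaf 0x0) (.leaf 0x0))) (.node 13978 (.leaf 0x2020205020202010202000701000d) (.node 13979 (.leaf 0x0) (.leaf 0xe0a0a0003))))))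

def argWS_1234 : Store := (.node 13957 argWS_1232 argWS_1233)

def argWS_1235 : Store := (.node 13935 argWS_1231 argWS_1234)

def argWS_1236 : Store := (.node 13991 (.node 13985 (.node 13982 (.node 13981 (.leaf 0x0) (.leaf 0x90104070206000202000701000c)) (.node 13983 (.leaf 0x0) (.node 13984 (.leaf 0xd0001) (.leaf 0x0)))) (.node 13988 (.node 13986 (.leaf 0x36a0) (.node 13987 (.leaf 0xf0a0a0003) (.leaf 0x0))) (.node 13989 (.leaf 0x0) (.node 13990 (.leaf 0x9040206030005) (.leaf 0x0))))) (.node 13996 (.node 13993 (.node 13992 (.leaf 0xd0b0b0003) (.leaf 0x0)) (.node 13994 (.leaf 0x90201060207020703040103000c) (.node 13995 (.leaf 0x0) (.leaf 0xd0b0b0003)))) (.node 13999 (.node 13997 (.leaf 0x0) (.node 13998 (.leaf 0xe0d0002) (.leaf 0x36ad0036ac))) (.node 14000 (.leaf 0x102010703060006) (.node 14001 (.leaf 0x0) (.leaf 0xf0a0002))))))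

def argWS_1237 : Store := (.node 14013 (.node 14007 (.node 14004 (.node 14003 (.leaf 0x0) (.leaf 0x307030401030006)) (.node 14005 (.leaf 0x0) (.node 14006 (.leaf 0xf0b0b0003) (.leaf 0x60908050202000701000a)))) (.node 14010 (.node 14008 (.leaf 0x0) (.node 14009 (.leaf 0xb0b0002) (.leaf 0x0))) (.node 14011 (.leaf 0xa0f0002) (.node 14012 (.leaf 0x6000002010606000703040103000d) (.leaf 0x0))))) (.node 14019 (.node 14016 (.node 14014 (.leaf 0xb0f0a0a0004) (.node 14015 (.leaf 0x0) (.leaf 0x36be0036ba))) (.node 14017 (.leaf 0x8000202090000000703040103000d) (.node 14018 (.leaf 0x0) (.leaf 0xf0b0b0003)))) (.node 14022 (.node 14020 (.leaf 0x0) (.node 14021 (.leaf 0x40304010904020202000701000c) (.leaf 0x0))) (.node 14023 (.leaf 0xb0f0002) (.node 14024 (.leaf 0xb0a0002) (.leaf 0x90603050004000703040103000c))))))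

def argWS_1238 : Store := (.node 14002 argWS_1236 argWS_1237)

def argWS_1239 : Store := (.node 14036 (.node 14030 (.node 14027 (.node 14026 (.leaf 0x0) (.leaf 0xf0b0b0003)) (.node 14028 (.leaf 0x0) (.node 14029 (.leaf 0x36cb) (.leaf 0xe0d0002)))) (.node 14033 (.node 14031 (.leaf 0x0) (.node 14032 (.leaf 0xf0a0a0003) (.leaf 0x0))) (.node 14034 (.leaf 0x0) (.node 14035 (.leaf 0xb0f0a0a0004) (.leaf 0xf0b0b0a0004))))) (.node 14042 (.node 14039 (.node 14037 (.leaf 0xd0b0002) (.node 14038 (.leaf 0x60501090009000703040103000c) (.leaf 0x0))) (.node 14040 (.leaf 0x0) (.node 14041 (.leaf 0x36d70036d4) (.leaf 0xf0b0b0a0a0005)))) (.node 14045 (.node 14043 (.leaf 0x0) (.node 14044 (.leaf 0x20202010904020202000701000c) (.leaf 0x0))) (.node 14046 (.leaf 0xb0b0a0a0004) (.node 14047 (.leaf 0xf0b0a0a0004) (.leaf 0xa0001))))))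

def argWS_1240 : Store := (.node 14059 (.node 14053 (.node 14050 (.node 14049 (.leaf 0x50200020804000802040105000c) (.leaf 0x0)) (.node 14051 (.leaf 0xb0a0a0003) (.node 14052 (.leaf 0x0) (.leaf 0x36e30036df)))) (.node 14056 (.node 14054 (.leaf 0xb0f0002) (.node 14055 (.leaf 0x0) (.leaf 0xe0d0002))) (.node 14057 (.leaf 0x0) (.node 14058 (.leaf 0x0) (.leaf 0xb0b0002))))) (.node 14065 (.node 14062 (.node 14060 (.leaf 0xa0a0002) (.node 14061 (.leaf 0x50305090009000703040103000c) (.leaf 0x0))) (.node 14063 (.leaf 0x0) (.node 14064 (.leaf 0x31b90036ee) (.leaf 0x0)))) (.node 14068 (.node 14066 (.leaf 0xd0b0b0003) (.node 14067 (.leaf 0x0) (.leaf 0x9000901090005))) (.node 14069 (.leaf 0x0) (.node 14070 (.leaf 0xb0a0a0003) (.leaf 0xe0a0a0003))))))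

def argWS_1241 : Store := (.node 14048 argWS_1239 argWS_1240)

def argWS_1242 : Store := (.node 14025 argWS_1238 argWS_1241)

def argWS_1243 : Store := (.node 13980 argWS_1235 argWS_1242)

def argWS_1244 : Store := (.node 13890 argWS_1228 argWS_1243)

def argWS_1245 : Store := (.node 14082 (.node 14076 (.node 14073 (.node 14072 (.leaf 0xe0d0002) (.leaf 0x60102010901090007)) (.node 14074 (.leaf 0x0) (.node 14075 (.leaf 0xb0b0a0003) (.leaf 0x0)))) (.node 14079 (.node 14077 (.leaf 0x50000090806000007) (.node 14078 (.leaf 0x0) (.leaf 0xb0f0a0003))) (.node 14080 (.leaf 0x0) (.node 14081 (.leaf 0x36ff0036fb) (.leaf 0x103010102000006))))) (.node 14087 (.node 14084 (.node 14083 (.leaf 0x0) (.leaf 0xd0b0b0003)) (.node 14085 (.leaf 0x0) (.node 14086 (.leaf 0xb0f0a0003) (.leaf 0x0)))) (.node 14090 (.node 14088 (.leaf 0x0) (.node 14089 (.leaf 0x204030301010200000703040103000e) (.leaf 0x0))) (.node 14091 (.leaf 0xe0a0002) (.node 14092 (.leaf 0x0) (.leaf 0xb0f0002))))))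

def argWS_1246 : Store := (.node 14104 (.node 14098 (.node 14095 (.node 14094 (.leaf 0x370c) (.leaf 0xd0001)) (.node 14096 (.leaf 0x0) (.node 14097 (.leaf 0x2000408010802040105000a) (.leaf 0x0)))) (.node 14101 (.node 14099 (.leaf 0xe0d0002) (.node 14100 (.leaf 0x30403010904020802040105000c) (.leaf 0x0))) (.node 14102 (.leaf 0xb0a0f0003) (.node 14103 (.leaf 0x0) (.leaf 0x702010904020802040105000b))))) (.node 14110 (.node 14107 (.node 14105 (.leaf 0x0) (.node 14106 (.leaf 0xe0001) (.leaf 0x0))) (.node 14108 (.leaf 0x371a) (.node 14109 (.leaf 0xf0b0a0003) (.leaf 0x0)))) (.node 14113 (.node 14111 (.leaf 0x40304070209020202000701000c) (.node 14112 (.leaf 0x0) (.leaf 0xe0a0002))) (.node 14114 (.leaf 0xb0f0a0a0004) (.node 14115 (.leaf 0xe0d0002) (.leaf 0x705020202010202000701000c))))))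

def argWS_1247 : Store := (.node 14093 argWS_1245 argWS_1246)

def argWS_1248 : Store := (.node 14127 (.node 14121 (.node 14118 (.node 14117 (.leaf 0x0) (.leaf 0xe0d0002)) (.node 14119 (.leaf 0x0) (.node 14120 (.leaf 0x3726003722) (.leaf 0x6040101090805000703040103000d)))) (.node 14124 (.node 14122 (.leaf 0x0) (.node 14123 (.leaf 0xf0b0b0003) (.leaf 0x0))) (.node 14125 (.leaf 0x10705020202010802040105000c) (.node 14126 (.leaf 0x0) (.leaf 0xd0001))))) (.node 14132 (.node 14129 (.node 14128 (.leaf 0x102020900090006) (.leaf 0x0)) (.node 14130 (.leaf 0xb0b0002) (.node 14131 (.leaf 0x0) (.leaf 0x9060901090202000701000a)))) (.node 14135 (.node 14133 (.leaf 0x0) (.node 14134 (.leaf 0xb0b0a0a0004) (.leaf 0x0))) (.node 14136 (.leaf 0xb0f0a0a0004) (.node 14137 (.leaf 0x3737003736) (.leaf 0x10700020804000202000701000c))))))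

def argWS_1249 : Store := (.node 14149 (.node 14143 (.node 14140 (.node 14139 (.leaf 0x0) (.leaf 0xf0b0b0003)) (.node 14141 (.leaf 0x0) (.node 14142 (.leaf 0xb0a0002) (.leaf 0x0)))) (.node 14146 (.node 14144 (.leaf 0x0) (.node 14145 (.leaf 0x1040000030306040802040105000d) (.leaf 0x0))) (.node 14147 (.leaf 0xd0b0002) (.node 14148 (.leaf 0x0) (.leaf 0xd0b0b0003))))) (.node 14155 (.node 14152 (.node 14150 (.leaf 0xa0001) (.node 14151 (.leaf 0x3745003744) (.leaf 0x8020005020202010008))) (.node 14153 (.leaf 0x0) (.node 14154 (.leaf 0x0) (.leaf 0x600070206000802040105000b)))) (.node 14158 (.node 14156 (.leaf 0x0) (.node 14157 (.leaf 0xd0b0b0003) (.leaf 0x1070202090000000703040103000d))) (.node 14159 (.leaf 0xa0f0b0003) (.node 14160 (.leaf 0x3050207030005) (.leaf 0x0))))))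

def argWS_1250 : Store := (.node 14138 argWS_1248 argWS_1249)

def argWS_1251 : Store := (.node 14116 argWS_1247 argWS_1250)

def argWS_1252 : Store := (.node 14172 (.node 14166 (.node 14163 (.node 14162 (.leaf 0x0) (.leaf 0x0)) (.node 14164 (.leaf 0x3752001a6b) (.node 14165 (.leaf 0xa0f0002) (.leaf 0x0)))) (.node 14169 (.node 14167 (.leaf 0x20202020603000703040103000c) (.node 14168 (.leaf 0x0) (.leaf 0xb0a0002))) (.node 14170 (.leaf 0xb0b0a0003) (.node 14171 (.leaf 0xf0a0a0003) (.leaf 0x375a))))) (.node 14177 (.node 14174 (.node 14173 (.leaf 0x2020207030005) (.leaf 0x0)) (.node 14175 (.leaf 0xb0a0f0003) (.node 14176 (.leaf 0x0) (.leaf 0x601090402000703040103000b)))) (.node 14180 (.node 14178 (.leaf 0x0) (.node 14179 (.leaf 0xa0001) (.leaf 0xa0f0b0b0004))) (.node 14181 (.leaf 0xf0b0a0003) (.node 14182 (.leaf 0x3764) (.leaf 0x201070009020007010009))))))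

def argWS_1253 : Store := (.node 14194 (.node 14188 (.node 14185 (.node 14184 (.leaf 0x0) (.leaf 0xa0f0002)) (.node 14186 (.leaf 0x0) (.node 14187 (.leaf 0x60006020702010007) (.leaf 0x0)))) (.node 14191 (.node 14189 (.leaf 0xb0a0a0003) (.node 14190 (.leaf 0xb0b0002) (.leaf 0x107050206040202000701000b))) (.node 14192 (.leaf 0x0) (.node 14193 (.leaf 0xf0b0a0003) (.leaf 0x0))))) (.node 14200 (.node 14197 (.node 14195 (.leaf 0x5020900000005) (.node 14196 (.leaf 0x0) (.leaf 0xe0a0002))) (.node 14198 (.leaf 0x0) (.node 14199 (.leaf 0x3775003771) (.leaf 0xb0f0002)))) (.node 14203 (.node 14201 (.leaf 0x0) (.node 14202 (.leaf 0xf0001) (.leaf 0x0))) (.node 14204 (.leaf 0x0) (.node 14205 (.leaf 0xb0001) (.leaf 0x40003030604000703040103000c))))))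

def argWS_1254 : Store := (.node 14183 argWS_1252 argWS_1253)

def argWS_1255 : Store := (.node 14217 (.node 14211 (.node 14208 (.node 14207 (.leaf 0x0) (.leaf 0xe0001)) (.node 14209 (.leaf 0x0) (.node 14210 (.leaf 0xe0a0a0003) (.leaf 0x3781)))) (.node 14214 (.node 14212 (.leaf 0xa0a0002) (.node 14213 (.leaf 0x0) (.leaf 0xb0f0a0003))) (.node 14215 (.leaf 0x0) (.node 14216 (.leaf 0x0) (.leaf 0x200070206000006))))) (.node 14222 (.node 14219 (.node 14218 (.leaf 0x0) (.leaf 0x0)) (.node 14220 (.leaf 0x40300020804000202000701000c) (.node 14221 (.leaf 0x0) (.leaf 0xd0001)))) (.node 14225 (.node 14223 (.leaf 0x0) (.node 14224 (.leaf 0x378e) (.leaf 0xb0b0a0003))) (.node 14226 (.leaf 0x0) (.node 14227 (.leaf 0xf0a0a0003) (.leaf 0x0))))))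

def argWS_1256 : Store := (.node 14239 (.node 14233 (.node 14230 (.node 14229 (.leaf 0x0) (.leaf 0x40205020901060802040105000c)) (.node 14231 (.leaf 0x0) (.node 14232 (.leaf 0xa0001) (.leaf 0x0)))) (.node 14236 (.node 14234 (.leaf 0x1070005020202010008) (.node 14235 (.leaf 0x0) (.leaf 0xf0a0a0003))) (.node 14237 (.leaf 0x0) (.node 14238 (.leaf 0x379c) (.leaf 0x200020003))))) (.node 14245 (.node 14242 (.node 14240 (.leaf 0x0) (.node 14241 (.leaf 0xd0001) (.leaf 0x0))) (.node 14243 (.leaf 0x1020207020600000703040103000d) (.node 14244 (.leaf 0x0) (.leaf 0xa0a0002)))) (.node 14248 (.node 14246 (.leaf 0x20002020900000202000701000d) (.node 14247 (.leaf 0x0) (.leaf 0xe0d0002))) (.node 14249 (.leaf 0x0) (.node 14250 (.leaf 0x3070003030604000703040103000d) (.leaf 0x0))))))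

def argWS_1257 : Store := (.node 14228 argWS_1255 argWS_1256)

def argWS_1258 : Store := (.node 14206 argWS_1254 argWS_1257)

def argWS_1259 : Store := (.node 14161 argWS_1251 argWS_1258)

def argWS_1260 : Store := (.node 14262 (.node 14256 (.node 14253 (.node 14252 (.leaf 0xa0001) (.leaf 0x0)) (.node 14254 (.leaf 0x37ac) (.node 14255 (.leaf 0xb0f0a0a0004) (.leaf 0x0)))) (.node 14259 (.node 14257 (.leaf 0xb0f0a0a0004) (.node 14258 (.leaf 0x0) (.leaf 0x0))) (.node 14260 (.leaf 0xa0f0002) (.node 14261 (.leaf 0x3060207020703040103000a) (.leaf 0x0))))) (.node 14267 (.node 14264 (.node 14263 (.leaf 0xf0b0b0a0a0005) (.leaf 0x0)) (.node 14265 (.leaf 0x37b7) (.node 14266 (.leaf 0x0) (.leaf 0xf0b0b0003)))) (.node 14270 (.node 14268 (.leaf 0x0) (.node 14269 (.leaf 0x0) (.leaf 0xa0001))) (.node 14271 (.leaf 0x901020604000703040103000b) (.node 14272 (.leaf 0x0) (.leaf 0xf0b0b0003))))))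

def argWS_1261 : Store := (.node 14284 (.node 14278 (.node 14275 (.node 14274 (.leaf 0x0) (.leaf 0x37c1)) (.node 14276 (.leaf 0xb0a0f0003) (.node 14277 (.leaf 0x0) (.leaf 0x304000408010006)))) (.node 14281 (.node 14279 (.leaf 0x0) (.node 14280 (.leaf 0xb0a0002) (.leaf 0x90104070209020202000701000c))) (.node 14282 (.leaf 0x0) (.node 14283 (.leaf 0xf0a0a0003) (.leaf 0x0))))) (.node 14290 (.node 14287 (.node 14285 (.leaf 0xd0001) (.node 14286 (.leaf 0x300090806000006) (.leaf 0x0))) (.node 14288 (.leaf 0xf0b0b0003) (.node 14289 (.leaf 0x0) (.leaf 0x37d00037cc)))) (.node 14293 (.node 14291 (.leaf 0x107030401030006) (.node 14292 (.leaf 0x0) (.leaf 0xf0b0a0a0004))) (.node 14294 (.leaf 0x0) (.node 14295 (.leaf 0xb0b0a0003) (.leaf 0x0))))))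

def argWS_1262 : Store := (.node 14273 argWS_1260 argWS_1261)

def argWS_1263 : Store := (.node 14307 (.node 14301 (.node 14298 (.node 14297 (.leaf 0x0) (.leaf 0x907090109000703040103000b)) (.node 14299 (.leaf 0x0) (.node 14300 (.leaf 0xf0a0002) (.leaf 0x0)))) (.node 14304 (.node 14302 (.leaf 0xb0a0002) (.node 14303 (.leaf 0x10400090806000007) (.leaf 0x0))) (.node 14305 (.leaf 0xf0a0a0003) (.node 14306 (.leaf 0x0) (.leaf 0x37e10037dd))))) (.node 14312 (.node 14309 (.node 14308 (.leaf 0x6010201020702000701000a) (.leaf 0x0)) (.node 14310 (.leaf 0xe0a0002) (.node 14311 (.leaf 0x0) (.leaf 0x600020804000802040105000c)))) (.node 14315 (.node 14313 (.leaf 0x0) (.node 14314 (.leaf 0xf0a0a0003) (.leaf 0x6010206010500020802040105000d))) (.node 14316 (.leaf 0x0) (.node 14317 (.leaf 0x0) (.leaf 0x4000303010102000802040105000d))))))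

def argWS_1264 : Store := (.node 14329 (.node 14323 (.node 14320 (.node 14319 (.leaf 0x0) (.leaf 0xd0b0b0003)) (.node 14321 (.leaf 0x0) (.node 14322 (.leaf 0x37f0) (.leaf 0x0)))) (.node 14326 (.node 14324 (.leaf 0xe0001) (.node 14325 (.leaf 0x0) (.leaf 0x6050007030401030008))) (.node 14327 (.leaf 0x0) (.node 14328 (.leaf 0xb0a0f0003) (.leaf 0x20202090106000703040103000c))))) (.node 14335 (.node 14332 (.node 14330 (.leaf 0x0) (.node 14331 (.leaf 0xb0a0f0003) (.leaf 0x0))) (.node 14333 (.leaf 0xb0b0002) (.node 14334 (.leaf 0x60000090000090802040105000c) (.leaf 0x0)))) (.node 14338 (.node 14336 (.leaf 0xd0b0002) (.node 14337 (.leaf 0x0) (.leaf 0x38000037fc))) (.node 14339 (.leaf 0x300020804000802040105000c) (.node 14340 (.leaf 0x0) (.leaf 0xa0f0002))))))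

def argWS_1265 : Store := (.node 14318 argWS_1263 argWS_1264)

def argWS_1266 : Store := (.node 14296 argWS_1262 argWS_1265)

def argWS_1267 : Store := (.node 14352 (.node 14346 (.node 14343 (.node 14342 (.leaf 0x0) (.leaf 0x5020006030500040202000701000d)) (.node 14344 (.leaf 0x0) (.node 14345 (.leaf 0xb0b0002) (.leaf 0xe0d0002)))) (.node 14349 (.node 14347 (.leaf 0x20601090000090007) (.node 14348 (.leaf 0x0) (.leaf 0xf0b0b0a0004))) (.node 14350 (.leaf 0x0) (.node 14351 (.leaf 0xa5d00380d) (.leaf 0x20002090000090007))))) (.node 14357 (.node 14354 (.node 14353 (.leaf 0x0) (.leaf 0xd0b0b0003)) (.node 14355 (.leaf 0x0) (.node 14356 (.leaf 0xd0001) (.leaf 0x0)))) (.node 14360 (.node 14358 (.leaf 0x0) (.node 14359 (.leaf 0x107020106060202000701000b) (.leaf 0x0))) (.node 14361 (.leaf 0x0) (.node 14362 (.leaf 0x606010401050006) (.leaf 0x0))))))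

def argWS_1268 : Store := (.node 14374 (.node 14368 (.node 14365 (.node 14364 (.leaf 0xe0a0a0003) (.leaf 0x0)) (.node 14366 (.leaf 0x381c) (.node 14367 (.leaf 0x1020201070306000703040103000d) (.leaf 0x0)))) (.node 14371 (.node 14369 (.leaf 0xb0b0002) (.node 14370 (.leaf 0x0) (.leaf 0x502060402020007010009))) (.node 14372 (.leaf 0x0) (.node 14373 (.leaf 0xb0f0a0003) (.leaf 0x0))))) (.node 14380 (.node 14377 (.node 14375 (.leaf 0x9040004080703040103000a) (.node 14376 (.leaf 0x0) (.leaf 0xb0f0002))) (.node 14378 (.leaf 0x0) (.node 14379 (.leaf 0x3829) (.leaf 0x205080007030401030009)))) (.node 14383 (.node 14381 (.leaf 0x0) (.node 14382 (.leaf 0xb0001) (.leaf 0x0))) (.node 14384 (.leaf 0x20202090009000703040103000c) (.node 14385 (.leaf 0x0) (.leaf 0xb0a0f0003))))))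

def argWS_1269 : Store := (.node 14363 argWS_1267 argWS_1268)

def argWS_1270 : Store := (.node 14397 (.node 14391 (.node 14388 (.node 14387 (.leaf 0xf0b0a0003) (.leaf 0xd0b0b0003)) (.node 14389 (.leaf 0x600050007030401030009) (.node 14390 (.leaf 0x0) (.leaf 0xe0d0002)))) (.node 14394 (.node 14392 (.leaf 0x0) (.node 14393 (.leaf 0x3837003833) (.leaf 0x5020101090402000703040103000d))) (.node 14395 (.leaf 0x0) (.node 14396 (.leaf 0xb0a0a0003) (.leaf 0x0))))) (.node 14403 (.node 14400 (.node 14398 (.leaf 0x601020102020900000202000701000e) (.node 14399 (.leaf 0x0) (.leaf 0xe0a0002))) (.node 14401 (.leaf 0xd0b0b0003) (.node 14402 (.leaf 0xf0b0b0a0a0005) (.leaf 0xb55000863)))) (.node 14406 (.node 14404 (.leaf 0x9070009020602000703040103000d) (.node 14405 (.leaf 0x0) (.leaf 0xa0f0b0003))) (.node 14407 (.leaf 0x0) (.node 14408 (.leaf 0x2000904020202000701000a) (.leaf 0x0))))))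

def argWS_1271 : Store := (.node 14420 (.node 14414 (.node 14411 (.node 14410 (.leaf 0xb0f0002) (.leaf 0xb0f0a0a0004)) (.node 14412 (.leaf 0x20000020106060007) (.node 14413 (.leaf 0x0) (.leaf 0x0)))) (.node 14417 (.node 14415 (.leaf 0x9010908050005) (.node 14416 (.leaf 0x0) (.leaf 0xb0b0002))) (.node 14418 (.leaf 0x0) (.node 14419 (.leaf 0x385100384d) (.leaf 0x9020107000903000703040103000d))))) (.node 14426 (.node 14423 (.node 14421 (.leaf 0x0) (.node 14422 (.leaf 0xb0001) (.leaf 0x0))) (.node 14424 (.leaf 0xa0f0b0b0004) (.node 14425 (.leaf 0x0) (.leaf 0x0)))) (.node 14429 (.node 14427 (.leaf 0x90609000009000703040103000c) (.node 14428 (.leaf 0x0) (.leaf 0xb0a0f0003))) (.node 14430 (.leaf 0x0) (.node 14431 (.leaf 0x5020105020604000703040103000d) (.leaf 0x0))))))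

def argWS_1272 : Store := (.node 14409 argWS_1270 argWS_1271)

def argWS_1273 : Store := (.node 14386 argWS_1269 argWS_1272)

def argWS_1274 : Store := (.node 14341 argWS_1266 argWS_1273)

def argWS_1275 : Store := (.node 14251 argWS_1259 argWS_1274)

def argWS_1276 : Store := (.node 14071 argWS_1244 argWS_1275)

def argWS_1277 : Store := (.node 13710 argWS_1213 argWS_1276)

def argWS_1278 : Store := (.node 12989 argWS_1150 argWS_1277)

def argWS_1279 : Store := (.node 14443 (.node 14437 (.node 14434 (.node 14433 (.leaf 0xf0b0002) (.leaf 0x0)) (.node 14435 (.leaf 0x3861000df8) (.node 14436 (.leaf 0xb0f0002) (.leaf 0x0)))) (.node 14440 (.node 14438 (.leaf 0x3040306020702010008) (.node 14439 (.leaf 0x0) (.leaf 0xf0001))) (.node 14441 (.leaf 0x60601050206040007) (.node 14442 (.leaf 0x0) (.leaf 0xf0b0b0003))))) (.node 14448 (.node 14445 (.node 14444 (.leaf 0x0) (.leaf 0x386b)) (.node 14446 (.leaf 0xf0b0a0a0004) (.node 14447 (.leaf 0x0) (.leaf 0x50305020202010202000701000c))))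 (.node 14451 (.node 14449 (.leaf 0x0) (.node 14450 (.leaf 0xb0a0a0003) (.leaf 0x2040109000009000703040103000d))) (.node 14452 (.leaf 0x0) (.node 14453 (.leaf 0xf0b0b0a0a0005) (.leaf 0x0))))))

def argWS_1280 : Store := (.node 14465 (.node 14459 (.node 14456 (.node 14455 (.leaf 0x2e7c) (.leaf 0xe0d0002)) (.node 14457 (.leaf 0x0) (.node 14458 (.leaf 0xb0f0a0a0004) (.leaf 0x0)))) (.node 14462 (.node 14460 (.leaf 0x0) (.node 14461 (.leaf 0xb0f0a0003) (.leaf 0x601090000090802040105000b))) (.node 14463 (.leaf 0x0) (.node 14464 (.leaf 0xf0b0a0a0004) (.leaf 0x0))))) (.node 14471 (.node 14468 (.node 14466 (.leaf 0x3880) (.node 14467 (.leaf 0x202020207030802040105000b) (.leaf 0x0))) (.node 14469 (.leaf 0xb0a0f0003) (.node 14470 (.leaf 0x0) (.leaf 0x60301090000090802040105000c)))) (.node 14474 (.node 14472 (.leaf 0x0) (.node 14473 (.leaf 0xb0a0a0003) (.leaf 0xb0a0a0003))) (.node 14475 (.leaf 0xf0b0002) (.node 14476 (.leaf 0x388a) (.leaf 0x502090206020202000701000b))))))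

def argWS_1281 : Store := (.node 14454 argWS_1279 argWS_1280)

def argWS_1282 : Store := (.node 14488 (.node 14482 (.node 14479 (.node 14478 (.leaf 0x0) (.leaf 0xe0d0002)) (.node 14480 (.leaf 0x0) (.node 14481 (.leaf 0x20705020202010007) (.leaf 0x0)))) (.node 14485 (.node 14483 (.leaf 0xa0001) (.node 14484 (.leaf 0xb0f0a0003) (.leaf 0xe0001))) (.node 14486 (.leaf 0x3894) (.node 14487 (.leaf 0x20002070206000007) (.leaf 0x0))))) (.node 14493 (.node 14490 (.node 14489 (.leaf 0xf0a0a0003) (.leaf 0x0)) (.node 14491 (.leaf 0x70402000003010802040105000c) (.node 14492 (.leaf 0x0) (.leaf 0xd0b0002)))) (.node 14496 (.node 14494 (.leaf 0xb0b0a0003) (.node 14495 (.leaf 0x0) (.leaf 0xa0001))) (.node 14497 (.leaf 0x102010606000703040103000b) (.node 14498 (.leaf 0x0) (.leaf 0xb0f0a0a0004))))))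

def argWS_1283 : Store := (.node 14510 (.node 14504 (.node 14501 (.node 14500 (.leaf 0x0) (.leaf 0x38a3001d1b)) (.node 14502 (.leaf 0xe0a0a0003) (.node 14503 (.leaf 0x0) (.leaf 0xb0f0a0003)))) (.node 14507 (.node 14505 (.leaf 0x0) (.node 14506 (.leaf 0x0) (.leaf 0x50306010500020802040105000c))) (.node 14508 (.leaf 0x0) (.node 14509 (.leaf 0xf0b0b0a0a0005) (.leaf 0x0))))) (.node 14516 (.node 14513 (.node 14511 (.leaf 0x307090805000703040103000b) (.node 14512 (.leaf 0x0) (.leaf 0xb0a0f0003))) (.node 14514 (.leaf 0x0) (.node 14515 (.leaf 0xf0b0a0a0004) (.leaf 0x38b20038b1)))) (.node 14519 (.node 14517 (.leaf 0x1090306030500040202000701000d) (.node 14518 (.leaf 0x0) (.leaf 0xf0b0b0003))) (.node 14520 (.leaf 0x0) (.node 14521 (.leaf 0xb0a0f0003) (.leaf 0x0))))))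

def argWS_1284 : Store := (.node 14499 argWS_1282 argWS_1283)

def argWS_1285 : Store := (.node 14477 argWS_1281 argWS_1284)

def argWS_1286 : Store := (.node 14533 (.node 14527 (.node 14524 (.node 14523 (.leaf 0x0) (.leaf 0x80300070206000802040105000c)) (.node 14525 (.leaf 0x0) (.node 14526 (.leaf 0xf0a0002) (.leaf 0x0)))) (.node 14530 (.node 14528 (.leaf 0xf0b0a0a0004) (.node 14529 (.leaf 0xf0001) (.leaf 0x38c00038bf))) (.node 14531 (.leaf 0x603040807030401030009) (.node 14532 (.leaf 0x0) (.leaf 0xa0001))))) (.node 14538 (.node 14535 (.node 14534 (.leaf 0x0) (.leaf 0xb0a0a0003)) (.node 14536 (.leaf 0x0) (.node 14537 (.leaf 0x0) (.leaf 0xb0b0002)))) (.node 14541 (.node 14539 (.leaf 0x2040109000009000703040103000d) (.node 14540 (.leaf 0x0) (.leaf 0xa0f0b0003))) (.node 14542 (.leaf 0x0) (.node 14543 (.leaf 0x16180038cd) (.leaf 0x10202040005000703040103000c))))))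

def argWS_1287 : Store := (.node 14555 (.node 14549 (.node 14546 (.node 14545 (.leaf 0x0) (.leaf 0xb0b0a0003)) (.node 14547 (.leaf 0x0) (.node 14548 (.leaf 0xa0f0002) (.leaf 0x0)))) (.node 14552 (.node 14550 (.leaf 0x0) (.node 14551 (.leaf 0xf0b0002) (.leaf 0x200020003))) (.node 14553 (.leaf 0x0) (.node 14554 (.leaf 0xf0b0a0a0004) (.leaf 0x0))))) (.node 14561 (.node 14558 (.node 14556 (.leaf 0x900070209020202000701000c) (.node 14557 (.leaf 0x0) (.leaf 0xf0b0002))) (.node 14559 (.leaf 0x0) (.node 14560 (.leaf 0x38de0038da) (.leaf 0xf0b0b0a0a0005)))) (.node 14564 (.node 14562 (.leaf 0x0) (.node 14563 (.leaf 0xb0a0002) (.leaf 0x0))) (.node 14565 (.leaf 0x0) (.node 14566 (.leaf 0xf0b0a0a0004) (.leaf 0xf0b0b0a0a0005))))))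

def argWS_1288 : Store := (.node 14544 argWS_1286 argWS_1287)

def argWS_1289 : Store := (.node 14578 (.node 14572 (.node 14569 (.node 14568 (.leaf 0x11b70038e6) (.leaf 0xb0001)) (.node 14570 (.leaf 0x0) (.node 14571 (.leaf 0x90406010500020802040105000c) (.leaf 0x0)))) (.node 14575 (.node 14573 (.leaf 0xa0f0b0003) (.node 14574 (.leaf 0xf0b0b0a0004) (.leaf 0x0))) (.node 14576 (.leaf 0xf0001) (.node 14577 (.leaf 0x7020603000703040103000a) (.leaf 0x0))))) (.node 14583 (.node 14580 (.node 14579 (.leaf 0xa0a0002) (.leaf 0x0)) (.node 14581 (.leaf 0x38f3) (.node 14582 (.leaf 0x40000020804000802040105000c) (.leaf 0x0)))) (.node 14586 (.node 14584 (.leaf 0xa0f0002) (.node 14585 (.leaf 0x0) (.leaf 0xf0b0a0a0004))) (.node 14587 (.leaf 0x0) (.node 14588 (.leaf 0x0) (.leaf 0x10300020804000007))))))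

def argWS_1290 : Store := (.node 14600 (.node 14594 (.node 14591 (.node 14590 (.leaf 0x0) (.leaf 0xf0b0a0003)) (.node 14592 (.leaf 0x0) (.node 14593 (.leaf 0x30506030500040802040105000c) (.leaf 0x0)))) (.node 14597 (.node 14595 (.leaf 0xb0f0a0003) (.node 14596 (.leaf 0x0) (.leaf 0x602000400050802040105000b))) (.node 14598 (.leaf 0x0) (.node 14599 (.leaf 0xb0b0002) (.leaf 0x0))))) (.node 14606 (.node 14603 (.node 14601 (.leaf 0x3907003903) (.node 14602 (.leaf 0x9020102020900000202000701000d) (.leaf 0x0))) (.node 14604 (.leaf 0xf0b0b0a0a0005) (.node 14605 (.leaf 0x0) (.leaf 0xe0a0002)))) (.node 14609 (.node 14607 (.leaf 0x0) (.node 14608 (.leaf 0x0) (.leaf 0xf0b0b0003))) (.node 14610 (.leaf 0x2090000000703040103000b) (.node 14611 (.leaf 0x0) (.leaf 0xd0b0002))))))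

def argWS_1291 : Store := (.node 14589 argWS_1289 argWS_1290)

def argWS_1292 : Store := (.node 14567 argWS_1288 argWS_1291)

def argWS_1293 : Store := (.node 14522 argWS_1285 argWS_1292)

def argWS_1294 : Store := (.node 14623 (.node 14617 (.node 14614 (.node 14613 (.leaf 0x0) (.leaf 0x3914)) (.node 14615 (.leaf 0x30000090206020802040105000c) (.node 14616 (.leaf 0x0) (.leaf 0xb0f0002)))) (.node 14620 (.node 14618 (.leaf 0x0) (.node 14619 (.leaf 0xe0d0002) (.leaf 0x0))) (.node 14621 (.leaf 0x0) (.node 14622 (.leaf 0xa0a0002) (.leaf 0x9030802020007010008))))) (.node 14628 (.node 14625 (.node 14624 (.leaf 0x0) (.leaf 0xf0b0b0a0a0005)) (.node 14626 (.leaf 0x0) (.node 14627 (.leaf 0x361e003921) (.leaf 0xb0a0002)))) (.node 14631 (.node 14629 (.leaf 0x0) (.node 14630 (.leaf 0xb0a0002) (.leaf 0x0))) (.node 14632 (.leaf 0x0) (.node 14633 (.leaf 0x200070009030802040105000b) (.leaf 0x0))))))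

def argWS_1295 : Store := (.node 14645 (.node 14639 (.node 14636 (.node 14635 (.leaf 0xf0b0002) (.leaf 0x0)) (.node 14637 (.leaf 0x10406010500020007) (.node 14638 (.leaf 0x0) (.leaf 0xa0a0002)))) (.node 14642 (.node 14640 (.leaf 0x0) (.node 14641 (.leaf 0x392f00392b) (.leaf 0x204010207030802040105000b))) (.node 14643 (.leaf 0x0) (.node 14644 (.leaf 0xf0a0002) (.leaf 0x0))))) (.node 14651 (.node 14648 (.node 14646 (.leaf 0xd0b0b0003) (.node 14647 (.leaf 0x0) (.leaf 0x0))) (.node 14649 (.leaf 0xe0d0002) (.node 14650 (.leaf 0x2020206030802040105000a) (.leaf 0x0)))) (.node 14654 (.node 14652 (.leaf 0xa0001) (.node 14653 (.leaf 0x0) (.leaf 0x9070009000009000703040103000d))) (.node 14655 (.leaf 0x0) (.node 14656 (.leaf 0xf0b0a0a0004) (.leaf 0x0))))))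

def argWS_1296 : Store := (.node 14634 argWS_1294 argWS_1295)

def argWS_1297 : Store := (.node 14668 (.node 14662 (.node 14659 (.node 14658 (.leaf 0x394000393c) (.leaf 0x900020703000703040103000c)) (.node 14660 (.leaf 0x0) (.node 14661 (.leaf 0xe0a0002) (.leaf 0x0)))) (.node 14665 (.node 14663 (.leaf 0x206010003) (.node 14664 (.leaf 0x0) (.leaf 0xb0f0a0a0004))) (.node 14666 (.leaf 0x70500020804000202000701000c) (.node 14667 (.leaf 0x0) (.leaf 0x0))))) (.node 14673 (.node 14670 (.node 14669 (.leaf 0x10202010703060802040105000c) (.leaf 0x0)) (.node 14671 (.leaf 0xd0001) (.node 14672 (.leaf 0x0) (.leaf 0x394f)))) (.node 14676 (.node 14674 (.leaf 0x105020401050006) (.node 14675 (.leaf 0x0) (.leaf 0xb0b0a0003))) (.node 14677 (.leaf 0x0) (.node 14678 (.leaf 0xe0a0002) (.leaf 0x0))))))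

def argWS_1298 : Store := (.node 14690 (.node 14684 (.node 14681 (.node 14680 (.leaf 0x3030400050802040105000a) (.leaf 0x0)) (.node 14682 (.leaf 0xb0f0002) (.node 14683 (.leaf 0x0) (.leaf 0x5030604000703040103000a)))) (.node 14687 (.node 14685 (.leaf 0x0) (.node 14686 (.leaf 0xa0f0b0003) (.leaf 0x0))) (.node 14688 (.leaf 0x395e002418) (.node 14689 (.leaf 0x20207030004) (.leaf 0x0))))) (.node 14696 (.node 14693 (.node 14691 (.leaf 0xf0001) (.node 14692 (.leaf 0x0) (.leaf 0xf0b0b0a0004))) (.node 14694 (.leaf 0x0) (.node 14695 (.leaf 0x0) (.leaf 0xa0f0002)))) (.node 14699 (.node 14697 (.leaf 0x3967002f7f) (.node 14698 (.leaf 0x904010904020202000701000b) (.leaf 0x0))) (.node 14700 (.leaf 0xb0001) (.node 14701 (.leaf 0x0) (.leaf 0x10400020106060802040105000c))))))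

def argWS_1299 : Store := (.node 14679 argWS_1297 argWS_1298)

def argWS_1300 : Store := (.node 14657 argWS_1296 argWS_1299)

def argWS_1301 : Store := (.node 14713 (.node 14707 (.node 14704 (.node 14703 (.leaf 0x0) (.leaf 0xd0b0b0003)) (.node 14705 (.leaf 0x7000603050004000703040103000d) (.node 14706 (.leaf 0x0) (.leaf 0xf0b0b0a0004)))) (.node 14710 (.node 14708 (.leaf 0x0) (.node 14709 (.leaf 0xd0b0002) (.leaf 0xb0f0a0a0004))) (.node 14711 (.leaf 0x3975003974) (.node 14712 (.leaf 0xd0001) (.leaf 0x0))))) (.node 14718 (.node 14715 (.node 14714 (.leaf 0x4030407020600000703040103000d) (.leaf 0x0)) (.node 14716 (.leaf 0xa0f0b0003) (.node 14717 (.leaf 0x3040305020604000703040103000d) (.leaf 0x0)))) (.node 14721 (.node 14719 (.leaf 0xf0b0a0003) (.node 14720 (.leaf 0x0) (.leaf 0xf0a0002))) (.node 14722 (.leaf 0x506010500020006) (.node 14723 (.leaf 0x0) (.leaf 0xd0b0002))))))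

def argWS_1302 : Store := (.node 14735 (.node 14729 (.node 14726 (.node 14725 (.leaf 0x0) (.leaf 0x3984003980)) (.node 14727 (.leaf 0xa0a0002) (.node 14728 (.leaf 0x0) (.leaf 0xd0001)))) (.node 14732 (.node 14730 (.leaf 0x0) (.node 14731 (.leaf 0x0) (.leaf 0x30000090206020802040105000c))) (.node 14733 (.leaf 0x0) (.node 14734 (.leaf 0xb0b0a0a0004) (.leaf 0x0))))) (.node 14741 (.node 14738 (.node 14736 (.leaf 0xf0b0b0a0a0005) (.node 14737 (.leaf 0x3070209020005) (.leaf 0x0))) (.node 14739 (.leaf 0xf0a0002) (.node 14740 (.leaf 0x0) (.leaf 0x399300398f)))) (.node 14744 (.node 14742 (.leaf 0xd0b0b0003) (.node 14743 (.leaf 0x0) (.leaf 0x20200090806000202000701000c))) (.node 14745 (.leaf 0x0) (.node 14746 (.leaf 0x601020102000003010009) (.leaf 0x0))))))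

def argWS_1303 : Store := (.node 14724 argWS_1301 argWS_1302)

def argWS_1304 : Store := (.node 14758 (.node 14752 (.node 14749 (.node 14748 (.leaf 0xb0b0a0a0004) (.leaf 0x0)) (.node 14750 (.leaf 0xa0001) (.node 14751 (.leaf 0x205020000030000000703040103000e) (.leaf 0x0)))) (.node 14755 (.node 14753 (.leaf 0xb0b0a0a0004) (.node 14754 (.leaf 0x0) (.leaf 0x39a100399d))) (.node 14756 (.leaf 0x900090806000006) (.node 14757 (.leaf 0x0) (.leaf 0xf0b0002))))) (.node 14763 (.node 14760 (.node 14759 (.leaf 0x0) (.leaf 0x500000400050006)) (.node 14761 (.leaf 0x0) (.node 14762 (.leaf 0xe0001) (.leaf 0xe0001)))) (.node 14766 (.node 14764 (.leaf 0x0) (.node 14765 (.leaf 0x1030106030500040802040105000d) (.leaf 0x0))) (.node 14767 (.leaf 0xb0a0a0003) (.node 14768 (.leaf 0x0) (.leaf 0xd0b0002))))))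

def argWS_1305 : Store := (.node 14780 (.node 14774 (.node 14771 (.node 14770 (.leaf 0x39b0000da7) (.leaf 0xd0001)) (.node 14772 (.leaf 0x0) (.node 14773 (.leaf 0x20006020702010202000701000d) (.leaf 0x0)))) (.node 14777 (.node 14775 (.leaf 0xd0b0b0003) (.node 14776 (.leaf 0xe0a0a0003) (.leaf 0x10202020603000703040103000c))) (.node 14778 (.leaf 0x0) (.node 14779 (.leaf 0xe0a0a0003) (.leaf 0x0))))) (.node 14786 (.node 14783 (.node 14781 (.leaf 0x4090106000703040103000a) (.node 14782 (.leaf 0x0) (.leaf 0xb0f0a0003))) (.node 14784 (.leaf 0x0) (.node 14785 (.leaf 0x39bf0039bb) (.leaf 0xf0b0002)))) (.node 14789 (.node 14787 (.leaf 0x0) (.node 14788 (.leaf 0xf0001) (.leaf 0x0))) (.node 14790 (.leaf 0x0) (.node 14791 (.leaf 0xb0f0002) (.leaf 0x301f))))))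

def argWS_1306 : Store := (.node 14769 argWS_1304 argWS_1305)

def argWS_1307 : Store := (.node 14747 argWS_1303 argWS_1306)

def argWS_1308 : Store := (.node 14702 argWS_1300 argWS_1307)

def argWS_1309 : Store := (.node 14612 argWS_1293 argWS_1308)

def argWS_1310 : Store := (.node 14803 (.node 14797 (.node 14794 (.node 14793 (.leaf 0x702070206000006) (.leaf 0x0)) (.node 14795 (.leaf 0xb0f0002) (.node 14796 (.leaf 0x0) (.leaf 0x80006010500020802040105000c)))) (.node 14800 (.node 14798 (.leaf 0x0) (.node 14799 (.leaf 0xb0a0f0003) (.leaf 0xf0b0a0003))) (.node 14801 (.leaf 0xd0001) (.node 14802 (.leaf 0x60401050202020703040103000c) (.leaf 0x0))))) (.node 14808 (.node 14805 (.node 14804 (.leaf 0xf0b0a0003) (.leaf 0x0)) (.node 14806 (.leaf 0x39d40039d0) (.node 14807 (.leaf 0xf0001) (.leaf 0x0)))) (.node 14811 (.node 14809 (.leaf 0x200000408010007) (.node 14810 (.leaf 0x0) (.leaf 0xb0f0a0a0004))) (.node 14812 (.leaf 0xb0b0002) (.node 14813 (.leaf 0xb0f0a0003)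 (.leaf 0xf0b0b0a0004))))))

def argWS_1311 : Store := (.node 14825 (.node 14819 (.node 14816 (.node 14815 (.leaf 0x39dd0039dc) (.leaf 0xb0b0a0003)) (.node 14817 (.leaf 0x0) (.node 14818 (.leaf 0x8030000090206020008) (.leaf 0x0)))) (.node 14822 (.node 14820 (.leaf 0xf0b0002) (.node 14821 (.leaf 0x90306010500020007) (.leaf 0x0))) (.node 14823 (.leaf 0xe0d0002) (.node 14824 (.leaf 0x0) (.leaf 0x70505020202010802040105000c))))) (.node 14831 (.node 14828 (.node 14826 (.leaf 0x0) (.node 14827 (.leaf 0xb0b0a0003) (.leaf 0x0))) (.node 14829 (.leaf 0x800040206030802040105000b) (.node 14830 (.leaf 0x0) (.leaf 0xe0d0002)))) (.node 14834 (.node 14832 (.leaf 0x0) (.node 14833 (.leaf 0x39ef0039eb) (.leaf 0x0))) (.node 14835 (.leaf 0x1030106030500040008) (.node 14836 (.leaf 0x0) (.leaf 0xb0b0a0003))))))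

def argWS_1312 : Store := (.node 14814 argWS_1310 argWS_1311)

def argWS_1313 : Store := (.node 14848 (.node 14842 (.node 14839 (.node 14838 (.leaf 0xe0d0002) (.leaf 0x200000202090000000703040103000e)) (.node 14840 (.leaf 0x0) (.node 14841 (.leaf 0xd0b0002) (.leaf 0x0)))) (.node 14845 (.node 14843 (.leaf 0x39f9) (.node 14844 (.leaf 0xb0f0002) (.leaf 0x0))) (.node 14846 (.leaf 0x6010200030306040802040105000d) (.node 14847 (.leaf 0x0) (.leaf 0xf0a0a0003))))) (.node 14853 (.node 14850 (.node 14849 (.leaf 0x2090301090805000703040103000d) (.leaf 0x0)) (.node 14851 (.leaf 0xa0f0b0b0004) (.node 14852 (.leaf 0x0) (.leaf 0x200020207030006)))) (.node 14856 (.node 14854 (.leaf 0x0) (.node 14855 (.leaf 0x0) (.leaf 0x3a06))) (.node 14857 (.leaf 0x109000003010202000701000b) (.node 14858 (.leaf 0x0) (.leaf 0xf0b0a0a0004))))))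

def argWS_1314 : Store := (.node 14870 (.node 14864 (.node 14861 (.node 14860 (.leaf 0x0) (.leaf 0x800020106060006)) (.node 14862 (.leaf 0x0) (.node 14863 (.leaf 0xf0b0b0a0a0005) (.leaf 0x20202010802040105000a)))) (.node 14867 (.node 14865 (.leaf 0x0) (.node 14866 (.leaf 0xb0a0a0003) (.leaf 0x0))) (.node 14868 (.leaf 0x2090000090005) (.node 14869 (.leaf 0x0) (.leaf 0xb0f0a0a0004))))) (.node 14876 (.node 14873 (.node 14871 (.leaf 0x0) (.node 14872 (.leaf 0x4000009020602000703040103000d) (.leaf 0x0))) (.node 14874 (.leaf 0xe0d0002) (.node 14875 (.leaf 0x0) (.leaf 0x3a1a003a16)))) (.node 14879 (.node 14877 (.leaf 0x3090806000202000701000a) (.node 14878 (.leaf 0x0) (.leaf 0xe0a0a0003))) (.node 14880 (.leaf 0x0) (.node 14881 (.leaf 0xf0b0a0003) (.leaf 0x0))))))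

def argWS_1315 : Store := (.node 14859 argWS_1313 argWS_1314)

def argWS_1316 : Store := (.node 14837 argWS_1312 argWS_1315)

def argWS_1317 : Store := (.node 14893 (.node 14887 (.node 14884 (.node 14883 (.leaf 0x0) (.leaf 0x209030306040802040105000b)) (.node 14885 (.leaf 0x0) (.node 14886 (.leaf 0xb0a0f0003) (.leaf 0x0)))) (.node 14890 (.node 14888 (.leaf 0x700020106060006) (.node 14889 (.leaf 0x0) (.leaf 0xb0a0a0003))) (.node 14891 (.leaf 0x0) (.node 14892 (.leaf 0x3a2a) (.leaf 0xb0a0002))))) (.node 14898 (.node 14895 (.node 14894 (.leaf 0x0) (.leaf 0x8000402020007010008)) (.node 14896 (.leaf 0x0) (.node 14897 (.leaf 0xe0a0002) (.leaf 0x107090806000006)))) (.node 14901 (.node 14899 (.leaf 0x0) (.node 14900 (.leaf 0xf0b0b0003) (.leaf 0x0))) (.node 14902 (.leaf 0x205020003) (.node 14903 (.leaf 0x0) (.leaf 0xd0b0002))))))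

def argWS_1318 : Store := (.node 14915 (.node 14909 (.node 14906 (.node 14905 (.leaf 0x0) (.leaf 0x90306010500020007)) (.node 14907 (.leaf 0x0) (.node 14908 (.leaf 0xb0b0a0a0004) (.leaf 0x0)))) (.node 14912 (.node 14910 (.leaf 0x3a3c003a38) (.node 14911 (.leaf 0x9000206030802040105000a) (.leaf 0x0))) (.node 14913 (.leaf 0xb0f0a0003) (.node 14914 (.leaf 0x0) (.leaf 0x604000207030802040105000b))))) (.node 14921 (.node 14918 (.node 14916 (.leaf 0x0) (.node 14917 (.leaf 0xf0b0b0003) (.leaf 0x9010703060802040105000a))) (.node 14919 (.leaf 0x0) (.node 14920 (.leaf 0xe0001) (.leaf 0x0)))) (.node 14924 (.node 14922 (.leaf 0xb0f0a0003) (.node 14923 (.leaf 0x355d003a49) (.leaf 0x10402000003010202000701000c))) (.node 14925 (.leaf 0x0) (.node 14926 (.leaf 0xf0b0b0003) (.leaf 0x0))))))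

def argWS_1319 : Store := (.node 14904 argWS_1317 argWS_1318)

def argWS_1320 : Store := (.node 14938 (.node 14932 (.node 14929 (.node 14928 (.leaf 0x6010306040005) (.leaf 0x0)) (.node 14930 (.leaf 0xa0001) (.node 14931 (.leaf 0xe0d0002) (.leaf 0x304010606000703040103000b)))) (.node 14935 (.node 14933 (.leaf 0x0) (.node 14934 (.leaf 0xa0f0002) (.leaf 0x0))) (.node 14936 (.leaf 0x1070000000300000802040105000d) (.node 14937 (.leaf 0x0) (.leaf 0xe0a0a0003))))) (.node 14943 (.node 14940 (.node 14939 (.leaf 0x0) (.leaf 0x3a5a003a56)) (.node 14941 (.leaf 0xb0001) (.node 14942 (.leaf 0x0) (.leaf 0xb0f0a0003)))) (.node 14946 (.node 14944 (.leaf 0x0) (.node 14945 (.leaf 0x0) (.leaf 0x7070206000802040105000b))) (.node 14947 (.leaf 0x0) (.node 14948 (.leaf 0xa0f0b0003) (.leaf 0x0))))))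

def argWS_1321 : Store := (.node 14960 (.node 14954 (.node 14951 (.node 14950 (.leaf 0x80000020804000008) (.leaf 0x0)) (.node 14952 (.leaf 0xa0a0002) (.node 14953 (.leaf 0x0) (.leaf 0x3a68)))) (.node 14957 (.node 14955 (.leaf 0x30000090206020802040105000c) (.node 14956 (.leaf 0x0) (.leaf 0xf0001))) (.node 14958 (.leaf 0x0) (.node 14959 (.leaf 0x60200020106060202000701000c) (.leaf 0x0))))) (.node 14966 (.node 14963 (.node 14961 (.leaf 0xb0f0a0a0004) (.node 14962 (.leaf 0xf0b0a0a0004) (.leaf 0x90402020900000007))) (.node 14964 (.leaf 0x0) (.node 14965 (.leaf 0xb0b0a0003) (.leaf 0x0)))) (.node 14969 (.node 14967 (.leaf 0x2090009000703040103000b) (.node 14968 (.leaf 0x0) (.leaf 0x0))) (.node 14970 (.leaf 0x3a78000f5f) (.node 14971 (.leaf 0x90104020106060802040105000c) (.leaf 0x0))))))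

def argWS_1322 : Store := (.node 14949 argWS_1320 argWS_1321)

def argWS_1323 : Store := (.node 14927 argWS_1319 argWS_1322)

def argWS_1324 : Store := (.node 14882 argWS_1316 argWS_1323)

def argWS_1325 : Store := (.node 14983 (.node 14977 (.node 14974 (.node 14973 (.leaf 0xb0b0a0a0004) (.leaf 0x0)) (.node 14975 (.leaf 0xb0f0002) (.node 14976 (.leaf 0x0) (.leaf 0x0)))) (.node 14980 (.node 14978 (.leaf 0xa0a0002) (.node 14979 (.leaf 0x70000030000000703040103000d) (.leaf 0x0))) (.node 14981 (.leaf 0xf0b0b0a0a0005) (.node 14982 (.leaf 0x0) (.leaf 0x3a85))))) (.node 14988 (.node 14985 (.node 14984 (.leaf 0x60201070206000202000701000c) (.leaf 0x0)) (.node 14986 (.leaf 0xf0b0b0a0a0005) (.node 14987 (.leaf 0x0) (.leaf 0x401070206000006)))) (.node 14991 (.node 14989 (.leaf 0x0) (.node 14990 (.leaf 0xe0001) (.leaf 0x3070000090206020008))) (.node 14992 (.leaf 0x0) (.node 14993 (.leaf 0xb0a0002) (.leaf 0x0))))))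

def argWS_1326 : Store := (.node 15005 (.node 14999 (.node 14996 (.node 14995 (.leaf 0xf0a0002) (.leaf 0x3a92)) (.node 14997 (.leaf 0x2010307020902000703040103000d) (.node 14998 (.leaf 0x0) (.leaf 0xf0a0002)))) (.node 15002 (.node 15000 (.leaf 0x0) (.node 15001 (.leaf 0x307090402000703040103000b) (.leaf 0x0))) (.node 15003 (.leaf 0xf0b0b0a0a0005) (.node 15004 (.leaf 0x601070009030006) (.leaf 0x0))))) (.node 15011 (.node 15008 (.node 15006 (.leaf 0xf0b0b0a0a0005) (.node 15007 (.leaf 0x0) (.leaf 0x803000400050802040105000b))) (.node 15009 (.leaf 0x0) (.node 15010 (.leaf 0x0) (.leaf 0xf0b0a0003)))) (.node 15014 (.node 15012 (.leaf 0x3aa2003aa1) (.node 15013 (.leaf 0x9070209020802040105000a) (.leaf 0x0))) (.node 15015 (.leaf 0xb0a0f0003) (.node 15016 (.leaf 0x0) (.leaf 0x2040306020702010008))))))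

def argWS_1327 : Store := (.node 14994 argWS_1325 argWS_1326)

def argWS_1328 : Store := (.node 15028 (.node 15022 (.node 15019 (.node 15018 (.leaf 0x0) (.leaf 0xf0001)) (.node 15020 (.leaf 0x20106060005) (.node 15021 (.leaf 0x0) (.leaf 0xb0b0a0a0004)))) (.node 15025 (.node 15023 (.leaf 0x0) (.node 15024 (.leaf 0x6010208020401050008) (.leaf 0x0))) (.node 15026 (.leaf 0xd0b0b0003) (.node 15027 (.leaf 0x0) (.leaf 0x3ab2002528))))) (.node 15033 (.node 15030 (.node 15029 (.leaf 0xf0001) (.leaf 0x0)) (.node 15031 (.leaf 0x2000207020902000703040103000d) (.node 15032 (.leaf 0x0) (.leaf 0xf0b0b0003)))) (.node 15036 (.node 15034 (.leaf 0x202060402020007010009) (.node 15035 (.leaf 0x0) (.leaf 0x0))) (.node 15037 (.leaf 0xe0d0002) (.node 15038 (.leaf 0x3abc003abb) (.leaf 0xf0b0b0a0004))))))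

def argWS_1329 : Store := (.node 15050 (.node 15044 (.node 15041 (.node 15040 (.leaf 0x0) (.leaf 0xf0a0a0003)) (.node 15042 (.leaf 0x0) (.node 15043 (.leaf 0x0) (.leaf 0xf0b0a0a0004)))) (.node 15047 (.node 15045 (.leaf 0xb0f0a0a0004) (.node 15046 (.leaf 0x3777003ac4) (.leaf 0x60501070209020802040105000c))) (.node 15048 (.leaf 0x0) (.node 15049 (.leaf 0xf0b0002) (.leaf 0x0))))) (.node 15056 (.node 15053 (.node 15051 (.leaf 0x0) (.node 15052 (.leaf 0xb0b0a0a0004) (.leaf 0xa0f0b0003))) (.node 15054 (.leaf 0x6020003010102000008) (.node 15055 (.leaf 0x0) (.leaf 0xf0a0002)))) (.node 15059 (.node 15057 (.leaf 0x0) (.node 15058 (.leaf 0x60401010904020007) (.leaf 0x0))) (.node 15060 (.leaf 0xa0f0b0003) (.node 15061 (.leaf 0x0) (.leaf 0x3ad4003ad0))))))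

def argWS_1330 : Store := (.node 15039 argWS_1328 argWS_1329)

def argWS_1331 : Store := (.node 15017 argWS_1327 argWS_1330)

def argWS_1332 : Store := (.node 15073 (.node 15067 (.node 15064 (.node 15063 (.leaf 0xd0001) (.leaf 0x0)) (.node 15065 (.leaf 0xe0001) (.node 15066 (.leaf 0x0) (.leaf 0x0)))) (.node 15070 (.node 15068 (.leaf 0xf0b0b0003) (.node 15069 (.leaf 0x401090402000703040103000c) (.leaf 0x0))) (.node 15071 (.leaf 0xf0b0a0003) (.node 15072 (.leaf 0x0) (.leaf 0xb0f0a0003))))) (.node 15078 (.node 15075 (.node 15074 (.leaf 0x3ae0003adf) (.leaf 0xa0001)) (.node 15076 (.leaf 0x0) (.node 15077 (.leaf 0x20106060802040105000b) (.leaf 0x0)))) (.node 15081 (.node 15079 (.leaf 0xf0a0a0003) (.node 15080 (.leaf 0x605010703060006) (.leaf 0x0))) (.node 15082 (.leaf 0xa0f0b0b0004) (.node 15083 (.leaf 0x0) (.leaf 0x606030500040202000701000c))))))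

def argWS_1333 : Store := (.node 15095 (.node 15089 (.node 15086 (.node 15085 (.leaf 0x0) (.leaf 0xf0b0a0a0004)) (.node 15087 (.leaf 0x0) (.node 15088 (.leaf 0x1010606000703040103000a) (.leaf 0x0)))) (.node 15092 (.node 15090 (.leaf 0xa0f0002) (.node 15091 (.leaf 0x0) (.leaf 0x3af2003aee))) (.node 15093 (.leaf 0x10700000408010802040105000c) (.node 15094 (.leaf 0x0) (.leaf 0xd0001))))) (.node 15101 (.node 15098 (.node 15096 (.leaf 0x0) (.node 15097 (.leaf 0x404090000090006) (.leaf 0x0))) (.node 15099 (.leaf 0xf0b0002) (.node 15100 (.leaf 0xb0f0a0003) (.leaf 0x6020408010202000701000a)))) (.node 15104 (.node 15102 (.leaf 0x0) (.node 15103 (.leaf 0xf0b0b0a0a0005) (.leaf 0x0))) (.node 15105 (.leaf 0x802000000030000000703040103000e) (.node 15106 (.leaf 0x0) (.leaf 0xd0b0b0003))))))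

def argWS_1334 : Store := (.node 15084 argWS_1332 argWS_1333)

def argWS_1335 : Store := (.node 15118 (.node 15112 (.node 15109 (.node 15108 (.leaf 0x0) (.leaf 0x3b03003aff)) (.node 15110 (.leaf 0x90503000408010007) (.node 15111 (.leaf 0x0) (.leaf 0xf0a0002)))) (.node 15115 (.node 15113 (.leaf 0x0) (.node 15114 (.leaf 0x205020400050802040105000b) (.leaf 0x0))) (.node 15116 (.leaf 0xe0a0a0003) (.node 15117 (.leaf 0x4030703060802040105000a) (.leaf 0x0))))) (.node 15124 (.node 15121 (.node 15119 (.leaf 0xe0a0a0003) (.node 15120 (.leaf 0x0) (.leaf 0x2060408020401050009))) (.node 15122 (.leaf 0x0) (.node 15123 (.leaf 0xf0b0a0a0004) (.leaf 0x0)))) (.node 15127 (.node 15125 (.leaf 0x3b13) (.node 15126 (.leaf 0xf0a0a0003) (.leaf 0x0))) (.node 15128 (.leaf 0x40006010500020802040105000d) (.node 15129 (.leaf 0x0) (.leaf 0xe0a0002))))))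

def argWS_1336 : Store := (.node 15141 (.node 15135 (.node 15132 (.node 15131 (.leaf 0x1030908050802040105000a) (.leaf 0x0)) (.node 15133 (.leaf 0x0) (.node 15134 (.leaf 0x200020400050202000701000b) (.leaf 0x0)))) (.node 15138 (.node 15136 (.leaf 0xe0a0002) (.node 15137 (.leaf 0x0) (.leaf 0x3b20003b1c))) (.node 15139 (.leaf 0x90007020600000703040103000c) (.node 15140 (.leaf 0x0) (.leaf 0xb0001))))) (.node 15147 (.node 15144 (.node 15142 (.leaf 0x0) (.node 15143 (.leaf 0x60500020804000802040105000c) (.leaf 0x0))) (.node 15145 (.leaf 0xb0a0a0003) (.node 15146 (.leaf 0x4040007030401030008) (.leaf 0x0)))) (.node 15150 (.node 15148 (.leaf 0xf0001) (.node 15149 (.leaf 0x0) (.leaf 0x7070209020005))) (.node 15151 (.leaf 0x0) (.node 15152 (.leaf 0xf0a0002) (.leaf 0x0))))))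

def argWS_1337 : Store := (.node 15130 argWS_1335 argWS_1336)

def argWS_1338 : Store := (.node 15107 argWS_1334 argWS_1337)

def argWS_1339 : Store := (.node 15062 argWS_1331 argWS_1338)

def argWS_1340 : Store := (.node 14972 argWS_1324 argWS_1339)

def argWS_1341 : Store := (.node 14792 argWS_1309 argWS_1340)

def argWS_1342 : Store := (.node 15164 (.node 15158 (.node 15155 (.node 15154 (.leaf 0x3b3000205e) (.leaf 0x202020900000202000701000c)) (.node 15156 (.leaf 0x0) (.node 15157 (.leaf 0xb0f0a0a0004) (.leaf 0x0)))) (.node 15161 (.node 15159 (.leaf 0x90104090000090802040105000c) (.node 15160 (.leaf 0x0) (.leaf 0xb0f0a0003))) (.node 15162 (.leaf 0xd0001) (.node 15163 (.leaf 0xa0001) (.leaf 0x1584003b3a))))) (.node 15169 (.node 15166 (.node 15165 (.leaf 0xa0a0002) (.leaf 0x0)) (.node 15167 (.leaf 0xf0b0b0a0004) (.node 15168 (.leaf 0x0) (.leaf 0x0)))) (.node 15172 (.node 15170 (.leaf 0x901040900090202000701000b) (.node 15171 (.leaf 0x0) (.leaf 0xf0a0a0003)))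 (.node 15173 (.leaf 0x0) (.node 15174 (.leaf 0x904090806000202000701000b) (.leaf 0x0))))))

def argWS_1343 : Store := (.node 15186 (.node 15180 (.node 15177 (.node 15176 (.leaf 0xf0001) (.leaf 0x0)) (.node 15178 (.leaf 0x3b48) (.node 15179 (.leaf 0xb0001) (.leaf 0x0)))) (.node 15183 (.node 15181 (.leaf 0x8000703060202000701000a) (.node 15182 (.leaf 0x0) (.leaf 0xa0f0b0b0004))) (.node 15184 (.leaf 0x80004010703060007) (.node 15185 (.leaf 0x0) (.leaf 0xb0f0002))))) (.node 15192 (.node 15189 (.node 15187 (.leaf 0x0) (.node 15188 (.leaf 0xb0b0a0003) (.leaf 0x805000400050802040105000b))) (.node 15190 (.leaf 0x0) (.node 15191 (.leaf 0xd0001) (.leaf 0x0)))) (.node 15195 (.node 15193 (.leaf 0x3b57003b53) (.node 15194 (.leaf 0x603040807030401030009) (.leaf 0x0))) (.node 15196 (.leaf 0xf0a0002) (.node 15197 (.leaf 0x0) (.leaf 0x6010201090000090802040105000d))))))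

def argWS_1344 : Store := (.node 15175 argWS_1342 argWS_1343)

def argWS_1345 : Store := (.node 15209 (.node 15203 (.node 15200 (.node 15199 (.leaf 0x0) (.leaf 0xf0b0b0003)) (.node 15201 (.leaf 0x702010606000703040103000b) (.node 15202 (.leaf 0x0) (.leaf 0xf0b0b0003)))) (.node 15206 (.node 15204 (.leaf 0x0) (.node 15205 (.leaf 0x60106030500040007) (.leaf 0x0))) (.node 15207 (.leaf 0xb0b0a0a0004) (.node 15208 (.leaf 0x0) (.leaf 0x3b67))))) (.node 15214 (.node 15211 (.node 15210 (.leaf 0x30005020202010202000701000c) (.leaf 0x0)) (.node 15212 (.leaf 0xe0d0002) (.node 15213 (.leaf 0x0) (.leaf 0x103090402000703040103000b)))) (.node 15217 (.node 15215 (.leaf 0x0) (.node 15216 (.leaf 0xb0a0a0003) (.leaf 0xe0a0002))) (.node 15218 (.leaf 0xa0a0002) (.node 15219 (.leaf 0x3b71) (.leaf 0xe0001))))))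

def argWS_1346 : Store := (.node 15231 (.node 15225 (.node 15222 (.node 15221 (.leaf 0x0) (.leaf 0x304030901090202000701000b)) (.node 15223 (.leaf 0x0) (.node 15224 (.leaf 0xb0f0a0003) (.leaf 0xf0b0b0a0a0005)))) (.node 15228 (.node 15226 (.leaf 0xe0a0002) (.node 15227 (.leaf 0xd0001) (.leaf 0x3b7a003b79))) (.node 15229 (.leaf 0xf0a0002) (.node 15230 (.leaf 0x0) (.leaf 0xb0a0f0003))))) (.node 15237 (.node 15234 (.node 15232 (.leaf 0x0) (.node 15233 (.leaf 0x30000020804000802040105000c) (.leaf 0x0))) (.node 15235 (.leaf 0xb0f0a0003) (.node 15236 (.leaf 0x0) (.leaf 0x5090206020202000701000a)))) (.node 15240 (.node 15238 (.leaf 0x0) (.node 15239 (.leaf 0x0) (.leaf 0x900070206000202000701000b))) (.node 15241 (.leaf 0x0) (.node 15242 (.leaf 0xb0001) (.leaf 0x0))))))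

def argWS_1347 : Store := (.node 15220 argWS_1345 argWS_1346)

def argWS_1348 : Store := (.node 15198 argWS_1344 argWS_1347)

def argWS_1349 : Store := (.node 15254 (.node 15248 (.node 15245 (.node 15244 (.leaf 0x3b8a003b86) (.leaf 0x501010904020802040105000b)) (.node 15246 (.leaf 0x0) (.node 15247 (.leaf 0xa0f0b0b0004) (.leaf 0x0)))) (.node 15251 (.node 15249 (.leaf 0x0) (.node 15250 (.leaf 0xa0f0b0b0004) (.leaf 0x3b91))) (.node 15252 (.leaf 0x103010301010200000703040103000e) (.node 15253 (.leaf 0x0) (.leaf 0xf0b0b0a0004))))) (.node 15259 (.node 15256 (.node 15255 (.leaf 0x0) (.leaf 0x406010500020802040105000b)) (.node 15257 (.leaf 0x0) (.node 15258 (.leaf 0xa0f0b0003) (.leaf 0x50300000300000008)))) (.node 15262 (.node 15260 (.leaf 0x0) (.node 15261 (.leaf 0xb0f0a0003) (.leaf 0x0))) (.node 15263 (.leaf 0xa0f0002) (.node 15264 (.leaf 0x3b9e) (.leaf 0x206000007030401030009))))))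

def argWS_1350 : Store := (.node 15276 (.node 15270 (.node 15267 (.node 15266 (.leaf 0x0) (.leaf 0xf0b0b0a0004)) (.node 15268 (.leaf 0x0) (.node 15269 (.leaf 0x209030306040802040105000b) (.leaf 0x0)))) (.node 15273 (.node 15271 (.leaf 0xb0a0f0003) (.node 15272 (.leaf 0x70101090402000703040103000c) (.leaf 0x0))) (.node 15274 (.leaf 0x0) (.node 15275 (.leaf 0x1050200020804000008) (.leaf 0x0))))) (.node 15282 (.node 15279 (.node 15277 (.leaf 0xf0b0a0003) (.node 15278 (.leaf 0x0) (.leaf 0x3bad))) (.node 15280 (.leaf 0x60501010703060007) (.node 15281 (.leaf 0x0) (.leaf 0xf0b0b0a0004)))) (.node 15285 (.node 15283 (.leaf 0x0) (.node 15284 (.leaf 0x30402020007010007) (.leaf 0x0))) (.node 15286 (.leaf 0xa0f0b0003) (.node 15287 (.leaf 0x2020102020007010008) (.leaf 0x0))))))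

def argWS_1351 : Store := (.node 15265 argWS_1349 argWS_1350)

def argWS_1352 : Store := (.node 15299 (.node 15293 (.node 15290 (.node 15289 (.leaf 0xf0b0b0003) (.leaf 0x0)) (.node 15291 (.leaf 0xd0b0002) (.node 15292 (.leaf 0x3bba) (.leaf 0x8000406020702010202000701000d)))) (.node 15296 (.node 15294 (.leaf 0x0) (.node 15295 (.leaf 0xb0a0f0003) (.leaf 0x0))) (.node 15297 (.leaf 0x1050207020902000703040103000d) (.node 15298 (.leaf 0x0) (.leaf 0x8010102020900000802040105000d))))) (.node 15304 (.node 15301 (.node 15300 (.leaf 0x0) (.leaf 0xb0f0a0003)) (.node 15302 (.leaf 0x0) (.node 15303 (.leaf 0x2010307000903000703040103000d) (.leaf 0x0)))) (.node 15307 (.node 15305 (.leaf 0x0) (.node 15306 (.leaf 0xb0a0f0003) (.leaf 0x3bc9003bc8))) (.node 15308 (.leaf 0xb0f0002) (.node 15309 (.leaf 0x0) (.leaf 0xe0d0002))))))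

def argWS_1353 : Store := (.node 15321 (.node 15315 (.node 15312 (.node 15311 (.leaf 0x0) (.leaf 0x0)) (.node 15313 (.leaf 0x1030005020604000703040103000d) (.node 15314 (.leaf 0x0) (.leaf 0xd0b0b0003)))) (.node 15318 (.node 15316 (.leaf 0x0) (.node 15317 (.leaf 0x0) (.leaf 0x3bd4))) (.node 15319 (.leaf 0xa0f0002) (.node 15320 (.leaf 0x0) (.leaf 0x6050000030000000703040103000d))))) (.node 15327 (.node 15324 (.node 15322 (.leaf 0x0) (.node 15323 (.leaf 0xd0001) (.leaf 0x4030006020702010802040105000d))) (.node 15325 (.leaf 0x0) (.node 15326 (.leaf 0x0) (.leaf 0x4000400050802040105000b)))) (.node 15330 (.node 15328 (.leaf 0x0) (.node 15329 (.leaf 0xf0b0b0a0a0005) (.leaf 0x0))) (.node 15331 (.leaf 0x3be10006d2) (.node 15332 (.leaf 0x60205020604000703040103000c) (.leaf 0x0))))))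

def argWS_1354 : Store := (.node 15310 argWS_1352 argWS_1353)

def argWS_1355 : Store := (.node 15288 argWS_1351 argWS_1354)

def argWS_1356 : Store := (.node 15243 argWS_1348 argWS_1355)

def argWS_1357 : Store := (.node 15344 (.node 15338 (.node 15335 (.node 15334 (.leaf 0xb0a0002) (.leaf 0x0)) (.node 15336 (.leaf 0x502010904020202000701000b) (.node 15337 (.leaf 0x0) (.leaf 0xb0b0a0a0004)))) (.node 15341 (.node 15339 (.leaf 0x9020107000902000701000a) (.node 15340 (.leaf 0x0) (.leaf 0xd0b0b0003))) (.node 15342 (.leaf 0x0) (.node 15343 (.leaf 0x8010408010202000701000a) (.leaf 0x0))))) (.node 15349 (.node 15346 (.node 15345 (.leaf 0x0) (.leaf 0x3bf0)) (.node 15347 (.leaf 0x209030002080400000703040103000e) (.node 15348 (.leaf 0x0) (.leaf 0xb0b0a0003)))) (.node 15352 (.node 15350 (.leaf 0x0) (.node 15351 (.leaf 0xf0b0a0003) (.leaf 0x0))) (.node 15353 (.leaf 0x0) (.node 15354 (.leaf 0x5000308000703040103000a) (.leaf 0x0))))))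

def argWS_1358 : Store := (.node 15366 (.node 15360 (.node 15357 (.node 15356 (.leaf 0xb0f0a0003) (.leaf 0x0)) (.node 15358 (.leaf 0x20502070009030007) (.node 15359 (.leaf 0x0) (.leaf 0xe0a0002)))) (.node 15363 (.node 15361 (.leaf 0x0) (.node 15362 (.leaf 0x3c000011d9) (.leaf 0x0))) (.node 15364 (.leaf 0xb0b0a0a0004) (.node 15365 (.leaf 0x0) (.leaf 0xd0001))))) (.node 15372 (.node 15369 (.node 15367 (.leaf 0x0) (.node 15368 (.leaf 0x0) (.leaf 0x8000000030306040008))) (.node 15370 (.leaf 0x0) (.node 15371 (.leaf 0xf0b0a0003) (.leaf 0x0)))) (.node 15375 (.node 15373 (.leaf 0xb0a0f0003) (.node 15374 (.leaf 0x3c0c001720) (.leaf 0xa0f0b0003))) (.node 15376 (.leaf 0x0) (.node 15377 (.leaf 0xb0b0a0a0004) (.leaf 0x0))))))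

def argWS_1359 : Store := (.node 15355 argWS_1357 argWS_1358)

def argWS_1360 : Store := (.node 15389 (.node 15383 (.node 15380 (.node 15379 (.leaf 0x0) (.leaf 0xb0f0002)) (.node 15381 (.leaf 0xa0001) (.node 15382 (.leaf 0x40301090805000703040103000c) (.leaf 0x0)))) (.node 15386 (.node 15384 (.leaf 0xb0b0002) (.node 15385 (.leaf 0x0) (.leaf 0x3c18003c14))) (.node 15387 (.leaf 0xf0b0002) (.node 15388 (.leaf 0x0) (.leaf 0xb0b0a0a0004))))) (.node 15394 (.node 15391 (.node 15390 (.leaf 0x0) (.leaf 0x0)) (.node 15392 (.leaf 0x80500070206000007) (.node 15393 (.leaf 0x0) (.leaf 0xa0001)))) (.node 15397 (.node 15395 (.leaf 0x0) (.node 15396 (.leaf 0xe0001) (.leaf 0x3c23))) (.node 15398 (.leaf 0xf0b0a0003) (.node 15399 (.leaf 0x0) (.leaf 0x200000900090802040105000b))))))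

def argWS_1361 : Store := (.node 15411 (.node 15405 (.node 15402 (.node 15401 (.leaf 0x0) (.leaf 0xb0f0a0a0004)) (.node 15403 (.leaf 0x701090806000202000701000b) (.node 15404 (.leaf 0x0) (.leaf 0xb0b0a0a0004)))) (.node 15408 (.node 15406 (.leaf 0x0) (.node 15407 (.leaf 0x103010401050006) (.leaf 0x0))) (.node 15409 (.leaf 0xe0a0a0003) (.node 15410 (.leaf 0x0) (.leaf 0x2040307020600000703040103000d))))) (.node 15417 (.node 15414 (.node 15412 (.leaf 0x0) (.node 15413 (.leaf 0xd0001) (.leaf 0x0))) (.node 15415 (.leaf 0x3c35003c31) (.node 15416 (.leaf 0xa0f0b0003) (.leaf 0x0)))) (.node 15420 (.node 15418 (.leaf 0x6030103010102000008) (.node 15419 (.leaf 0x0) (.leaf 0xb0b0002))) (.node 15421 (.leaf 0x20200070206000802040105000c) (.node 15422 (.leaf 0x0) (.leaf 0xb0a0f0003))))))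

def argWS_1362 : Store := (.node 15400 argWS_1360 argWS_1361)

def argWS_1363 : Store := (.node 15378 argWS_1359 argWS_1362)

def argWS_1364 : Store := (.node 15434 (.node 15428 (.node 15425 (.node 15424 (.leaf 0x0) (.leaf 0xb0b0002)) (.node 15426 (.leaf 0xf0b0b0a0004) (.node 15427 (.leaf 0x3c41003c40) (.leaf 0x600020901060202000701000c)))) (.node 15431 (.node 15429 (.leaf 0x0) (.node 15430 (.leaf 0xb0a0002) (.leaf 0x0))) (.node 15432 (.leaf 0xa0a0002) (.node 15433 (.leaf 0x0) (.leaf 0x0))))) (.node 15439 (.node 15436 (.node 15435 (.leaf 0xf0a0a0003) (.leaf 0x502010904020006)) (.node 15437 (.leaf 0x0) (.node 15438 (.leaf 0xb0001) (.leaf 0x0)))) (.node 15442 (.node 15440 (.leaf 0x6030007030401030008) (.node 15441 (.leaf 0x0) (.leaf 0xf0b0a0003))) (.node 15443 (.leaf 0x0) (.node 15444 (.leaf 0x3c52003c4e) (.leaf 0x4040007030401030008))))))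

def argWS_1365 : Store := (.node 15456 (.node 15450 (.node 15447 (.node 15446 (.leaf 0x0) (.leaf 0xf0001)) (.node 15448 (.leaf 0x0) (.node 15449 (.leaf 0xd0b0002) (.leaf 0x0)))) (.node 15453 (.node 15451 (.leaf 0x0) (.node 15452 (.leaf 0xe0a0a0003) (.leaf 0x2060400050202000701000a))) (.node 15454 (.leaf 0x0) (.node 15455 (.leaf 0xa0f0b0b0004) (.leaf 0x0))))) (.node 15462 (.node 15459 (.node 15457 (.leaf 0xb0a0a0003) (.node 15458 (.leaf 0x0) (.leaf 0x3c61003c5f))) (.node 15460 (.leaf 0x304030009020602000703040103000e) (.node 15461 (.leaf 0x0) (.leaf 0xa0001)))) (.node 15465 (.node 15463 (.leaf 0x0) (.node 15464 (.leaf 0x6020702010202000701000a) (.leaf 0x0))) (.node 15466 (.leaf 0xf0b0b0a0a0005) (.node 15467 (.leaf 0xb0a0a0003) (.leaf 0x9000901090202000701000a))))))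

def argWS_1366 : Store := (.node 15445 argWS_1364 argWS_1365)

def argWS_1367 : Store := (.node 15479 (.node 15473 (.node 15470 (.node 15469 (.leaf 0x0) (.leaf 0xf0b0b0a0a0005)) (.node 15471 (.leaf 0x0) (.node 15472 (.leaf 0x3c6e) (.leaf 0xd0001)))) (.node 15476 (.node 15474 (.leaf 0x0) (.node 15475 (.leaf 0x9070006010500020802040105000d) (.leaf 0x0))) (.node 15477 (.leaf 0xf0a0a0003) (.node 15478 (.leaf 0x3030604000703040103000a) (.leaf 0x0))))) (.node 15485 (.node 15482 (.node 15480 (.leaf 0x0) (.node 15481 (.leaf 0x60301010200000703040103000c) (.leaf 0x0))) (.node 15483 (.leaf 0x0) (.node 15484 (.leaf 0xb0f0a0003) (.leaf 0x3c7b003c7a)))) (.node 15488 (.node 15486 (.leaf 0x5020107000902000701000a) (.node 15487 (.leaf 0x0) (.leaf 0xf0001))) (.node 15489 (.leaf 0x0) (.node 15490 (.leaf 0x9020106010500020802040105000d) (.leaf 0x0))))))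

def argWS_1368 : Store := (.node 15502 (.node 15496 (.node 15493 (.node 15492 (.leaf 0xb0f0002) (.leaf 0x601070206000006)) (.node 15494 (.leaf 0x0) (.node 15495 (.leaf 0xd0b0b0003) (.leaf 0x0)))) (.node 15499 (.node 15497 (.leaf 0x400030306040802040105000c) (.node 15498 (.leaf 0x0) (.leaf 0x0))) (.node 15500 (.leaf 0x60601020106060202000701000c) (.node 15501 (.leaf 0x0) (.leaf 0x0))))) (.node 15508 (.node 15505 (.node 15503 (.leaf 0x3c8d003c8a) (.node 15504 (.leaf 0xb0001) (.leaf 0x0))) (.node 15506 (.leaf 0xa0001) (.node 15507 (.leaf 0x0) (.leaf 0x0)))) (.node 15511 (.node 15509 (.leaf 0xe0a0a0003) (.node 15510 (.leaf 0x3040105020202010202000701000d) (.leaf 0x0))) (.node 15512 (.leaf 0xf0b0b0003) (.node 15513 (.leaf 0x0) (.leaf 0x3c98))))))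

def argWS_1369 : Store := (.node 15491 argWS_1367 argWS_1368)

def argWS_1370 : Store := (.node 15468 argWS_1366 argWS_1369)

def argWS_1371 : Store := (.node 15423 argWS_1363 argWS_1370)

def argWS_1372 : Store := (.node 15333 argWS_1356 argWS_1371)

def argWS_1373 : Store := (.node 15525 (.node 15519 (.node 15516 (.node 15515 (.leaf 0x2000000030000000703040103000d) (.leaf 0x0)) (.node 15517 (.leaf 0xa0f0b0b0004) (.node 15518 (.leaf 0x0) (.leaf 0x60102060207020703040103000c)))) (.node 15522 (.node 15520 (.leaf 0x0) (.node 15521 (.leaf 0xb0a0a0003) (.leaf 0x80109020602000703040103000c))) (.node 15523 (.leaf 0x0) (.node 15524 (.leaf 0xf0b0002) (.leaf 0x0))))) (.node 15530 (.node 15527 (.node 15526 (.leaf 0xd0001) (.leaf 0x3ca5)) (.node 15528 (.leaf 0x402050207030006) (.node 15529 (.leaf 0x0) (.leaf 0xb0f0a0a0004)))) (.node 15533 (.node 15531 (.leaf 0x0) (.node 15532 (.leaf 0x303050206040202000701000b) (.leaf 0x0))) (.node 15534 (.leaf 0xb0a0a0003) (.node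 15535 (.leaf 0x3040107000902000701000a) (.leaf 0x0))))))

def argWS_1374 : Store := (.node 15547 (.node 15541 (.node 15538 (.node 15537 (.leaf 0xa0f0b0003) (.leaf 0x0)) (.node 15539 (.leaf 0x6010908050802040105000b) (.node 15540 (.leaf 0x0) (.leaf 0xd0b0002)))) (.node 15544 (.node 15542 (.leaf 0x0) (.node 15543 (.leaf 0x3abc003cb5) (.leaf 0x303040005000703040103000b))) (.node 15545 (.leaf 0x0) (.node 15546 (.leaf 0xb0a0f0003) (.leaf 0x0))))) (.node 15553 (.node 15550 (.node 15548 (.leaf 0xe0a0002) (.node 15549 (.leaf 0x0) (.leaf 0x0))) (.node 15551 (.leaf 0x7030501090402000703040103000d) (.node 15552 (.leaf 0x0) (.leaf 0xe0a0a0003)))) (.node 15556 (.node 15554 (.leaf 0x0) (.node 15555 (.leaf 0x3040102020900000202000701000d) (.leaf 0x0))) (.node 15557 (.leaf 0xd0001) (.node 15558 (.leaf 0x0) (.leaf 0x3cc5003cc1))))))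

def argWS_1375 : Store := (.node 15536 argWS_1373 argWS_1374)

def argWS_1376 : Store := (.node 15570 (.node 15564 (.node 15561 (.node 15560 (.leaf 0x70005020604000703040103000c) (.leaf 0x0)) (.node 15562 (.leaf 0xf0b0b0a0004) (.node 15563 (.leaf 0x40005020604000703040103000c) (.leaf 0x0)))) (.node 15567 (.node 15565 (.leaf 0xf0b0002) (.node 15566 (.leaf 0x0) (.leaf 0xf0b0a0003))) (.node 15568 (.leaf 0x40300000300000202000701000c) (.node 15569 (.leaf 0x0) (.leaf 0xf0001))))) (.node 15575 (.node 15572 (.node 15571 (.leaf 0x0) (.leaf 0x3cd2)) (.node 15573 (.leaf 0x4000502020007010008) (.node 15574 (.leaf 0x0) (.leaf 0xf0b0b0a0a0005)))) (.node 15578 (.node 15576 (.leaf 0x0) (.node 15577 (.leaf 0xf0001) (.leaf 0x0))) (.node 15579 (.leaf 0x0) (.node 15580 (.leaf 0xb0f0a0a0004) (.leaf 0xd0b0b0003))))))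

def argWS_1377 : Store := (.node 15592 (.node 15586 (.node 15583 (.node 15582 (.leaf 0x23f4003cdc) (.leaf 0x205010102000802040105000b)) (.node 15584 (.leaf 0x0) (.node 15585 (.leaf 0xb0001) (.leaf 0x0)))) (.node 15589 (.node 15587 (.leaf 0x30700020804000802040105000c) (.node 15588 (.leaf 0x0) (.leaf 0xb0a0a0003))) (.node 15590 (.leaf 0x3040102000003010802040105000d) (.node 15591 (.leaf 0x0) (.leaf 0xf0b0a0a0004))))) (.node 15598 (.node 15595 (.node 15593 (.leaf 0x0) (.node 15594 (.leaf 0xf0b0b0003) (.leaf 0x3ce9))) (.node 15596 (.leaf 0xe0a0002) (.node 15597 (.leaf 0x0) (.leaf 0xd0b0002)))) (.node 15601 (.node 15599 (.leaf 0x0) (.node 15600 (.leaf 0x0) (.leaf 0xa0f0002))) (.node 15602 (.leaf 0x0) (.node 15603 (.leaf 0x50000070209020802040105000c) (.leaf 0x0))))))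

def argWS_1378 : Store := (.node 15581 argWS_1376 argWS_1377)

def argWS_1379 : Store := (.node 15559 argWS_1375 argWS_1378)

def argWS_1380 : Store := (.node 15615 (.node 15609 (.node 15606 (.node 15605 (.leaf 0xb0f0a0a0004) (.leaf 0x0)) (.node 15607 (.leaf 0x3cf5) (.node 15608 (.leaf 0x80300020603000703040103000c) (.leaf 0x0)))) (.node 15612 (.node 15610 (.leaf 0xa0f0b0003) (.node 15611 (.leaf 0x0) (.leaf 0x0))) (.node 15613 (.leaf 0xd0b0b0003) (.node 15614 (.leaf 0x4000400030306040008) (.leaf 0x0))))) (.node 15620 (.node 15617 (.node 15616 (.leaf 0xb0b0002) (.leaf 0x0)) (.node 15618 (.leaf 0x50301090805000703040103000d) (.node 15619 (.leaf 0x0) (.leaf 0xe0001)))) (.node 15623 (.node 15621 (.leaf 0x0) (.node 15622 (.leaf 0x3d04003d00) (.leaf 0x903000301010200000703040103000e))) (.node 15624 (.leaf 0x0) (.node 15625 (.leaf 0xe0a0002) (.leaf 0xa0a0002))))))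

def argWS_1381 : Store := (.node 15637 (.node 15631 (.node 15628 (.node 15627 (.leaf 0x202020009020602000703040103000e) (.leaf 0x0)) (.node 15629 (.leaf 0xb0a0002) (.node 15630 (.leaf 0x0) (.leaf 0x3d0d003d09)))) (.node 15634 (.node 15632 (.leaf 0xa0001) (.node 15633 (.leaf 0x0) (.leaf 0xe0001))) (.node 15635 (.leaf 0x0) (.node 15636 (.leaf 0x0) (.leaf 0x40205060207020703040103000c))))) (.node 15643 (.node 15640 (.node 15638 (.leaf 0x0) (.node 15639 (.leaf 0xb0a0002) (.leaf 0x0))) (.node 15641 (.leaf 0xa0f0002) (.node 15642 (.leaf 0x4030408020401050008) (.leaf 0x0)))) (.node 15646 (.node 15644 (.leaf 0xd0001) (.node 15645 (.leaf 0x0) (.leaf 0x3d1c003d18))) (.node 15647 (.leaf 0x605050202020703040103000b) (.node 15648 (.leaf 0x0) (.leaf 0xb0f0a0a0004))))))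

def argWS_1382 : Store := (.node 15626 argWS_1380 argWS_1381)

def argWS_1383 : Store := (.node 15660 (.node 15654 (.node 15651 (.node 15650 (.leaf 0x0) (.leaf 0x907000401050006)) (.node 15652 (.leaf 0x0) (.node 15653 (.leaf 0xb0a0a0003) (.leaf 0x900090806000802040105000c)))) (.node 15657 (.node 15655 (.leaf 0x0) (.node 15656 (.leaf 0xd0b0002) (.leaf 0x0))) (.node 15658 (.leaf 0x9070904020202000701000a) (.node 15659 (.leaf 0x0) (.leaf 0xd0b0b0003))))) (.node 15665 (.node 15662 (.node 15661 (.leaf 0x0) (.leaf 0x3d2c)) (.node 15663 (.leaf 0xa0f0b0003) (.node 15664 (.leaf 0x0) (.leaf 0x4020900000005)))) (.node 15668 (.node 15666 (.leaf 0x0) (.node 15667 (.leaf 0xf0b0002) (.leaf 0xe0001))) (.node 15669 (.leaf 0x2010306010500020802040105000d) (.node 15670 (.leaf 0x0) (.leaf 0xf0b0a0a0004))))))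

def argWS_1384 : Store := (.node 15682 (.node 15676 (.node 15673 (.node 15672 (.leaf 0x0) (.leaf 0x7010908050802040105000b)) (.node 15674 (.leaf 0x0) (.node 15675 (.leaf 0x0) (.leaf 0x3d3a003d37)))) (.node 15679 (.node 15677 (.leaf 0xe0a0a0003) (.node 15678 (.leaf 0x0) (.leaf 0xb0b0002))) (.node 15680 (.leaf 0x0) (.node 15681 (.leaf 0x0) (.leaf 0x901020202010802040105000b))))) (.node 15688 (.node 15685 (.node 15683 (.leaf 0x0) (.node 15684 (.leaf 0xf0001) (.leaf 0x0))) (.node 15686 (.leaf 0xf0b0a0003) (.node 15687 (.leaf 0x304010206030006) (.leaf 0x0)))) (.node 15691 (.node 15689 (.leaf 0xe0a0a0003) (.node 15690 (.leaf 0x0) (.leaf 0x3d49003d45))) (.node 15692 (.leaf 0x400040400050006) (.node 15693 (.leaf 0x0) (.leaf 0xe0a0a0003))))))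

def argWS_1385 : Store := (.node 15671 argWS_1383 argWS_1384)

def argWS_1386 : Store := (.node 15649 argWS_1382 argWS_1385)

def argWS_1387 : Store := (.node 15604 argWS_1379 argWS_1386)

def argWS_1388 : Store := (.node 15705 (.node 15699 (.node 15696 (.node 15695 (.leaf 0x0) (.leaf 0xb0a0002)) (.node 15697 (.leaf 0x0) (.node 15698 (.leaf 0x0) (.leaf 0x5020000030703040103000a)))) (.node 15702 (.node 15700 (.leaf 0x0) (.node 15701 (.leaf 0xa0f0b0b0004) (.leaf 0x0))) (.node 15703 (.leaf 0xf0a0a0003) (.node 15704 (.leaf 0xecf003d56) (.leaf 0x200020804000007))))) (.node 15710 (.node 15707 (.node 15706 (.leaf 0x0) (.leaf 0xe0001)) (.node 15708 (.leaf 0x0) (.node 15709 (.leaf 0x7000000020804000008) (.leaf 0x0)))) (.node 15713 (.node 15711 (.leaf 0xb0a0002) (.node 15712 (.leaf 0xa0a0002) (.leaf 0x0))) (.node 15714 (.leaf 0xf0b0a0003) (.node 15715 (.leaf 0xa0f0002) (.leaf 0x3d62003d61))))))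

def argWS_1389 : Store := (.node 15727 (.node 15721 (.node 15718 (.node 15717 (.leaf 0xf0b0b0a0a0005) (.leaf 0x0)) (.node 15719 (.leaf 0x204090806000006) (.node 15720 (.leaf 0x0) (.leaf 0xf0001)))) (.node 15724 (.node 15722 (.leaf 0x5090106000703040103000b) (.node 15723 (.leaf 0x0) (.leaf 0xa0f0b0b0004))) (.node 15725 (.leaf 0x0) (.node 15726 (.leaf 0x3d6c001a15) (.leaf 0x20401070206000202000701000c))))) (.node 15733 (.node 15730 (.node 15728 (.leaf 0x0) (.node 15729 (.leaf 0xf0b0a0a0004) (.leaf 0x0))) (.node 15731 (.leaf 0x5020105020604000703040103000d) (.node 15732 (.leaf 0x0) (.leaf 0xa0001)))) (.node 15736 (.node 15734 (.leaf 0xf0a0a0003) (.node 15735 (.leaf 0xd0b0002) (.leaf 0x1a6e003d76))) (.node 15737 (.leaf 0xa0001) (.node 15738 (.leaf 0x0) (.leaf 0xa0f0b0003))))))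

def argWS_1390 : Store := (.node 15716 argWS_1388 argWS_1389)

def argWS_1391 : Store := (.node 15750 (.node 15744 (.node 15741 (.node 15740 (.leaf 0x0) (.leaf 0x0)) (.node 15742 (.leaf 0x90503090009000703040103000c) (.node 15743 (.leaf 0x0) (.leaf 0xd0b0b0003)))) (.node 15747 (.node 15745 (.leaf 0x0) (.node 15746 (.leaf 0x8020006030500040802040105000d) (.leaf 0x0))) (.node 15748 (.leaf 0x0) (.node 15749 (.leaf 0x8000206040802040105000a) (.leaf 0x0))))) (.node 15755 (.node 15752 (.node 15751 (.leaf 0xb0a0a0003) (.leaf 0x0)) (.node 15753 (.leaf 0x3d87003d83) (.node 15754 (.leaf 0x5020007010005) (.leaf 0x0)))) (.node 15758 (.node 15756 (.leaf 0xa0001) (.node 15757 (.leaf 0x0) (.leaf 0xd0b0b0003))) (.node 15759 (.leaf 0x0) (.node 15760 (.leaf 0x0) (.leaf 0x20007000902000701000a))))))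

def argWS_1392 : Store := (.node 15772 (.node 15766 (.node 15763 (.node 15762 (.leaf 0x0) (.leaf 0xd0b0002)) (.node 15764 (.leaf 0x0) (.node 15765 (.leaf 0xd0b0002) (.leaf 0x3d94002055)))) (.node 15769 (.node 15767 (.leaf 0x9000902020007010008) (.node 15768 (.leaf 0x0) (.leaf 0xe0a0a0003))) (.node 15770 (.leaf 0x400000408010802040105000b) (.node 15771 (.leaf 0x0) (.leaf 0xd0b0b0003))))) (.node 15778 (.node 15775 (.node 15773 (.leaf 0x0) (.node 15774 (.leaf 0x3d9c0013fa) (.leaf 0xf0b0a0a0004))) (.node 15776 (.leaf 0x0) (.node 15777 (.leaf 0x3040106060802040105000a) (.leaf 0x0)))) (.node 15781 (.node 15779 (.leaf 0xb0a0a0003) (.node 15780 (.leaf 0x200090806000202000701000c) (.leaf 0x0))) (.node 15782 (.leaf 0xe0a0a0003) (.node 15783 (.leaf 0x0) (.leaf 0x20003010004))))))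

def argWS_1393 : Store := (.node 15761 argWS_1391 argWS_1392)

def argWS_1394 : Store := (.node 15739 argWS_1390 argWS_1393)

def argWS_1395 : Store := (.node 15795 (.node 15789 (.node 15786 (.node 15785 (.leaf 0x0) (.leaf 0xa0a0002)) (.node 15787 (.leaf 0x0) (.node 15788 (.leaf 0x70106030500040007) (.leaf 0x0)))) (.node 15792 (.node 15790 (.leaf 0xa0a0002) (.node 15791 (.leaf 0x0) (.leaf 0x3dae003daa))) (.node 15793 (.leaf 0x60904020004) (.node 15794 (.leaf 0x0) (.leaf 0xa0a0002))))) (.node 15800 (.node 15797 (.node 15796 (.leaf 0x0) (.leaf 0xf0b0b0a0a0005)) (.node 15798 (.leaf 0x0) (.node 15799 (.leaf 0x0) (.leaf 0x1030003010102000802040105000d)))) (.node 15803 (.node 15801 (.leaf 0x0) (.node 15802 (.leaf 0xa0a0002) (.leaf 0x0))) (.node 15804 (.leaf 0xf0a0a0003) (.node 15805 (.leaf 0x3dbb) (.leaf 0x30300090206020202000701000c))))))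

def argWS_1396 : Store := (.node 15817 (.node 15811 (.node 15808 (.node 15807 (.leaf 0x0) (.leaf 0xb0a0a0003)) (.node 15809 (.leaf 0x0) (.node 15810 (.leaf 0x109020900000202000701000b) (.leaf 0x0)))) (.node 15814 (.node 15812 (.leaf 0xf0b0b0003) (.node 15813 (.leaf 0x0) (.leaf 0x70200030306040202000701000c))) (.node 15815 (.leaf 0x0) (.node 15816 (.leaf 0xf0b0a0a0004) (.leaf 0x0))))) (.node 15823 (.node 15820 (.node 15818 (.leaf 0xa0f0002) (.node 15819 (.leaf 0x3dc9003dc8) (.leaf 0xf0b0a0003))) (.node 15821 (.leaf 0x0) (.node 15822 (.leaf 0x0) (.leaf 0xe0d0002)))) (.node 15826 (.node 15824 (.leaf 0x800000408010202000701000c) (.node 15825 (.leaf 0x0) (.leaf 0xb0001))) (.node 15827 (.leaf 0x0) (.node 15828 (.leaf 0xb0f0002) (.leaf 0x3dd3003dd2))))))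

def argWS_1397 : Store := (.node 15806 argWS_1395 argWS_1396)

def argWS_1398 : Store := (.node 15840 (.node 15834 (.node 15831 (.node 15830 (.leaf 0xf0b0b0a0a0005) (.leaf 0x0)) (.node 15832 (.leaf 0x50201020106060802040105000c) (.node 15833 (.leaf 0x0) (.leaf 0xf0a0a0003)))) (.node 15837 (.node 15835 (.leaf 0xf0b0002) (.node 15836 (.leaf 0xe0a0002) (.leaf 0x23c8003ddb))) (.node 15838 (.leaf 0x800020901060802040105000c) (.node 15839 (.leaf 0x0) (.leaf 0xd0b0002))))) (.node 15846 (.node 15843 (.node 15841 (.leaf 0x0) (.node 15842 (.leaf 0xb0f0a0003) (.leaf 0x0))) (.node 15844 (.leaf 0x0) (.node 15845 (.leaf 0x701090206020802040105000b) (.leaf 0x0)))) (.node 15849 (.node 15847 (.leaf 0xb0f0a0a0004) (.node 15848 (.leaf 0x0) (.leaf 0x3c37003de7))) (.node 15850 (.leaf 0x90202080400000703040103000c) (.node 15851 (.leaf 0x0) (.leaf 0xf0b0002))))))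

def argWS_1399 : Store := (.node 15863 (.node 15857 (.node 15854 (.node 15853 (.leaf 0x0) (.leaf 0xa0a0002)) (.node 15855 (.leaf 0x0) (.node 15856 (.leaf 0x0) (.leaf 0xd0b0002)))) (.node 15860 (.node 15858 (.leaf 0x60102010606000703040103000c) (.node 15859 (.leaf 0x0) (.leaf 0xa0f0b0b0004))) (.node 15861 (.leaf 0x0) (.node 15862 (.leaf 0x3df4) (.leaf 0x10700070209020802040105000c))))) (.node 15869 (.node 15866 (.node 15864 (.leaf 0x0) (.node 15865 (.leaf 0xe0d0002) (.leaf 0x803000207030802040105000b))) (.node 15867 (.leaf 0x0) (.node 15868 (.leaf 0xb0b0002) (.leaf 0x0)))) (.node 15872 (.node 15870 (.leaf 0x7000000020804000802040105000d) (.node 15871 (.leaf 0x0) (.leaf 0xb0b0a0a0004))) (.node 15873 (.leaf 0x0) (.node 15874 (.leaf 0x3e00) (.leaf 0x5000006030500040202000701000d))))))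

def argWS_1400 : Store := (.node 15852 argWS_1398 argWS_1399)

def argWS_1401 : Store := (.node 15829 argWS_1397 argWS_1400)

def argWS_1402 : Store := (.node 15784 argWS_1394 argWS_1401)

def argWS_1403 : Store := (.node 15694 argWS_1387 argWS_1402)

def argWS_1404 : Store := (.node 15514 argWS_1372 argWS_1403)

def argWS_1405 : Store := (.node 15153 argWS_1341 argWS_1404)

def argWS_1406 : Store := (.node 15886 (.node 15880 (.node 15877 (.node 15876 (.leaf 0x0) (.leaf 0xa0f0002)) (.node 15878 (.leaf 0x0) (.node 15879 (.leaf 0xf0b0a0003) (.leaf 0x0)))) (.node 15883 (.node 15881 (.leaf 0xf0001) (.node 15882 (.leaf 0x40003010908050007) (.leaf 0x0))) (.node 15884 (.leaf 0xf0a0002) (.node 15885 (.leaf 0x0) (.leaf 0xf0001))))) (.node 15891 (.node 15888 (.node 15887 (.leaf 0x3e0d003e0c) (.leaf 0xd0b0b0003)) (.node 15889 (.leaf 0x0) (.node 15890 (.leaf 0xd0001) (.leaf 0x0)))) (.node 15894 (.node 15892 (.leaf 0x0) (.node 15893 (.leaf 0x0) (.leaf 0xe0a0002)))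 (.node 15895 (.leaf 0xf0b0a0a0004) (.node 15896 (.leaf 0x3e16003e15) (.leaf 0x60501020901060007))))))

def argWS_1407 : Store := (.node 15908 (.node 15902 (.node 15899 (.node 15898 (.leaf 0x0) (.leaf 0xf0b0b0a0a0005)) (.node 15900 (.leaf 0x0) (.node 15901 (.leaf 0x20000090206020007) (.leaf 0x0)))) (.node 15905 (.node 15903 (.leaf 0xb0b0002) (.node 15904 (.leaf 0x60501070209020802040105000c) (.leaf 0x0))) (.node 15906 (.leaf 0xb0a0002) (.node 15907 (.leaf 0x0) (.leaf 0x601020900090006))))) (.node 15914 (.node 15911 (.node 15909 (.leaf 0x0) (.node 15910 (.leaf 0xd0001) (.leaf 0x0))) (.node 15912 (.leaf 0x901040007030401030009) (.node 15913 (.leaf 0x0) (.leaf 0xe0a0002)))) (.node 15917 (.node 15915 (.leaf 0x0) (.node 15916 (.leaf 0x3e2a003e26) (.leaf 0x8000007020600000703040103000d))) (.node 15918 (.leaf 0x0) (.node 15919 (.leaf 0xf0b0b0a0004) (.leaf 0x0))))))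

def argWS_1408 : Store := (.node 15897 argWS_1406 argWS_1407)

def argWS_1409 : Store := (.node 15931 (.node 15925 (.node 15922 (.node 15921 (.leaf 0xb0001) (.leaf 0x0)) (.node 15923 (.leaf 0x0) (.node 15924 (.leaf 0x300060207020703040103000b) (.leaf 0x0)))) (.node 15928 (.node 15926 (.leaf 0xf0b0b0a0a0005) (.node 15927 (.leaf 0x0) (.leaf 0xb0001))) (.node 15929 (.leaf 0xf0a0002) (.node 15930 (.leaf 0x3e38003e37) (.leaf 0xf0b0a0003))))) (.node 15936 (.node 15933 (.node 15932 (.leaf 0x0) (.leaf 0x600000300000202000701000c)) (.node 15934 (.leaf 0x0) (.node 15935 (.leaf 0xa0a0002) (.leaf 0x2040305020604000703040103000d)))) (.node 15939 (.node 15937 (.leaf 0x0) (.node 15938 (.leaf 0xa0f0b0003) (.leaf 0x0))) (.node 15940 (.leaf 0x702010703060202000701000b) (.node 15941 (.leaf 0x0) (.leaf 0x0))))))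

def argWS_1410 : Store := (.node 15953 (.node 15947 (.node 15944 (.node 15943 (.leaf 0x3e45003e42) (.leaf 0xb0b0a0003)) (.node 15945 (.leaf 0x0) (.node 15946 (.leaf 0xf0a0002) (.leaf 0x0)))) (.node 15950 (.node 15948 (.leaf 0x0) (.node 15949 (.leaf 0x9060900090005) (.leaf 0x0))) (.node 15951 (.leaf 0xf0b0a0003) (.node 15952 (.leaf 0x0) (.leaf 0xe0d0002))))) (.node 15959 (.node 15956 (.node 15954 (.leaf 0x3e50003e4f) (.node 15955 (.leaf 0x701010206020007010009) (.leaf 0x0))) (.node 15957 (.leaf 0xb0a0f0003) (.node 15958 (.leaf 0x0) (.leaf 0xb0001)))) (.node 15962 (.node 15960 (.leaf 0x0) (.node 15961 (.leaf 0x0) (.leaf 0x7040807030401030008))) (.node 15963 (.leaf 0x0) (.node 15964 (.leaf 0xe0d0002) (.leaf 0x0))))))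

def argWS_1411 : Store := (.node 15942 argWS_1409 argWS_1410)

def argWS_1412 : Store := (.node 15920 argWS_1408 argWS_1411)

def argWS_1413 : Store := (.node 15976 (.node 15970 (.node 15967 (.node 15966 (.leaf 0xf0a0002) (.leaf 0x3e5d)) (.node 15968 (.leaf 0xa0f0b0b0004) (.node 15969 (.leaf 0x0) (.leaf 0x6020000000300000008)))) (.node 15973 (.node 15971 (.leaf 0x0) (.node 15972 (.leaf 0xb0a0f0003) (.leaf 0x9070000000300000202000701000d))) (.node 15974 (.leaf 0x0) (.node 15975 (.leaf 0xf0b0a0a0004) (.leaf 0x0))))) (.node 15981 (.node 15978 (.node 15977 (.leaf 0x5020703060802040105000a) (.leaf 0x0)) (.node 15979 (.leaf 0xb0b0002) (.node 15980 (.leaf 0x0) (.leaf 0x20901090004)))) (.node 15984 (.node 15982 (.leaf 0x0) (.node 15983 (.leaf 0xf0a0a0003) (.leaf 0x0))) (.node 15985 (.leaf 0x3e6f003e6b) (.node 15986 (.leaf 0xf0b0b0a0004) (.leaf 0x0))))))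

def argWS_1414 : Store := (.node 15998 (.node 15992 (.node 15989 (.node 15988 (.leaf 0xb0a0a0003) (.leaf 0x0)) (.node 15990 (.leaf 0x0) (.node 15991 (.leaf 0xb0b0002) (.leaf 0x403090000090006)))) (.node 15995 (.node 15993 (.leaf 0x0) (.node 15994 (.leaf 0x0) (.leaf 0x9040007030401030008))) (.node 15996 (.leaf 0x0) (.node 15997 (.leaf 0xd0b0b0003) (.leaf 0x0))))) (.node 16004 (.node 16001 (.node 15999 (.leaf 0x3e7d003e79) (.node 16000 (.leaf 0x9070003080202000701000a) (.leaf 0x0))) (.node 16002 (.leaf 0xe0a0a0003) (.node 16003 (.leaf 0x0) (.leaf 0x201070209020202000701000b)))) (.node 16007 (.node 16005 (.leaf 0x0) (.node 16006 (.leaf 0xf0b0002) (.leaf 0xf0001))) (.node 16008 (.leaf 0x209030603050004000703040103000e) (.node 16009 (.leaf 0x0) (.leaf 0xb0b0a0003))))))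

def argWS_1415 : Store := (.node 15987 argWS_1413 argWS_1414)

def argWS_1416 : Store := (.node 16021 (.node 16015 (.node 16012 (.node 16011 (.leaf 0x0) (.leaf 0x3e8a00209e)) (.node 16013 (.leaf 0xd0b0b0003) (.node 16014 (.leaf 0x0) (.leaf 0x6020901060202000701000b)))) (.node 16018 (.node 16016 (.leaf 0x0) (.node 16017 (.leaf 0xa0a0002) (.leaf 0xb0a0a0003))) (.node 16019 (.leaf 0x9020107000902000701000a) (.node 16020 (.leaf 0x0) (.leaf 0xd0b0b0003))))) (.node 16026 (.node 16023 (.node 16022 (.leaf 0x0) (.leaf 0x3e95)) (.node 16024 (.leaf 0xb0f0a0a0004) (.node 16025 (.leaf 0x0) (.leaf 0x7020007010006)))) (.node 16029 (.node 16027 (.leaf 0x0) (.node 16028 (.leaf 0xf0001) (.leaf 0xa0001))) (.node 16030 (.leaf 0xa0001) (.node 16031 (.leaf 0x80500070206000007) (.leaf 0x0))))))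

def argWS_1417 : Store := (.node 16043 (.node 16037 (.node 16034 (.node 16033 (.leaf 0x0) (.leaf 0x3ea0003e9d)) (.node 16035 (.leaf 0x204000003010202000701000b) (.node 16036 (.leaf 0x0) (.leaf 0x0)))) (.node 16040 (.node 16038 (.leaf 0x80101010908050007) (.node 16039 (.leaf 0x0) (.leaf 0xa0f0b0003))) (.node 16041 (.leaf 0x6040105020202010202000701000d) (.node 16042 (.leaf 0x0) (.leaf 0xb0a0f0003))))) (.node 16049 (.node 16046 (.node 16044 (.leaf 0x0) (.node 16045 (.leaf 0xb0a0f0003) (.leaf 0x3eac))) (.node 16047 (.leaf 0x1030106010500020008) (.node 16048 (.leaf 0x0) (.leaf 0x0)))) (.node 16052 (.node 16050 (.leaf 0x20403010102000802040105000c) (.node 16051 (.leaf 0x0) (.leaf 0xb0b0a0003))) (.node 16053 (.leaf 0x201090805000703040103000b) (.node 16054 (.leaf 0x0) (.leaf 0x0))))))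

def argWS_1418 : Store := (.node 16032 argWS_1416 argWS_1417)

def argWS_1419 : Store := (.node 16010 argWS_1415 argWS_1418)

def argWS_1420 : Store := (.node 15965 argWS_1412 argWS_1419)

def argWS_1421 : Store := (.node 16066 (.node 16060 (.node 16057 (.node 16056 (.leaf 0xb0a0f0003) (.leaf 0x6000400050802040105000a)) (.node 16058 (.leaf 0x0) (.node 16059 (.leaf 0xf0001) (.leaf 0x0)))) (.node 16063 (.node 16061 (.leaf 0x3ebb003eb7) (.node 16062 (.leaf 0x7010103010102000008) (.leaf 0x0))) (.node 16064 (.leaf 0xf0001) (.node 16065 (.leaf 0x0) (.leaf 0x907000400050202000701000b))))) (.node 16071 (.node 16068 (.node 16067 (.leaf 0x0) (.leaf 0xe0a0002)) (.node 16069 (.leaf 0x3070901090802040105000a) (.node 16070 (.leaf 0x0) (.leaf 0xf0b0b0a0004)))) (.node 16074 (.node 16072 (.leaf 0x0) (.node 16073 (.leaf 0x104000900090802040105000b) (.leaf 0x0))) (.node 16075 (.leaf 0xa0001) (.node 16076 (.leaf 0x0) (.leaf 0xe0001))))))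

def argWS_1422 : Store := (.node 16088 (.node 16082 (.node 16079 (.node 16078 (.leaf 0x3ecc003ecb) (.leaf 0x40004010703060007)) (.node 16080 (.leaf 0x0) (.node 16081 (.leaf 0xa0f0b0003) (.leaf 0x0)))) (.node 16085 (.node 16083 (.leaf 0xa0f0002) (.node 16084 (.leaf 0x0) (.leaf 0x0))) (.node 16086 (.leaf 0x307070009030802040105000b) (.node 16087 (.leaf 0x0) (.leaf 0xb0f0a0003))))) (.node 16094 (.node 16091 (.node 16089 (.leaf 0x0) (.node 16090 (.leaf 0x6020401050005) (.leaf 0x0))) (.node 16092 (.leaf 0x0) (.node 16093 (.leaf 0xe0a0002) (.leaf 0x3edc003edb)))) (.node 16097 (.node 16095 (.leaf 0xe0a0a0003) (.node 16096 (.leaf 0x0) (.leaf 0xb0b0a0003))) (.node 16098 (.leaf 0x0) (.node 16099 (.leaf 0x0) (.leaf 0xd0b0002))))))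

def argWS_1423 : Store := (.node 16077 argWS_1421 argWS_1422)

def argWS_1424 : Store := (.node 16111 (.node 16105 (.node 16102 (.node 16101 (.leaf 0x803000400050802040105000b) (.leaf 0x0)) (.node 16103 (.leaf 0xa0f0b0003) (.node 16104 (.leaf 0x0) (.leaf 0x7010207030005)))) (.node 16108 (.node 16106 (.leaf 0x0) (.node 16107 (.leaf 0xf0b0a0a0004) (.leaf 0x0))) (.node 16109 (.leaf 0x3eeb003ee7) (.node 16110 (.leaf 0x0) (.leaf 0xb0a0f0003))))) (.node 16116 (.node 16113 (.node 16112 (.leaf 0x0) (.leaf 0x60601010703060202000701000c)) (.node 16114 (.leaf 0x0) (.node 16115 (.leaf 0xa0001) (.leaf 0x20002080400000703040103000c)))) (.node 16119 (.node 16117 (.leaf 0x0) (.node 16118 (.leaf 0xd0b0002) (.leaf 0x0))) (.node 16120 (.leaf 0xb0a0a0003) (.node 16121 (.leaf 0xf0a0a0003) (.leaf 0x3ef8003ef7))))))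

def argWS_1425 : Store := (.node 16133 (.node 16127 (.node 16124 (.node 16123 (.leaf 0xf0b0a0a0004) (.leaf 0x0)) (.node 16125 (.leaf 0x9000601050002000703040103000d) (.node 16126 (.leaf 0x0) (.leaf 0xb0b0a0003)))) (.node 16130 (.node 16128 (.leaf 0x20608020401050007) (.node 16129 (.leaf 0x0) (.leaf 0xa0f0002))) (.node 16131 (.leaf 0x0) (.node 16132 (.leaf 0x40402090106000703040103000c) (.leaf 0x0))))) (.node 16139 (.node 16136 (.node 16134 (.leaf 0xb0f0a0a0004) (.node 16135 (.leaf 0x0) (.leaf 0xf0b0a0a0004))) (.node 16137 (.leaf 0x3f07003f06) (.node 16138 (.leaf 0x2000207030802040105000b) (.leaf 0x0)))) (.node 16142 (.node 16140 (.leaf 0xb0f0a0003) (.node 16141 (.leaf 0x0) (.leaf 0x602020000030703040103000b))) (.node 16143 (.leaf 0x0) (.node 16144 (.leaf 0xf0001) (.leaf 0x8000904020005))))))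

def argWS_1426 : Store := (.node 16122 argWS_1424 argWS_1425)

def argWS_1427 : Store := (.node 16100 argWS_1423 argWS_1426)

def argWS_1428 : Store := (.node 16156 (.node 16150 (.node 16147 (.node 16146 (.leaf 0x0) (.leaf 0xb0b0a0a0004)) (.node 16148 (.leaf 0x0) (.node 16149 (.leaf 0x60000000300000008) (.leaf 0x0)))) (.node 16153 (.node 16151 (.leaf 0x0) (.node 16152 (.leaf 0xd0b0002) (.leaf 0x3f17003f16))) (.node 16154 (.leaf 0xa0001) (.node 16155 (.leaf 0x0) (.leaf 0x604090206020802040105000b))))) (.node 16161 (.node 16158 (.node 16157 (.leaf 0x0) (.leaf 0xd0b0b0003)) (.node 16159 (.leaf 0xe0a0002) (.node 16160 (.leaf 0xd0b0b0003) (.leaf 0x3f1f)))) (.node 16164 (.node 16162 (.leaf 0xf0b0b0003) (.node 16163 (.leaf 0x0) (.leaf 0x605020604000703040103000b))) (.node 16165 (.leaf 0x0) (.node 16166 (.leaf 0xf0a0002) (.leaf 0xb0f0a0003))))))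

def argWS_1429 : Store := (.node 16178 (.node 16172 (.node 16169 (.node 16168 (.leaf 0x7000006030500040202000701000d) (.leaf 0x0)) (.node 16170 (.leaf 0xb0a0002) (.node 16171 (.leaf 0x0) (.leaf 0x1020003030604000703040103000d)))) (.node 16175 (.node 16173 (.leaf 0x0) (.node 16174 (.leaf 0xb0f0002) (.leaf 0x0))) (.node 16176 (.leaf 0x3f2e003f2a) (.node 16177 (.leaf 0xb0b0a0a0004) (.leaf 0x0))))) (.node 16184 (.node 16181 (.node 16179 (.leaf 0xe0a0a0003) (.node 16180 (.leaf 0x0) (.leaf 0x0))) (.node 16182 (.leaf 0x90300090806000802040105000c) (.node 16183 (.leaf 0x0) (.leaf 0x0)))) (.node 16187 (.node 16185 (.leaf 0xb0b0a0003) (.node 16186 (.leaf 0x3f38003f37) (.leaf 0x4020901060006))) (.node 16188 (.leaf 0x0) (.node 16189 (.leaf 0xb0b0a0003) (.leaf 0x0))))))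

def argWS_1430 : Store := (.node 16167 argWS_1428 argWS_1429)

def argWS_1431 : Store := (.node 16201 (.node 16195 (.node 16192 (.node 16191 (.leaf 0x7010904020005) (.leaf 0x0)) (.node 16193 (.leaf 0xb0f0a0003) (.node 16194 (.leaf 0x80004090000090802040105000c) (.leaf 0x0)))) (.node 16198 (.node 16196 (.leaf 0xf0a0002) (.node 16197 (.leaf 0x0) (.leaf 0x30000030306040007))) (.node 16199 (.leaf 0x0) (.node 16200 (.leaf 0xa0a0002) (.leaf 0x0))))) (.node 16207 (.node 16204 (.node 16202 (.leaf 0x90605020604000703040103000c) (.node 16203 (.leaf 0x0) (.leaf 0xf0b0002))) (.node 16205 (.leaf 0x0) (.node 16206 (.leaf 0x3f4c003f48) (.leaf 0x20002070209020007)))) (.node 16210 (.node 16208 (.leaf 0x0) (.node 16209 (.leaf 0xf0001) (.leaf 0x0))) (.node 16211 (.leaf 0x10201020901060202000701000c) (.node 16212 (.leaf 0x0) (.leaf 0xb0a0a0003))))))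

def argWS_1432 : Store := (.node 16224 (.node 16218 (.node 16215 (.node 16214 (.leaf 0xe0a0a0003) (.leaf 0x0)) (.node 16216 (.leaf 0xf0b0a0a0004) (.node 16217 (.leaf 0x2060102020900000008) (.leaf 0x0)))) (.node 16221 (.node 16219 (.leaf 0xe0a0a0003) (.node 16220 (.leaf 0x0) (.leaf 0x3f5b))) (.node 16222 (.leaf 0xf0b0a0a0004) (.node 16223 (.leaf 0x0) (.leaf 0xf0b0a0a0004))))) (.node 16230 (.node 16227 (.node 16225 (.leaf 0x0) (.node 16226 (.leaf 0x0) (.leaf 0xb0b0002))) (.node 16228 (.leaf 0x6020106060006) (.node 16229 (.leaf 0x0) (.leaf 0xa0a0002)))) (.node 16233 (.node 16231 (.leaf 0x0) (.node 16232 (.leaf 0xb0f0a0003) (.leaf 0x3f67003f66))) (.node 16234 (.leaf 0x90503090806000802040105000c) (.node 16235 (.leaf 0x0) (.leaf 0xf0b0a0003))))))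

def argWS_1433 : Store := (.node 16213 argWS_1431 argWS_1432)

def argWS_1434 : Store := (.node 16190 argWS_1430 argWS_1433)

def argWS_1435 : Store := (.node 16145 argWS_1427 argWS_1434)

def argWS_1436 : Store := (.node 16055 argWS_1420 argWS_1435)

def argWS_1437 : Store := (.node 16247 (.node 16241 (.node 16238 (.node 16237 (.leaf 0x0) (.leaf 0xb0a0002)) (.node 16239 (.leaf 0x0) (.node 16240 (.leaf 0x0) (.leaf 0xb0001)))) (.node 16244 (.node 16242 (.leaf 0x307000400050802040105000b) (.node 16243 (.leaf 0x0) (.leaf 0xb0a0002))) (.node 16245 (.leaf 0x0) (.node 16246 (.leaf 0xe0001) (.leaf 0x3f75003f74))))) (.node 16252 (.node 16249 (.node 16248 (.leaf 0x10502070209020202000701000c) (.leaf 0x0)) (.node 16250 (.leaf 0xb0001) (.node 16251 (.leaf 0x0) (.leaf 0x205020901060202000701000b)))) (.node 16255 (.node 16253 (.leaf 0x0) (.node 16254 (.leaf 0xa0a0002) (.leaf 0x103000002080400000703040103000e))) (.node 16256 (.leaf 0x0) (.node 16257 (.leaf 0x0) (.leaf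 0x9000000030000000703040103000d))))))

def argWS_1438 : Store := (.node 16269 (.node 16263 (.node 16260 (.node 16259 (.leaf 0x0) (.leaf 0xf0b0002)) (.node 16261 (.leaf 0x0) (.node 16262 (.leaf 0x3f84) (.leaf 0xd0b0b0003)))) (.node 16266 (.node 16264 (.leaf 0x0) (.node 16265 (.leaf 0x3050900090202000701000a) (.leaf 0x0))) (.node 16267 (.leaf 0xd0b0002) (.node 16268 (.leaf 0x1070202090000000703040103000d) (.leaf 0x0))))) (.node 16275 (.node 16272 (.node 16270 (.leaf 0xa0a0002) (.node 16271 (.leaf 0x0) (.leaf 0xf0001))) (.node 16273 (.leaf 0x3f8f003f8e) (.node 16274 (.leaf 0x900090806000802040105000c) (.leaf 0x0)))) (.node 16278 (.node 16276 (.leaf 0xe0a0002) (.node 16277 (.leaf 0x0) (.leaf 0xf0b0002))) (.node 16279 (.leaf 0x0) (.node 16280 (.leaf 0x0) (.leaf 0xf0b0b0a0a0005))))))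

def argWS_1439 : Store := (.node 16258 argWS_1437 argWS_1438)

def argWS_1440 : Store := (.node 16292 (.node 16286 (.node 16283 (.node 16282 (.leaf 0x7000908050202000701000a) (.leaf 0x0)) (.node 16284 (.leaf 0x0) (.node 16285 (.leaf 0x3f9b) (.leaf 0x702010908050202000701000b)))) (.node 16289 (.node 16287 (.leaf 0x0) (.node 16288 (.leaf 0xb0001) (.leaf 0x0))) (.node 16290 (.leaf 0xa0f0002) (.node 16291 (.leaf 0x0) (.leaf 0x0))))) (.node 16297 (.node 16294 (.node 16293 (.leaf 0x4020502000003010802040105000d) (.leaf 0x0)) (.node 16295 (.leaf 0xd0001) (.node 16296 (.leaf 0x0) (.leaf 0x6060408010202000701000a)))) (.node 16300 (.node 16298 (.leaf 0x0) (.node 16299 (.leaf 0xf0001) (.leaf 0x0))) (.node 16301 (.leaf 0x3fab) (.node 16302 (.leaf 0xe0001) (.leaf 0x0))))))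

def argWS_1441 : Store := (.node 16314 (.node 16308 (.node 16305 (.node 16304 (.leaf 0x0) (.leaf 0x60102010207030802040105000c)) (.node 16306 (.leaf 0x0) (.node 16307 (.leaf 0xe0d0002) (.leaf 0x0)))) (.node 16311 (.node 16309 (.leaf 0x304070308020401050009) (.node 16310 (.leaf 0x0) (.leaf 0xa0f0b0b0004))) (.node 16312 (.leaf 0x0) (.node 16313 (.leaf 0x102020002080400000703040103000e) (.leaf 0x0))))) (.node 16320 (.node 16317 (.node 16315 (.leaf 0xd0001) (.node 16316 (.leaf 0x0) (.leaf 0x3fbb003fb7))) (.node 16318 (.leaf 0xa0f0002) (.node 16319 (.leaf 0x0) (.leaf 0x6040000030306040802040105000d)))) (.node 16323 (.node 16321 (.leaf 0x0) (.node 16322 (.leaf 0xb0001) (.leaf 0x60402080400000703040103000c))) (.node 16324 (.leaf 0x0) (.node 16325 (.leaf 0xb0b0a0003) (.leaf 0x0))))))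

def argWS_1442 : Store := (.node 16303 argWS_1440 argWS_1441)

def argWS_1443 : Store := (.node 16281 argWS_1439 argWS_1442)

def argWS_1444 : Store := (.node 16337 (.node 16331 (.node 16328 (.node 16327 (.leaf 0x7040400050005) (.leaf 0x0)) (.node 16329 (.leaf 0xb0001) (.node 16330 (.leaf 0x0) (.leaf 0x3fc9)))) (.node 16334 (.node 16332 (.leaf 0x6010200000300000008) (.node 16333 (.leaf 0x0) (.leaf 0xf0b0a0a0004))) (.node 16335 (.leaf 0x0) (.node 16336 (.leaf 0x204010908050202000701000b) (.leaf 0x0))))) (.node 16342 (.node 16339 (.node 16338 (.leaf 0xa0001) (.leaf 0xf0b0b0a0a0005)) (.node 16340 (.leaf 0x90703010102000007) (.node 16341 (.leaf 0x0) (.leaf 0xf0001)))) (.node 16345 (.node 16343 (.leaf 0x0) (.node 16344 (.leaf 0xa0001) (.leaf 0x0))) (.node 16346 (.leaf 0x3fd8003fd6) (.node 16347 (.leaf 0xa0a0002) (.leaf 0x0))))))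

def argWS_1445 : Store := (.node 16359 (.node 16353 (.node 16350 (.node 16349 (.leaf 0x40300070009030802040105000c) (.leaf 0x0)) (.node 16351 (.leaf 0xf0001) (.node 16352 (.leaf 0x8000400090206020802040105000d) (.leaf 0x0)))) (.node 16356 (.node 16354 (.leaf 0xb0f0002) (.node 16355 (.leaf 0x0) (.leaf 0x102050206040006))) (.node 16357 (.leaf 0x0) (.node 16358 (.leaf 0xb0001) (.leaf 0x0))))) (.node 16365 (.node 16362 (.node 16360 (.leaf 0x8000407000902000701000a) (.node 16361 (.leaf 0x0) (.leaf 0xb0b0002))) (.node 16363 (.leaf 0x0) (.node 16364 (.leaf 0x3fea003fe6) (.leaf 0x80006010500020007)))) (.node 16368 (.node 16366 (.leaf 0x0) (.node 16367 (.leaf 0xa0001) (.leaf 0x0))) (.node 16369 (.leaf 0x6020106010500020202000701000d) (.node 16370 (.leaf 0x0) (.leaf 0xa0a0002))))))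

def argWS_1446 : Store := (.node 16348 argWS_1444 argWS_1445)

def argWS_1447 : Store := (.node 16382 (.node 16376 (.node 16373 (.node 16372 (.leaf 0xd0001) (.leaf 0xf0a0002)) (.node 16374 (.leaf 0x4000400000300000802040105000d) (.node 16375 (.leaf 0x0) (.leaf 0xa0f0b0003)))) (.node 16379 (.node 16377 (.leaf 0x0) (.node 16378 (.leaf 0x3ff8003ff4) (.leaf 0x800040003030604000703040103000e))) (.node 16380 (.leaf 0x0) (.node 16381 (.leaf 0xf0b0002) (.leaf 0x0))))) (.node 16387 (.node 16384 (.node 16383 (.leaf 0x4030007000902000701000a) (.leaf 0x0)) (.node 16385 (.leaf 0x80000090206020202000701000c) (.node 16386 (.leaf 0x0) (.leaf 0xd0b0b0003)))) (.node 16390 (.node 16388 (.leaf 0x0) (.node 16389 (.leaf 0xf0b0a0a0004) (.leaf 0x4004))) (.node 16391 (.leaf 0xf0b0b0a0004) (.node 16392 (.leaf 0x0) (.leaf 0xf0b0a0003))))))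

def argWS_1448 : Store := (.node 16404 (.node 16398 (.node 16395 (.node 16394 (.leaf 0x0) (.leaf 0x0)) (.node 16396 (.leaf 0x201060003) (.node 16397 (.leaf 0x0) (.leaf 0xb0b0a0a0004)))) (.node 16401 (.node 16399 (.leaf 0x0) (.node 16400 (.leaf 0x10201010703060007) (.leaf 0x0))) (.node 16402 (.leaf 0xe0a0002) (.node 16403 (.leaf 0x0) (.leaf 0xb0a0f0003))))) (.node 16410 (.node 16407 (.node 16405 (.leaf 0x4013004012) (.node 16406 (.leaf 0x40003090806000202000701000c) (.leaf 0x0))) (.node 16408 (.leaf 0xa0f0b0b0004) (.node 16409 (.leaf 0x0) (.leaf 0x4000900090802040105000b)))) (.node 16413 (.node 16411 (.leaf 0x0) (.node 16412 (.leaf 0xb0f0002) (.leaf 0x4030007000903000703040103000d))) (.node 16414 (.leaf 0x0) (.node 16415 (.leaf 0xb0b0002) (.leaf 0x0))))))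

def argWS_1449 : Store := (.node 16393 argWS_1447 argWS_1448)

def argWS_1450 : Store := (.node 16371 argWS_1446 argWS_1449)

def argWS_1451 : Store := (.node 16326 argWS_1443 argWS_1450)

def argWS_1452 : Store := (.node 16427 (.node 16421 (.node 16418 (.node 16417 (.leaf 0xb0a0f0003) (.leaf 0x6060107000903000703040103000d)) (.node 16419 (.leaf 0x0) (.node 16420 (.leaf 0xb0a0f0003) (.leaf 0x0)))) (.node 16424 (.node 16422 (.leaf 0x4024004020) (.node 16423 (.leaf 0xb0b0a0003) (.leaf 0x0))) (.node 16425 (.leaf 0x802000004080703040103000b) (.node 16426 (.leaf 0x0) (.leaf 0xa0f0b0b0004))))) (.node 16432 (.node 16429 (.node 16428 (.leaf 0x702000408010802040105000b) (.leaf 0x0)) (.node 16430 (.leaf 0xa0001) (.node 16431 (.leaf 0x0) (.leaf 0x1010900090802040105000a)))) (.node 16435 (.node 16433 (.leaf 0x0) (.node 16434 (.leaf 0xb0b0a0a0004) (.leaf 0x0))) (.node 16436 (.leaf 0xd0b0b0003) (.node 16437 (.leaf 0x4033004032) (.leaf 0x403030802020007010009))))))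

def argWS_1453 : Store := (.node 16449 (.node 16443 (.node 16440 (.node 16439 (.leaf 0x0) (.leaf 0xf0001)) (.node 16441 (.leaf 0x0) (.node 16442 (.leaf 0xf0a0a0003) (.leaf 0x0)))) (.node 16446 (.node 16444 (.leaf 0x0) (.node 16445 (.leaf 0xd0b0b0003) (.leaf 0x900000408010202000701000b))) (.node 16447 (.leaf 0x0) (.node 16448 (.leaf 0x0) (.leaf 0x200090000090202000701000c))))) (.node 16455 (.node 16452 (.node 16450 (.leaf 0x0) (.node 16451 (.leaf 0xa0001) (.leaf 0x0))) (.node 16453 (.leaf 0x404300403f) (.node 16454 (.leaf 0xb0b0002) (.leaf 0x0)))) (.node 16458 (.node 16456 (.leaf 0xb0f0a0a0004) (.node 16457 (.leaf 0x0) (.leaf 0x0))) (.node 16459 (.leaf 0xf0b0a0a0004) (.node 16460 (.leaf 0x304010703060202000701000b) (.leaf 0x0))))))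

def argWS_1454 : Store := (.node 16438 argWS_1452 argWS_1453)

def argWS_1455 : Store := (.node 16472 (.node 16466 (.node 16463 (.node 16462 (.leaf 0xb0f0002) (.leaf 0x0)) (.node 16464 (.leaf 0xf0b0b0a0a0005) (.node 16465 (.leaf 0x404f00404e) (.leaf 0xf0b0a0003)))) (.node 16469 (.node 16467 (.leaf 0x0) (.node 16468 (.leaf 0x90406010500020202000701000c) (.leaf 0x0))) (.node 16470 (.leaf 0xf0001) (.node 16471 (.leaf 0x1010901090005) (.leaf 0x0))))) (.node 16477 (.node 16474 (.node 16473 (.leaf 0xd0001) (.leaf 0x0)) (.node 16475 (.leaf 0x2010401050005) (.node 16476 (.leaf 0x0) (.leaf 0xf0b0a0a0004)))) (.node 16480 (.node 16478 (.leaf 0x0) (.node 16479 (.leaf 0x405d004059) (.leaf 0xf0b0b0a0004))) (.node 16481 (.leaf 0x0) (.node 16482 (.leaf 0x202000206030802040105000b) (.leaf 0x0))))))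

def argWS_1456 : Store := (.node 16494 (.node 16488 (.node 16485 (.node 16484 (.leaf 0xf0a0002) (.leaf 0x80200070206000007)) (.node 16486 (.leaf 0x0) (.node 16487 (.leaf 0xb0f0a0a0004) (.leaf 0x0)))) (.node 16491 (.node 16489 (.leaf 0x30403060207020703040103000c) (.node 16490 (.leaf 0x0) (.leaf 0xd0b0b0003))) (.node 16492 (.leaf 0x0) (.node 16493 (.leaf 0x903010904020202000701000b) (.leaf 0x0))))) (.node 16500 (.node 16497 (.node 16495 (.leaf 0xb0b0a0003) (.node 16496 (.leaf 0x0) (.leaf 0x406f00406b))) (.node 16498 (.leaf 0x606020702010006) (.node 16499 (.leaf 0x0) (.leaf 0xe0a0002)))) (.node 16503 (.node 16501 (.leaf 0x0) (.node 16502 (.leaf 0x4000009020602000703040103000d) (.leaf 0x0))) (.node 16504 (.leaf 0xb0a0002) (.node 16505 (.leaf 0xf0b0b0003) (.leaf 0xb0001))))))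

def argWS_1457 : Store := (.node 16483 argWS_1455 argWS_1456)

def argWS_1458 : Store := (.node 16461 argWS_1454 argWS_1457)

def argWS_1459 : Store := (.node 16517 (.node 16511 (.node 16508 (.node 16507 (.leaf 0xb0f0a0003) (.leaf 0x407a004079)) (.node 16509 (.leaf 0xa0a0002) (.node 16510 (.leaf 0x0) (.leaf 0x400020603000703040103000b)))) (.node 16514 (.node 16512 (.leaf 0x0) (.node 16513 (.leaf 0xf0b0b0a0a0005) (.leaf 0x107000903000703040103000b))) (.node 16515 (.leaf 0x0) (.node 16516 (.leaf 0xf0001) (.leaf 0x0))))) (.node 16522 (.node 16519 (.node 16518 (.leaf 0x701010703060202000701000b) (.leaf 0x0)) (.node 16520 (.leaf 0xd0b0002) (.node 16521 (.leaf 0x0) (.leaf 0x4088)))) (.node 16525 (.node 16523 (.leaf 0xe0a0a0003) (.node 16524 (.leaf 0x0) (.leaf 0x0))) (.node 16526 (.leaf 0xf0b0b0003) (.node 16527 (.leaf 0x70206000005) (.leaf 0x0))))))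

def argWS_1460 : Store := (.node 16539 (.node 16533 (.node 16530 (.node 16529 (.leaf 0xd0b0002) (.leaf 0x0)) (.node 16531 (.leaf 0x20103090806000802040105000c) (.node 16532 (.leaf 0x0) (.leaf 0xb0a0002)))) (.node 16536 (.node 16534 (.leaf 0x0) (.node 16535 (.leaf 0x1717004095) (.leaf 0xb0a0a0003))) (.node 16537 (.leaf 0x0) (.node 16538 (.leaf 0x107000009020602000703040103000e) (.leaf 0x0))))) (.node 16545 (.node 16542 (.node 16540 (.leaf 0xe0001) (.node 16541 (.leaf 0xd0b0002) (.leaf 0xb0a0f0003))) (.node 16543 (.leaf 0x70101090109000703040103000c) (.node 16544 (.leaf 0x0) (.leaf 0xb0b0a0003)))) (.node 16548 (.node 16546 (.leaf 0x0) (.node 16547 (.leaf 0x40a100409d) (.leaf 0xf0001))) (.node 16549 (.leaf 0x0) (.node 16550 (.leaf 0x700000301010200000703040103000e) (.leaf 0x0))))))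

def argWS_1461 : Store := (.node 16528 argWS_1459 argWS_1460)

def argWS_1462 : Store := (.node 16562 (.node 16556 (.node 16553 (.node 16552 (.leaf 0xe0001) (.leaf 0xb0f0002)) (.node 16554 (.leaf 0x6000904020802040105000a) (.node 16555 (.leaf 0x0) (.leaf 0xb0a0002)))) (.node 16559 (.node 16557 (.leaf 0x0) (.node 16558 (.leaf 0x40ac) (.leaf 0x9050106060005))) (.node 16560 (.leaf 0x0) (.node 16561 (.leaf 0xb0a0a0003) (.leaf 0x0))))) (.node 16568 (.node 16565 (.node 16563 (.leaf 0x3040300020804000008) (.node 16564 (.leaf 0x0) (.leaf 0xa0f0002))) (.node 16566 (.leaf 0xb0b0002) (.node 16567 (.leaf 0x800090806000006) (.leaf 0x0)))) (.node 16571 (.node 16569 (.leaf 0xa0001) (.node 16570 (.leaf 0x0) (.leaf 0xe0a0002))) (.node 16572 (.leaf 0x40ba0040b9) (.node 16573 (.leaf 0x3010102000202000701000c) (.leaf 0x0))))))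

def argWS_1463 : Store := (.node 16585 (.node 16579 (.node 16576 (.node 16575 (.leaf 0xa0f0002) (.leaf 0x0)) (.node 16577 (.leaf 0xf0b0a0a0004) (.node 16578 (.leaf 0x0) (.leaf 0x0)))) (.node 16582 (.node 16580 (.leaf 0xb0a0a0003) (.node 16581 (.leaf 0xb0a0f0003) (.leaf 0x301070306000703040103000b))) (.node 16583 (.leaf 0x0) (.node 16584 (.leaf 0xb0a0002) (.leaf 0x0))))) (.node 16591 (.node 16588 (.node 16586 (.leaf 0x40c80040c4) (.node 16587 (.leaf 0x2060105020202010008) (.leaf 0x0))) (.node 16589 (.leaf 0xb0001) (.node 16590 (.leaf 0x0) (.leaf 0xb0f0a0003)))) (.node 16594 (.node 16592 (.leaf 0x0) (.node 16593 (.leaf 0x0) (.leaf 0xd0b0002))) (.node 16595 (.leaf 0x403040400050006) (.node 16596 (.leaf 0x0) (.leaf 0xb0b0002))))))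

def argWS_1464 : Store := (.node 16574 argWS_1462 argWS_1463)

def argWS_1465 : Store := (.node 16551 argWS_1461 argWS_1464)

def argWS_1466 : Store := (.node 16506 argWS_1458 argWS_1465)

def argWS_1467 : Store := (.node 16416 argWS_1451 argWS_1466)

def argWS_1468 : Store := (.node 16236 argWS_1436 argWS_1467)

def argWS_1469 : Store := (.node 16608 (.node 16602 (.node 16599 (.node 16598 (.leaf 0x0) (.leaf 0x15530040d5)) (.node 16600 (.leaf 0x900090806000202000701000c) (.node 16601 (.leaf 0x0) (.leaf 0xf0b0002)))) (.node 16605 (.node 16603 (.leaf 0x0) (.node 16604 (.leaf 0xa0001) (.leaf 0x0))) (.node 16606 (.leaf 0x0) (.node 16607 (.leaf 0x403000601050002000703040103000e) (.leaf 0x0))))) (.node 16613 (.node 16610 (.node 16609 (.leaf 0xa0a0002) (.leaf 0x0)) (.node 16611 (.leaf 0x9000901090005) (.node 16612 (.leaf 0x0) (.leaf 0xe0001)))) (.node 16616 (.node 16614 (.leaf 0x0) (.node 16615 (.leaf 0x40e50040e1) (.leaf 0x502010901090202000701000b))) (.node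 16617 (.leaf 0x0) (.node 16618 (.leaf 0xa0f0002) (.leaf 0x0))))))

def argWS_1470 : Store := (.node 16630 (.node 16624 (.node 16621 (.node 16620 (.leaf 0x101060602020007010009) (.leaf 0x0)) (.node 16622 (.leaf 0xf0b0b0a0a0005) (.node 16623 (.leaf 0x103060207020703040103000b) (.leaf 0x0)))) (.node 16627 (.node 16625 (.leaf 0x0) (.node 16626 (.leaf 0x5000300000202000701000a) (.leaf 0x0))) (.node 16628 (.leaf 0xb0f0a0a0004) (.node 16629 (.leaf 0x0) (.leaf 0xf0a0002))))) (.node 16636 (.node 16633 (.node 16631 (.leaf 0x40f50040f4) (.node 16632 (.leaf 0x0) (.leaf 0x70402000003010802040105000c))) (.node 16634 (.leaf 0x0) (.node 16635 (.leaf 0xd0b0002) (.leaf 0x5000900090005)))) (.node 16639 (.node 16637 (.leaf 0x0) (.node 16638 (.leaf 0xe0a0002) (.leaf 0x0))) (.node 16640 (.leaf 0x904000408010006) (.node 16641 (.leaf 0x0) (.leaf 0xf0a0002))))))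

def argWS_1471 : Store := (.node 16619 argWS_1469 argWS_1470)

def argWS_1472 : Store := (.node 16653 (.node 16647 (.node 16644 (.node 16643 (.leaf 0x0) (.leaf 0xf0b0b0a0a0005)) (.node 16645 (.leaf 0x4103004102) (.node 16646 (.leaf 0x9000206030006) (.leaf 0x0)))) (.node 16650 (.node 16648 (.leaf 0xd0b0b0003) (.node 16649 (.leaf 0x0) (.leaf 0x90603010102000802040105000c))) (.node 16651 (.leaf 0x0) (.node 16652 (.leaf 0xb0001) (.leaf 0x3040106020702010802040105000d))))) (.node 16658 (.node 16655 (.node 16654 (.leaf 0x0) (.leaf 0xa0f0b0b0004)) (.node 16656 (.leaf 0x0) (.node 16657 (.leaf 0x410f) (.leaf 0x701070206000006)))) (.node 16661 (.node 16659 (.leaf 0x0) (.node 16660 (.leaf 0xf0a0002) (.leaf 0x0))) (.node 16662 (.leaf 0x102010900090802040105000b) (.node 16663 (.leaf 0x0) (.leaf 0xe0d0002))))))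

def argWS_1473 : Store := (.node 16675 (.node 16669 (.node 16666 (.node 16665 (.leaf 0xb0b0a0a0004) (.leaf 0x606020702010007)) (.node 16667 (.leaf 0x0) (.node 16668 (.leaf 0x0) (.leaf 0x411b)))) (.node 16672 (.node 16670 (.leaf 0x3040107000902000701000a) (.node 16671 (.leaf 0x0) (.leaf 0xa0a0002))) (.node 16673 (.leaf 0x0) (.node 16674 (.leaf 0xa0f0002) (.leaf 0x0))))) (.node 16681 (.node 16678 (.node 16676 (.leaf 0x0) (.node 16677 (.leaf 0x20601010703060202000701000c) (.leaf 0x0))) (.node 16679 (.leaf 0xb0f0002) (.node 16680 (.leaf 0x0) (.leaf 0xa0f0002)))) (.node 16684 (.node 16682 (.leaf 0x4128) (.node 16683 (.leaf 0x50101090402000703040103000c) (.leaf 0x0))) (.node 16685 (.leaf 0xf0b0a0a0004) (.node 16686 (.leaf 0x0) (.leaf 0xe0001))))))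

def argWS_1474 : Store := (.node 16664 argWS_1472 argWS_1473)

def argWS_1475 : Store := (.node 16642 argWS_1471 argWS_1474)

def argWS_1476 : Store := (.node 16698 (.node 16692 (.node 16689 (.node 16688 (.leaf 0x0) (.leaf 0x0)) (.node 16690 (.leaf 0x60005020604000703040103000d) (.node 16691 (.leaf 0x0) (.leaf 0xf0b0a0003)))) (.node 16695 (.node 16693 (.leaf 0x0) (.node 16694 (.leaf 0xf0a0a0003) (.leaf 0x4135))) (.node 16696 (.leaf 0xa0f0002) (.node 16697 (.leaf 0x0) (.leaf 0x20903010904020007))))) (.node 16703 (.node 16700 (.node 16699 (.leaf 0x0) (.leaf 0xd0b0b0003)) (.node 16701 (.leaf 0x20202070209020007) (.node 16702 (.leaf 0x0) (.leaf 0xf0b0a0a0004)))) (.node 16706 (.node 16704 (.leaf 0x0) (.node 16705 (.leaf 0x60202080400000703040103000c) (.leaf 0x0))) (.node 16707 (.leaf 0xf0b0002) (.node 16708 (.leaf 0x0) (.leaf 0x907000900090802040105000b))))))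

def argWS_1477 : Store := (.node 16720 (.node 16714 (.node 16711 (.node 16710 (.leaf 0x0) (.leaf 0xa0f0b0b0004)) (.node 16712 (.leaf 0x0) (.node 16713 (.leaf 0x4147004143) (.leaf 0xf0b0a0a0004)))) (.node 16717 (.node 16715 (.leaf 0x0) (.node 16716 (.leaf 0x9060308000703040103000a) (.leaf 0x0))) (.node 16718 (.leaf 0xb0b0a0a0004) (.node 16719 (.leaf 0x20407020902000703040103000c) (.leaf 0x0))))) (.node 16726 (.node 16723 (.node 16721 (.leaf 0xe0a0002) (.node 16722 (.leaf 0x0) (.leaf 0x9000206030005))) (.node 16724 (.leaf 0x0) (.node 16725 (.leaf 0xd0001) (.leaf 0x0)))) (.node 16729 (.node 16727 (.leaf 0x4155) (.node 16728 (.leaf 0x7000000030306040802040105000d) (.leaf 0x0))) (.node 16730 (.leaf 0xe0a0a0003) (.node 16731 (.leaf 0x0) (.leaf 0x70500090206020202000701000c))))))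

def argWS_1478 : Store := (.node 16709 argWS_1476 argWS_1477)

def argWS_1479 : Store := (.node 16743 (.node 16737 (.node 16734 (.node 16733 (.leaf 0x0) (.leaf 0xe0a0002)) (.node 16735 (.leaf 0x90603010102000802040105000c) (.node 16736 (.leaf 0x0) (.leaf 0xf0b0002)))) (.node 16740 (.node 16738 (.leaf 0x0) (.node 16739 (.leaf 0x3040305020604000703040103000d) (.leaf 0x0))) (.node 16741 (.leaf 0xf0b0b0a0004) (.node 16742 (.leaf 0x0) (.leaf 0xb0b0a0a0004))))) (.node 16748 (.node 16745 (.node 16744 (.leaf 0x4166004165) (.leaf 0x70000090000090007)) (.node 16746 (.leaf 0x0) (.node 16747 (.leaf 0xd0b0002) (.leaf 0x0)))) (.node 16751 (.node 16749 (.leaf 0x900000408010202000701000b) (.node 16750 (.leaf 0x0) (.leaf 0xd0001))) (.node 16752 (.leaf 0xb0b0a0003) (.node 16753 (.leaf 0x2020002000003010202000701000d) (.leaf 0x0))))))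

def argWS_1480 : Store := (.node 16765 (.node 16759 (.node 16756 (.node 16755 (.leaf 0xd0b0002) (.leaf 0x0)) (.node 16757 (.leaf 0x4173002ce3) (.node 16758 (.leaf 0xe0a0002) (.leaf 0x0)))) (.node 16762 (.node 16760 (.leaf 0xb0a0a0003) (.node 16761 (.leaf 0x0) (.leaf 0x0))) (.node 16763 (.leaf 0x9010901090005) (.node 16764 (.leaf 0x0) (.leaf 0xb0b0002))))) (.node 16771 (.node 16768 (.node 16766 (.leaf 0x0) (.node 16767 (.leaf 0xf0b0b0a0004) (.leaf 0x20105020604000703040103000c))) (.node 16769 (.leaf 0x0) (.node 16770 (.leaf 0xa0f0b0003) (.leaf 0x0)))) (.node 16774 (.node 16772 (.leaf 0x418200417e) (.node 16773 (.leaf 0xb0a0a0003) (.leaf 0x0))) (.node 16775 (.leaf 0x2090106060202000701000a) (.node 16776 (.leaf 0x0) (.leaf 0xa0001))))))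

def argWS_1481 : Store := (.node 16754 argWS_1479 argWS_1480)

def argWS_1482 : Store := (.node 16732 argWS_1478 argWS_1481)

def argWS_1483 : Store := (.node 16687 argWS_1475 argWS_1482)

def argWS_1484 : Store := (.node 16788 (.node 16782 (.node 16779 (.node 16778 (.leaf 0x30105020202010802040105000c) (.leaf 0x0)) (.node 16780 (.leaf 0xb0a0f0003) (.node 16781 (.leaf 0x0) (.leaf 0xb0f0a0a0004)))) (.node 16785 (.node 16783 (.leaf 0x418d) (.node 16784 (.leaf 0xa0f0b0b0004) (.leaf 0x0))) (.node 16786 (.leaf 0x2040005000703040103000b) (.node 16787 (.leaf 0x0) (.leaf 0xe0d0002))))) (.node 16793 (.node 16790 (.node 16789 (.leaf 0xa0001) (.leaf 0x9060002080400000703040103000d)) (.node 16791 (.leaf 0x0) (.node 16792 (.leaf 0xb0a0f0003) (.leaf 0x0)))) (.node 16796 (.node 16794 (.leaf 0xb0f0a0003) (.node 16795 (.leaf 0xb0001) (.leaf 0x419a004199))) (.node 16797 (.leaf 0xb0a0a0003) (.node 16798 (.leaf 0x0) (.leaf 0x600020804000802040105000c))))))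

def argWS_1485 : Store := (.node 16810 (.node 16804 (.node 16801 (.node 16800 (.leaf 0x0) (.leaf 0xb0a0002)) (.node 16802 (.leaf 0x70305090806000202000701000c) (.node 16803 (.leaf 0x0) (.leaf 0xb0b0a0a0004)))) (.node 16807 (.node 16805 (.leaf 0x0) (.node 16806 (.leaf 0xb0b0a0a0004) (.leaf 0x41a50041a4))) (.node 16808 (.leaf 0xb0b0002) (.node 16809 (.leaf 0x0) (.leaf 0xf0b0b0003))))) (.node 16816 (.node 16813 (.node 16811 (.leaf 0x0) (.node 16812 (.leaf 0x0) (.leaf 0x209010601050002000703040103000e))) (.node 16814 (.leaf 0x0) (.node 16815 (.leaf 0xb0a0a0003) (.leaf 0x0)))) (.node 16819 (.node 16817 (.leaf 0x206010908050802040105000b) (.node 16818 (.leaf 0x0) (.leaf 0xa0f0b0003))) (.node 16820 (.leaf 0x0) (.node 16821 (.leaf 0x60602080400000703040103000c) (.leaf 0x0))))))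

def argWS_1486 : Store := (.node 16799 argWS_1484 argWS_1485)

def argWS_1487 : Store := (.node 16833 (.node 16827 (.node 16824 (.node 16823 (.leaf 0x0) (.leaf 0x41b60041b3)) (.node 16825 (.leaf 0x20200000300000202000701000c) (.node 16826 (.leaf 0x0) (.leaf 0xb0f0a0a0004)))) (.node 16830 (.node 16828 (.leaf 0x0) (.node 16829 (.leaf 0x20502020900000007) (.leaf 0x0))) (.node 16831 (.leaf 0xb0b0a0003) (.node 16832 (.leaf 0xa0001) (.leaf 0x80004020901060007))))) (.node 16838 (.node 16835 (.node 16834 (.leaf 0x0) (.leaf 0x0)) (.node 16836 (.leaf 0xf0a0002) (.node 16837 (.leaf 0x41c30041c2) (.leaf 0xb0b0a0003)))) (.node 16841 (.node 16839 (.leaf 0x0) (.node 16840 (.leaf 0x0) (.leaf 0x90409080600000703040103000c))) (.node 16842 (.leaf 0x0) (.node 16843 (.leaf 0xf0b0b0003) (.leaf 0x0))))))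

def argWS_1488 : Store := (.node 16855 (.node 16849 (.node 16846 (.node 16845 (.leaf 0xa0a0002) (.leaf 0x41cc)) (.node 16847 (.leaf 0x600090806000802040105000b) (.node 16848 (.leaf 0x0) (.leaf 0xf0b0b0a0004)))) (.node 16852 (.node 16850 (.leaf 0x0) (.node 16851 (.leaf 0x702010908050202000701000b) (.leaf 0x0))) (.node 16853 (.leaf 0xb0001) (.node 16854 (.leaf 0xf0b0a0003) (.leaf 0x304030900090802040105000b))))) (.node 16861 (.node 16858 (.node 16856 (.leaf 0x0) (.node 16857 (.leaf 0xf0a0002) (.leaf 0x0))) (.node 16859 (.leaf 0xb0a0f0003) (.node 16860 (.leaf 0x41da0041d9) (.leaf 0x503010703060202000701000b)))) (.node 16864 (.node 16862 (.leaf 0x0) (.node 16863 (.leaf 0xb0b0a0003) (.leaf 0x0))) (.node 16865 (.leaf 0xd0b0002) (.node 16866 (.leaf 0x0) (.leaf 0x0))))))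

def argWS_1489 : Store := (.node 16844 argWS_1487 argWS_1488)

def argWS_1490 : Store := (.node 16822 argWS_1486 argWS_1489)

def argWS_1491 : Store := (.node 16878 (.node 16872 (.node 16869 (.node 16868 (.leaf 0xb0001) (.leaf 0x40205070209020007)) (.node 16870 (.leaf 0x0) (.node 16871 (.leaf 0xf0b0a0003) (.leaf 0x0)))) (.node 16875 (.node 16873 (.leaf 0x41e7) (.node 16874 (.leaf 0x80002000003010802040105000c) (.leaf 0x0))) (.node 16876 (.leaf 0xa0f0b0003) (.node 16877 (.leaf 0x0) (.leaf 0xb0a0002))))) (.node 16883 (.node 16880 (.node 16879 (.leaf 0x0) (.leaf 0x0)) (.node 16881 (.leaf 0xb0f0002) (.node 16882 (.leaf 0x905030003) (.leaf 0x0)))) (.node 16886 (.node 16884 (.leaf 0xf0b0b0003) (.node 16885 (.leaf 0x0) (.leaf 0x41f4))) (.node 16887 (.leaf 0x20601050002000703040103000d) (.node 16888 (.leaf 0x0) (.leaf 0xb0b0a0003))))))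

def argWS_1492 : Store := (.node 16900 (.node 16894 (.node 16891 (.node 16890 (.leaf 0x0) (.leaf 0xb0f0a0a0004)) (.node 16892 (.leaf 0x0) (.node 16893 (.leaf 0x0) (.leaf 0x102000007030401030009)))) (.node 16897 (.node 16895 (.leaf 0x0) (.node 16896 (.leaf 0xe0d0002) (.leaf 0x0))) (.node 16898 (.leaf 0x20705020604000703040103000c) (.node 16899 (.leaf 0x0) (.leaf 0xb0f0002))))) (.node 16906 (.node 16903 (.node 16901 (.leaf 0x0) (.node 16902 (.leaf 0x4204) (.leaf 0x309010608020401050009))) (.node 16904 (.leaf 0x0) (.node 16905 (.leaf 0xb0f0002) (.leaf 0x0)))) (.node 16909 (.node 16907 (.leaf 0x9000908020401050008) (.node 16908 (.leaf 0x0) (.leaf 0xf0001))) (.node 16910 (.leaf 0x7030608020401050009) (.node 16911 (.leaf 0x0) (.leaf 0xf0b0b0a0004))))))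

def argWS_1493 : Store := (.node 16889 argWS_1491 argWS_1492)

def argWS_1494 : Store := (.node 16923 (.node 16917 (.node 16914 (.node 16913 (.leaf 0x0) (.leaf 0x10502040005000703040103000c)) (.node 16915 (.leaf 0x0) (.node 16916 (.leaf 0xd0b0002) (.leaf 0x0)))) (.node 16920 (.node 16918 (.leaf 0x8000904020802040105000a) (.node 16919 (.leaf 0x0) (.leaf 0xf0a0002))) (.node 16921 (.leaf 0x0) (.node 16922 (.leaf 0x4218004214) (.leaf 0x4030401050005))))) (.node 16929 (.node 16926 (.node 16924 (.leaf 0x0) (.node 16925 (.leaf 0xa0f0b0003) (.leaf 0x0))) (.node 16927 (.leaf 0x307070306000703040103000b) (.node 16928 (.leaf 0x0) (.leaf 0xa0001)))) (.node 16932 (.node 16930 (.leaf 0x704090806000202000701000b) (.node 16931 (.leaf 0x0) (.leaf 0x0))) (.node 16933 (.leaf 0x4223001815) (.node 16934 (.leaf 0xb0b0a0003) (.leaf 0x0))))))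

def argWS_1495 : Store := (.node 16946 (.node 16940 (.node 16937 (.node 16936 (.leaf 0xa0a0002) (.leaf 0x0)) (.node 16938 (.leaf 0x0) (.node 16939 (.leaf 0x501090000090006) (.leaf 0x0)))) (.node 16943 (.node 16941 (.leaf 0xf0b0a0003) (.node 16942 (.leaf 0x0) (.leaf 0xa0001))) (.node 16944 (.leaf 0x6040908050202000701000a) (.node 16945 (.leaf 0x0) (.leaf 0xb0f0a0003))))) (.node 16952 (.node 16949 (.node 16947 (.leaf 0x0) (.node 16948 (.leaf 0x423200422e) (.leaf 0xf0b0b0a0a0005))) (.node 16950 (.leaf 0x0) (.node 16951 (.leaf 0x0) (.leaf 0xe0a0a0003)))) (.node 16955 (.node 16953 (.leaf 0x80002020900000802040105000d) (.node 16954 (.leaf 0x0) (.leaf 0xf0a0002))) (.node 16956 (.leaf 0x0) (.node 16957 (.leaf 0x2000005020604000703040103000d) (.leaf 0x0))))))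

def argWS_1496 : Store := (.node 16935 argWS_1494 argWS_1495)

def argWS_1497 : Store := (.node 16912 argWS_1493 argWS_1496)

def argWS_1498 : Store := (.node 16867 argWS_1490 argWS_1497)

def argWS_1499 : Store := (.node 16777 argWS_1483 argWS_1498)

def argWS_1500 : Store := (.node 16969 (.node 16963 (.node 16960 (.node 16959 (.leaf 0xb0f0a0003) (.leaf 0x0)) (.node 16961 (.leaf 0x423f00423b) (.node 16962 (.leaf 0xf0b0002) (.leaf 0x0)))) (.node 16966 (.node 16964 (.leaf 0xf0a0002) (.node 16965 (.leaf 0x0) (.leaf 0x0))) (.node 16967 (.leaf 0x9010601050002000703040103000d) (.node 16968 (.leaf 0x0) (.leaf 0xe0a0002))))) (.node 16974 (.node 16971 (.node 16970 (.leaf 0x0) (.leaf 0x307000603050004000703040103000e)) (.node 16972 (.leaf 0x0) (.node 16973 (.leaf 0xd0001) (.leaf 0x0)))) (.node 16977 (.node 16975 (.leaf 0x424d) (.node 16976 (.leaf 0xb0f0a0003) (.leaf 0x0))) (.node 16978 (.leaf 0x20207020007010007) (.node 16979 (.leaf 0x0) (.leaf 0xf0b0b0003))))))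

def argWS_1501 : Store := (.node 16991 (.node 16985 (.node 16982 (.node 16981 (.leaf 0x3000901090005) (.leaf 0x0)) (.node 16983 (.leaf 0xf0b0b0003) (.node 16984 (.leaf 0x0) (.leaf 0xe0001)))) (.node 16988 (.node 16986 (.leaf 0x4258) (.node 16987 (.leaf 0x80101070009030007) (.leaf 0x0))) (.node 16989 (.leaf 0xb0001) (.node 16990 (.leaf 0x0) (.leaf 0x10700000300000202000701000c))))) (.node 16997 (.node 16994 (.node 16992 (.leaf 0x0) (.node 16993 (.leaf 0xb0f0a0003) (.leaf 0xa0f0b0b0004))) (.node 16995 (.leaf 0x906090806000202000701000b) (.node 16996 (.leaf 0x0) (.leaf 0xb0f0a0003)))) (.node 17000 (.node 16998 (.leaf 0x0) (.node 16999 (.leaf 0x103010901090006) (.leaf 0x0))) (.node 17001 (.leaf 0xf0b0b0003) (.node 17002 (.leaf 0x0) (.leaf 0x4269004265))))))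

def argWS_1502 : Store := (.node 16980 argWS_1500 argWS_1501)

def argWS_1503 : Store := (.node 17014 (.node 17008 (.node 17005 (.node 17004 (.leaf 0x0) (.leaf 0xf0b0a0003)) (.node 17006 (.leaf 0x0) (.node 17007 (.leaf 0x0) (.leaf 0x305070206000802040105000b)))) (.node 17011 (.node 17009 (.leaf 0x0) (.node 17010 (.leaf 0xd0001) (.leaf 0x0))) (.node 17012 (.leaf 0x70000000300000007) (.node 17013 (.leaf 0x0) (.leaf 0x0))))) (.node 17019 (.node 17016 (.node 17015 (.leaf 0x4275) (.leaf 0xe0001)) (.node 17017 (.leaf 0x0) (.node 17018 (.leaf 0x6000002020900000802040105000d) (.leaf 0x0)))) (.node 17022 (.node 17020 (.leaf 0xb0001) (.node 17021 (.leaf 0x60400060207020703040103000c) (.leaf 0x0))) (.node 17023 (.leaf 0xf0b0a0003) (.node 17024 (.leaf 0x0) (.leaf 0xf0b0a0003))))))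

def argWS_1504 : Store := (.node 17036 (.node 17030 (.node 17027 (.node 17026 (.leaf 0xb0f0a0003) (.leaf 0x4281004280)) (.node 17028 (.leaf 0xd0b0b0003) (.node 17029 (.leaf 0x0) (.leaf 0xf0a0a0003)))) (.node 17033 (.node 17031 (.leaf 0x0) (.node 17032 (.leaf 0x0) (.leaf 0x1040007020902000703040103000d))) (.node 17034 (.leaf 0x0) (.node 17035 (.leaf 0xb0001) (.leaf 0x0))))) (.node 17042 (.node 17039 (.node 17037 (.leaf 0x40300050206040202000701000c) (.node 17038 (.leaf 0x0) (.leaf 0xd0b0002))) (.node 17040 (.leaf 0x0) (.node 17041 (.leaf 0xb0001) (.leaf 0x429000428f)))) (.node 17045 (.node 17043 (.leaf 0xf0a0a0003) (.node 17044 (.leaf 0x0) (.leaf 0x1060308020401050008))) (.node 17046 (.leaf 0x0) (.node 17047 (.leaf 0xd0b0002) (.leaf 0xb0b0a0003))))))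

def argWS_1505 : Store := (.node 17025 argWS_1503 argWS_1504)

def argWS_1506 : Store := (.node 17003 argWS_1502 argWS_1505)

def argWS_1507 : Store := (.node 17059 (.node 17053 (.node 17050 (.node 17049 (.leaf 0x0) (.leaf 0xd0001)) (.node 17051 (.leaf 0x9010403010102000802040105000d) (.node 17052 (.leaf 0x0) (.leaf 0x0)))) (.node 17056 (.node 17054 (.leaf 0x202090202020007010009) (.node 17055 (.leaf 0x0) (.leaf 0xf0b0a0a0004))) (.node 17057 (.leaf 0x0) (.node 17058 (.leaf 0x42a000429c) (.leaf 0xf0b0a0a0004))))) (.node 17064 (.node 17061 (.node 17060 (.leaf 0x0) (.leaf 0x20601070206000802040105000c)) (.node 17062 (.leaf 0x0) (.node 17063 (.leaf 0xf0b0a0003) (.leaf 0x40900090004)))) (.node 17067 (.node 17065 (.leaf 0x0) (.node 17066 (.leaf 0x0) (.leaf 0x103050004000703040103000b))) (.node 17068 (.leaf 0x0) (.node 17069 (.leaf 0xf0b0a0a0004) (.leaf 0x0))))))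

def argWS_1508 : Store := (.node 17081 (.node 17075 (.node 17072 (.node 17071 (.leaf 0x42ad) (.leaf 0xa0f0b0003)) (.node 17073 (.leaf 0x0) (.node 17074 (.leaf 0x1020206020007010008) (.leaf 0x0)))) (.node 17078 (.node 17076 (.leaf 0xb0b0a0a0004) (.node 17077 (.leaf 0x103010703060202000701000b) (.leaf 0x0))) (.node 17079 (.leaf 0xe0a0002) (.node 17080 (.leaf 0x0) (.leaf 0xf0a0002))))) (.node 17087 (.node 17084 (.node 17082 (.leaf 0x42b8) (.node 17083 (.leaf 0x40406010500020202000701000c) (.leaf 0x0))) (.node 17085 (.leaf 0xb0a0a0003) (.node 17086 (.leaf 0x0) (.leaf 0xb0a0002)))) (.node 17090 (.node 17088 (.leaf 0x0) (.node 17089 (.leaf 0x0) (.leaf 0xa0001))) (.node 17091 (.leaf 0x304030002080400000703040103000e) (.node 17092 (.leaf 0x0) (.leaf 0xa0f0b0b0004))))))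

def argWS_1509 : Store := (.node 17070 argWS_1507 argWS_1508)

def argWS_1510 : Store := (.node 17104 (.node 17098 (.node 17095 (.node 17094 (.leaf 0x0) (.leaf 0xb0a0f0003)) (.node 17096 (.leaf 0x42c60042c5) (.node 17097 (.leaf 0x20606030500040802040105000c) (.leaf 0x0)))) (.node 17101 (.node 17099 (.leaf 0xe0d0002) (.node 17100 (.leaf 0x0) (.leaf 0xe0d0002))) (.node 17102 (.leaf 0x0) (.node 17103 (.leaf 0x0) (.leaf 0x3030901090005))))) (.node 17109 (.node 17106 (.node 17105 (.leaf 0x0) (.leaf 0xb0b0002)) (.node 17107 (.leaf 0x0) (.node 17108 (.leaf 0x42d2001aff) (.leaf 0x20006030500040008)))) (.node 17112 (.node 17110 (.leaf 0x0) (.node 17111 (.leaf 0xf0a0002) (.leaf 0x0))) (.node 17113 (.leaf 0x2000901090202000701000a) (.node 17114 (.leaf 0x0) (.leaf 0xb0f0002))))))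

def argWS_1511 : Store := (.node 17126 (.node 17120 (.node 17117 (.node 17116 (.leaf 0xf0a0a0003) (.leaf 0xb0f0002)) (.node 17118 (.leaf 0x4010206030802040105000a) (.node 17119 (.leaf 0x0) (.leaf 0xf0b0002)))) (.node 17123 (.node 17121 (.leaf 0x0) (.node 17122 (.leaf 0x42e00042dc) (.leaf 0x6060106030500040202000701000d))) (.node 17124 (.leaf 0x0) (.node 17125 (.leaf 0xb0f0a0a0004) (.leaf 0x0))))) (.node 17132 (.node 17129 (.node 17127 (.leaf 0xe0a0a0003) (.node 17128 (.leaf 0x0) (.leaf 0x0))) (.node 17130 (.leaf 0xf0a0002) (.node 17131 (.leaf 0x0) (.leaf 0x40103010102000202000701000c)))) (.node 17135 (.node 17133 (.leaf 0x0) (.node 17134 (.leaf 0xe0d0002) (.leaf 0x0))) (.node 17136 (.leaf 0x80004000408010007) (.node 17137 (.leaf 0x0) (.leaf 0x0))))))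

def argWS_1512 : Store := (.node 17115 argWS_1510 argWS_1511)

def argWS_1513 : Store := (.node 17093 argWS_1509 argWS_1512)

def argWS_1514 : Store := (.node 17048 argWS_1506 argWS_1513)

def argWS_1515 : Store := (.node 17149 (.node 17143 (.node 17140 (.node 17139 (.leaf 0x42f10042ee) (.leaf 0xb0a0f0003)) (.node 17141 (.leaf 0x0) (.node 17142 (.leaf 0x20506030500040007) (.leaf 0x0)))) (.node 17146 (.node 17144 (.leaf 0xe0a0a0003) (.node 17145 (.leaf 0xf0b0a0a0004) (.leaf 0xa0001))) (.node 17147 (.leaf 0xa0a0002) (.node 17148 (.leaf 0x42fa0042f9) (.leaf 0x109030004080703040103000b))))) (.node 17154 (.node 17151 (.node 17150 (.leaf 0x0) (.leaf 0xb0f0a0a0004)) (.node 17152 (.leaf 0x0) (.node 17153 (.leaf 0x704010703060006) (.leaf 0x0)))) (.node 17157 (.node 17155 (.leaf 0xa0001) (.node 17156 (.leaf 0x20200020106060007) (.leaf 0x0))) (.node 17158 (.leaf 0xe0a0002) (.node 17159 (.leaf 0x0) (.leaf 0x4306))))))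

def argWS_1516 : Store := (.node 17171 (.node 17165 (.node 17162 (.node 17161 (.leaf 0x2020102020007010008) (.leaf 0x0)) (.node 17163 (.leaf 0xb0f0002) (.node 17164 (.leaf 0x0) (.leaf 0xb0b0a0a0004)))) (.node 17168 (.node 17166 (.leaf 0x0) (.node 17167 (.leaf 0x0) (.leaf 0xb0001))) (.node 17169 (.leaf 0x2090303010102000202000701000d) (.node 17170 (.leaf 0x0) (.leaf 0xb0f0a0a0004))))) (.node 17177 (.node 17174 (.node 17172 (.leaf 0x0) (.node 17173 (.leaf 0x204030004080703040103000b) (.leaf 0x0))) (.node 17175 (.leaf 0xe0001) (.node 17176 (.leaf 0x0) (.leaf 0x4317004313)))) (.node 17180 (.node 17178 (.leaf 0xe0d0002) (.node 17179 (.leaf 0x0) (.leaf 0xf0a0002))) (.node 17181 (.leaf 0x0) (.node 17182 (.leaf 0x0) (.leaf 0x3040103080202000701000a))))))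

def argWS_1517 : Store := (.node 17160 argWS_1515 argWS_1516)

def argWS_1518 : Store := (.node 17194 (.node 17188 (.node 17185 (.node 17184 (.leaf 0x0) (.leaf 0xf0b0b0a0004)) (.node 17186 (.leaf 0x0) (.node 17187 (.leaf 0x900090009000703040103000b) (.leaf 0x0)))) (.node 17191 (.node 17189 (.leaf 0xb0b0a0003) (.node 17190 (.leaf 0x0) (.leaf 0x3a7c004325))) (.node 17192 (.leaf 0xd0b0b0003) (.node 17193 (.leaf 0x0) (.leaf 0x0))))) (.node 17199 (.node 17196 (.node 17195 (.leaf 0x301090000090006) (.leaf 0x0)) (.node 17197 (.leaf 0xb0a0a0003) (.node 17198 (.leaf 0x0) (.leaf 0x407030401030006)))) (.node 17202 (.node 17200 (.leaf 0x0) (.node 17201 (.leaf 0xf0a0002) (.leaf 0x0))) (.node 17203 (.leaf 0xb0a0002) (.node 17204 (.leaf 0x4332004331) (.leaf 0x6000703060202000701000a))))))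

def argWS_1519 : Store := (.node 17216 (.node 17210 (.node 17207 (.node 17206 (.leaf 0x0) (.leaf 0xb0a0002)) (.node 17208 (.leaf 0x0) (.node 17209 (.leaf 0x5030500090206020202000701000d) (.leaf 0x0)))) (.node 17213 (.node 17211 (.leaf 0xa0f0002) (.node 17212 (.leaf 0x9010601050002000703040103000d) (.leaf 0x0))) (.node 17214 (.leaf 0xa0a0002) (.node 17215 (.leaf 0x0) (.leaf 0xf0b0a0a0004))))) (.node 17222 (.node 17219 (.node 17217 (.leaf 0x433f000bf7) (.node 17218 (.leaf 0x4030006010500020008) (.leaf 0x0))) (.node 17220 (.leaf 0xe0d0002) (.node 17221 (.leaf 0x0) (.leaf 0x403090806000006)))) (.node 17225 (.node 17223 (.leaf 0x0) (.node 17224 (.leaf 0xb0b0a0003) (.leaf 0xd0b0002))) (.node 17226 (.leaf 0x303010102000202000701000b) (.node 17227 (.leaf 0x0) (.leaf 0xa0f0b0003))))))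

def argWS_1520 : Store := (.node 17205 argWS_1518 argWS_1519)

def argWS_1521 : Store := (.node 17183 argWS_1517 argWS_1520)

def argWS_1522 : Store := (.node 17239 (.node 17233 (.node 17230 (.node 17229 (.leaf 0x0) (.leaf 0x205020007030401030009)) (.node 17231 (.leaf 0x0) (.node 17232 (.leaf 0xb0a0a0003) (.leaf 0x0)))) (.node 17236 (.node 17234 (.leaf 0x435000434c) (.node 17235 (.leaf 0xa0f0002) (.leaf 0x0))) (.node 17237 (.leaf 0xe0a0002) (.node 17238 (.leaf 0x0) (.leaf 0x0))))) (.node 17244 (.node 17241 (.node 17240 (.leaf 0x40300090806000202000701000c) (.leaf 0x0)) (.node 17242 (.leaf 0xb0a0a0003) (.node 17243 (.leaf 0x0) (.leaf 0xa0f0002)))) (.node 17247 (.node 17245 (.leaf 0x30406020702010007) (.node 17246 (.leaf 0x0) (.leaf 0xf0b0a0a0004))) (.node 17248 (.leaf 0x0) (.node 17249 (.leaf 0x435f00435b) (.leaf 0xa0f0002))))))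

def argWS_1523 : Store := (.node 17261 (.node 17255 (.node 17252 (.node 17251 (.leaf 0x0) (.leaf 0xf0b0b0003)) (.node 17253 (.leaf 0x0) (.node 17254 (.leaf 0x0) (.leaf 0xd0b0b0003)))) (.node 17258 (.node 17256 (.leaf 0x9070006010500020802040105000d) (.node 17257 (.leaf 0x0) (.leaf 0xf0a0a0003))) (.node 17259 (.leaf 0x0) (.node 17260 (.leaf 0xb0a0a0003) (.leaf 0x436b00436a))))) (.node 17267 (.node 17264 (.node 17262 (.leaf 0x602070206000202000701000b) (.node 17263 (.leaf 0x0) (.leaf 0xe0001))) (.node 17265 (.leaf 0x0) (.node 17266 (.leaf 0xf0b0b0003) (.leaf 0x0)))) (.node 17270 (.node 17268 (.leaf 0x0) (.node 17269 (.leaf 0x300090206020802040105000c) (.leaf 0x0))) (.node 17271 (.leaf 0xb0f0002) (.node 17272 (.leaf 0x0) (.leaf 0x5020005020202010802040105000d))))))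

def argWS_1524 : Store := (.node 17250 argWS_1522 argWS_1523)

def argWS_1525 : Store := (.node 17284 (.node 17278 (.node 17275 (.node 17274 (.leaf 0x0) (.leaf 0xb0001)) (.node 17276 (.leaf 0x0) (.node 17277 (.leaf 0x437b00175c) (.leaf 0x1040000000300000802040105000d)))) (.node 17281 (.node 17279 (.leaf 0x0) (.node 17280 (.leaf 0xa0f0002) (.leaf 0x0))) (.node 17282 (.leaf 0x30402000003010202000701000c) (.node 17283 (.leaf 0x0) (.leaf 0xd0b0002))))) (.node 17290 (.node 17287 (.node 17285 (.leaf 0x2000006020702010008) (.node 17286 (.leaf 0x0) (.leaf 0xb0a0a0003))) (.node 17288 (.leaf 0x0) (.node 17289 (.leaf 0x606010207020007010009) (.leaf 0x0)))) (.node 17293 (.node 17291 (.leaf 0xb0a0f0003) (.node 17292 (.leaf 0x0) (.leaf 0x438b001193))) (.node 17294 (.leaf 0x0) (.node 17295 (.leaf 0xf0b0a0a0004) (.leaf 0x0))))))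

def argWS_1526 : Store := (.node 17307 (.node 17301 (.node 17298 (.node 17297 (.leaf 0x20003010102000202000701000d) (.leaf 0x0)) (.node 17299 (.leaf 0xe0a0002) (.node 17300 (.leaf 0xd0b0b0003) (.leaf 0xf0b0b0a0a0005)))) (.node 17304 (.node 17302 (.leaf 0x4394) (.node 17303 (.leaf 0x209000009000703040103000b) (.leaf 0x0))) (.node 17305 (.leaf 0xe0a0a0003) (.node 17306 (.leaf 0x0) (.leaf 0x20903070206000802040105000c))))) (.node 17313 (.node 17310 (.node 17308 (.leaf 0x0) (.node 17309 (.leaf 0x1010908050202000701000a) (.leaf 0x0))) (.node 17311 (.leaf 0xb0001) (.node 17312 (.leaf 0x0) (.leaf 0x1030400050802040105000a)))) (.node 17316 (.node 17314 (.leaf 0x0) (.node 17315 (.leaf 0xe0d0002) (.leaf 0x0))) (.node 17317 (.leaf 0x43a3) (.node 17318 (.leaf 0x502050206040202000701000b) (.leaf 0x0))))))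

def argWS_1527 : Store := (.node 17296 argWS_1525 argWS_1526)

def argWS_1528 : Store := (.node 17273 argWS_1524 argWS_1527)

def argWS_1529 : Store := (.node 17228 argWS_1521 argWS_1528)

def argWS_1530 : Store := (.node 17138 argWS_1514 argWS_1529)

def argWS_1531 : Store := (.node 16958 argWS_1499 argWS_1530)

def argWS_1532 : Store := (.node 16597 argWS_1468 argWS_1531)

def argWS_1533 : Store := (.node 15875 argWS_1405 argWS_1532)

def argWS_1534 : Store := (.node 14432 argWS_1278 argWS_1533)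

def argWS_1535 : Store := (.node 17330 (.node 17324 (.node 17321 (.node 17320 (.leaf 0xf0b0b0a0a0005) (.leaf 0x0)) (.node 17322 (.leaf 0xa0a0002) (.node 17323 (.leaf 0x0) (.leaf 0x0)))) (.node 17327 (.node 17325 (.leaf 0x6040102000003010802040105000d) (.node 17326 (.leaf 0x0) (.leaf 0xa0f0b0b0004))) (.node 17328 (.leaf 0x0) (.node 17329 (.leaf 0x6020106020702010008) (.leaf 0x0))))) (.node 17335 (.node 17332 (.node 17331 (.leaf 0xb0b0a0003) (.leaf 0x0)) (.node 17333 (.leaf 0x43b3) (.node 17334 (.leaf 0x60501090009000703040103000c) (.leaf 0x0)))) (.node 17338 (.node 17336 (.leaf 0xd0b0002) (.node 17337 (.leaf 0x0) (.leaf 0xb0f0002))) (.node 17339 (.leaf 0x0) (.node 17340 (.leaf 0x0) (.leaf 0xb0f0a0a0004))))))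

def argWS_1536 : Store := (.node 17352 (.node 17346 (.node 17343 (.node 17342 (.leaf 0x1020101090402000703040103000d) (.leaf 0x0)) (.node 17344 (.leaf 0xb0f0a0a0004) (.node 17345 (.leaf 0x0) (.leaf 0xf0a0002)))) (.node 17349 (.node 17347 (.leaf 0x43c10043c0) (.node 17348 (.leaf 0x30103010102000007) (.leaf 0x0))) (.node 17350 (.leaf 0xe0001) (.node 17351 (.leaf 0x0) (.leaf 0x20901060202000701000b))))) (.node 17358 (.node 17355 (.node 17353 (.leaf 0x0) (.node 17354 (.leaf 0xf0b0b0a0004) (.leaf 0x7090806000802040105000b))) (.node 17356 (.leaf 0x0) (.node 17357 (.leaf 0xb0f0a0003) (.leaf 0x0)))) (.node 17361 (.node 17359 (.leaf 0x902060202020007010009) (.node 17360 (.leaf 0x0) (.leaf 0xd0b0b0003))) (.node 17362 (.leaf 0x0) (.node 17363 (.leaf 0x43d1) (.leaf 0x40300060207020703040103000c))))))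

def argWS_1537 : Store := (.node 17341 argWS_1535 argWS_1536)

def argWS_1538 : Store := (.node 17375 (.node 17369 (.node 17366 (.node 17365 (.leaf 0x0) (.leaf 0xf0b0b0a0004)) (.node 17367 (.leaf 0x0) (.node 17368 (.leaf 0x303010102000802040105000c) (.leaf 0x0)))) (.node 17372 (.node 17370 (.leaf 0xb0001) (.node 17371 (.leaf 0x10700090206020007) (.leaf 0x0))) (.node 17373 (.leaf 0xe0d0002) (.node 17374 (.leaf 0x0) (.leaf 0x2893))))) (.node 17380 (.node 17377 (.node 17376 (.leaf 0x200060207020703040103000c) (.leaf 0x0)) (.node 17378 (.leaf 0xb0b0a0a0004) (.node 17379 (.leaf 0x0) (.leaf 0xb0f0a0003)))) (.node 17383 (.node 17381 (.leaf 0x0) (.node 17382 (.leaf 0x0) (.leaf 0x10700020000030703040103000c))) (.node 17384 (.leaf 0x0) (.node 17385 (.leaf 0xf0b0b0a0004) (.leaf 0x0))))))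

def argWS_1539 : Store := (.node 17397 (.node 17391 (.node 17388 (.node 17387 (.leaf 0xa0f0b0003) (.leaf 0x7010703060202000701000a)) (.node 17389 (.leaf 0x0) (.node 17390 (.leaf 0xf0b0002) (.leaf 0x0)))) (.node 17394 (.node 17392 (.leaf 0x43ee0043ea) (.node 17393 (.leaf 0xb0b0002) (.leaf 0x0))) (.node 17395 (.leaf 0xe0a0a0003) (.node 17396 (.leaf 0x0) (.leaf 0x0))))) (.node 17403 (.node 17400 (.node 17398 (.leaf 0x704020901060802040105000b) (.node 17399 (.leaf 0x0) (.leaf 0xd0b0b0003))) (.node 17401 (.leaf 0x0) (.node 17402 (.leaf 0xf0b0b0a0004) (.leaf 0xb0f0a0003)))) (.node 17406 (.node 17404 (.leaf 0x43fa0043f9) (.node 17405 (.leaf 0x40002020900000007) (.leaf 0x0))) (.node 17407 (.leaf 0xb0b0a0003) (.node 17408 (.leaf 0x0) (.leaf 0x60301070009030802040105000c))))))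

def argWS_1540 : Store := (.node 17386 argWS_1538 argWS_1539)

def argWS_1541 : Store := (.node 17364 argWS_1537 argWS_1540)

def argWS_1542 : Store := (.node 17420 (.node 17414 (.node 17411 (.node 17410 (.leaf 0x0) (.leaf 0xf0a0002)) (.node 17412 (.leaf 0xf0b0a0a0004) (.node 17413 (.leaf 0xb0f0002) (.leaf 0x4404004403)))) (.node 17417 (.node 17415 (.leaf 0x901090003) (.node 17416 (.leaf 0x0) (.leaf 0xb0b0002))) (.node 17418 (.leaf 0x0) (.node 17419 (.leaf 0x90000000300000007) (.leaf 0x0))))) (.node 17425 (.node 17422 (.node 17421 (.leaf 0xe0d0002) (.leaf 0x80300020106060802040105000c)) (.node 17423 (.leaf 0x0) (.node 17424 (.leaf 0x0) (.leaf 0x440f00184d)))) (.node 17428 (.node 17426 (.leaf 0xd0b0002) (.node 17427 (.leaf 0x0) (.leaf 0x7070206000006))) (.node 17429 (.leaf 0x0) (.node 17430 (.leaf 0xa0f0b0b0004) (.leaf 0xb0f0a0003))))))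

def argWS_1543 : Store := (.node 17442 (.node 17436 (.node 17433 (.node 17432 (.leaf 0xa0f0b0b0004) (.leaf 0x304030400050802040105000b)) (.node 17434 (.leaf 0x0) (.node 17435 (.leaf 0xf0b0b0a0004) (.leaf 0x0)))) (.node 17439 (.node 17437 (.leaf 0xf0a0002) (.node 17438 (.leaf 0x441c00441b) (.leaf 0xa0001))) (.node 17440 (.leaf 0x0) (.node 17441 (.leaf 0xe0a0002) (.leaf 0x0))))) (.node 17448 (.node 17445 (.node 17443 (.leaf 0x0) (.node 17444 (.leaf 0xf0b0a0003) (.leaf 0x1040601050002000703040103000d))) (.node 17446 (.leaf 0x0) (.node 17447 (.leaf 0xb0f0a0003) (.leaf 0x0)))) (.node 17451 (.node 17449 (.leaf 0x8020002020007010008) (.node 17450 (.leaf 0x0) (.leaf 0xf0a0002))) (.node 17452 (.leaf 0x0) (.node 17453 (.leaf 0x442b004427) (.leaf 0x206020106060006))))))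

def argWS_1544 : Store := (.node 17431 argWS_1542 argWS_1543)

def argWS_1545 : Store := (.node 17465 (.node 17459 (.node 17456 (.node 17455 (.leaf 0x0) (.leaf 0xe0a0002)) (.node 17457 (.leaf 0x0) (.node 17458 (.leaf 0x20006020702010007) (.leaf 0x0)))) (.node 17462 (.node 17460 (.leaf 0xb0a0a0003) (.node 17461 (.leaf 0xe0a0a0003) (.leaf 0xb0b0a0a0004))) (.node 17463 (.leaf 0xb0b0a0a0004) (.node 17464 (.leaf 0x4436004435) (.leaf 0xe0a0002))))) (.node 17470 (.node 17467 (.node 17466 (.leaf 0x0) (.leaf 0x204020900000006)) (.node 17468 (.leaf 0x0) (.node 17469 (.leaf 0xf0b0002) (.leaf 0xe0a0a0003)))) (.node 17473 (.node 17471 (.leaf 0x9050106060802040105000a) (.node 17472 (.leaf 0x0) (.leaf 0xf0b0b0a0004))) (.node 17474 (.leaf 0x0) (.node 17475 (.leaf 0x902090206020006) (.leaf 0x0))))))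

def argWS_1546 : Store := (.node 17487 (.node 17481 (.node 17478 (.node 17477 (.leaf 0x0) (.leaf 0x4444004441)) (.node 17479 (.leaf 0x10202020901060007) (.node 17480 (.leaf 0x0) (.leaf 0xb0f0a0003)))) (.node 17484 (.node 17482 (.leaf 0x0) (.node 17483 (.leaf 0xa0a0002) (.leaf 0x0))) (.node 17485 (.leaf 0x0) (.node 17486 (.leaf 0xb0f0002) (.leaf 0x4030802020007010008))))) (.node 17493 (.node 17490 (.node 17488 (.leaf 0x0) (.node 17489 (.leaf 0xf0a0002) (.leaf 0x0))) (.node 17491 (.leaf 0x4451) (.node 17492 (.leaf 0x20700020804000007) (.leaf 0x0)))) (.node 17496 (.node 17494 (.leaf 0xf0b0a0a0004) (.node 17495 (.leaf 0x0) (.leaf 0x0))) (.node 17497 (.leaf 0x104010904020006) (.node 17498 (.leaf 0x0) (.leaf 0x0))))))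

def argWS_1547 : Store := (.node 17476 argWS_1545 argWS_1546)

def argWS_1548 : Store := (.node 17454 argWS_1544 argWS_1547)

def argWS_1549 : Store := (.node 17409 argWS_1541 argWS_1548)

def argWS_1550 : Store := (.node 17510 (.node 17504 (.node 17501 (.node 17500 (.leaf 0x500000901090006) (.leaf 0x0)) (.node 17502 (.leaf 0xf0a0a0003) (.node 17503 (.leaf 0x0) (.leaf 0xd0001)))) (.node 17507 (.node 17505 (.leaf 0x445f00445e) (.node 17506 (.leaf 0xf0001) (.leaf 0x0))) (.node 17508 (.leaf 0x907030003) (.node 17509 (.leaf 0x0) (.leaf 0xa0001))))) (.node 17515 (.node 17512 (.node 17511 (.leaf 0x7010207030802040105000a) (.leaf 0x0)) (.node 17513 (.leaf 0x0) (.node 17514 (.leaf 0x0) (.leaf 0x605010908050006)))) (.node 17518 (.node 17516 (.leaf 0x0) (.node 17517 (.leaf 0xe0a0002) (.leaf 0x0))) (.node 17519 (.leaf 0x446d004469) (.node 17520 (.leaf 0xb0a0f0003) (.leaf 0x0))))))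

def argWS_1551 : Store := (.node 17532 (.node 17526 (.node 17523 (.node 17522 (.leaf 0xb0f0a0a0004) (.leaf 0x0)) (.node 17524 (.leaf 0x0) (.node 17525 (.leaf 0xb0a0f0003) (.leaf 0x800000003030604000703040103000e)))) (.node 17529 (.node 17527 (.leaf 0x0) (.node 17528 (.leaf 0xf0b0a0003) (.leaf 0x0))) (.node 17530 (.leaf 0x4478) (.node 17531 (.leaf 0xe0a0a0003) (.leaf 0x0))))) (.node 17538 (.node 17535 (.node 17533 (.leaf 0xb0a0a0003) (.node 17534 (.leaf 0x0) (.leaf 0x0))) (.node 17536 (.leaf 0x30503010102000007) (.node 17537 (.leaf 0x0) (.leaf 0xa0a0002)))) (.node 17541 (.node 17539 (.leaf 0x0) (.node 17540 (.leaf 0xf0b0a0a0004) (.leaf 0x7050206040202000701000a))) (.node 17542 (.leaf 0x0) (.node 17543 (.leaf 0xa0f0b0b0004) (.leaf 0x0))))))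

def argWS_1552 : Store := (.node 17521 argWS_1550 argWS_1551)

def argWS_1553 : Store := (.node 17555 (.node 17549 (.node 17546 (.node 17545 (.leaf 0x4487004483) (.leaf 0x103000900090006)) (.node 17547 (.leaf 0x0) (.node 17548 (.leaf 0xa0001) (.leaf 0x0)))) (.node 17552 (.node 17550 (.leaf 0xd0b0002) (.node 17551 (.leaf 0x0) (.leaf 0x0))) (.node 17553 (.leaf 0xb0f0a0003) (.node 17554 (.leaf 0x12c4) (.leaf 0x90307000903000703040103000c))))) (.node 17560 (.node 17557 (.node 17556 (.leaf 0x0) (.leaf 0xb0a0f0003)) (.node 17558 (.leaf 0x0) (.node 17559 (.leaf 0x60102010900090202000701000c) (.leaf 0x0)))) (.node 17563 (.node 17561 (.leaf 0xb0f0a0a0004) (.node 17562 (.leaf 0xf0b0a0a0004) (.leaf 0x50200000300000802040105000c))) (.node 17564 (.leaf 0x0) (.node 17565 (.leaf 0xd0b0b0003) (.leaf 0x0))))))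

def argWS_1554 : Store := (.node 17577 (.node 17571 (.node 17568 (.node 17567 (.leaf 0x204010908050802040105000b) (.leaf 0x0)) (.node 17569 (.leaf 0xd0b0002) (.node 17570 (.leaf 0x0) (.leaf 0x44a100449d)))) (.node 17574 (.node 17572 (.leaf 0x80908050202000701000a) (.node 17573 (.leaf 0x0) (.leaf 0xa0001))) (.node 17575 (.leaf 0x0) (.node 17576 (.leaf 0xb0f0a0003) (.leaf 0x0))))) (.node 17583 (.node 17580 (.node 17578 (.leaf 0x0) (.node 17579 (.leaf 0x4040004080703040103000a) (.leaf 0x0))) (.node 17581 (.leaf 0xf0b0b0a0004) (.node 17582 (.leaf 0x0) (.leaf 0xf0001)))) (.node 17586 (.node 17584 (.leaf 0x44ae) (.node 17585 (.leaf 0x80005020202010008) (.leaf 0x0))) (.node 17587 (.leaf 0xe0a0a0003) (.node 17588 (.leaf 0x0) (.leaf 0x6000300000202000701000a))))))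

def argWS_1555 : Store := (.node 17566 argWS_1553 argWS_1554)

def argWS_1556 : Store := (.node 17544 argWS_1552 argWS_1555)

def argWS_1557 : Store := (.node 17600 (.node 17594 (.node 17591 (.node 17590 (.leaf 0x0) (.leaf 0xb0a0002)) (.node 17592 (.leaf 0x604000002080400000703040103000e) (.node 17593 (.leaf 0x0) (.leaf 0xb0b0002)))) (.node 17597 (.node 17595 (.leaf 0x0) (.node 17596 (.leaf 0x44ba001410) (.leaf 0xb0f0002))) (.node 17598 (.leaf 0x0) (.node 17599 (.leaf 0x7000400050802040105000a) (.leaf 0x0))))) (.node 17605 (.node 17602 (.node 17601 (.leaf 0xe0a0002) (.leaf 0xd0b0b0003)) (.node 17603 (.leaf 0x0) (.node 17604 (.leaf 0x900020804000802040105000b) (.leaf 0x0)))) (.node 17608 (.node 17606 (.leaf 0x0) (.node 17607 (.leaf 0x702050206040006) (.leaf 0x0))) (.node 17609 (.leaf 0xb0f0a0003) (.node 17610 (.leaf 0x0) (.leaf 0x44c9))))))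

def argWS_1558 : Store := (.node 17622 (.node 17616 (.node 17613 (.node 17612 (.leaf 0x30402020900000007) (.leaf 0x0)) (.node 17614 (.leaf 0xf0b0002) (.node 17615 (.leaf 0x0) (.leaf 0x20002000003010007)))) (.node 17619 (.node 17617 (.leaf 0x0) (.node 17618 (.leaf 0xf0a0a0003) (.leaf 0x2060101070306000703040103000d))) (.node 17620 (.leaf 0x0) (.node 17621 (.leaf 0xb0f0a0a0004) (.leaf 0x0))))) (.node 17628 (.node 17625 (.node 17623 (.leaf 0x2000000030306040802040105000d) (.node 17624 (.leaf 0x0) (.leaf 0xf0b0a0003))) (.node 17626 (.leaf 0x0) (.node 17627 (.leaf 0x205070209020802040105000b) (.leaf 0x0)))) (.node 17631 (.node 17629 (.leaf 0xb0b0a0a0004) (.node 17630 (.leaf 0x0) (.leaf 0x44dd0044d9))) (.node 17632 (.leaf 0x606010308000703040103000b) (.node 17633 (.leaf 0x0) (.leaf 0xb0a0f0003))))))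

def argWS_1559 : Store := (.node 17611 argWS_1557 argWS_1558)

def argWS_1560 : Store := (.node 17645 (.node 17639 (.node 17636 (.node 17635 (.leaf 0x0) (.leaf 0x80002)) (.node 17637 (.leaf 0x0) (.node 17638 (.leaf 0xb0a0f0003) (.leaf 0x30400030000000703040103000c)))) (.node 17642 (.node 17640 (.leaf 0x0) (.node 17641 (.leaf 0xf0b0a0a0004) (.leaf 0x0))) (.node 17643 (.leaf 0x6000508020401050008) (.node 17644 (.leaf 0x0) (.leaf 0xf0b0b0a0a0005))))) (.node 17650 (.node 17647 (.node 17646 (.leaf 0x0) (.leaf 0x60401010703060007)) (.node 17648 (.leaf 0x0) (.node 17649 (.leaf 0xa0f0b0b0004) (.leaf 0x0)))) (.node 17653 (.node 17651 (.leaf 0x44f10044ed) (.node 17652 (.leaf 0xb0a0a0003) (.leaf 0x0))) (.node 17654 (.leaf 0xa0f0b0003) (.node 17655 (.leaf 0x0) (.leaf 0x0))))))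

def argWS_1561 : Store := (.node 17667 (.node 17661 (.node 17658 (.node 17657 (.leaf 0x40004010703060202000701000c) (.leaf 0x0)) (.node 17659 (.leaf 0xf0b0b0a0004) (.node 17660 (.leaf 0x0) (.leaf 0xa0f0b0b0004)))) (.node 17664 (.node 17662 (.leaf 0x2cdb0044fc) (.node 17663 (.leaf 0x50305090009000703040103000c) (.leaf 0x0))) (.node 17665 (.leaf 0xb0b0002) (.node 17666 (.leaf 0x0) (.leaf 0x2040300000300000202000701000d))))) (.node 17673 (.node 17670 (.node 17668 (.leaf 0x0) (.node 17669 (.leaf 0xf0b0b0a0004) (.leaf 0xb0a0002))) (.node 17671 (.leaf 0xb0f0002) (.node 17672 (.leaf 0x307070209020006) (.leaf 0x0)))) (.node 17676 (.node 17674 (.leaf 0xe0001) (.node 17675 (.leaf 0x0) (.leaf 0x450a004506))) (.node 17677 (.leaf 0x206010500020007) (.node 17678 (.leaf 0x0) (.leaf 0xd0b0002))))))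

def argWS_1562 : Store := (.node 17656 argWS_1560 argWS_1561)

def argWS_1563 : Store := (.node 17634 argWS_1559 argWS_1562)

def argWS_1564 : Store := (.node 17589 argWS_1556 argWS_1563)

def argWS_1565 : Store := (.node 17499 argWS_1549 argWS_1564)

def argWS_1566 : Store := (.node 17690 (.node 17684 (.node 17681 (.node 17680 (.leaf 0x0) (.leaf 0xb0f0002)) (.node 17682 (.leaf 0x0) (.node 17683 (.leaf 0x0) (.leaf 0x40304020901060202000701000c)))) (.node 17687 (.node 17685 (.leaf 0x0) (.node 17686 (.leaf 0xf0a0002) (.leaf 0x0))) (.node 17688 (.leaf 0x40206020007010007) (.node 17689 (.leaf 0x0) (.leaf 0xa0f0002))))) (.node 17695 (.node 17692 (.node 17691 (.leaf 0x0) (.leaf 0x451a)) (.node 17693 (.leaf 0xd0001) (.node 17694 (.leaf 0x0) (.leaf 0x6000000030306040202000701000d)))) (.node 17698 (.node 17696 (.leaf 0x0) (.node 17697 (.leaf 0xb0a0a0003) (.leaf 0x8000904020005))) (.node 17699 (.leaf 0x0) (.node 17700 (.leaf 0xb0a0a0003) (.leaf 0x0))))))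

def argWS_1567 : Store := (.node 17712 (.node 17706 (.node 17703 (.node 17702 (.leaf 0x60601060207020703040103000c) (.leaf 0x0)) (.node 17704 (.leaf 0xe0d0002) (.node 17705 (.leaf 0x0) (.leaf 0x4528)))) (.node 17709 (.node 17707 (.leaf 0x1010308000703040103000a) (.node 17708 (.leaf 0x0) (.leaf 0xb0f0a0a0004))) (.node 17710 (.leaf 0x0) (.node 17711 (.leaf 0xf0b0b0003) (.leaf 0x0))))) (.node 17718 (.node 17715 (.node 17713 (.leaf 0x0) (.node 17714 (.leaf 0x7020106060005) (.leaf 0x0))) (.node 17716 (.leaf 0xb0a0a0003) (.node 17717 (.leaf 0x0) (.leaf 0x4020106060005)))) (.node 17721 (.node 17719 (.leaf 0x0) (.node 17720 (.leaf 0x0) (.leaf 0x7070206000802040105000a))) (.node 17722 (.leaf 0x0) (.node 17723 (.leaf 0xa0001) (.leaf 0x0))))))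

def argWS_1568 : Store := (.node 17701 argWS_1566 argWS_1567)

def argWS_1569 : Store := (.node 17735 (.node 17729 (.node 17726 (.node 17725 (.leaf 0x453b004537) (.leaf 0x60000030306040202000701000d)) (.node 17727 (.leaf 0x0) (.node 17728 (.leaf 0xa0a0002) (.leaf 0x0)))) (.node 17732 (.node 17730 (.leaf 0xb0b0a0a0004) (.node 17731 (.leaf 0x0) (.leaf 0x400070308020401050009))) (.node 17733 (.leaf 0x0) (.node 17734 (.leaf 0x0) (.leaf 0x80300050206040802040105000c))))) (.node 17740 (.node 17737 (.node 17736 (.leaf 0x0) (.leaf 0xa0f0002)) (.node 17738 (.leaf 0x0) (.node 17739 (.leaf 0x905030002080400000703040103000e) (.leaf 0x0)))) (.node 17743 (.node 17741 (.leaf 0xb0a0a0003) (.node 17742 (.leaf 0x0) (.leaf 0x454d004549))) (.node 17744 (.leaf 0xd0b0002) (.node 17745 (.leaf 0x0) (.leaf 0x600020901060802040105000c))))))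

def argWS_1570 : Store := (.node 17757 (.node 17751 (.node 17748 (.node 17747 (.leaf 0x0) (.leaf 0xf0a0002)) (.node 17749 (.leaf 0x70206020007010008) (.node 17750 (.leaf 0x0) (.leaf 0xf0b0002)))) (.node 17754 (.node 17752 (.leaf 0x0) (.node 17753 (.leaf 0x507030004) (.leaf 0x0))) (.node 17755 (.leaf 0xa0f0002) (.node 17756 (.leaf 0x0) (.leaf 0x6000408010202000701000b))))) (.node 17763 (.node 17760 (.node 17758 (.leaf 0x0) (.node 17759 (.leaf 0xb0b0a0a0004) (.leaf 0x0))) (.node 17761 (.leaf 0x455f00455b) (.node 17762 (.leaf 0xa0001) (.leaf 0x0)))) (.node 17766 (.node 17764 (.leaf 0x50301090402000703040103000c) (.node 17765 (.leaf 0x0) (.leaf 0xf0b0a0003))) (.node 17767 (.leaf 0xd0001) (.node 17768 (.leaf 0xb0a0002) (.leaf 0x200020003))))))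

def argWS_1571 : Store := (.node 17746 argWS_1569 argWS_1570)

def argWS_1572 : Store := (.node 17724 argWS_1568 argWS_1571)

def argWS_1573 : Store := (.node 17780 (.node 17774 (.node 17771 (.node 17770 (.leaf 0x0) (.leaf 0xa0001)) (.node 17772 (.leaf 0x0) (.node 17773 (.leaf 0x456b004567) (.leaf 0xb0a0f0003)))) (.node 17777 (.node 17775 (.leaf 0x0) (.node 17776 (.leaf 0xa0f0002) (.leaf 0x0))) (.node 17778 (.leaf 0x0) (.node 17779 (.leaf 0xa0f0002) (.leaf 0xf0b0b0003))))) (.node 17785 (.node 17782 (.node 17781 (.leaf 0xa0a0002) (.leaf 0x4574004573)) (.node 17783 (.leaf 0xb0f0002) (.node 17784 (.leaf 0x0) (.leaf 0x502090000090006)))) (.node 17788 (.node 17786 (.leaf 0x0) (.node 17787 (.leaf 0xb0f0002) (.leaf 0xa0f0b0003))) (.node 17789 (.leaf 0x5050206040202000701000a) (.node 17790 (.leaf 0x0) (.leaf 0xa0001))))))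

def argWS_1574 : Store := (.node 17802 (.node 17796 (.node 17793 (.node 17792 (.leaf 0x0) (.leaf 0x457f)) (.node 17794 (.leaf 0xd0b0b0003) (.node 17795 (.leaf 0x0) (.leaf 0x6030007030401030008)))) (.node 17799 (.node 17797 (.leaf 0x0) (.node 17798 (.leaf 0xa0f0b0b0004) (.leaf 0xb0b0a0a0004))) (.node 17800 (.leaf 0x104090000090802040105000b) (.node 17801 (.leaf 0x0) (.leaf 0xe0001))))) (.node 17808 (.node 17805 (.node 17803 (.leaf 0x0) (.node 17804 (.leaf 0x102070308020401050009) (.leaf 0x0))) (.node 17806 (.leaf 0xe0d0002) (.node 17807 (.leaf 0x0) (.leaf 0x458e00458a)))) (.node 17811 (.node 17809 (.leaf 0xa0f0b0b0004) (.node 17810 (.leaf 0x0) (.leaf 0xe0d0002))) (.node 17812 (.leaf 0x0) (.node 17813 (.leaf 0x0) (.leaf 0x9030003010102000202000701000d))))))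

def argWS_1575 : Store := (.node 17791 argWS_1573 argWS_1574)

def argWS_1576 : Store := (.node 17825 (.node 17819 (.node 17816 (.node 17815 (.leaf 0x0) (.leaf 0xf0b0a0003)) (.node 17817 (.leaf 0x0) (.node 17818 (.leaf 0x4298) (.leaf 0x6000000090206020802040105000d)))) (.node 17822 (.node 17820 (.leaf 0x0) (.node 17821 (.leaf 0xb0b0a0a0004) (.leaf 0x0))) (.node 17823 (.leaf 0xf0b0a0a0004) (.node 17824 (.leaf 0x0) (.leaf 0x0))))) (.node 17830 (.node 17827 (.node 17826 (.leaf 0xb0a0002) (.leaf 0x40002020007010008)) (.node 17828 (.leaf 0x0) (.node 17829 (.leaf 0xf0001) (.leaf 0x0)))) (.node 17833 (.node 17831 (.leaf 0x304070308020401050009) (.node 17832 (.leaf 0x0) (.leaf 0xa0a0002))) (.node 17834 (.leaf 0x0) (.node 17835 (.leaf 0x45a90045a5) (.leaf 0x0))))))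

def argWS_1577 : Store := (.node 17847 (.node 17841 (.node 17838 (.node 17837 (.leaf 0xb0b0a0003) (.leaf 0x0)) (.node 17839 (.leaf 0x3010904020802040105000b) (.node 17840 (.leaf 0x0) (.leaf 0xf0a0a0003)))) (.node 17844 (.node 17842 (.leaf 0xb0a0002) (.node 17843 (.leaf 0x80508020401050007) (.leaf 0x0))) (.node 17845 (.leaf 0xd0b0002) (.node 17846 (.leaf 0x0) (.leaf 0x45b5))))) (.node 17853 (.node 17850 (.node 17848 (.leaf 0xb0001) (.node 17849 (.leaf 0x0) (.leaf 0xd0b0002))) (.node 17851 (.leaf 0x0) (.node 17852 (.leaf 0x0) (.leaf 0xb0b0a0a0004)))) (.node 17856 (.node 17854 (.leaf 0x2060002020007010008) (.node 17855 (.leaf 0x0) (.leaf 0xb0001))) (.node 17857 (.leaf 0x0) (.node 17858 (.leaf 0x45c0) (.leaf 0xd0b0002))))))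

def argWS_1578 : Store := (.node 17836 argWS_1576 argWS_1577)

def argWS_1579 : Store := (.node 17814 argWS_1575 argWS_1578)

def argWS_1580 : Store := (.node 17769 argWS_1572 argWS_1579)

def argWS_1581 : Store := (.node 17870 (.node 17864 (.node 17861 (.node 17860 (.leaf 0x0) (.leaf 0xf0a0a0003)) (.node 17862 (.leaf 0x0) (.node 17863 (.leaf 0x0) (.leaf 0x2000201090805000703040103000d)))) (.node 17867 (.node 17865 (.leaf 0x0) (.node 17866 (.leaf 0xb0a0a0003) (.leaf 0x0))) (.node 17868 (.leaf 0x6010500020802040105000a) (.node 17869 (.leaf 0x0) (.leaf 0xf0b0002))))) (.node 17875 (.node 17872 (.node 17871 (.leaf 0x0) (.leaf 0x45ce)) (.node 17873 (.leaf 0x400030901090802040105000b) (.node 17874 (.leaf 0x0) (.leaf 0xf0a0a0003)))) (.node 17878 (.node 17876 (.leaf 0x0) (.node 17877 (.leaf 0x103070209020006) (.leaf 0x0))) (.node 17879 (.leaf 0xb0b0a0a0004) (.node 17880 (.leaf 0xf0b0b0a0004) (.leaf 0xf0a0a0003))))))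

def argWS_1582 : Store := (.node 17892 (.node 17886 (.node 17883 (.node 17882 (.leaf 0x45d8) (.leaf 0x60002000003010802040105000c)) (.node 17884 (.leaf 0x0) (.node 17885 (.leaf 0xb0b0a0003) (.leaf 0x0)))) (.node 17889 (.node 17887 (.leaf 0x3040901090202000701000a) (.node 17888 (.leaf 0x0) (.leaf 0xb0f0a0003))) (.node 17890 (.leaf 0x705090109000703040103000b) (.node 17891 (.leaf 0x0) (.leaf 0xb0f0002))))) (.node 17898 (.node 17895 (.node 17893 (.leaf 0x0) (.node 17894 (.leaf 0xa0f0b0b0004) (.leaf 0x45e5))) (.node 17896 (.leaf 0xe0d0002) (.node 17897 (.leaf 0x0) (.leaf 0x1070207020007010008)))) (.node 17901 (.node 17899 (.leaf 0x0) (.node 17900 (.leaf 0xf0b0002) (.leaf 0x202090009000703040103000b))) (.node 17902 (.leaf 0x0) (.node 17903 (.leaf 0x0) (.leaf 0x0))))))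

def argWS_1583 : Store := (.node 17881 argWS_1581 argWS_1582)

def argWS_1584 : Store := (.node 17915 (.node 17909 (.node 17906 (.node 17905 (.leaf 0xb0b0a0003) (.leaf 0x45f00045ef)) (.node 17907 (.leaf 0xb0f0a0a0004) (.node 17908 (.leaf 0x0) (.leaf 0x0)))) (.node 17912 (.node 17910 (.leaf 0xb0a0002) (.node 17911 (.leaf 0x50300030306040202000701000d) (.leaf 0x0))) (.node 17913 (.leaf 0xd0b0002) (.node 17914 (.leaf 0x0) (.leaf 0x50306020702010802040105000d))))) (.node 17920 (.node 17917 (.node 17916 (.leaf 0x0) (.leaf 0x0)) (.node 17918 (.leaf 0xa0f0002) (.node 17919 (.leaf 0x45fd0045fc) (.leaf 0x2000900090802040105000b)))) (.node 17923 (.node 17921 (.leaf 0x0) (.node 17922 (.leaf 0xd0001) (.leaf 0x0))) (.node 17924 (.leaf 0x207070209020202000701000b) (.node 17925 (.leaf 0x0) (.leaf 0xf0001))))))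

def argWS_1585 : Store := (.node 17937 (.node 17931 (.node 17928 (.node 17927 (.leaf 0x70305070209020007) (.leaf 0x0)) (.node 17929 (.leaf 0x0) (.node 17930 (.leaf 0x4000206030006) (.leaf 0x0)))) (.node 17934 (.node 17932 (.leaf 0xa0f0b0b0004) (.node 17933 (.leaf 0x0) (.leaf 0x460c004608))) (.node 17935 (.leaf 0xf0a0002) (.node 17936 (.leaf 0x0) (.leaf 0xf0b0b0a0a0005))))) (.node 17943 (.node 17940 (.node 17938 (.leaf 0x0) (.node 17939 (.leaf 0x0) (.leaf 0xb0f0a0003))) (.node 17941 (.leaf 0xa0f0b0003) (.node 17942 (.leaf 0x907000900090202000701000b) (.leaf 0x0)))) (.node 17946 (.node 17944 (.leaf 0xb0a0f0003) (.node 17945 (.leaf 0x0) (.leaf 0x4618004614))) (.node 17947 (.leaf 0xd0b0002) (.node 17948 (.leaf 0x0) (.leaf 0xf0a0002))))))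

def argWS_1586 : Store := (.node 17926 argWS_1584 argWS_1585)

def argWS_1587 : Store := (.node 17904 argWS_1583 argWS_1586)

def argWS_1588 : Store := (.node 17960 (.node 17954 (.node 17951 (.node 17950 (.leaf 0x0) (.leaf 0x0)) (.node 17952 (.leaf 0x10300090206020007) (.node 17953 (.leaf 0x0) (.leaf 0xa0f0002)))) (.node 17957 (.node 17955 (.leaf 0x0) (.node 17956 (.leaf 0xd0b0b0003) (.leaf 0x2050900090802040105000a))) (.node 17958 (.leaf 0x0) (.node 17959 (.leaf 0xf0001) (.leaf 0x0))))) (.node 17965 (.node 17962 (.node 17961 (.leaf 0x4627004623) (.leaf 0xb0f0002)) (.node 17963 (.leaf 0x0) (.node 17964 (.leaf 0x20601010703060802040105000c) (.leaf 0x0)))) (.node 17968 (.node 17966 (.leaf 0xb0001) (.node 17967 (.leaf 0x6020106060006) (.leaf 0x0))) (.node 17969 (.leaf 0xd0001) (.node 17970 (.leaf 0x0) (.leaf 0xd0b0002))))))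

def argWS_1589 : Store := (.node 17982 (.node 17976 (.node 17973 (.node 17972 (.leaf 0x4632) (.leaf 0xb0001)) (.node 17974 (.leaf 0x0) (.node 17975 (.leaf 0x20903070209020202000701000c) (.leaf 0x0)))) (.node 17979 (.node 17977 (.leaf 0xd0b0002) (.node 17978 (.leaf 0x103010301010200000703040103000e) (.leaf 0x0))) (.node 17980 (.leaf 0xe0a0002) (.node 17981 (.leaf 0x0) (.leaf 0xf0b0b0a0004))))) (.node 17988 (.node 17985 (.node 17983 (.leaf 0x322900463d) (.node 17984 (.leaf 0x2090308020401050008) (.leaf 0x0))) (.node 17986 (.leaf 0x0) (.node 17987 (.leaf 0xa0001) (.leaf 0x0)))) (.node 17991 (.node 17989 (.leaf 0x0) (.node 17990 (.leaf 0xb0b0a0a0004) (.leaf 0xa0a0002))) (.node 17992 (.leaf 0x90201040005000703040103000c) (.node 17993 (.leaf 0x0) (.leaf 0xf0b0a0003))))))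

def argWS_1590 : Store := (.node 17971 argWS_1588 argWS_1589)

def argWS_1591 : Store := (.node 18005 (.node 17999 (.node 17996 (.node 17995 (.leaf 0x0) (.leaf 0x464a004646)) (.node 17997 (.leaf 0x102020206030802040105000b) (.node 17998 (.leaf 0x0) (.leaf 0x0)))) (.node 18002 (.node 18000 (.leaf 0x60201040005000703040103000c) (.node 18001 (.leaf 0x0) (.leaf 0xa0f0002))) (.node 18003 (.leaf 0x9020900000202000701000a) (.node 18004 (.leaf 0x0) (.leaf 0xa0f0b0b0004))))) (.node 18011 (.node 18008 (.node 18006 (.leaf 0x0) (.node 18007 (.leaf 0x7040007030401030008) (.leaf 0x0))) (.node 18009 (.leaf 0xf0b0a0003) (.node 18010 (.leaf 0x0) (.leaf 0xf0b0a0003)))) (.node 18014 (.node 18012 (.leaf 0x465a004659) (.node 18013 (.leaf 0xb0b0a0a0004) (.leaf 0x0))) (.node 18015 (.leaf 0x103070209020202000701000b) (.node 18016 (.leaf 0x0) (.leaf 0xf0b0002))))))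

def argWS_1592 : Store := (.node 18028 (.node 18022 (.node 18019 (.node 18018 (.leaf 0x205020604000703040103000c) (.leaf 0x0)) (.node 18020 (.leaf 0xe0a0002) (.node 18021 (.leaf 0x0) (.leaf 0x20205020202010802040105000c)))) (.node 18025 (.node 18023 (.leaf 0x0) (.node 18024 (.leaf 0xb0f0002) (.leaf 0x0))) (.node 18026 (.leaf 0x70400020804000202000701000c) (.node 18027 (.leaf 0x0) (.leaf 0xb0a0002))))) (.node 18034 (.node 18031 (.node 18029 (.leaf 0x0) (.node 18030 (.leaf 0x466c004668) (.leaf 0xa0001))) (.node 18032 (.leaf 0x0) (.node 18033 (.leaf 0x2010308000703040103000a) (.leaf 0x0)))) (.node 18037 (.node 18035 (.leaf 0xe0d0002) (.node 18036 (.leaf 0xb0f0002) (.leaf 0x20601070209020007))) (.node 18038 (.leaf 0x0) (.node 18039 (.leaf 0xb0f0a0a0004) (.leaf 0x0))))))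

def argWS_1593 : Store := (.node 18017 argWS_1591 argWS_1592)

def argWS_1594 : Store := (.node 17994 argWS_1590 argWS_1593)

def argWS_1595 : Store := (.node 17949 argWS_1587 argWS_1594)

def argWS_1596 : Store := (.node 17859 argWS_1580 argWS_1595)

def argWS_1597 : Store := (.node 17679 argWS_1565 argWS_1596)

def argWS_1598 : Store := (.node 18051 (.node 18045 (.node 18042 (.node 18041 (.leaf 0x400030901090802040105000b) (.leaf 0x0)) (.node 18043 (.leaf 0xf0a0a0003) (.node 18044 (.leaf 0x0) (.leaf 0x467b004677)))) (.node 18048 (.node 18046 (.leaf 0x6040807030401030008) (.node 18047 (.leaf 0x0) (.leaf 0xe0a0002))) (.node 18049 (.leaf 0x0) (.node 18050 (.leaf 0x404020703000703040103000b) (.leaf 0x0))))) (.node 18056 (.node 18053 (.node 18052 (.leaf 0xf0b0a0a0004) (.leaf 0xa0f0b0003)) (.node 18054 (.leaf 0x705010703060802040105000b) (.node 18055 (.leaf 0x0) (.leaf 0xd0b0002)))) (.node 18059 (.node 18057 (.leaf 0x0) (.node 18058 (.leaf 0xb0b0a0003) (.leaf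 0x4689004688))) (.node 18060 (.leaf 0xb0f0a0a0004) (.node 18061 (.leaf 0x0) (.leaf 0x205020202010202000701000c))))))

def argWS_1599 : Store := (.node 18073 (.node 18067 (.node 18064 (.node 18063 (.leaf 0x0) (.leaf 0xa0f0002)) (.node 18065 (.leaf 0xf0a0002) (.node 18066 (.leaf 0x307070009030802040105000b) (.leaf 0x0)))) (.node 18070 (.node 18068 (.leaf 0xb0f0a0003) (.node 18069 (.leaf 0x0) (.leaf 0x9010908050005))) (.node 18071 (.leaf 0x0) (.node 18072 (.leaf 0xb0b0a0a0004) (.leaf 0x0))))) (.node 18079 (.node 18076 (.node 18074 (.leaf 0x4698004694) (.node 18075 (.leaf 0x2010703060005) (.leaf 0x0))) (.node 18077 (.leaf 0xb0f0002) (.node 18078 (.leaf 0x0) (.leaf 0xe0a0002)))) (.node 18082 (.node 18080 (.leaf 0x0) (.node 18081 (.leaf 0x0) (.leaf 0x7000002080400000703040103000d))) (.node 18083 (.leaf 0x0) (.node 18084 (.leaf 0xb0a0f0003) (.leaf 0x0))))))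

def argWS_1600 : Store := (.node 18062 argWS_1598 argWS_1599)

def argWS_1601 : Store := (.node 18096 (.node 18090 (.node 18087 (.node 18086 (.leaf 0x9000900090202000701000b) (.leaf 0x0)) (.node 18088 (.leaf 0xf0b0002) (.node 18089 (.leaf 0x0) (.leaf 0xa0f0b0b0004)))) (.node 18093 (.node 18091 (.leaf 0x46a90046a8) (.node 18092 (.leaf 0xb0a0002) (.leaf 0x0))) (.node 18094 (.leaf 0x902010003) (.node 18095 (.leaf 0x0) (.leaf 0xb0a0a0003))))) (.node 18101 (.node 18098 (.node 18097 (.leaf 0x206000007030401030009) (.leaf 0x0)) (.node 18099 (.leaf 0xf0b0b0a0004) (.node 18100 (.leaf 0x0) (.leaf 0xe0d0002)))) (.node 18104 (.node 18102 (.leaf 0xf0b0b0003) (.node 18103 (.leaf 0x46b50046b4) (.leaf 0xd0b0002))) (.node 18105 (.leaf 0x0) (.node 18106 (.leaf 0x8000900090006) (.leaf 0x0))))))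

def argWS_1602 : Store := (.node 18118 (.node 18112 (.node 18109 (.node 18108 (.leaf 0xb0b0002) (.leaf 0x200020901060802040105000b)) (.node 18110 (.leaf 0x0) (.node 18111 (.leaf 0xe0001) (.leaf 0x0)))) (.node 18115 (.node 18113 (.leaf 0xd0001) (.node 18114 (.leaf 0x46c00046bf) (.leaf 0xb0001))) (.node 18116 (.leaf 0x0) (.node 18117 (.leaf 0x4000403010102000802040105000d) (.leaf 0x0))))) (.node 18124 (.node 18121 (.node 18119 (.leaf 0xb0a0f0003) (.node 18120 (.leaf 0xb0001) (.leaf 0x50309000009000703040103000d))) (.node 18122 (.leaf 0x0) (.node 18123 (.leaf 0xe0a0002) (.leaf 0x0)))) (.node 18127 (.node 18125 (.leaf 0x46cb000d84) (.node 18126 (.leaf 0x5020109000009000703040103000d) (.leaf 0x0))) (.node 18128 (.leaf 0xd0b0002) (.node 18129 (.leaf 0x0) (.leaf 0x7000002020007010008))))))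

def argWS_1603 : Store := (.node 18107 argWS_1601 argWS_1602)

def argWS_1604 : Store := (.node 18085 argWS_1600 argWS_1603)

def argWS_1605 : Store := (.node 18141 (.node 18135 (.node 18132 (.node 18131 (.leaf 0x0) (.leaf 0xb0001)) (.node 18133 (.leaf 0xb0001) (.node 18134 (.leaf 0x4000400030306040802040105000d) (.leaf 0x0)))) (.node 18138 (.node 18136 (.leaf 0xb0a0f0003) (.node 18137 (.leaf 0x0) (.leaf 0xb0a0002))) (.node 18139 (.leaf 0x46d90046d8) (.node 18140 (.leaf 0x5030604000703040103000a) (.leaf 0x0))))) (.node 18146 (.node 18143 (.node 18142 (.leaf 0xb0b0a0a0004) (.leaf 0x0)) (.node 18144 (.leaf 0x301090805000703040103000b) (.node 18145 (.leaf 0x0) (.leaf 0xb0b0a0003)))) (.node 18149 (.node 18147 (.leaf 0xa0f0b0b0004) (.node 18148 (.leaf 0x6000008020401050008) (.leaf 0x0))) (.node 18150 (.leaf 0xf0b0b0a0a0005) (.node 18151 (.leaf 0x0) (.leaf 0xd0b0002))))))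

def argWS_1606 : Store := (.node 18163 (.node 18157 (.node 18154 (.node 18153 (.leaf 0x46e70046e6) (.leaf 0x7030401030005)) (.node 18155 (.leaf 0x0) (.node 18156 (.leaf 0xf0a0a0003) (.leaf 0x0)))) (.node 18160 (.node 18158 (.leaf 0x60503010102000802040105000c) (.node 18159 (.leaf 0x0) (.leaf 0xf0001))) (.node 18161 (.leaf 0xe0a0a0003) (.node 18162 (.leaf 0x20002090106000703040103000d) (.leaf 0x0))))) (.node 18169 (.node 18166 (.node 18164 (.leaf 0xf0001) (.node 18165 (.leaf 0x0) (.leaf 0xf0b0a0a0004))) (.node 18167 (.leaf 0x46f50046f4) (.node 18168 (.leaf 0xf0b0a0a0004) (.leaf 0x0)))) (.node 18172 (.node 18170 (.leaf 0x4030400020804000802040105000d) (.node 18171 (.leaf 0x0) (.leaf 0xf0b0002))) (.node 18173 (.leaf 0xf0b0b0a0004) (.node 18174 (.leaf 0xb0a0002) (.leaf 0x2000901090202000701000a))))))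

def argWS_1607 : Store := (.node 18152 argWS_1605 argWS_1606)

def argWS_1608 : Store := (.node 18186 (.node 18180 (.node 18177 (.node 18176 (.leaf 0x0) (.leaf 0x0)) (.node 18178 (.leaf 0x47000046fd) (.node 18179 (.leaf 0x309010908020401050009) (.leaf 0x0)))) (.node 18183 (.node 18181 (.leaf 0xf0b0b0a0a0005) (.node 18182 (.leaf 0x0) (.leaf 0x2020202020900000802040105000d))) (.node 18184 (.leaf 0x0) (.node 18185 (.leaf 0xa0001) (.leaf 0xb0b0a0003))))) (.node 18191 (.node 18188 (.node 18187 (.leaf 0x2060901090202000701000a) (.leaf 0x0)) (.node 18189 (.leaf 0x0) (.node 18190 (.leaf 0x704090806000802040105000b) (.leaf 0x0)))) (.node 18194 (.node 18192 (.leaf 0xb0001) (.node 18193 (.leaf 0x0) (.leaf 0x471000470c))) (.node 18195 (.leaf 0x30401070206000802040105000c) (.node 18196 (.leaf 0x0) (.leaf 0xb0a0f0003))))))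

def argWS_1609 : Store := (.node 18208 (.node 18202 (.node 18199 (.node 18198 (.leaf 0x0) (.leaf 0x7010901090802040105000a)) (.node 18200 (.leaf 0x0) (.node 18201 (.leaf 0xd0b0002) (.leaf 0x3000207030005)))) (.node 18205 (.node 18203 (.leaf 0x0) (.node 18204 (.leaf 0xb0001) (.leaf 0x0))) (.node 18206 (.leaf 0x1030908050005) (.node 18207 (.leaf 0x0) (.leaf 0xe0d0002))))) (.node 18214 (.node 18211 (.node 18209 (.leaf 0x0) (.node 18210 (.leaf 0x4720) (.leaf 0x80000090009000703040103000c))) (.node 18212 (.leaf 0x0) (.node 18213 (.leaf 0xd0b0b0003) (.leaf 0x0)))) (.node 18217 (.node 18215 (.leaf 0x30702000003010202000701000c) (.node 18216 (.leaf 0x0) (.leaf 0xb0001))) (.node 18218 (.leaf 0xb0f0a0a0004) (.node 18219 (.leaf 0x10106030500040802040105000c) (.leaf 0x0))))))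

def argWS_1610 : Store := (.node 18197 argWS_1608 argWS_1609)

def argWS_1611 : Store := (.node 18175 argWS_1607 argWS_1610)

def argWS_1612 : Store := (.node 18130 argWS_1604 argWS_1611)

def argWS_1613 : Store := (.node 18231 (.node 18225 (.node 18222 (.node 18221 (.leaf 0xf0a0002) (.leaf 0x0)) (.node 18223 (.leaf 0x4020603000703040103000a) (.node 18224 (.leaf 0x0) (.leaf 0xe0a0002)))) (.node 18228 (.node 18226 (.leaf 0x0) (.node 18227 (.leaf 0x473100472d) (.leaf 0xa0a0002))) (.node 18229 (.leaf 0x0) (.node 18230 (.leaf 0xf0b0a0a0004) (.leaf 0x0))))) (.node 18236 (.node 18233 (.node 18232 (.leaf 0x0) (.leaf 0x9020901060005)) (.node 18234 (.leaf 0x0) (.node 18235 (.leaf 0xf0001) (.leaf 0x0)))) (.node 18239 (.node 18237 (.leaf 0x205020002080400000703040103000e) (.node 18238 (.leaf 0x0) (.leaf 0xd0001))) (.node 18240 (.leaf 0x0) (.node 18241 (.leaf 0x70901090004) (.leaf 0x0))))))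

def argWS_1614 : Store := (.node 18253 (.node 18247 (.node 18244 (.node 18243 (.leaf 0xb0001) (.leaf 0x0)) (.node 18245 (.leaf 0x474300473f) (.node 18246 (.leaf 0xb0a0a0003) (.leaf 0x0)))) (.node 18250 (.node 18248 (.leaf 0xa0001) (.node 18249 (.leaf 0x0) (.leaf 0x0))) (.node 18251 (.leaf 0x8030009080600000703040103000d) (.node 18252 (.leaf 0x0) (.leaf 0x0))))) (.node 18259 (.node 18256 (.node 18254 (.leaf 0x3bad00474c) (.node 18255 (.leaf 0xf0b0a0003) (.leaf 0x0))) (.node 18257 (.leaf 0xf0b0b0a0004) (.node 18258 (.leaf 0x0) (.leaf 0x0)))) (.node 18262 (.node 18260 (.leaf 0x409000009000703040103000c) (.node 18261 (.leaf 0x0) (.leaf 0xa0f0002))) (.node 18263 (.leaf 0x0) (.node 18264 (.leaf 0x1020900090005) (.leaf 0x0))))))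

def argWS_1615 : Store := (.node 18242 argWS_1613 argWS_1614)

def argWS_1616 : Store := (.node 18276 (.node 18270 (.node 18267 (.node 18266 (.leaf 0xe0d0002) (.leaf 0x0)) (.node 18268 (.leaf 0x475a) (.node 18269 (.leaf 0xb0b0a0a0004) (.leaf 0x0)))) (.node 18273 (.node 18271 (.leaf 0x601020107020902000703040103000e) (.node 18272 (.leaf 0x0) (.leaf 0xf0b0a0a0004))) (.node 18274 (.leaf 0x60301010904020202000701000c) (.node 18275 (.leaf 0x0) (.leaf 0xb0b0002))))) (.node 18281 (.node 18278 (.node 18277 (.leaf 0x0) (.leaf 0xd0001)) (.node 18279 (.leaf 0x10700020703000703040103000c) (.node 18280 (.leaf 0x0) (.leaf 0xa0f0b0b0004)))) (.node 18284 (.node 18282 (.leaf 0x0) (.node 18283 (.leaf 0x4769004765) (.leaf 0xf0a0a0003))) (.node 18285 (.leaf 0x0) (.node 18286 (.leaf 0x601070206000802040105000b) (.leaf 0x0))))))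

def argWS_1617 : Store := (.node 18298 (.node 18292 (.node 18289 (.node 18288 (.leaf 0xe0d0002) (.leaf 0x2090806000202000701000b)) (.node 18290 (.leaf 0x0) (.node 18291 (.leaf 0xe0001) (.leaf 0x0)))) (.node 18295 (.node 18293 (.leaf 0x41ee) (.node 18294 (.leaf 0x107030401030006) (.leaf 0x0))) (.node 18296 (.leaf 0x0) (.node 18297 (.leaf 0x606010500020007) (.leaf 0x0))))) (.node 18304 (.node 18301 (.node 18299 (.leaf 0xa0a0002) (.node 18300 (.leaf 0x40009020602000703040103000d) (.leaf 0x0))) (.node 18302 (.leaf 0x0) (.node 18303 (.leaf 0xd0b0b0003) (.leaf 0x90702000003010007)))) (.node 18307 (.node 18305 (.leaf 0x0) (.node 18306 (.leaf 0xf0b0a0003) (.leaf 0x0))) (.node 18308 (.leaf 0x478200477e) (.node 18309 (.leaf 0xe0d0002) (.leaf 0x0))))))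

def argWS_1618 : Store := (.node 18287 argWS_1616 argWS_1617)

def argWS_1619 : Store := (.node 18265 argWS_1615 argWS_1618)

def argWS_1620 : Store := (.node 18321 (.node 18315 (.node 18312 (.node 18311 (.leaf 0xa0a0002) (.leaf 0x0)) (.node 18313 (.leaf 0x0) (.node 18314 (.leaf 0xb0a0002) (.leaf 0x2050900090202000701000a)))) (.node 18318 (.node 18316 (.leaf 0x0) (.node 18317 (.leaf 0xe0a0a0003) (.leaf 0x0))) (.node 18319 (.leaf 0x8020703060005) (.node 18320 (.leaf 0x0) (.leaf 0xa0a0002))))) (.node 18326 (.node 18323 (.node 18322 (.leaf 0x0) (.leaf 0x479100478d)) (.node 18324 (.leaf 0x3030004080703040103000a) (.node 18325 (.leaf 0x0) (.leaf 0xb0f0a0003)))) (.node 18329 (.node 18327 (.leaf 0x0) (.node 18328 (.leaf 0x0) (.leaf 0xf0b0002))) (.node 18330 (.leaf 0x60106020702010802040105000c) (.node 18331 (.leaf 0x0) (.leaf 0xb0f0002))))))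

def argWS_1621 : Store := (.node 18343 (.node 18337 (.node 18334 (.node 18333 (.leaf 0x0) (.leaf 0x70109080600000703040103000c)) (.node 18335 (.leaf 0x0) (.node 18336 (.leaf 0xb0f0a0a0004) (.leaf 0x0)))) (.node 18340 (.node 18338 (.leaf 0x47a000479c) (.node 18339 (.leaf 0x2090000030000000703040103000d) (.leaf 0x0))) (.node 18341 (.leaf 0xa0f0b0003) (.node 18342 (.leaf 0x0) (.leaf 0x7010102020900000802040105000d))))) (.node 18349 (.node 18346 (.node 18344 (.leaf 0x0) (.node 18345 (.leaf 0xd0b0b0003) (.leaf 0xb0b0a0a0004))) (.node 18347 (.leaf 0x303070009020007010009) (.node 18348 (.leaf 0x0) (.leaf 0xf0a0a0003)))) (.node 18352 (.node 18350 (.leaf 0x0) (.node 18351 (.leaf 0x47ad) (.leaf 0xf0b0b0003))) (.node 18353 (.leaf 0x0) (.node 18354 (.leaf 0x0) (.leaf 0xd0b0002))))))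

def argWS_1622 : Store := (.node 18332 argWS_1620 argWS_1621)

def argWS_1623 : Store := (.node 18366 (.node 18360 (.node 18357 (.node 18356 (.leaf 0xa0f0b0b0004) (.leaf 0x3607004398)) (.node 18358 (.leaf 0x605020202010202000701000b) (.node 18359 (.leaf 0x0) (.leaf 0xb0a0002)))) (.node 18363 (.node 18361 (.leaf 0x0) (.node 18362 (.leaf 0xa0001) (.leaf 0x0))) (.node 18364 (.leaf 0x20002020106060007) (.node 18365 (.leaf 0x0) (.leaf 0xf0a0002))))) (.node 18372 (.node 18369 (.node 18367 (.leaf 0x0) (.node 18368 (.leaf 0xb0a0002) (.leaf 0x47bf))) (.node 18370 (.leaf 0x304010601050002000703040103000e) (.node 18371 (.leaf 0x0) (.leaf 0xa0a0002)))) (.node 18375 (.node 18373 (.leaf 0x0) (.node 18374 (.leaf 0xf0b0b0a0004) (.leaf 0x0))) (.node 18376 (.leaf 0x0) (.node 18377 (.leaf 0x200020003) (.leaf 0x0))))))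

def argWS_1624 : Store := (.node 18389 (.node 18383 (.node 18380 (.node 18379 (.leaf 0xa0001) (.leaf 0x0)) (.node 18381 (.leaf 0x9000300000005) (.node 18382 (.leaf 0x0) (.leaf 0xb0a0002)))) (.node 18386 (.node 18384 (.leaf 0x0) (.node 18385 (.leaf 0x47cf) (.leaf 0x20606020702010202000701000c))) (.node 18387 (.leaf 0x0) (.node 18388 (.leaf 0xe0a0a0003) (.leaf 0x0))))) (.node 18395 (.node 18392 (.node 18390 (.leaf 0xb0b0a0003) (.node 18391 (.leaf 0x0) (.leaf 0x0))) (.node 18393 (.leaf 0x2010301090402000703040103000d) (.node 18394 (.leaf 0x0) (.leaf 0xf0b0a0a0004)))) (.node 18398 (.node 18396 (.leaf 0x0) (.node 18397 (.leaf 0xb0a0a0003) (.leaf 0x47dc))) (.node 18399 (.leaf 0x1070207030005) (.node 18400 (.leaf 0x0) (.leaf 0xd0b0b0003))))))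

def argWS_1625 : Store := (.node 18378 argWS_1623 argWS_1624)

def argWS_1626 : Store := (.node 18355 argWS_1622 argWS_1625)

def argWS_1627 : Store := (.node 18310 argWS_1619 argWS_1626)

def argWS_1628 : Store := (.node 18220 argWS_1612 argWS_1627)

def argWS_1629 : Store := (.node 18412 (.node 18406 (.node 18403 (.node 18402 (.leaf 0x0) (.leaf 0xb0f0a0a0004)) (.node 18404 (.leaf 0x0) (.node 18405 (.leaf 0x0) (.leaf 0xa0001)))) (.node 18409 (.node 18407 (.leaf 0x9070002020900000802040105000d) (.node 18408 (.leaf 0x0) (.leaf 0xb0f0a0003))) (.node 18410 (.leaf 0x0) (.node 18411 (.leaf 0xb0f0a0a0004) (.leaf 0x47ea0047e9))))) (.node 18417 (.node 18414 (.node 18413 (.leaf 0x60900090004) (.leaf 0x0)) (.node 18415 (.leaf 0xb0001) (.node 18416 (.leaf 0x0) (.leaf 0x7010106020702010802040105000d)))) (.node 18420 (.node 18418 (.leaf 0x0) (.node 18419 (.leaf 0xb0f0a0003) (.leaf 0xa0001))) (.node 18421 (.leaf 0x8030005020604000703040103000d) (.node 18422 (.leaf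 0x0) (.leaf 0xf0001))))))

def argWS_1630 : Store := (.node 18434 (.node 18428 (.node 18425 (.node 18424 (.leaf 0x0) (.leaf 0x47f70011d6)) (.node 18426 (.leaf 0xe0001) (.node 18427 (.leaf 0x0) (.leaf 0xb0b0a0a0004)))) (.node 18431 (.node 18429 (.leaf 0x0) (.node 18430 (.leaf 0x0) (.leaf 0xf0a0002))) (.node 18432 (.leaf 0x901040308000703040103000b) (.node 18433 (.leaf 0x0) (.leaf 0xe0001))))) (.node 18440 (.node 18437 (.node 18435 (.leaf 0x0) (.node 18436 (.leaf 0x4802) (.leaf 0x109010606000703040103000b))) (.node 18438 (.leaf 0x0) (.node 18439 (.leaf 0xa0f0b0003) (.leaf 0x0)))) (.node 18443 (.node 18441 (.leaf 0xa0a0002) (.node 18442 (.leaf 0x0) (.leaf 0x0))) (.node 18444 (.leaf 0xa0001) (.node 18445 (.leaf 0x0) (.leaf 0x60501010703060202000701000c))))))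

def argWS_1631 : Store := (.node 18423 argWS_1629 argWS_1630)

def argWS_1632 : Store := (.node 18457 (.node 18451 (.node 18448 (.node 18447 (.leaf 0x0) (.leaf 0xe0a0a0003)) (.node 18449 (.leaf 0x0) (.node 18450 (.leaf 0x481000480c) (.leaf 0xe0001)))) (.node 18454 (.node 18452 (.leaf 0x0) (.node 18453 (.leaf 0xf0b0b0a0a0005) (.leaf 0x0))) (.node 18455 (.leaf 0x0) (.node 18456 (.leaf 0xa0f0002) (.leaf 0xa0f0b0b0004))))) (.node 18462 (.node 18459 (.node 18458 (.leaf 0x1848004818) (.leaf 0xb0f0002)) (.node 18460 (.leaf 0x0) (.node 18461 (.leaf 0x604000400050006) (.leaf 0x0)))) (.node 18465 (.node 18463 (.leaf 0xf0b0b0a0a0005) (.node 18464 (.leaf 0xf0b0b0a0004) (.leaf 0x1090305020202010202000701000d))) (.node 18466 (.leaf 0x0) (.node 18467 (.leaf 0x0) (.leaf 0x4030601050002000703040103000d))))))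

def argWS_1633 : Store := (.node 18479 (.node 18473 (.node 18470 (.node 18469 (.leaf 0x0) (.leaf 0xf0a0002)) (.node 18471 (.leaf 0x0) (.node 18472 (.leaf 0x4826004822) (.leaf 0x90000090004)))) (.node 18476 (.node 18474 (.leaf 0x0) (.node 18475 (.leaf 0xe0001) (.leaf 0x0))) (.node 18477 (.leaf 0x602020900000007) (.node 18478 (.leaf 0x0) (.leaf 0xf0a0002))))) (.node 18485 (.node 18482 (.node 18480 (.leaf 0x102020106060202000701000b) (.node 18481 (.leaf 0x0) (.leaf 0xe0a0002))) (.node 18483 (.leaf 0x0) (.node 18484 (.leaf 0x20900090206020202000701000c) (.leaf 0x0)))) (.node 18488 (.node 18486 (.leaf 0xd0b0b0003) (.node 18487 (.leaf 0x0) (.leaf 0x60901090005))) (.node 18489 (.leaf 0x0) (.node 18490 (.leaf 0xe0a0a0003) (.leaf 0x0))))))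

def argWS_1634 : Store := (.node 18468 argWS_1632 argWS_1633)

def argWS_1635 : Store := (.node 18446 argWS_1631 argWS_1634)

def argWS_1636 : Store := (.node 18502 (.node 18496 (.node 18493 (.node 18492 (.leaf 0x483a004836) (.leaf 0x7000006020702010802040105000d)) (.node 18494 (.leaf 0x0) (.node 18495 (.leaf 0xf0a0002) (.leaf 0x0)))) (.node 18499 (.node 18497 (.leaf 0xb0b0002) (.node 18498 (.leaf 0x0) (.leaf 0x0))) (.node 18500 (.leaf 0x2050206040802040105000a) (.node 18501 (.leaf 0x0) (.leaf 0x0))))) (.node 18507 (.node 18504 (.node 18503 (.leaf 0x50205020202010202000701000c) (.leaf 0x0)) (.node 18505 (.leaf 0xb0b0a0a0004) (.node 18506 (.leaf 0x0) (.leaf 0x4849004845)))) (.node 18510 (.node 18508 (.leaf 0xf0b0b0a0004) (.node 18509 (.leaf 0x0) (.leaf 0x207070009020007010009))) (.node 18511 (.leaf 0x0) (.node 18512 (.leaf 0xa0f0b0b0004) (.leaf 0x605010703060802040105000b))))))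

def argWS_1637 : Store := (.node 18524 (.node 18518 (.node 18515 (.node 18514 (.leaf 0x0) (.leaf 0xf0a0002)) (.node 18516 (.leaf 0x0) (.node 18517 (.leaf 0xa0f0b0b0004) (.leaf 0x503090000090007)))) (.node 18521 (.node 18519 (.leaf 0x0) (.node 18520 (.leaf 0xa0f0b0b0004) (.leaf 0x0))) (.node 18522 (.leaf 0x4858004854) (.node 18523 (.leaf 0xb0f0a0a0004) (.leaf 0x0))))) (.node 18530 (.node 18527 (.node 18525 (.leaf 0xa0f0b0b0004) (.node 18526 (.leaf 0x0) (.leaf 0x0))) (.node 18528 (.leaf 0xb0f0002) (.node 18529 (.leaf 0x1020202000003010008) (.leaf 0x0)))) (.node 18533 (.node 18531 (.leaf 0xb0b0a0a0004) (.node 18532 (.leaf 0x0) (.leaf 0x4863))) (.node 18534 (.leaf 0x30306040202000701000b) (.node 18535 (.leaf 0x0) (.leaf 0xd0b0002))))))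

def argWS_1638 : Store := (.node 18513 argWS_1636 argWS_1637)

def argWS_1639 : Store := (.node 18547 (.node 18541 (.node 18538 (.node 18537 (.leaf 0x0) (.leaf 0xb0a0f0003)) (.node 18539 (.leaf 0x0) (.node 18540 (.leaf 0x0) (.leaf 0x1070703060802040105000a)))) (.node 18544 (.node 18542 (.leaf 0x0) (.node 18543 (.leaf 0x0) (.leaf 0x3090806000202000701000b))) (.node 18545 (.leaf 0x0) (.node 18546 (.leaf 0xf0b0b0003) (.leaf 0x0))))) (.node 18552 (.node 18549 (.node 18548 (.leaf 0x4872) (.leaf 0xb0b0a0003)) (.node 18550 (.leaf 0x0) (.node 18551 (.leaf 0x601020106010500020202000701000e) (.leaf 0x0)))) (.node 18555 (.node 18553 (.leaf 0xe0a0a0003) (.node 18554 (.leaf 0xb0b0a0a0004) (.leaf 0x901070209020802040105000b))) (.node 18556 (.leaf 0x0) (.node 18557 (.leaf 0xa0001) (.leaf 0x0))))))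

def argWS_1640 : Store := (.node 18569 (.node 18563 (.node 18560 (.node 18559 (.leaf 0x487d) (.leaf 0xb0a0a0003)) (.node 18561 (.leaf 0x0) (.node 18562 (.leaf 0x90606010500020007) (.leaf 0x0)))) (.node 18566 (.node 18564 (.leaf 0xf0001) (.node 18565 (.leaf 0x1030000090206020008) (.leaf 0x0))) (.node 18567 (.leaf 0xb0f0a0003) (.node 18568 (.leaf 0x0) (.leaf 0xe0a0002))))) (.node 18575 (.node 18572 (.node 18570 (.leaf 0x60003010102000007) (.node 18571 (.leaf 0x0) (.leaf 0xb0f0a0003))) (.node 18573 (.leaf 0x0) (.node 18574 (.leaf 0x488c004888) (.leaf 0x101020901060802040105000b)))) (.node 18578 (.node 18576 (.leaf 0x0) (.node 18577 (.leaf 0xf0b0b0a0004) (.leaf 0x0))) (.node 18579 (.leaf 0xd0b0002) (.node 18580 (.leaf 0x0) (.leaf 0x0))))))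

def argWS_1641 : Store := (.node 18558 argWS_1639 argWS_1640)

def argWS_1642 : Store := (.node 18536 argWS_1638 argWS_1641)

def argWS_1643 : Store := (.node 18491 argWS_1635 argWS_1642)

def argWS_1644 : Store := (.node 18592 (.node 18586 (.node 18583 (.node 18582 (.leaf 0x307070206000802040105000b) (.leaf 0x0)) (.node 18584 (.leaf 0x0) (.node 18585 (.leaf 0x3070901090005) (.leaf 0x0)))) (.node 18589 (.node 18587 (.leaf 0xd0b0002) (.node 18588 (.leaf 0x0) (.leaf 0x489b004897))) (.node 18590 (.leaf 0x2020002080400000703040103000d) (.node 18591 (.leaf 0x0) (.leaf 0xa0f0002))))) (.node 18597 (.node 18594 (.node 18593 (.leaf 0x402090000000703040103000b) (.leaf 0x0)) (.node 18595 (.leaf 0xb0f0002) (.node 18596 (.leaf 0x0) (.leaf 0x0)))) (.node 18600 (.node 18598 (.leaf 0x4070209020005) (.node 18599 (.leaf 0x0) (.leaf 0xf0b0a0a0004))) (.node 18601 (.leaf 0x0) (.node 18602 (.leaf 0x139c0019f8) (.leaf 0x803000000030000000703040103000e))))))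

def argWS_1645 : Store := (.node 18614 (.node 18608 (.node 18605 (.node 18604 (.leaf 0x0) (.leaf 0x0)) (.node 18606 (.leaf 0xb0a0f0003) (.node 18607 (.leaf 0x0) (.leaf 0x0)))) (.node 18611 (.node 18609 (.leaf 0x30702000003010202000701000c) (.node 18610 (.leaf 0x0) (.leaf 0xe0001))) (.node 18612 (.leaf 0x0) (.node 18613 (.leaf 0x90700030306040802040105000c) (.leaf 0x0))))) (.node 18620 (.node 18617 (.node 18615 (.leaf 0xd0b0002) (.node 18616 (.leaf 0x0) (.leaf 0x48b7))) (.node 18618 (.leaf 0xf0b0a0a0004) (.node 18619 (.leaf 0x0) (.leaf 0x5020202010802040105000c)))) (.node 18623 (.node 18621 (.leaf 0x0) (.node 18622 (.leaf 0xb0a0a0003) (.leaf 0xb0f0002))) (.node 18624 (.leaf 0x303060207020703040103000b) (.node 18625 (.leaf 0x0) (.leaf 0x0))))))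

def argWS_1646 : Store := (.node 18603 argWS_1644 argWS_1645)

def argWS_1647 : Store := (.node 18637 (.node 18631 (.node 18628 (.node 18627 (.leaf 0x48c1) (.leaf 0xf0b0a0003)) (.node 18629 (.leaf 0x0) (.node 18630 (.leaf 0xf0b0b0a0a0005) (.leaf 0x0)))) (.node 18634 (.node 18632 (.leaf 0x0) (.node 18633 (.leaf 0x800090806000006) (.leaf 0x0))) (.node 18635 (.leaf 0x0) (.node 18636 (.leaf 0xf0a0a0003) (.leaf 0x48cb))))) (.node 18642 (.node 18639 (.node 18638 (.leaf 0x30305020202010802040105000c) (.leaf 0x0)) (.node 18640 (.leaf 0xb0001) (.node 18641 (.leaf 0x0) (.leaf 0x907000900090006)))) (.node 18645 (.node 18643 (.leaf 0x0) (.node 18644 (.leaf 0xd0b0b0003) (.leaf 0x10402020900000007))) (.node 18646 (.leaf 0x0) (.node 18647 (.leaf 0x0) (.leaf 0xb0b0a0003))))))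

def argWS_1648 : Store := (.node 18659 (.node 18653 (.node 18650 (.node 18649 (.leaf 0x200090206020802040105000b) (.leaf 0x0)) (.node 18651 (.leaf 0x0) (.node 18652 (.leaf 0x48da0048d7) (.leaf 0x1020901060005)))) (.node 18656 (.node 18654 (.leaf 0x0) (.node 18655 (.leaf 0xb0f0a0003) (.leaf 0x0))) (.node 18657 (.leaf 0x70109080600000703040103000c) (.node 18658 (.leaf 0x0) (.leaf 0xb0f0002))))) (.node 18665 (.node 18662 (.node 18660 (.leaf 0x509000902020007010009) (.node 18661 (.leaf 0x0) (.leaf 0xb0a0002))) (.node 18663 (.leaf 0x0) (.node 18664 (.leaf 0x900090206020202000701000b) (.leaf 0x0)))) (.node 18668 (.node 18666 (.leaf 0xb0f0002) (.node 18667 (.leaf 0x0) (.leaf 0x605090206020802040105000b))) (.node 18669 (.leaf 0x0) (.node 18670 (.leaf 0xd0b0b0003) (.leaf 0x0))))))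

def argWS_1649 : Store := (.node 18648 argWS_1647 argWS_1648)

def argWS_1650 : Store := (.node 18626 argWS_1646 argWS_1649)

def argWS_1651 : Store := (.node 18682 (.node 18676 (.node 18673 (.node 18672 (.leaf 0x48ee0048ea) (.leaf 0x40206030005)) (.node 18674 (.leaf 0x0) (.node 18675 (.leaf 0xb0b0002) (.leaf 0x0)))) (.node 18679 (.node 18677 (.leaf 0x40300090000090202000701000c) (.node 18678 (.leaf 0x0) (.leaf 0xf0a0a0003))) (.node 18680 (.leaf 0x903010102000006) (.node 18681 (.leaf 0x0) (.leaf 0xf0a0002))))) (.node 18687 (.node 18684 (.node 18683 (.leaf 0x0) (.leaf 0xb0a0f0003)) (.node 18685 (.leaf 0xe0001) (.node 18686 (.leaf 0x48fc0048fb) (.leaf 0xa0f0b0b0004)))) (.node 18690 (.node 18688 (.leaf 0x0) (.node 18689 (.leaf 0x5030500000300000802040105000d) (.leaf 0x0))) (.node 18691 (.leaf 0xb0b0a0003) (.node 18692 (.leaf 0x805000007030401030009) (.leaf 0x0))))))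

def argWS_1652 : Store := (.node 18704 (.node 18698 (.node 18695 (.node 18694 (.leaf 0xa0f0002) (.leaf 0x0)) (.node 18696 (.leaf 0x130c0011ca) (.node 18697 (.leaf 0x201090402000703040103000b) (.leaf 0x0)))) (.node 18701 (.node 18699 (.leaf 0xe0a0002) (.node 18700 (.leaf 0x0) (.leaf 0x701010207030006))) (.node 18702 (.leaf 0x0) (.node 18703 (.leaf 0xb0f0a0003) (.leaf 0xa0f0b0b0004))))) (.node 18710 (.node 18707 (.node 18705 (.leaf 0x0) (.node 18706 (.leaf 0x30901090005) (.leaf 0x0))) (.node 18708 (.leaf 0x0) (.node 18709 (.leaf 0x4020503080005) (.leaf 0x0)))) (.node 18713 (.node 18711 (.leaf 0xf0b0b0a0a0005) (.node 18712 (.leaf 0x0) (.leaf 0xb0f0a0003))) (.node 18714 (.leaf 0x4918004917) (.node 18715 (.leaf 0x50106060202000701000a) (.leaf 0x0))))))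

def argWS_1653 : Store := (.node 18693 argWS_1651 argWS_1652)

def argWS_1654 : Store := (.node 18727 (.node 18721 (.node 18718 (.node 18717 (.leaf 0xe0001) (.leaf 0x0)) (.node 18719 (.leaf 0xe0a0002) (.node 18720 (.leaf 0x0) (.leaf 0x0)))) (.node 18724 (.node 18722 (.leaf 0xd0001) (.node 18723 (.leaf 0x7000601050002000703040103000d) (.leaf 0x0))) (.node 18725 (.leaf 0x0) (.node 18726 (.leaf 0xf0b0002) (.leaf 0x4925004924))))) (.node 18733 (.node 18730 (.node 18728 (.leaf 0x0) (.node 18729 (.leaf 0xf0b0a0003) (.leaf 0x0))) (.node 18731 (.leaf 0x402050206030006) (.node 18732 (.leaf 0x0) (.leaf 0xb0001)))) (.node 18736 (.node 18734 (.leaf 0x7020901060006) (.node 18735 (.leaf 0x0) (.leaf 0xa0a0002))) (.node 18737 (.leaf 0x0) (.node 18738 (.leaf 0xa0001) (.leaf 0x4931004930))))))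

def argWS_1655 : Store := (.node 18750 (.node 18744 (.node 18741 (.node 18740 (.leaf 0xb0a0002) (.leaf 0x0)) (.node 18742 (.leaf 0x20000070209020802040105000c) (.node 18743 (.leaf 0x0) (.leaf 0x20002090009000703040103000c)))) (.node 18747 (.node 18745 (.leaf 0x0) (.node 18746 (.leaf 0xd0001) (.leaf 0x0))) (.node 18748 (.leaf 0x493a000833) (.node 18749 (.leaf 0x1020207030005) (.leaf 0x0))))) (.node 18756 (.node 18753 (.node 18751 (.leaf 0xb0a0a0003) (.node 18752 (.leaf 0x0) (.leaf 0xf0001))) (.node 18754 (.leaf 0x0) (.node 18755 (.leaf 0x0) (.leaf 0x3070006020702010202000701000d)))) (.node 18759 (.node 18757 (.leaf 0x0) (.node 18758 (.leaf 0xe0d0002) (.leaf 0x0))) (.node 18760 (.leaf 0xd0b0002) (.node 18761 (.leaf 0x3a49004947) (.leaf 0x30007000903000703040103000c))))))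

def argWS_1656 : Store := (.node 18739 argWS_1654 argWS_1655)

def argWS_1657 : Store := (.node 18716 argWS_1653 argWS_1656)

def argWS_1658 : Store := (.node 18671 argWS_1650 argWS_1657)

def argWS_1659 : Store := (.node 18581 argWS_1643 argWS_1658)

def argWS_1660 : Store := (.node 18401 argWS_1628 argWS_1659)

def argWS_1661 : Store := (.node 18040 argWS_1597 argWS_1660)

def argWS_1662 : Store := (.node 18773 (.node 18767 (.node 18764 (.node 18763 (.leaf 0x0) (.leaf 0xf0a0002)) (.node 18765 (.leaf 0x0) (.node 18766 (.leaf 0x5000003010802040105000a) (.leaf 0x0)))) (.node 18770 (.node 18768 (.leaf 0xa0f0002) (.node 18769 (.leaf 0xa0001) (.leaf 0x2040206030005))) (.node 18771 (.leaf 0x0) (.node 18772 (.leaf 0xf0b0002) (.leaf 0x0))))) (.node 18778 (.node 18775 (.node 18774 (.leaf 0x4954) (.leaf 0xa0f0002)) (.node 18776 (.leaf 0x0) (.node 18777 (.leaf 0x306020702010802040105000b) (.leaf 0x0)))) (.node 18781 (.node 18779 (.leaf 0xf0b0a0a0004) (.node 18780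 (.leaf 0x2000601050002000703040103000e) (.leaf 0x0))) (.node 18782 (.leaf 0xf0b0002) (.node 18783 (.leaf 0x0) (.leaf 0x9040002080400000703040103000d))))))

def argWS_1663 : Store := (.node 18795 (.node 18789 (.node 18786 (.node 18785 (.leaf 0x0) (.leaf 0xf0a0a0003)) (.node 18787 (.leaf 0x0) (.node 18788 (.leaf 0xf0b0b0a0a0005) (.leaf 0x0)))) (.node 18792 (.node 18790 (.leaf 0x4964004962) (.node 18791 (.leaf 0xe0a0a0003) (.leaf 0x0))) (.node 18793 (.leaf 0x702000003010202000701000b) (.node 18794 (.leaf 0x0) (.leaf 0xb0f0002))))) (.node 18801 (.node 18798 (.node 18796 (.leaf 0xb0b0002) (.node 18797 (.leaf 0x60301040005000703040103000c) (.leaf 0x0))) (.node 18799 (.leaf 0xa0f0002) (.node 18800 (.leaf 0x0) (.leaf 0x8000207020007010009)))) (.node 18804 (.node 18802 (.leaf 0x0) (.node 18803 (.leaf 0xf0001) (.leaf 0x0))) (.node 18805 (.leaf 0x497300496f) (.node 18806 (.leaf 0x201060207020703040103000b) (.leaf 0x0))))))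

def argWS_1664 : Store := (.node 18784 argWS_1662 argWS_1663)

def argWS_1665 : Store := (.node 18818 (.node 18812 (.node 18809 (.node 18808 (.leaf 0xf0b0b0a0004) (.leaf 0x0)) (.node 18810 (.leaf 0xf0b0a0003) (.node 18811 (.leaf 0x0) (.leaf 0x0)))) (.node 18815 (.node 18813 (.leaf 0x20506030500040007) (.node 18814 (.leaf 0x0) (.leaf 0xf0b0b0a0004))) (.node 18816 (.leaf 0x0) (.node 18817 (.leaf 0xe0d0002) (.leaf 0x40402020900000007))))) (.node 18823 (.node 18820 (.node 18819 (.leaf 0x0) (.leaf 0x0)) (.node 18821 (.leaf 0x4983004980) (.node 18822 (.leaf 0x900000300000202000701000b) (.leaf 0x0)))) (.node 18826 (.node 18824 (.leaf 0xe0a0002) (.node 18825 (.leaf 0x0) (.leaf 0x20202020900000007))) (.node 18827 (.leaf 0x0) (.node 18828 (.leaf 0xb0b0a0003) (.leaf 0xf0b0b0003))))))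

def argWS_1666 : Store := (.node 18840 (.node 18834 (.node 18831 (.node 18830 (.leaf 0xe0a0002) (.leaf 0x498d)) (.node 18832 (.leaf 0x2010900090005) (.node 18833 (.leaf 0x0) (.leaf 0xf0b0b0a0004)))) (.node 18837 (.node 18835 (.leaf 0x0) (.node 18836 (.leaf 0x0) (.leaf 0xf0b0b0a0a0005))) (.node 18838 (.leaf 0xf0a0a0003) (.node 18839 (.leaf 0x1070703060802040105000a) (.leaf 0x0))))) (.node 18846 (.node 18843 (.node 18841 (.leaf 0xa0f0b0003) (.node 18842 (.leaf 0x0) (.leaf 0x60201020106060802040105000c))) (.node 18844 (.leaf 0x0) (.node 18845 (.leaf 0xa0a0002) (.leaf 0x0)))) (.node 18849 (.node 18847 (.leaf 0x479200499d) (.node 18848 (.leaf 0xf0a0002) (.leaf 0x0))) (.node 18850 (.leaf 0xb0a0f0003) (.node 18851 (.leaf 0x0) (.leaf 0x102020000030703040103000b))))))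

def argWS_1667 : Store := (.node 18829 argWS_1665 argWS_1666)

def argWS_1668 : Store := (.node 18807 argWS_1664 argWS_1667)

def argWS_1669 : Store := (.node 18863 (.node 18857 (.node 18854 (.node 18853 (.leaf 0x0) (.leaf 0xf0a0a0003)) (.node 18855 (.leaf 0x0) (.node 18856 (.leaf 0x2090208020401050008) (.leaf 0x0)))) (.node 18860 (.node 18858 (.leaf 0xe0a0002) (.node 18859 (.leaf 0x0) (.leaf 0x49aa00422e))) (.node 18861 (.leaf 0xf0b0b0a0004) (.node 18862 (.leaf 0x0) (.leaf 0xf0b0a0a0004))))) (.node 18868 (.node 18865 (.node 18864 (.leaf 0x0) (.leaf 0x0)) (.node 18866 (.leaf 0x6020901090005) (.node 18867 (.leaf 0x0) (.leaf 0x0)))) (.node 18871 (.node 18869 (.leaf 0x1030005020202010802040105000d) (.node 18870 (.leaf 0x0) (.leaf 0xe0a0a0003))) (.node 18872 (.leaf 0x0) (.node 18873 (.leaf 0x401090000090006) (.leaf 0x0))))))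

def argWS_1670 : Store := (.node 18885 (.node 18879 (.node 18876 (.node 18875 (.leaf 0xa0f0b0003) (.leaf 0x0)) (.node 18877 (.leaf 0x49bb0049b7) (.node 18878 (.leaf 0x0) (.leaf 0xa0f0b0003)))) (.node 18882 (.node 18880 (.leaf 0x0) (.node 18881 (.leaf 0xb0b0a0a0004) (.leaf 0x0))) (.node 18883 (.leaf 0x0) (.node 18884 (.leaf 0x400030003030604000703040103000e) (.leaf 0x0))))) (.node 18891 (.node 18888 (.node 18886 (.leaf 0xf0b0a0a0004) (.node 18887 (.leaf 0x0) (.leaf 0xe0a0002))) (.node 18889 (.leaf 0x20500020804000202000701000c) (.node 18890 (.leaf 0x0) (.leaf 0xb0a0a0003)))) (.node 18894 (.node 18892 (.leaf 0x0) (.node 18893 (.leaf 0x49cb0049c7) (.leaf 0xd0001))) (.node 18895 (.leaf 0x0) (.node 18896 (.leaf 0x202000004080703040103000b) (.leaf 0x0))))))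

def argWS_1671 : Store := (.node 18874 argWS_1669 argWS_1670)

def argWS_1672 : Store := (.node 18908 (.node 18902 (.node 18899 (.node 18898 (.leaf 0xa0001) (.leaf 0x704000408010802040105000b)) (.node 18900 (.leaf 0x0) (.node 18901 (.leaf 0xf0a0a0003) (.leaf 0x0)))) (.node 18905 (.node 18903 (.leaf 0x6010201070206000202000701000d) (.node 18904 (.leaf 0x0) (.leaf 0xb0f0a0a0004))) (.node 18906 (.leaf 0x0) (.node 18907 (.leaf 0x30700090806000007) (.leaf 0x0))))) (.node 18913 (.node 18910 (.node 18909 (.leaf 0xb0f0a0a0004) (.leaf 0x0)) (.node 18911 (.leaf 0x49dd0049d9) (.node 18912 (.leaf 0x0) (.leaf 0xb0b0a0a0004)))) (.node 18916 (.node 18914 (.leaf 0x0) (.node 18915 (.leaf 0x40904020005) (.leaf 0x0))) (.node 18917 (.leaf 0xf0b0b0a0004) (.node 18918 (.leaf 0xe0d0002) (.leaf 0x5020002080400000703040103000d))))))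

def argWS_1673 : Store := (.node 18930 (.node 18924 (.node 18921 (.node 18920 (.leaf 0x0) (.leaf 0xb0a0a0003)) (.node 18922 (.leaf 0x0) (.node 18923 (.leaf 0x49e9) (.leaf 0x6000007000902000701000a)))) (.node 18927 (.node 18925 (.leaf 0x0) (.node 18926 (.leaf 0xb0a0f0003) (.leaf 0x90503070206000202000701000c))) (.node 18928 (.leaf 0x0) (.node 18929 (.leaf 0xd0001) (.leaf 0x0))))) (.node 18936 (.node 18933 (.node 18931 (.leaf 0x60609020602000703040103000c) (.node 18932 (.leaf 0x0) (.leaf 0xb0a0002))) (.node 18934 (.leaf 0x0) (.node 18935 (.leaf 0xb0a0f0003) (.leaf 0x49f60049f5)))) (.node 18939 (.node 18937 (.leaf 0xe0a0002) (.node 18938 (.leaf 0x0) (.leaf 0xb0f0002))) (.node 18940 (.leaf 0x0) (.node 18941 (.leaf 0x0) (.leaf 0xf0b0b0a0004))))))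

def argWS_1674 : Store := (.node 18919 argWS_1672 argWS_1673)

def argWS_1675 : Store := (.node 18897 argWS_1671 argWS_1674)

def argWS_1676 : Store := (.node 18852 argWS_1668 argWS_1675)

def argWS_1677 : Store := (.node 18953 (.node 18947 (.node 18944 (.node 18943 (.leaf 0x905030901090202000701000b) (.leaf 0x0)) (.node 18945 (.leaf 0xe0a0002) (.node 18946 (.leaf 0x0) (.leaf 0x5000003010005)))) (.node 18950 (.node 18948 (.leaf 0x0) (.node 18949 (.leaf 0xe0001) (.leaf 0x0))) (.node 18951 (.leaf 0x4a05004a01) (.node 18952 (.leaf 0xa0f0b0b0004) (.leaf 0x0))))) (.node 18958 (.node 18955 (.node 18954 (.leaf 0xb0a0f0003) (.leaf 0x0)) (.node 18956 (.leaf 0x0) (.node 18957 (.leaf 0x701040005000703040103000b) (.leaf 0x0)))) (.node 18961 (.node 18959 (.leaf 0xb0b0a0003) (.node 18960 (.leaf 0x0) (.leaf 0x6050101090805000703040103000d))) (.node 18962 (.leaf 0x0) (.node 18963 (.leaf 0x0) (.leaf 0x10201010200000703040103000c))))))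

def argWS_1678 : Store := (.node 18975 (.node 18969 (.node 18966 (.node 18965 (.leaf 0x0) (.leaf 0xf0b0b0a0004)) (.node 18967 (.leaf 0x0) (.node 18968 (.leaf 0x4a16004a12) (.leaf 0xb0f0a0003)))) (.node 18972 (.node 18970 (.leaf 0x0) (.node 18971 (.leaf 0x9000400050202000701000b) (.leaf 0x0))) (.node 18973 (.leaf 0xf0b0b0a0a0005) (.node 18974 (.leaf 0x403070209020202000701000b) (.leaf 0x0))))) (.node 18981 (.node 18978 (.node 18976 (.leaf 0xf0b0b0003) (.node 18977 (.leaf 0x0) (.leaf 0x305070209020006))) (.node 18979 (.leaf 0x0) (.node 18980 (.leaf 0xf0b0b0a0004) (.leaf 0x0)))) (.node 18984 (.node 18982 (.leaf 0x70006030500040202000701000c) (.node 18983 (.leaf 0x0) (.leaf 0xb0b0a0003))) (.node 18985 (.leaf 0x0) (.node 18986 (.leaf 0x4a28004a24) (.leaf 0x20401090000090007))))))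

def argWS_1679 : Store := (.node 18964 argWS_1677 argWS_1678)

def argWS_1680 : Store := (.node 18998 (.node 18992 (.node 18989 (.node 18988 (.leaf 0x0) (.leaf 0xf0b0a0a0004)) (.node 18990 (.leaf 0x0) (.node 18991 (.leaf 0x102020400050006) (.leaf 0x0)))) (.node 18995 (.node 18993 (.leaf 0xe0a0a0003) (.node 18994 (.leaf 0x902020804000202000701000b) (.leaf 0x0))) (.node 18996 (.leaf 0xf0a0002) (.node 18997 (.leaf 0x0) (.leaf 0x3050206040802040105000b))))) (.node 19003 (.node 19000 (.node 18999 (.leaf 0x0) (.leaf 0xf0001)) (.node 19001 (.leaf 0x0) (.node 19002 (.leaf 0x4a38) (.leaf 0x104070009030006)))) (.node 19006 (.node 19004 (.leaf 0x0) (.node 19005 (.leaf 0xf0a0a0003) (.leaf 0x0))) (.node 19007 (.leaf 0x702020900000202000701000c) (.node 19008 (.leaf 0x0) (.leaf 0xf0b0b0a0a0005))))))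

def argWS_1681 : Store := (.node 19020 (.node 19014 (.node 19011 (.node 19010 (.leaf 0xb0001) (.leaf 0x4a41)) (.node 19012 (.leaf 0xd0b0002) (.node 19013 (.leaf 0x0) (.leaf 0xa0f0b0b0004)))) (.node 19017 (.node 19015 (.leaf 0x0) (.node 19016 (.leaf 0x0) (.leaf 0x0))) (.node 19018 (.leaf 0x2090202020007010008) (.node 19019 (.leaf 0x0) (.leaf 0xd0b0002))))) (.node 19026 (.node 19023 (.node 19021 (.leaf 0x0) (.node 19022 (.leaf 0x4a4c) (.leaf 0xb0b0a0003))) (.node 19024 (.leaf 0x0) (.node 19025 (.leaf 0x20900030000000703040103000c) (.leaf 0x0)))) (.node 19029 (.node 19027 (.leaf 0xb0f0a0a0004) (.node 19028 (.leaf 0xb0b0a0003) (.leaf 0x4a53))) (.node 19030 (.leaf 0x20903010904020202000701000c) (.node 19031 (.leaf 0x0) (.leaf 0xa0f0002))))))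

def argWS_1682 : Store := (.node 19009 argWS_1680 argWS_1681)

def argWS_1683 : Store := (.node 18987 argWS_1679 argWS_1682)

def argWS_1684 : Store := (.node 19043 (.node 19037 (.node 19034 (.node 19033 (.leaf 0x0) (.leaf 0xb0a0f0003)) (.node 19035 (.leaf 0x0) (.node 19036 (.leaf 0x0) (.leaf 0x8030000000300000008)))) (.node 19040 (.node 19038 (.leaf 0x0) (.node 19039 (.leaf 0xb0a0002) (.leaf 0x0))) (.node 19041 (.leaf 0xe0a0a0003) (.node 19042 (.leaf 0x4a60) (.leaf 0x40300020106060802040105000c))))) (.node 19048 (.node 19045 (.node 19044 (.leaf 0x0) (.leaf 0xb0a0f0003)) (.node 19046 (.leaf 0x0) (.node 19047 (.leaf 0x602010703060202000701000b) (.leaf 0x0)))) (.node 19051 (.node 19049 (.leaf 0xf0a0a0003) (.node 19050 (.leaf 0x2060009020602000703040103000d) (.leaf 0x0))) (.node 19052 (.leaf 0xe0a0002) (.node 19053 (.leaf 0x0) (.leaf 0xb0a0002))))))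

def argWS_1685 : Store := (.node 19065 (.node 19059 (.node 19056 (.node 19055 (.leaf 0x4a6d004a6c) (.leaf 0x300090806000202000701000b)) (.node 19057 (.leaf 0x0) (.node 19058 (.leaf 0xe0d0002) (.leaf 0x0)))) (.node 19062 (.node 19060 (.leaf 0x1070308020401050008) (.node 19061 (.leaf 0x0) (.leaf 0xb0f0a0003))) (.node 19063 (.leaf 0x8000402000003010202000701000d) (.node 19064 (.leaf 0x0) (.leaf 0xd0001))))) (.node 19071 (.node 19068 (.node 19066 (.leaf 0x0) (.node 19067 (.leaf 0x20202020703000703040103000c) (.leaf 0x0))) (.node 19069 (.leaf 0xf0b0a0a0004) (.node 19070 (.leaf 0x0) (.leaf 0x4a7d)))) (.node 19074 (.node 19072 (.leaf 0xe0a0002) (.node 19073 (.leaf 0x0) (.leaf 0x20901070009030802040105000c))) (.node 19075 (.leaf 0x0) (.node 19076 (.leaf 0xb0b0a0003) (.leaf 0x4000009020602000703040103000d))))))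

def argWS_1686 : Store := (.node 19054 argWS_1684 argWS_1685)

def argWS_1687 : Store := (.node 19088 (.node 19082 (.node 19079 (.node 19078 (.leaf 0x0) (.leaf 0xb0a0a0003)) (.node 19080 (.leaf 0x0) (.node 19081 (.leaf 0x40304090000090802040105000c) (.leaf 0x0)))) (.node 19085 (.node 19083 (.leaf 0xb0b0a0a0004) (.node 19084 (.leaf 0x0) (.leaf 0x600050206040802040105000c))) (.node 19086 (.leaf 0x0) (.node 19087 (.leaf 0xb0f0a0a0004) (.leaf 0x0))))) (.node 19093 (.node 19090 (.node 19089 (.leaf 0x4a8f004a8b) (.leaf 0xa0001)) (.node 19091 (.leaf 0x0) (.node 19092 (.leaf 0x90002090106000703040103000c) (.leaf 0x0)))) (.node 19096 (.node 19094 (.leaf 0xb0a0f0003) (.node 19095 (.leaf 0x800040009020602000703040103000e) (.leaf 0x0))) (.node 19097 (.leaf 0x0) (.node 19098 (.leaf 0x8000900090202000701000a) (.leaf 0x0))))))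

def argWS_1688 : Store := (.node 19110 (.node 19104 (.node 19101 (.node 19100 (.leaf 0xa0f0b0b0004) (.leaf 0x0)) (.node 19102 (.leaf 0x90008020401050008) (.node 19103 (.leaf 0x0) (.leaf 0xb0a0a0003)))) (.node 19107 (.node 19105 (.leaf 0x0) (.node 19106 (.leaf 0x4aa0004a9c) (.leaf 0xe0a0a0003))) (.node 19108 (.leaf 0x0) (.node 19109 (.leaf 0x204030900090802040105000b) (.leaf 0x0))))) (.node 19116 (.node 19113 (.node 19111 (.leaf 0xf0001) (.node 19112 (.leaf 0x4000603000703040103000a) (.leaf 0x0))) (.node 19114 (.leaf 0xa0f0002) (.node 19115 (.leaf 0x0) (.leaf 0x1020102090106000703040103000d)))) (.node 19119 (.node 19117 (.leaf 0x0) (.node 19118 (.leaf 0xe0a0002) (.leaf 0x0))) (.node 19120 (.leaf 0xb0001) (.node 19121 (.leaf 0x4aaf004aae) (.leaf 0x20202000003010202000701000c))))))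

def argWS_1689 : Store := (.node 19099 argWS_1687 argWS_1688)

def argWS_1690 : Store := (.node 19077 argWS_1686 argWS_1689)

def argWS_1691 : Store := (.node 19032 argWS_1683 argWS_1690)

def argWS_1692 : Store := (.node 18942 argWS_1676 argWS_1691)

def argWS_1693 : Store := (.node 19133 (.node 19127 (.node 19124 (.node 19123 (.leaf 0x0) (.leaf 0xf0b0b0a0004)) (.node 19125 (.leaf 0x0) (.node 19126 (.leaf 0xb0f0a0a0004) (.leaf 0x0)))) (.node 19130 (.node 19128 (.leaf 0x0) (.node 19129 (.leaf 0xd0001) (.leaf 0x500050206040802040105000b))) (.node 19131 (.leaf 0x0) (.node 19132 (.leaf 0xf0b0b0003) (.leaf 0x0))))) (.node 19138 (.node 19135 (.node 19134 (.leaf 0x600020804000006) (.leaf 0x0)) (.node 19136 (.leaf 0xe0a0a0003) (.node 19137 (.leaf 0x0) (.leaf 0x4ac0004abc)))) (.node 19141 (.node 19139 (.leaf 0xb0001) (.node 19140 (.leaf 0x0) (.leaf 0xb0b0a0003))) (.node 19142 (.leaf 0x0) (.node 19143 (.leaf 0x0) (.leaf 0xb0b0a0003))))))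

def argWS_1694 : Store := (.node 19155 (.node 19149 (.node 19146 (.node 19145 (.leaf 0x502000401050006) (.leaf 0x0)) (.node 19147 (.leaf 0xb0b0002) (.node 19148 (.leaf 0x0) (.leaf 0x90306010500020802040105000c)))) (.node 19152 (.node 19150 (.leaf 0x0) (.node 19151 (.leaf 0xa0f0b0b0004) (.leaf 0x0))) (.node 19153 (.leaf 0x4acf004acb) (.node 19154 (.leaf 0xd0001) (.leaf 0x0))))) (.node 19161 (.node 19158 (.node 19156 (.leaf 0xf0b0b0a0a0005) (.node 19157 (.leaf 0x0) (.leaf 0x0))) (.node 19159 (.leaf 0x204000003010802040105000b) (.node 19160 (.leaf 0x0) (.leaf 0xe0a0a0003)))) (.node 19164 (.node 19162 (.leaf 0x0) (.node 19163 (.leaf 0xd0001) (.leaf 0x0))) (.node 19165 (.leaf 0x16d0004adb) (.node 19166 (.leaf 0x10702020900000802040105000c) (.leaf 0x0))))))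

def argWS_1695 : Store := (.node 19144 argWS_1693 argWS_1694)

def argWS_1696 : Store := (.node 19178 (.node 19172 (.node 19169 (.node 19168 (.leaf 0xf0a0a0003) (.leaf 0x0)) (.node 19170 (.leaf 0x0) (.node 19171 (.leaf 0x20902020900000802040105000c) (.leaf 0x0)))) (.node 19175 (.node 19173 (.leaf 0xa0f0b0b0004) (.node 19174 (.leaf 0x0) (.leaf 0x90306030500040007))) (.node 19176 (.leaf 0x0) (.node 19177 (.leaf 0x0) (.leaf 0x4ae80049a5))))) (.node 19183 (.node 19180 (.node 19179 (.leaf 0x60401010904020202000701000c) (.leaf 0x0)) (.node 19181 (.leaf 0xf0b0a0003) (.node 19182 (.leaf 0x0) (.leaf 0x40304010703060007)))) (.node 19186 (.node 19184 (.leaf 0x0) (.node 19185 (.leaf 0xe0a0a0003) (.leaf 0x80300000004))) (.node 19187 (.leaf 0x0) (.node 19188 (.leaf 0x0) (.leaf 0x4af3000f5e))))))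

def argWS_1697 : Store := (.node 19200 (.node 19194 (.node 19191 (.node 19190 (.leaf 0x70201090402000703040103000c) (.leaf 0x0)) (.node 19192 (.leaf 0xa0001) (.node 19193 (.leaf 0x0) (.leaf 0xb0001)))) (.node 19197 (.node 19195 (.leaf 0x0) (.node 19196 (.leaf 0x0) (.leaf 0x205020004080703040103000b))) (.node 19198 (.leaf 0x0) (.node 19199 (.leaf 0xa0f0002) (.leaf 0x0))))) (.node 19206 (.node 19203 (.node 19201 (.leaf 0x30500000300000802040105000c) (.node 19202 (.leaf 0x0) (.leaf 0x0))) (.node 19204 (.leaf 0x7000703060202000701000a) (.node 19205 (.leaf 0x0) (.leaf 0xd0b0002)))) (.node 19209 (.node 19207 (.leaf 0x0) (.node 19208 (.leaf 0x4b06004b02) (.leaf 0x7000007030401030008))) (.node 19210 (.leaf 0x0) (.node 19211 (.leaf 0xe0a0a0003) (.leaf 0x0))))))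

def argWS_1698 : Store := (.node 19189 argWS_1696 argWS_1697)

def argWS_1699 : Store := (.node 19167 argWS_1695 argWS_1698)

def argWS_1700 : Store := (.node 19223 (.node 19217 (.node 19214 (.node 19213 (.leaf 0x60209000009000703040103000c) (.leaf 0x0)) (.node 19215 (.leaf 0xb0a0f0003) (.node 19216 (.leaf 0x1020102090106000703040103000d) (.leaf 0x0)))) (.node 19220 (.node 19218 (.leaf 0xe0a0002) (.node 19219 (.leaf 0x0) (.leaf 0x90606030500040802040105000c))) (.node 19221 (.leaf 0x0) (.node 19222 (.leaf 0xf0001) (.leaf 0x0))))) (.node 19228 (.node 19225 (.node 19224 (.leaf 0x4b16) (.leaf 0xf0b0b0a0004)) (.node 19226 (.leaf 0x0) (.node 19227 (.leaf 0xb0f0002) (.leaf 0x0)))) (.node 19231 (.node 19229 (.leaf 0x0) (.node 19230 (.leaf 0x90601090402000703040103000c) (.leaf 0x0))) (.node 19232 (.leaf 0x0) (.node 19233 (.leaf 0x70400020804000007) (.leaf 0x0))))))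

def argWS_1701 : Store := (.node 19245 (.node 19239 (.node 19236 (.node 19235 (.leaf 0xd0b0002) (.leaf 0x0)) (.node 19237 (.leaf 0x4b23) (.node 19238 (.leaf 0xa0f0002) (.leaf 0x0)))) (.node 19242 (.node 19240 (.leaf 0x80000030306040802040105000d) (.node 19241 (.leaf 0x0) (.leaf 0xf0b0002))) (.node 19243 (.leaf 0xf0b0002) (.node 19244 (.leaf 0x0) (.leaf 0x30507000903000703040103000c))))) (.node 19251 (.node 19248 (.node 19246 (.leaf 0x0) (.node 19247 (.leaf 0xb0a0a0003) (.leaf 0x0))) (.node 19249 (.leaf 0x2040901060202000701000a) (.node 19250 (.leaf 0x0) (.leaf 0xd0b0002)))) (.node 19254 (.node 19252 (.leaf 0x0) (.node 19253 (.leaf 0x4b33) (.leaf 0xa0f0b0b0004))) (.node 19255 (.leaf 0x0) (.node 19256 (.leaf 0x50003010102000007) (.leaf 0x0))))))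

def argWS_1702 : Store := (.node 19234 argWS_1700 argWS_1701)

def argWS_1703 : Store := (.node 19268 (.node 19262 (.node 19259 (.node 19258 (.leaf 0xf0a0a0003) (.leaf 0xf0a0a0003)) (.node 19260 (.leaf 0xb0a0f0003) (.node 19261 (.leaf 0x4b3b) (.leaf 0x8010103010102000008)))) (.node 19265 (.node 19263 (.leaf 0x0) (.node 19264 (.leaf 0xb0001) (.leaf 0x0))) (.node 19266 (.leaf 0x1040007020902000703040103000d) (.node 19267 (.leaf 0x0) (.leaf 0xb0f0a0003))))) (.node 19273 (.node 19270 (.node 19269 (.leaf 0x3040007030401030008) (.leaf 0x0)) (.node 19271 (.leaf 0xb0f0002) (.node 19272 (.leaf 0x0) (.leaf 0x70206000004)))) (.node 19276 (.node 19274 (.leaf 0x0) (.node 19275 (.leaf 0xd0001) (.leaf 0x0))) (.node 19277 (.leaf 0xa0a0002) (.node 19278 (.leaf 0x4b4c004b4b) (.leaf 0xb0f0002))))))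

def argWS_1704 : Store := (.node 19290 (.node 19284 (.node 19281 (.node 19280 (.leaf 0x0) (.leaf 0x6020901060802040105000a)) (.node 19282 (.leaf 0x0) (.node 19283 (.leaf 0xa0f0b0003) (.leaf 0xb0001)))) (.node 19287 (.node 19285 (.leaf 0x5010202090000000703040103000d) (.node 19286 (.leaf 0x0) (.leaf 0xa0a0002))) (.node 19288 (.leaf 0x0) (.node 19289 (.leaf 0x4b57) (.leaf 0x30403070206000802040105000c))))) (.node 19296 (.node 19293 (.node 19291 (.leaf 0x0) (.node 19292 (.leaf 0xd0001) (.leaf 0x0))) (.node 19294 (.leaf 0x5020108020401050008) (.node 19295 (.leaf 0x0) (.leaf 0xb0a0f0003)))) (.node 19299 (.node 19297 (.leaf 0x2010703060202000701000b) (.node 19298 (.leaf 0x0) (.leaf 0xb0f0a0a0004))) (.node 19300 (.leaf 0x0) (.node 19301 (.leaf 0x10301090806000802040105000c) (.leaf 0x0))))))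

def argWS_1705 : Store := (.node 19279 argWS_1703 argWS_1704)

def argWS_1706 : Store := (.node 19257 argWS_1702 argWS_1705)

def argWS_1707 : Store := (.node 19212 argWS_1699 argWS_1706)

def argWS_1708 : Store := (.node 19313 (.node 19307 (.node 19304 (.node 19303 (.leaf 0xb0b0002) (.leaf 0x0)) (.node 19305 (.leaf 0x307000004080703040103000b) (.node 19306 (.leaf 0x0) (.leaf 0xf0b0b0003)))) (.node 19310 (.node 19308 (.leaf 0x0) (.node 19309 (.leaf 0x4b6b004b67) (.leaf 0xf0b0a0003))) (.node 19311 (.leaf 0x0) (.node 19312 (.leaf 0xf0b0b0003) (.leaf 0x0))))) (.node 19318 (.node 19315 (.node 19314 (.leaf 0x0) (.leaf 0x209000008020401050009)) (.node 19316 (.leaf 0x0) (.node 19317 (.leaf 0xf0a0002) (.leaf 0x0)))) (.node 19321 (.node 19319 (.leaf 0xf0b0b0003) (.node 19320 (.leaf 0x200000408010007) (.leaf 0x0))) (.node 19322 (.leaf 0xe0001) (.node 19323 (.leaf 0x0) (.leaf 0x4b7a004b76))))))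

def argWS_1709 : Store := (.node 19335 (.node 19329 (.node 19326 (.node 19325 (.leaf 0xb0a0f0003) (.leaf 0x0)) (.node 19327 (.leaf 0x7010107020902000703040103000d) (.node 19328 (.leaf 0x0) (.leaf 0xf0b0b0a0004)))) (.node 19332 (.node 19330 (.leaf 0x207030004) (.node 19331 (.leaf 0x0) (.leaf 0xf0b0b0003))) (.node 19333 (.leaf 0x0) (.node 19334 (.leaf 0x3090000090802040105000b) (.leaf 0x0))))) (.node 19341 (.node 19338 (.node 19336 (.leaf 0xd0b0002) (.node 19337 (.leaf 0x0) (.leaf 0x10502070009030007))) (.node 19339 (.leaf 0x0) (.node 19340 (.leaf 0xb0a0002) (.leaf 0x0)))) (.node 19344 (.node 19342 (.leaf 0x4b8c004b88) (.node 19343 (.leaf 0xa0f0b0b0004) (.leaf 0x0))) (.node 19345 (.leaf 0x402020007010007) (.node 19346 (.leaf 0x0) (.leaf 0xa0f0b0003))))))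

def argWS_1710 : Store := (.node 19324 argWS_1708 argWS_1709)

def argWS_1711 : Store := (.node 19358 (.node 19352 (.node 19349 (.node 19348 (.leaf 0x50201010703060202000701000c) (.leaf 0x0)) (.node 19350 (.leaf 0xb0001) (.node 19351 (.leaf 0x0) (.leaf 0x402060308020401050009)))) (.node 19355 (.node 19353 (.leaf 0x0) (.node 19354 (.leaf 0xd0001) (.leaf 0x0))) (.node 19356 (.leaf 0x4b9a003619) (.node 19357 (.leaf 0xa0a0002) (.leaf 0x0))))) (.node 19363 (.node 19360 (.node 19359 (.leaf 0x4030007030401030008) (.leaf 0x0)) (.node 19361 (.leaf 0xb0f0a0a0004) (.node 19362 (.leaf 0x5020002090106000703040103000d) (.leaf 0x0)))) (.node 19366 (.node 19364 (.leaf 0xf0b0002) (.node 19365 (.leaf 0x0) (.leaf 0x40904020005))) (.node 19367 (.leaf 0x0) (.node 19368 (.leaf 0x0) (.leaf 0x90402000003010202000701000c))))))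

def argWS_1712 : Store := (.node 19380 (.node 19374 (.node 19371 (.node 19370 (.leaf 0x0) (.leaf 0xf0b0a0a0004)) (.node 19372 (.leaf 0x0) (.node 19373 (.leaf 0x4bab004ba7) (.leaf 0x20502010703060202000701000c)))) (.node 19377 (.node 19375 (.leaf 0x0) (.node 19376 (.leaf 0xa0001) (.leaf 0x0))) (.node 19378 (.leaf 0x301050206040202000701000b) (.node 19379 (.leaf 0x0) (.leaf 0xa0f0002))))) (.node 19386 (.node 19383 (.node 19381 (.leaf 0x4b2b003609) (.node 19382 (.leaf 0x7030802020007010009) (.leaf 0x0))) (.node 19384 (.leaf 0xb0a0a0003) (.node 19385 (.leaf 0x0) (.leaf 0x20804000202000701000a)))) (.node 19389 (.node 19387 (.leaf 0x0) (.node 19388 (.leaf 0xb0b0002) (.leaf 0x20703060005))) (.node 19390 (.leaf 0x0) (.node 19391 (.leaf 0xb0f0a0a0004) (.leaf 0x0))))))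

def argWS_1713 : Store := (.node 19369 argWS_1711 argWS_1712)

def argWS_1714 : Store := (.node 19347 argWS_1710 argWS_1713)

def argWS_1715 : Store := (.node 19403 (.node 19397 (.node 19394 (.node 19393 (.leaf 0x10903070209020802040105000c) (.leaf 0x0)) (.node 19395 (.leaf 0xb0b0a0003) (.node 19396 (.leaf 0x0) (.leaf 0x4bc3004bbf)))) (.node 19400 (.node 19398 (.leaf 0xb0b0a0a0004) (.node 19399 (.leaf 0x0) (.leaf 0x103090000090802040105000b))) (.node 19401 (.leaf 0x0) (.node 19402 (.leaf 0xb0f0a0003) (.leaf 0x1020201090805000703040103000d))))) (.node 19408 (.node 19405 (.node 19404 (.leaf 0x0) (.leaf 0xb0a0002)) (.node 19406 (.leaf 0x0) (.node 19407 (.leaf 0x50305070206000007) (.leaf 0x0)))) (.node 19411 (.node 19409 (.leaf 0xa0f0002) (.node 19410 (.leaf 0x0) (.leaf 0x4bd1))) (.node 19412 (.leaf 0xd0b0b0003) (.node 19413 (.leaf 0x0) (.leaf 0xb0b0a0003))))))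

def argWS_1716 : Store := (.node 19425 (.node 19419 (.node 19416 (.node 19415 (.leaf 0x0) (.leaf 0x0)) (.node 19417 (.leaf 0x304030301010200000703040103000e) (.node 19418 (.leaf 0x0) (.leaf 0xe0a0a0003)))) (.node 19422 (.node 19420 (.leaf 0x0) (.node 19421 (.leaf 0xa0f0002) (.leaf 0x4bdc))) (.node 19423 (.leaf 0xb0f0a0003) (.node 19424 (.leaf 0x0) (.leaf 0xf0b0002))))) (.node 19431 (.node 19428 (.node 19426 (.leaf 0x0) (.node 19427 (.leaf 0x0) (.leaf 0xb0f0a0003))) (.node 19429 (.leaf 0x20601010703060802040105000c) (.node 19430 (.leaf 0x0) (.leaf 0x0)))) (.node 19434 (.node 19432 (.leaf 0x4be6) (.node 19433 (.leaf 0x5000300000202000701000a) (.leaf 0x0))) (.node 19435 (.leaf 0xe0001) (.node 19436 (.leaf 0x0) (.leaf 0xa0001))))))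

def argWS_1717 : Store := (.node 19414 argWS_1715 argWS_1716)

def argWS_1718 : Store := (.node 19448 (.node 19442 (.node 19439 (.node 19438 (.leaf 0x0) (.leaf 0x0)) (.node 19440 (.leaf 0xb0f0002) (.node 19441 (.leaf 0xd0b0002) (.leaf 0xf0a0002)))) (.node 19445 (.node 19443 (.leaf 0x4bf1004bf0) (.node 19444 (.leaf 0x2060900090005) (.leaf 0x0))) (.node 19446 (.leaf 0xe0001) (.node 19447 (.leaf 0x0) (.leaf 0x3070703060005))))) (.node 19454 (.node 19451 (.node 19449 (.leaf 0x0) (.node 19450 (.leaf 0xf0a0a0003) (.leaf 0x105010102000802040105000b))) (.node 19452 (.leaf 0x0) (.node 19453 (.leaf 0x0) (.leaf 0xf0a0002)))) (.node 19457 (.node 19455 (.leaf 0xe0001) (.node 19456 (.leaf 0x0) (.leaf 0x4bff004bfd))) (.node 19458 (.leaf 0xa0f0b0b0004) (.node 19459 (.leaf 0x0) (.leaf 0x307010703060202000701000b))))))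

def argWS_1719 : Store := (.node 19471 (.node 19465 (.node 19462 (.node 19461 (.leaf 0x0) (.leaf 0xd0b0b0003)) (.node 19463 (.leaf 0x20103080004) (.node 19464 (.leaf 0x0) (.leaf 0x0)))) (.node 19468 (.node 19466 (.leaf 0xb0b0a0003) (.node 19467 (.leaf 0x4c09001835) (.leaf 0xf0b0a0a0004))) (.node 19469 (.leaf 0x0) (.node 19470 (.leaf 0xf0b0b0a0a0005) (.leaf 0x0))))) (.node 19477 (.node 19474 (.node 19472 (.leaf 0x0) (.node 19473 (.leaf 0x2090108020401050008) (.leaf 0x0))) (.node 19475 (.leaf 0xe0001) (.node 19476 (.leaf 0x0) (.leaf 0xb0b0002)))) (.node 19480 (.node 19478 (.leaf 0xb0f0a0003) (.node 19479 (.leaf 0x4c15004c14) (.leaf 0x20002000408010007))) (.node 19481 (.leaf 0x0) (.node 19482 (.leaf 0xf0b0002) (.leaf 0x0))))))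

def argWS_1720 : Store := (.node 19460 argWS_1718 argWS_1719)

def argWS_1721 : Store := (.node 19437 argWS_1717 argWS_1720)

def argWS_1722 : Store := (.node 19392 argWS_1714 argWS_1721)

def argWS_1723 : Store := (.node 19302 argWS_1707 argWS_1722)

def argWS_1724 : Store := (.node 19122 argWS_1692 argWS_1723)

def argWS_1725 : Store := (.node 19494 (.node 19488 (.node 19485 (.node 19484 (.leaf 0x40306010500020802040105000c) (.leaf 0x0)) (.node 19486 (.leaf 0xf0b0b0003) (.node 19487 (.leaf 0xf0b0b0a0004) (.leaf 0xb0a0002)))) (.node 19491 (.node 19489 (.leaf 0x4c1f) (.node 19490 (.leaf 0x8000206040005) (.leaf 0x0))) (.node 19492 (.leaf 0xe0d0002) (.node 19493 (.leaf 0x0) (.leaf 0x1030002000003010802040105000d))))) (.node 19499 (.node 19496 (.node 19495 (.leaf 0x0) (.leaf 0xf0b0a0003)) (.node 19497 (.leaf 0x30403080004) (.node 19498 (.leaf 0x0) (.leaf 0xa0f0b0003)))) (.node 19502 (.node 19500 (.leaf 0x0) (.node 19501 (.leaf 0x4c2b) (.leaf 0xb0001))) (.node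 19503 (.leaf 0x801010206020007010009) (.node 19504 (.leaf 0x0) (.leaf 0xd0b0b0003))))))

def argWS_1726 : Store := (.node 19516 (.node 19510 (.node 19507 (.node 19506 (.leaf 0x0) (.leaf 0xa0001)) (.node 19508 (.leaf 0x8000007000902000701000a) (.node 19509 (.leaf 0x0) (.leaf 0xd0001)))) (.node 19513 (.node 19511 (.leaf 0x0) (.node 19512 (.leaf 0x4c36004c32) (.leaf 0x20502070209020802040105000c))) (.node 19514 (.leaf 0x0) (.node 19515 (.leaf 0xd0b0002) (.leaf 0x0))))) (.node 19522 (.node 19519 (.node 19517 (.leaf 0x2010301090402000703040103000d) (.node 19518 (.leaf 0x0) (.leaf 0xf0b0a0a0004))) (.node 19520 (.leaf 0x9020108020401050008) (.node 19521 (.leaf 0x0) (.leaf 0xb0a0f0003)))) (.node 19525 (.node 19523 (.leaf 0x0) (.node 19524 (.leaf 0x80005020202010008) (.leaf 0x0))) (.node 19526 (.leaf 0xb0a0a0003) (.node 19527 (.leaf 0x0) (.leaf 0x4c46))))))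

def argWS_1727 : Store := (.node 19505 argWS_1725 argWS_1726)

def argWS_1728 : Store := (.node 19539 (.node 19533 (.node 19530 (.node 19529 (.leaf 0xb0001) (.leaf 0x0)) (.node 19531 (.leaf 0x6020108020401050008) (.node 19532 (.leaf 0x0) (.leaf 0xf0b0b0a0a0005)))) (.node 19536 (.node 19534 (.leaf 0x904020703000703040103000b) (.node 19535 (.leaf 0x0) (.leaf 0xf0b0a0a0004))) (.node 19537 (.leaf 0x0) (.node 19538 (.leaf 0x701010207020007010009) (.leaf 0x0))))) (.node 19544 (.node 19541 (.node 19540 (.leaf 0xf0b0a0003) (.leaf 0x0)) (.node 19542 (.leaf 0x6080007030401030008) (.node 19543 (.leaf 0x0) (.leaf 0xb0a0a0003)))) (.node 19547 (.node 19545 (.leaf 0x0) (.node 19546 (.leaf 0x4c58004c54) (.leaf 0xb0a0f0003))) (.node 19548 (.leaf 0x0) (.node 19549 (.leaf 0xb0f0a0003) (.leaf 0x0))))))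

def argWS_1729 : Store := (.node 19561 (.node 19555 (.node 19552 (.node 19551 (.leaf 0x0) (.leaf 0xb0b0002)) (.node 19553 (.leaf 0x6010908050006) (.node 19554 (.leaf 0x0) (.leaf 0xb0f0a0003)))) (.node 19558 (.node 19556 (.leaf 0x0) (.node 19557 (.leaf 0x4c63) (.leaf 0xd0b0b0003))) (.node 19559 (.leaf 0x0) (.node 19560 (.leaf 0x402050603050004000703040103000e) (.leaf 0x0))))) (.node 19567 (.node 19564 (.node 19562 (.leaf 0xf0a0002) (.node 19563 (.leaf 0xb0001) (.leaf 0x70006010500020007))) (.node 19565 (.leaf 0x0) (.node 19566 (.leaf 0xa0f0b0003) (.leaf 0x0)))) (.node 19570 (.node 19568 (.leaf 0x70305070009030802040105000c) (.node 19569 (.leaf 0x0) (.leaf 0xe0a0002))) (.node 19571 (.leaf 0x0) (.node 19572 (.leaf 0x4c72004c6e) (.leaf 0xe0a0a0003))))))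

def argWS_1730 : Store := (.node 19550 argWS_1728 argWS_1729)

def argWS_1731 : Store := (.node 19528 argWS_1727 argWS_1730)

def argWS_1732 : Store := (.node 19584 (.node 19578 (.node 19575 (.node 19574 (.leaf 0x0) (.leaf 0x20207020600000703040103000c)) (.node 19576 (.leaf 0x0) (.node 19577 (.leaf 0xf0b0a0a0004) (.leaf 0xe0d0002)))) (.node 19581 (.node 19579 (.leaf 0x5020006010500020802040105000d) (.node 19580 (.leaf 0x0) (.leaf 0xb0f0a0003))) (.node 19582 (.leaf 0x0) (.node 19583 (.leaf 0x4c7d) (.leaf 0xb0b0002))))) (.node 19589 (.node 19586 (.node 19585 (.leaf 0x0) (.leaf 0x8000007030401030008)) (.node 19587 (.leaf 0x0) (.node 19588 (.leaf 0xf0001) (.leaf 0xf0001)))) (.node 19592 (.node 19590 (.leaf 0xb0a0002) (.node 19591 (.leaf 0x403000003) (.leaf 0x0))) (.node 19593 (.leaf 0xf0b0b0a0a0005) (.node 19594 (.leaf 0x0) (.leaf 0x5000202090000000703040103000d))))))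

def argWS_1733 : Store := (.node 19606 (.node 19600 (.node 19597 (.node 19596 (.leaf 0x0) (.leaf 0xb0a0f0003)) (.node 19598 (.leaf 0x0) (.node 19599 (.leaf 0x4c8d004c89) (.leaf 0x9060002080400000703040103000d)))) (.node 19603 (.node 19601 (.leaf 0x0) (.node 19602 (.leaf 0xb0a0f0003) (.leaf 0x0))) (.node 19604 (.leaf 0xf0b0002) (.node 19605 (.leaf 0x0) (.leaf 0x0))))) (.node 19612 (.node 19609 (.node 19607 (.leaf 0x90201090806000202000701000c) (.node 19608 (.leaf 0x0) (.leaf 0xf0b0a0003))) (.node 19610 (.leaf 0x0) (.node 19611 (.leaf 0xb0f0002) (.leaf 0x4c9a)))) (.node 19615 (.node 19613 (.leaf 0xb0a0a0003) (.node 19614 (.leaf 0x0) (.leaf 0xf0b0b0003))) (.node 19616 (.leaf 0x0) (.node 19617 (.leaf 0x0) (.leaf 0x202020106060802040105000b))))))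

def argWS_1734 : Store := (.node 19595 argWS_1732 argWS_1733)

def argWS_1735 : Store := (.node 19629 (.node 19623 (.node 19620 (.node 19619 (.leaf 0x0) (.leaf 0xa0a0002)) (.node 19621 (.leaf 0x0) (.node 19622 (.leaf 0xb0a0a0003) (.leaf 0x605020901060006)))) (.node 19626 (.node 19624 (.leaf 0x0) (.node 19625 (.leaf 0x0) (.leaf 0x4ca8004ca5))) (.node 19627 (.leaf 0x0) (.node 19628 (.leaf 0xf0b0a0003) (.leaf 0x0))))) (.node 19634 (.node 19631 (.node 19630 (.leaf 0xa0f0b0b0004) (.leaf 0x0)) (.node 19632 (.leaf 0x0) (.node 19633 (.leaf 0xf0a0a0003) (.leaf 0x9040901090202000701000a)))) (.node 19637 (.node 19635 (.leaf 0x0) (.node 19636 (.leaf 0xd0001) (.leaf 0x0))) (.node 19638 (.leaf 0x902090202020007010009) (.node 19639 (.leaf 0x0) (.leaf 0xb0f0002))))))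

def argWS_1736 : Store := (.node 19651 (.node 19645 (.node 19642 (.node 19641 (.leaf 0x0) (.leaf 0x4cb8004cb4)) (.node 19643 (.leaf 0xa0a0002) (.node 19644 (.leaf 0x0) (.leaf 0x50206010500020202000701000c)))) (.node 19648 (.node 19646 (.leaf 0x0) (.node 19647 (.leaf 0xb0a0a0003) (.leaf 0x702010908050202000701000b))) (.node 19649 (.leaf 0x0) (.node 19650 (.leaf 0xe0001) (.leaf 0x0))))) (.node 19657 (.node 19654 (.node 19652 (.leaf 0x8000002080400000703040103000d) (.node 19653 (.leaf 0x0) (.leaf 0xa0f0b0003))) (.node 19655 (.leaf 0x0) (.node 19656 (.leaf 0x4cc6) (.leaf 0xd0b0b0003)))) (.node 19660 (.node 19658 (.leaf 0x0) (.node 19659 (.leaf 0xb0b0002) (.leaf 0x0))) (.node 19661 (.leaf 0x0) (.node 19662 (.leaf 0x805000400050202000701000b) (.leaf 0x0))))))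

def argWS_1737 : Store := (.node 19640 argWS_1735 argWS_1736)

def argWS_1738 : Store := (.node 19618 argWS_1734 argWS_1737)

def argWS_1739 : Store := (.node 19573 argWS_1731 argWS_1738)

def argWS_1740 : Store := (.node 19674 (.node 19668 (.node 19665 (.node 19664 (.leaf 0xf0b0b0a0a0005) (.leaf 0x0)) (.node 19666 (.leaf 0x80300000408010802040105000c) (.node 19667 (.leaf 0x0) (.leaf 0xd0001)))) (.node 19671 (.node 19669 (.leaf 0x0) (.node 19670 (.leaf 0xb0001) (.leaf 0x4cd5004cd4))) (.node 19672 (.leaf 0x90600090206020202000701000c) (.node 19673 (.leaf 0x0) (.leaf 0xa0a0002))))) (.node 19679 (.node 19676 (.node 19675 (.leaf 0x0) (.leaf 0x2000205020202010008)) (.node 19677 (.leaf 0x0) (.node 19678 (.leaf 0xf0b0a0a0004) (.leaf 0x1090603000703040103000a)))) (.node 19682 (.node 19680 (.leaf 0x0) (.node 19681 (.leaf 0xf0b0b0003) (.leaf 0x0))) (.node 19683 (.leaf 0x7030500030306040802040105000d) (.node 19684 (.leaf 0x0) (.leaf 0xb0a0f0003))))))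

def argWS_1741 : Store := (.node 19696 (.node 19690 (.node 19687 (.node 19686 (.leaf 0x0) (.leaf 0x80101020901060007)) (.node 19688 (.leaf 0x0) (.node 19689 (.leaf 0xa0001) (.leaf 0x0)))) (.node 19693 (.node 19691 (.leaf 0x4ce9004ce5) (.node 19692 (.leaf 0x209000008020401050009) (.leaf 0x0))) (.node 19694 (.leaf 0xf0b0a0003) (.node 19695 (.leaf 0x0) (.leaf 0x408010802040105000b))))) (.node 19702 (.node 19699 (.node 19697 (.leaf 0x0) (.node 19698 (.leaf 0xb0001) (.leaf 0x80000020804000802040105000d))) (.node 19700 (.leaf 0x0) (.node 19701 (.leaf 0xf0a0a0003) (.leaf 0x0)))) (.node 19705 (.node 19703 (.leaf 0x3de8) (.node 19704 (.leaf 0x6010209080600000703040103000d) (.leaf 0x0))) (.node 19706 (.leaf 0xf0a0a0003) (.node 19707 (.leaf 0x0) (.leaf 0x402020900000802040105000b))))))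

def argWS_1742 : Store := (.node 19685 argWS_1740 argWS_1741)

def argWS_1743 : Store := (.node 19719 (.node 19713 (.node 19710 (.node 19709 (.leaf 0x0) (.leaf 0xf0b0b0a0004)) (.node 19711 (.leaf 0x4040807030401030008) (.node 19712 (.leaf 0x0) (.leaf 0x0)))) (.node 19716 (.node 19714 (.leaf 0x4010308000703040103000a) (.node 19715 (.leaf 0x0) (.leaf 0xa0f0b0b0004))) (.node 19717 (.leaf 0x0) (.node 19718 (.leaf 0x4d040034c1) (.leaf 0x5090206020802040105000a))))) (.node 19724 (.node 19721 (.node 19720 (.leaf 0x0) (.leaf 0xe0a0002)) (.node 19722 (.leaf 0x0) (.node 19723 (.leaf 0x70502000003010007) (.leaf 0x0)))) (.node 19727 (.node 19725 (.leaf 0xb0f0a0a0004) (.node 19726 (.leaf 0xf0a0002) (.leaf 0x3090806000006))) (.node 19728 (.leaf 0x0) (.node 19729 (.leaf 0xa0a0002) (.leaf 0x0))))))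

def argWS_1744 : Store := (.node 19741 (.node 19735 (.node 19732 (.node 19731 (.leaf 0x2020202000003010802040105000d) (.leaf 0x0)) (.node 19733 (.leaf 0xa0a0002) (.node 19734 (.leaf 0x0) (.leaf 0x4d15004d11)))) (.node 19738 (.node 19736 (.leaf 0x903000900090802040105000b) (.node 19737 (.leaf 0x0) (.leaf 0xf0b0b0a0004))) (.node 19739 (.leaf 0x0) (.node 19740 (.leaf 0x2090202020007010008) (.leaf 0x0))))) (.node 19747 (.node 19744 (.node 19742 (.leaf 0xe0a0a0003) (.node 19743 (.leaf 0x102000408010802040105000b) (.leaf 0x0))) (.node 19745 (.leaf 0xa0f0b0b0004) (.node 19746 (.leaf 0x0) (.leaf 0x4d21)))) (.node 19750 (.node 19748 (.leaf 0xb0f0002) (.node 19749 (.leaf 0x0) (.leaf 0xd0b0002))) (.node 19751 (.leaf 0x0) (.node 19752 (.leaf 0x0) (.leaf 0xf0b0b0003))))))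

def argWS_1745 : Store := (.node 19730 argWS_1743 argWS_1744)

def argWS_1746 : Store := (.node 19708 argWS_1742 argWS_1745)

def argWS_1747 : Store := (.node 19764 (.node 19758 (.node 19755 (.node 19754 (.leaf 0x60005020604000703040103000c) (.leaf 0x0)) (.node 19756 (.leaf 0xf0a0002) (.node 19757 (.leaf 0x0) (.leaf 0x30402000003010802040105000c)))) (.node 19761 (.node 19759 (.leaf 0x0) (.node 19760 (.leaf 0xe0001) (.leaf 0x0))) (.node 19762 (.leaf 0x4d30004d2c) (.node 19763 (.leaf 0xf0b0b0a0a0005) (.leaf 0x0))))) (.node 19769 (.node 19766 (.node 19765 (.leaf 0x3010703060006) (.leaf 0x0)) (.node 19767 (.leaf 0xf0a0a0003) (.node 19768 (.leaf 0x10300060207020703040103000c) (.leaf 0x0)))) (.node 19772 (.node 19770 (.leaf 0xf0b0b0a0004) (.node 19771 (.leaf 0x0) (.leaf 0x80500020106060802040105000c))) (.node 19773 (.leaf 0x0) (.node 19774 (.leaf 0x0) (.leaf 0xe0a0002))))))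

def argWS_1748 : Store := (.node 19786 (.node 19780 (.node 19777 (.node 19776 (.leaf 0x0) (.leaf 0x4d3f004d3d)) (.node 19778 (.leaf 0xa0f0002) (.node 19779 (.leaf 0x0) (.leaf 0x2000308000703040103000a)))) (.node 19783 (.node 19781 (.leaf 0x0) (.node 19782 (.leaf 0xe0001) (.leaf 0xb0001))) (.node 19784 (.leaf 0x103010202090000000703040103000e) (.node 19785 (.leaf 0x0) (.leaf 0xf0b0b0003))))) (.node 19792 (.node 19789 (.node 19787 (.leaf 0x0) (.node 19788 (.leaf 0x4d4a) (.leaf 0xf0b0b0a0004))) (.node 19790 (.leaf 0x0) (.node 19791 (.leaf 0x602010904020202000701000b) (.leaf 0x0)))) (.node 19795 (.node 19793 (.leaf 0xb0b0a0a0004) (.node 19794 (.leaf 0x9010500020802040105000a) (.leaf 0x0))) (.node 19796 (.leaf 0xd0b0002) (.node 19797 (.leaf 0x0) (.leaf 0xe0a0002))))))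

def argWS_1749 : Store := (.node 19775 argWS_1747 argWS_1748)

def argWS_1750 : Store := (.node 19809 (.node 19803 (.node 19800 (.node 19799 (.leaf 0x4d55004d54) (.leaf 0x1020002080400000703040103000d)) (.node 19801 (.leaf 0x0) (.node 19802 (.leaf 0xa0001) (.leaf 0x0)))) (.node 19806 (.node 19804 (.leaf 0x70400090206020802040105000c) (.node 19805 (.leaf 0x0) (.leaf 0xd0b0002))) (.node 19807 (.leaf 0xb0b0a0003) (.node 19808 (.leaf 0x1040006030500040202000701000d) (.leaf 0x0))))) (.node 19815 (.node 19812 (.node 19810 (.leaf 0xa0f0b0003) (.node 19811 (.leaf 0x0) (.leaf 0xb0a0a0003))) (.node 19813 (.leaf 0x4d63) (.node 19814 (.leaf 0x1020103010102000008) (.leaf 0x0)))) (.node 19818 (.node 19816 (.leaf 0xb0a0f0003) (.node 19817 (.leaf 0x0) (.leaf 0xb0a0a0003))) (.node 19819 (.leaf 0x0) (.node 19820 (.leaf 0x0) (.leaf 0x5010207030802040105000a))))))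

def argWS_1751 : Store := (.node 19832 (.node 19826 (.node 19823 (.node 19822 (.leaf 0x0) (.leaf 0xb0f0a0a0004)) (.node 19824 (.leaf 0x0) (.node 19825 (.leaf 0x20700020804000202000701000c) (.leaf 0x0)))) (.node 19829 (.node 19827 (.leaf 0xf0b0a0a0004) (.node 19828 (.leaf 0x0) (.leaf 0x4d73))) (.node 19830 (.leaf 0x90104020106060202000701000c) (.node 19831 (.leaf 0x0) (.leaf 0xf0b0b0a0004))))) (.node 19838 (.node 19835 (.node 19833 (.leaf 0x0) (.node 19834 (.leaf 0x20200090009000703040103000c) (.leaf 0x0))) (.node 19836 (.leaf 0xf0b0a0a0004) (.node 19837 (.leaf 0x306020702010202000701000c) (.leaf 0x0)))) (.node 19841 (.node 19839 (.leaf 0xb0001) (.node 19840 (.leaf 0x0) (.leaf 0xb0f0a0003))) (.node 19842 (.leaf 0xf0a0002) (.node 19843 (.leaf 0x4d81004d80) (.leaf 0x9000902020007010009))))))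

def argWS_1752 : Store := (.node 19821 argWS_1750 argWS_1751)

def argWS_1753 : Store := (.node 19798 argWS_1749 argWS_1752)

def argWS_1754 : Store := (.node 19753 argWS_1746 argWS_1753)

def argWS_1755 : Store := (.node 19663 argWS_1739 argWS_1754)

def argWS_1756 : Store := (.node 19855 (.node 19849 (.node 19846 (.node 19845 (.leaf 0x0) (.leaf 0xb0b0a0003)) (.node 19847 (.leaf 0x0) (.node 19848 (.leaf 0xb0a0002) (.leaf 0x0)))) (.node 19852 (.node 19850 (.leaf 0x0) (.node 19851 (.leaf 0x705020202010202000701000b) (.leaf 0x0))) (.node 19853 (.leaf 0xf0b0b0a0a0005) (.node 19854 (.leaf 0x0) (.leaf 0x50201010908050007))))) (.node 19860 (.node 19857 (.node 19856 (.leaf 0x0) (.leaf 0xf0b0b0a0a0005)) (.node 19858 (.leaf 0x0) (.node 19859 (.leaf 0xa0f0002) (.leaf 0x4d92004d91)))) (.node 19863 (.node 19861 (.leaf 0xa0001) (.node 19862 (.leaf 0x0) (.leaf 0x6010201050206040008))) (.node 19864 (.leaf 0x0) (.node 19865 (.leaf 0xb0a0f0003) (.leaf 0xa0a0002))))))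

def argWS_1757 : Store := (.node 19877 (.node 19871 (.node 19868 (.node 19867 (.leaf 0xe0001) (.leaf 0x9030000090206020202000701000d)) (.node 19869 (.leaf 0x0) (.node 19870 (.leaf 0xb0a0002) (.leaf 0x0)))) (.node 19874 (.node 19872 (.leaf 0x4d9e004d9a) (.node 19873 (.leaf 0x4090206020202000701000a) (.leaf 0x0))) (.node 19875 (.leaf 0xb0b0002) (.node 19876 (.leaf 0x0) (.leaf 0x1050201090805000703040103000d))))) (.node 19883 (.node 19880 (.node 19878 (.leaf 0x0) (.node 19879 (.leaf 0xb0b0a0a0004) (.leaf 0xf0b0a0a0004))) (.node 19881 (.leaf 0x903000207030802040105000b) (.node 19882 (.leaf 0x0) (.leaf 0xe0d0002)))) (.node 19886 (.node 19884 (.leaf 0x0) (.node 19885 (.leaf 0xf0b0a0a0004) (.leaf 0x4dac004dab))) (.node 19887 (.leaf 0xb0001) (.node 19888 (.leaf 0x0) (.leaf 0xf0b0a0003))))))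

def argWS_1758 : Store := (.node 19866 argWS_1756 argWS_1757)

def argWS_1759 : Store := (.node 19900 (.node 19894 (.node 19891 (.node 19890 (.leaf 0x0) (.leaf 0x0)) (.node 19892 (.leaf 0xd0b0002) (.node 19893 (.leaf 0xb0a0f0003) (.leaf 0x90206020202000701000a)))) (.node 19897 (.node 19895 (.leaf 0x0) (.node 19896 (.leaf 0xe0a0002) (.leaf 0x0))) (.node 19898 (.leaf 0x4db8004db4) (.node 19899 (.leaf 0xb0b0a0a0004) (.leaf 0x0))))) (.node 19905 (.node 19902 (.node 19901 (.leaf 0xf0b0a0003) (.leaf 0x0)) (.node 19903 (.leaf 0x0) (.node 19904 (.leaf 0xf0b0a0a0004) (.leaf 0x6010908050202000701000b)))) (.node 19908 (.node 19906 (.leaf 0x0) (.node 19907 (.leaf 0x0) (.leaf 0xb1e004dc2))) (.node 19909 (.leaf 0x80000020804000802040105000c) (.node 19910 (.leaf 0x0) (.leaf 0x0))))))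

def argWS_1760 : Store := (.node 19922 (.node 19916 (.node 19913 (.node 19912 (.leaf 0xf0b0a0003) (.leaf 0x0)) (.node 19914 (.leaf 0x0) (.node 19915 (.leaf 0xf0b0b0a0004) (.leaf 0x9050300030306040802040105000d)))) (.node 19919 (.node 19917 (.leaf 0x0) (.node 19918 (.leaf 0xf0b0a0003) (.leaf 0x0))) (.node 19920 (.leaf 0x4dce) (.node 19921 (.leaf 0xf0b0b0a0004) (.leaf 0x0))))) (.node 19928 (.node 19925 (.node 19923 (.leaf 0x0) (.node 19924 (.leaf 0x400020106060006) (.leaf 0x0))) (.node 19926 (.leaf 0xd0b0b0003) (.node 19927 (.leaf 0x0) (.leaf 0x60400020901060802040105000c)))) (.node 19931 (.node 19929 (.leaf 0x0) (.node 19930 (.leaf 0x0) (.leaf 0x4dd9004dd6))) (.node 19932 (.leaf 0x7050206040202000701000a) (.node 19933 (.leaf 0x0) (.leaf 0xb0a0a0003))))))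

def argWS_1761 : Store := (.node 19911 argWS_1759 argWS_1760)

def argWS_1762 : Store := (.node 19889 argWS_1758 argWS_1761)

def argWS_1763 : Store := (.node 19945 (.node 19939 (.node 19936 (.node 19935 (.leaf 0x0) (.leaf 0x8010408010802040105000a)) (.node 19937 (.leaf 0x0) (.node 19938 (.leaf 0xb0b0a0a0004) (.leaf 0x8030000090206020202000701000d)))) (.node 19942 (.node 19940 (.leaf 0x0) (.node 19941 (.leaf 0xe0a0a0003) (.leaf 0x0))) (.node 19943 (.leaf 0x402020900000202000701000c) (.node 19944 (.leaf 0x0) (.leaf 0xb0a0002))))) (.node 19950 (.node 19947 (.node 19946 (.leaf 0x0) (.leaf 0x4de9)) (.node 19948 (.leaf 0xf0b0a0a0004) (.node 19949 (.leaf 0x0) (.leaf 0xa0a0002)))) (.node 19953 (.node 19951 (.leaf 0x0) (.node 19952 (.leaf 0x0) (.leaf 0x604000400050006))) (.node 19954 (.leaf 0x0) (.node 19955 (.leaf 0xa0001) (.leaf 0x0))))))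

def argWS_1764 : Store := (.node 19967 (.node 19961 (.node 19958 (.node 19957 (.leaf 0x9050301090402000703040103000d) (.leaf 0x0)) (.node 19959 (.leaf 0xd0b0002) (.node 19960 (.leaf 0x0) (.leaf 0x165a004df7)))) (.node 19964 (.node 19962 (.leaf 0x600020804000007) (.node 19963 (.leaf 0x0) (.leaf 0xb0f0002))) (.node 19965 (.leaf 0x0) (.node 19966 (.leaf 0x20103010703060802040105000c) (.leaf 0x0))))) (.node 19973 (.node 19970 (.node 19968 (.leaf 0xf0b0b0003) (.node 19969 (.leaf 0xf0b0b0003) (.leaf 0x0))) (.node 19971 (.leaf 0xf0a0a0003) (.node 19972 (.leaf 0x4e02000e47) (.leaf 0xa0f0b0003)))) (.node 19976 (.node 19974 (.leaf 0x0) (.node 19975 (.leaf 0xb0b0a0a0004) (.leaf 0x0))) (.node 19977 (.leaf 0x0) (.node 19978 (.leaf 0x304070209020202000701000b) (.leaf 0x0))))))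

def argWS_1765 : Store := (.node 19956 argWS_1763 argWS_1764)

def argWS_1766 : Store := (.node 19990 (.node 19984 (.node 19981 (.node 19980 (.leaf 0xa0f0002) (.leaf 0x0)) (.node 19982 (.leaf 0xb0b0a0003) (.node 19983 (.leaf 0x601020901060006) (.leaf 0x0)))) (.node 19987 (.node 19985 (.leaf 0xf0b0b0a0004) (.node 19986 (.leaf 0x0) (.leaf 0x4e11004e0d))) (.node 19988 (.leaf 0xb0b0a0003) (.node 19989 (.leaf 0x0) (.leaf 0x103070209020802040105000b))))) (.node 19995 (.node 19992 (.node 19991 (.leaf 0x0) (.leaf 0xb0a0a0003)) (.node 19993 (.leaf 0x6040003010102000802040105000d) (.node 19994 (.leaf 0x0) (.leaf 0xf0b0b0003)))) (.node 19998 (.node 19996 (.leaf 0x0) (.node 19997 (.leaf 0xb0f0a0a0004) (.leaf 0xe0a0002))) (.node 19999 (.leaf 0x4e1d004e1c) (.node 20000 (.leaf 0x5020202010202000701000a) (.leaf 0x0))))))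

def argWS_1767 : Store := (.node 20012 (.node 20006 (.node 20003 (.node 20002 (.leaf 0xf0b0a0a0004) (.leaf 0x0)) (.node 20004 (.leaf 0x209010602020007010009) (.node 20005 (.leaf 0x0) (.leaf 0xf0b0b0003)))) (.node 20009 (.node 20007 (.leaf 0xb0f0a0003) (.node 20008 (.leaf 0xf0b0b0a0004) (.leaf 0xb0f0a0a0004))) (.node 20010 (.leaf 0x4e28004e27) (.node 20011 (.leaf 0x0) (.leaf 0xa0f0b0b0004))))) (.node 20018 (.node 20015 (.node 20013 (.leaf 0x0) (.node 20014 (.leaf 0xf0b0a0a0004) (.leaf 0x0))) (.node 20016 (.leaf 0x0) (.node 20017 (.leaf 0x305000408010006) (.leaf 0x0)))) (.node 20021 (.node 20019 (.leaf 0xf0b0a0a0004) (.node 20020 (.leaf 0x0) (.leaf 0x701010904020802040105000b))) (.node 20022 (.leaf 0x0) (.node 20023 (.leaf 0xb0f0a0a0004) (.leaf 0x0))))))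

def argWS_1768 : Store := (.node 20001 argWS_1766 argWS_1767)

def argWS_1769 : Store := (.node 19979 argWS_1765 argWS_1768)

def argWS_1770 : Store := (.node 19934 argWS_1762 argWS_1769)

def argWS_1771 : Store := (.node 20035 (.node 20029 (.node 20026 (.node 20025 (.leaf 0x10201020901060007) (.leaf 0x0)) (.node 20027 (.leaf 0xf0b0a0a0004) (.node 20028 (.leaf 0x0) (.leaf 0x4e3b004e37)))) (.node 20032 (.node 20030 (.leaf 0xa0001) (.node 20031 (.leaf 0x0) (.leaf 0x2090000030000000703040103000d))) (.node 20033 (.leaf 0x0) (.node 20034 (.leaf 0xd0001) (.leaf 0x1020202010606000703040103000d))))) (.node 20040 (.node 20037 (.node 20036 (.leaf 0x0) (.leaf 0xa0a0002)) (.node 20038 (.leaf 0x0) (.node 20039 (.leaf 0x307000003) (.leaf 0x0)))) (.node 20043 (.node 20041 (.leaf 0xe0a0a0003) (.node 20042 (.leaf 0x0) (.leaf 0x20900020804000802040105000c))) (.node 20044 (.leaf 0x0) (.node 20045 (.leaf 0xd0001) (.leaf 0x0))))))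

def argWS_1772 : Store := (.node 20057 (.node 20051 (.node 20048 (.node 20047 (.leaf 0x4e4d004e49) (.leaf 0xb0a0f0003)) (.node 20049 (.leaf 0x0) (.node 20050 (.leaf 0x4030000030306040202000701000d) (.leaf 0x0)))) (.node 20054 (.node 20052 (.leaf 0xb0001) (.node 20053 (.leaf 0x40205090000090007) (.leaf 0x0))) (.node 20055 (.leaf 0xb0b0002) (.node 20056 (.leaf 0x0) (.leaf 0x5020003080202000701000a))))) (.node 20063 (.node 20060 (.node 20058 (.leaf 0x0) (.node 20059 (.leaf 0xe0001) (.leaf 0x0))) (.node 20061 (.leaf 0x4e5b) (.node 20062 (.leaf 0xa0f0b0003) (.leaf 0x0)))) (.node 20066 (.node 20064 (.leaf 0x200080003) (.node 20065 (.leaf 0x0) (.leaf 0x907070209020202000701000b))) (.node 20067 (.leaf 0x0) (.node 20068 (.leaf 0xb0f0a0a0004) (.leaf 0x0))))))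

def argWS_1773 : Store := (.node 20046 argWS_1771 argWS_1772)

def argWS_1774 : Store := (.node 20080 (.node 20074 (.node 20071 (.node 20070 (.leaf 0xb0001) (.leaf 0x4e65003506)) (.node 20072 (.leaf 0x0) (.node 20073 (.leaf 0xe0d0002) (.leaf 0x0)))) (.node 20077 (.node 20075 (.leaf 0x90702000003010202000701000c) (.node 20076 (.leaf 0x0) (.leaf 0xf0a0002))) (.node 20078 (.leaf 0x20900000300000802040105000c) (.node 20079 (.leaf 0x0) (.leaf 0xb0b0002))))) (.node 20085 (.node 20082 (.node 20081 (.leaf 0x0) (.leaf 0x2000207000903000703040103000d)) (.node 20083 (.leaf 0x0) (.node 20084 (.leaf 0xb0a0f0003) (.leaf 0x0)))) (.node 20088 (.node 20086 (.leaf 0x4e74) (.node 20087 (.leaf 0xf0b0b0003) (.leaf 0x0))) (.node 20089 (.leaf 0x1020206020007010008) (.node 20090 (.leaf 0x0) (.leaf 0xb0b0a0a0004))))))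

def argWS_1775 : Store := (.node 20102 (.node 20096 (.node 20093 (.node 20092 (.leaf 0x705070209020006) (.leaf 0x0)) (.node 20094 (.leaf 0xf0a0a0003) (.node 20095 (.leaf 0x0) (.leaf 0x36f6004e7e)))) (.node 20099 (.node 20097 (.leaf 0x2000401050005) (.node 20098 (.leaf 0x0) (.leaf 0xd0b0b0003))) (.node 20100 (.leaf 0x0) (.node 20101 (.leaf 0xa0001) (.leaf 0x0))))) (.node 20108 (.node 20105 (.node 20103 (.leaf 0x0) (.node 20104 (.leaf 0xb0f0a0a0004) (.leaf 0xe0a0002))) (.node 20106 (.leaf 0x4668004e88) (.node 20107 (.leaf 0xb0a0002) (.leaf 0x0)))) (.node 20111 (.node 20109 (.leaf 0x1030000090206020802040105000d) (.node 20110 (.leaf 0x0) (.leaf 0xf0a0a0003))) (.node 20112 (.leaf 0x6050101070306000703040103000d) (.node 20113 (.leaf 0x0) (.leaf 0xb0f0002))))))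

def argWS_1776 : Store := (.node 20091 argWS_1774 argWS_1775)

def argWS_1777 : Store := (.node 20069 argWS_1773 argWS_1776)

def argWS_1778 : Store := (.node 20125 (.node 20119 (.node 20116 (.node 20115 (.leaf 0x0) (.leaf 0x4e92)) (.node 20117 (.leaf 0xf0b0a0003) (.node 20118 (.leaf 0x0) (.leaf 0xf0a0a0003)))) (.node 20122 (.node 20120 (.leaf 0x0) (.node 20121 (.leaf 0x0) (.leaf 0xe0001))) (.node 20123 (.leaf 0x490a) (.node 20124 (.leaf 0xf0b0a0a0004) (.leaf 0x0))))) (.node 20130 (.node 20127 (.node 20126 (.leaf 0x3070007030401030008) (.leaf 0x0)) (.node 20128 (.leaf 0xb0001) (.node 20129 (.leaf 0x503070209020802040105000c) (.leaf 0x0)))) (.node 20133 (.node 20131 (.leaf 0xf0b0a0003) (.node 20132 (.leaf 0x0) (.leaf 0x2050200020804000008))) (.node 20134 (.leaf 0x0) (.node 20135 (.leaf 0xb0a0f0003) (.leaf 0x0))))))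

def argWS_1779 : Store := (.node 20147 (.node 20141 (.node 20138 (.node 20137 (.leaf 0x101020901060006) (.leaf 0x0)) (.node 20139 (.leaf 0xa0001) (.node 20140 (.leaf 0x0) (.leaf 0x4eab004ea7)))) (.node 20144 (.node 20142 (.leaf 0x803000901090006) (.node 20143 (.leaf 0x0) (.leaf 0xb0f0a0a0004))) (.node 20145 (.leaf 0x0) (.node 20146 (.leaf 0x50308020401050008) (.leaf 0x0))))) (.node 20153 (.node 20150 (.node 20148 (.leaf 0xb0a0002) (.node 20149 (.leaf 0x902060208020401050009) (.leaf 0x0))) (.node 20151 (.leaf 0xb0001) (.node 20152 (.leaf 0x0) (.leaf 0xf0b0a0003)))) (.node 20156 (.node 20154 (.leaf 0x50000090206020202000701000c) (.node 20155 (.leaf 0x0) (.leaf 0xf0b0b0003))) (.node 20157 (.leaf 0x0) (.node 20158 (.leaf 0x4ebc004eb8) (.leaf 0x502000300000006))))))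

def argWS_1780 : Store := (.node 20136 argWS_1778 argWS_1779)

def argWS_1781 : Store := (.node 20170 (.node 20164 (.node 20161 (.node 20160 (.leaf 0x0) (.leaf 0xb0b0a0a0004)) (.node 20162 (.leaf 0x0) (.node 20163 (.leaf 0x1010602020007010008) (.leaf 0x0)))) (.node 20167 (.node 20165 (.leaf 0xd0001) (.node 20166 (.leaf 0x2070400050202000701000a) (.leaf 0x0))) (.node 20168 (.leaf 0x0) (.node 20169 (.leaf 0xb0f0002) (.leaf 0x4ec8))))) (.node 20176 (.node 20173 (.node 20171 (.leaf 0x206010500020202000701000b) (.node 20172 (.leaf 0x0) (.leaf 0xb0a0002))) (.node 20174 (.leaf 0x0) (.node 20175 (.leaf 0x10306040004) (.leaf 0x0)))) (.node 20179 (.node 20177 (.leaf 0xb0a0002) (.node 20178 (.leaf 0xb0b0002) (.leaf 0x20002090109000703040103000c))) (.node 20180 (.leaf 0x0) (.node 20181 (.leaf 0xf0b0b0a0004) (.leaf 0x0))))))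

def argWS_1782 : Store := (.node 20193 (.node 20187 (.node 20184 (.node 20183 (.leaf 0x25ef004ed5) (.leaf 0x7000006010500020202000701000d)) (.node 20185 (.leaf 0x0) (.node 20186 (.leaf 0xa0f0b0b0004) (.leaf 0x0)))) (.node 20190 (.node 20188 (.leaf 0xb0f0a0a0004) (.node 20189 (.leaf 0x0) (.leaf 0x0))) (.node 20191 (.leaf 0xf0b0b0a0a0005) (.node 20192 (.leaf 0x70207000903000703040103000c) (.leaf 0x0))))) (.node 20199 (.node 20196 (.node 20194 (.leaf 0xa0f0b0b0004) (.node 20195 (.leaf 0x0) (.leaf 0x304010206030006))) (.node 20197 (.leaf 0x0) (.node 20198 (.leaf 0xe0a0a0003) (.leaf 0x0)))) (.node 20202 (.node 20200 (.leaf 0x4ee6004ee2) (.node 20201 (.leaf 0x20202090000090007) (.leaf 0x0))) (.node 20203 (.leaf 0xb0f0002) (.node 20204 (.leaf 0x0) (.leaf 0xf0a0002))))))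

def argWS_1783 : Store := (.node 20182 argWS_1781 argWS_1782)

def argWS_1784 : Store := (.node 20159 argWS_1780 argWS_1783)

def argWS_1785 : Store := (.node 20114 argWS_1777 argWS_1784)

def argWS_1786 : Store := (.node 20024 argWS_1770 argWS_1785)

def argWS_1787 : Store := (.node 19844 argWS_1755 argWS_1786)

def argWS_1788 : Store := (.node 19483 argWS_1724 argWS_1787)

def argWS_1789 : Store := (.node 18762 argWS_1661 argWS_1788)

def argWS_1790 : Store := (.node 20216 (.node 20210 (.node 20207 (.node 20206 (.leaf 0x0) (.leaf 0x0)) (.node 20208 (.leaf 0xa0001) (.node 20209 (.leaf 0x700020804000202000701000c) (.leaf 0x0)))) (.node 20213 (.node 20211 (.leaf 0x0) (.node 20212 (.leaf 0x4ef2004eef) (.leaf 0x90300070209020007))) (.node 20214 (.leaf 0x0) (.node 20215 (.leaf 0xa0a0002) (.leaf 0x0))))) (.node 20221 (.node 20218 (.node 20217 (.leaf 0x80200070009030802040105000c) (.leaf 0x0)) (.node 20219 (.leaf 0xf0a0002) (.node 20220 (.leaf 0xb0a0a0003)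 (.leaf 0xf0a0a0003)))) (.node 20224 (.node 20222 (.leaf 0xe0a0a0003) (.node 20223 (.leaf 0x4efd004efc) (.leaf 0x307010908050006))) (.node 20225 (.leaf 0x0) (.node 20226 (.leaf 0xb0b0a0003) (.leaf 0x0))))))

def argWS_1791 : Store := (.node 20238 (.node 20232 (.node 20229 (.node 20228 (.leaf 0xf0b0002) (.leaf 0x0)) (.node 20230 (.leaf 0x0) (.node 20231 (.leaf 0x1050206020702010802040105000d) (.leaf 0x0)))) (.node 20235 (.node 20233 (.leaf 0xf0b0a0a0004) (.node 20234 (.leaf 0x0) (.leaf 0x200020804000802040105000b))) (.node 20236 (.leaf 0x0) (.node 20237 (.leaf 0xb0b0002) (.leaf 0x0))))) (.node 20244 (.node 20241 (.node 20239 (.leaf 0x5030003) (.node 20240 (.leaf 0x0) (.leaf 0x0))) (.node 20242 (.leaf 0x4f10004f0d) (.node 20243 (.leaf 0x90702020900000202000701000c) (.leaf 0x0)))) (.node 20247 (.node 20245 (.leaf 0x0) (.node 20246 (.leaf 0xa0001) (.leaf 0x0))) (.node 20248 (.leaf 0x0) (.node 20249 (.leaf 0xb0a0a0003) (.leaf 0xb0a0f0003))))))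

def argWS_1792 : Store := (.node 20227 argWS_1790 argWS_1791)

def argWS_1793 : Store := (.node 20261 (.node 20255 (.node 20252 (.node 20251 (.leaf 0x4f19002aa1) (.leaf 0xf0b0a0003)) (.node 20253 (.leaf 0x0) (.node 20254 (.leaf 0xb0f0a0a0004) (.leaf 0x0)))) (.node 20258 (.node 20256 (.leaf 0x0) (.node 20257 (.leaf 0xe0d0002) (.leaf 0xb0a0a0003))) (.node 20259 (.leaf 0x90000000300000008) (.node 20260 (.leaf 0x0) (.leaf 0xb0a0002))))) (.node 20266 (.node 20263 (.node 20262 (.leaf 0x0) (.leaf 0x4f25004f21)) (.node 20264 (.leaf 0x20406020702010802040105000c) (.node 20265 (.leaf 0x0) (.leaf 0xb0b0a0a0004)))) (.node 20269 (.node 20267 (.leaf 0x0) (.node 20268 (.leaf 0xf0a0a0003) (.leaf 0x0))) (.node 20270 (.leaf 0x0) (.node 20271 (.leaf 0x20901020603000703040103000c) (.leaf 0x0))))))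

def argWS_1794 : Store := (.node 20283 (.node 20277 (.node 20274 (.node 20273 (.leaf 0xe0a0a0003) (.leaf 0x0)) (.node 20275 (.leaf 0xb0f0a0a0004) (.node 20276 (.leaf 0x4f32) (.leaf 0x90108020401050007)))) (.node 20280 (.node 20278 (.leaf 0x0) (.node 20279 (.leaf 0xf0b0002) (.leaf 0x0))) (.node 20281 (.leaf 0xf0b0a0a0004) (.node 20282 (.leaf 0x0) (.leaf 0x0))))) (.node 20289 (.node 20286 (.node 20284 (.leaf 0xf0b0a0003) (.node 20285 (.leaf 0x107020106060802040105000b) (.leaf 0x0))) (.node 20287 (.leaf 0xf0a0002) (.node 20288 (.leaf 0x0) (.leaf 0x3010603050004000703040103000d)))) (.node 20292 (.node 20290 (.leaf 0x0) (.node 20291 (.leaf 0xb0b0a0a0004) (.leaf 0x0))) (.node 20293 (.leaf 0x4f43004f3f) (.node 20294 (.leaf 0xa0f0002) (.leaf 0x0))))))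

def argWS_1795 : Store := (.node 20272 argWS_1793 argWS_1794)

def argWS_1796 : Store := (.node 20250 argWS_1792 argWS_1795)

def argWS_1797 : Store := (.node 20306 (.node 20300 (.node 20297 (.node 20296 (.leaf 0xe0d0002) (.leaf 0x0)) (.node 20298 (.leaf 0x0) (.node 20299 (.leaf 0xf0b0a0003) (.leaf 0xb0f0002)))) (.node 20303 (.node 20301 (.leaf 0x1030002020900000008) (.node 20302 (.leaf 0x0) (.leaf 0xb0b0a0a0004))) (.node 20304 (.leaf 0x0) (.node 20305 (.leaf 0x4f4f004f4b) (.leaf 0x904020003))))) (.node 20311 (.node 20308 (.node 20307 (.leaf 0x0) (.leaf 0xb0a0a0003)) (.node 20309 (.leaf 0x0) (.node 20310 (.leaf 0x1030103010102000802040105000d) (.leaf 0x0)))) (.node 20314 (.node 20312 (.leaf 0xb0a0002) (.node 20313 (.leaf 0x0) (.leaf 0x70305090109000703040103000c))) (.node 20315 (.leaf 0x0) (.node 20316 (.leaf 0x0) (.leaf 0x4f5b004f58))))))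

def argWS_1798 : Store := (.node 20328 (.node 20322 (.node 20319 (.node 20318 (.leaf 0xb0f0a0a0004) (.leaf 0x0)) (.node 20320 (.leaf 0x2000900090005) (.node 20321 (.leaf 0x0) (.leaf 0xa0f0b0b0004)))) (.node 20325 (.node 20323 (.leaf 0x905030901090006) (.node 20324 (.leaf 0x0) (.leaf 0xa0f0002))) (.node 20326 (.leaf 0x0) (.node 20327 (.leaf 0xe0d0002) (.leaf 0x0))))) (.node 20334 (.node 20331 (.node 20329 (.leaf 0x103090206020802040105000b) (.node 20330 (.leaf 0x0) (.leaf 0xb0b0a0003))) (.node 20332 (.leaf 0x0) (.node 20333 (.leaf 0x4f6b004f67) (.leaf 0x10708020401050007)))) (.node 20337 (.node 20335 (.leaf 0x0) (.node 20336 (.leaf 0xb0b0002) (.leaf 0x0))) (.node 20338 (.leaf 0xa0001) (.node 20339 (.leaf 0x0) (.leaf 0x0))))))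

def argWS_1799 : Store := (.node 20317 argWS_1797 argWS_1798)

def argWS_1800 : Store := (.node 20351 (.node 20345 (.node 20342 (.node 20341 (.leaf 0x3070009020602000703040103000d) (.leaf 0x0)) (.node 20343 (.leaf 0x0) (.node 20344 (.leaf 0xe0a0a0003) (.leaf 0x4f77004f76)))) (.node 20348 (.node 20346 (.leaf 0xb0f0a0a0004) (.node 20347 (.leaf 0x0) (.leaf 0xe0001))) (.node 20349 (.leaf 0x0) (.node 20350 (.leaf 0x0) (.leaf 0xe0a0002))))) (.node 20356 (.node 20353 (.node 20352 (.leaf 0x5000006010500020008) (.leaf 0x0)) (.node 20354 (.leaf 0xf0b0002) (.node 20355 (.leaf 0x0) (.leaf 0x70206020702010802040105000c)))) (.node 20359 (.node 20357 (.leaf 0x0) (.node 20358 (.leaf 0xf0b0b0003) (.leaf 0x0))) (.node 20360 (.leaf 0x4f86004f82) (.node 20361 (.leaf 0x3040305020202010802040105000d) (.leaf 0x0))))))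

def argWS_1801 : Store := (.node 20373 (.node 20367 (.node 20364 (.node 20363 (.leaf 0xb0a0a0003) (.leaf 0x0)) (.node 20365 (.leaf 0xa0f0002) (.node 20366 (.leaf 0x0) (.leaf 0x0)))) (.node 20370 (.node 20368 (.leaf 0x7020601050002000703040103000d) (.node 20369 (.leaf 0x0) (.leaf 0xf0b0a0a0004))) (.node 20371 (.leaf 0x0) (.node 20372 (.leaf 0xe0a0a0003) (.leaf 0xf0b0b0a0004))))) (.node 20379 (.node 20376 (.node 20374 (.leaf 0x4f94004f93) (.node 20375 (.leaf 0x50200020703000703040103000c) (.leaf 0x0))) (.node 20377 (.leaf 0xb0a0f0003) (.node 20378 (.leaf 0x0) (.leaf 0x104030802020007010009)))) (.node 20382 (.node 20380 (.leaf 0x0) (.node 20381 (.leaf 0xa0f0002) (.leaf 0x2000209000009000703040103000d))) (.node 20383 (.leaf 0x0) (.node 20384 (.leaf 0x0) (.leaf 0x2090106020702010802040105000d))))))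

def argWS_1802 : Store := (.node 20362 argWS_1800 argWS_1801)

def argWS_1803 : Store := (.node 20340 argWS_1799 argWS_1802)

def argWS_1804 : Store := (.node 20295 argWS_1796 argWS_1803)

def argWS_1805 : Store := (.node 20396 (.node 20390 (.node 20387 (.node 20386 (.leaf 0x0) (.leaf 0xf0b0b0003)) (.node 20388 (.leaf 0x0) (.node 20389 (.leaf 0x30002010606000703040103000c) (.leaf 0x0)))) (.node 20393 (.node 20391 (.leaf 0xf0b0b0a0a0005) (.node 20392 (.leaf 0x0) (.leaf 0x4fa7004fa3))) (.node 20394 (.leaf 0x401010904020006) (.node 20395 (.leaf 0x0) (.leaf 0xb0a0a0003))))) (.node 20401 (.node 20398 (.node 20397 (.leaf 0x0) (.leaf 0x40406010500020202000701000c)) (.node 20399 (.leaf 0x0) (.node 20400 (.leaf 0xe0001) (.leaf 0xf0b0a0003)))) (.node 20404 (.node 20402 (.leaf 0x102010207030802040105000b) (.node 20403 (.leaf 0x0) (.leaf 0x0))) (.node 20405 (.leaf 0xb0a0002) (.node 20406 (.leaf 0x4fb4004fb3) (.leaf 0x0))))))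

def argWS_1806 : Store := (.node 20418 (.node 20412 (.node 20409 (.node 20408 (.leaf 0xb0001) (.leaf 0x0)) (.node 20410 (.leaf 0xf0b0002) (.node 20411 (.leaf 0x0) (.leaf 0x0)))) (.node 20415 (.node 20413 (.leaf 0x2040901060202000701000a) (.node 20414 (.leaf 0x0) (.leaf 0xd0b0002))) (.node 20416 (.leaf 0x0) (.node 20417 (.leaf 0xf0a0002) (.leaf 0x4fc0002f98))))) (.node 20424 (.node 20421 (.node 20419 (.leaf 0xb0b0a0a0004) (.node 20420 (.leaf 0x0) (.leaf 0x8000207020007010008))) (.node 20422 (.leaf 0x0) (.node 20423 (.leaf 0xd0b0002) (.leaf 0x9010402000003010008)))) (.node 20427 (.node 20425 (.leaf 0x0) (.node 20426 (.leaf 0xb0001) (.leaf 0x0))) (.node 20428 (.leaf 0x800030802020007010009) (.node 20429 (.leaf 0x0) (.leaf 0xa0f0002))))))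

def argWS_1807 : Store := (.node 20407 argWS_1805 argWS_1806)

def argWS_1808 : Store := (.node 20441 (.node 20435 (.node 20432 (.node 20431 (.leaf 0x0) (.leaf 0x4fce)) (.node 20433 (.leaf 0xf0b0b0a0a0005) (.node 20434 (.leaf 0x0) (.leaf 0xf0b0a0003)))) (.node 20438 (.node 20436 (.leaf 0x0) (.node 20437 (.leaf 0x0) (.leaf 0x1070003080005))) (.node 20439 (.leaf 0x0) (.node 20440 (.leaf 0xa0001) (.leaf 0x0))))) (.node 20446 (.node 20443 (.node 20442 (.leaf 0xb0f0a0003) (.leaf 0x20007000903000703040103000d)) (.node 20444 (.leaf 0x0) (.node 20445 (.leaf 0xf0b0b0a0a0005) (.leaf 0x0)))) (.node 20449 (.node 20447 (.leaf 0x4fdd004fd9) (.node 20448 (.leaf 0x204010308000703040103000b) (.leaf 0x0))) (.node 20450 (.leaf 0xb0f0a0a0004) (.node 20451 (.leaf 0x0) (.leaf 0x10700050206040007))))))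

def argWS_1809 : Store := (.node 20463 (.node 20457 (.node 20454 (.node 20453 (.leaf 0x0) (.leaf 0xf0b0b0a0a0005)) (.node 20455 (.leaf 0xb0f0a0a0004) (.node 20456 (.leaf 0x8000402020900000008) (.leaf 0x0)))) (.node 20460 (.node 20458 (.leaf 0xb0b0a0003) (.node 20459 (.leaf 0x0) (.leaf 0xa0001))) (.node 20461 (.leaf 0x4feb004fea) (.node 20462 (.leaf 0x1030106010500020008) (.leaf 0x0))))) (.node 20469 (.node 20466 (.node 20464 (.leaf 0x0) (.node 20465 (.leaf 0x6010200030000000703040103000d) (.leaf 0x0))) (.node 20467 (.leaf 0xe0d0002) (.node 20468 (.leaf 0x40205050202020703040103000c) (.leaf 0x0)))) (.node 20472 (.node 20470 (.leaf 0x0) (.node 20471 (.leaf 0x6020007000903000703040103000d) (.leaf 0x0))) (.node 20473 (.leaf 0xf0b0b0a0a0005) (.node 20474 (.leaf 0x0) (.leaf 0x4ff9))))))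

def argWS_1810 : Store := (.node 20452 argWS_1808 argWS_1809)

def argWS_1811 : Store := (.node 20430 argWS_1807 argWS_1810)

def argWS_1812 : Store := (.node 20486 (.node 20480 (.node 20477 (.node 20476 (.leaf 0x90101090805000703040103000c) (.leaf 0x0)) (.node 20478 (.leaf 0xf0001) (.node 20479 (.leaf 0x0) (.leaf 0xd0b0002)))) (.node 20483 (.node 20481 (.leaf 0x0) (.node 20482 (.leaf 0x0) (.leaf 0x700000000030000000703040103000e))) (.node 20484 (.leaf 0x0) (.node 20485 (.leaf 0xe0d0002) (.leaf 0x0))))) (.node 20491 (.node 20488 (.node 20487 (.leaf 0x4020502000003010202000701000d) (.leaf 0x0)) (.node 20489 (.leaf 0xf0001) (.node 20490 (.leaf 0x0) (.leaf 0xb0f0a0a0004)))) (.node 20494 (.node 20492 (.leaf 0x500a005009) (.node 20493 (.leaf 0xe0a0a0003) (.leaf 0x0))) (.node 20495 (.leaf 0x1030002020900000202000701000d) (.node 20496 (.leaf 0x0) (.leaf 0xf0a0a0003))))))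

def argWS_1813 : Store := (.node 20508 (.node 20502 (.node 20499 (.node 20498 (.leaf 0x9000003030604000703040103000e) (.leaf 0x0)) (.node 20500 (.leaf 0xb0b0a0a0004) (.node 20501 (.leaf 0x0) (.leaf 0x605010901090802040105000b)))) (.node 20505 (.node 20503 (.leaf 0x0) (.node 20504 (.leaf 0x0) (.leaf 0x5017))) (.node 20506 (.leaf 0x902060308020401050009) (.node 20507 (.leaf 0x0) (.leaf 0xa0f0b0003))))) (.node 20514 (.node 20511 (.node 20509 (.leaf 0x0) (.node 20510 (.leaf 0x20202000003010007) (.leaf 0x0))) (.node 20512 (.leaf 0xf0b0b0a0a0005) (.node 20513 (.leaf 0xb0001) (.leaf 0x0)))) (.node 20517 (.node 20515 (.leaf 0x20209020004) (.node 20516 (.leaf 0x0) (.leaf 0xb0f0a0a0004))) (.node 20518 (.leaf 0x0) (.node 20519 (.leaf 0x5025) (.leaf 0xa0f0b0b0004))))))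

def argWS_1814 : Store := (.node 20497 argWS_1812 argWS_1813)

def argWS_1815 : Store := (.node 20531 (.node 20525 (.node 20522 (.node 20521 (.leaf 0x0) (.leaf 0xb0a0002)) (.node 20523 (.leaf 0x0) (.node 20524 (.leaf 0x0) (.leaf 0x904040005000703040103000b)))) (.node 20528 (.node 20526 (.leaf 0x0) (.node 20527 (.leaf 0xb0f0002) (.leaf 0x0))) (.node 20529 (.leaf 0x701010703060006) (.node 20530 (.leaf 0x0) (.leaf 0xf0001))))) (.node 20536 (.node 20533 (.node 20532 (.leaf 0x0) (.leaf 0x5033)) (.node 20534 (.leaf 0x6020908050005) (.node 20535 (.leaf 0x0) (.leaf 0xd0001)))) (.node 20539 (.node 20537 (.leaf 0x0) (.node 20538 (.leaf 0x802000308000703040103000b) (.leaf 0x0))) (.node 20540 (.leaf 0xf0b0a0003) (.node 20541 (.leaf 0xf0a0002) (.leaf 0x202000207030802040105000b))))))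

def argWS_1816 : Store := (.node 20553 (.node 20547 (.node 20544 (.node 20543 (.leaf 0x0) (.leaf 0xd0b0002)) (.node 20545 (.leaf 0x0) (.node 20546 (.leaf 0x5040) (.leaf 0xf0b0b0a0a0005)))) (.node 20550 (.node 20548 (.leaf 0x0) (.node 20549 (.leaf 0xb0a0f0003) (.leaf 0x0))) (.node 20551 (.leaf 0x0) (.node 20552 (.leaf 0x7030500000300000008) (.leaf 0x0))))) (.node 20559 (.node 20556 (.node 20554 (.leaf 0x0) (.node 20555 (.leaf 0x201030400050006) (.leaf 0x0))) (.node 20557 (.leaf 0xb0f0a0003) (.node 20558 (.leaf 0x0) (.leaf 0x504d)))) (.node 20562 (.node 20560 (.leaf 0x8050908050802040105000a) (.node 20561 (.leaf 0x0) (.leaf 0xa0f0002))) (.node 20563 (.leaf 0x0) (.node 20564 (.leaf 0xf0a0002) (.leaf 0x0))))))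

def argWS_1817 : Store := (.node 20542 argWS_1815 argWS_1816)

def argWS_1818 : Store := (.node 20520 argWS_1814 argWS_1817)

def argWS_1819 : Store := (.node 20475 argWS_1811 argWS_1818)

def argWS_1820 : Store := (.node 20385 argWS_1804 argWS_1819)

def argWS_1821 : Store := (.node 20576 (.node 20570 (.node 20567 (.node 20566 (.leaf 0x0) (.leaf 0xd0b0b0003)) (.node 20568 (.leaf 0xe0a0002) (.node 20569 (.leaf 0x5057) (.leaf 0xb0f0a0003)))) (.node 20573 (.node 20571 (.leaf 0x0) (.node 20572 (.leaf 0xe0a0002) (.leaf 0x0))) (.node 20574 (.leaf 0x0) (.node 20575 (.leaf 0x8000005020202010202000701000d) (.leaf 0x0))))) (.node 20581 (.node 20578 (.node 20577 (.leaf 0xb0001) (.leaf 0x0)) (.node 20579 (.leaf 0xa0f0b0b0004) (.node 20580 (.leaf 0x903010703060802040105000b) (.leaf 0x0)))) (.node 20584 (.node 20582 (.leaf 0xe0a0a0003) (.node 20583 (.leaf 0x0) (.leaf 0x5066005062))) (.node 20585 (.leaf 0xf0b0b0003) (.node 20586 (.leaf 0x0) (.leaf 0x2060109080600000703040103000d))))))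

def argWS_1822 : Store := (.node 20598 (.node 20592 (.node 20589 (.node 20588 (.leaf 0x0) (.leaf 0xf0a0a0003)) (.node 20590 (.leaf 0x4020901060202000701000a) (.node 20591 (.leaf 0x0) (.leaf 0xa0001)))) (.node 20595 (.node 20593 (.leaf 0x0) (.node 20594 (.leaf 0x0) (.leaf 0x5071005070))) (.node 20596 (.leaf 0x2000006030500040202000701000d) (.node 20597 (.leaf 0x0) (.leaf 0xb0f0002))))) (.node 20604 (.node 20601 (.node 20599 (.leaf 0x0) (.node 20600 (.leaf 0xa0a0002) (.leaf 0x0))) (.node 20602 (.leaf 0x0) (.node 20603 (.leaf 0xe0001) (.leaf 0x30108020401050009)))) (.node 20607 (.node 20605 (.leaf 0x0) (.node 20606 (.leaf 0xf0a0a0003) (.leaf 0x0))) (.node 20608 (.leaf 0xb0001) (.node 20609 (.leaf 0x507f00507e) (.leaf 0x30002010606000703040103000c))))))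

def argWS_1823 : Store := (.node 20587 argWS_1821 argWS_1822)

def argWS_1824 : Store := (.node 20621 (.node 20615 (.node 20612 (.node 20611 (.leaf 0x0) (.leaf 0xf0b0b0a0a0005)) (.node 20613 (.leaf 0x0) (.node 20614 (.leaf 0x9070009030802040105000a) (.leaf 0x0)))) (.node 20618 (.node 20616 (.leaf 0xe0a0002) (.node 20617 (.leaf 0xb0a0a0003) (.leaf 0x805000002080400000703040103000e))) (.node 20619 (.leaf 0x0) (.node 20620 (.leaf 0xf0b0a0a0004) (.leaf 0x0))))) (.node 20626 (.node 20623 (.node 20622 (.leaf 0x2010400050202000701000a) (.leaf 0x0)) (.node 20624 (.leaf 0xf0b0002) (.node 20625 (.leaf 0x0) (.leaf 0x509000508c)))) (.node 20629 (.node 20627 (.leaf 0xd0b0002) (.node 20628 (.leaf 0x0) (.leaf 0x603050004000703040103000b))) (.node 20630 (.leaf 0x0) (.node 20631 (.leaf 0xb0a0002) (.leaf 0xe0d0002))))))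

def argWS_1825 : Store := (.node 20643 (.node 20637 (.node 20634 (.node 20633 (.leaf 0xa0f0b0003) (.leaf 0x20401090402000703040103000c)) (.node 20635 (.leaf 0x0) (.node 20636 (.leaf 0xf0001) (.leaf 0x0)))) (.node 20640 (.node 20638 (.leaf 0x509c005098) (.node 20639 (.leaf 0x0) (.leaf 0xb0b0a0003))) (.node 20641 (.leaf 0x0) (.node 20642 (.leaf 0x4090000090802040105000a) (.leaf 0x0))))) (.node 20649 (.node 20646 (.node 20644 (.leaf 0xf0b0002) (.node 20645 (.leaf 0xe0d0002) (.leaf 0x1030009020602000703040103000d))) (.node 20647 (.leaf 0x0) (.node 20648 (.leaf 0xa0001) (.leaf 0x0)))) (.node 20652 (.node 20650 (.leaf 0x10502020901060007) (.node 20651 (.leaf 0x0) (.leaf 0xa0a0002))) (.node 20653 (.leaf 0x0) (.node 20654 (.leaf 0x50ac0050a8) (.leaf 0x403010102000802040105000b))))))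

def argWS_1826 : Store := (.node 20632 argWS_1824 argWS_1825)

def argWS_1827 : Store := (.node 20610 argWS_1823 argWS_1826)

def argWS_1828 : Store := (.node 20666 (.node 20660 (.node 20657 (.node 20656 (.leaf 0x0) (.leaf 0xf0a0002)) (.node 20658 (.leaf 0x0) (.node 20659 (.leaf 0xb0a0f0003) (.leaf 0x0)))) (.node 20663 (.node 20661 (.leaf 0x900060207020703040103000b) (.node 20662 (.leaf 0x0) (.leaf 0xf0b0b0a0004))) (.node 20664 (.leaf 0x0) (.node 20665 (.leaf 0x404090009000703040103000b) (.leaf 0x0))))) (.node 20671 (.node 20668 (.node 20667 (.leaf 0xb0b0a0a0004) (.leaf 0x0)) (.node 20669 (.leaf 0x20703060005) (.node 20670 (.leaf 0x0) (.leaf 0xb0f0a0a0004)))) (.node 20674 (.node 20672 (.leaf 0x0) (.node 20673 (.leaf 0x50bf0050bb) (.leaf 0xb0f0a0003))) (.node 20675 (.leaf 0x0) (.node 20676 (.leaf 0x200090000090802040105000c) (.leaf 0x0))))))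

def argWS_1829 : Store := (.node 20688 (.node 20682 (.node 20679 (.node 20678 (.leaf 0xf0b0a0a0004) (.leaf 0x90300020901060202000701000c)) (.node 20680 (.leaf 0x0) (.node 20681 (.leaf 0xb0f0a0003) (.leaf 0x0)))) (.node 20685 (.node 20683 (.leaf 0xb0a0a0003) (.node 20684 (.leaf 0x904070209020202000701000b) (.leaf 0x0))) (.node 20686 (.leaf 0xa0f0002) (.node 20687 (.leaf 0x0) (.leaf 0x50ce0050ca))))) (.node 20694 (.node 20691 (.node 20689 (.leaf 0xb0f0002) (.node 20690 (.leaf 0x0) (.leaf 0xf0b0b0003))) (.node 20692 (.leaf 0x0) (.node 20693 (.leaf 0x0) (.leaf 0x30307020902000703040103000c)))) (.node 20697 (.node 20695 (.leaf 0x0) (.node 20696 (.leaf 0xf0b0b0a0a0005) (.leaf 0x0))) (.node 20698 (.leaf 0xf0b0002) (.node 20699 (.leaf 0x50d9) (.leaf 0x104000601050002000703040103000e))))))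

def argWS_1830 : Store := (.node 20677 argWS_1828 argWS_1829)

def argWS_1831 : Store := (.node 20711 (.node 20705 (.node 20702 (.node 20701 (.leaf 0x0) (.leaf 0xf0b0b0a0004)) (.node 20703 (.leaf 0x0) (.node 20704 (.leaf 0x304030308000703040103000b) (.leaf 0x0)))) (.node 20708 (.node 20706 (.leaf 0xd0001) (.node 20707 (.leaf 0x1090306030500040202000701000d) (.leaf 0x0))) (.node 20709 (.leaf 0xf0b0002) (.node 20710 (.leaf 0x0) (.leaf 0xe0a0a0003))))) (.node 20716 (.node 20713 (.node 20712 (.leaf 0x23570050e6) (.leaf 0x8020000020804000008)) (.node 20714 (.leaf 0x0) (.node 20715 (.leaf 0xe0001) (.leaf 0x0)))) (.node 20719 (.node 20717 (.leaf 0x10502020000030703040103000c) (.node 20718 (.leaf 0x0) (.leaf 0xb0001))) (.node 20720 (.leaf 0xa0001) (.node 20721 (.leaf 0x602000900090202000701000b) (.leaf 0x0))))))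

def argWS_1832 : Store := (.node 20733 (.node 20727 (.node 20724 (.node 20723 (.leaf 0xb0b0a0a0004) (.leaf 0x0)) (.node 20725 (.leaf 0x460e0050f3) (.node 20726 (.leaf 0xe0001) (.leaf 0x0)))) (.node 20730 (.node 20728 (.leaf 0x40401050005) (.node 20729 (.leaf 0x0) (.leaf 0xe0a0a0003))) (.node 20731 (.leaf 0x2060002020007010009) (.node 20732 (.leaf 0x0) (.leaf 0xf0b0002))))) (.node 20739 (.node 20736 (.node 20734 (.leaf 0x0) (.node 20735 (.leaf 0x6090000090005) (.leaf 0x0))) (.node 20737 (.leaf 0xb0b0002) (.node 20738 (.leaf 0x0) (.leaf 0x5101)))) (.node 20742 (.node 20740 (.leaf 0xe0d0002) (.node 20741 (.leaf 0x0) (.leaf 0x0))) (.node 20743 (.leaf 0xa0a0002) (.node 20744 (.leaf 0x5106) (.leaf 0x9010207030005))))))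

def argWS_1833 : Store := (.node 20722 argWS_1831 argWS_1832)

def argWS_1834 : Store := (.node 20700 argWS_1830 argWS_1833)

def argWS_1835 : Store := (.node 20655 argWS_1827 argWS_1834)

def argWS_1836 : Store := (.node 20756 (.node 20750 (.node 20747 (.node 20746 (.leaf 0x0) (.leaf 0xb0f0a0a0004)) (.node 20748 (.leaf 0x0) (.node 20749 (.leaf 0x7050900090802040105000a) (.leaf 0x0)))) (.node 20753 (.node 20751 (.leaf 0xf0b0a0003) (.node 20752 (.leaf 0xb0a0f0003) (.leaf 0xf0b0b0a0a0005))) (.node 20754 (.leaf 0x5110) (.node 20755 (.leaf 0x40004000408010007) (.leaf 0x0))))) (.node 20761 (.node 20758 (.node 20757 (.leaf 0xb0b0002) (.leaf 0x0)) (.node 20759 (.leaf 0xb0f0a0003) (.node 20760 (.leaf 0x0) (.leaf 0x0)))) (.node 20764 (.node 20762 (.leaf 0x7000007000903000703040103000d) (.node 20763 (.leaf 0x0) (.leaf 0xd0b0b0003))) (.node 20765 (.leaf 0x0) (.node 20766 (.leaf 0x20502050202020703040103000c) (.leaf 0x0))))))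

def argWS_1837 : Store := (.node 20778 (.node 20772 (.node 20769 (.node 20768 (.leaf 0xf0b0b0a0004) (.leaf 0x0)) (.node 20770 (.leaf 0x4183005120) (.node 20771 (.leaf 0x6050106030500040202000701000d) (.leaf 0x0)))) (.node 20775 (.node 20773 (.leaf 0xa0f0002) (.node 20774 (.leaf 0x0) (.leaf 0x200050202020703040103000b))) (.node 20776 (.leaf 0x0) (.node 20777 (.leaf 0xe0d0002) (.leaf 0x80300000004))))) (.node 20784 (.node 20781 (.node 20779 (.leaf 0x0) (.node 20780 (.leaf 0xa0001) (.leaf 0x0))) (.node 20782 (.leaf 0x20103010703060007) (.node 20783 (.leaf 0x0) (.leaf 0xf0b0002)))) (.node 20787 (.node 20785 (.leaf 0x0) (.node 20786 (.leaf 0x5130) (.leaf 0xf0b0002))) (.node 20788 (.leaf 0x0) (.node 20789 (.leaf 0x705020106060006) (.leaf 0x0))))))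

def argWS_1838 : Store := (.node 20767 argWS_1836 argWS_1837)

def argWS_1839 : Store := (.node 20801 (.node 20795 (.node 20792 (.node 20791 (.leaf 0xe0d0002) (.leaf 0x9070904020802040105000a)) (.node 20793 (.leaf 0x0) (.node 20794 (.leaf 0xa0f0002) (.leaf 0x0)))) (.node 20798 (.node 20796 (.leaf 0xf0b0b0a0004) (.node 20797 (.leaf 0x0) (.leaf 0x500020603000703040103000b))) (.node 20799 (.leaf 0x0) (.node 20800 (.leaf 0xf0b0a0003) (.leaf 0x0))))) (.node 20806 (.node 20803 (.node 20802 (.leaf 0x514000513c) (.leaf 0xb0b0a0a0004)) (.node 20804 (.leaf 0x0) (.node 20805 (.leaf 0x6000003010102000202000701000d) (.leaf 0x0)))) (.node 20809 (.node 20807 (.leaf 0xa0f0b0003) (.node 20808 (.leaf 0x6050106020702010802040105000d) (.leaf 0x0))) (.node 20810 (.leaf 0xb0f0a0003) (.node 20811 (.leaf 0x0) (.leaf 0xb0f0a0003))))))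

def argWS_1840 : Store := (.node 20823 (.node 20817 (.node 20814 (.node 20813 (.leaf 0x514b) (.leaf 0x20902020007010007)) (.node 20815 (.leaf 0x0) (.node 20816 (.leaf 0xf0b0a0003) (.leaf 0x0)))) (.node 20820 (.node 20818 (.leaf 0x60006020702010007) (.node 20819 (.leaf 0x0) (.leaf 0xb0a0a0003))) (.node 20821 (.leaf 0x700000206020007010009) (.node 20822 (.leaf 0x0) (.leaf 0xf0b0b0a0004))))) (.node 20829 (.node 20826 (.node 20824 (.leaf 0x0) (.node 20825 (.leaf 0x90605020604000703040103000c) (.leaf 0x0))) (.node 20827 (.leaf 0xf0b0002) (.node 20828 (.leaf 0x0) (.leaf 0x4030006020702010802040105000d)))) (.node 20832 (.node 20830 (.leaf 0x0) (.node 20831 (.leaf 0x0) (.leaf 0x515e00515b))) (.node 20833 (.leaf 0xf0b0b0003) (.node 20834 (.leaf 0x0) (.leaf 0xf0001))))))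

def argWS_1841 : Store := (.node 20812 argWS_1839 argWS_1840)

def argWS_1842 : Store := (.node 20790 argWS_1838 argWS_1841)

def argWS_1843 : Store := (.node 20846 (.node 20840 (.node 20837 (.node 20836 (.leaf 0x0) (.leaf 0x0)) (.node 20838 (.leaf 0x7000006030500040802040105000d) (.node 20839 (.leaf 0x0) (.leaf 0xe0a0a0003)))) (.node 20843 (.node 20841 (.leaf 0x0) (.node 20842 (.leaf 0xb0b0a0a0004) (.leaf 0x0))) (.node 20844 (.leaf 0x516a005168) (.node 20845 (.leaf 0xd0001) (.leaf 0x0))))) (.node 20851 (.node 20848 (.node 20847 (.leaf 0x500090000090006) (.leaf 0x0)) (.node 20849 (.leaf 0xb0b0002) (.node 20850 (.leaf 0x80005020202010802040105000c) (.leaf 0x0)))) (.node 20854 (.node 20852 (.leaf 0xd0b0002) (.node 20853 (.leaf 0x0) (.leaf 0xb0a0a0003))) (.node 20855 (.leaf 0x5175) (.node 20856 (.leaf 0x104030802020007010009) (.leaf 0x0))))))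

def argWS_1844 : Store := (.node 20868 (.node 20862 (.node 20859 (.node 20858 (.leaf 0xa0a0002) (.leaf 0x0)) (.node 20860 (.leaf 0x603000300000802040105000b) (.node 20861 (.leaf 0x0) (.leaf 0xf0b0a0003)))) (.node 20865 (.node 20863 (.leaf 0x709000009000703040103000c) (.node 20864 (.leaf 0x0) (.leaf 0xb0a0f0003))) (.node 20866 (.leaf 0x0) (.node 20867 (.leaf 0x50305050206040802040105000c) (.leaf 0x0))))) (.node 20874 (.node 20871 (.node 20869 (.leaf 0xe0a0a0003) (.node 20870 (.leaf 0x0) (.leaf 0x70202090000000703040103000c))) (.node 20872 (.leaf 0x0) (.node 20873 (.leaf 0xf0b0b0003) (.leaf 0x0)))) (.node 20877 (.node 20875 (.leaf 0x5189005185) (.node 20876 (.leaf 0x80300090000090802040105000c) (.leaf 0x0))) (.node 20878 (.leaf 0xd0001) (.node 20879 (.leaf 0x0) (.leaf 0x70201090805000703040103000c))))))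

def argWS_1845 : Store := (.node 20857 argWS_1843 argWS_1844)

def argWS_1846 : Store := (.node 20891 (.node 20885 (.node 20882 (.node 20881 (.leaf 0x0) (.leaf 0xb0a0f0003)) (.node 20883 (.leaf 0x606020702010802040105000b) (.node 20884 (.leaf 0x0) (.leaf 0xf0001)))) (.node 20888 (.node 20886 (.leaf 0x0) (.node 20887 (.leaf 0x4090000090005) (.leaf 0x0))) (.node 20889 (.leaf 0xb0a0002) (.node 20890 (.leaf 0x0) (.leaf 0xb0a0002))))) (.node 20897 (.node 20894 (.node 20892 (.leaf 0x519a005199) (.node 20893 (.leaf 0x1090309000009000703040103000d) (.leaf 0x0))) (.node 20895 (.leaf 0xf0b0a0003) (.node 20896 (.leaf 0x0) (.leaf 0xa0f0b0b0004)))) (.node 20900 (.node 20898 (.leaf 0x0) (.node 20899 (.leaf 0x0) (.leaf 0xb0a0a0003))) (.node 20901 (.leaf 0xb0001) (.node 20902 (.leaf 0x20602080400000703040103000c) (.leaf 0x0))))))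

def argWS_1847 : Store := (.node 20914 (.node 20908 (.node 20905 (.node 20904 (.leaf 0xa0a0002) (.leaf 0x0)) (.node 20906 (.leaf 0x51a80051a4) (.node 20907 (.leaf 0x304020804000802040105000b) (.leaf 0x0)))) (.node 20911 (.node 20909 (.leaf 0xf0b0a0a0004) (.node 20910 (.leaf 0x0) (.leaf 0xd0b0b0003))) (.node 20912 (.leaf 0x0) (.node 20913 (.leaf 0x0) (.leaf 0x30401010904020007))))) (.node 20920 (.node 20917 (.node 20915 (.leaf 0x0) (.node 20916 (.leaf 0xb0b0a0a0004) (.leaf 0x0))) (.node 20918 (.leaf 0x905010606000703040103000b) (.node 20919 (.leaf 0x0) (.leaf 0xa0f0b0003)))) (.node 20923 (.node 20921 (.leaf 0x0) (.node 20922 (.leaf 0x51b8) (.leaf 0xb0f0002))) (.node 20924 (.leaf 0x0) (.node 20925 (.leaf 0x1030006030500040202000701000d) (.leaf 0x0))))))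

def argWS_1848 : Store := (.node 20903 argWS_1846 argWS_1847)

def argWS_1849 : Store := (.node 20880 argWS_1845 argWS_1848)

def argWS_1850 : Store := (.node 20835 argWS_1842 argWS_1849)

def argWS_1851 : Store := (.node 20745 argWS_1835 argWS_1850)

def argWS_1852 : Store := (.node 20565 argWS_1820 argWS_1851)

def argWS_1853 : Store := (.node 20937 (.node 20931 (.node 20928 (.node 20927 (.leaf 0xf0b0b0a0004) (.leaf 0x206030306040202000701000b)) (.node 20929 (.leaf 0x0) (.node 20930 (.leaf 0xb0b0a0003) (.leaf 0x0)))) (.node 20934 (.node 20932 (.leaf 0xf0b0a0003) (.node 20933 (.leaf 0xb0b0002) (.leaf 0x51c40051c3))) (.node 20935 (.leaf 0x4010308000703040103000a) (.node 20936 (.leaf 0x0) (.leaf 0xf0b0a0a0004))))) (.node 20942 (.node 20939 (.node 20938 (.leaf 0x0) (.leaf 0xa0f0b0b0004)) (.node 20940 (.leaf 0x0) (.node 20941 (.leaf 0x0) (.leaf 0xf0b0b0a0a0005)))) (.node 20945 (.node 20943 (.leaf 0xf0b0a0003) (.node 20944 (.leaf 0x20106060202000701000a)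 (.leaf 0x0))) (.node 20946 (.leaf 0xa0f0b0003) (.node 20947 (.leaf 0x0) (.leaf 0x51d20051ce))))))

def argWS_1854 : Store := (.node 20959 (.node 20953 (.node 20950 (.node 20949 (.leaf 0x60400060207020703040103000c) (.leaf 0x0)) (.node 20951 (.leaf 0xb0a0002) (.node 20952 (.leaf 0x0) (.leaf 0xa0a0002)))) (.node 20956 (.node 20954 (.leaf 0x0) (.node 20955 (.leaf 0x0) (.leaf 0x200020900090202000701000b))) (.node 20957 (.leaf 0x0) (.node 20958 (.leaf 0xe0d0002) (.leaf 0x0))))) (.node 20965 (.node 20962 (.node 20960 (.leaf 0x51de) (.node 20961 (.leaf 0xe0a0002) (.leaf 0x0))) (.node 20963 (.leaf 0x309020602000703040103000b) (.node 20964 (.leaf 0x0) (.leaf 0xe0a0a0003)))) (.node 20968 (.node 20966 (.leaf 0xb0f0002) (.node 20967 (.leaf 0x205020901060802040105000b) (.leaf 0x0))) (.node 20969 (.leaf 0xb0001) (.node 20970 (.leaf 0x0) (.leaf 0xf0b0a0003))))))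

def argWS_1855 : Store := (.node 20948 argWS_1853 argWS_1854)

def argWS_1856 : Store := (.node 20982 (.node 20976 (.node 20973 (.node 20972 (.leaf 0x51ea0051e9) (.leaf 0x60202020007010007)) (.node 20974 (.leaf 0x0) (.node 20975 (.leaf 0xb0b0002) (.leaf 0x0)))) (.node 20979 (.node 20977 (.leaf 0xb0b0a0a0004) (.node 20978 (.leaf 0x0) (.leaf 0x0))) (.node 20980 (.leaf 0x705010908050202000701000b) (.node 20981 (.leaf 0x0) (.leaf 0x0))))) (.node 20987 (.node 20984 (.node 20983 (.leaf 0x7000703060802040105000a) (.leaf 0x0)) (.node 20985 (.leaf 0x0) (.node 20986 (.leaf 0x51f8) (.leaf 0xe0a0a0003)))) (.node 20990 (.node 20988 (.leaf 0x0) (.node 20989 (.leaf 0xe0d0002) (.leaf 0x0))) (.node 20991 (.leaf 0x0) (.node 20992 (.leaf 0x60201090000090007) (.leaf 0x0))))))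

def argWS_1857 : Store := (.node 21004 (.node 20998 (.node 20995 (.node 20994 (.leaf 0xd0b0002) (.leaf 0x0)) (.node 20996 (.leaf 0x1020202000003010202000701000d) (.node 20997 (.leaf 0x0) (.leaf 0xb0001)))) (.node 21001 (.node 20999 (.leaf 0x0) (.node 21000 (.leaf 0x704010904020006) (.leaf 0x0))) (.node 21002 (.leaf 0xf0b0002) (.node 21003 (.leaf 0x0) (.leaf 0x520a005206))))) (.node 21010 (.node 21007 (.node 21005 (.leaf 0xa0f0b0003) (.node 21006 (.leaf 0x0) (.leaf 0xf0b0a0003))) (.node 21008 (.leaf 0x0) (.node 21009 (.leaf 0x0) (.leaf 0x2040206030005)))) (.node 21013 (.node 21011 (.leaf 0x0) (.node 21012 (.leaf 0xf0b0002) (.leaf 0x0))) (.node 21014 (.leaf 0xb0001) (.node 21015 (.leaf 0x10700070209020202000701000c) (.leaf 0x0))))))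

def argWS_1858 : Store := (.node 20993 argWS_1856 argWS_1857)

def argWS_1859 : Store := (.node 20971 argWS_1855 argWS_1858)

def argWS_1860 : Store := (.node 21027 (.node 21021 (.node 21018 (.node 21017 (.leaf 0xf0b0b0003) (.leaf 0x0)) (.node 21019 (.leaf 0x5219005215) (.node 21020 (.leaf 0x4000403080202000701000a) (.leaf 0x0)))) (.node 21024 (.node 21022 (.leaf 0xb0a0002) (.node 21023 (.leaf 0x0) (.leaf 0x700020106060202000701000b))) (.node 21025 (.leaf 0x0) (.node 21026 (.leaf 0xa0f0b0b0004) (.leaf 0x50601050002000703040103000c))))) (.node 21032 (.node 21029 (.node 21028 (.leaf 0x0) (.leaf 0xb0a0002)) (.node 21030 (.leaf 0x0) (.node 21031 (.leaf 0x805000301010200000703040103000e) (.leaf 0x0)))) (.node 21035 (.node 21033 (.leaf 0xe0a0002) (.node 21034 (.leaf 0x0) (.leaf 0x5229))) (.node 21036 (.leaf 0x805000207030006) (.node 21037 (.leaf 0x0) (.leaf 0xd0b0b0003))))))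

def argWS_1861 : Store := (.node 21049 (.node 21043 (.node 21040 (.node 21039 (.leaf 0x0) (.leaf 0x206010703060006)) (.node 21041 (.leaf 0x0) (.node 21042 (.leaf 0xb0a0a0003) (.leaf 0xf0001)))) (.node 21046 (.node 21044 (.leaf 0x80109020602000703040103000c) (.node 21045 (.leaf 0x0) (.leaf 0xf0a0a0003))) (.node 21047 (.leaf 0x0) (.node 21048 (.leaf 0xf0b0a0a0004) (.leaf 0x5237005236))))) (.node 21055 (.node 21052 (.node 21050 (.leaf 0x6020000090206020202000701000d) (.node 21051 (.leaf 0x0) (.leaf 0xf0b0a0003))) (.node 21053 (.leaf 0x0) (.node 21054 (.leaf 0xb0a0002) (.leaf 0x0)))) (.node 21058 (.node 21056 (.leaf 0x0) (.node 21057 (.leaf 0xf0a0a0003) (.leaf 0x0))) (.node 21059 (.leaf 0xf0a0a0003) (.node 21060 (.leaf 0x900020106060202000701000c) (.leaf 0x0))))))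

def argWS_1862 : Store := (.node 21038 argWS_1860 argWS_1861)

def argWS_1863 : Store := (.node 21072 (.node 21066 (.node 21063 (.node 21062 (.leaf 0x0) (.leaf 0x5245005242)) (.node 21064 (.leaf 0x200090806000802040105000c) (.node 21065 (.leaf 0x0) (.leaf 0xb0a0a0003)))) (.node 21069 (.node 21067 (.leaf 0x0) (.node 21068 (.leaf 0x200020007030401030009) (.leaf 0x0))) (.node 21070 (.leaf 0xb0a0002) (.node 21071 (.leaf 0x50202020900000202000701000c) (.leaf 0x0))))) (.node 21077 (.node 21074 (.node 21073 (.leaf 0xb0b0002) (.leaf 0x0)) (.node 21075 (.leaf 0x70308020401050007) (.node 21076 (.leaf 0x0) (.leaf 0xf0b0b0003)))) (.node 21080 (.node 21078 (.leaf 0x0) (.node 21079 (.leaf 0x5255005251) (.leaf 0xa0f0b0b0004))) (.node 21081 (.leaf 0x0) (.node 21082 (.leaf 0xf0b0002) (.leaf 0x0))))))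

def argWS_1864 : Store := (.node 21094 (.node 21088 (.node 21085 (.node 21084 (.leaf 0x0) (.leaf 0x40306010500020202000701000c)) (.node 21086 (.leaf 0x0) (.node 21087 (.leaf 0xb0b0002) (.leaf 0x0)))) (.node 21091 (.node 21089 (.leaf 0x20103040005000703040103000c) (.node 21090 (.leaf 0x0) (.leaf 0xb0001))) (.node 21092 (.leaf 0x0) (.node 21093 (.leaf 0x322d005263) (.leaf 0xf0001))))) (.node 21100 (.node 21097 (.node 21095 (.leaf 0x0) (.node 21096 (.leaf 0xb0f0a0003) (.leaf 0x0))) (.node 21098 (.leaf 0x0) (.node 21099 (.leaf 0x800000004080703040103000b) (.leaf 0x0)))) (.node 21103 (.node 21101 (.leaf 0xd0b0002) (.node 21102 (.leaf 0x0) (.leaf 0x50306020702010008))) (.node 21104 (.leaf 0x0) (.node 21105 (.leaf 0x0) (.leaf 0xb0a0f0003))))))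

def argWS_1865 : Store := (.node 21083 argWS_1863 argWS_1864)

def argWS_1866 : Store := (.node 21061 argWS_1862 argWS_1865)

def argWS_1867 : Store := (.node 21016 argWS_1859 argWS_1866)

def argWS_1868 : Store := (.node 21117 (.node 21111 (.node 21108 (.node 21107 (.leaf 0x5271005270) (.leaf 0xd0b0b0003)) (.node 21109 (.leaf 0x0) (.node 21110 (.leaf 0x50103010102000007) (.leaf 0x0)))) (.node 21114 (.node 21112 (.leaf 0xb0b0002) (.node 21113 (.leaf 0xf0b0b0a0004) (.leaf 0x104000206030006))) (.node 21115 (.leaf 0x0) (.node 21116 (.leaf 0xb0a0002) (.leaf 0x0))))) (.node 21122 (.node 21119 (.node 21118 (.leaf 0x270900527c) (.leaf 0x4030306040005)) (.node 21120 (.leaf 0x0) (.node 21121 (.leaf 0xe0001) (.leaf 0x0)))) (.node 21125 (.node 21123 (.leaf 0xb0b0a0a0004) (.node 21124 (.leaf 0x0) (.leaf 0x0))) (.node 21126 (.leaf 0x603090206020202000701000b) (.node 21127 (.leaf 0x0) (.leaf 0xa0f0002))))))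

def argWS_1869 : Store := (.node 21139 (.node 21133 (.node 21130 (.node 21129 (.leaf 0x0) (.leaf 0x5020101090805000703040103000d)) (.node 21131 (.leaf 0x0) (.node 21132 (.leaf 0xb0001) (.leaf 0x0)))) (.node 21136 (.node 21134 (.leaf 0x528c) (.node 21135 (.leaf 0xa0001) (.leaf 0x0))) (.node 21137 (.leaf 0x10301010904020007) (.node 21138 (.leaf 0x0) (.leaf 0xb0f0a0003))))) (.node 21145 (.node 21142 (.node 21140 (.leaf 0x2020201070306000703040103000d) (.node 21141 (.leaf 0x0) (.leaf 0xb0f0a0a0004))) (.node 21143 (.leaf 0x0) (.node 21144 (.leaf 0x8000601050002000703040103000d) (.leaf 0x0)))) (.node 21148 (.node 21146 (.leaf 0xf0a0a0003) (.node 21147 (.leaf 0x0) (.leaf 0xb0b0a0a0004))) (.node 21149 (.leaf 0x529b00529a) (.node 21150 (.leaf 0x60601010908050802040105000c) (.leaf 0x0))))))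

def argWS_1870 : Store := (.node 21128 argWS_1868 argWS_1869)

def argWS_1871 : Store := (.node 21162 (.node 21156 (.node 21153 (.node 21152 (.leaf 0xf0b0b0a0a0005) (.leaf 0x0)) (.node 21154 (.leaf 0x20000020804000007) (.node 21155 (.leaf 0x0) (.leaf 0xe0a0a0003)))) (.node 21159 (.node 21157 (.leaf 0x20003010102000202000701000d) (.node 21158 (.leaf 0x0) (.leaf 0xd0b0002))) (.node 21160 (.leaf 0x0) (.node 21161 (.leaf 0x102090806000202000701000b) (.leaf 0x0))))) (.node 21167 (.node 21164 (.node 21163 (.leaf 0xb0b0a0003) (.leaf 0x0)) (.node 21165 (.leaf 0x600070009030802040105000b) (.node 21166 (.leaf 0x0) (.leaf 0x0)))) (.node 21170 (.node 21168 (.leaf 0x52ae0052ab) (.node 21169 (.leaf 0xf0a0002) (.leaf 0x0))) (.node 21171 (.leaf 0x0) (.node 21172 (.leaf 0x206010206030802040105000b) (.leaf 0x0))))))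

def argWS_1872 : Store := (.node 21184 (.node 21178 (.node 21175 (.node 21174 (.leaf 0xf0a0002) (.leaf 0x0)) (.node 21176 (.leaf 0xf0a0002) (.node 21177 (.leaf 0x52b7) (.leaf 0x8000402000003010202000701000d)))) (.node 21181 (.node 21179 (.leaf 0x0) (.node 21180 (.leaf 0xd0001) (.leaf 0x0))) (.node 21182 (.leaf 0x4000400020804000202000701000d) (.node 21183 (.leaf 0x0) (.leaf 0xf0b0b0a0a0005))))) (.node 21190 (.node 21187 (.node 21185 (.leaf 0xb0b0a0003) (.node 21186 (.leaf 0x6060106030500040802040105000d) (.leaf 0x0))) (.node 21188 (.leaf 0xd0b0b0003) (.node 21189 (.leaf 0x0) (.leaf 0xd0b0b0003)))) (.node 21193 (.node 21191 (.leaf 0x52c50052c4) (.node 21192 (.leaf 0xe0001) (.leaf 0x0))) (.node 21194 (.leaf 0x502060408020401050009) (.node 21195 (.leaf 0x0) (.leaf 0xf0a0a0003))))))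

def argWS_1873 : Store := (.node 21173 argWS_1871 argWS_1872)

def argWS_1874 : Store := (.node 21151 argWS_1870 argWS_1873)

def argWS_1875 : Store := (.node 21207 (.node 21201 (.node 21198 (.node 21197 (.leaf 0xe0a0002) (.leaf 0xd0b0002)) (.node 21199 (.leaf 0x4030900090802040105000a) (.node 21200 (.leaf 0x0) (.leaf 0x0)))) (.node 21204 (.node 21202 (.leaf 0x52d00052cd) (.node 21203 (.leaf 0x409000009000703040103000c) (.leaf 0x0))) (.node 21205 (.leaf 0xa0f0002) (.node 21206 (.leaf 0x0) (.leaf 0x701010904020802040105000b))))) (.node 21212 (.node 21209 (.node 21208 (.leaf 0x0) (.leaf 0xb0f0a0a0004)) (.node 21210 (.leaf 0x306020702010802040105000b) (.node 21211 (.leaf 0x0) (.leaf 0xf0b0a0a0004)))) (.node 21215 (.node 21213 (.leaf 0x0) (.node 21214 (.leaf 0x7010106030500040802040105000d) (.leaf 0x0))) (.node 21216 (.leaf 0xf0b0a0003) (.node 21217 (.leaf 0x0) (.leaf 0x52e0))))))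

def argWS_1876 : Store := (.node 21229 (.node 21223 (.node 21220 (.node 21219 (.leaf 0xb0b0a0a0004) (.leaf 0x0)) (.node 21221 (.leaf 0xa0f0b0003) (.node 21222 (.leaf 0x0) (.leaf 0x0)))) (.node 21226 (.node 21224 (.leaf 0xb0f0a0003) (.node 21225 (.leaf 0x305010904020006) (.leaf 0x0))) (.node 21227 (.leaf 0xf0b0a0a0004) (.node 21228 (.leaf 0x0) (.leaf 0x6010102000802040105000a))))) (.node 21235 (.node 21232 (.node 21230 (.leaf 0x0) (.node 21231 (.leaf 0xf0b0002) (.leaf 0x0))) (.node 21233 (.leaf 0x52ef0052eb) (.node 21234 (.leaf 0x900050206040202000701000b) (.leaf 0x0)))) (.node 21238 (.node 21236 (.leaf 0xb0b0002) (.node 21237 (.leaf 0x0) (.leaf 0x20103010908050202000701000c))) (.node 21239 (.leaf 0x0) (.node 21240 (.leaf 0xd0001) (.leaf 0x101020106060006))))))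

def argWS_1877 : Store := (.node 21218 argWS_1875 argWS_1876)

def argWS_1878 : Store := (.node 21252 (.node 21246 (.node 21243 (.node 21242 (.leaf 0x0) (.leaf 0xb0b0a0a0004)) (.node 21244 (.leaf 0x0) (.node 21245 (.leaf 0xe0a0a0003) (.leaf 0xa0a0002)))) (.node 21249 (.node 21247 (.leaf 0x52fd0052fc) (.node 21248 (.leaf 0xb0b0a0a0004) (.leaf 0x0))) (.node 21250 (.leaf 0xb0001) (.node 21251 (.leaf 0x0) (.leaf 0x0))))) (.node 21258 (.node 21255 (.node 21253 (.leaf 0xf0a0002) (.node 21254 (.leaf 0xf0001) (.leaf 0x5305000e29))) (.node 21256 (.leaf 0xb0b0a0003) (.node 21257 (.leaf 0x0) (.leaf 0xd0b0002)))) (.node 21261 (.node 21259 (.leaf 0x0) (.node 21260 (.leaf 0x0) (.leaf 0xb0b0002))) (.node 21262 (.leaf 0x20000000408010007) (.node 21263 (.leaf 0x0) (.leaf 0xb0001))))))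

def argWS_1879 : Store := (.node 21275 (.node 21269 (.node 21266 (.node 21265 (.leaf 0x0) (.leaf 0x5310)) (.node 21267 (.leaf 0xa0f0002) (.node 21268 (.leaf 0x0) (.leaf 0x3070007000903000703040103000d)))) (.node 21272 (.node 21270 (.leaf 0x0) (.node 21271 (.leaf 0xa0001) (.leaf 0xb0a0002))) (.node 21273 (.leaf 0x2070209020802040105000a) (.node 21274 (.leaf 0x0) (.leaf 0x0))))) (.node 21281 (.node 21278 (.node 21276 (.leaf 0x531a000746) (.node 21277 (.leaf 0x60401060207020703040103000c) (.leaf 0x0))) (.node 21279 (.leaf 0xb0b0002) (.node 21280 (.leaf 0x0) (.leaf 0xe0a0002)))) (.node 21284 (.node 21282 (.leaf 0x0) (.node 21283 (.leaf 0x0) (.leaf 0xb0a0a0003))) (.node 21285 (.leaf 0x50a0) (.node 21286 (.leaf 0xe0001) (.leaf 0x0))))))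

def argWS_1880 : Store := (.node 21264 argWS_1878 argWS_1879)

def argWS_1881 : Store := (.node 21241 argWS_1877 argWS_1880)

def argWS_1882 : Store := (.node 21196 argWS_1874 argWS_1881)

def argWS_1883 : Store := (.node 21106 argWS_1867 argWS_1882)

def argWS_1884 : Store := (.node 21298 (.node 21292 (.node 21289 (.node 21288 (.leaf 0x60400000408010802040105000c) (.leaf 0x0)) (.node 21290 (.leaf 0xa0a0002) (.node 21291 (.leaf 0x60301090000090802040105000c) (.leaf 0x0)))) (.node 21295 (.node 21293 (.leaf 0xf0a0002) (.node 21294 (.leaf 0x0) (.leaf 0x60400060207020703040103000c))) (.node 21296 (.leaf 0x0) (.node 21297 (.leaf 0xe0d0002) (.leaf 0x0))))) (.node 21303 (.node 21300 (.node 21299 (.leaf 0x5331) (.leaf 0x9070400050005)) (.node 21301 (.leaf 0x0) (.node 21302 (.leaf 0xe0a0002) (.leaf 0x0)))) (.node 21306 (.node 21304 (.leaf 0xf0001) (.node 21305 (.leaf 0x0) (.leaf 0x0))) (.node 21307 (.leaf 0x2060901090202000701000a) (.node 21308 (.leaf 0x0) (.leaf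 0xb0f0002))))))

def argWS_1885 : Store := (.node 21320 (.node 21314 (.node 21311 (.node 21310 (.leaf 0x0) (.leaf 0xb0f0a0003)) (.node 21312 (.leaf 0x533e) (.node 21313 (.leaf 0x7020901060202000701000a) (.leaf 0x0)))) (.node 21317 (.node 21315 (.leaf 0xb0f0002) (.node 21316 (.leaf 0x0) (.leaf 0x700020000030703040103000b))) (.node 21318 (.leaf 0x0) (.node 21319 (.leaf 0xa0a0002) (.leaf 0xa0f0002))))) (.node 21326 (.node 21323 (.node 21321 (.leaf 0x8000003010102000202000701000d) (.node 21322 (.leaf 0x0) (.leaf 0xe0a0002))) (.node 21324 (.leaf 0x0) (.node 21325 (.leaf 0x500020804000202000701000b) (.leaf 0x0)))) (.node 21329 (.node 21327 (.leaf 0xd0b0b0003) (.node 21328 (.leaf 0x0) (.leaf 0x534f00534b))) (.node 21330 (.leaf 0xb0b0a0003) (.node 21331 (.leaf 0x0) (.leaf 0xa0f0b0b0004))))))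

def argWS_1886 : Store := (.node 21309 argWS_1884 argWS_1885)

def argWS_1887 : Store := (.node 21343 (.node 21337 (.node 21334 (.node 21333 (.leaf 0x0) (.leaf 0x0)) (.node 21335 (.leaf 0x503090000090202000701000c) (.node 21336 (.leaf 0x0) (.leaf 0xa0f0b0b0004)))) (.node 21340 (.node 21338 (.leaf 0x0) (.node 21339 (.leaf 0x20608020401050007) (.leaf 0x0))) (.node 21341 (.leaf 0xf0b0b0a0004) (.node 21342 (.leaf 0x0) (.leaf 0xa0001))))) (.node 21348 (.node 21345 (.node 21344 (.leaf 0x535e00535d) (.leaf 0x401090806000006)) (.node 21346 (.leaf 0x0) (.node 21347 (.leaf 0xb0f0002) (.leaf 0x0)))) (.node 21351 (.node 21349 (.leaf 0x204000300000006) (.node 21350 (.leaf 0x0) (.leaf 0xf0b0b0003))) (.node 21352 (.leaf 0x90104010703060007) (.node 21353 (.leaf 0x0) (.leaf 0xe0001))))))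

def argWS_1888 : Store := (.node 21365 (.node 21359 (.node 21356 (.node 21355 (.leaf 0x0) (.leaf 0xf0b0a0a0004)) (.node 21357 (.leaf 0x20003010102000007) (.node 21358 (.leaf 0x0) (.leaf 0xe0a0002)))) (.node 21362 (.node 21360 (.leaf 0x0) (.node 21361 (.leaf 0x536f00536b) (.leaf 0x5020904020802040105000a))) (.node 21363 (.leaf 0x0) (.node 21364 (.leaf 0xb0f0a0a0004) (.leaf 0x0))))) (.node 21371 (.node 21368 (.node 21366 (.leaf 0x30306040802040105000a) (.node 21367 (.leaf 0x0) (.leaf 0xf0b0002))) (.node 21369 (.leaf 0xd0001) (.node 21370 (.leaf 0x194f) (.leaf 0x20403010102000007)))) (.node 21374 (.node 21372 (.leaf 0x0) (.node 21373 (.leaf 0xf0b0b0a0a0005) (.leaf 0x0))) (.node 21375 (.leaf 0x2000003010802040105000c) (.node 21376 (.leaf 0x0) (.leaf 0xa0f0b0b0004))))))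

def argWS_1889 : Store := (.node 21354 argWS_1887 argWS_1888)

def argWS_1890 : Store := (.node 21332 argWS_1886 argWS_1889)

def argWS_1891 : Store := (.node 21388 (.node 21382 (.node 21379 (.node 21378 (.leaf 0xe0a0002) (.leaf 0x7010408010802040105000a)) (.node 21380 (.leaf 0x0) (.node 21381 (.leaf 0xb0f0a0a0004) (.leaf 0x0)))) (.node 21385 (.node 21383 (.leaf 0xb0b0a0003) (.node 21384 (.leaf 0x5386005385) (.leaf 0x10409000009000703040103000c))) (.node 21386 (.leaf 0x0) (.node 21387 (.leaf 0xf0b0b0a0004) (.leaf 0x0))))) (.node 21393 (.node 21390 (.node 21389 (.leaf 0xb0f0a0a0004) (.leaf 0x0)) (.node 21391 (.leaf 0x0) (.node 21392 (.leaf 0x602000601050002000703040103000e) (.leaf 0x0)))) (.node 21396 (.node 21394 (.leaf 0xb0b0002) (.node 21395 (.leaf 0x0) (.leaf 0x50206020702010007))) (.node 21397 (.leaf 0x0) (.node 21398 (.leaf 0xe0001) (.leaf 0x0))))))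

def argWS_1892 : Store := (.node 21410 (.node 21404 (.node 21401 (.node 21400 (.leaf 0x7010908050005) (.leaf 0x0)) (.node 21402 (.leaf 0xe0001) (.node 21403 (.leaf 0x0) (.leaf 0x539a005396)))) (.node 21407 (.node 21405 (.leaf 0xf0a0002) (.node 21406 (.leaf 0x0) (.leaf 0x9060301010200000703040103000d))) (.node 21408 (.leaf 0x0) (.node 21409 (.leaf 0x502000901090202000701000b) (.leaf 0x0))))) (.node 21416 (.node 21413 (.node 21411 (.leaf 0xb0f0a0003) (.node 21412 (.leaf 0x0) (.leaf 0x103000206030006))) (.node 21414 (.leaf 0x0) (.node 21415 (.leaf 0xa0f0b0b0004) (.leaf 0x0)))) (.node 21419 (.node 21417 (.leaf 0x53a7) (.node 21418 (.leaf 0xb0b0a0003) (.leaf 0x0))) (.node 21420 (.leaf 0x205020202010202000701000b) (.node 21421 (.leaf 0x0) (.leaf 0xa0f0b0003))))))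

def argWS_1893 : Store := (.node 21399 argWS_1891 argWS_1892)

def argWS_1894 : Store := (.node 21433 (.node 21427 (.node 21424 (.node 21423 (.leaf 0x501070206000802040105000b) (.leaf 0x0)) (.node 21425 (.leaf 0xf0a0a0003) (.node 21426 (.leaf 0x0) (.leaf 0x209040202020007010009)))) (.node 21430 (.node 21428 (.leaf 0x0) (.node 21429 (.leaf 0xe0a0a0003) (.leaf 0x0))) (.node 21431 (.leaf 0x53b5) (.node 21432 (.leaf 0xf0b0002) (.leaf 0x0))))) (.node 21438 (.node 21435 (.node 21434 (.leaf 0x200020000030703040103000b) (.leaf 0x0)) (.node 21436 (.leaf 0xf0b0b0a0a0005) (.node 21437 (.leaf 0xf0a0002) (.leaf 0x90702000003010802040105000c)))) (.node 21441 (.node 21439 (.leaf 0x0) (.node 21440 (.leaf 0x0) (.leaf 0x20905020202010202000701000c))) (.node 21442 (.leaf 0x0) (.node 21443 (.leaf 0xa0f0002) (.leaf 0x0))))))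

def argWS_1895 : Store := (.node 21455 (.node 21449 (.node 21446 (.node 21445 (.leaf 0x53c30053bf) (.leaf 0x6020002000003010802040105000d)) (.node 21447 (.leaf 0x0) (.node 21448 (.leaf 0xb0a0002) (.leaf 0x0)))) (.node 21452 (.node 21450 (.leaf 0xf0b0b0a0004) (.node 21451 (.leaf 0x0) (.leaf 0x0))) (.node 21453 (.leaf 0x403090805000703040103000b) (.node 21454 (.leaf 0x0) (.leaf 0xf0a0002))))) (.node 21461 (.node 21458 (.node 21456 (.leaf 0x0) (.node 21457 (.leaf 0xb0001) (.leaf 0xb0b0a0a0004))) (.node 21459 (.leaf 0x53d10053d0) (.node 21460 (.leaf 0xf0b0b0a0a0005) (.leaf 0x0)))) (.node 21464 (.node 21462 (.leaf 0x5030501090402000703040103000d) (.node 21463 (.leaf 0x0) (.leaf 0xa0001))) (.node 21465 (.leaf 0x50000070209020802040105000c) (.node 21466 (.leaf 0x0) (.leaf 0xb0f0a0a0004))))))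

def argWS_1896 : Store := (.node 21444 argWS_1894 argWS_1895)

def argWS_1897 : Store := (.node 21422 argWS_1893 argWS_1896)

def argWS_1898 : Store := (.node 21377 argWS_1890 argWS_1897)

def argWS_1899 : Store := (.node 21478 (.node 21472 (.node 21469 (.node 21468 (.leaf 0x0) (.leaf 0x1030400050005)) (.node 21470 (.leaf 0x0) (.node 21471 (.leaf 0xa0a0002) (.leaf 0x0)))) (.node 21475 (.node 21473 (.leaf 0x53df) (.node 21474 (.leaf 0xb0b0a0a0004) (.leaf 0x0))) (.node 21476 (.leaf 0x1040901090802040105000a) (.node 21477 (.leaf 0x0) (.leaf 0xb0f0a0003))))) (.node 21483 (.node 21480 (.node 21479 (.leaf 0x205010904020802040105000b) (.leaf 0x0)) (.node 21481 (.leaf 0xf0001) (.node 21482 (.leaf 0x0) (.leaf 0x306020702010202000701000b)))) (.node 21486 (.node 21484 (.leaf 0x0) (.node 21485 (.leaf 0xb0b0a0a0004) (.leaf 0x0))) (.node 21487 (.leaf 0xe0d0002) (.node 21488 (.leaf 0x53ee0053ed) (.leaf 0x204020804000202000701000b))))))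

def argWS_1900 : Store := (.node 21500 (.node 21494 (.node 21491 (.node 21490 (.leaf 0x0) (.leaf 0xa0f0b0003)) (.node 21492 (.leaf 0x0) (.node 21493 (.leaf 0x204090806000006) (.leaf 0x0)))) (.node 21497 (.node 21495 (.leaf 0xf0001) (.node 21496 (.leaf 0xf0001) (.leaf 0x10601050002000703040103000c))) (.node 21498 (.leaf 0x0) (.node 21499 (.leaf 0xb0b0002) (.leaf 0x0))))) (.node 21506 (.node 21503 (.node 21501 (.leaf 0xf0b0b0a0a0005) (.node 21502 (.leaf 0xd0b0002) (.leaf 0x53fd0053fc))) (.node 21504 (.leaf 0x2010303080005) (.node 21505 (.leaf 0x0) (.leaf 0xb0f0a0a0004)))) (.node 21509 (.node 21507 (.leaf 0x0) (.node 21508 (.leaf 0xb0b0a0a0004) (.leaf 0x0))) (.node 21510 (.leaf 0x0) (.node 21511 (.leaf 0x10206020702010202000701000c) (.leaf 0x0))))))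

def argWS_1901 : Store := (.node 21489 argWS_1899 argWS_1900)

def argWS_1902 : Store := (.node 21523 (.node 21517 (.node 21514 (.node 21513 (.leaf 0x0) (.leaf 0x5408000ece)) (.node 21515 (.leaf 0x0) (.node 21516 (.leaf 0xf0b0002) (.leaf 0x0)))) (.node 21520 (.node 21518 (.leaf 0x0) (.node 21519 (.leaf 0x107010908050802040105000b) (.leaf 0x0))) (.node 21521 (.leaf 0xf0b0b0a0004) (.node 21522 (.leaf 0x0) (.leaf 0xb0f0a0003))))) (.node 21528 (.node 21525 (.node 21524 (.leaf 0xb0b0a0a0004) (.leaf 0x5413005412)) (.node 21526 (.leaf 0x9070006010500020008) (.node 21527 (.leaf 0x0) (.leaf 0xf0b0002)))) (.node 21531 (.node 21529 (.leaf 0x0) (.node 21530 (.leaf 0xb0a0a0003) (.leaf 0x0))) (.node 21532 (.leaf 0x0) (.node 21533 (.leaf 0x2060107000903000703040103000d) (.leaf 0x0))))))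

def argWS_1903 : Store := (.node 21545 (.node 21539 (.node 21536 (.node 21535 (.leaf 0xb0f0002) (.leaf 0x0)) (.node 21537 (.leaf 0xe0001) (.node 21538 (.leaf 0x5420) (.leaf 0x202060202020007010009)))) (.node 21542 (.node 21540 (.leaf 0x0) (.node 21541 (.leaf 0xb0a0a0003) (.leaf 0x0))) (.node 21543 (.leaf 0x20401020901060007) (.node 21544 (.leaf 0x0) (.leaf 0xb0f0a0a0004))))) (.node 21551 (.node 21548 (.node 21546 (.leaf 0x80004070206000202000701000c) (.node 21547 (.leaf 0x0) (.leaf 0xe0001))) (.node 21549 (.leaf 0x0) (.node 21550 (.leaf 0x4070206000802040105000b) (.leaf 0x0)))) (.node 21554 (.node 21552 (.leaf 0x0) (.node 21553 (.leaf 0x542f) (.leaf 0x6040000020804000802040105000d))) (.node 21555 (.leaf 0x0) (.node 21556 (.leaf 0xb0001) (.leaf 0x0))))))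

def argWS_1904 : Store := (.node 21534 argWS_1902 argWS_1903)

def argWS_1905 : Store := (.node 21512 argWS_1901 argWS_1904)

def argWS_1906 : Store := (.node 21568 (.node 21562 (.node 21559 (.node 21558 (.leaf 0x20901090009000703040103000c) (.leaf 0x0)) (.node 21560 (.leaf 0xa0a0002) (.node 21561 (.leaf 0x20400090206020802040105000c) (.leaf 0x0)))) (.node 21565 (.node 21563 (.leaf 0x0) (.node 21564 (.leaf 0x20508020401050007) (.leaf 0x0))) (.node 21566 (.leaf 0xb0001) (.node 21567 (.leaf 0x0) (.leaf 0x543e00543a))))) (.node 21573 (.node 21570 (.node 21569 (.leaf 0x4000308000703040103000a) (.leaf 0x0)) (.node 21571 (.leaf 0xb0a0f0003) (.node 21572 (.leaf 0x0) (.leaf 0xb0b0002)))) (.node 21576 (.node 21574 (.leaf 0x0) (.node 21575 (.leaf 0x0) (.leaf 0x7030005000703040103000a))) (.node 21577 (.leaf 0x0) (.node 21578 (.leaf 0xf0b0a0a0004) (.leaf 0x0))))))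

def argWS_1907 : Store := (.node 21590 (.node 21584 (.node 21581 (.node 21580 (.leaf 0xb0b0a0a0004) (.leaf 0x544b)) (.node 21582 (.leaf 0x400090206020802040105000c) (.node 21583 (.leaf 0x0) (.leaf 0xb0001)))) (.node 21587 (.node 21585 (.leaf 0x0) (.node 21586 (.leaf 0x4000900090802040105000b) (.leaf 0x0))) (.node 21588 (.leaf 0xb0f0002) (.node 21589 (.leaf 0x7000903000703040103000c) (.leaf 0x0))))) (.node 21596 (.node 21593 (.node 21591 (.leaf 0xb0f0a0003) (.node 21592 (.leaf 0x0) (.leaf 0x5457))) (.node 21594 (.leaf 0x309000908020401050009) (.node 21595 (.leaf 0x0) (.leaf 0xf0001)))) (.node 21599 (.node 21597 (.leaf 0x0) (.node 21598 (.leaf 0x4020500020804000202000701000d) (.leaf 0x0))) (.node 21600 (.leaf 0xe0a0002) (.node 21601 (.leaf 0xb0a0a0003) (.leaf 0x40301070306000703040103000c))))))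

def argWS_1908 : Store := (.node 21579 argWS_1906 argWS_1907)

def argWS_1909 : Store := (.node 21613 (.node 21607 (.node 21604 (.node 21603 (.leaf 0x0) (.leaf 0xb0a0002)) (.node 21605 (.leaf 0x0) (.node 21606 (.leaf 0xf0a0002) (.leaf 0x5465005464)))) (.node 21610 (.node 21608 (.leaf 0xb0b0a0003) (.node 21609 (.leaf 0x0) (.leaf 0xa0f0b0003))) (.node 21611 (.leaf 0x0) (.node 21612 (.leaf 0x0) (.leaf 0x7010703060802040105000a))))) (.node 21619 (.node 21616 (.node 21614 (.leaf 0x0) (.node 21615 (.leaf 0xf0b0b0003) (.leaf 0x0))) (.node 21617 (.leaf 0xa0f0b0003) (.node 21618 (.leaf 0x5470001567) (.leaf 0x80300090000090802040105000c)))) (.node 21622 (.node 21620 (.leaf 0x0) (.node 21621 (.leaf 0xd0001) (.leaf 0x0))) (.node 21623 (.leaf 0x90700050206040802040105000c) (.node 21624 (.leaf 0x0) (.leaf 0xb0b0002))))))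

def argWS_1910 : Store := (.node 21636 (.node 21630 (.node 21627 (.node 21626 (.leaf 0x705070209020202000701000b) (.leaf 0x0)) (.node 21628 (.leaf 0xd0b0b0003) (.node 21629 (.leaf 0x0) (.leaf 0xf0a0a0003)))) (.node 21633 (.node 21631 (.leaf 0x547d) (.node 21632 (.leaf 0xa0f0002) (.leaf 0x0))) (.node 21634 (.leaf 0x7010105020604000703040103000d) (.node 21635 (.leaf 0x0) (.leaf 0xb0b0a0003))))) (.node 21642 (.node 21639 (.node 21637 (.leaf 0x103080007030401030009) (.node 21638 (.leaf 0x0) (.leaf 0xa0f0b0003))) (.node 21640 (.leaf 0x0) (.node 21641 (.leaf 0x40904020202000701000a) (.leaf 0x0)))) (.node 21645 (.node 21643 (.leaf 0xa0f0b0b0004) (.node 21644 (.leaf 0x0) (.leaf 0xf0001))) (.node 21646 (.leaf 0x548c00548b) (.node 21647 (.leaf 0xa0001) (.leaf 0x0))))))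

def argWS_1911 : Store := (.node 21625 argWS_1909 argWS_1910)

def argWS_1912 : Store := (.node 21602 argWS_1908 argWS_1911)

def argWS_1913 : Store := (.node 21557 argWS_1905 argWS_1912)

def argWS_1914 : Store := (.node 21467 argWS_1898 argWS_1913)

def argWS_1915 : Store := (.node 21287 argWS_1883 argWS_1914)

def argWS_1916 : Store := (.node 20926 argWS_1852 argWS_1915)

def argWS_1917 : Store := (.node 21659 (.node 21653 (.node 21650 (.node 21649 (.leaf 0xb0a0a0003) (.leaf 0x0)) (.node 21651 (.leaf 0x0) (.node 21652 (.leaf 0xd0001) (.leaf 0xb0b0a0003)))) (.node 21656 (.node 21654 (.leaf 0x204090206020006) (.node 21655 (.leaf 0x0) (.leaf 0xa0f0b0b0004))) (.node 21657 (.leaf 0x0) (.node 21658 (.leaf 0x5498005494) (.leaf 0x1050202000003010802040105000d))))) (.node 21664 (.node 21661 (.node 21660 (.leaf 0x0) (.leaf 0xa0a0002)) (.node 21662 (.leaf 0x0) (.node 21663 (.leaf 0xb0001) (.leaf 0x0)))) (.node 21667 (.node 21665 (.leaf 0x0) (.node 21666 (.leaf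 0x8050002020900000202000701000d) (.leaf 0x0))) (.node 21668 (.leaf 0xf0b0a0a0004) (.node 21669 (.leaf 0x0) (.leaf 0xb0b0002))))))

def argWS_1918 : Store := (.node 21681 (.node 21675 (.node 21672 (.node 21671 (.leaf 0x54a50054a4) (.leaf 0x40105020202010202000701000c)) (.node 21673 (.leaf 0x0) (.node 21674 (.leaf 0xf0001) (.leaf 0x0)))) (.node 21678 (.node 21676 (.leaf 0x7070206000202000701000a) (.node 21677 (.leaf 0x0) (.leaf 0xb0a0a0003))) (.node 21679 (.leaf 0x7020600000703040103000a) (.node 21680 (.leaf 0x0) (.leaf 0xb0f0a0003))))) (.node 21687 (.node 21684 (.node 21682 (.leaf 0x0) (.node 21683 (.leaf 0xd0001) (.leaf 0x54b20054b1))) (.node 21685 (.leaf 0x40402000003010202000701000c) (.node 21686 (.leaf 0x0) (.leaf 0xf0b0b0a0a0005)))) (.node 21690 (.node 21688 (.leaf 0x0) (.node 21689 (.leaf 0x20502020007010007) (.leaf 0x0))) (.node 21691 (.leaf 0xb0a0f0003) (.node 21692 (.leaf 0x60207020007010008) (.leaf 0x0))))))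

def argWS_1919 : Store := (.node 21670 argWS_1917 argWS_1918)

def argWS_1920 : Store := (.node 21704 (.node 21698 (.node 21695 (.node 21694 (.leaf 0xf0b0a0a0004) (.leaf 0x0)) (.node 21696 (.leaf 0x2060208020401050008) (.node 21697 (.leaf 0x0) (.leaf 0xd0001)))) (.node 21701 (.node 21699 (.leaf 0x0) (.node 21700 (.leaf 0x54c2) (.leaf 0x8020005020202010008))) (.node 21702 (.leaf 0x0) (.node 21703 (.leaf 0xf0001) (.leaf 0x0))))) (.node 21709 (.node 21706 (.node 21705 (.leaf 0x20103090806000802040105000c) (.leaf 0x0)) (.node 21707 (.leaf 0xe0d0002) (.node 21708 (.leaf 0xa0001) (.leaf 0x40400000300000802040105000c)))) (.node 21712 (.node 21710 (.leaf 0x0) (.node 21711 (.leaf 0x0) (.leaf 0x70000070206000202000701000c))) (.node 21713 (.leaf 0x0) (.node 21714 (.leaf 0xf0b0a0003) (.leaf 0x0))))))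

def argWS_1921 : Store := (.node 21726 (.node 21720 (.node 21717 (.node 21716 (.leaf 0x54d20054ce) (.leaf 0xe0001)) (.node 21718 (.leaf 0x0) (.node 21719 (.leaf 0xa0f0b0003) (.leaf 0x0)))) (.node 21723 (.node 21721 (.leaf 0x0) (.node 21722 (.leaf 0xf0a0a0003) (.leaf 0x2040408010005))) (.node 21724 (.leaf 0x0) (.node 21725 (.leaf 0xf0a0a0003) (.leaf 0x0))))) (.node 21732 (.node 21729 (.node 21727 (.leaf 0x54dd) (.node 21728 (.leaf 0x2060009020602000703040103000d) (.leaf 0x0))) (.node 21730 (.leaf 0xd0b0002) (.node 21731 (.leaf 0x0) (.leaf 0xa0001)))) (.node 21735 (.node 21733 (.leaf 0x0) (.node 21734 (.leaf 0x0) (.leaf 0x50000050206040202000701000c))) (.node 21736 (.leaf 0x0) (.node 21737 (.leaf 0xf0b0a0003) (.leaf 0x0))))))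

def argWS_1922 : Store := (.node 21715 argWS_1920 argWS_1921)

def argWS_1923 : Store := (.node 21693 argWS_1919 argWS_1922)

def argWS_1924 : Store := (.node 21749 (.node 21743 (.node 21740 (.node 21739 (.leaf 0x8010105020604000703040103000d) (.leaf 0x0)) (.node 21741 (.leaf 0xb0a0f0003) (.node 21742 (.leaf 0x0) (.leaf 0x54ed)))) (.node 21746 (.node 21744 (.leaf 0x90402000003010007) (.node 21745 (.leaf 0x0) (.leaf 0xe0d0002))) (.node 21747 (.leaf 0x0) (.node 21748 (.leaf 0x6060106010500020802040105000d) (.leaf 0x0))))) (.node 21754 (.node 21751 (.node 21750 (.leaf 0xf0b0002) (.leaf 0x2000006010500020202000701000d)) (.node 21752 (.leaf 0x0) (.node 21753 (.leaf 0xb0001) (.leaf 0x0)))) (.node 21757 (.node 21755 (.leaf 0x501010904020202000701000b) (.node 21756 (.leaf 0x0) (.leaf 0xa0f0b0b0004))) (.node 21758 (.leaf 0x0) (.node 21759 (.leaf 0x4000306030500040202000701000d) (.leaf 0x0))))))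

def argWS_1925 : Store := (.node 21771 (.node 21765 (.node 21762 (.node 21761 (.leaf 0xb0b0a0003) (.leaf 0x0)) (.node 21763 (.leaf 0x55010054fd) (.node 21764 (.leaf 0xf0b0b0003) (.leaf 0x0)))) (.node 21768 (.node 21766 (.leaf 0x4020603000703040103000a) (.node 21767 (.leaf 0x0) (.leaf 0xf0b0a0003))) (.node 21769 (.leaf 0xd0b0002) (.node 21770 (.leaf 0x1070206030005) (.leaf 0x0))))) (.node 21777 (.node 21774 (.node 21772 (.leaf 0xb0f0002) (.node 21773 (.leaf 0x0) (.leaf 0x550c))) (.node 21775 (.leaf 0xb0f0002) (.node 21776 (.leaf 0x0) (.leaf 0x20202090806000007)))) (.node 21780 (.node 21778 (.leaf 0x0) (.node 21779 (.leaf 0xe0a0a0003) (.leaf 0xd0001))) (.node 21781 (.leaf 0xb0a0002) (.node 21782 (.leaf 0x5514005513) (.leaf 0x502090206020802040105000b))))))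

def argWS_1926 : Store := (.node 21760 argWS_1924 argWS_1925)

def argWS_1927 : Store := (.node 21794 (.node 21788 (.node 21785 (.node 21784 (.leaf 0x0) (.leaf 0xb0f0a0003)) (.node 21786 (.leaf 0x0) (.node 21787 (.leaf 0x70101070206000007) (.leaf 0x0)))) (.node 21791 (.node 21789 (.leaf 0xb0f0a0003) (.node 21790 (.leaf 0x80200090000090007) (.leaf 0x0))) (.node 21792 (.leaf 0xa0f0002) (.node 21793 (.leaf 0x0) (.leaf 0x1040703060802040105000a))))) (.node 21799 (.node 21796 (.node 21795 (.leaf 0x0) (.leaf 0x0)) (.node 21797 (.leaf 0x5523) (.node 21798 (.leaf 0xf0b0a0a0004) (.leaf 0x0)))) (.node 21802 (.node 21800 (.leaf 0x1040000030306040202000701000d) (.node 21801 (.leaf 0x0) (.leaf 0xd0b0b0003))) (.node 21803 (.leaf 0x207020902000703040103000c) (.node 21804 (.leaf 0x0) (.leaf 0xd0b0002))))))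

def argWS_1928 : Store := (.node 21816 (.node 21810 (.node 21807 (.node 21806 (.leaf 0x0) (.leaf 0x6030408010802040105000a)) (.node 21808 (.leaf 0x0) (.node 21809 (.leaf 0xe0001) (.leaf 0x0)))) (.node 21813 (.node 21811 (.leaf 0x5531) (.node 21812 (.leaf 0xb0a0002) (.leaf 0x0))) (.node 21814 (.leaf 0xa0001) (.node 21815 (.leaf 0x0) (.leaf 0xa0f0002))))) (.node 21822 (.node 21819 (.node 21817 (.leaf 0x60301020106060202000701000c) (.node 21818 (.leaf 0x0) (.leaf 0xf0b0b0a0004))) (.node 21820 (.leaf 0x0) (.node 21821 (.leaf 0xf0b0b0a0004) (.leaf 0x553c00553b)))) (.node 21825 (.node 21823 (.leaf 0x200020400050802040105000b) (.node 21824 (.leaf 0x0) (.leaf 0xb0f0a0a0004))) (.node 21826 (.leaf 0x0) (.node 21827 (.leaf 0x2090306020702010802040105000d) (.leaf 0x0))))))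

def argWS_1929 : Store := (.node 21805 argWS_1927 argWS_1928)

def argWS_1930 : Store := (.node 21783 argWS_1926 argWS_1929)

def argWS_1931 : Store := (.node 21738 argWS_1923 argWS_1930)

def argWS_1932 : Store := (.node 21839 (.node 21833 (.node 21830 (.node 21829 (.leaf 0xd0b0b0003) (.leaf 0x7020007010005)) (.node 21831 (.leaf 0x0) (.node 21832 (.leaf 0xb0f0a0003) (.leaf 0x0)))) (.node 21836 (.node 21834 (.leaf 0xe0001) (.node 21835 (.leaf 0x2020908050802040105000a) (.leaf 0x0))) (.node 21837 (.leaf 0xb0a0f0003) (.node 21838 (.leaf 0x0) (.leaf 0x554d005549))))) (.node 21844 (.node 21841 (.node 21840 (.leaf 0x902000300000202000701000b) (.leaf 0x0)) (.node 21842 (.leaf 0xf0b0a0a0004) (.node 21843 (.leaf 0x0) (.leaf 0x6010209020602000703040103000d)))) (.node 21847 (.node 21845 (.leaf 0x0) (.node 21846 (.leaf 0xb0f0002) (.leaf 0x601020002080400000703040103000e))) (.node 21848 (.leaf 0x0) (.node 21849 (.leaf 0x0) (.leaf 0x705070209020006))))))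

def argWS_1933 : Store := (.node 21861 (.node 21855 (.node 21852 (.node 21851 (.leaf 0x0) (.leaf 0xf0b0b0003)) (.node 21853 (.leaf 0x0) (.node 21854 (.leaf 0xf0b0a0a0004) (.leaf 0x555d00555c)))) (.node 21858 (.node 21856 (.leaf 0x6000007030401030008) (.node 21857 (.leaf 0x0) (.leaf 0xa0f0b0b0004))) (.node 21859 (.leaf 0x0) (.node 21860 (.leaf 0x701040005000703040103000b) (.leaf 0x0))))) (.node 21867 (.node 21864 (.node 21862 (.leaf 0xd0b0b0003) (.node 21863 (.leaf 0xf0a0a0003) (.leaf 0xd0b0002))) (.node 21865 (.leaf 0x5030004080703040103000b) (.node 21866 (.leaf 0x0) (.leaf 0xb0f0a0003)))) (.node 21870 (.node 21868 (.leaf 0x0) (.node 21869 (.leaf 0x556b005567) (.leaf 0xa0f0b0b0004))) (.node 21871 (.leaf 0x0) (.node 21872 (.leaf 0xb0f0002) (.leaf 0x0))))))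

def argWS_1934 : Store := (.node 21850 argWS_1932 argWS_1933)

def argWS_1935 : Store := (.node 21884 (.node 21878 (.node 21875 (.node 21874 (.leaf 0x0) (.leaf 0xd0b0002)) (.node 21876 (.leaf 0x40400030306040802040105000c) (.node 21877 (.leaf 0x0) (.leaf 0xb0001)))) (.node 21881 (.node 21879 (.leaf 0x0) (.node 21880 (.leaf 0x5576) (.leaf 0xa0001))) (.node 21882 (.leaf 0x0) (.node 21883 (.leaf 0xe0d0002) (.leaf 0x0))))) (.node 21889 (.node 21886 (.node 21885 (.leaf 0x0) (.leaf 0x300090000090802040105000b)) (.node 21887 (.leaf 0x0) (.node 21888 (.leaf 0xf0a0002) (.leaf 0x0)))) (.node 21892 (.node 21890 (.leaf 0x20804000802040105000b) (.node 21891 (.leaf 0x0) (.leaf 0xf0b0002))) (.node 21893 (.leaf 0x0) (.node 21894 (.leaf 0xd0b0b0003) (.leaf 0x5585005584))))))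

def argWS_1936 : Store := (.node 21906 (.node 21900 (.node 21897 (.node 21896 (.leaf 0xe0d0002) (.leaf 0x0)) (.node 21898 (.leaf 0x200090000090202000701000b) (.node 21899 (.leaf 0x0) (.leaf 0xa0f0b0b0004)))) (.node 21903 (.node 21901 (.leaf 0xf0b0002) (.node 21902 (.leaf 0x800000007030401030009) (.leaf 0x0))) (.node 21904 (.leaf 0x0) (.node 21905 (.leaf 0x558f) (.leaf 0x605020901060802040105000b))))) (.node 21912 (.node 21909 (.node 21907 (.leaf 0x0) (.node 21908 (.leaf 0xf0b0002) (.leaf 0x0))) (.node 21910 (.leaf 0x604000002080400000703040103000e) (.node 21911 (.leaf 0x0) (.leaf 0xb0b0002)))) (.node 21915 (.node 21913 (.leaf 0xb0f0002) (.node 21914 (.leaf 0xb0b0a0003) (.leaf 0xb0a0a0003))) (.node 21916 (.leaf 0x559a005599) (.node 21917 (.leaf 0xf0b0b0a0a0005) (.leaf 0x0))))))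

def argWS_1937 : Store := (.node 21895 argWS_1935 argWS_1936)

def argWS_1938 : Store := (.node 21873 argWS_1934 argWS_1937)

def argWS_1939 : Store := (.node 21929 (.node 21923 (.node 21920 (.node 21919 (.leaf 0x305020703000703040103000b) (.leaf 0x0)) (.node 21921 (.leaf 0xd0b0b0003) (.node 21922 (.leaf 0x80500020106060202000701000c) (.leaf 0x0)))) (.node 21926 (.node 21924 (.leaf 0xb0001) (.node 21925 (.leaf 0x0) (.leaf 0x60000020901060202000701000c))) (.node 21927 (.leaf 0x0) (.node 21928 (.leaf 0xf0b0a0003) (.leaf 0x0))))) (.node 21934 (.node 21931 (.node 21930 (.leaf 0x55a8) (.leaf 0x901040308000703040103000b)) (.node 21932 (.leaf 0x0) (.node 21933 (.leaf 0xb0001) (.leaf 0x0)))) (.node 21937 (.node 21935 (.leaf 0x202060402020007010009) (.node 21936 (.leaf 0x0) (.leaf 0xd0001))) (.node 21938 (.leaf 0x7000000000300000202000701000d) (.node 21939 (.leaf 0x0) (.leaf 0xb0f0002))))))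

def argWS_1940 : Store := (.node 21951 (.node 21945 (.node 21942 (.node 21941 (.leaf 0x0) (.leaf 0x604000300000202000701000b)) (.node 21943 (.leaf 0x0) (.node 21944 (.leaf 0xb0b0a0a0004) (.leaf 0x0)))) (.node 21948 (.node 21946 (.leaf 0x55b8) (.node 21947 (.leaf 0x201020106060202000701000b) (.leaf 0x0))) (.node 21949 (.leaf 0xf0b0a0a0004) (.node 21950 (.leaf 0x0) (.leaf 0x901040202090000000703040103000e))))) (.node 21957 (.node 21954 (.node 21952 (.leaf 0x0) (.node 21953 (.leaf 0xa0f0002) (.leaf 0xe0a0002))) (.node 21955 (.leaf 0x202040005000703040103000b) (.node 21956 (.leaf 0x0) (.leaf 0xb0a0a0003)))) (.node 21960 (.node 21958 (.leaf 0x0) (.node 21959 (.leaf 0x55c5) (.leaf 0xb0b0002))) (.node 21961 (.leaf 0x0) (.node 21962 (.leaf 0xd0001) (.leaf 0x0))))))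

def argWS_1941 : Store := (.node 21940 argWS_1939 argWS_1940)

def argWS_1942 : Store := (.node 21974 (.node 21968 (.node 21965 (.node 21964 (.leaf 0x0) (.leaf 0x10902090000000703040103000c)) (.node 21966 (.leaf 0x0) (.node 21967 (.leaf 0xb0f0002) (.leaf 0x0)))) (.node 21971 (.node 21969 (.leaf 0xb0b0a0a0004) (.node 21970 (.leaf 0x0) (.leaf 0x55d1))) (.node 21972 (.leaf 0xa0f0002) (.node 21973 (.leaf 0x0) (.leaf 0x800000003030604000703040103000e))))) (.node 21980 (.node 21977 (.node 21975 (.leaf 0x0) (.node 21976 (.leaf 0xf0b0a0003) (.leaf 0x50000020901060802040105000c))) (.node 21978 (.leaf 0x0) (.node 21979 (.leaf 0xb0b0002) (.leaf 0x0)))) (.node 21983 (.node 21981 (.leaf 0x4030000090206020202000701000d) (.node 21982 (.leaf 0x0) (.leaf 0xb0f0a0003))) (.node 21984 (.leaf 0x0) (.node 21985 (.leaf 0x55df) (.leaf 0xa0f0b0003))))))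

def argWS_1943 : Store := (.node 21997 (.node 21991 (.node 21988 (.node 21987 (.leaf 0x0) (.leaf 0xe0a0a0003)) (.node 21989 (.leaf 0x0) (.node 21990 (.leaf 0x0) (.leaf 0xf0b0002)))) (.node 21994 (.node 21992 (.leaf 0x90703010102000802040105000c) (.node 21993 (.leaf 0x0) (.leaf 0xa0f0b0b0004))) (.node 21995 (.leaf 0x0) (.node 21996 (.leaf 0x55ea) (.leaf 0x20400050802040105000a))))) (.node 22003 (.node 22000 (.node 21998 (.leaf 0x0) (.node 21999 (.leaf 0xa0001) (.leaf 0x0))) (.node 22001 (.leaf 0xb0a0a0003) (.node 22002 (.leaf 0x0) (.leaf 0x0)))) (.node 22006 (.node 22004 (.leaf 0x50303010102000202000701000c) (.node 22005 (.leaf 0x0) (.leaf 0xf0a0002))) (.node 22007 (.leaf 0x0) (.node 22008 (.leaf 0x5000207030005) (.leaf 0x0))))))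

def argWS_1944 : Store := (.node 21986 argWS_1942 argWS_1943)

def argWS_1945 : Store := (.node 21963 argWS_1941 argWS_1944)

def argWS_1946 : Store := (.node 21918 argWS_1938 argWS_1945)

def argWS_1947 : Store := (.node 21828 argWS_1931 argWS_1946)

def argWS_1948 : Store := (.node 22020 (.node 22014 (.node 22011 (.node 22010 (.leaf 0xf0b0b0a0004) (.leaf 0x0)) (.node 22012 (.leaf 0x55fa) (.node 22013 (.leaf 0x904090806000802040105000b) (.leaf 0x0)))) (.node 22017 (.node 22015 (.leaf 0xb0f0a0003) (.node 22016 (.leaf 0x0) (.leaf 0x900090806000202000701000c))) (.node 22018 (.leaf 0x0) (.node 22019 (.leaf 0xa0f0b0b0004) (.leaf 0xe0a0002))))) (.node 22025 (.node 22022 (.node 22021 (.leaf 0x1070002090106000703040103000d) (.leaf 0x0)) (.node 22023 (.leaf 0xf0b0a0a0004) (.node 22024 (.leaf 0x0) (.leaf 0x5607)))) (.node 22028 (.node 22026 (.leaf 0xf0b0b0003) (.node 22027 (.leaf 0x0) (.leaf 0x0))) (.node 22029 (.leaf 0xb0b0002) (.node 22030 (.leaf 0xf0a0a0003)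 (.leaf 0xe0a0002))))))

def argWS_1949 : Store := (.node 22042 (.node 22036 (.node 22033 (.node 22032 (.leaf 0x560e00560d) (.leaf 0xf0b0002)) (.node 22034 (.leaf 0x0) (.node 22035 (.leaf 0xd0b0002) (.leaf 0x0)))) (.node 22039 (.node 22037 (.leaf 0x0) (.node 22038 (.leaf 0xb0f0a0003) (.leaf 0xa0f0b0003))) (.node 22040 (.leaf 0x6020702010802040105000b) (.node 22041 (.leaf 0x0) (.leaf 0xb0f0a0003))))) (.node 22048 (.node 22045 (.node 22043 (.leaf 0x0) (.node 22044 (.leaf 0x561a005616) (.leaf 0x7010102000802040105000a))) (.node 22046 (.leaf 0x0) (.node 22047 (.leaf 0xb0f0002) (.leaf 0x0)))) (.node 22051 (.node 22049 (.leaf 0x0) (.node 22050 (.leaf 0x9000908020401050008) (.leaf 0x0))) (.node 22052 (.leaf 0xf0001) (.node 22053 (.leaf 0x0) (.leaf 0x20407020902000703040103000c))))))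

def argWS_1950 : Store := (.node 22031 argWS_1948 argWS_1949)

def argWS_1951 : Store := (.node 22065 (.node 22059 (.node 22056 (.node 22055 (.leaf 0x0) (.leaf 0xf0a0a0003)) (.node 22057 (.leaf 0x0) (.node 22058 (.leaf 0x40005020202010008) (.leaf 0x0)))) (.node 22062 (.node 22060 (.leaf 0xb0f0a0a0004) (.node 22061 (.leaf 0x0) (.leaf 0x562c005628))) (.node 22063 (.leaf 0xa0f0002) (.node 22064 (.leaf 0x0) (.leaf 0xf0b0a0003))))) (.node 22070 (.node 22067 (.node 22066 (.leaf 0x0) (.leaf 0xf0001)) (.node 22068 (.leaf 0xf0b0b0003) (.node 22069 (.leaf 0x400030003030604000703040103000e) (.leaf 0x0)))) (.node 22073 (.node 22071 (.leaf 0xf0b0002) (.node 22072 (.leaf 0x0) (.leaf 0x5637005633))) (.node 22074 (.leaf 0xe0001) (.node 22075 (.leaf 0x0) (.leaf 0x90507030004))))))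

def argWS_1952 : Store := (.node 22087 (.node 22081 (.node 22078 (.node 22077 (.leaf 0x0) (.leaf 0xe0a0002)) (.node 22079 (.leaf 0xe0a0002) (.node 22080 (.leaf 0xf0b0b0003) (.leaf 0x563f)))) (.node 22084 (.node 22082 (.leaf 0x700000202090000000703040103000e) (.node 22083 (.leaf 0x0) (.leaf 0xa0f0b0b0004))) (.node 22085 (.leaf 0x0) (.node 22086 (.leaf 0xf0b0b0a0004) (.leaf 0x0))))) (.node 22093 (.node 22090 (.node 22088 (.leaf 0x0) (.node 22089 (.leaf 0x9070209020005) (.leaf 0x0))) (.node 22091 (.leaf 0xf0001) (.node 22092 (.leaf 0x0) (.leaf 0xf0001)))) (.node 22096 (.node 22094 (.leaf 0x564c0039ab) (.node 22095 (.leaf 0x2000000020804000802040105000d) (.leaf 0x0))) (.node 22097 (.leaf 0xa0f0002) (.node 22098 (.leaf 0x0) (.leaf 0x3050004080703040103000a))))))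

def argWS_1953 : Store := (.node 22076 argWS_1951 argWS_1952)

def argWS_1954 : Store := (.node 22054 argWS_1950 argWS_1953)

def argWS_1955 : Store := (.node 22110 (.node 22104 (.node 22101 (.node 22100 (.leaf 0x0) (.leaf 0xd0b0b0003)) (.node 22102 (.leaf 0x4090806000006) (.node 22103 (.leaf 0x0) (.leaf 0xa0f0002)))) (.node 22107 (.node 22105 (.leaf 0x0) (.node 22106 (.leaf 0xd0001) (.leaf 0x7000903000703040103000c))) (.node 22108 (.leaf 0x0) (.node 22109 (.leaf 0xa0a0002) (.leaf 0x0))))) (.node 22115 (.node 22112 (.node 22111 (.leaf 0x565d005659) (.leaf 0x10400050206040202000701000c)) (.node 22113 (.leaf 0x0) (.node 22114 (.leaf 0xf0b0b0a0004) (.leaf 0x0)))) (.node 22118 (.node 22116 (.leaf 0x60301020106060202000701000c) (.node 22117 (.leaf 0x0) (.leaf 0xf0b0b0a0004))) (.node 22119 (.leaf 0x9070000000300000802040105000d) (.node 22120 (.leaf 0x0) (.leaf 0xf0b0002))))))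

def argWS_1956 : Store := (.node 22132 (.node 22126 (.node 22123 (.node 22122 (.leaf 0x0) (.leaf 0xf0a0002)) (.node 22124 (.leaf 0x33ba00566a) (.node 22125 (.leaf 0xf0b0a0003) (.leaf 0x0)))) (.node 22129 (.node 22127 (.leaf 0xe0a0a0003) (.node 22128 (.leaf 0x0) (.leaf 0x0))) (.node 22130 (.leaf 0x2020202090106000703040103000d) (.node 22131 (.leaf 0x0) (.leaf 0xf0001))))) (.node 22138 (.node 22135 (.node 22133 (.leaf 0x0) (.node 22134 (.leaf 0xb0b0002) (.leaf 0x707030608020401050009))) (.node 22136 (.leaf 0x0) (.node 22137 (.leaf 0xf0b0b0003) (.leaf 0x0)))) (.node 22141 (.node 22139 (.leaf 0x5679005675) (.node 22140 (.leaf 0x80200050206040802040105000c) (.leaf 0x0))) (.node 22142 (.leaf 0xd0b0002) (.node 22143 (.leaf 0x0) (.leaf 0xd0b0b0003))))))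

def argWS_1957 : Store := (.node 22121 argWS_1955 argWS_1956)

def argWS_1958 : Store := (.node 22155 (.node 22149 (.node 22146 (.node 22145 (.leaf 0x0) (.leaf 0x107000000030000000703040103000e)) (.node 22147 (.leaf 0x0) (.node 22148 (.leaf 0xf0a0002) (.leaf 0x0)))) (.node 22152 (.node 22150 (.leaf 0xa0f0b0003) (.node 22151 (.leaf 0x0) (.leaf 0x5686))) (.node 22153 (.leaf 0x907020106060006) (.node 22154 (.leaf 0x0) (.leaf 0xb0f0a0003))))) (.node 22160 (.node 22157 (.node 22156 (.leaf 0x0) (.leaf 0xa0f0b0003)) (.node 22158 (.leaf 0x0) (.node 22159 (.leaf 0x0) (.leaf 0xb0f0a0a0004)))) (.node 22163 (.node 22161 (.leaf 0x307000408010802040105000b) (.node 22162 (.leaf 0x0) (.leaf 0x0))) (.node 22164 (.leaf 0x5692) (.node 22165 (.leaf 0x8070306000703040103000a) (.leaf 0x0))))))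

def argWS_1959 : Store := (.node 22177 (.node 22171 (.node 22168 (.node 22167 (.leaf 0xd0b0b0003) (.leaf 0x0)) (.node 22169 (.leaf 0x3070007020902000703040103000d) (.node 22170 (.leaf 0x0) (.leaf 0xa0a0002)))) (.node 22174 (.node 22172 (.leaf 0x1070000000300000202000701000d) (.node 22173 (.leaf 0x0) (.leaf 0xf0b0a0a0004))) (.node 22175 (.leaf 0x0) (.node 22176 (.leaf 0x16a6) (.leaf 0x50002010606000703040103000c))))) (.node 22183 (.node 22180 (.node 22178 (.leaf 0x0) (.node 22179 (.leaf 0xb0001) (.leaf 0x0))) (.node 22181 (.leaf 0x20401010703060802040105000c) (.node 22182 (.leaf 0x0) (.leaf 0xf0b0b0a0004)))) (.node 22186 (.node 22184 (.leaf 0x80300090806000802040105000c) (.node 22185 (.leaf 0x0) (.leaf 0x0))) (.node 22187 (.leaf 0x800070206000802040105000c) (.node 22188 (.leaf 0x0) (.leaf 0xe0d0002))))))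

def argWS_1960 : Store := (.node 22166 argWS_1958 argWS_1959)

def argWS_1961 : Store := (.node 22144 argWS_1957 argWS_1960)

def argWS_1962 : Store := (.node 22099 argWS_1954 argWS_1961)

def argWS_1963 : Store := (.node 22200 (.node 22194 (.node 22191 (.node 22190 (.leaf 0x0) (.leaf 0x56ad0056a9)) (.node 22192 (.leaf 0xb0f0a0a0004) (.node 22193 (.leaf 0x0) (.leaf 0xf0b0b0a0004)))) (.node 22197 (.node 22195 (.leaf 0x0) (.node 22196 (.leaf 0x0) (.leaf 0xf0b0002))) (.node 22198 (.leaf 0x0) (.node 22199 (.leaf 0x20901070206000802040105000c) (.leaf 0x0))))) (.node 22205 (.node 22202 (.node 22201 (.leaf 0xf0001) (.leaf 0x0)) (.node 22203 (.leaf 0x3090000090005) (.node 22204 (.leaf 0x0) (.leaf 0xb0001)))) (.node 22208 (.node 22206 (.leaf 0x0) (.node 22207 (.leaf 0x56bd0056b9) (.leaf 0x1040908050005))) (.node 22209 (.leaf 0x0) (.node 22210 (.leaf 0xb0a0f0003) (.leaf 0x0))))))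

def argWS_1964 : Store := (.node 22222 (.node 22216 (.node 22213 (.node 22212 (.leaf 0x104000603050004000703040103000e) (.leaf 0x0)) (.node 22214 (.leaf 0xf0b0b0003) (.node 22215 (.leaf 0x7030507000903000703040103000d) (.leaf 0x0)))) (.node 22219 (.node 22217 (.leaf 0xa0a0002) (.node 22218 (.leaf 0x0) (.leaf 0x606090206020802040105000b))) (.node 22220 (.leaf 0x0) (.node 22221 (.leaf 0xe0001) (.leaf 0x0))))) (.node 22228 (.node 22225 (.node 22223 (.leaf 0x56cd003f5d) (.node 22224 (.leaf 0x600000207030802040105000b) (.leaf 0x0))) (.node 22226 (.leaf 0xa0a0002) (.node 22227 (.leaf 0x0) (.leaf 0x9020007010006)))) (.node 22231 (.node 22229 (.leaf 0x0) (.node 22230 (.leaf 0xb0f0a0a0004) (.leaf 0xb0001))) (.node 22232 (.leaf 0x20200070009030007) (.node 22233 (.leaf 0x0) (.leaf 0xa0f0b0b0004))))))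

def argWS_1965 : Store := (.node 22211 argWS_1963 argWS_1964)

def argWS_1966 : Store := (.node 22245 (.node 22239 (.node 22236 (.node 22235 (.leaf 0x0) (.leaf 0x10105020604000703040103000c)) (.node 22237 (.leaf 0x0) (.node 22238 (.leaf 0xe0d0002) (.leaf 0x0)))) (.node 22242 (.node 22240 (.leaf 0x56de0056da) (.node 22241 (.leaf 0xf0b0b0a0a0005) (.leaf 0x0))) (.node 22243 (.leaf 0xd0b0b0003) (.node 22244 (.leaf 0x0) (.leaf 0x0))))) (.node 22250 (.node 22247 (.node 22246 (.leaf 0x3010703060202000701000a) (.leaf 0x0)) (.node 22248 (.leaf 0xb0b0002) (.node 22249 (.leaf 0x0) (.leaf 0xa0f0b0b0004)))) (.node 22253 (.node 22251 (.leaf 0x56e9) (.node 22252 (.leaf 0xa0f0b0003) (.leaf 0x0))) (.node 22254 (.leaf 0x0) (.node 22255 (.leaf 0xb0a0f0003) (.leaf 0x406010500020802040105000c))))))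

def argWS_1967 : Store := (.node 22267 (.node 22261 (.node 22258 (.node 22257 (.leaf 0x0) (.leaf 0xe0a0a0003)) (.node 22259 (.leaf 0x0) (.node 22260 (.leaf 0x900030000000703040103000b) (.leaf 0x0)))) (.node 22264 (.node 22262 (.leaf 0xb0001) (.node 22263 (.leaf 0x0) (.leaf 0x56f60056f2))) (.node 22265 (.leaf 0xe0d0002) (.node 22266 (.leaf 0x0) (.leaf 0xd0b0b0003))))) (.node 22273 (.node 22270 (.node 22268 (.leaf 0x0) (.node 22269 (.leaf 0x0) (.leaf 0x2040103080005))) (.node 22271 (.leaf 0x0) (.node 22272 (.leaf 0xe0001) (.leaf 0x0)))) (.node 22276 (.node 22274 (.leaf 0x200020002080400000703040103000e) (.node 22275 (.leaf 0x0) (.leaf 0xd0b0b0003))) (.node 22277 (.leaf 0x0) (.node 22278 (.leaf 0x80200060207020703040103000c) (.leaf 0x0))))))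

def argWS_1968 : Store := (.node 22256 argWS_1966 argWS_1967)

def argWS_1969 : Store := (.node 22234 argWS_1965 argWS_1968)

def argWS_1970 : Store := (.node 22290 (.node 22284 (.node 22281 (.node 22280 (.leaf 0xf0b0b0a0a0005) (.leaf 0x0)) (.node 22282 (.leaf 0x5708005704) (.node 22283 (.leaf 0x90107000903000703040103000c) (.leaf 0x0)))) (.node 22287 (.node 22285 (.leaf 0xf0b0b0a0004) (.node 22286 (.leaf 0x0) (.leaf 0x400020804000802040105000c))) (.node 22288 (.leaf 0x0) (.node 22289 (.leaf 0xb0a0f0003) (.leaf 0xb0a0f0003))))) (.node 22295 (.node 22292 (.node 22291 (.leaf 0xf0b0b0a0a0005) (.leaf 0xa0a0002)) (.node 22293 (.leaf 0x5713005712) (.node 22294 (.leaf 0x201090007030401030009) (.leaf 0x0)))) (.node 22298 (.node 22296 (.leaf 0xf0a0002) (.node 22297 (.leaf 0x0) (.leaf 0xf0b0b0a0a0005))) (.node 22299 (.leaf 0x0) (.node 22300 (.leaf 0x0) (.leaf 0x40205020603000703040103000c))))))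

def argWS_1971 : Store := (.node 22312 (.node 22306 (.node 22303 (.node 22302 (.leaf 0x0) (.leaf 0xb0f0002)) (.node 22304 (.leaf 0x0) (.node 22305 (.leaf 0x2090303080005) (.leaf 0x0)))) (.node 22309 (.node 22307 (.leaf 0xd0001) (.node 22308 (.leaf 0x0) (.leaf 0xb0b0a0003))) (.node 22310 (.leaf 0x5724005723) (.node 22311 (.leaf 0x802000400050006) (.leaf 0x0))))) (.node 22318 (.node 22315 (.node 22313 (.leaf 0xa0001) (.node 22314 (.leaf 0x0) (.leaf 0x802000202090000000703040103000e))) (.node 22316 (.leaf 0x0) (.node 22317 (.leaf 0xe0d0002) (.leaf 0x3030007030401030008)))) (.node 22321 (.node 22319 (.leaf 0x0) (.node 22320 (.leaf 0xf0a0a0003) (.leaf 0x0))) (.node 22322 (.leaf 0x325c) (.node 22323 (.leaf 0xf0b0b0003) (.leaf 0x0))))))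

def argWS_1972 : Store := (.node 22301 argWS_1970 argWS_1971)

def argWS_1973 : Store := (.node 22335 (.node 22329 (.node 22326 (.node 22325 (.leaf 0x10409000009000703040103000c) (.leaf 0x0)) (.node 22327 (.leaf 0xf0b0b0a0004) (.node 22328 (.leaf 0x6020702010802040105000a) (.leaf 0x0)))) (.node 22332 (.node 22330 (.leaf 0xf0b0002) (.node 22331 (.leaf 0x0) (.leaf 0x605010202090000000703040103000e))) (.node 22333 (.leaf 0x0) (.node 22334 (.leaf 0xf0b0b0a0a0005) (.leaf 0x0))))) (.node 22341 (.node 22338 (.node 22336 (.leaf 0x573e) (.node 22337 (.leaf 0xa0f0b0b0004) (.leaf 0x0))) (.node 22339 (.leaf 0x805000000030000000703040103000e) (.node 22340 (.leaf 0x0) (.leaf 0xa0f0b0b0004)))) (.node 22344 (.node 22342 (.leaf 0xd0b0b0003) (.node 22343 (.leaf 0x40202020007010007) (.leaf 0x0))) (.node 22345 (.leaf 0xf0b0b0a0a0005) (.node 22346 (.leaf 0x0) (.leaf 0x4090206020802040105000a))))))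

def argWS_1974 : Store := (.node 22358 (.node 22352 (.node 22349 (.node 22348 (.leaf 0x0) (.leaf 0xb0a0002)) (.node 22350 (.leaf 0x0) (.node 22351 (.leaf 0x574d005749) (.leaf 0xb0f0a0003)))) (.node 22355 (.node 22353 (.leaf 0x0) (.node 22354 (.leaf 0xb0b0a0a0004) (.leaf 0x0))) (.node 22356 (.leaf 0x0) (.node 22357 (.leaf 0xd0b0b0003) (.leaf 0x0))))) (.node 22364 (.node 22361 (.node 22359 (.leaf 0x401020106060802040105000b) (.node 22360 (.leaf 0x0) (.leaf 0xa0a0002))) (.node 22362 (.leaf 0x0) (.node 22363 (.leaf 0x2010308020401050008) (.leaf 0x0)))) (.node 22367 (.node 22365 (.leaf 0xf0b0b0003) (.node 22366 (.leaf 0x0) (.leaf 0x575d005759))) (.node 22368 (.leaf 0x400000408010202000701000c) (.node 22369 (.leaf 0x0) (.leaf 0xb0001))))))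

def argWS_1975 : Store := (.node 22347 argWS_1973 argWS_1974)

def argWS_1976 : Store := (.node 22324 argWS_1972 argWS_1975)

def argWS_1977 : Store := (.node 22279 argWS_1969 argWS_1976)

def argWS_1978 : Store := (.node 22189 argWS_1962 argWS_1977)

def argWS_1979 : Store := (.node 22009 argWS_1947 argWS_1978)

def argWS_1980 : Store := (.node 22381 (.node 22375 (.node 22372 (.node 22371 (.leaf 0x0) (.leaf 0xf0b0b0a0a0005)) (.node 22373 (.leaf 0x0) (.node 22374 (.leaf 0x0) (.leaf 0x50005020202010802040105000c)))) (.node 22378 (.node 22376 (.leaf 0x0) (.node 22377 (.leaf 0x0) (.leaf 0x80101070009030802040105000c))) (.node 22379 (.leaf 0x0) (.node 22380 (.leaf 0x0) (.leaf 0xb0b0a0a0004))))) (.node 22386 (.node 22383 (.node 22382 (.leaf 0x576c00576b) (.leaf 0x0)) (.node 22384 (.leaf 0xf0b0002) (.node 22385 (.leaf 0x0) (.leaf 0x0)))) (.node 22389 (.node 22387 (.leaf 0x90400030306040802040105000c) (.node 22388 (.leaf 0x0) (.leaf 0xa0a0002))) (.node 22390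 (.leaf 0x0) (.node 22391 (.leaf 0xe0d0002) (.leaf 0x502060408020401050009))))))

def argWS_1981 : Store := (.node 22403 (.node 22397 (.node 22394 (.node 22393 (.leaf 0x0) (.leaf 0xf0a0a0003)) (.node 22395 (.leaf 0x0) (.node 22396 (.leaf 0x577a005776) (.leaf 0xa0f0002)))) (.node 22400 (.node 22398 (.leaf 0x0) (.node 22399 (.leaf 0x200000400050802040105000b) (.leaf 0x0))) (.node 22401 (.leaf 0xb0a0a0003) (.node 22402 (.leaf 0xa0f0b0003) (.leaf 0x90006010500020802040105000c))))) (.node 22409 (.node 22406 (.node 22404 (.leaf 0x0) (.node 22405 (.leaf 0xa0f0002) (.leaf 0x0))) (.node 22407 (.leaf 0x807030401030006) (.node 22408 (.leaf 0x0) (.leaf 0xa0f0b0003)))) (.node 22412 (.node 22410 (.leaf 0x0) (.node 22411 (.leaf 0x5789005785) (.leaf 0x702060207020703040103000b))) (.node 22413 (.leaf 0x0) (.node 22414 (.leaf 0xe0a0a0003) (.leaf 0x0))))))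

def argWS_1982 : Store := (.node 22392 argWS_1980 argWS_1981)

def argWS_1983 : Store := (.node 22426 (.node 22420 (.node 22417 (.node 22416 (.leaf 0x60000090000090007) (.leaf 0x0)) (.node 22418 (.leaf 0xf0b0002) (.node 22419 (.leaf 0x105020604000703040103000b) (.leaf 0x0)))) (.node 22423 (.node 22421 (.leaf 0x0) (.node 22422 (.leaf 0xb0b0a0003) (.leaf 0x5795005337))) (.node 22424 (.leaf 0x20205020202010007) (.node 22425 (.leaf 0x0) (.leaf 0xa0f0b0003))))) (.node 22431 (.node 22428 (.node 22427 (.leaf 0x0) (.leaf 0x90002080400000703040103000c)) (.node 22429 (.leaf 0x0) (.node 22430 (.leaf 0xf0b0002) (.leaf 0xf0a0002)))) (.node 22434 (.node 22432 (.leaf 0x8010102000003010202000701000d) (.node 22433 (.leaf 0x0) (.leaf 0xd0b0b0003))) (.node 22435 (.leaf 0x0) (.node 22436 (.leaf 0x901020604000703040103000b) (.leaf 0x0))))))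

def argWS_1984 : Store := (.node 22448 (.node 22442 (.node 22439 (.node 22438 (.leaf 0x0) (.leaf 0x57a50057a2)) (.node 22440 (.leaf 0x80004020901060802040105000c) (.node 22441 (.leaf 0x0) (.leaf 0xf0b0b0a0a0005)))) (.node 22445 (.node 22443 (.leaf 0x0) (.node 22444 (.leaf 0x4000403010102000202000701000d) (.leaf 0x0))) (.node 22446 (.leaf 0xb0a0a0003) (.node 22447 (.leaf 0xe0a0a0003) (.leaf 0xd0001))))) (.node 22454 (.node 22451 (.node 22449 (.leaf 0x10202020900000202000701000c) (.node 22450 (.leaf 0x0) (.leaf 0xf0001))) (.node 22452 (.leaf 0x0) (.node 22453 (.leaf 0x602010308000703040103000b) (.leaf 0x0)))) (.node 22457 (.node 22455 (.leaf 0x0) (.node 22456 (.leaf 0x57b60057b3) (.leaf 0xf0b0b0003))) (.node 22458 (.leaf 0x0) (.node 22459 (.leaf 0x307070009020007010009) (.leaf 0x0))))))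

def argWS_1985 : Store := (.node 22437 argWS_1983 argWS_1984)

def argWS_1986 : Store := (.node 22415 argWS_1982 argWS_1985)

def argWS_1987 : Store := (.node 22471 (.node 22465 (.node 22462 (.node 22461 (.leaf 0xd0001) (.leaf 0x409080600000703040103000b)) (.node 22463 (.leaf 0x0) (.node 22464 (.leaf 0x0) (.leaf 0x600000002080400000703040103000e)))) (.node 22468 (.node 22466 (.leaf 0x0) (.node 22467 (.leaf 0xb0b0a0a0004) (.leaf 0x0))) (.node 22469 (.leaf 0x57c3) (.node 22470 (.leaf 0xe0d0002) (.leaf 0x0))))) (.node 22476 (.node 22473 (.node 22472 (.leaf 0xf0b0a0003) (.leaf 0x0)) (.node 22474 (.leaf 0x0) (.node 22475 (.leaf 0x6010703060802040105000b) (.leaf 0x0)))) (.node 22479 (.node 22477 (.leaf 0xf0b0b0003) (.node 22478 (.leaf 0x0) (.leaf 0x80200060207020703040103000c))) (.node 22480 (.leaf 0x0) (.node 22481 (.leaf 0xf0b0b0a0a0005) (.leaf 0x0))))))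

def argWS_1988 : Store := (.node 22493 (.node 22487 (.node 22484 (.node 22483 (.leaf 0x200020400050006) (.leaf 0x0)) (.node 22485 (.leaf 0xb0a0a0003) (.node 22486 (.leaf 0x0) (.leaf 0x57d50057d1)))) (.node 22490 (.node 22488 (.leaf 0x300040807030401030009) (.node 22489 (.leaf 0x0) (.leaf 0xa0001))) (.node 22491 (.leaf 0x0) (.node 22492 (.leaf 0x70400020804000802040105000c) (.leaf 0x0))))) (.node 22499 (.node 22496 (.node 22494 (.leaf 0xe0001) (.node 22495 (.leaf 0xb0b0a0a0004) (.leaf 0x5000003010202000701000a))) (.node 22497 (.leaf 0x0) (.node 22498 (.leaf 0x0) (.leaf 0x202000003010007)))) (.node 22502 (.node 22500 (.leaf 0x0) (.node 22501 (.leaf 0xa0f0b0003) (.leaf 0x0))) (.node 22503 (.leaf 0x57e50057e1) (.node 22504 (.leaf 0xe0a0a0003) (.leaf 0x0))))))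

def argWS_1989 : Store := (.node 22482 argWS_1987 argWS_1988)

def argWS_1990 : Store := (.node 22516 (.node 22510 (.node 22507 (.node 22506 (.leaf 0x503090806000202000701000b) (.leaf 0x0)) (.node 22508 (.leaf 0xf0b0b0a0a0005) (.node 22509 (.leaf 0xa0f0b0b0004) (.leaf 0x0)))) (.node 22513 (.node 22511 (.leaf 0x57ed) (.node 22512 (.leaf 0xf0b0b0003) (.leaf 0x0))) (.node 22514 (.leaf 0x8020908050005) (.node 22515 (.leaf 0x0) (.leaf 0xd0b0002))))) (.node 22521 (.node 22518 (.node 22517 (.leaf 0x900020106060202000701000b) (.leaf 0x0)) (.node 22519 (.leaf 0xf0b0b0a0a0005) (.node 22520 (.leaf 0x0) (.leaf 0x800070206000006)))) (.node 22524 (.node 22522 (.leaf 0x0) (.node 22523 (.leaf 0xb0b0a0a0004) (.leaf 0x0))) (.node 22525 (.leaf 0x8000403010102000202000701000d) (.node 22526 (.leaf 0x0) (.leaf 0xb0f0a0003))))))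

def argWS_1991 : Store := (.node 22538 (.node 22532 (.node 22529 (.node 22528 (.leaf 0x0) (.leaf 0x57ff0057fb)) (.node 22530 (.leaf 0x600020106060202000701000b) (.node 22531 (.leaf 0x0) (.leaf 0xa0f0002)))) (.node 22535 (.node 22533 (.leaf 0x0) (.node 22534 (.leaf 0x80904020802040105000a) (.leaf 0x0))) (.node 22536 (.leaf 0xb0b0a0003) (.node 22537 (.leaf 0xb0f0002) (.leaf 0xe0a0002))))) (.node 22544 (.node 22541 (.node 22539 (.leaf 0x58090050f3) (.node 22540 (.leaf 0x503080007030401030009) (.leaf 0x0))) (.node 22542 (.leaf 0xa0001) (.node 22543 (.leaf 0x0) (.leaf 0x90603080004)))) (.node 22547 (.node 22545 (.leaf 0x0) (.node 22546 (.leaf 0xa0f0002) (.leaf 0xa0f0b0003))) (.node 22548 (.leaf 0x8050908050202000701000a) (.node 22549 (.leaf 0x0) (.leaf 0xe0a0a0003))))))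

def argWS_1992 : Store := (.node 22527 argWS_1990 argWS_1991)

def argWS_1993 : Store := (.node 22505 argWS_1989 argWS_1992)

def argWS_1994 : Store := (.node 22460 argWS_1986 argWS_1993)

def argWS_1995 : Store := (.node 22561 (.node 22555 (.node 22552 (.node 22551 (.leaf 0x0) (.leaf 0x5816)) (.node 22553 (.leaf 0xf0b0b0003) (.node 22554 (.leaf 0x0) (.leaf 0x0)))) (.node 22558 (.node 22556 (.leaf 0x3070006030500040202000701000d) (.node 22557 (.leaf 0x0) (.leaf 0xa0f0b0b0004))) (.node 22559 (.leaf 0x0) (.node 22560 (.leaf 0x60202010606000703040103000c) (.leaf 0x0))))) (.node 22566 (.node 22563 (.node 22562 (.leaf 0xe0a0a0003) (.leaf 0x0)) (.node 22564 (.leaf 0x5822) (.node 22565 (.leaf 0xb0f0a0003) (.leaf 0x0)))) (.node 22569 (.node 22567 (.leaf 0x40208020401050008) (.node 22568 (.leaf 0x0) (.leaf 0xb0b0a0003))) (.node 22570 (.leaf 0x600020901060802040105000c) (.node 22571 (.leaf 0x0) (.leaf 0xf0a0002))))))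

def argWS_1996 : Store := (.node 22583 (.node 22577 (.node 22574 (.node 22573 (.leaf 0x0) (.leaf 0xa0a0002)) (.node 22575 (.leaf 0x582d) (.node 22576 (.leaf 0x0) (.leaf 0xe0001)))) (.node 22580 (.node 22578 (.leaf 0x0) (.node 22579 (.leaf 0xf0b0002) (.leaf 0x0))) (.node 22581 (.leaf 0x0) (.node 22582 (.leaf 0x701010904020006) (.leaf 0x0))))) (.node 22589 (.node 22586 (.node 22584 (.leaf 0x0) (.node 22585 (.leaf 0x5837) (.leaf 0xa0a0002))) (.node 22587 (.leaf 0x0) (.node 22588 (.leaf 0x204080108020401050009) (.leaf 0x0)))) (.node 22592 (.node 22590 (.leaf 0xb0b0002) (.node 22591 (.leaf 0x4070206000802040105000b) (.leaf 0x0))) (.node 22593 (.leaf 0xe0a0002) (.node 22594 (.leaf 0x0) (.leaf 0xf0b0002))))))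

def argWS_1997 : Store := (.node 22572 argWS_1995 argWS_1996)

def argWS_1998 : Store := (.node 22606 (.node 22600 (.node 22597 (.node 22596 (.leaf 0x5842005841) (.leaf 0xf0001)) (.node 22598 (.leaf 0x0) (.node 22599 (.leaf 0xb0a0a0003) (.leaf 0x0)))) (.node 22603 (.node 22601 (.leaf 0x0) (.node 22602 (.leaf 0xa0a0002) (.leaf 0x57b9))) (.node 22604 (.leaf 0x6020106020702010008) (.node 22605 (.leaf 0x0) (.leaf 0xd0b0b0003))))) (.node 22611 (.node 22608 (.node 22607 (.leaf 0x0) (.leaf 0x904040005000703040103000b)) (.node 22609 (.leaf 0x0) (.node 22610 (.leaf 0xf0b0b0003) (.leaf 0x508020401050007)))) (.node 22614 (.node 22612 (.leaf 0x0) (.node 22613 (.leaf 0xb0f0a0a0004) (.leaf 0x0))) (.node 22615 (.leaf 0xd0001) (.node 22616 (.leaf 0x8000406020702010802040105000d) (.leaf 0x0))))))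

def argWS_1999 : Store := (.node 22628 (.node 22622 (.node 22619 (.node 22618 (.leaf 0xe0a0002) (.leaf 0x0)) (.node 22620 (.leaf 0x585a005856) (.node 22621 (.leaf 0xf0b0002) (.leaf 0x0)))) (.node 22625 (.node 22623 (.leaf 0xf0001) (.node 22624 (.leaf 0x0) (.leaf 0x0))) (.node 22626 (.leaf 0xd0001) (.node 22627 (.leaf 0xb0b0a0003) (.leaf 0x5000000020804000008))))) (.node 22634 (.node 22631 (.node 22629 (.leaf 0x0) (.node 22630 (.leaf 0xa0a0002) (.leaf 0x0))) (.node 22632 (.leaf 0x5866005862) (.node 22633 (.leaf 0xf0b0b0003) (.leaf 0x0)))) (.node 22637 (.node 22635 (.leaf 0x301090000090202000701000b) (.node 22636 (.leaf 0x0) (.leaf 0xb0b0a0003))) (.node 22638 (.leaf 0xa0f0b0b0004) (.node 22639 (.leaf 0x20502020603000703040103000c) (.leaf 0x0))))))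

def argWS_2000 : Store := (.node 22617 argWS_1998 argWS_1999)

def argWS_2001 : Store := (.node 22595 argWS_1997 argWS_2000)

def argWS_2002 : Store := (.node 22651 (.node 22645 (.node 22642 (.node 22641 (.leaf 0x0) (.leaf 0x307000004080703040103000b)) (.node 22643 (.leaf 0x0) (.node 22644 (.leaf 0xb0b0002) (.leaf 0x0)))) (.node 22648 (.node 22646 (.leaf 0x5874005870) (.node 22647 (.leaf 0xb0b0a0a0004) (.leaf 0x0))) (.node 22649 (.leaf 0x20601010904020007) (.node 22650 (.leaf 0x0) (.leaf 0x2040307020600000703040103000d))))) (.node 22656 (.node 22653 (.node 22652 (.leaf 0x0) (.leaf 0xe0a0002)) (.node 22654 (.leaf 0x0) (.node 22655 (.leaf 0x30002010606000703040103000c) (.leaf 0x0)))) (.node 22659 (.node 22657 (.leaf 0xf0b0b0a0a0005) (.node 22658 (.leaf 0x0) (.leaf 0x588100587d))) (.node 22660 (.leaf 0x20601090402000703040103000c) (.node 22661 (.leaf 0x0) (.leaf 0xf0b0002))))))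

def argWS_2003 : Store := (.node 22673 (.node 22667 (.node 22664 (.node 22663 (.leaf 0x0) (.leaf 0xe0a0002)) (.node 22665 (.leaf 0x0) (.node 22666 (.leaf 0x0) (.leaf 0x4040308000703040103000a)))) (.node 22670 (.node 22668 (.leaf 0x0) (.node 22669 (.leaf 0xa0f0b0003) (.leaf 0x0))) (.node 22671 (.leaf 0x50006020702010007) (.node 22672 (.leaf 0x0) (.leaf 0xb0b0a0003))))) (.node 22679 (.node 22676 (.node 22674 (.leaf 0x0) (.node 22675 (.leaf 0xf0b0a0a0004) (.leaf 0x5892005891))) (.node 22677 (.leaf 0xb0b0a0a0004) (.node 22678 (.leaf 0x0) (.leaf 0xe0a0002)))) (.node 22682 (.node 22680 (.leaf 0x0) (.node 22681 (.leaf 0x0) (.leaf 0xe0a0a0003))) (.node 22683 (.leaf 0x9000408010202000701000a) (.node 22684 (.leaf 0x0) (.leaf 0xa0a0002))))))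

def argWS_2004 : Store := (.node 22662 argWS_2002 argWS_2003)

def argWS_2005 : Store := (.node 22696 (.node 22690 (.node 22687 (.node 22686 (.leaf 0x0) (.leaf 0x589d)) (.node 22688 (.leaf 0x400060207020703040103000b) (.node 22689 (.leaf 0x0) (.leaf 0xb0b0a0003)))) (.node 22693 (.node 22691 (.leaf 0x0) (.node 22692 (.leaf 0xb0b0002) (.leaf 0x0))) (.node 22694 (.leaf 0x0) (.node 22695 (.leaf 0x2090105020604000703040103000d) (.leaf 0x0))))) (.node 22702 (.node 22699 (.node 22697 (.leaf 0xb0001) (.node 22698 (.leaf 0x0) (.leaf 0xd0001))) (.node 22700 (.leaf 0xb0f0a0a0004) (.node 22701 (.leaf 0x58ab0058aa) (.leaf 0x50003030604000703040103000c)))) (.node 22705 (.node 22703 (.leaf 0x0) (.node 22704 (.leaf 0xb0a0a0003) (.leaf 0x0))) (.node 22706 (.leaf 0xa0f0b0003) (.node 22707 (.leaf 0x0) (.leaf 0x0))))))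

def argWS_2006 : Store := (.node 22719 (.node 22713 (.node 22710 (.node 22709 (.leaf 0xf0b0b0a0004) (.leaf 0xf0a0002)) (.node 22711 (.leaf 0x507000903000703040103000b) (.node 22712 (.leaf 0x0) (.leaf 0xb0a0a0003)))) (.node 22716 (.node 22714 (.leaf 0x0) (.node 22715 (.leaf 0x58b90058b5) (.leaf 0x1070007000903000703040103000d))) (.node 22717 (.leaf 0x0) (.node 22718 (.leaf 0xf0b0b0a0004) (.leaf 0x0))))) (.node 22725 (.node 22722 (.node 22720 (.leaf 0x209010206030006) (.node 22721 (.leaf 0x0) (.leaf 0xb0b0a0003))) (.node 22723 (.leaf 0x90002020900000802040105000c) (.node 22724 (.leaf 0x0) (.leaf 0xb0f0a0a0004)))) (.node 22728 (.node 22726 (.leaf 0x0) (.node 22727 (.leaf 0xe0a0002) (.leaf 0x58c6))) (.node 22729 (.leaf 0xa0001) (.node 22730 (.leaf 0x0) (.leaf 0xb0b0002))))))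

def argWS_2007 : Store := (.node 22708 argWS_2005 argWS_2006)

def argWS_2008 : Store := (.node 22685 argWS_2004 argWS_2007)

def argWS_2009 : Store := (.node 22640 argWS_2001 argWS_2008)

def argWS_2010 : Store := (.node 22550 argWS_1994 argWS_2009)

def argWS_2011 : Store := (.node 22742 (.node 22736 (.node 22733 (.node 22732 (.leaf 0x0) (.leaf 0x0)) (.node 22734 (.leaf 0x7010904020006) (.node 22735 (.leaf 0x0) (.leaf 0xf0b0a0003)))) (.node 22739 (.node 22737 (.leaf 0x0) (.node 22738 (.leaf 0x58d0002496) (.leaf 0xb0a0f0003))) (.node 22740 (.leaf 0x0) (.node 22741 (.leaf 0xb0f0a0003) (.leaf 0x0))))) (.node 22747 (.node 22744 (.node 22743 (.leaf 0x0) (.leaf 0x2050901090202000701000a)) (.node 22745 (.leaf 0x0) (.node 22746 (.leaf 0xe0a0002) (.leaf 0x0)))) (.node 22750 (.node 22748 (.leaf 0x1070009020602000703040103000d) (.node 22749 (.leaf 0x0) (.leaf 0xe0d0002))) (.node 22751 (.leaf 0x0) (.node 22752 (.leaf 0x3000601050002000703040103000d) (.leaf 0x0))))))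

def argWS_2012 : Store := (.node 22764 (.node 22758 (.node 22755 (.node 22754 (.leaf 0xa0001) (.leaf 0x0)) (.node 22756 (.leaf 0x58e20058de) (.node 22757 (.leaf 0xb0f0a0003) (.leaf 0x0)))) (.node 22761 (.node 22759 (.leaf 0xf0b0a0003) (.node 22760 (.leaf 0x0) (.leaf 0x0))) (.node 22762 (.leaf 0xa0f0002) (.node 22763 (.leaf 0x60103010102000007) (.leaf 0x0))))) (.node 22770 (.node 22767 (.node 22765 (.leaf 0xe0a0002) (.node 22766 (.leaf 0x0) (.leaf 0x58ed))) (.node 22768 (.leaf 0xa0f0002) (.node 22769 (.leaf 0xb0b0a0003) (.leaf 0xb0b0a0003)))) (.node 22773 (.node 22771 (.leaf 0x700000202090000000703040103000e) (.node 22772 (.leaf 0x0) (.leaf 0xa0f0b0b0004))) (.node 22774 (.leaf 0x0) (.node 22775 (.leaf 0x58f50058f1) (.leaf 0xb0b0a0003))))))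

def argWS_2013 : Store := (.node 22753 argWS_2011 argWS_2012)

def argWS_2014 : Store := (.node 22787 (.node 22781 (.node 22778 (.node 22777 (.leaf 0x0) (.leaf 0xb0b0a0a0004)) (.node 22779 (.leaf 0x0) (.node 22780 (.leaf 0x0) (.leaf 0xa0f0002)))) (.node 22784 (.node 22782 (.leaf 0x58fc) (.node 22783 (.leaf 0x7040000030000000703040103000d) (.leaf 0x0))) (.node 22785 (.leaf 0xb0b0a0003) (.node 22786 (.leaf 0x0) (.leaf 0x402050000030000000703040103000e))))) (.node 22792 (.node 22789 (.node 22788 (.leaf 0x0) (.leaf 0xd0b0b0003)) (.node 22790 (.leaf 0xb0b0002) (.node 22791 (.leaf 0x30700000300000802040105000c) (.leaf 0x0)))) (.node 22795 (.node 22793 (.leaf 0xb0f0a0003) (.node 22794 (.leaf 0x0) (.leaf 0x5909))) (.node 22796 (.leaf 0xb0001) (.node 22797 (.leaf 0x0) (.leaf 0x601020206030006))))))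

def argWS_2015 : Store := (.node 22809 (.node 22803 (.node 22800 (.node 22799 (.leaf 0x0) (.leaf 0xb0a0002)) (.node 22801 (.leaf 0xb0f0002) (.node 22802 (.leaf 0xf0b0a0a0004) (.leaf 0x7000000020804000802040105000d)))) (.node 22806 (.node 22804 (.leaf 0x0) (.node 22805 (.leaf 0xb0b0a0a0004) (.leaf 0x0))) (.node 22807 (.leaf 0x5915005911) (.node 22808 (.leaf 0xa0a0002) (.leaf 0x0))))) (.node 22815 (.node 22812 (.node 22810 (.leaf 0xf0b0b0a0a0005) (.node 22811 (.leaf 0x0) (.leaf 0x0))) (.node 22813 (.leaf 0x20601010703060202000701000c) (.node 22814 (.leaf 0x0) (.leaf 0xb0f0002)))) (.node 22818 (.node 22816 (.leaf 0x0) (.node 22817 (.leaf 0x705010703060802040105000b) (.leaf 0x0))) (.node 22819 (.leaf 0xa0001) (.node 22820 (.leaf 0x0) (.leaf 0x90401070306000703040103000c))))))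

def argWS_2016 : Store := (.node 22798 argWS_2014 argWS_2015)

def argWS_2017 : Store := (.node 22776 argWS_2013 argWS_2016)

def argWS_2018 : Store := (.node 22832 (.node 22826 (.node 22823 (.node 22822 (.leaf 0x0) (.leaf 0xb0a0f0003)) (.node 22824 (.leaf 0x0) (.node 22825 (.leaf 0x5927005923) (.leaf 0x80101020603000703040103000c)))) (.node 22829 (.node 22827 (.leaf 0x0) (.node 22828 (.leaf 0xa0a0002) (.leaf 0x0))) (.node 22830 (.leaf 0xb0b0002) (.node 22831 (.leaf 0x0) (.leaf 0x0))))) (.node 22837 (.node 22834 (.node 22833 (.leaf 0x80300000408010202000701000c) (.leaf 0x0)) (.node 22835 (.leaf 0xa0f0002) (.node 22836 (.leaf 0x0) (.leaf 0x20903090806000802040105000c)))) (.node 22840 (.node 22838 (.leaf 0x0) (.node 22839 (.leaf 0xe0001) (.leaf 0x0))) (.node 22841 (.leaf 0x90503010908050802040105000c) (.node 22842 (.leaf 0x0) (.leaf 0x0))))))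

def argWS_2019 : Store := (.node 22854 (.node 22848 (.node 22845 (.node 22844 (.leaf 0x593a005937) (.leaf 0xd0001)) (.node 22846 (.leaf 0x0) (.node 22847 (.leaf 0x605020202010202000701000c) (.leaf 0x0)))) (.node 22851 (.node 22849 (.leaf 0xe0d0002) (.node 22850 (.leaf 0x40205070009030802040105000c) (.leaf 0x0))) (.node 22852 (.leaf 0xb0001) (.node 22853 (.leaf 0x0) (.leaf 0x4030900090802040105000a))))) (.node 22860 (.node 22857 (.node 22855 (.leaf 0x0) (.node 22856 (.leaf 0x0) (.leaf 0x5947005944))) (.node 22858 (.leaf 0xb0a0a0003) (.node 22859 (.leaf 0x0) (.leaf 0xa0f0002)))) (.node 22863 (.node 22861 (.leaf 0x0) (.node 22862 (.leaf 0x0) (.leaf 0x204090806000202000701000b))) (.node 22864 (.leaf 0x0) (.node 22865 (.leaf 0xd0b0b0003) (.leaf 0x0))))))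

def argWS_2020 : Store := (.node 22843 argWS_2018 argWS_2019)

def argWS_2021 : Store := (.node 22877 (.node 22871 (.node 22868 (.node 22867 (.leaf 0xf0b0a0003) (.leaf 0x5952)) (.node 22869 (.leaf 0x30401050206040202000701000c) (.node 22870 (.leaf 0x0) (.leaf 0xa0a0002)))) (.node 22874 (.node 22872 (.leaf 0x0) (.node 22873 (.leaf 0x2010307020600000703040103000d) (.leaf 0x0))) (.node 22875 (.leaf 0xd0b0002) (.node 22876 (.leaf 0x2090806000006) (.leaf 0x0))))) (.node 22882 (.node 22879 (.node 22878 (.leaf 0xf0b0b0a0004) (.leaf 0x0)) (.node 22880 (.leaf 0xb0001) (.node 22881 (.leaf 0xb0b0002) (.leaf 0x596000595f)))) (.node 22885 (.node 22883 (.leaf 0x40208020401050008) (.node 22884 (.leaf 0x0) (.leaf 0xe0a0a0003))) (.node 22886 (.leaf 0x0) (.node 22887 (.leaf 0x907070306000703040103000b) (.leaf 0x0))))))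

def argWS_2022 : Store := (.node 22899 (.node 22893 (.node 22890 (.node 22889 (.leaf 0xa0001) (.leaf 0xf0001)) (.node 22891 (.leaf 0xd0b0002) (.node 22892 (.leaf 0x596a) (.leaf 0x0)))) (.node 22896 (.node 22894 (.leaf 0xb0001) (.node 22895 (.leaf 0x0) (.leaf 0x602090206020802040105000b))) (.node 22897 (.leaf 0x0) (.node 22898 (.leaf 0xd0001) (.leaf 0xb0a0002))))) (.node 22905 (.node 22902 (.node 22900 (.leaf 0x0) (.node 22901 (.leaf 0xe0d0002) (.leaf 0x2f1300582d))) (.node 22903 (.leaf 0xf0b0b0a0004) (.node 22904 (.leaf 0x0) (.leaf 0xb0a0f0003)))) (.node 22908 (.node 22906 (.leaf 0x0) (.node 22907 (.leaf 0x0) (.leaf 0xb0f0a0a0004))) (.node 22909 (.leaf 0x301020000030703040103000b) (.node 22910 (.leaf 0x0) (.leaf 0xa0f0b0b0004))))))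

def argWS_2023 : Store := (.node 22888 argWS_2021 argWS_2022)

def argWS_2024 : Store := (.node 22866 argWS_2020 argWS_2023)

def argWS_2025 : Store := (.node 22821 argWS_2017 argWS_2024)

def argWS_2026 : Store := (.node 22922 (.node 22916 (.node 22913 (.node 22912 (.leaf 0x0) (.leaf 0xb0b0a0a0004)) (.node 22914 (.leaf 0x598000597f) (.node 22915 (.leaf 0x3080007030401030009) (.leaf 0x0)))) (.node 22919 (.node 22917 (.leaf 0xa0001) (.node 22918 (.leaf 0x0) (.leaf 0xb0001))) (.node 22920 (.leaf 0x0) (.node 22921 (.leaf 0x0) (.leaf 0x20502090806000202000701000c))))) (.node 22927 (.node 22924 (.node 22923 (.leaf 0x0) (.leaf 0xe0d0002)) (.node 22925 (.leaf 0x0) (.node 22926 (.leaf 0x90402020900000202000701000c) (.leaf 0x0)))) (.node 22930 (.node 22928 (.leaf 0xe0d0002) (.node 22929 (.leaf 0x0) (.leaf 0xd0b0002))) (.node 22931 (.leaf 0x5991005990) (.node 22932 (.leaf 0x3070007030401030008) (.leaf 0x0))))))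

def argWS_2027 : Store := (.node 22944 (.node 22938 (.node 22935 (.node 22934 (.leaf 0xb0001) (.leaf 0x0)) (.node 22936 (.leaf 0x702000003010006) (.node 22937 (.leaf 0x0) (.leaf 0xa0a0002)))) (.node 22941 (.node 22939 (.leaf 0xf0b0b0a0a0005) (.node 22940 (.leaf 0x4000400050802040105000a) (.leaf 0x0))) (.node 22942 (.leaf 0xb0b0002) (.node 22943 (.leaf 0x0) (.leaf 0xa0f0002))))) (.node 22950 (.node 22947 (.node 22945 (.leaf 0x599f00599e) (.node 22946 (.leaf 0x10306010500020007) (.leaf 0x0))) (.node 22948 (.leaf 0xa0f0b0003) (.node 22949 (.leaf 0x0) (.leaf 0xd0001)))) (.node 22953 (.node 22951 (.leaf 0x0) (.node 22952 (.leaf 0x0) (.leaf 0xa0001))) (.node 22954 (.leaf 0xb0a0002) (.node 22955 (.leaf 0x59a9) (.leaf 0x107030608020401050009))))))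

def argWS_2028 : Store := (.node 22933 argWS_2026 argWS_2027)

def argWS_2029 : Store := (.node 22967 (.node 22961 (.node 22958 (.node 22957 (.leaf 0x0) (.leaf 0xe0a0a0003)) (.node 22959 (.leaf 0x0) (.node 22960 (.leaf 0xa0f0b0b0004) (.leaf 0x0)))) (.node 22964 (.node 22962 (.leaf 0x0) (.node 22963 (.leaf 0xb0a0f0003) (.leaf 0xb0a0a0003))) (.node 22965 (.leaf 0x90104010703060202000701000c) (.node 22966 (.leaf 0x0) (.leaf 0xd0b0b0003))))) (.node 22972 (.node 22969 (.node 22968 (.leaf 0x0) (.leaf 0x59b70059b3)) (.node 22970 (.leaf 0x9010606000703040103000a) (.node 22971 (.leaf 0x0) (.leaf 0xf0b0b0a0a0005)))) (.node 22975 (.node 22973 (.leaf 0x0) (.node 22974 (.leaf 0x200000202090000000703040103000e) (.leaf 0x0))) (.node 22976 (.leaf 0xb0f0a0003) (.node 22977 (.leaf 0xb0b0a0003) (.leaf 0x90000000300000007))))))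

def argWS_2030 : Store := (.node 22989 (.node 22983 (.node 22980 (.node 22979 (.leaf 0x0) (.leaf 0xb0a0002)) (.node 22981 (.leaf 0x0) (.node 22982 (.leaf 0x59c4) (.leaf 0x10202020900000802040105000c)))) (.node 22986 (.node 22984 (.leaf 0x0) (.node 22985 (.leaf 0x0) (.leaf 0xa0f0002))) (.node 22987 (.leaf 0x0) (.node 22988 (.leaf 0x0) (.leaf 0x809040208020401050009))))) (.node 22995 (.node 22992 (.node 22990 (.leaf 0x0) (.node 22991 (.leaf 0xa0001) (.leaf 0x0))) (.node 22993 (.leaf 0x59cf) (.node 22994 (.leaf 0x90009000703040103000b) (.leaf 0x0)))) (.node 22998 (.node 22996 (.leaf 0xb0001) (.node 22997 (.leaf 0x0) (.leaf 0x9050603000703040103000a))) (.node 22999 (.leaf 0x0) (.node 23000 (.leaf 0x30705020604000703040103000c) (.leaf 0x0))))))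

def argWS_2031 : Store := (.node 22978 argWS_2029 argWS_2030)

def argWS_2032 : Store := (.node 22956 argWS_2028 argWS_2031)

def argWS_2033 : Store := (.node 23012 (.node 23006 (.node 23003 (.node 23002 (.leaf 0xe0d0002) (.leaf 0x0)) (.node 23004 (.leaf 0x107000003030604000703040103000e) (.node 23005 (.leaf 0x0) (.leaf 0xa0f0002)))) (.node 23009 (.node 23007 (.leaf 0x0) (.node 23008 (.leaf 0x305070009030006) (.leaf 0x0))) (.node 23010 (.leaf 0xb0a0a0003) (.node 23011 (.leaf 0x0) (.leaf 0x59e20059de))))) (.node 23017 (.node 23014 (.node 23013 (.leaf 0xb0b0a0003) (.leaf 0x0)) (.node 23015 (.leaf 0xf0b0b0003) (.node 23016 (.leaf 0x0) (.leaf 0x0)))) (.node 23020 (.node 23018 (.leaf 0xb0f0a0003) (.node 23019 (.leaf 0xe0a0002) (.leaf 0x59ea))) (.node 23021 (.leaf 0x9020901060005) (.node 23022 (.leaf 0x0) (.leaf 0x0))))))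

def argWS_2034 : Store := (.node 23034 (.node 23028 (.node 23025 (.node 23024 (.leaf 0x502000400050006) (.leaf 0x0)) (.node 23026 (.leaf 0xf0001) (.node 23027 (.leaf 0xb0f0a0003) (.leaf 0x702040005000703040103000b)))) (.node 23031 (.node 23029 (.leaf 0x0) (.node 23030 (.leaf 0x0) (.leaf 0x59f5))) (.node 23032 (.leaf 0xe0001) (.node 23033 (.leaf 0x0) (.leaf 0x30102010606000703040103000c))))) (.node 23040 (.node 23037 (.node 23035 (.leaf 0x0) (.node 23036 (.leaf 0xf0b0b0003) (.leaf 0xb0b0a0a0004))) (.node 23038 (.leaf 0x60102020106060802040105000c) (.node 23039 (.leaf 0x0) (.leaf 0xa0001)))) (.node 23043 (.node 23041 (.leaf 0x0) (.node 23042 (.leaf 0x5a00) (.leaf 0x40300040005000703040103000c))) (.node 23044 (.leaf 0x0) (.node 23045 (.leaf 0xe0a0a0003) (.leaf 0x0))))))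

def argWS_2035 : Store := (.node 23023 argWS_2033 argWS_2034)

def argWS_2036 : Store := (.node 23057 (.node 23051 (.node 23048 (.node 23047 (.leaf 0x2090306010500020802040105000d) (.leaf 0x0)) (.node 23049 (.leaf 0xb0a0a0003) (.node 23050 (.leaf 0xa0f0b0b0004) (.leaf 0x7000000000300000202000701000d)))) (.node 23054 (.node 23052 (.leaf 0x0) (.node 23053 (.leaf 0xb0f0a0003) (.leaf 0x0))) (.node 23055 (.leaf 0x5a0d005a09) (.node 23056 (.leaf 0x70000020901060007) (.leaf 0x0))))) (.node 23063 (.node 23060 (.node 23058 (.leaf 0x0) (.node 23059 (.leaf 0x2010703060202000701000a) (.leaf 0x0))) (.node 23061 (.leaf 0xf0b0a0a0004) (.node 23062 (.leaf 0xa0f0002) (.leaf 0xf0b0b0a0a0005)))) (.node 23066 (.node 23064 (.leaf 0x5a16) (.node 23065 (.leaf 0x20003010102000202000701000c) (.leaf 0x0))) (.node 23067 (.leaf 0xa0001) (.node 23068 (.leaf 0x0) (.leaf 0xe0a0a0003))))))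

def argWS_2037 : Store := (.node 23080 (.node 23074 (.node 23071 (.node 23070 (.leaf 0x0) (.leaf 0x0)) (.node 23072 (.leaf 0xe0d0002) (.node 23073 (.leaf 0x703050009020602000703040103000e) (.leaf 0x0)))) (.node 23077 (.node 23075 (.leaf 0xb0f0002) (.node 23076 (.leaf 0x0) (.leaf 0x5a23))) (.node 23078 (.leaf 0xf0b0b0a0004) (.node 23079 (.leaf 0x0) (.leaf 0x60002000003010802040105000c))))) (.node 23086 (.node 23083 (.node 23081 (.leaf 0x0) (.node 23082 (.leaf 0xb0b0a0003) (.leaf 0xe0001))) (.node 23084 (.leaf 0x50202020900000202000701000c) (.node 23085 (.leaf 0x0) (.leaf 0xa0f0002)))) (.node 23089 (.node 23087 (.leaf 0x0) (.node 23088 (.leaf 0x901040301010200000703040103000e) (.leaf 0x0))) (.node 23090 (.leaf 0xf0a0002) (.node 23091 (.leaf 0x0) (.leaf 0x5a32005a2e))))))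

def argWS_2038 : Store := (.node 23069 argWS_2036 argWS_2037)

def argWS_2039 : Store := (.node 23046 argWS_2035 argWS_2038)

def argWS_2040 : Store := (.node 23001 argWS_2032 argWS_2039)

def argWS_2041 : Store := (.node 22911 argWS_2025 argWS_2040)

def argWS_2042 : Store := (.node 22731 argWS_2010 argWS_2041)

def argWS_2043 : Store := (.node 22370 argWS_1979 argWS_2042)

def argWS_2044 : Store := (.node 21648 argWS_1916 argWS_2043)

def argWS_2045 : Store := (.node 20205 argWS_1789 argWS_2044)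

def argWS_2046 : Store := (.node 17319 argWS_1534 argWS_2045)

def argWS_2047 : Store := (.node 11546 argWS_1023 argWS_2046)

def argWS_2048 : Store := (.node 23103 (.node 23097 (.node 23094 (.node 23093 (.leaf 0x20901050206040007) (.leaf 0x0)) (.node 23095 (.leaf 0xb0a0002) (.node 23096 (.leaf 0x0) (.leaf 0xb0f0002)))) (.node 23100 (.node 23098 (.leaf 0x0) (.node 23099 (.leaf 0x0) (.leaf 0x40003000408010202000701000c))) (.node 23101 (.leaf 0x0) (.node 23102 (.leaf 0xd0b0002) (.leaf 0x0))))) (.node 23108 (.node 23105 (.node 23104 (.leaf 0xb0f0002) (.leaf 0x7030602020007010009)) (.node 23106 (.leaf 0x0) (.node 23107 (.leaf 0xd0b0b0003) (.leaf 0x0)))) (.node 23111 (.node 23109 (.leaf 0x5a43005a3f) (.node 23110 (.leaf 0x801010301010200000703040103000e) (.leaf 0x0))) (.node 23112 (.leaf 0xb0a0002) (.node 23113 (.leaf 0x0) (.leaf 0xa0001))))))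

def argWS_2049 : Store := (.node 23125 (.node 23119 (.node 23116 (.node 23115 (.leaf 0x0) (.leaf 0xb0f0002)) (.node 23117 (.leaf 0xb0001) (.node 23118 (.leaf 0x6020108020401050008) (.leaf 0x0)))) (.node 23122 (.node 23120 (.leaf 0xf0b0b0a0a0005) (.node 23121 (.leaf 0x0) (.leaf 0x5a50005a4c))) (.node 23123 (.leaf 0xa0f0b0b0004) (.node 23124 (.leaf 0x0) (.leaf 0x80300090000090007))))) (.node 23131 (.node 23128 (.node 23126 (.leaf 0x0) (.node 23127 (.leaf 0xe0a0a0003) (.leaf 0x60007020600000703040103000d))) (.node 23129 (.leaf 0x0) (.node 23130 (.leaf 0xf0b0a0a0004) (.leaf 0x0)))) (.node 23134 (.node 23132 (.leaf 0xf0b0b0003) (.node 23133 (.leaf 0x5a5b) (.leaf 0x703010102000802040105000b))) (.node 23135 (.leaf 0x0) (.node 23136 (.leaf 0xf0b0a0a0004) (.leaf 0x0))))))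

def argWS_2050 : Store := (.node 23114 argWS_2048 argWS_2049)

def argWS_2051 : Store := (.node 23148 (.node 23142 (.node 23139 (.node 23138 (.leaf 0x0) (.leaf 0xa0a0002)) (.node 23140 (.leaf 0x9040208020401050009) (.node 23141 (.leaf 0x0) (.leaf 0xa0001)))) (.node 23145 (.node 23143 (.leaf 0x0) (.node 23144 (.leaf 0xb0b0a0a0004) (.leaf 0x202090106000703040103000b))) (.node 23146 (.leaf 0x0) (.node 23147 (.leaf 0xf0a0a0003) (.leaf 0x0))))) (.node 23153 (.node 23150 (.node 23149 (.leaf 0x5a6b005a67) (.leaf 0xf0b0002)) (.node 23151 (.leaf 0x0) (.node 23152 (.leaf 0xf0a0002) (.leaf 0x0)))) (.node 23156 (.node 23154 (.leaf 0x0) (.node 23155 (.leaf 0xa0f0b0b0004) (.leaf 0xa0001))) (.node 23157 (.leaf 0x5a73) (.node 23158 (.leaf 0x50209080600000703040103000c) (.leaf 0x0))))))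

def argWS_2052 : Store := (.node 23170 (.node 23164 (.node 23161 (.node 23160 (.leaf 0xf0a0002) (.leaf 0x0)) (.node 23162 (.leaf 0xa0f0b0b0004) (.node 23163 (.leaf 0x0) (.leaf 0x0)))) (.node 23167 (.node 23165 (.leaf 0xa0f0b0b0004) (.node 23166 (.leaf 0xb0b0a0003) (.leaf 0x5a7d))) (.node 23168 (.leaf 0x500090206020202000701000b) (.node 23169 (.leaf 0x0) (.leaf 0xb0b0a0003))))) (.node 23176 (.node 23173 (.node 23171 (.leaf 0x0) (.node 23172 (.leaf 0xf0b0b0a0004) (.leaf 0x0))) (.node 23174 (.leaf 0x0) (.node 23175 (.leaf 0xb0a0f0003) (.leaf 0x5030500030306040008)))) (.node 23179 (.node 23177 (.leaf 0x0) (.node 23178 (.leaf 0xd0b0002) (.leaf 0x0))) (.node 23180 (.leaf 0x5a8a) (.node 23181 (.leaf 0x604040807030401030009) (.leaf 0x0))))))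

def argWS_2053 : Store := (.node 23159 argWS_2051 argWS_2052)

def argWS_2054 : Store := (.node 23137 argWS_2050 argWS_2053)

def argWS_2055 : Store := (.node 23193 (.node 23187 (.node 23184 (.node 23183 (.leaf 0xb0a0a0003) (.leaf 0x0)) (.node 23185 (.leaf 0x40000020804000802040105000c) (.node 23186 (.leaf 0x0) (.leaf 0xa0f0002)))) (.node 23190 (.node 23188 (.leaf 0x60000090206020802040105000d) (.node 23189 (.leaf 0x0) (.leaf 0x0))) (.node 23191 (.leaf 0x20003030604000703040103000c) (.node 23192 (.leaf 0x0) (.leaf 0xb0f0002))))) (.node 23198 (.node 23195 (.node 23194 (.leaf 0x0) (.leaf 0x5a99)) (.node 23196 (.leaf 0xf0001) (.node 23197 (.leaf 0x0) (.leaf 0x600000901090802040105000b)))) (.node 23201 (.node 23199 (.leaf 0x0) (.node 23200 (.leaf 0xd0001) (.leaf 0xa0f0b0b0004))) (.node 23202 (.leaf 0xf0b0a0a0004) (.node 23203 (.leaf 0x2000904020202000701000a) (.leaf 0x0))))))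

def argWS_2056 : Store := (.node 23215 (.node 23209 (.node 23206 (.node 23205 (.leaf 0xb0f0002) (.leaf 0x0)) (.node 23207 (.leaf 0x5aa5005aa1) (.node 23208 (.leaf 0x90201050202020703040103000c) (.leaf 0x0)))) (.node 23212 (.node 23210 (.leaf 0xb0a0002) (.node 23211 (.leaf 0x0) (.leaf 0x6000007000903000703040103000d))) (.node 23213 (.leaf 0x0) (.node 23214 (.leaf 0xf0b0b0a0004) (.leaf 0x2050901090202000701000a))))) (.node 23221 (.node 23218 (.node 23216 (.leaf 0x0) (.node 23217 (.leaf 0xe0a0002) (.leaf 0x0))) (.node 23219 (.leaf 0xf0b0b0a0004) (.node 23220 (.leaf 0x4000901090006) (.leaf 0x0)))) (.node 23224 (.node 23222 (.leaf 0xa0f0002) (.node 23223 (.leaf 0x0) (.leaf 0x5ab6005ab2))) (.node 23225 (.leaf 0xe0001) (.node 23226 (.leaf 0x0) (.leaf 0xe0a0002))))))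

def argWS_2057 : Store := (.node 23204 argWS_2055 argWS_2056)

def argWS_2058 : Store := (.node 23238 (.node 23232 (.node 23229 (.node 23228 (.leaf 0x0) (.leaf 0x0)) (.node 23230 (.leaf 0x6000002010606000703040103000d) (.node 23231 (.leaf 0x0) (.leaf 0xe0001)))) (.node 23235 (.node 23233 (.leaf 0x0) (.node 23234 (.leaf 0x6020102020007010008) (.leaf 0x0))) (.node 23236 (.leaf 0xb0a0f0003) (.node 23237 (.leaf 0x0) (.leaf 0x5ac4))))) (.node 23243 (.node 23240 (.node 23239 (.leaf 0xb0b0a0003) (.leaf 0x0)) (.node 23241 (.leaf 0x60102020900000007) (.node 23242 (.leaf 0x0) (.leaf 0xf0001)))) (.node 23246 (.node 23244 (.leaf 0x9000400050202000701000a) (.node 23245 (.leaf 0x0) (.leaf 0xb0b0002))) (.node 23247 (.leaf 0x0) (.node 23248 (.leaf 0x4733) (.leaf 0x602070009030006))))))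

def argWS_2059 : Store := (.node 23260 (.node 23254 (.node 23251 (.node 23250 (.leaf 0x0) (.leaf 0xf0b0b0a0a0005)) (.node 23252 (.leaf 0x0) (.node 23253 (.leaf 0x201030002080400000703040103000e) (.leaf 0x0)))) (.node 23257 (.node 23255 (.leaf 0xb0a0a0003) (.node 23256 (.leaf 0x601010102000802040105000b) (.leaf 0x0))) (.node 23258 (.leaf 0x0) (.node 23259 (.leaf 0x500020804000802040105000b) (.leaf 0x0))))) (.node 23266 (.node 23263 (.node 23261 (.leaf 0xb0b0a0a0004) (.node 23262 (.leaf 0x0) (.leaf 0x5add005ad9))) (.node 23264 (.leaf 0xd0b0002) (.node 23265 (.leaf 0x0) (.leaf 0x8030000020804000008)))) (.node 23269 (.node 23267 (.leaf 0x0) (.node 23268 (.leaf 0xb0f0a0a0004) (.leaf 0x20903010102000007))) (.node 23270 (.leaf 0x0) (.node 23271 (.leaf 0xf0a0a0003) (.leaf 0x0))))))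

def argWS_2060 : Store := (.node 23249 argWS_2058 argWS_2059)

def argWS_2061 : Store := (.node 23227 argWS_2057 argWS_2060)

def argWS_2062 : Store := (.node 23182 argWS_2054 argWS_2061)

def argWS_2063 : Store := (.node 23283 (.node 23277 (.node 23274 (.node 23273 (.leaf 0x4194) (.leaf 0x904020003)) (.node 23275 (.leaf 0x0) (.node 23276 (.leaf 0xb0a0a0003) (.leaf 0x0)))) (.node 23280 (.node 23278 (.leaf 0xf0001) (.node 23279 (.leaf 0x0) (.leaf 0x0))) (.node 23281 (.leaf 0xb0f0002) (.node 23282 (.leaf 0x90402010606000703040103000c) (.leaf 0x0))))) (.node 23288 (.node 23285 (.node 23284 (.leaf 0xf0a0a0003) (.leaf 0x0)) (.node 23286 (.leaf 0x5af4) (.node 23287 (.leaf 0x6090206020202000701000a) (.leaf 0x0)))) (.node 23291 (.node 23289 (.leaf 0xb0a0002) (.node 23290 (.leaf 0x0) (.leaf 0x30306040004))) (.node 23292 (.leaf 0x0) (.node 23293 (.leaf 0xe0a0002) (.leaf 0x2020904020202000701000a))))))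

def argWS_2064 : Store := (.node 23305 (.node 23299 (.node 23296 (.node 23295 (.leaf 0x0) (.leaf 0xe0a0a0003)) (.node 23297 (.leaf 0x0) (.node 23298 (.leaf 0x705020202010202000701000b) (.leaf 0x0)))) (.node 23302 (.node 23300 (.leaf 0xf0b0b0a0a0005) (.node 23301 (.leaf 0x0) (.leaf 0x5b04))) (.node 23303 (.leaf 0xa0001) (.node 23304 (.leaf 0x0) (.leaf 0x902020900000802040105000b))))) (.node 23311 (.node 23308 (.node 23306 (.leaf 0x0) (.node 23307 (.leaf 0xf0b0b0003) (.leaf 0xf0b0b0003))) (.node 23309 (.leaf 0x90403080004) (.node 23310 (.leaf 0x0) (.leaf 0xa0f0002)))) (.node 23314 (.node 23312 (.leaf 0x0) (.node 23313 (.leaf 0x5b0f) (.leaf 0xb0b0a0a0004))) (.node 23315 (.leaf 0x0) (.node 23316 (.leaf 0x1030102000003010802040105000d) (.leaf 0x0))))))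

def argWS_2065 : Store := (.node 23294 argWS_2063 argWS_2064)

def argWS_2066 : Store := (.node 23328 (.node 23322 (.node 23319 (.node 23318 (.leaf 0xa0f0b0b0004) (.leaf 0x204020804000006)) (.node 23320 (.leaf 0x0) (.node 23321 (.leaf 0xf0b0b0a0004) (.leaf 0x0)))) (.node 23325 (.node 23323 (.leaf 0x1090300000300000008) (.node 23324 (.leaf 0x0) (.leaf 0xb0b0002))) (.node 23326 (.leaf 0x0) (.node 23327 (.leaf 0x5b1d) (.leaf 0x701020106060802040105000b))))) (.node 23333 (.node 23330 (.node 23329 (.leaf 0x0) (.leaf 0xd0b0002)) (.node 23331 (.leaf 0x0) (.node 23332 (.leaf 0xf0b0b0003) (.leaf 0x0)))) (.node 23336 (.node 23334 (.leaf 0x0) (.node 23335 (.leaf 0xf0b0b0003) (.leaf 0x0))) (.node 23337 (.leaf 0x500090806000202000701000b) (.node 23338 (.leaf 0x0) (.leaf 0xe0a0002))))))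

def argWS_2067 : Store := (.node 23350 (.node 23344 (.node 23341 (.node 23340 (.leaf 0x0) (.leaf 0xa0001)) (.node 23342 (.leaf 0x5b2c005b2b) (.node 23343 (.leaf 0x8000406020702010202000701000d) (.leaf 0x0)))) (.node 23347 (.node 23345 (.leaf 0xb0a0f0003) (.node 23346 (.leaf 0x0) (.leaf 0x3040306010500020008))) (.node 23348 (.leaf 0x0) (.node 23349 (.leaf 0xa0a0002) (.leaf 0x40002000003010802040105000c))))) (.node 23356 (.node 23353 (.node 23351 (.leaf 0x0) (.node 23352 (.leaf 0xb0f0002) (.leaf 0x0))) (.node 23354 (.leaf 0x70000070009030007) (.node 23355 (.leaf 0x0) (.leaf 0xa0001)))) (.node 23359 (.node 23357 (.leaf 0x0) (.node 23358 (.leaf 0x60103010102000202000701000c) (.leaf 0x0))) (.node 23360 (.leaf 0xa0a0002) (.node 23361 (.leaf 0x0) (.leaf 0x5b40005b3c))))))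

def argWS_2068 : Store := (.node 23339 argWS_2066 argWS_2067)

def argWS_2069 : Store := (.node 23317 argWS_2065 argWS_2068)

def argWS_2070 : Store := (.node 23373 (.node 23367 (.node 23364 (.node 23363 (.leaf 0x1020004080703040103000a) (.leaf 0x0)) (.node 23365 (.leaf 0xf0b0a0a0004) (.node 23366 (.leaf 0x0) (.leaf 0x0)))) (.node 23370 (.node 23368 (.leaf 0xb0b0a0003) (.node 23369 (.leaf 0x3040901060005) (.leaf 0x0))) (.node 23371 (.leaf 0xf0b0b0a0004) (.node 23372 (.leaf 0x0) (.leaf 0xa0f0b0b0004))))) (.node 23378 (.node 23375 (.node 23374 (.leaf 0x5b4c005b4b) (.leaf 0xb0001)) (.node 23376 (.leaf 0x0) (.node 23377 (.leaf 0xe0a0002) (.leaf 0x0)))) (.node 23381 (.node 23379 (.leaf 0x0) (.node 23380 (.leaf 0xd0b0002) (.leaf 0x60601090000090007))) (.node 23382 (.leaf 0x0) (.node 23383 (.leaf 0x0) (.leaf 0xb0001))))))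

def argWS_2071 : Store := (.node 23395 (.node 23389 (.node 23386 (.node 23385 (.leaf 0x5b57005b56) (.leaf 0x209000408010802040105000b)) (.node 23387 (.leaf 0x0) (.node 23388 (.leaf 0xe0d0002) (.leaf 0x0)))) (.node 23392 (.node 23390 (.leaf 0x20401090806000802040105000c) (.node 23391 (.leaf 0x0) (.leaf 0xa0001))) (.node 23393 (.leaf 0xf0b0b0003) (.node 23394 (.leaf 0x701090806000006) (.leaf 0x0))))) (.node 23401 (.node 23398 (.node 23396 (.leaf 0x0) (.node 23397 (.leaf 0x800040900090202000701000b) (.leaf 0x0))) (.node 23399 (.leaf 0xd0b0b0003) (.node 23400 (.leaf 0x0) (.leaf 0x5b67005b63)))) (.node 23404 (.node 23402 (.leaf 0xf0a0002) (.node 23403 (.leaf 0x0) (.leaf 0xf0001))) (.node 23405 (.leaf 0x0) (.node 23406 (.leaf 0x0) (.leaf 0xb0001))))))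

def argWS_2072 : Store := (.node 23384 argWS_2070 argWS_2071)

def argWS_2073 : Store := (.node 23418 (.node 23412 (.node 23409 (.node 23408 (.leaf 0xb0001) (.leaf 0x5b6f)) (.node 23410 (.leaf 0x6050308000703040103000a) (.node 23411 (.leaf 0x0) (.leaf 0xf0b0b0003)))) (.node 23415 (.node 23413 (.leaf 0x0) (.node 23414 (.leaf 0xf0b0b0003) (.leaf 0x0))) (.node 23416 (.leaf 0xb0a0f0003) (.node 23417 (.leaf 0xb0f0a0a0004) (.leaf 0x5b78))))) (.node 23423 (.node 23420 (.node 23419 (.leaf 0x30700000300000802040105000c) (.leaf 0x0)) (.node 23421 (.leaf 0xb0f0a0003) (.node 23422 (.leaf 0x0) (.leaf 0x90700020901060007)))) (.node 23426 (.node 23424 (.leaf 0x0) (.node 23425 (.leaf 0xa0001) (.leaf 0x60601090000090202000701000c))) (.node 23427 (.leaf 0x0) (.node 23428 (.leaf 0xb0a0f0003) (.leaf 0x0))))))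

def argWS_2074 : Store := (.node 23440 (.node 23434 (.node 23431 (.node 23430 (.leaf 0xb0b0a0a0004) (.leaf 0x5b85)) (.node 23432 (.leaf 0xb0f0a0a0004) (.node 23433 (.leaf 0x0) (.leaf 0x70402000003010202000701000c)))) (.node 23437 (.node 23435 (.leaf 0x0) (.node 23436 (.leaf 0xb0a0f0003) (.leaf 0x30407030004))) (.node 23438 (.leaf 0x0) (.node 23439 (.leaf 0xa0f0b0003) (.leaf 0x0))))) (.node 23446 (.node 23443 (.node 23441 (.leaf 0x20500030306040802040105000c) (.node 23442 (.leaf 0x0) (.leaf 0xf0b0b0003))) (.node 23444 (.leaf 0x0) (.node 23445 (.leaf 0x603010400050802040105000b) (.leaf 0x0)))) (.node 23449 (.node 23447 (.leaf 0x0) (.node 23448 (.leaf 0x5b96005b93) (.leaf 0xf0b0b0003))) (.node 23450 (.leaf 0x0) (.node 23451 (.leaf 0x0) (.leaf 0xa0a0002))))))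

def argWS_2075 : Store := (.node 23429 argWS_2073 argWS_2074)

def argWS_2076 : Store := (.node 23407 argWS_2072 argWS_2075)

def argWS_2077 : Store := (.node 23362 argWS_2069 argWS_2076)

def argWS_2078 : Store := (.node 23272 argWS_2062 argWS_2077)

def argWS_2079 : Store := (.node 23463 (.node 23457 (.node 23454 (.node 23453 (.leaf 0x1040202090000000703040103000d) (.leaf 0x0)) (.node 23455 (.leaf 0xf0b0a0a0004) (.node 23456 (.leaf 0x0) (.leaf 0x10400020901060007)))) (.node 23460 (.node 23458 (.leaf 0x0) (.node 23459 (.leaf 0xe0a0a0003) (.leaf 0x0))) (.node 23461 (.leaf 0x5ba3) (.node 23462 (.leaf 0x0) (.leaf 0xe0001))))) (.node 23468 (.node 23465 (.node 23464 (.leaf 0x0) (.leaf 0x3040300020804000008)) (.node 23466 (.leaf 0x0) (.node 23467 (.leaf 0xa0f0002) (.leaf 0xd0001)))) (.node 23471 (.node 23469 (.leaf 0x20601090000090802040105000c) (.node 23470 (.leaf 0x0) (.leaf 0xd0b0b0003))) (.node 23472 (.leaf 0x0) (.node 23473 (.leaf 0xa0f0b0003) (.leaf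 0x0))))))

def argWS_2080 : Store := (.node 23485 (.node 23479 (.node 23476 (.node 23475 (.leaf 0x5bb1005baf) (.leaf 0x30400050004)) (.node 23477 (.leaf 0x0) (.node 23478 (.leaf 0xb0a0a0003) (.leaf 0x0)))) (.node 23482 (.node 23480 (.leaf 0xb0f0002) (.node 23481 (.leaf 0x0) (.leaf 0x0))) (.node 23483 (.leaf 0x3050202020703040103000a) (.node 23484 (.leaf 0x0) (.leaf 0x0))))) (.node 23491 (.node 23488 (.node 23486 (.leaf 0x400030306040006) (.node 23487 (.leaf 0x0) (.leaf 0xf0a0a0003))) (.node 23489 (.leaf 0x0) (.node 23490 (.leaf 0x2aa0005bc0) (.leaf 0x200090000090202000701000c)))) (.node 23494 (.node 23492 (.leaf 0x0) (.node 23493 (.leaf 0xd0001) (.leaf 0x0))) (.node 23495 (.leaf 0xb0a0002) (.node 23496 (.leaf 0x0) (.leaf 0x0))))))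

def argWS_2081 : Store := (.node 23474 argWS_2079 argWS_2080)

def argWS_2082 : Store := (.node 23508 (.node 23502 (.node 23499 (.node 23498 (.leaf 0xe0a0002) (.leaf 0x20005020202010202000701000d)) (.node 23500 (.leaf 0x0) (.node 23501 (.leaf 0xf0001) (.leaf 0x0)))) (.node 23505 (.node 23503 (.leaf 0x7010101090402000703040103000d) (.node 23504 (.leaf 0x0) (.leaf 0xb0b0a0003))) (.node 23506 (.leaf 0x0) (.node 23507 (.leaf 0x5bd1005bcd) (.leaf 0x602000003010802040105000b))))) (.node 23513 (.node 23510 (.node 23509 (.leaf 0x0) (.leaf 0xe0001)) (.node 23511 (.leaf 0x0) (.node 23512 (.leaf 0xf0a0002) (.leaf 0x0)))) (.node 23516 (.node 23514 (.leaf 0x0) (.node 23515 (.leaf 0x107010703060802040105000b) (.leaf 0x0))) (.node 23517 (.leaf 0xf0b0b0a0004) (.node 23518 (.leaf 0x0) (.leaf 0xf0b0b0a0a0005))))))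

def argWS_2083 : Store := (.node 23530 (.node 23524 (.node 23521 (.node 23520 (.leaf 0x5bde) (.leaf 0x9020106060202000701000a)) (.node 23522 (.leaf 0x0) (.node 23523 (.leaf 0xd0b0b0003) (.leaf 0x0)))) (.node 23527 (.node 23525 (.leaf 0xe0a0002) (.node 23526 (.leaf 0x0) (.leaf 0x0))) (.node 23528 (.leaf 0x800020703000703040103000b) (.node 23529 (.leaf 0x0) (.leaf 0xd0b0b0003))))) (.node 23536 (.node 23533 (.node 23531 (.leaf 0x0) (.node 23532 (.leaf 0xa0f0b0b0004) (.leaf 0x90000020804000202000701000c))) (.node 23534 (.leaf 0x0) (.node 23535 (.leaf 0xa0001) (.leaf 0x0)))) (.node 23539 (.node 23537 (.leaf 0x5bef005beb) (.node 23538 (.leaf 0x20200090806000202000701000c) (.leaf 0x0))) (.node 23540 (.leaf 0xa0f0b0003) (.node 23541 (.leaf 0x0) (.leaf 0xa0f0b0003))))))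

def argWS_2084 : Store := (.node 23519 argWS_2082 argWS_2083)

def argWS_2085 : Store := (.node 23497 argWS_2081 argWS_2084)

def argWS_2086 : Store := (.node 23553 (.node 23547 (.node 23544 (.node 23543 (.leaf 0x0) (.leaf 0x0)) (.node 23545 (.leaf 0xa0f0b0b0004) (.node 23546 (.leaf 0xf0b0b0a0004) (.leaf 0x901090003)))) (.node 23550 (.node 23548 (.leaf 0x0) (.node 23549 (.leaf 0xb0b0002) (.leaf 0x0))) (.node 23551 (.leaf 0x5bfd005bf9) (.node 23552 (.leaf 0xa0f0002) (.leaf 0x0))))) (.node 23558 (.node 23555 (.node 23554 (.leaf 0x60601020901060007) (.leaf 0x0)) (.node 23556 (.leaf 0xf0b0a0003) (.node 23557 (.leaf 0x705020106060006) (.leaf 0x0)))) (.node 23561 (.node 23559 (.leaf 0xb0a0002) (.node 23560 (.leaf 0x0) (.leaf 0x50201010703060202000701000c))) (.node 23562 (.leaf 0x0) (.node 23563 (.leaf 0xb0001) (.leaf 0x0))))))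

def argWS_2087 : Store := (.node 23575 (.node 23569 (.node 23566 (.node 23565 (.leaf 0x2090603000703040103000a) (.leaf 0x0)) (.node 23567 (.leaf 0xe0a0a0003) (.node 23568 (.leaf 0x0) (.leaf 0x5c0f005c0b)))) (.node 23572 (.node 23570 (.leaf 0xb0a0f0003) (.node 23571 (.leaf 0x0) (.leaf 0x0))) (.node 23573 (.leaf 0xf0b0b0003) (.node 23574 (.leaf 0xb0f0a0a0004) (.leaf 0x4020507000902000701000a))))) (.node 23581 (.node 23578 (.node 23576 (.leaf 0x0) (.node 23577 (.leaf 0xb0b0002) (.leaf 0x0))) (.node 23579 (.leaf 0x5c19) (.node 23580 (.leaf 0xd0001) (.leaf 0x0)))) (.node 23584 (.node 23582 (.leaf 0xf0b0a0003) (.node 23583 (.leaf 0x0) (.leaf 0x0))) (.node 23585 (.leaf 0x1050002000703040103000a) (.node 23586 (.leaf 0x0) (.leaf 0xa0a0002))))))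

def argWS_2088 : Store := (.node 23564 argWS_2086 argWS_2087)

def argWS_2089 : Store := (.node 23598 (.node 23592 (.node 23589 (.node 23588 (.leaf 0x0) (.leaf 0x5c23)) (.node 23590 (.leaf 0xb0a0a0003) (.node 23591 (.leaf 0x0) (.leaf 0xb0001)))) (.node 23595 (.node 23593 (.leaf 0x0) (.node 23594 (.leaf 0x0) (.leaf 0x50002010606000703040103000c))) (.node 23596 (.leaf 0x0) (.node 23597 (.leaf 0x0) (.leaf 0x70407020600000703040103000c))))) (.node 23603 (.node 23600 (.node 23599 (.leaf 0x0) (.leaf 0xf0001)) (.node 23601 (.leaf 0x0) (.node 23602 (.leaf 0x9010401070306000703040103000d) (.leaf 0x0)))) (.node 23606 (.node 23604 (.leaf 0xb0f0a0003) (.node 23605 (.leaf 0x0) (.leaf 0x5c34005c30))) (.node 23607 (.leaf 0x4020005000703040103000a) (.node 23608 (.leaf 0x0) (.leaf 0xe0001))))))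

def argWS_2090 : Store := (.node 23620 (.node 23614 (.node 23611 (.node 23610 (.leaf 0x0) (.leaf 0x90201070209020007)) (.node 23612 (.leaf 0x0) (.node 23613 (.leaf 0xf0a0a0003) (.leaf 0x10700090806000802040105000c)))) (.node 23617 (.node 23615 (.leaf 0x0) (.node 23616 (.leaf 0xb0f0a0003) (.leaf 0x0))) (.node 23618 (.leaf 0x6010900090802040105000a) (.node 23619 (.leaf 0x0) (.leaf 0xa0f0002))))) (.node 23626 (.node 23623 (.node 23621 (.leaf 0x0) (.node 23622 (.leaf 0x5c44) (.leaf 0x401010703060802040105000b))) (.node 23624 (.leaf 0x0) (.node 23625 (.leaf 0xb0b0002) (.leaf 0x0)))) (.node 23629 (.node 23627 (.leaf 0x800040601050002000703040103000e) (.node 23628 (.leaf 0x0) (.leaf 0xb0b0a0003))) (.node 23630 (.leaf 0xa0f0002) (.node 23631 (.leaf 0xe0001) (.leaf 0xe0001))))))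

def argWS_2091 : Store := (.node 23609 argWS_2089 argWS_2090)

def argWS_2092 : Store := (.node 23587 argWS_2088 argWS_2091)

def argWS_2093 : Store := (.node 23542 argWS_2085 argWS_2092)

def argWS_2094 : Store := (.node 23643 (.node 23637 (.node 23634 (.node 23633 (.leaf 0x5c4f005c4e) (.leaf 0x7000400050802040105000a)) (.node 23635 (.leaf 0x0) (.node 23636 (.leaf 0xe0a0002) (.leaf 0x0)))) (.node 23640 (.node 23638 (.leaf 0xa0001) (.node 23639 (.leaf 0x0) (.leaf 0x0))) (.node 23641 (.leaf 0x4020901060802040105000a) (.node 23642 (.leaf 0x0) (.leaf 0xf0b0b0a0a0005))))) (.node 23648 (.node 23645 (.node 23644 (.leaf 0x0) (.leaf 0xa0a0002)) (.node 23646 (.leaf 0x58be005c5c) (.node 23647 (.leaf 0xa0001) (.leaf 0x0)))) (.node 23651 (.node 23649 (.leaf 0x300000408010202000701000b) (.node 23650 (.leaf 0x0) (.leaf 0xa0001))) (.node 23652 (.leaf 0xf0a0a0003) (.node 23653 (.leaf 0xa0f0b0003) (.leaf 0x5c64))))))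

def argWS_2095 : Store := (.node 23665 (.node 23659 (.node 23656 (.node 23655 (.leaf 0xf0b0b0a0004) (.leaf 0x0)) (.node 23657 (.leaf 0x604090206020202000701000b) (.node 23658 (.leaf 0x0) (.leaf 0xb0001)))) (.node 23662 (.node 23660 (.leaf 0xa0f0b0003) (.node 23661 (.leaf 0xf0001) (.leaf 0xb0b0a0003))) (.node 23663 (.leaf 0x5c6d005c6c) (.node 23664 (.leaf 0x9020106030500040802040105000d) (.leaf 0x0))))) (.node 23671 (.node 23668 (.node 23666 (.leaf 0xf0b0b0a0a0005) (.node 23667 (.leaf 0x0) (.leaf 0x401090402000703040103000b))) (.node 23669 (.leaf 0x0) (.node 23670 (.leaf 0xb0001) (.leaf 0x102000300000802040105000b)))) (.node 23674 (.node 23672 (.leaf 0x0) (.node 23673 (.leaf 0xd0b0b0003) (.leaf 0x0))) (.node 23675 (.leaf 0x800000207020007010009) (.node 23676 (.leaf 0x0) (.leaf 0xf0b0b0a0004))))))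

def argWS_2096 : Store := (.node 23654 argWS_2094 argWS_2095)

def argWS_2097 : Store := (.node 23688 (.node 23682 (.node 23679 (.node 23678 (.leaf 0x0) (.leaf 0x5c7d005c79)) (.node 23680 (.leaf 0x50202090106000703040103000c) (.node 23681 (.leaf 0x0) (.leaf 0xa0f0002)))) (.node 23685 (.node 23683 (.leaf 0x0) (.node 23684 (.leaf 0xf0b0b0003) (.leaf 0x0))) (.node 23686 (.leaf 0x0) (.node 23687 (.leaf 0x3040101090402000703040103000d) (.leaf 0x0))))) (.node 23693 (.node 23690 (.node 23689 (.leaf 0xe0001) (.leaf 0x0)) (.node 23691 (.leaf 0x408010802040105000b) (.node 23692 (.leaf 0x0) (.leaf 0xe0a0002)))) (.node 23696 (.node 23694 (.leaf 0x0) (.node 23695 (.leaf 0x209080600000703040103000b) (.leaf 0x0))) (.node 23697 (.leaf 0xf0001) (.node 23698 (.leaf 0x0) (.leaf 0x5c91005c8d))))))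

def argWS_2098 : Store := (.node 23710 (.node 23704 (.node 23701 (.node 23700 (.leaf 0x304030400050006) (.leaf 0x0)) (.node 23702 (.leaf 0xb0001) (.node 23703 (.leaf 0x0) (.leaf 0xe0d0002)))) (.node 23707 (.node 23705 (.leaf 0x0) (.node 23706 (.leaf 0x0) (.leaf 0x1070207030005))) (.node 23708 (.leaf 0x0) (.node 23709 (.leaf 0xb0b0a0003) (.leaf 0x0))))) (.node 23716 (.node 23713 (.node 23711 (.leaf 0x20000090206020007) (.node 23712 (.leaf 0x0) (.leaf 0xe0d0002))) (.node 23714 (.leaf 0x0) (.node 23715 (.leaf 0x5ca1) (.leaf 0x70402020900000802040105000c)))) (.node 23719 (.node 23717 (.leaf 0x0) (.node 23718 (.leaf 0xb0f0a0003) (.leaf 0x0))) (.node 23720 (.leaf 0xa0f0b0b0004) (.node 23721 (.leaf 0x0) (.leaf 0x30402020900000202000701000c))))))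

def argWS_2099 : Store := (.node 23699 argWS_2097 argWS_2098)

def argWS_2100 : Store := (.node 23677 argWS_2096 argWS_2099)

def argWS_2101 : Store := (.node 23733 (.node 23727 (.node 23724 (.node 23723 (.leaf 0x0) (.leaf 0xa0f0b0003)) (.node 23725 (.leaf 0x0) (.node 23726 (.leaf 0xe0d0002) (.leaf 0x5cad)))) (.node 23730 (.node 23728 (.leaf 0x4000408010006) (.node 23729 (.leaf 0x0) (.leaf 0xb0b0a0003))) (.node 23731 (.leaf 0x0) (.node 23732 (.leaf 0xb0b0a0a0004) (.leaf 0x0))))) (.node 23738 (.node 23735 (.node 23734 (.leaf 0x0) (.leaf 0xf0b0a0003)) (.node 23736 (.leaf 0x10402020900000007) (.node 23737 (.leaf 0x0) (.leaf 0xd0b0b0003)))) (.node 23741 (.node 23739 (.leaf 0x0) (.node 23740 (.leaf 0x205020007030401030009) (.leaf 0x0))) (.node 23742 (.leaf 0xb0a0a0003) (.node 23743 (.leaf 0x0) (.leaf 0x5cbe005cba))))))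

def argWS_2102 : Store := (.node 23755 (.node 23749 (.node 23746 (.node 23745 (.leaf 0x80500020106060802040105000c) (.leaf 0x0)) (.node 23747 (.leaf 0xb0f0a0a0004) (.node 23748 (.leaf 0x0) (.leaf 0xe0d0002)))) (.node 23752 (.node 23750 (.leaf 0x0) (.node 23751 (.leaf 0x0) (.leaf 0xf0b0a0003))) (.node 23753 (.leaf 0x50201010703060202000701000c) (.node 23754 (.leaf 0x0) (.leaf 0xb0001))))) (.node 23761 (.node 23758 (.node 23756 (.leaf 0x0) (.node 23757 (.leaf 0x5ccb000bc8) (.leaf 0xb0b0002))) (.node 23759 (.leaf 0x0) (.node 23760 (.leaf 0xe0d0002) (.leaf 0x0)))) (.node 23764 (.node 23762 (.leaf 0x0) (.node 23763 (.leaf 0xb0f0002) (.leaf 0x70406030500040202000701000c))) (.node 23765 (.leaf 0x0) (.node 23766 (.leaf 0x0) (.leaf 0x2000308000703040103000a))))))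

def argWS_2103 : Store := (.node 23744 argWS_2101 argWS_2102)

def argWS_2104 : Store := (.node 23778 (.node 23772 (.node 23769 (.node 23768 (.leaf 0x0) (.leaf 0xb0001)) (.node 23770 (.leaf 0x0) (.node 23771 (.leaf 0x5cd9005cd5) (.leaf 0x9030308000703040103000a)))) (.node 23775 (.node 23773 (.leaf 0x0) (.node 23774 (.leaf 0xb0f0a0003) (.leaf 0x0))) (.node 23776 (.leaf 0x5030400050802040105000a) (.node 23777 (.leaf 0x0) (.leaf 0xf0b0b0a0a0005))))) (.node 23784 (.node 23781 (.node 23779 (.leaf 0x80101020901060802040105000c) (.node 23780 (.leaf 0x0) (.leaf 0xb0b0a0003))) (.node 23782 (.leaf 0x0) (.node 23783 (.leaf 0x403070209020006) (.leaf 0x0)))) (.node 23787 (.node 23785 (.leaf 0xf0001) (.node 23786 (.leaf 0x0) (.leaf 0xf0a0a0003))) (.node 23788 (.leaf 0x5cea005ce9) (.node 23789 (.leaf 0x107090109000703040103000b) (.leaf 0x0))))))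

def argWS_2105 : Store := (.node 23801 (.node 23795 (.node 23792 (.node 23791 (.leaf 0xf0b0b0a0a0005) (.leaf 0x0)) (.node 23793 (.leaf 0xa0f0b0003) (.node 23794 (.leaf 0x0) (.leaf 0x0)))) (.node 23798 (.node 23796 (.leaf 0x201040005000703040103000b) (.node 23797 (.leaf 0x0) (.leaf 0xb0a0f0003))) (.node 23799 (.leaf 0x0) (.node 23800 (.leaf 0x6010201090009000703040103000d) (.leaf 0x0))))) (.node 23807 (.node 23804 (.node 23802 (.leaf 0xf0001) (.node 23803 (.leaf 0x0) (.leaf 0x6050206040006))) (.node 23805 (.leaf 0x0) (.node 23806 (.leaf 0xb0b0002) (.leaf 0x0)))) (.node 23810 (.node 23808 (.leaf 0x5cfe005cfa) (.node 23809 (.leaf 0xf0b0b0a0004) (.leaf 0x0))) (.node 23811 (.leaf 0xb0f0002) (.node 23812 (.leaf 0x0) (.leaf 0x0))))))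

def argWS_2106 : Store := (.node 23790 argWS_2104 argWS_2105)

def argWS_2107 : Store := (.node 23767 argWS_2103 argWS_2106)

def argWS_2108 : Store := (.node 23722 argWS_2100 argWS_2107)

def argWS_2109 : Store := (.node 23632 argWS_2093 argWS_2108)

def argWS_2110 : Store := (.node 23452 argWS_2078 argWS_2109)

def argWS_2111 : Store := (.node 23824 (.node 23818 (.node 23815 (.node 23814 (.leaf 0xd0b0002) (.leaf 0x903070009030006)) (.node 23816 (.leaf 0x0) (.node 23817 (.leaf 0xb0b0a0003) (.leaf 0x0)))) (.node 23821 (.node 23819 (.leaf 0x40205010703060802040105000c) (.node 23820 (.leaf 0x0) (.leaf 0xb0b0002))) (.node 23822 (.leaf 0x0) (.node 23823 (.leaf 0x5d0d005d09) (.leaf 0x300000802040105000b))))) (.node 23829 (.node 23826 (.node 23825 (.leaf 0x0) (.leaf 0xb0b0002)) (.node 23827 (.leaf 0x0) (.node 23828 (.leaf 0x2090102000003010802040105000d) (.leaf 0x0)))) (.node 23832 (.node 23830 (.leaf 0xf0b0b0a0a0005) (.node 23831 (.leaf 0x4000408010202000701000b)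 (.leaf 0x0))) (.node 23833 (.leaf 0xb0b0a0a0004) (.node 23834 (.leaf 0x0) (.leaf 0x90306030500040007))))))

def argWS_2112 : Store := (.node 23846 (.node 23840 (.node 23837 (.node 23836 (.leaf 0x0) (.leaf 0xb0b0a0003)) (.node 23838 (.leaf 0x0) (.node 23839 (.leaf 0x5d1d) (.leaf 0xb0b0a0a0004)))) (.node 23843 (.node 23841 (.leaf 0x0) (.node 23842 (.leaf 0x5060308020401050009) (.leaf 0x0))) (.node 23844 (.leaf 0xb0f0a0003) (.node 23845 (.leaf 0xf0b0b0a0a0005) (.leaf 0x107010908050202000701000b))))) (.node 23852 (.node 23849 (.node 23847 (.leaf 0x0) (.node 23848 (.leaf 0xe0001) (.leaf 0x0))) (.node 23850 (.leaf 0x5d28) (.node 23851 (.leaf 0xa0f0b0003) (.leaf 0x0)))) (.node 23855 (.node 23853 (.leaf 0x5000007000902000701000a) (.node 23854 (.leaf 0x0) (.leaf 0xf0001))) (.node 23856 (.leaf 0x4000409000009000703040103000d) (.node 23857 (.leaf 0x0) (.leaf 0xf0a0a0003))))))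

def argWS_2113 : Store := (.node 23835 argWS_2111 argWS_2112)

def argWS_2114 : Store := (.node 23869 (.node 23863 (.node 23860 (.node 23859 (.leaf 0x0) (.leaf 0x70402000003010007)) (.node 23861 (.leaf 0x0) (.node 23862 (.leaf 0xb0f0002) (.leaf 0x0)))) (.node 23866 (.node 23864 (.leaf 0xd0b0002) (.node 23865 (.leaf 0x5d37005d36) (.leaf 0xb0b0002))) (.node 23867 (.leaf 0x0) (.node 23868 (.leaf 0xd0001) (.leaf 0x0))))) (.node 23874 (.node 23871 (.node 23870 (.leaf 0x0) (.leaf 0xa0001)) (.node 23872 (.leaf 0x40307000903000703040103000c) (.node 23873 (.leaf 0x0) (.leaf 0xb0b0a0a0004)))) (.node 23877 (.node 23875 (.leaf 0x0) (.node 23876 (.leaf 0x5d42) (.leaf 0x7030502020900000008))) (.node 23878 (.leaf 0x0) (.node 23879 (.leaf 0xb0a0f0003) (.leaf 0x0))))))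

def argWS_2115 : Store := (.node 23891 (.node 23885 (.node 23882 (.node 23881 (.leaf 0x20002090109000703040103000c) (.leaf 0x0)) (.node 23883 (.leaf 0xe0a0a0003) (.node 23884 (.leaf 0xa0f0b0003) (.leaf 0xb0b0002)))) (.node 23888 (.node 23886 (.leaf 0x5d4c005d4b) (.node 23887 (.leaf 0xf0001) (.leaf 0x0))) (.node 23889 (.leaf 0x90600020804000802040105000c) (.node 23890 (.leaf 0x0) (.leaf 0xa0a0002))))) (.node 23897 (.node 23894 (.node 23892 (.leaf 0xf0001) (.node 23893 (.leaf 0xd0001) (.leaf 0x5d54))) (.node 23895 (.leaf 0x400040207030006) (.node 23896 (.leaf 0x0) (.leaf 0xa0a0002)))) (.node 23900 (.node 23898 (.leaf 0x0) (.node 23899 (.leaf 0xb0f0a0003) (.leaf 0x0))) (.node 23901 (.leaf 0x0) (.node 23902 (.leaf 0xe0001) (.leaf 0x3030400050802040105000a))))))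

def argWS_2116 : Store := (.node 23880 argWS_2114 argWS_2115)

def argWS_2117 : Store := (.node 23858 argWS_2113 argWS_2116)

def argWS_2118 : Store := (.node 23914 (.node 23908 (.node 23905 (.node 23904 (.leaf 0x0) (.leaf 0xb0f0002)) (.node 23906 (.leaf 0x0) (.node 23907 (.leaf 0x104030802020007010009) (.leaf 0x0)))) (.node 23911 (.node 23909 (.leaf 0xa0a0002) (.node 23910 (.leaf 0x0) (.leaf 0x5d65005d61))) (.node 23912 (.leaf 0xe0a0002) (.node 23913 (.leaf 0x0) (.leaf 0x7050308000703040103000a))))) (.node 23919 (.node 23916 (.node 23915 (.leaf 0x0) (.leaf 0xb0a0002)) (.node 23917 (.leaf 0x50300020804000008) (.node 23918 (.leaf 0x0) (.leaf 0xf0b0a0003)))) (.node 23922 (.node 23920 (.leaf 0x0) (.node 23921 (.leaf 0x5d6f) (.leaf 0x9050303010102000202000701000d))) (.node 23923 (.leaf 0x0) (.node 23924 (.leaf 0xb0b0a0a0004) (.leaf 0x0))))))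

def argWS_2119 : Store := (.node 23936 (.node 23930 (.node 23927 (.node 23926 (.leaf 0xb0a0a0003) (.leaf 0x0)) (.node 23928 (.leaf 0x0) (.node 23929 (.leaf 0xf0b0a0003) (.leaf 0x60501090805000703040103000c)))) (.node 23933 (.node 23931 (.leaf 0x0) (.node 23932 (.leaf 0xb0a0a0003) (.leaf 0x0))) (.node 23934 (.leaf 0x5d7c) (.node 23935 (.leaf 0xe0a0002) (.leaf 0x0))))) (.node 23942 (.node 23939 (.node 23937 (.leaf 0x90006020702010802040105000d) (.node 23938 (.leaf 0x0) (.leaf 0xb0a0a0003))) (.node 23940 (.leaf 0xa0f0002) (.node 23941 (.leaf 0x301070209020006) (.leaf 0x0)))) (.node 23945 (.node 23943 (.leaf 0xb0b0002) (.node 23944 (.leaf 0x0) (.leaf 0x8000002010606000703040103000d))) (.node 23946 (.leaf 0x0) (.node 23947 (.leaf 0xf0b0b0003) (.leaf 0x0))))))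

def argWS_2120 : Store := (.node 23925 argWS_2118 argWS_2119)

def argWS_2121 : Store := (.node 23959 (.node 23953 (.node 23950 (.node 23949 (.leaf 0x5d8b005d87) (.leaf 0xf0b0a0a0004)) (.node 23951 (.leaf 0x0) (.node 23952 (.leaf 0xf0b0b0a0004) (.leaf 0x0)))) (.node 23956 (.node 23954 (.leaf 0x0) (.node 23955 (.leaf 0x7010102000802040105000a) (.leaf 0x0))) (.node 23957 (.leaf 0xb0f0002) (.node 23958 (.leaf 0x0) (.leaf 0xb0a0f0003))))) (.node 23964 (.node 23961 (.node 23960 (.leaf 0xf0a0002) (.leaf 0x5d97005d96)) (.node 23962 (.leaf 0xf0001) (.node 23963 (.leaf 0x0) (.leaf 0xf0001)))) (.node 23967 (.node 23965 (.leaf 0x0) (.node 23966 (.leaf 0x1070904020005) (.leaf 0x0))) (.node 23968 (.leaf 0xb0b0a0a0004) (.node 23969 (.leaf 0x0) (.leaf 0xf0001))))))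

def argWS_2122 : Store := (.node 23981 (.node 23975 (.node 23972 (.node 23971 (.leaf 0x5da1) (.leaf 0x90600000300000007)) (.node 23973 (.leaf 0x0) (.node 23974 (.leaf 0xb0b0002) (.leaf 0x0)))) (.node 23978 (.node 23976 (.leaf 0x0) (.node 23977 (.leaf 0xb0f0a0a0004) (.leaf 0xe0d0002))) (.node 23979 (.leaf 0x30500000300000202000701000c) (.node 23980 (.leaf 0x0) (.leaf 0xf0b0b0a0a0005))))) (.node 23987 (.node 23984 (.node 23982 (.leaf 0x0) (.node 23983 (.leaf 0x5dad005da9) (.leaf 0x202020206020007010009))) (.node 23985 (.leaf 0x0) (.node 23986 (.leaf 0xb0b0002) (.leaf 0x0)))) (.node 23990 (.node 23988 (.leaf 0xb0a0002) (.node 23989 (.leaf 0x0) (.leaf 0x0))) (.node 23991 (.leaf 0x90606010500020802040105000c) (.node 23992 (.leaf 0x0) (.leaf 0xf0001))))))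

def argWS_2123 : Store := (.node 23970 argWS_2121 argWS_2122)

def argWS_2124 : Store := (.node 23948 argWS_2120 argWS_2123)

def argWS_2125 : Store := (.node 23903 argWS_2117 argWS_2124)

def argWS_2126 : Store := (.node 24004 (.node 23998 (.node 23995 (.node 23994 (.leaf 0x0) (.leaf 0x101010904020006)) (.node 23996 (.leaf 0x0) (.node 23997 (.leaf 0xf0001) (.leaf 0x0)))) (.node 24001 (.node 23999 (.leaf 0xa0001) (.node 24000 (.leaf 0x5dbe005dbd) (.leaf 0x6020007010006))) (.node 24002 (.leaf 0x0) (.node 24003 (.leaf 0xb0f0002) (.leaf 0x0))))) (.node 24009 (.node 24006 (.node 24005 (.leaf 0xb0b0a0a0004) (.leaf 0x0)) (.node 24007 (.leaf 0x0) (.node 24008 (.leaf 0x7030506010500020202000701000d) (.leaf 0x0)))) (.node 24012 (.node 24010 (.leaf 0xe0001) (.node 24011 (.leaf 0x0) (.leaf 0xf0b0a0a0004))) (.node 24013 (.leaf 0x5dcb005dca) (.node 24014 (.leaf 0xb0b0002) (.leaf 0x0))))))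

def argWS_2127 : Store := (.node 24026 (.node 24020 (.node 24017 (.node 24016 (.leaf 0xe0d0002) (.leaf 0x0)) (.node 24018 (.leaf 0x0) (.node 24019 (.leaf 0x5000000030306040802040105000d) (.leaf 0x0)))) (.node 24023 (.node 24021 (.leaf 0xb0b0a0003) (.node 24022 (.leaf 0x0) (.leaf 0x8000400050006))) (.node 24024 (.leaf 0x0) (.node 24025 (.leaf 0xa0001) (.leaf 0x0))))) (.node 24032 (.node 24029 (.node 24027 (.leaf 0x50305070206000202000701000c) (.node 24028 (.leaf 0x0) (.leaf 0xe0a0a0003))) (.node 24030 (.leaf 0x0) (.node 24031 (.leaf 0x5ddd005dd9) (.leaf 0xf0b0a0a0004)))) (.node 24035 (.node 24033 (.leaf 0x0) (.node 24034 (.leaf 0x0) (.leaf 0xd0001))) (.node 24036 (.leaf 0x2050207030005) (.node 24037 (.leaf 0x0) (.leaf 0xb0a0f0003))))))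

def argWS_2128 : Store := (.node 24015 argWS_2126 argWS_2127)

def argWS_2129 : Store := (.node 24049 (.node 24043 (.node 24040 (.node 24039 (.leaf 0x0) (.leaf 0x5de6)) (.node 24041 (.leaf 0x40304020901060007) (.node 24042 (.leaf 0x0) (.leaf 0xf0b0a0003)))) (.node 24046 (.node 24044 (.leaf 0x0) (.node 24045 (.leaf 0xf0b0b0a0a0005) (.leaf 0x0))) (.node 24047 (.leaf 0x0) (.node 24048 (.leaf 0x404010904020202000701000b) (.leaf 0x0))))) (.node 24054 (.node 24051 (.node 24050 (.leaf 0xb0f0a0a0004) (.leaf 0x0)) (.node 24052 (.leaf 0x103000900090802040105000b) (.node 24053 (.leaf 0x0) (.leaf 0xa0f0002)))) (.node 24057 (.node 24055 (.leaf 0x0) (.node 24056 (.leaf 0xb0a0f0003) (.leaf 0x5df7005df6))) (.node 24058 (.leaf 0x907050202020703040103000b) (.node 24059 (.leaf 0x0) (.leaf 0xe0001))))))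

def argWS_2130 : Store := (.node 24071 (.node 24065 (.node 24062 (.node 24061 (.leaf 0x0) (.leaf 0x400030901090006)) (.node 24063 (.leaf 0x0) (.node 24064 (.leaf 0xb0001) (.leaf 0xe0d0002)))) (.node 24068 (.node 24066 (.leaf 0x4070209020005) (.node 24067 (.leaf 0x0) (.leaf 0xf0b0a0a0004))) (.node 24069 (.leaf 0x0) (.node 24070 (.leaf 0x5e04005e00) (.leaf 0xf0b0b0a0004))))) (.node 24077 (.node 24074 (.node 24072 (.leaf 0x0) (.node 24073 (.leaf 0xb0b0002) (.leaf 0x0))) (.node 24075 (.leaf 0x0) (.node 24076 (.leaf 0xd0b0b0003) (.leaf 0x300000300000202000701000c)))) (.node 24080 (.node 24078 (.leaf 0x0) (.node 24079 (.leaf 0xb0f0a0a0004) (.leaf 0x0))) (.node 24081 (.leaf 0xb0f0a0003) (.node 24082 (.leaf 0x5e10005e0f) (.leaf 0xf0b0002))))))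

def argWS_2131 : Store := (.node 24060 argWS_2129 argWS_2130)

def argWS_2132 : Store := (.node 24038 argWS_2128 argWS_2131)

def argWS_2133 : Store := (.node 24094 (.node 24088 (.node 24085 (.node 24084 (.leaf 0x0) (.leaf 0xf0b0b0a0004)) (.node 24086 (.leaf 0x0) (.node 24087 (.leaf 0xa0f0b0b0004) (.leaf 0x0)))) (.node 24091 (.node 24089 (.leaf 0x60601020603000703040103000c) (.node 24090 (.leaf 0x0) (.leaf 0xa0001))) (.node 24092 (.leaf 0x0) (.node 24093 (.leaf 0xd0b0002) (.leaf 0xb0f0a0003))))) (.node 24099 (.node 24096 (.node 24095 (.leaf 0x5e1d005e1c) (.leaf 0xb0001)) (.node 24097 (.leaf 0x0) (.node 24098 (.leaf 0x80007020902000703040103000c) (.leaf 0x0)))) (.node 24102 (.node 24100 (.leaf 0xf0b0b0a0004) (.node 24101 (.leaf 0x30000000300000007) (.leaf 0x0))) (.node 24103 (.leaf 0xf0b0a0003) (.node 24104 (.leaf 0x0) (.leaf 0xa0f0b0003))))))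

def argWS_2134 : Store := (.node 24116 (.node 24110 (.node 24107 (.node 24106 (.leaf 0xf0b0b0a0004) (.leaf 0x5e29005e28)) (.node 24108 (.leaf 0xe0d0002) (.node 24109 (.leaf 0x0) (.leaf 0xb0f0002)))) (.node 24113 (.node 24111 (.leaf 0x0) (.node 24112 (.leaf 0x0) (.leaf 0xb0b0a0003))) (.node 24114 (.leaf 0x10206020702010802040105000c) (.node 24115 (.leaf 0x0) (.leaf 0xb0f0a0003))))) (.node 24122 (.node 24119 (.node 24117 (.leaf 0x0) (.node 24118 (.leaf 0x40400000300000007) (.leaf 0x0))) (.node 24120 (.leaf 0xb0a0002) (.node 24121 (.leaf 0x0) (.leaf 0x5e38005e34)))) (.node 24125 (.node 24123 (.leaf 0x4020509080600000703040103000d) (.node 24124 (.leaf 0x0) (.leaf 0xf0a0a0003))) (.node 24126 (.leaf 0x0) (.node 24127 (.leaf 0xf0b0a0a0004) (.leaf 0x0))))))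

def argWS_2135 : Store := (.node 24105 argWS_2133 argWS_2134)

def argWS_2136 : Store := (.node 24139 (.node 24133 (.node 24130 (.node 24129 (.leaf 0x0) (.leaf 0xb0a0a0003)) (.node 24131 (.leaf 0x90007020600000703040103000c) (.node 24132 (.leaf 0x0) (.leaf 0x0)))) (.node 24136 (.node 24134 (.leaf 0x5e44) (.node 24135 (.leaf 0x60006020702010802040105000d) (.leaf 0x0))) (.node 24137 (.leaf 0xb0f0a0a0004) (.node 24138 (.leaf 0x0) (.leaf 0x500020603000703040103000b))))) (.node 24145 (.node 24142 (.node 24140 (.leaf 0x0) (.node 24141 (.leaf 0xf0b0b0003) (.leaf 0x6020007010006))) (.node 24143 (.leaf 0x0) (.node 24144 (.leaf 0xb0f0002) (.leaf 0x0)))) (.node 24148 (.node 24146 (.leaf 0x601050206040202000701000b) (.node 24147 (.leaf 0x0) (.leaf 0xa0f0002))) (.node 24149 (.leaf 0x0) (.node 24150 (.leaf 0xa0a0002) (.leaf 0x5e55005e54))))))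

def argWS_2137 : Store := (.node 24162 (.node 24156 (.node 24153 (.node 24152 (.leaf 0x200000301010200000703040103000e) (.leaf 0x0)) (.node 24154 (.leaf 0xb0a0a0003) (.node 24155 (.leaf 0x0) (.leaf 0x20200020000030703040103000c)))) (.node 24159 (.node 24157 (.leaf 0x0) (.node 24158 (.leaf 0xa0a0002) (.leaf 0x303090806000802040105000b))) (.node 24160 (.leaf 0x0) (.node 24161 (.leaf 0xf0b0a0003) (.leaf 0x0))))) (.node 24168 (.node 24165 (.node 24163 (.leaf 0x201030003) (.node 24164 (.leaf 0x0) (.leaf 0xb0b0a0003))) (.node 24166 (.leaf 0x0) (.node 24167 (.leaf 0x5e65) (.leaf 0xb0b0a0a0004)))) (.node 24171 (.node 24169 (.leaf 0x0) (.node 24170 (.leaf 0xb0b0a0003) (.leaf 0x0))) (.node 24172 (.leaf 0x0) (.node 24173 (.leaf 0xb0a0f0003) (.leaf 0x9050901060802040105000a))))))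

def argWS_2138 : Store := (.node 24151 argWS_2136 argWS_2137)

def argWS_2139 : Store := (.node 24128 argWS_2135 argWS_2138)

def argWS_2140 : Store := (.node 24083 argWS_2132 argWS_2139)

def argWS_2141 : Store := (.node 23993 argWS_2125 argWS_2140)

def argWS_2142 : Store := (.node 24185 (.node 24179 (.node 24176 (.node 24175 (.leaf 0x0) (.leaf 0xf0a0a0003)) (.node 24177 (.leaf 0x0) (.node 24178 (.leaf 0xf0b0a0a0004) (.leaf 0x5e71005e70)))) (.node 24182 (.node 24180 (.leaf 0x907000900090006) (.node 24181 (.leaf 0x0) (.leaf 0xd0b0b0003))) (.node 24183 (.leaf 0x0) (.node 24184 (.leaf 0x6000000090206020202000701000d) (.leaf 0x0))))) (.node 24190 (.node 24187 (.node 24186 (.leaf 0xf0b0b0003) (.leaf 0x2000009020602000703040103000d)) (.node 24188 (.leaf 0x0) (.node 24189 (.leaf 0x0) (.leaf 0x704010703060802040105000b)))) (.node 24193 (.node 24191 (.leaf 0x0) (.node 24192 (.leaf 0xd0001) (.leaf 0x0))) (.node 24194 (.leaf 0x5e80005e7c) (.node 24195 (.leaf 0x206000300000006)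 (.leaf 0x0))))))

def argWS_2143 : Store := (.node 24207 (.node 24201 (.node 24198 (.node 24197 (.leaf 0xb0b0002) (.leaf 0x0)) (.node 24199 (.leaf 0x6020400050802040105000a) (.node 24200 (.leaf 0x0) (.leaf 0xb0001)))) (.node 24204 (.node 24202 (.leaf 0xd0b0b0003) (.node 24203 (.leaf 0x2060107000903000703040103000d) (.leaf 0x0))) (.node 24205 (.leaf 0xb0f0002) (.node 24206 (.leaf 0x0) (.leaf 0x103010400050006))))) (.node 24213 (.node 24210 (.node 24208 (.leaf 0x0) (.node 24209 (.leaf 0xf0b0b0a0004) (.leaf 0x0))) (.node 24211 (.leaf 0x5e91005e8d) (.node 24212 (.leaf 0x307000903000703040103000c) (.leaf 0x0)))) (.node 24216 (.node 24214 (.leaf 0xf0b0b0a0a0005) (.node 24215 (.leaf 0x0) (.leaf 0xb0001))) (.node 24217 (.leaf 0x0) (.node 24218 (.leaf 0x0) (.leaf 0x20202090106000703040103000c))))))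

def argWS_2144 : Store := (.node 24196 argWS_2142 argWS_2143)

def argWS_2145 : Store := (.node 24230 (.node 24224 (.node 24221 (.node 24220 (.leaf 0x0) (.leaf 0xa0f0b0b0004)) (.node 24222 (.leaf 0x0) (.node 24223 (.leaf 0xe0001) (.leaf 0x5e9e001a46)))) (.node 24227 (.node 24225 (.leaf 0xa0f0002) (.node 24226 (.leaf 0x0) (.leaf 0xb0f0002))) (.node 24228 (.leaf 0x0) (.node 24229 (.leaf 0x0) (.leaf 0x609080600000703040103000b))))) (.node 24235 (.node 24232 (.node 24231 (.leaf 0x0) (.leaf 0x0)) (.node 24233 (.leaf 0xb0a0f0003) (.node 24234 (.leaf 0x0) (.leaf 0xa0f0002)))) (.node 24238 (.node 24236 (.leaf 0x5eaa005ea9) (.node 24237 (.leaf 0x9070003010102000202000701000d) (.leaf 0x0))) (.node 24239 (.leaf 0xb0001) (.node 24240 (.leaf 0x0) (.leaf 0x202000603050004000703040103000e))))))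

def argWS_2146 : Store := (.node 24252 (.node 24246 (.node 24243 (.node 24242 (.leaf 0x0) (.leaf 0xf0b0b0a0a0005)) (.node 24244 (.leaf 0xf0b0b0003) (.node 24245 (.leaf 0xe0d0002) (.leaf 0x5eb4)))) (.node 24249 (.node 24247 (.leaf 0xe0a0002) (.node 24248 (.leaf 0x0) (.leaf 0xb0b0002))) (.node 24250 (.leaf 0x0) (.node 24251 (.leaf 0x0) (.leaf 0x5030509080600000703040103000d))))) (.node 24258 (.node 24255 (.node 24253 (.leaf 0x0) (.node 24254 (.leaf 0xf0b0b0a0004) (.leaf 0x0))) (.node 24256 (.leaf 0xf0b0b0003) (.node 24257 (.leaf 0x5ebf) (.leaf 0x705090000090006)))) (.node 24261 (.node 24259 (.leaf 0x0) (.node 24260 (.leaf 0xa0001) (.leaf 0x0))) (.node 24262 (.leaf 0x4070306000703040103000b) (.node 24263 (.leaf 0x0) (.leaf 0xd0001))))))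

def argWS_2147 : Store := (.node 24241 argWS_2145 argWS_2146)

def argWS_2148 : Store := (.node 24219 argWS_2144 argWS_2147)

def argWS_2149 : Store := (.node 24275 (.node 24269 (.node 24266 (.node 24265 (.leaf 0xd0b0b0003) (.leaf 0xa0f0002)) (.node 24267 (.leaf 0xa0a0002) (.node 24268 (.leaf 0x5eca005ec9) (.leaf 0xe0d0002)))) (.node 24272 (.node 24270 (.leaf 0x0) (.node 24271 (.leaf 0xb0a0f0003) (.leaf 0x0))) (.node 24273 (.leaf 0x0) (.node 24274 (.leaf 0xf0b0b0a0a0005) (.leaf 0x20601050002000703040103000c))))) (.node 24280 (.node 24277 (.node 24276 (.leaf 0x0) (.leaf 0xb0a0002)) (.node 24278 (.leaf 0x0) (.node 24279 (.leaf 0x5ed5005ed1) (.leaf 0xd0b0002)))) (.node 24283 (.node 24281 (.leaf 0x0) (.node 24282 (.leaf 0xf0b0a0a0004) (.leaf 0x0))) (.node 24284 (.leaf 0x0) (.node 24285 (.leaf 0xb0f0002) (.leaf 0x50009020602000703040103000c))))))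

def argWS_2150 : Store := (.node 24297 (.node 24291 (.node 24288 (.node 24287 (.leaf 0x0) (.leaf 0xf0a0a0003)) (.node 24289 (.leaf 0x0) (.node 24290 (.leaf 0x205010904020202000701000b) (.leaf 0x0)))) (.node 24294 (.node 24292 (.leaf 0xb0f0a0a0004) (.node 24293 (.leaf 0x0) (.leaf 0x5ee4005ee0))) (.node 24295 (.leaf 0xd0001) (.node 24296 (.leaf 0x0) (.leaf 0xd0b0002))))) (.node 24303 (.node 24300 (.node 24298 (.leaf 0x0) (.node 24299 (.leaf 0x0) (.leaf 0x4000402020007010008))) (.node 24301 (.leaf 0x0) (.node 24302 (.leaf 0xf0b0a0a0004) (.leaf 0x0)))) (.node 24306 (.node 24304 (.leaf 0x2090106000703040103000c) (.node 24305 (.leaf 0x0) (.leaf 0xd0b0b0003))) (.node 24307 (.leaf 0x0) (.node 24308 (.leaf 0x60601020106060802040105000c) (.leaf 0x0))))))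

def argWS_2151 : Store := (.node 24286 argWS_2149 argWS_2150)

def argWS_2152 : Store := (.node 24320 (.node 24314 (.node 24311 (.node 24310 (.leaf 0xb0b0a0a0004) (.leaf 0x0)) (.node 24312 (.leaf 0x5ef6005ef2) (.node 24313 (.leaf 0xf0001) (.leaf 0x0)))) (.node 24317 (.node 24315 (.leaf 0x109080502020007010009) (.node 24316 (.leaf 0x0) (.leaf 0xf0a0002))) (.node 24318 (.leaf 0xa0f0b0003) (.node 24319 (.leaf 0x6000508020401050008) (.leaf 0x0))))) (.node 24325 (.node 24322 (.node 24321 (.leaf 0xf0b0b0a0a0005) (.leaf 0x0)) (.node 24323 (.leaf 0x5f01005efd) (.node 24324 (.leaf 0x803000900090202000701000b) (.leaf 0x0)))) (.node 24328 (.node 24326 (.leaf 0xf0a0a0003) (.node 24327 (.leaf 0x0) (.leaf 0x30106060004))) (.node 24329 (.leaf 0x0) (.node 24330 (.leaf 0xb0b0a0a0004) (.leaf 0x5020006020702010008))))))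

def argWS_2153 : Store := (.node 24342 (.node 24336 (.node 24333 (.node 24332 (.leaf 0x0) (.leaf 0xa0f0b0003)) (.node 24334 (.leaf 0x0) (.node 24335 (.leaf 0x603010102000802040105000b) (.leaf 0x0)))) (.node 24339 (.node 24337 (.leaf 0xb0f0a0a0004) (.node 24338 (.leaf 0x0) (.leaf 0x5010900090802040105000a))) (.node 24340 (.leaf 0x0) (.node 24341 (.leaf 0xf0b0002) (.leaf 0x0))))) (.node 24348 (.node 24345 (.node 24343 (.leaf 0x5f15005f11) (.node 24344 (.leaf 0xf0b0a0a0004) (.leaf 0x0))) (.node 24346 (.leaf 0xf0b0a0a0004) (.node 24347 (.leaf 0x0) (.leaf 0x0)))) (.node 24351 (.node 24349 (.leaf 0xd0b0002) (.node 24350 (.leaf 0x307020106060202000701000b) (.leaf 0x0))) (.node 24352 (.leaf 0xf0b0b0003) (.node 24353 (.leaf 0x0) (.leaf 0x9070206030802040105000a))))))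

def argWS_2154 : Store := (.node 24331 argWS_2152 argWS_2153)

def argWS_2155 : Store := (.node 24309 argWS_2151 argWS_2154)

def argWS_2156 : Store := (.node 24264 argWS_2148 argWS_2155)

def argWS_2157 : Store := (.node 24365 (.node 24359 (.node 24356 (.node 24355 (.leaf 0x0) (.leaf 0xf0b0a0a0004)) (.node 24357 (.leaf 0x0) (.node 24358 (.leaf 0x5f24005f20) (.leaf 0xa0f0b0003)))) (.node 24362 (.node 24360 (.leaf 0x0) (.node 24361 (.leaf 0xb0f0002) (.leaf 0x0))) (.node 24363 (.leaf 0x0) (.node 24364 (.leaf 0x70006010500020007) (.leaf 0x0))))) (.node 24370 (.node 24367 (.node 24366 (.leaf 0xb0a0f0003) (.leaf 0x0)) (.node 24368 (.leaf 0x50207020600000703040103000c) (.node 24369 (.leaf 0x0) (.leaf 0x0)))) (.node 24373 (.node 24371 (.leaf 0x5f31003ba1) (.node 24372 (.leaf 0x8030005020202010008) (.leaf 0x0))) (.node 24374 (.leaf 0x0) (.node 24375 (.leaf 0x50106010500020802040105000c) (.leaf 0x0))))))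

def argWS_2158 : Store := (.node 24387 (.node 24381 (.node 24378 (.node 24377 (.leaf 0xf0b0b0003) (.leaf 0x307000202090000000703040103000e)) (.node 24379 (.leaf 0x0) (.node 24380 (.leaf 0xb0a0a0003) (.leaf 0x0)))) (.node 24384 (.node 24382 (.leaf 0x703050901090202000701000b) (.node 24383 (.leaf 0x0) (.leaf 0xb0a0f0003))) (.node 24385 (.leaf 0x0) (.node 24386 (.leaf 0x5f40) (.leaf 0x50000090206020202000701000c))))) (.node 24393 (.node 24390 (.node 24388 (.leaf 0x0) (.node 24389 (.leaf 0xf0b0b0003) (.leaf 0x0))) (.node 24391 (.leaf 0x300030306040202000701000b) (.node 24392 (.leaf 0x0) (.leaf 0xd0b0b0003)))) (.node 24396 (.node 24394 (.leaf 0xf0b0b0a0004) (.node 24395 (.leaf 0xf0b0a0003) (.leaf 0xf0a0a0003))) (.node 24397 (.leaf 0x5f4b005f4a) (.node 24398 (.leaf 0xb0a0f0003) (.leaf 0x0))))))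

def argWS_2159 : Store := (.node 24376 argWS_2157 argWS_2158)

def argWS_2160 : Store := (.node 24410 (.node 24404 (.node 24401 (.node 24400 (.leaf 0x404090009000703040103000b) (.leaf 0x0)) (.node 24402 (.leaf 0xb0b0a0a0004) (.node 24403 (.leaf 0x30400050802040105000a) (.leaf 0x0)))) (.node 24407 (.node 24405 (.leaf 0x0) (.node 24406 (.leaf 0xa0a0002) (.leaf 0x5f55))) (.node 24408 (.leaf 0xd0001) (.node 24409 (.leaf 0x0) (.leaf 0x6060102000003010202000701000d))))) (.node 24415 (.node 24412 (.node 24411 (.leaf 0x0) (.leaf 0xb0b0a0a0004)) (.node 24413 (.leaf 0x202020206020007010009) (.node 24414 (.leaf 0x0) (.leaf 0xb0b0002)))) (.node 24418 (.node 24416 (.leaf 0x0) (.node 24417 (.leaf 0xf0b0a0003) (.leaf 0x5f60))) (.node 24419 (.leaf 0xf0a0a0003) (.node 24420 (.leaf 0x0) (.leaf 0x5030306040202000701000a))))))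

def argWS_2161 : Store := (.node 24432 (.node 24426 (.node 24423 (.node 24422 (.leaf 0x0) (.leaf 0xf0b0b0a0004)) (.node 24424 (.leaf 0xb0a0002) (.node 24425 (.leaf 0x70305070009030007) (.leaf 0x0)))) (.node 24429 (.node 24427 (.leaf 0xa0a0002) (.node 24428 (.leaf 0x0) (.leaf 0x40400020804000802040105000c))) (.node 24430 (.leaf 0x0) (.node 24431 (.leaf 0xa0f0b0003) (.leaf 0x0))))) (.node 24438 (.node 24435 (.node 24433 (.leaf 0x5f6f005f6b) (.node 24434 (.leaf 0x3000300000802040105000a) (.leaf 0x0))) (.node 24436 (.leaf 0xf0b0b0a0004) (.node 24437 (.leaf 0x0) (.leaf 0x90700060207020703040103000c)))) (.node 24441 (.node 24439 (.leaf 0x0) (.node 24440 (.leaf 0xf0b0b0003) (.leaf 0x701050202020703040103000b))) (.node 24442 (.leaf 0x0) (.node 24443 (.leaf 0xd0b0002) (.leaf 0x0))))))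

def argWS_2162 : Store := (.node 24421 argWS_2160 argWS_2161)

def argWS_2163 : Store := (.node 24399 argWS_2159 argWS_2162)

def argWS_2164 : Store := (.node 24455 (.node 24449 (.node 24446 (.node 24445 (.leaf 0x80000020106060802040105000c) (.leaf 0x0)) (.node 24447 (.leaf 0xa0a0002) (.node 24448 (.leaf 0x0) (.leaf 0xd0b0b0003)))) (.node 24452 (.node 24450 (.leaf 0x5f80005f7f) (.node 24451 (.leaf 0x0) (.leaf 0x90503090806000802040105000c))) (.node 24453 (.leaf 0x0) (.node 24454 (.leaf 0xf0a0002) (.leaf 0x30505020202010802040105000c))))) (.node 24460 (.node 24457 (.node 24456 (.leaf 0x0) (.leaf 0xe0a0a0003)) (.node 24458 (.leaf 0x0) (.node 24459 (.leaf 0x500070209020202000701000b) (.leaf 0x0)))) (.node 24463 (.node 24461 (.leaf 0x0) (.node 24462 (.leaf 0x5000000030000000703040103000d) (.leaf 0x0))) (.node 24464 (.leaf 0xd0b0b0003) (.node 24465 (.leaf 0x0) (.leaf 0x5f90005f8c))))))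

def argWS_2165 : Store := (.node 24477 (.node 24471 (.node 24468 (.node 24467 (.leaf 0xe0a0a0003) (.leaf 0x0)) (.node 24469 (.leaf 0x8030005020202010202000701000d) (.node 24470 (.leaf 0x0) (.leaf 0xf0b0a0003)))) (.node 24474 (.node 24472 (.leaf 0xa0f0b0b0004) (.node 24473 (.leaf 0x0) (.leaf 0xf0001))) (.node 24475 (.leaf 0x103000206030802040105000b) (.node 24476 (.leaf 0x0) (.leaf 0xb0a0002))))) (.node 24483 (.node 24480 (.node 24478 (.leaf 0x0) (.node 24479 (.leaf 0x5f9d005f99) (.leaf 0xd0b0002))) (.node 24481 (.leaf 0x0) (.node 24482 (.leaf 0x20202090106000703040103000c) (.leaf 0x0)))) (.node 24486 (.node 24484 (.leaf 0xb0a0f0003) (.node 24485 (.leaf 0xf0a0002) (.leaf 0x0))) (.node 24487 (.leaf 0xf0b0b0a0004) (.node 24488 (.leaf 0xd0b0b0003) (.leaf 0x5fa7005fa6))))))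

def argWS_2166 : Store := (.node 24466 argWS_2164 argWS_2165)

def argWS_2167 : Store := (.node 24500 (.node 24494 (.node 24491 (.node 24490 (.leaf 0x20202010904020202000701000c) (.leaf 0x0)) (.node 24492 (.leaf 0xb0b0a0a0004) (.node 24493 (.leaf 0x0) (.leaf 0x60401010904020202000701000c)))) (.node 24497 (.node 24495 (.leaf 0x0) (.node 24496 (.leaf 0xf0b0a0003) (.leaf 0xb0001))) (.node 24498 (.leaf 0x60601050206040202000701000c) (.node 24499 (.leaf 0x0) (.leaf 0x0))))) (.node 24506 (.node 24503 (.node 24501 (.leaf 0x5fb3005e1e) (.node 24502 (.leaf 0xa0f0002) (.leaf 0x0))) (.node 24504 (.leaf 0x0) (.node 24505 (.leaf 0xb0b0002) (.leaf 0x1020106030500040202000701000d)))) (.node 24509 (.node 24507 (.leaf 0x0) (.node 24508 (.leaf 0xf0b0a0a0004) (.leaf 0x0))) (.node 24510 (.leaf 0x5fbc) (.node 24511 (.leaf 0xf0001) (.leaf 0x0))))))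

def argWS_2168 : Store := (.node 24523 (.node 24517 (.node 24514 (.node 24513 (.leaf 0x50201010904020202000701000c) (.leaf 0x0)) (.node 24515 (.leaf 0xb0001) (.node 24516 (.leaf 0x70206020007010007) (.leaf 0x0)))) (.node 24520 (.node 24518 (.leaf 0xf0b0002) (.node 24519 (.leaf 0x0) (.leaf 0xb0a0f0003))) (.node 24521 (.leaf 0x907020000030703040103000b) (.node 24522 (.leaf 0x0) (.leaf 0xf0a0a0003))))) (.node 24529 (.node 24526 (.node 24524 (.leaf 0x0) (.node 24525 (.leaf 0x5fcb005fc7) (.leaf 0x503070009030006))) (.node 24527 (.leaf 0x0) (.node 24528 (.leaf 0xd0b0002) (.leaf 0x0)))) (.node 24532 (.node 24530 (.leaf 0x209010207030006) (.node 24531 (.leaf 0x0) (.leaf 0xa0001))) (.node 24533 (.leaf 0xb0b0a0003) (.node 24534 (.leaf 0xe0001) (.leaf 0x902010400050202000701000b))))))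

def argWS_2169 : Store := (.node 24512 argWS_2167 argWS_2168)

def argWS_2170 : Store := (.node 24489 argWS_2166 argWS_2169)

def argWS_2171 : Store := (.node 24444 argWS_2163 argWS_2170)

def argWS_2172 : Store := (.node 24354 argWS_2156 argWS_2171)

def argWS_2173 : Store := (.node 24174 argWS_2141 argWS_2172)

def argWS_2174 : Store := (.node 23813 argWS_2110 argWS_2173)

def argWS_2175 : Store := (.node 24546 (.node 24540 (.node 24537 (.node 24536 (.leaf 0x0) (.leaf 0xf0b0a0a0004)) (.node 24538 (.leaf 0x0) (.node 24539 (.leaf 0x5fd9005fd5) (.leaf 0x500000003030604000703040103000e)))) (.node 24543 (.node 24541 (.leaf 0x0) (.node 24542 (.leaf 0xe0001) (.leaf 0x0))) (.node 24544 (.leaf 0xb0b0a0a0004) (.node 24545 (.leaf 0x0) (.leaf 0x0))))) (.node 24551 (.node 24548 (.node 24547 (.leaf 0x60601010908050202000701000c) (.leaf 0x0)) (.node 24549 (.leaf 0x0) (.node 24550 (.leaf 0xd0001) (.leaf 0x5fe5005fe4)))) (.node 24554 (.node 24552 (.leaf 0x30702000003010802040105000c)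 (.node 24553 (.leaf 0x0) (.leaf 0xf0a0002))) (.node 24555 (.leaf 0x0) (.node 24556 (.leaf 0x60206010500020007) (.leaf 0x0))))))

def argWS_2176 : Store := (.node 24568 (.node 24562 (.node 24559 (.node 24558 (.leaf 0xf0a0a0003) (.leaf 0xf0001)) (.node 24560 (.leaf 0xb0a0a0003) (.node 24561 (.leaf 0xf0b0a0003) (.leaf 0x5ff0005fef)))) (.node 24565 (.node 24563 (.leaf 0xf0b0b0003) (.node 24564 (.leaf 0x0) (.leaf 0x10301090000090802040105000c))) (.node 24566 (.leaf 0x0) (.node 24567 (.leaf 0xb0b0a0003) (.leaf 0xb0b0002))))) (.node 24574 (.node 24571 (.node 24569 (.leaf 0x80101070009030007) (.node 24570 (.leaf 0x0) (.leaf 0xf0b0a0a0004))) (.node 24572 (.leaf 0x0) (.node 24573 (.leaf 0xb0a0a0003) (.leaf 0x5ffc005ffb)))) (.node 24577 (.node 24575 (.leaf 0xf0a0002) (.node 24576 (.leaf 0x0) (.leaf 0x5030400050005))) (.node 24578 (.leaf 0x0) (.node 24579 (.leaf 0xa0a0002) (.leaf 0x109010908020401050009))))))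

def argWS_2177 : Store := (.node 24557 argWS_2175 argWS_2176)

def argWS_2178 : Store := (.node 24591 (.node 24585 (.node 24582 (.node 24581 (.leaf 0x0) (.leaf 0xa0001)) (.node 24583 (.leaf 0x0) (.node 24584 (.leaf 0x6020002020007010008) (.leaf 0x0)))) (.node 24588 (.node 24586 (.leaf 0xe0d0002) (.node 24587 (.leaf 0x0) (.leaf 0x600a))) (.node 24589 (.leaf 0xa0f0002) (.node 24590 (.leaf 0x0) (.leaf 0x204090806000202000701000b))))) (.node 24596 (.node 24593 (.node 24592 (.leaf 0x0) (.leaf 0xb0f0a0a0004)) (.node 24594 (.leaf 0x8000009020602000703040103000d) (.node 24595 (.leaf 0x0) (.leaf 0xb0f0a0a0004)))) (.node 24599 (.node 24597 (.leaf 0x0) (.node 24598 (.leaf 0xd0b0b0003) (.leaf 0x50000090806000802040105000c))) (.node 24600 (.leaf 0x0) (.node 24601 (.leaf 0xa0001) (.leaf 0x0))))))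

def argWS_2179 : Store := (.node 24613 (.node 24607 (.node 24604 (.node 24603 (.leaf 0x6019006015) (.leaf 0xe0a0a0003)) (.node 24605 (.leaf 0x0) (.node 24606 (.leaf 0x703060003) (.leaf 0x0)))) (.node 24610 (.node 24608 (.leaf 0xe0a0a0003) (.node 24609 (.leaf 0x1070703060005) (.leaf 0x0))) (.node 24611 (.leaf 0xf0a0002) (.node 24612 (.leaf 0x0) (.leaf 0xb0a0f0003))))) (.node 24619 (.node 24616 (.node 24614 (.leaf 0xd0001) (.node 24615 (.leaf 0x6025006024) (.leaf 0xb0a0a0003))) (.node 24617 (.leaf 0x0) (.node 24618 (.leaf 0x900060207020703040103000b) (.leaf 0x0)))) (.node 24622 (.node 24620 (.leaf 0xf0b0b0a0004) (.node 24621 (.leaf 0x701010206020007010009) (.leaf 0x0))) (.node 24623 (.leaf 0xb0a0f0003) (.node 24624 (.leaf 0x0) (.leaf 0xa0f0b0b0004))))))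

def argWS_2180 : Store := (.node 24602 argWS_2178 argWS_2179)

def argWS_2181 : Store := (.node 24580 argWS_2177 argWS_2180)

def argWS_2182 : Store := (.node 24636 (.node 24630 (.node 24627 (.node 24626 (.leaf 0x6030) (.leaf 0xb0f0a0a0004)) (.node 24628 (.leaf 0x0) (.node 24629 (.leaf 0x4000301070306000703040103000d) (.leaf 0x0)))) (.node 24633 (.node 24631 (.leaf 0xf0001) (.node 24632 (.leaf 0x6030106020702010802040105000d) (.leaf 0x0))) (.node 24634 (.leaf 0xf0001) (.node 24635 (.leaf 0x0) (.leaf 0x603a))))) (.node 24641 (.node 24638 (.node 24637 (.leaf 0xb0f0002) (.leaf 0x0)) (.node 24639 (.leaf 0x902020804000802040105000b) (.node 24640 (.leaf 0x0) (.leaf 0xa0001)))) (.node 24644 (.node 24642 (.leaf 0xa0f0b0b0004) (.node 24643 (.leaf 0x4030402000003010202000701000d) (.leaf 0x0))) (.node 24645 (.leaf 0xa0a0002) (.node 24646 (.leaf 0x0) (.leaf 0x6045))))))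

def argWS_2183 : Store := (.node 24658 (.node 24652 (.node 24649 (.node 24648 (.leaf 0x400030306040802040105000b) (.leaf 0x0)) (.node 24650 (.leaf 0xa0f0b0003) (.node 24651 (.leaf 0x0) (.leaf 0xf0b0b0a0004)))) (.node 24655 (.node 24653 (.leaf 0x0) (.node 24654 (.leaf 0xe0d0002) (.leaf 0xf0b0b0a0a0005))) (.node 24656 (.leaf 0xe0a0a0003) (.node 24657 (.leaf 0x604f00604e) (.leaf 0x0))))) (.node 24664 (.node 24661 (.node 24659 (.leaf 0x0) (.node 24660 (.leaf 0xa0f0b0003) (.leaf 0x0))) (.node 24662 (.leaf 0x0) (.node 24663 (.leaf 0xb0f0002) (.leaf 0x205020003)))) (.node 24667 (.node 24665 (.leaf 0x0) (.node 24666 (.leaf 0xb0f0a0a0004) (.leaf 0x0))) (.node 24668 (.leaf 0x605a000bd9) (.node 24669 (.leaf 0xe0d0002) (.leaf 0x0))))))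

def argWS_2184 : Store := (.node 24647 argWS_2182 argWS_2183)

def argWS_2185 : Store := (.node 24681 (.node 24675 (.node 24672 (.node 24671 (.leaf 0x20505020202010202000701000c) (.leaf 0x0)) (.node 24673 (.leaf 0xb0a0002) (.node 24674 (.leaf 0xd0001) (.leaf 0xd0b0b0003)))) (.node 24678 (.node 24676 (.leaf 0xe0a0a0003) (.node 24677 (.leaf 0x6063006062) (.leaf 0x8030000090206020008))) (.node 24679 (.leaf 0x0) (.node 24680 (.leaf 0xf0b0002) (.leaf 0x0))))) (.node 24686 (.node 24683 (.node 24682 (.leaf 0x900070209020202000701000b) (.leaf 0x0)) (.node 24684 (.leaf 0xf0b0a0003) (.node 24685 (.leaf 0xa0001) (.leaf 0xe0a0002)))) (.node 24689 (.node 24687 (.leaf 0x606d) (.node 24688 (.leaf 0x90201020901060802040105000c) (.leaf 0x0))) (.node 24690 (.leaf 0xf0001) (.node 24691 (.leaf 0x0) (.leaf 0xf0a0a0003))))))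

def argWS_2186 : Store := (.node 24703 (.node 24697 (.node 24694 (.node 24693 (.leaf 0x0) (.leaf 0x0)) (.node 24695 (.leaf 0xf0a0a0003) (.node 24696 (.leaf 0xf0b0002) (.leaf 0x6077)))) (.node 24700 (.node 24698 (.leaf 0x702000003010202000701000b) (.node 24699 (.leaf 0x0) (.leaf 0xb0f0002))) (.node 24701 (.leaf 0x0) (.node 24702 (.leaf 0x3080007030401030009) (.leaf 0x0))))) (.node 24709 (.node 24706 (.node 24704 (.leaf 0xf0b0a0003) (.node 24705 (.leaf 0x60505020202010802040105000c) (.leaf 0x0))) (.node 24707 (.leaf 0xb0b0a0003) (.node 24708 (.leaf 0x0) (.leaf 0x30402000003010202000701000c)))) (.node 24712 (.node 24710 (.leaf 0x0) (.node 24711 (.leaf 0xe0a0002) (.leaf 0x0))) (.node 24713 (.leaf 0x6087) (.node 24714 (.leaf 0xf0001) (.leaf 0x0))))))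

def argWS_2187 : Store := (.node 24692 argWS_2185 argWS_2186)

def argWS_2188 : Store := (.node 24670 argWS_2184 argWS_2187)

def argWS_2189 : Store := (.node 24625 argWS_2181 argWS_2188)

def argWS_2190 : Store := (.node 24726 (.node 24720 (.node 24717 (.node 24716 (.leaf 0xa0f0b0003) (.leaf 0x0)) (.node 24718 (.leaf 0x0) (.node 24719 (.leaf 0x20401050206040202000701000c) (.leaf 0x0)))) (.node 24723 (.node 24721 (.leaf 0xa0001) (.node 24722 (.leaf 0x0) (.leaf 0x4030403080005))) (.node 24724 (.leaf 0x0) (.node 24725 (.leaf 0xf0b0a0a0004) (.leaf 0x0))))) (.node 24731 (.node 24728 (.node 24727 (.leaf 0x6095) (.leaf 0xf0a0002)) (.node 24729 (.leaf 0x0) (.node 24730 (.leaf 0x1070000020804000802040105000d) (.leaf 0x0)))) (.node 24734 (.node 24732 (.leaf 0xd0b0002) (.node 24733 (.leaf 0xb0a0a0003) (.leaf 0x8000006010500020202000701000d))) (.node 24735 (.leaf 0x0) (.node 24736 (.leaf 0xd0b0002) (.leaf 0x0))))))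

def argWS_2191 : Store := (.node 24748 (.node 24742 (.node 24739 (.node 24738 (.leaf 0x403010102000202000701000c) (.leaf 0x0)) (.node 24740 (.leaf 0xe0a0002) (.node 24741 (.leaf 0x0) (.leaf 0x60a40060a0)))) (.node 24745 (.node 24743 (.leaf 0xb0f0002) (.node 24744 (.leaf 0x0) (.leaf 0xb0001))) (.node 24746 (.leaf 0x0) (.node 24747 (.leaf 0x0) (.leaf 0xf0a0002))))) (.node 24754 (.node 24751 (.node 24749 (.leaf 0xb0a0a0003) (.node 24750 (.leaf 0x0) (.leaf 0x60ad))) (.node 24752 (.leaf 0xb0f0a0a0004) (.node 24753 (.leaf 0x0) (.leaf 0xb0f0a0a0004)))) (.node 24757 (.node 24755 (.leaf 0x0) (.node 24756 (.leaf 0x0) (.leaf 0x209010601050002000703040103000e))) (.node 24758 (.leaf 0x0) (.node 24759 (.leaf 0xb0a0a0003) (.leaf 0x0))))))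

def argWS_2192 : Store := (.node 24737 argWS_2190 argWS_2191)

def argWS_2193 : Store := (.node 24771 (.node 24765 (.node 24762 (.node 24761 (.leaf 0x2050200090206020802040105000d) (.leaf 0x0)) (.node 24763 (.leaf 0xf0a0a0003) (.node 24764 (.leaf 0x0) (.leaf 0x60bb)))) (.node 24768 (.node 24766 (.leaf 0xf0a0a0003) (.node 24767 (.leaf 0x0) (.leaf 0x4000400000300000008))) (.node 24769 (.leaf 0x0) (.node 24770 (.leaf 0xb0b0002) (.leaf 0xf0b0a0a0004))))) (.node 24776 (.node 24773 (.node 24772 (.leaf 0xb0b0a0003) (.leaf 0x60c3000e2b)) (.node 24774 (.leaf 0xd0b0b0003) (.node 24775 (.leaf 0x0) (.leaf 0xb0a0002)))) (.node 24779 (.node 24777 (.leaf 0x0) (.node 24778 (.leaf 0x0) (.leaf 0x104000901090802040105000b))) (.node 24780 (.leaf 0x0) (.node 24781 (.leaf 0xf0b0b0a0a0005) (.leaf 0x0))))))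

def argWS_2194 : Store := (.node 24793 (.node 24787 (.node 24784 (.node 24783 (.leaf 0xa0f0b0003) (.leaf 0x60ce)) (.node 24785 (.leaf 0x107000202090000000703040103000e) (.node 24786 (.leaf 0x0) (.leaf 0xb0a0a0003)))) (.node 24790 (.node 24788 (.leaf 0x0) (.node 24789 (.leaf 0x0) (.leaf 0x709000009000703040103000c))) (.node 24791 (.leaf 0x0) (.node 24792 (.leaf 0xf0b0b0003) (.leaf 0x0))))) (.node 24799 (.node 24796 (.node 24794 (.leaf 0x90006020702010007) (.node 24795 (.leaf 0x0) (.leaf 0xf0b0b0a0004))) (.node 24797 (.leaf 0x0) (.node 24798 (.leaf 0xb0b0002) (.leaf 0x60dd0060dc)))) (.node 24802 (.node 24800 (.leaf 0x604090206020202000701000b) (.node 24801 (.leaf 0x0) (.leaf 0xb0001))) (.node 24803 (.leaf 0x0) (.node 24804 (.leaf 0x205020900090202000701000b) (.leaf 0x0))))))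

def argWS_2195 : Store := (.node 24782 argWS_2193 argWS_2194)

def argWS_2196 : Store := (.node 24760 argWS_2192 argWS_2195)

def argWS_2197 : Store := (.node 24816 (.node 24810 (.node 24807 (.node 24806 (.leaf 0xb0f0002) (.leaf 0xb0f0a0a0004)) (.node 24808 (.leaf 0x20205020202010007) (.node 24809 (.leaf 0x0) (.leaf 0xa0f0b0003)))) (.node 24813 (.node 24811 (.leaf 0x0) (.node 24812 (.leaf 0x60ea) (.leaf 0x9040206030802040105000a))) (.node 24814 (.leaf 0x0) (.node 24815 (.leaf 0xa0001) (.leaf 0x0))))) (.node 24821 (.node 24818 (.node 24817 (.leaf 0xb0b0a0003) (.leaf 0x0)) (.node 24819 (.leaf 0x0) (.node 24820 (.leaf 0x107000206030802040105000b) (.leaf 0x0)))) (.node 24824 (.node 24822 (.leaf 0xb0a0002) (.node 24823 (.leaf 0x0) (.leaf 0x507020007010006))) (.node 24825 (.leaf 0x0) (.node 24826 (.leaf 0xe0d0002) (.leaf 0x0))))))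

def argWS_2198 : Store := (.node 24838 (.node 24832 (.node 24829 (.node 24828 (.leaf 0x20602080400000703040103000c) (.leaf 0x0)) (.node 24830 (.leaf 0xa0a0002) (.node 24831 (.leaf 0x0) (.leaf 0x60fe0060fa)))) (.node 24835 (.node 24833 (.leaf 0x5000007000902000701000a) (.node 24834 (.leaf 0x0) (.leaf 0xf0001))) (.node 24836 (.leaf 0x0) (.node 24837 (.leaf 0xa0f0b0b0004) (.leaf 0x0))))) (.node 24844 (.node 24841 (.node 24839 (.leaf 0x0) (.node 24840 (.leaf 0x605020106060006) (.leaf 0x0))) (.node 24842 (.leaf 0xe0a0002) (.node 24843 (.leaf 0x0) (.leaf 0x20601040005000703040103000c)))) (.node 24847 (.node 24845 (.leaf 0x0) (.node 24846 (.leaf 0xa0f0b0003) (.leaf 0x0))) (.node 24848 (.leaf 0xb0b0a0003) (.node 24849 (.leaf 0x610f00610e) (.leaf 0x5020006030500040008))))))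

def argWS_2199 : Store := (.node 24827 argWS_2197 argWS_2198)

def argWS_2200 : Store := (.node 24861 (.node 24855 (.node 24852 (.node 24851 (.leaf 0x0) (.leaf 0xf0b0a0a0004)) (.node 24853 (.leaf 0x0) (.node 24854 (.leaf 0xe0a0002) (.leaf 0x0)))) (.node 24858 (.node 24856 (.leaf 0x0) (.node 24857 (.leaf 0xe0d0002) (.leaf 0x4070306000703040103000a))) (.node 24859 (.leaf 0x0) (.node 24860 (.leaf 0xf0b0b0003) (.leaf 0x0))))) (.node 24866 (.node 24863 (.node 24862 (.leaf 0x700020106060006) (.leaf 0x0)) (.node 24864 (.leaf 0xb0a0a0003) (.node 24865 (.leaf 0x0) (.leaf 0x612000611c)))) (.node 24869 (.node 24867 (.leaf 0x3030500040005) (.node 24868 (.leaf 0x0) (.leaf 0xf0b0a0003))) (.node 24870 (.leaf 0x0) (.node 24871 (.leaf 0x702020703000703040103000b) (.leaf 0x0))))))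

def argWS_2201 : Store := (.node 24883 (.node 24877 (.node 24874 (.node 24873 (.leaf 0xd0001) (.leaf 0x10700020106060202000701000c)) (.node 24875 (.leaf 0x0) (.node 24876 (.leaf 0xb0f0a0003) (.leaf 0x0)))) (.node 24880 (.node 24878 (.leaf 0x90401090805000703040103000c) (.node 24879 (.leaf 0x0) (.leaf 0xb0b0a0003))) (.node 24881 (.leaf 0x0) (.node 24882 (.leaf 0xb0a0a0003) (.leaf 0x6131006130))))) (.node 24889 (.node 24886 (.node 24884 (.leaf 0xb0b0a0a0004) (.node 24885 (.leaf 0x0) (.leaf 0xf0001))) (.node 24887 (.leaf 0x0) (.node 24888 (.leaf 0x0) (.leaf 0xa0f0b0b0004)))) (.node 24892 (.node 24890 (.leaf 0x600000408010802040105000c) (.node 24891 (.leaf 0x0) (.leaf 0xa0a0002))) (.node 24893 (.leaf 0x0) (.node 24894 (.leaf 0x613c) (.leaf 0x50000090806000202000701000c))))))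

def argWS_2202 : Store := (.node 24872 argWS_2200 argWS_2201)

def argWS_2203 : Store := (.node 24850 argWS_2199 argWS_2202)

def argWS_2204 : Store := (.node 24805 argWS_2196 argWS_2203)

def argWS_2205 : Store := (.node 24715 argWS_2189 argWS_2204)

def argWS_2206 : Store := (.node 24906 (.node 24900 (.node 24897 (.node 24896 (.leaf 0x0) (.leaf 0xb0001)) (.node 24898 (.leaf 0x0) (.node 24899 (.leaf 0xf0a0a0003) (.leaf 0x0)))) (.node 24903 (.node 24901 (.leaf 0x0) (.node 24902 (.leaf 0x10200020804000202000701000c) (.leaf 0x0))) (.node 24904 (.leaf 0xf0b0002) (.node 24905 (.leaf 0x0) (.leaf 0x40004090000090007))))) (.node 24911 (.node 24908 (.node 24907 (.leaf 0x0) (.leaf 0xd0b0b0003)) (.node 24909 (.leaf 0x0) (.node 24910 (.leaf 0x614c) (.leaf 0xf0b0b0a0a0005)))) (.node 24914 (.node 24912 (.leaf 0x0) (.node 24913 (.leaf 0x8070306000703040103000a) (.leaf 0x0))) (.node 24915 (.leaf 0xb0a0f0003) (.node 24916 (.leaf 0xa0f0b0b0004) (.leaf 0xb0b0a0003))))))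

def argWS_2207 : Store := (.node 24928 (.node 24922 (.node 24919 (.node 24918 (.leaf 0x6154005819) (.leaf 0x8020003010102000202000701000d)) (.node 24920 (.leaf 0x0) (.node 24921 (.leaf 0xa0f0002) (.leaf 0x0)))) (.node 24925 (.node 24923 (.leaf 0x50309000009000703040103000d) (.node 24924 (.leaf 0x0) (.leaf 0xd0b0002))) (.node 24926 (.leaf 0x70000020901060802040105000c) (.node 24927 (.leaf 0x0) (.leaf 0xb0a0002))))) (.node 24934 (.node 24931 (.node 24929 (.leaf 0x0) (.node 24930 (.leaf 0xb0b0a0003) (.leaf 0x6161006160))) (.node 24932 (.leaf 0x102010606000703040103000b) (.node 24933 (.leaf 0x0) (.leaf 0xf0b0a0a0004)))) (.node 24937 (.node 24935 (.leaf 0x0) (.node 24936 (.leaf 0x20401020106060007) (.leaf 0x0))) (.node 24938 (.leaf 0xe0a0a0003) (.node 24939 (.leaf 0x80101020901060802040105000c) (.leaf 0x0))))))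

def argWS_2208 : Store := (.node 24917 argWS_2206 argWS_2207)

def argWS_2209 : Store := (.node 24951 (.node 24945 (.node 24942 (.node 24941 (.leaf 0xb0b0a0003) (.leaf 0x0)) (.node 24943 (.leaf 0x705020202010202000701000c) (.node 24944 (.leaf 0x0) (.leaf 0xb0001)))) (.node 24948 (.node 24946 (.leaf 0x0) (.node 24947 (.leaf 0xb0f0a0003) (.leaf 0x6172006171))) (.node 24949 (.leaf 0xb0b0a0a0004) (.node 24950 (.leaf 0x0) (.leaf 0x70402020900000802040105000c))))) (.node 24956 (.node 24953 (.node 24952 (.leaf 0x0) (.leaf 0xb0f0a0003)) (.node 24954 (.leaf 0xb0f0002) (.node 24955 (.leaf 0x2000007000902000701000a) (.leaf 0x0)))) (.node 24959 (.node 24957 (.leaf 0xf0001) (.node 24958 (.leaf 0x0) (.leaf 0x617d))) (.node 24960 (.leaf 0xa0f0b0b0004) (.node 24961 (.leaf 0x0) (.leaf 0xb0a0f0003))))))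

def argWS_2210 : Store := (.node 24973 (.node 24967 (.node 24964 (.node 24963 (.leaf 0x0) (.leaf 0x0)) (.node 24965 (.leaf 0x4000000030000000703040103000d) (.node 24966 (.leaf 0x0) (.leaf 0xb0b0a0003)))) (.node 24970 (.node 24968 (.leaf 0x0) (.node 24969 (.leaf 0xf0b0a0a0004) (.leaf 0x0))) (.node 24971 (.leaf 0x6050105020202010802040105000d) (.node 24972 (.leaf 0x0) (.leaf 0xa0001))))) (.node 24979 (.node 24976 (.node 24974 (.leaf 0x0) (.node 24975 (.leaf 0x618d006189) (.leaf 0xd0001))) (.node 24977 (.leaf 0x0) (.node 24978 (.leaf 0x5030506030500040802040105000d) (.leaf 0x0)))) (.node 24982 (.node 24980 (.leaf 0xb0f0a0a0004) (.node 24981 (.leaf 0x1020206010500020802040105000d) (.leaf 0x0))) (.node 24983 (.leaf 0xe0001) (.node 24984 (.leaf 0x0) (.leaf 0x400050206040202000701000b))))))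

def argWS_2211 : Store := (.node 24962 argWS_2209 argWS_2210)

def argWS_2212 : Store := (.node 24940 argWS_2208 argWS_2211)

def argWS_2213 : Store := (.node 24996 (.node 24990 (.node 24987 (.node 24986 (.leaf 0x0) (.leaf 0xd0b0b0003)) (.node 24988 (.leaf 0x0) (.node 24989 (.leaf 0x619b) (.leaf 0xf0b0a0a0004)))) (.node 24993 (.node 24991 (.leaf 0x0) (.node 24992 (.leaf 0xa0001) (.leaf 0x0))) (.node 24994 (.leaf 0x0) (.node 24995 (.leaf 0xf0001) (.leaf 0xa0f0b0003))))) (.node 25001 (.node 24998 (.node 24997 (.leaf 0xd0b0b0003) (.leaf 0x61a40061a3)) (.node 24999 (.leaf 0xa0001) (.node 25000 (.leaf 0x0) (.leaf 0xf0001)))) (.node 25004 (.node 25002 (.leaf 0x0) (.node 25003 (.leaf 0x0) (.leaf 0xf0a0a0003))) (.node 25005 (.leaf 0xf0b0a0003) (.node 25006 (.leaf 0x702070206000202000701000b) (.leaf 0x0))))))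

def argWS_2214 : Store := (.node 25018 (.node 25012 (.node 25009 (.node 25008 (.leaf 0xe0001) (.leaf 0x0)) (.node 25010 (.leaf 0x61b00061ac) (.node 25011 (.leaf 0x202020400050202000701000b) (.leaf 0x0)))) (.node 25015 (.node 25013 (.leaf 0xf0b0b0003) (.node 25014 (.leaf 0x0) (.leaf 0x1040007030401030008))) (.node 25016 (.leaf 0x0) (.node 25017 (.leaf 0xd0b0002) (.leaf 0xa0a0002))))) (.node 25024 (.node 25021 (.node 25019 (.leaf 0x903000408010202000701000b) (.node 25020 (.leaf 0x0) (.leaf 0xb0f0a0003))) (.node 25022 (.leaf 0x0) (.node 25023 (.leaf 0xd0b0b0003) (.leaf 0x61be0061bd)))) (.node 25027 (.node 25025 (.leaf 0x30006010500020202000701000c) (.node 25026 (.leaf 0x0) (.leaf 0xe0a0a0003))) (.node 25028 (.leaf 0x0) (.node 25029 (.leaf 0xf0a0a0003) (.leaf 0x0))))))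

def argWS_2215 : Store := (.node 25007 argWS_2213 argWS_2214)

def argWS_2216 : Store := (.node 25041 (.node 25035 (.node 25032 (.node 25031 (.leaf 0x0) (.leaf 0xf0b0002)) (.node 25033 (.leaf 0xa0f0b0b0004) (.node 25034 (.leaf 0xb0b0002) (.leaf 0x61c90061c8)))) (.node 25038 (.node 25036 (.leaf 0xb0b0002) (.node 25037 (.leaf 0x0) (.leaf 0xb0f0a0a0004))) (.node 25039 (.leaf 0x0) (.node 25040 (.leaf 0x0) (.leaf 0x20002020901060202000701000c))))) (.node 25046 (.node 25043 (.node 25042 (.leaf 0x0) (.leaf 0xf0001)) (.node 25044 (.leaf 0x0) (.node 25045 (.leaf 0x209000902020007010009) (.leaf 0x0)))) (.node 25049 (.node 25047 (.leaf 0x0) (.node 25048 (.leaf 0x61d6000963) (.leaf 0xe0001))) (.node 25050 (.leaf 0x0) (.node 25051 (.leaf 0x2040300090206020202000701000d) (.leaf 0x0))))))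

def argWS_2217 : Store := (.node 25063 (.node 25057 (.node 25054 (.node 25053 (.leaf 0x4030900090005) (.leaf 0x0)) (.node 25055 (.leaf 0xf0a0a0003) (.node 25056 (.leaf 0x0) (.leaf 0x20207020902000703040103000c)))) (.node 25060 (.node 25058 (.leaf 0x0) (.node 25059 (.leaf 0xe0001) (.leaf 0x0))) (.node 25061 (.leaf 0x304020703000703040103000b) (.node 25062 (.leaf 0x0) (.leaf 0xf0b0a0a0004))))) (.node 25069 (.node 25066 (.node 25064 (.leaf 0x0) (.node 25065 (.leaf 0x61e70061e3) (.leaf 0xd0001))) (.node 25067 (.leaf 0x0) (.node 25068 (.leaf 0x10202050206040202000701000c) (.leaf 0x0)))) (.node 25072 (.node 25070 (.leaf 0xd0001) (.node 25071 (.leaf 0x8000206040802040105000a) (.leaf 0x0))) (.node 25073 (.leaf 0xb0a0a0003) (.node 25074 (.leaf 0x0) (.leaf 0x10502010908050202000701000c))))))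

def argWS_2218 : Store := (.node 25052 argWS_2216 argWS_2217)

def argWS_2219 : Store := (.node 25030 argWS_2215 argWS_2218)

def argWS_2220 : Store := (.node 24985 argWS_2212 argWS_2219)

def argWS_2221 : Store := (.node 25086 (.node 25080 (.node 25077 (.node 25076 (.leaf 0x0) (.leaf 0xa0a0002)) (.node 25078 (.leaf 0x0) (.node 25079 (.leaf 0x61f5) (.leaf 0xd0b0b0003)))) (.node 25083 (.node 25081 (.leaf 0x0) (.node 25082 (.leaf 0xf0b0a0a0004) (.leaf 0x0))) (.node 25084 (.leaf 0x0) (.node 25085 (.leaf 0xe0a0a0003) (.leaf 0x502090806000006))))) (.node 25091 (.node 25088 (.node 25087 (.leaf 0x0) (.leaf 0xe0a0002)) (.node 25089 (.leaf 0x0) (.node 25090 (.leaf 0x6200) (.leaf 0xa0f0b0003)))) (.node 25094 (.node 25092 (.leaf 0x0) (.node 25093 (.leaf 0x2000902020007010008) (.leaf 0x0))) (.node 25095 (.leaf 0xf0001) (.node 25096 (.leaf 0x403000900090202000701000b) (.leaf 0x0))))))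

def argWS_2222 : Store := (.node 25108 (.node 25102 (.node 25099 (.node 25098 (.leaf 0xd0001) (.leaf 0x0)) (.node 25100 (.leaf 0x103010102000202000701000b) (.node 25101 (.leaf 0x0) (.leaf 0xe0a0a0003)))) (.node 25105 (.node 25103 (.leaf 0x0) (.node 25104 (.leaf 0x620e00620a) (.leaf 0xf0b0b0003))) (.node 25106 (.leaf 0x0) (.node 25107 (.leaf 0xb0001) (.leaf 0x0))))) (.node 25114 (.node 25111 (.node 25109 (.leaf 0x0) (.node 25110 (.leaf 0x600020804000202000701000b) (.leaf 0x0))) (.node 25112 (.leaf 0xb0b0a0a0004) (.node 25113 (.leaf 0x0) (.leaf 0x14fd)))) (.node 25117 (.node 25115 (.leaf 0xa0a0002) (.node 25116 (.leaf 0x0) (.leaf 0x30401050202020703040103000c))) (.node 25118 (.leaf 0x0) (.node 25119 (.leaf 0x2020206020007010008) (.leaf 0x0))))))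

def argWS_2223 : Store := (.node 25097 argWS_2221 argWS_2222)

def argWS_2224 : Store := (.node 25131 (.node 25125 (.node 25122 (.node 25121 (.leaf 0xb0a0002) (.leaf 0x0)) (.node 25123 (.leaf 0x3050206040005) (.node 25124 (.leaf 0x0) (.leaf 0xd0b0002)))) (.node 25128 (.node 25126 (.leaf 0x0) (.node 25127 (.leaf 0x6225) (.leaf 0x30908050004))) (.node 25129 (.leaf 0x0) (.node 25130 (.leaf 0xd0b0002) (.leaf 0x0))))) (.node 25136 (.node 25133 (.node 25132 (.leaf 0xb0a0f0003) (.leaf 0x0)) (.node 25134 (.leaf 0x0) (.node 25135 (.leaf 0x200020900090202000701000b) (.leaf 0x0)))) (.node 25139 (.node 25137 (.leaf 0x0) (.node 25138 (.leaf 0xd0001) (.leaf 0x2020007020902000703040103000d))) (.node 25140 (.leaf 0x0) (.node 25141 (.leaf 0xd0b0002) (.leaf 0x0))))))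

def argWS_2225 : Store := (.node 25153 (.node 25147 (.node 25144 (.node 25143 (.leaf 0x6235006231) (.leaf 0x201050206040802040105000b)) (.node 25145 (.leaf 0x0) (.node 25146 (.leaf 0xd0b0b0003) (.leaf 0x0)))) (.node 25150 (.node 25148 (.leaf 0xa0001) (.node 25149 (.leaf 0x0) (.leaf 0x0))) (.node 25151 (.leaf 0x202070009030802040105000b) (.node 25152 (.leaf 0x0) (.leaf 0xa0001))))) (.node 25159 (.node 25156 (.node 25154 (.leaf 0x0) (.node 25155 (.leaf 0x6086) (.leaf 0x5020003010102000202000701000d))) (.node 25157 (.leaf 0x0) (.node 25158 (.leaf 0xa0a0002) (.leaf 0x0)))) (.node 25162 (.node 25160 (.leaf 0xb0a0a0003) (.node 25161 (.leaf 0x0) (.leaf 0x0))) (.node 25163 (.leaf 0xd0b0002) (.node 25164 (.leaf 0x5020000090206020008) (.leaf 0x0))))))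

def argWS_2226 : Store := (.node 25142 argWS_2224 argWS_2225)

def argWS_2227 : Store := (.node 25120 argWS_2223 argWS_2226)

def argWS_2228 : Store := (.node 25176 (.node 25170 (.node 25167 (.node 25166 (.leaf 0xb0f0a0a0004) (.leaf 0x0)) (.node 25168 (.leaf 0x624e) (.node 25169 (.leaf 0xb0b0002) (.leaf 0x0)))) (.node 25173 (.node 25171 (.leaf 0xb0f0a0003) (.node 25172 (.leaf 0x0) (.leaf 0x0))) (.node 25174 (.leaf 0x2070207030005) (.node 25175 (.leaf 0x0) (.leaf 0xd0b0002))))) (.node 25181 (.node 25178 (.node 25177 (.leaf 0x0) (.leaf 0xd0b0002)) (.node 25179 (.leaf 0x404090009000703040103000b) (.node 25180 (.leaf 0x0) (.leaf 0xb0b0a0a0004)))) (.node 25184 (.node 25182 (.leaf 0x0) (.node 25183 (.leaf 0x625d006259) (.leaf 0xb0f0002))) (.node 25185 (.leaf 0x0) (.node 25186 (.leaf 0xe0a0002) (.leaf 0x0))))))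

def argWS_2229 : Store := (.node 25198 (.node 25192 (.node 25189 (.node 25188 (.leaf 0x0) (.leaf 0xb0b0a0a0004)) (.node 25190 (.leaf 0x301070306000703040103000c) (.node 25191 (.leaf 0x0) (.leaf 0xf0a0002)))) (.node 25195 (.node 25193 (.leaf 0x0) (.node 25194 (.leaf 0x90104010904020802040105000c) (.leaf 0x0))) (.node 25196 (.leaf 0xa0f0b0003) (.node 25197 (.leaf 0x0) (.leaf 0x626c006268))))) (.node 25204 (.node 25201 (.node 25199 (.leaf 0xa0f0b0b0004) (.node 25200 (.leaf 0x0) (.leaf 0xf0b0b0003))) (.node 25202 (.leaf 0x0) (.node 25203 (.leaf 0x0) (.leaf 0x90700020106060202000701000c)))) (.node 25207 (.node 25205 (.leaf 0x0) (.node 25206 (.leaf 0xf0b0b0a0004) (.leaf 0x0))) (.node 25208 (.leaf 0xf0a0002) (.node 25209 (.leaf 0x6277) (.leaf 0xb0b0a0a0004))))))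

def argWS_2230 : Store := (.node 25187 argWS_2228 argWS_2229)

def argWS_2231 : Store := (.node 25221 (.node 25215 (.node 25212 (.node 25211 (.leaf 0x0) (.leaf 0x300090000090202000701000b)) (.node 25213 (.leaf 0x0) (.node 25214 (.leaf 0xf0001) (.leaf 0x60400020000030703040103000c)))) (.node 25218 (.node 25216 (.leaf 0x0) (.node 25217 (.leaf 0xd0b0b0003) (.leaf 0x0))) (.node 25219 (.leaf 0x3050901090005) (.node 25220 (.leaf 0x0) (.leaf 0xb0a0a0003))))) (.node 25227 (.node 25224 (.node 25222 (.leaf 0x0) (.node 25223 (.leaf 0x6285001460) (.leaf 0xf0a0a0003))) (.node 25225 (.leaf 0x0) (.node 25226 (.leaf 0x10109000009000703040103000c) (.leaf 0x0)))) (.node 25230 (.node 25228 (.leaf 0xb0f0002) (.node 25229 (.leaf 0xf0a0a0003) (.leaf 0xf0b0a0a0004))) (.node 25231 (.leaf 0x628d) (.node 25232 (.leaf 0xe0a0002) (.leaf 0x0))))))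

def argWS_2232 : Store := (.node 25244 (.node 25238 (.node 25235 (.node 25234 (.leaf 0xf0a0002) (.leaf 0x0)) (.node 25236 (.leaf 0x0) (.node 25237 (.leaf 0x9050206040005) (.leaf 0x0)))) (.node 25241 (.node 25239 (.leaf 0xa0f0b0b0004) (.node 25240 (.leaf 0x0) (.leaf 0xb0a0f0003))) (.node 25242 (.leaf 0x3010904020202000701000a) (.node 25243 (.leaf 0x0) (.leaf 0xb0b0a0a0004))))) (.node 25250 (.node 25247 (.node 25245 (.leaf 0x0) (.node 25246 (.leaf 0x629c006298) (.leaf 0x4000007030401030008))) (.node 25248 (.leaf 0x0) (.node 25249 (.leaf 0xd0001) (.leaf 0x0)))) (.node 25253 (.node 25251 (.leaf 0x0) (.node 25252 (.leaf 0xa0001) (.leaf 0xd0b0002))) (.node 25254 (.leaf 0x416d) (.node 25255 (.leaf 0xd0b0b0003) (.leaf 0x0))))))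

def argWS_2233 : Store := (.node 25233 argWS_2231 argWS_2232)

def argWS_2234 : Store := (.node 25210 argWS_2230 argWS_2233)

def argWS_2235 : Store := (.node 25165 argWS_2227 argWS_2234)

def argWS_2236 : Store := (.node 25075 argWS_2220 argWS_2235)

def argWS_2237 : Store := (.node 24895 argWS_2205 argWS_2236)

def argWS_2238 : Store := (.node 25267 (.node 25261 (.node 25258 (.node 25257 (.leaf 0xb0f0002) (.leaf 0x0)) (.node 25259 (.leaf 0x0) (.node 25260 (.leaf 0x0) (.leaf 0x502000901090202000701000b)))) (.node 25264 (.node 25262 (.leaf 0x0) (.node 25263 (.leaf 0xf0b0a0a0004) (.leaf 0x0))) (.node 25265 (.leaf 0x62af) (.node 25266 (.leaf 0x70206000006) (.leaf 0x0))))) (.node 25272 (.node 25269 (.node 25268 (.leaf 0xe0001) (.leaf 0x0)) (.node 25270 (.leaf 0x2070206020007010008) (.node 25271 (.leaf 0x0) (.leaf 0xf0b0a0a0004)))) (.node 25275 (.node 25273 (.leaf 0x70506030500040202000701000c) (.node 25274 (.leaf 0x0) (.leaf 0x0))) (.node 25276 (.leaf 0xa0f0b0b0004)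 (.node 25277 (.leaf 0xe0a0a0003) (.leaf 0x62bc0062bb))))))

def argWS_2239 : Store := (.node 25289 (.node 25283 (.node 25280 (.node 25279 (.leaf 0x2010306030500040008) (.leaf 0x0)) (.node 25281 (.leaf 0xb0b0a0003) (.node 25282 (.leaf 0x0) (.leaf 0x9070306000703040103000a)))) (.node 25286 (.node 25284 (.leaf 0x0) (.node 25285 (.leaf 0xa0a0002) (.leaf 0x20102000004))) (.node 25287 (.leaf 0x0) (.node 25288 (.leaf 0xe0a0002) (.leaf 0x0))))) (.node 25295 (.node 25292 (.node 25290 (.leaf 0xb0f0002) (.node 25291 (.leaf 0xb0a0002) (.leaf 0x62ca0062c9))) (.node 25293 (.leaf 0x903090402000703040103000b) (.node 25294 (.leaf 0x0) (.leaf 0xb0a0a0003)))) (.node 25298 (.node 25296 (.leaf 0x0) (.node 25297 (.leaf 0x60500090206020802040105000c) (.leaf 0x0))) (.node 25299 (.leaf 0xb0a0002) (.node 25300 (.leaf 0xf0001) (.leaf 0xa0a0002))))))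

def argWS_2240 : Store := (.node 25278 argWS_2238 argWS_2239)

def argWS_2241 : Store := (.node 25312 (.node 25306 (.node 25303 (.node 25302 (.leaf 0xa0f0002) (.leaf 0x62d50062d4)) (.node 25304 (.leaf 0x60102090806000802040105000c) (.node 25305 (.leaf 0x0) (.leaf 0xd0b0002)))) (.node 25309 (.node 25307 (.leaf 0x0) (.node 25308 (.leaf 0x804000007030401030009) (.leaf 0x0))) (.node 25310 (.leaf 0xf0a0002) (.node 25311 (.leaf 0xe0d0002) (.leaf 0x701010900090802040105000b))))) (.node 25317 (.node 25314 (.node 25313 (.leaf 0x0) (.leaf 0xb0a0a0003)) (.node 25315 (.leaf 0x0) (.node 25316 (.leaf 0x62e2) (.leaf 0x0)))) (.node 25320 (.node 25318 (.leaf 0xb0a0f0003) (.node 25319 (.leaf 0x0) (.leaf 0xf0b0b0003))) (.node 25321 (.leaf 0x0) (.node 25322 (.leaf 0x0) (.leaf 0x6020002010606000703040103000d))))))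

def argWS_2242 : Store := (.node 25334 (.node 25328 (.node 25325 (.node 25324 (.leaf 0x0) (.leaf 0xa0f0b0003)) (.node 25326 (.leaf 0x0) (.node 25327 (.leaf 0xb0b0a0003) (.leaf 0x62ee)))) (.node 25331 (.node 25329 (.leaf 0x8050002020900000008) (.node 25330 (.leaf 0x0) (.leaf 0xf0b0b0a0004))) (.node 25332 (.leaf 0x0) (.node 25333 (.leaf 0xd0b0002) (.leaf 0x0))))) (.node 25340 (.node 25337 (.node 25335 (.leaf 0x0) (.node 25336 (.leaf 0x6000009020602000703040103000e) (.leaf 0x0))) (.node 25338 (.leaf 0xb0b0002) (.node 25339 (.leaf 0x0) (.leaf 0xb0a0002)))) (.node 25343 (.node 25341 (.leaf 0x3c130062fb) (.node 25342 (.leaf 0xd0001) (.leaf 0x0))) (.node 25344 (.leaf 0x50305020901060007) (.node 25345 (.leaf 0x0) (.leaf 0xb0b0a0003))))))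

def argWS_2243 : Store := (.node 25323 argWS_2241 argWS_2242)

def argWS_2244 : Store := (.node 25301 argWS_2240 argWS_2243)

def argWS_2245 : Store := (.node 25357 (.node 25351 (.node 25348 (.node 25347 (.leaf 0x50201010908050007) (.leaf 0x0)) (.node 25349 (.leaf 0xf0b0b0a0004) (.node 25350 (.leaf 0x0) (.leaf 0xf0b0002)))) (.node 25354 (.node 25352 (.leaf 0x6306) (.node 25353 (.leaf 0x6010201090806000802040105000d) (.leaf 0x0))) (.node 25355 (.leaf 0xa0f0002) (.node 25356 (.leaf 0x0) (.leaf 0x20000030703040103000a))))) (.node 25362 (.node 25359 (.node 25358 (.leaf 0x0) (.leaf 0xe0a0a0003)) (.node 25360 (.leaf 0xb0a0002) (.node 25361 (.leaf 0x80101010703060007) (.leaf 0x0)))) (.node 25365 (.node 25363 (.leaf 0xe0d0002) (.node 25364 (.leaf 0x0) (.leaf 0x6313))) (.node 25366 (.leaf 0x70209000009000703040103000c) (.node 25367 (.leaf 0x0) (.leaf 0xa0a0002))))))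

def argWS_2246 : Store := (.node 25379 (.node 25373 (.node 25370 (.node 25369 (.leaf 0x0) (.leaf 0x0)) (.node 25371 (.leaf 0xb0a0f0003) (.node 25372 (.leaf 0xf0b0a0003) (.leaf 0xb0b0a0003)))) (.node 25376 (.node 25374 (.leaf 0x631c00631b) (.node 25375 (.leaf 0x60102010703060007) (.leaf 0x0))) (.node 25377 (.leaf 0xa0a0002) (.node 25378 (.leaf 0x0) (.leaf 0xb0b0002))))) (.node 25385 (.node 25382 (.node 25380 (.leaf 0x0) (.node 25381 (.leaf 0x0) (.leaf 0xb0f0a0a0004))) (.node 25383 (.leaf 0x50000020603000703040103000c) (.node 25384 (.leaf 0x0) (.leaf 0xb0b0002)))) (.node 25388 (.node 25386 (.leaf 0x0) (.node 25387 (.leaf 0xb0a0f0003) (.leaf 0x632a006329))) (.node 25389 (.leaf 0x3050206040202000701000a) (.node 25390 (.leaf 0x0) (.leaf 0xe0d0002))))))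

def argWS_2247 : Store := (.node 25368 argWS_2245 argWS_2246)

def argWS_2248 : Store := (.node 25402 (.node 25396 (.node 25393 (.node 25392 (.leaf 0x0) (.leaf 0x702010606000703040103000b)) (.node 25394 (.leaf 0x0) (.node 25395 (.leaf 0xe0a0a0003) (.leaf 0x9030308000703040103000a)))) (.node 25399 (.node 25397 (.leaf 0x0) (.node 25398 (.leaf 0xb0b0002) (.leaf 0x0))) (.node 25400 (.leaf 0xf0b0b0003) (.node 25401 (.leaf 0x6337) (.leaf 0xa0f0002))))) (.node 25407 (.node 25404 (.node 25403 (.leaf 0x0) (.leaf 0x202020106060006)) (.node 25405 (.leaf 0x0) (.node 25406 (.leaf 0xb0f0a0003) (.leaf 0xa0f0b0b0004)))) (.node 25410 (.node 25408 (.leaf 0xb0b0a0003) (.node 25409 (.leaf 0x10705020202010202000701000c) (.leaf 0x0))) (.node 25411 (.leaf 0x0) (.node 25412 (.leaf 0x6010202080400000703040103000d) (.leaf 0x0))))))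

def argWS_2249 : Store := (.node 25424 (.node 25418 (.node 25415 (.node 25414 (.leaf 0xe0a0002) (.leaf 0x0)) (.node 25416 (.leaf 0x6346006342) (.node 25417 (.leaf 0xa0f0b0003) (.leaf 0x0)))) (.node 25421 (.node 25419 (.leaf 0x304030901090202000701000b) (.node 25420 (.leaf 0x0) (.leaf 0xb0f0a0003))) (.node 25422 (.leaf 0x50200020603000703040103000c) (.node 25423 (.leaf 0x0) (.leaf 0xb0a0002))))) (.node 25430 (.node 25427 (.node 25425 (.leaf 0x0) (.node 25426 (.leaf 0x20403010908050007) (.leaf 0x0))) (.node 25428 (.leaf 0xb0f0a0a0004) (.node 25429 (.leaf 0x0) (.leaf 0x6354)))) (.node 25433 (.node 25431 (.leaf 0x207020108020401050009) (.node 25432 (.leaf 0x0) (.leaf 0xf0b0b0003))) (.node 25434 (.leaf 0x0) (.node 25435 (.leaf 0x1090307020600000703040103000d) (.leaf 0x0))))))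

def argWS_2250 : Store := (.node 25413 argWS_2248 argWS_2249)

def argWS_2251 : Store := (.node 25391 argWS_2247 argWS_2250)

def argWS_2252 : Store := (.node 25346 argWS_2244 argWS_2251)

def argWS_2253 : Store := (.node 25447 (.node 25441 (.node 25438 (.node 25437 (.leaf 0xf0b0b0a0004) (.leaf 0xb0a0002)) (.node 25439 (.leaf 0xf0a0002) (.node 25440 (.leaf 0xb0b0a0003) (.leaf 0x635f00635e)))) (.node 25444 (.node 25442 (.leaf 0x2050202020007010008) (.node 25443 (.leaf 0x0) (.leaf 0xb0f0a0a0004))) (.node 25445 (.leaf 0x0) (.node 25446 (.leaf 0x0) (.leaf 0xe0d0002))))) (.node 25452 (.node 25449 (.node 25448 (.leaf 0xf0b0002) (.leaf 0x6367003b23)) (.node 25450 (.leaf 0x0) (.node 25451 (.leaf 0xd0001) (.leaf 0x0)))) (.node 25455 (.node 25453 (.leaf 0x202020009020602000703040103000e) (.node 25454 (.leaf 0x0) (.leaf 0xe0d0002))) (.node 25456 (.leaf 0x60500020804000802040105000c) (.node 25457 (.leaf 0x0) (.leaf 0xf0a0a0003))))))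

def argWS_2254 : Store := (.node 25469 (.node 25463 (.node 25460 (.node 25459 (.leaf 0x0) (.leaf 0xb0001)) (.node 25461 (.leaf 0x6373006372) (.node 25462 (.leaf 0xe0a0a0003) (.leaf 0x0)))) (.node 25466 (.node 25464 (.leaf 0x502000401050006) (.node 25465 (.leaf 0x0) (.leaf 0xb0b0002))) (.node 25467 (.leaf 0x209030900090006) (.node 25468 (.leaf 0x0) (.leaf 0xb0a0f0003))))) (.node 25475 (.node 25472 (.node 25470 (.leaf 0x0) (.node 25471 (.leaf 0x202010908050006) (.leaf 0x0))) (.node 25473 (.leaf 0xf0b0a0a0004) (.node 25474 (.leaf 0x0) (.leaf 0x20601050206040802040105000c)))) (.node 25478 (.node 25476 (.leaf 0x0) (.node 25477 (.leaf 0xa0a0002) (.leaf 0x0))) (.node 25479 (.leaf 0x6385006381) (.node 25480 (.leaf 0xb0001) (.leaf 0x0))))))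

def argWS_2255 : Store := (.node 25458 argWS_2253 argWS_2254)

def argWS_2256 : Store := (.node 25492 (.node 25486 (.node 25483 (.node 25482 (.leaf 0xb0f0002) (.leaf 0x0)) (.node 25484 (.leaf 0x0) (.node 25485 (.leaf 0xf0a0002) (.leaf 0x20703060005)))) (.node 25489 (.node 25487 (.leaf 0x0) (.node 25488 (.leaf 0xb0f0a0a0004) (.leaf 0x0))) (.node 25490 (.leaf 0x5020108020401050008) (.node 25491 (.leaf 0x0) (.leaf 0xb0a0f0003))))) (.node 25497 (.node 25494 (.node 25493 (.leaf 0x0) (.leaf 0x6394006390)) (.node 25495 (.leaf 0x4070206000802040105000b) (.node 25496 (.leaf 0x0) (.leaf 0xb0001)))) (.node 25500 (.node 25498 (.leaf 0x0) (.node 25499 (.leaf 0xb0b0002) (.leaf 0x0))) (.node 25501 (.leaf 0x0) (.node 25502 (.leaf 0x500040003) (.leaf 0x0))))))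

def argWS_2257 : Store := (.node 25514 (.node 25508 (.node 25505 (.node 25504 (.leaf 0xd0001) (.leaf 0x0)) (.node 25506 (.leaf 0x8050002000003010802040105000d) (.node 25507 (.leaf 0x0) (.leaf 0xf0b0a0a0004)))) (.node 25511 (.node 25509 (.leaf 0x0) (.node 25510 (.leaf 0x30700090206020202000701000c) (.leaf 0x0))) (.node 25512 (.leaf 0xf0b0b0a0a0005) (.node 25513 (.leaf 0x0) (.leaf 0x63a80063a4))))) (.node 25520 (.node 25517 (.node 25515 (.leaf 0x60601070206000007) (.node 25516 (.leaf 0x0) (.leaf 0xf0b0a0003))) (.node 25518 (.leaf 0x0) (.node 25519 (.leaf 0x60102010601050002000703040103000f) (.leaf 0x0)))) (.node 25523 (.node 25521 (.leaf 0xa0f0b0003) (.node 25522 (.leaf 0x103070206000202000701000b) (.leaf 0x0))) (.node 25524 (.leaf 0xf0a0a0003) (.node 25525 (.leaf 0x0) (.leaf 0x102010207030802040105000b))))))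

def argWS_2258 : Store := (.node 25503 argWS_2256 argWS_2257)

def argWS_2259 : Store := (.node 25481 argWS_2255 argWS_2258)

def argWS_2260 : Store := (.node 25537 (.node 25531 (.node 25528 (.node 25527 (.leaf 0x0) (.leaf 0xb0a0002)) (.node 25529 (.leaf 0x0) (.node 25530 (.leaf 0x40006010500020008) (.leaf 0x0)))) (.node 25534 (.node 25532 (.leaf 0xa0f0002) (.node 25533 (.leaf 0x0) (.leaf 0x63bc0063b8))) (.node 25535 (.leaf 0xb0b0a0003) (.node 25536 (.leaf 0x0) (.leaf 0x0))))) (.node 25542 (.node 25539 (.node 25538 (.leaf 0xb0b0a0a0004) (.leaf 0x207010908050202000701000b)) (.node 25540 (.leaf 0x0) (.node 25541 (.leaf 0xf0b0002) (.leaf 0x0)))) (.node 25545 (.node 25543 (.leaf 0x9000901090802040105000b) (.node 25544 (.leaf 0x0) (.leaf 0xa0f0002))) (.node 25546 (.leaf 0x0) (.node 25547 (.leaf 0x63c90063c5) (.leaf 0xb0a0a0003))))))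

def argWS_2261 : Store := (.node 25559 (.node 25553 (.node 25550 (.node 25549 (.leaf 0x0) (.leaf 0xe0a0a0003)) (.node 25551 (.leaf 0x0) (.node 25552 (.leaf 0x0) (.leaf 0x206000300000202000701000b)))) (.node 25556 (.node 25554 (.leaf 0x0) (.node 25555 (.leaf 0xd0b0b0003) (.leaf 0x0))) (.node 25557 (.leaf 0x60102010900090202000701000c) (.node 25558 (.leaf 0x0) (.leaf 0xb0f0a0a0004))))) (.node 25565 (.node 25562 (.node 25560 (.leaf 0x0) (.node 25561 (.leaf 0x63d7) (.leaf 0xf0001))) (.node 25563 (.leaf 0x0) (.node 25564 (.leaf 0xb0f0a0003) (.leaf 0x0)))) (.node 25568 (.node 25566 (.leaf 0x0) (.node 25567 (.leaf 0xe0d0002) (.leaf 0xb0b0002))) (.node 25569 (.leaf 0x204090206020202000701000b) (.node 25570 (.leaf 0x0) (.leaf 0xf0b0b0a0004))))))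

def argWS_2262 : Store := (.node 25548 argWS_2260 argWS_2261)

def argWS_2263 : Store := (.node 25582 (.node 25576 (.node 25573 (.node 25572 (.leaf 0x0) (.leaf 0x63e30063df)) (.node 25574 (.leaf 0xb0b0a0003) (.node 25575 (.leaf 0x0) (.leaf 0x101020603000703040103000b)))) (.node 25579 (.node 25577 (.leaf 0x0) (.node 25578 (.leaf 0xf0a0a0003) (.leaf 0x20904020202000701000a))) (.node 25580 (.leaf 0x0) (.node 25581 (.leaf 0xf0a0a0003) (.leaf 0x0))))) (.node 25588 (.node 25585 (.node 25583 (.leaf 0x20804000802040105000a) (.node 25584 (.leaf 0x0) (.leaf 0xd0b0b0003))) (.node 25586 (.leaf 0x0) (.node 25587 (.leaf 0xb0a0002) (.leaf 0x63f20063f1)))) (.node 25591 (.node 25589 (.leaf 0xf0001) (.node 25590 (.leaf 0x0) (.leaf 0xd0b0b0003))) (.node 25592 (.leaf 0x0) (.node 25593 (.leaf 0x0) (.leaf 0x5000008020401050008))))))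

def argWS_2264 : Store := (.node 25605 (.node 25599 (.node 25596 (.node 25595 (.leaf 0x0) (.leaf 0xa0001)) (.node 25597 (.leaf 0x0) (.node 25598 (.leaf 0xd0001) (.leaf 0x40005020604000703040103000d)))) (.node 25602 (.node 25600 (.leaf 0x0) (.node 25601 (.leaf 0xd0b0b0003) (.leaf 0x0))) (.node 25603 (.leaf 0x64010063fd) (.node 25604 (.leaf 0x6010500020802040105000a) (.leaf 0x0))))) (.node 25611 (.node 25608 (.node 25606 (.leaf 0xf0b0002) (.node 25607 (.leaf 0x0) (.leaf 0x1030901090802040105000a))) (.node 25609 (.leaf 0x0) (.node 25610 (.leaf 0xf0b0b0a0004) (.leaf 0xf0b0a0003)))) (.node 25614 (.node 25612 (.leaf 0xd0b0002) (.node 25613 (.leaf 0x37ae00640b) (.leaf 0xb0a0a0003))) (.node 25615 (.leaf 0x0) (.node 25616 (.leaf 0xf0b0b0a0a0005) (.leaf 0x0))))))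

def argWS_2265 : Store := (.node 25594 argWS_2263 argWS_2264)

def argWS_2266 : Store := (.node 25571 argWS_2262 argWS_2265)

def argWS_2267 : Store := (.node 25526 argWS_2259 argWS_2266)

def argWS_2268 : Store := (.node 25436 argWS_2252 argWS_2267)

def argWS_2269 : Store := (.node 25628 (.node 25622 (.node 25619 (.node 25618 (.leaf 0x0) (.leaf 0x2050206030802040105000a)) (.node 25620 (.leaf 0x0) (.node 25621 (.leaf 0xb0b0a0a0004) (.leaf 0x0)))) (.node 25625 (.node 25623 (.leaf 0x2060007030401030008) (.node 25624 (.leaf 0x0) (.leaf 0xf0b0a0a0004))) (.node 25626 (.leaf 0x0) (.node 25627 (.leaf 0x6419) (.leaf 0xf0001))))) (.node 25633 (.node 25630 (.node 25629 (.leaf 0x0) (.leaf 0xa0001)) (.node 25631 (.leaf 0x0) (.node 25632 (.leaf 0x0) (.leaf 0x70000070009030802040105000c)))) (.node 25636 (.node 25634 (.leaf 0x0) (.node 25635 (.leaf 0xa0f0b0003) (.leaf 0x0))) (.node 25637 (.leaf 0x102010400050006) (.node 25638 (.leaf 0x0) (.leaf 0xf0b0b0a0a0005))))))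

def argWS_2270 : Store := (.node 25650 (.node 25644 (.node 25641 (.node 25640 (.leaf 0x0) (.leaf 0x6427)) (.node 25642 (.leaf 0xa0f0b0b0004) (.node 25643 (.leaf 0x0) (.leaf 0xb0a0a0003)))) (.node 25647 (.node 25645 (.leaf 0x0) (.node 25646 (.leaf 0x0) (.leaf 0x502020703000703040103000b))) (.node 25648 (.leaf 0x0) (.node 25649 (.leaf 0xf0b0b0a0004) (.leaf 0x0))))) (.node 25656 (.node 25653 (.node 25651 (.leaf 0x306020702010007) (.node 25652 (.leaf 0x0) (.leaf 0xb0a0f0003))) (.node 25654 (.leaf 0x0) (.node 25655 (.leaf 0xa0001) (.leaf 0x6436006435)))) (.node 25659 (.node 25657 (.leaf 0xa0f0b0003) (.node 25658 (.leaf 0x0) (.leaf 0x40000090206020202000701000d))) (.node 25660 (.leaf 0x0) (.node 25661 (.leaf 0xe0a0002) (.leaf 0xf0a0002))))))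

def argWS_2271 : Store := (.node 25639 argWS_2269 argWS_2270)

def argWS_2272 : Store := (.node 25673 (.node 25667 (.node 25664 (.node 25663 (.leaf 0x56c1) (.leaf 0x908060002020007010009)) (.node 25665 (.leaf 0x0) (.node 25666 (.leaf 0xb0b0a0a0004) (.leaf 0x0)))) (.node 25670 (.node 25668 (.leaf 0xe0001) (.node 25669 (.leaf 0x0) (.leaf 0x0))) (.node 25671 (.leaf 0x60200070009030007) (.node 25672 (.leaf 0x0) (.leaf 0xb0f0002))))) (.node 25678 (.node 25675 (.node 25674 (.leaf 0x0) (.leaf 0xb0f0a0003)) (.node 25676 (.leaf 0x5b4100644a) (.node 25677 (.leaf 0x103010900090202000701000b) (.leaf 0x0)))) (.node 25681 (.node 25679 (.leaf 0xd0001) (.node 25680 (.leaf 0x0) (.leaf 0xb0001))) (.node 25682 (.leaf 0x0) (.node 25683 (.leaf 0x0) (.leaf 0x30401050206040202000701000c))))))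

def argWS_2273 : Store := (.node 25695 (.node 25689 (.node 25686 (.node 25685 (.leaf 0x0) (.leaf 0xa0a0002)) (.node 25687 (.leaf 0x0) (.node 25688 (.leaf 0xa0f0002) (.leaf 0xf0001)))) (.node 25692 (.node 25690 (.leaf 0x6458006457) (.node 25691 (.leaf 0xb0b0002) (.leaf 0x0))) (.node 25693 (.leaf 0x3070206000006) (.node 25694 (.leaf 0x0) (.leaf 0xe0a0002))))) (.node 25701 (.node 25698 (.node 25696 (.leaf 0x8050908050802040105000a) (.node 25697 (.leaf 0x0) (.leaf 0xa0f0002))) (.node 25699 (.leaf 0x0) (.node 25700 (.leaf 0x205020900090802040105000b) (.leaf 0x0)))) (.node 25704 (.node 25702 (.leaf 0xb0a0f0003) (.node 25703 (.leaf 0x0) (.leaf 0x6466))) (.node 25705 (.leaf 0xe0d0002) (.node 25706 (.leaf 0x0) (.leaf 0x10705020202010007))))))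

def argWS_2274 : Store := (.node 25684 argWS_2272 argWS_2273)

def argWS_2275 : Store := (.node 25662 argWS_2271 argWS_2274)

def argWS_2276 : Store := (.node 25718 (.node 25712 (.node 25709 (.node 25708 (.leaf 0x0) (.leaf 0xb0a0f0003)) (.node 25710 (.leaf 0x205010908050802040105000b) (.node 25711 (.leaf 0x0) (.leaf 0xe0d0002)))) (.node 25715 (.node 25713 (.leaf 0x0) (.node 25714 (.leaf 0x903000004080703040103000b) (.leaf 0x0))) (.node 25716 (.leaf 0xf0b0b0003) (.node 25717 (.leaf 0x0) (.leaf 0x6474))))) (.node 25723 (.node 25720 (.node 25719 (.leaf 0xa0a0002) (.leaf 0x0)) (.node 25721 (.leaf 0xe0a0a0003) (.node 25722 (.leaf 0x0) (.leaf 0x0)))) (.node 25726 (.node 25724 (.leaf 0xf0b0a0003) (.node 25725 (.leaf 0xb0f0a0003) (.leaf 0x647c002d76))) (.node 25727 (.leaf 0x20502070009030007) (.node 25728 (.leaf 0x0) (.leaf 0xd0b0002))))))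

def argWS_2277 : Store := (.node 25740 (.node 25734 (.node 25731 (.node 25730 (.leaf 0x0) (.leaf 0x40205090000090802040105000c)) (.node 25732 (.leaf 0x0) (.node 25733 (.leaf 0xa0f0b0b0004) (.leaf 0xb0f0a0a0004)))) (.node 25737 (.node 25735 (.leaf 0xb0b0a0a0004) (.node 25736 (.leaf 0x0) (.leaf 0x107000206020007010009))) (.node 25738 (.leaf 0x0) (.node 25739 (.leaf 0xb0a0a0003) (.leaf 0x0))))) (.node 25746 (.node 25743 (.node 25741 (.leaf 0x648b006487) (.node 25742 (.leaf 0xb0f0a0003) (.leaf 0x0))) (.node 25744 (.leaf 0xb0a0a0003) (.node 25745 (.leaf 0x0) (.leaf 0x0)))) (.node 25749 (.node 25747 (.leaf 0x50000070009030802040105000c) (.node 25748 (.leaf 0x0) (.leaf 0xf0001))) (.node 25750 (.leaf 0x0) (.node 25751 (.leaf 0xb0f0a0a0004) (.leaf 0x6496000a8f))))))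

def argWS_2278 : Store := (.node 25729 argWS_2276 argWS_2277)

def argWS_2279 : Store := (.node 25763 (.node 25757 (.node 25754 (.node 25753 (.leaf 0xd0b0b0003) (.leaf 0x0)) (.node 25755 (.leaf 0xf0b0b0a0a0005) (.node 25756 (.leaf 0x0) (.leaf 0x0)))) (.node 25760 (.node 25758 (.leaf 0xd0001) (.node 25759 (.leaf 0xf0b0a0a0004) (.leaf 0x649e))) (.node 25761 (.leaf 0x400020804000202000701000c) (.node 25762 (.leaf 0x0) (.leaf 0xa0f0b0b0004))))) (.node 25768 (.node 25765 (.node 25764 (.leaf 0x0) (.leaf 0xb0b0a0003)) (.node 25766 (.leaf 0x0) (.node 25767 (.leaf 0x0) (.leaf 0x4030402020900000802040105000d)))) (.node 25771 (.node 25769 (.leaf 0x0) (.node 25770 (.leaf 0xb0a0a0003) (.leaf 0x0))) (.node 25772 (.leaf 0xb0f0a0a0004) (.node 25773 (.leaf 0x304030900090006) (.leaf 0x0))))))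

def argWS_2280 : Store := (.node 25785 (.node 25779 (.node 25776 (.node 25775 (.leaf 0xf0b0b0a0004) (.leaf 0x0)) (.node 25777 (.leaf 0x64af0064ab) (.node 25778 (.leaf 0x304020900000202000701000b) (.leaf 0x0)))) (.node 25782 (.node 25780 (.leaf 0xa0001) (.node 25781 (.leaf 0x0) (.leaf 0x604090206020202000701000b))) (.node 25783 (.leaf 0x0) (.node 25784 (.leaf 0xb0001) (.leaf 0xf0b0b0a0004))))) (.node 25791 (.node 25788 (.node 25786 (.leaf 0x3000900090005) (.node 25787 (.leaf 0x0) (.leaf 0xd0b0002))) (.node 25789 (.leaf 0x0) (.node 25790 (.leaf 0x2070209020802040105000a) (.leaf 0x0)))) (.node 25794 (.node 25792 (.leaf 0xb0f0a0003) (.node 25793 (.leaf 0x0) (.leaf 0x64c00064bc))) (.node 25795 (.leaf 0x2090103010102000802040105000d) (.node 25796 (.leaf 0x0) (.leaf 0xd0b0b0003))))))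

def argWS_2281 : Store := (.node 25774 argWS_2279 argWS_2280)

def argWS_2282 : Store := (.node 25752 argWS_2278 argWS_2281)

def argWS_2283 : Store := (.node 25707 argWS_2275 argWS_2282)

def argWS_2284 : Store := (.node 25808 (.node 25802 (.node 25799 (.node 25798 (.leaf 0x0) (.leaf 0x604000002080400000703040103000e)) (.node 25800 (.leaf 0x0) (.node 25801 (.leaf 0xb0b0002) (.leaf 0xd0001)))) (.node 25805 (.node 25803 (.leaf 0x705020000030703040103000b) (.node 25804 (.leaf 0x0) (.leaf 0xb0a0f0003))) (.node 25806 (.leaf 0x0) (.node 25807 (.leaf 0x409080508020401050009) (.leaf 0x0))))) (.node 25813 (.node 25810 (.node 25809 (.leaf 0xa0001) (.leaf 0x0)) (.node 25811 (.leaf 0x64d10064cd) (.node 25812 (.leaf 0x70703060004) (.leaf 0x0)))) (.node 25816 (.node 25814 (.leaf 0xa0a0002) (.node 25815 (.leaf 0x0) (.leaf 0x10103010102000007))) (.node 25817 (.leaf 0x0) (.node 25818 (.leaf 0xb0f0002) (.leaf 0x900070009020007010009))))))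

def argWS_2285 : Store := (.node 25830 (.node 25824 (.node 25821 (.node 25820 (.leaf 0x0) (.leaf 0xa0f0002)) (.node 25822 (.leaf 0x0) (.node 25823 (.leaf 0xd0001) (.leaf 0x10106030500040007)))) (.node 25827 (.node 25825 (.leaf 0x0) (.node 25826 (.leaf 0xf0001) (.leaf 0x0))) (.node 25828 (.leaf 0x64e20064de) (.node 25829 (.leaf 0xa0f0b0003) (.leaf 0x0))))) (.node 25836 (.node 25833 (.node 25831 (.leaf 0x209020003) (.node 25832 (.leaf 0x0) (.leaf 0xa0f0002))) (.node 25834 (.leaf 0x30007020902000703040103000c) (.node 25835 (.leaf 0x0) (.leaf 0xf0a0002)))) (.node 25839 (.node 25837 (.leaf 0x0) (.node 25838 (.leaf 0x602000003010802040105000b) (.leaf 0x0))) (.node 25840 (.leaf 0xb0001) (.node 25841 (.leaf 0x0) (.leaf 0x64f0))))))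

def argWS_2286 : Store := (.node 25819 argWS_2284 argWS_2285)

def argWS_2287 : Store := (.node 25853 (.node 25847 (.node 25844 (.node 25843 (.leaf 0x90306040004) (.leaf 0x0)) (.node 25845 (.leaf 0xb0a0f0003) (.node 25846 (.leaf 0x0) (.leaf 0x7000006020702010202000701000d)))) (.node 25850 (.node 25848 (.leaf 0x0) (.node 25849 (.leaf 0xb0b0a0003) (.leaf 0x301070009030006))) (.node 25851 (.leaf 0x0) (.node 25852 (.leaf 0xd0b0b0003) (.leaf 0x0))))) (.node 25858 (.node 25855 (.node 25854 (.leaf 0xb0a0f0003) (.leaf 0x64fd0064fc)) (.node 25856 (.leaf 0xa0f0b0b0004) (.node 25857 (.leaf 0x0) (.leaf 0xe0a0a0003)))) (.node 25861 (.node 25859 (.leaf 0x0) (.node 25860 (.leaf 0x0) (.leaf 0xa0f0b0b0004))) (.node 25862 (.leaf 0x701010301010200000703040103000e) (.node 25863 (.leaf 0x0) (.leaf 0x0))))))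

def argWS_2288 : Store := (.node 25875 (.node 25869 (.node 25866 (.node 25865 (.leaf 0x6507) (.leaf 0xe0001)) (.node 25867 (.leaf 0x0) (.node 25868 (.leaf 0xa0001) (.leaf 0x0)))) (.node 25872 (.node 25870 (.leaf 0x0) (.node 25871 (.leaf 0x605020202010802040105000b) (.leaf 0x0))) (.node 25873 (.leaf 0xa0a0002) (.node 25874 (.leaf 0x0) (.leaf 0xb0001))))) (.node 25881 (.node 25878 (.node 25876 (.leaf 0x3060002) (.node 25877 (.leaf 0x0) (.leaf 0xb0b0a0a0004))) (.node 25879 (.leaf 0x0) (.node 25880 (.leaf 0x6516006512) (.leaf 0xf0b0a0a0004)))) (.node 25884 (.node 25882 (.leaf 0x0) (.node 25883 (.leaf 0x6030103010102000008) (.leaf 0x0))) (.node 25885 (.leaf 0xb0b0002) (.node 25886 (.leaf 0x202000207030802040105000b) (.leaf 0x0))))))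

def argWS_2289 : Store := (.node 25864 argWS_2287 argWS_2288)

def argWS_2290 : Store := (.node 25842 argWS_2286 argWS_2289)

def argWS_2291 : Store := (.node 25898 (.node 25892 (.node 25889 (.node 25888 (.leaf 0xd0b0002) (.leaf 0x0)) (.node 25890 (.leaf 0x2000802020007010008) (.node 25891 (.leaf 0x0) (.leaf 0xb0f0002)))) (.node 25895 (.node 25893 (.leaf 0x0) (.node 25894 (.leaf 0xb0a0002) (.leaf 0x6525006524))) (.node 25896 (.leaf 0xf0b0002) (.node 25897 (.leaf 0x0) (.leaf 0x300090206020802040105000c))))) (.node 25903 (.node 25900 (.node 25899 (.leaf 0x0) (.leaf 0xf0a0a0003)) (.node 25901 (.leaf 0x901090805000703040103000b) (.node 25902 (.leaf 0x0) (.leaf 0xf0001)))) (.node 25906 (.node 25904 (.leaf 0x0) (.node 25905 (.leaf 0xb0a0f0003) (.leaf 0xb0f0002))) (.node 25907 (.leaf 0x6531006530) (.node 25908 (.leaf 0xb0b0a0a0004) (.leaf 0x0))))))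

def argWS_2292 : Store := (.node 25920 (.node 25914 (.node 25911 (.node 25910 (.leaf 0xb0b0a0a0004) (.leaf 0x0)) (.node 25912 (.leaf 0x0) (.node 25913 (.leaf 0xd0b0b0003) (.leaf 0xb0f0002)))) (.node 25917 (.node 25915 (.leaf 0xa0a0002) (.node 25916 (.leaf 0x653a006539) (.leaf 0x3040107020600000703040103000d))) (.node 25918 (.leaf 0x0) (.node 25919 (.leaf 0xa0f0b0003) (.leaf 0x0))))) (.node 25926 (.node 25923 (.node 25921 (.leaf 0xb0a0f0003) (.node 25922 (.leaf 0x0) (.leaf 0x0))) (.node 25924 (.leaf 0xa0f0b0b0004) (.node 25925 (.leaf 0x3070703060005) (.leaf 0x0)))) (.node 25929 (.node 25927 (.leaf 0xf0a0a0003) (.node 25928 (.leaf 0x0) (.leaf 0xf0a0a0003))) (.node 25930 (.leaf 0x6548006547) (.node 25931 (.leaf 0x20500090206020202000701000c) (.leaf 0x0))))))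

def argWS_2293 : Store := (.node 25909 argWS_2291 argWS_2292)

def argWS_2294 : Store := (.node 25943 (.node 25937 (.node 25934 (.node 25933 (.leaf 0xf0b0002) (.leaf 0x0)) (.node 25935 (.leaf 0x0) (.node 25936 (.leaf 0xb0a0f0003) (.leaf 0xb0b0a0a0004)))) (.node 25940 (.node 25938 (.leaf 0x3e56006550) (.node 25939 (.leaf 0xf0b0b0a0004) (.leaf 0x0))) (.node 25941 (.leaf 0x8000400090206020802040105000d) (.node 25942 (.leaf 0x0) (.leaf 0xb0f0002))))) (.node 25949 (.node 25946 (.node 25944 (.leaf 0xf0b0b0003) (.node 25945 (.leaf 0x207000408010802040105000b) (.leaf 0x0))) (.node 25947 (.leaf 0xd0b0002) (.node 25948 (.leaf 0x0) (.leaf 0xa0f0b0003)))) (.node 25952 (.node 25950 (.leaf 0x655c00655b) (.node 25951 (.leaf 0xb0a0f0003) (.leaf 0x0))) (.node 25953 (.leaf 0xf0b0b0a0004) (.node 25954 (.leaf 0x0) (.leaf 0x0))))))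

def argWS_2295 : Store := (.node 25966 (.node 25960 (.node 25957 (.node 25956 (.leaf 0x800040400050006) (.leaf 0x0)) (.node 25958 (.leaf 0xf0b0a0003) (.node 25959 (.leaf 0x0) (.leaf 0xf0b0b0a0a0005)))) (.node 25963 (.node 25961 (.leaf 0x90005020202010802040105000c) (.node 25962 (.leaf 0x0) (.leaf 0xb0a0a0003))) (.node 25964 (.leaf 0x0) (.node 25965 (.leaf 0x656b006567) (.leaf 0xf0b0a0003))))) (.node 25972 (.node 25969 (.node 25967 (.leaf 0x0) (.node 25968 (.leaf 0x702000003010802040105000c) (.leaf 0x0))) (.node 25970 (.leaf 0xe0a0002) (.node 25971 (.leaf 0x402000003010202000701000c) (.leaf 0x0)))) (.node 25975 (.node 25973 (.leaf 0xa0f0002) (.node 25974 (.leaf 0x0) (.leaf 0x30407020902000703040103000c))) (.node 25976 (.leaf 0x0) (.node 25977 (.leaf 0xf0001) (.leaf 0x0))))))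

def argWS_2296 : Store := (.node 25955 argWS_2294 argWS_2295)

def argWS_2297 : Store := (.node 25932 argWS_2293 argWS_2296)

def argWS_2298 : Store := (.node 25887 argWS_2290 argWS_2297)

def argWS_2299 : Store := (.node 25797 argWS_2283 argWS_2298)

def argWS_2300 : Store := (.node 25617 argWS_2268 argWS_2299)

def argWS_2301 : Store := (.node 25256 argWS_2237 argWS_2300)

def argWS_2302 : Store := (.node 24535 argWS_2174 argWS_2301)

def argWS_2303 : Store := (.node 25989 (.node 25983 (.node 25980 (.node 25979 (.leaf 0x6579) (.leaf 0xe0d0002)) (.node 25981 (.leaf 0x0) (.node 25982 (.leaf 0xa0f0b0b0004) (.leaf 0x0)))) (.node 25986 (.node 25984 (.leaf 0x0) (.node 25985 (.leaf 0xa0001) (.leaf 0x403010904020202000701000b))) (.node 25987 (.leaf 0x0) (.node 25988 (.leaf 0xf0b0a0a0004) (.leaf 0x0))))) (.node 25994 (.node 25991 (.node 25990 (.leaf 0x6584000872) (.leaf 0xa0001)) (.node 25992 (.leaf 0x0) (.node 25993 (.leaf 0xb0001) (.leaf 0x0)))) (.node 25997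 (.node 25995 (.leaf 0x0) (.node 25996 (.leaf 0xb0b0a0003) (.leaf 0xb0001))) (.node 25998 (.leaf 0x658c) (.node 25999 (.leaf 0x3090106000703040103000a) (.leaf 0x0))))))

def argWS_2304 : Store := (.node 26011 (.node 26005 (.node 26002 (.node 26001 (.leaf 0xb0b0a0a0004) (.leaf 0x0)) (.node 26003 (.leaf 0xf0a0002) (.node 26004 (.leaf 0x0) (.leaf 0x0)))) (.node 26008 (.node 26006 (.leaf 0x503070209020007) (.node 26007 (.leaf 0x0) (.leaf 0xf0b0b0a0a0005))) (.node 26009 (.leaf 0x0) (.node 26010 (.leaf 0x1070008020401050008) (.leaf 0x0))))) (.node 26017 (.node 26014 (.node 26012 (.leaf 0xb0a0f0003) (.node 26013 (.leaf 0x0) (.leaf 0x58f600659c))) (.node 26015 (.leaf 0xa0f0b0003) (.node 26016 (.leaf 0x0) (.leaf 0x20401020106060202000701000c)))) (.node 26020 (.node 26018 (.leaf 0x0) (.node 26019 (.leaf 0xa0001) (.leaf 0x2020908050202000701000a))) (.node 26021 (.leaf 0x0) (.node 26022 (.leaf 0xd0001) (.leaf 0x0))))))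

def argWS_2305 : Store := (.node 26000 argWS_2303 argWS_2304)

def argWS_2306 : Store := (.node 26034 (.node 26028 (.node 26025 (.node 26024 (.leaf 0xf0b0a0a0004) (.leaf 0x65a7)) (.node 26026 (.leaf 0x50307020600000703040103000d) (.node 26027 (.leaf 0x0) (.leaf 0xa0001)))) (.node 26031 (.node 26029 (.leaf 0x0) (.node 26030 (.leaf 0x1010901090202000701000a) (.leaf 0x0))) (.node 26032 (.leaf 0xf0001) (.node 26033 (.leaf 0x70206030802040105000a) (.leaf 0x0))))) (.node 26039 (.node 26036 (.node 26035 (.leaf 0xf0b0b0a0004) (.leaf 0x0)) (.node 26037 (.leaf 0x70206010500020202000701000c) (.node 26038 (.leaf 0x0) (.leaf 0xa0f0b0b0004)))) (.node 26042 (.node 26040 (.leaf 0x0) (.node 26041 (.leaf 0xa0001) (.leaf 0x65b80065b7))) (.node 26043 (.leaf 0x800070206000006) (.node 26044 (.leaf 0x0) (.leaf 0xa0f0b0003))))))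

def argWS_2307 : Store := (.node 26056 (.node 26050 (.node 26047 (.node 26046 (.leaf 0x0) (.leaf 0xf0a0002)) (.node 26048 (.leaf 0x0) (.node 26049 (.leaf 0x0) (.leaf 0x3040308000703040103000a)))) (.node 26053 (.node 26051 (.leaf 0x0) (.node 26052 (.leaf 0xf0b0a0a0004) (.leaf 0x0))) (.node 26054 (.leaf 0xb0a0002) (.node 26055 (.leaf 0xd0b0b0003) (.leaf 0x65c60065c5))))) (.node 26062 (.node 26059 (.node 26057 (.leaf 0x4030009000009000703040103000d) (.node 26058 (.leaf 0x0) (.leaf 0xf0b0a0003))) (.node 26060 (.leaf 0x0) (.node 26061 (.leaf 0x2020000090206020802040105000d) (.leaf 0x0)))) (.node 26065 (.node 26063 (.leaf 0x20206020007010007) (.node 26064 (.leaf 0x0) (.leaf 0xb0b0a0a0004))) (.node 26066 (.leaf 0x0) (.node 26067 (.leaf 0x2020000090206020802040105000d) (.leaf 0x0))))))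

def argWS_2308 : Store := (.node 26045 argWS_2306 argWS_2307)

def argWS_2309 : Store := (.node 26023 argWS_2305 argWS_2308)

def argWS_2310 : Store := (.node 26079 (.node 26073 (.node 26070 (.node 26069 (.leaf 0x0) (.leaf 0x65d4)) (.node 26071 (.leaf 0x60102010900090202000701000c) (.node 26072 (.leaf 0x0) (.leaf 0xb0f0a0a0004)))) (.node 26076 (.node 26074 (.leaf 0x0) (.node 26075 (.leaf 0xf0a0002) (.leaf 0x0))) (.node 26077 (.leaf 0x0) (.node 26078 (.leaf 0xa0f0002) (.leaf 0x9020108020401050008))))) (.node 26084 (.node 26081 (.node 26080 (.leaf 0x0) (.leaf 0xb0a0f0003)) (.node 26082 (.leaf 0x0) (.node 26083 (.leaf 0xa0f0b0003) (.leaf 0x65e20065e1)))) (.node 26087 (.node 26085 (.leaf 0xd0b0002) (.node 26086 (.leaf 0x0) (.leaf 0x30306040202000701000b))) (.node 26088 (.leaf 0x0) (.node 26089 (.leaf 0xd0b0002) (.leaf 0xf0a0a0003))))))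

def argWS_2311 : Store := (.node 26101 (.node 26095 (.node 26092 (.node 26091 (.leaf 0xd0b0b0003) (.leaf 0x65ea)) (.node 26093 (.leaf 0xb0f0a0003) (.node 26094 (.leaf 0x0) (.leaf 0x605020901060202000701000b)))) (.node 26098 (.node 26096 (.leaf 0x0) (.node 26097 (.leaf 0xf0b0a0003) (.leaf 0xf0b0002))) (.node 26099 (.leaf 0x202000002080400000703040103000e) (.node 26100 (.leaf 0x0) (.leaf 0xa0f0002))))) (.node 26107 (.node 26104 (.node 26102 (.leaf 0x0) (.node 26103 (.leaf 0x65f5) (.leaf 0xf0a0002))) (.node 26105 (.leaf 0x0) (.node 26106 (.leaf 0xd0001) (.leaf 0x0)))) (.node 26110 (.node 26108 (.leaf 0x0) (.node 26109 (.leaf 0x90104020901060202000701000c) (.leaf 0x0))) (.node 26111 (.leaf 0xf0b0a0a0004) (.node 26112 (.leaf 0x0) (.leaf 0x65ff))))))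

def argWS_2312 : Store := (.node 26090 argWS_2310 argWS_2311)

def argWS_2313 : Store := (.node 26124 (.node 26118 (.node 26115 (.node 26114 (.leaf 0x402090106000703040103000b) (.leaf 0x0)) (.node 26116 (.leaf 0xb0b0a0a0004) (.node 26117 (.leaf 0x0) (.leaf 0xf0a0a0003)))) (.node 26121 (.node 26119 (.leaf 0x0) (.node 26120 (.leaf 0x0) (.leaf 0x70101090806000007))) (.node 26122 (.leaf 0x0) (.node 26123 (.leaf 0xb0001) (.leaf 0x0))))) (.node 26129 (.node 26126 (.node 26125 (.leaf 0xf0a0002) (.leaf 0x660c00660b)) (.node 26127 (.leaf 0xd0b0b0003) (.node 26128 (.leaf 0x0) (.leaf 0x901010908050202000701000b)))) (.node 26132 (.node 26130 (.leaf 0x0) (.node 26131 (.leaf 0xf0b0a0a0004) (.leaf 0x5020408010802040105000a))) (.node 26133 (.leaf 0x0) (.node 26134 (.leaf 0x0) (.leaf 0x403000007030401030009))))))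

def argWS_2314 : Store := (.node 26146 (.node 26140 (.node 26137 (.node 26136 (.leaf 0x0) (.leaf 0xd0b0b0003)) (.node 26138 (.leaf 0x0) (.node 26139 (.leaf 0x6619006615) (.leaf 0xf0b0b0a0004)))) (.node 26143 (.node 26141 (.leaf 0x0) (.node 26142 (.leaf 0x5020000090206020802040105000d) (.leaf 0x0))) (.node 26144 (.leaf 0xb0b0002) (.node 26145 (.leaf 0x9040207030802040105000a) (.leaf 0x0))))) (.node 26152 (.node 26149 (.node 26147 (.leaf 0xf0b0a0a0004) (.node 26148 (.leaf 0x0) (.leaf 0x2020201090402000703040103000d))) (.node 26150 (.leaf 0x0) (.node 26151 (.leaf 0xb0b0a0003) (.leaf 0x0)))) (.node 26155 (.node 26153 (.leaf 0x6000002020900000802040105000d) (.node 26154 (.leaf 0x0) (.leaf 0xe0001))) (.node 26156 (.leaf 0x0) (.node 26157 (.leaf 0x662b006627) (.leaf 0xe0a0a0003))))))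

def argWS_2315 : Store := (.node 26135 argWS_2313 argWS_2314)

def argWS_2316 : Store := (.node 26113 argWS_2312 argWS_2315)

def argWS_2317 : Store := (.node 26068 argWS_2309 argWS_2316)

def argWS_2318 : Store := (.node 26169 (.node 26163 (.node 26160 (.node 26159 (.leaf 0x0) (.leaf 0x0)) (.node 26161 (.leaf 0xb0a0f0003) (.node 26162 (.leaf 0xb0b0a0003) (.leaf 0xb0b0a0a0004)))) (.node 26166 (.node 26164 (.leaf 0x0) (.node 26165 (.leaf 0xb0f0002) (.leaf 0x6634006633))) (.node 26167 (.leaf 0x2070202090000000703040103000d) (.node 26168 (.leaf 0x0) (.leaf 0xf0b0b0a0a0005))))) (.node 26174 (.node 26171 (.node 26170 (.leaf 0x0) (.leaf 0xf0a0002)) (.node 26172 (.leaf 0x0) (.node 26173 (.leaf 0x0) (.leaf 0xb0a0a0003)))) (.node 26177 (.node 26175 (.leaf 0x400040009020602000703040103000e) (.node 26176 (.leaf 0x0) (.leaf 0x0))) (.node 26178 (.leaf 0x6640) (.node 26179 (.leaf 0x105020207030006) (.leaf 0x0))))))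

def argWS_2319 : Store := (.node 26191 (.node 26185 (.node 26182 (.node 26181 (.leaf 0xb0a0002) (.leaf 0x0)) (.node 26183 (.leaf 0x502000400050006) (.node 26184 (.leaf 0x0) (.leaf 0xf0001)))) (.node 26188 (.node 26186 (.leaf 0x80300050206040007) (.node 26187 (.leaf 0x0) (.leaf 0xa0f0002))) (.node 26189 (.leaf 0x0) (.node 26190 (.leaf 0x8000400020804000802040105000d) (.leaf 0x0))))) (.node 26197 (.node 26194 (.node 26192 (.leaf 0xe0d0002) (.node 26193 (.leaf 0x0) (.leaf 0xb0a0002))) (.node 26195 (.leaf 0x6651006650) (.node 26196 (.leaf 0x506010500020202000701000b) (.leaf 0x0)))) (.node 26200 (.node 26198 (.leaf 0xd0b0002) (.node 26199 (.leaf 0x0) (.leaf 0xe0001))) (.node 26201 (.leaf 0x0) (.node 26202 (.leaf 0x0) (.leaf 0x90206020802040105000a))))))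

def argWS_2320 : Store := (.node 26180 argWS_2318 argWS_2319)

def argWS_2321 : Store := (.node 26214 (.node 26208 (.node 26205 (.node 26204 (.leaf 0x0) (.leaf 0x0)) (.node 26206 (.leaf 0x201070209020202000701000b) (.node 26207 (.leaf 0x0) (.leaf 0xf0b0002)))) (.node 26211 (.node 26209 (.leaf 0x0) (.node 26210 (.leaf 0x6660) (.leaf 0xa0f0002))) (.node 26212 (.leaf 0x0) (.node 26213 (.leaf 0x10400020901060007) (.leaf 0x0))))) (.node 26219 (.node 26216 (.node 26215 (.leaf 0xb0a0a0003) (.leaf 0x90403080004)) (.node 26217 (.leaf 0x0) (.node 26218 (.leaf 0xf0b0a0a0004) (.leaf 0x0)))) (.node 26222 (.node 26220 (.leaf 0x6020601050002000703040103000d) (.node 26221 (.leaf 0x0) (.leaf 0xb0001))) (.node 26223 (.leaf 0x0) (.node 26224 (.leaf 0xb0a0f0003) (.leaf 0x666f00666e))))))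

def argWS_2322 : Store := (.node 26236 (.node 26230 (.node 26227 (.node 26226 (.leaf 0x205050206040202000701000b) (.leaf 0x0)) (.node 26228 (.leaf 0xf0a0002) (.node 26229 (.leaf 0x0) (.leaf 0xe0a0002)))) (.node 26233 (.node 26231 (.leaf 0x0) (.node 26232 (.leaf 0x0) (.leaf 0x20603000703040103000a))) (.node 26234 (.leaf 0x0) (.node 26235 (.leaf 0xb0f0a0a0004) (.leaf 0x0))))) (.node 26242 (.node 26239 (.node 26237 (.leaf 0x304030603050004000703040103000e) (.node 26238 (.leaf 0x0) (.leaf 0xb0b0002))) (.node 26240 (.leaf 0x0) (.node 26241 (.leaf 0x900070209020006) (.leaf 0x0)))) (.node 26245 (.node 26243 (.leaf 0xa0001) (.node 26244 (.leaf 0x0) (.leaf 0x668300667f))) (.node 26246 (.leaf 0x20601020901060007) (.node 26247 (.leaf 0x0) (.leaf 0xb0f0002))))))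

def argWS_2323 : Store := (.node 26225 argWS_2321 argWS_2322)

def argWS_2324 : Store := (.node 26203 argWS_2320 argWS_2323)

def argWS_2325 : Store := (.node 26259 (.node 26253 (.node 26250 (.node 26249 (.leaf 0x0) (.leaf 0x7020000030703040103000b)) (.node 26251 (.leaf 0x0) (.node 26252 (.leaf 0xf0b0a0a0004) (.leaf 0xf0b0b0003)))) (.node 26256 (.node 26254 (.leaf 0x90600020804000007) (.node 26255 (.leaf 0x0) (.leaf 0xf0a0a0003))) (.node 26257 (.leaf 0x0) (.node 26258 (.leaf 0xe0001) (.leaf 0x6691006690))))) (.node 26264 (.node 26261 (.node 26260 (.leaf 0xd0001) (.leaf 0x0)) (.node 26262 (.leaf 0x2070009020602000703040103000d) (.node 26263 (.leaf 0x0) (.leaf 0xf0b0b0003)))) (.node 26267 (.node 26265 (.leaf 0xb0a0002) (.node 26266 (.leaf 0xf0001) (.leaf 0xd0b0b0003))) (.node 26268 (.leaf 0x669a006699) (.node 26269 (.leaf 0x906090806000202000701000b) (.leaf 0x0))))))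

def argWS_2326 : Store := (.node 26281 (.node 26275 (.node 26272 (.node 26271 (.leaf 0xb0f0a0003) (.leaf 0x0)) (.node 26273 (.leaf 0x602040807030401030009) (.node 26274 (.leaf 0x0) (.leaf 0xb0a0002)))) (.node 26278 (.node 26276 (.leaf 0xe0a0a0003) (.node 26277 (.leaf 0xb0b0002) (.leaf 0x54d40066a4))) (.node 26279 (.leaf 0x307070009030802040105000b) (.node 26280 (.leaf 0x0) (.leaf 0xb0f0a0003))))) (.node 26287 (.node 26284 (.node 26282 (.leaf 0x0) (.node 26283 (.leaf 0xf0001) (.leaf 0x0))) (.node 26285 (.leaf 0x0) (.node 26286 (.leaf 0x501070206000006) (.leaf 0x0)))) (.node 26290 (.node 26288 (.leaf 0xb0f0a0a0004) (.node 26289 (.leaf 0x0) (.leaf 0x20206040004))) (.node 26291 (.leaf 0x0) (.node 26292 (.leaf 0xf0001) (.leaf 0x0))))))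

def argWS_2327 : Store := (.node 26270 argWS_2325 argWS_2326)

def argWS_2328 : Store := (.node 26304 (.node 26298 (.node 26295 (.node 26294 (.leaf 0x90700000408010202000701000c) (.leaf 0x0)) (.node 26296 (.leaf 0xa0a0002) (.node 26297 (.leaf 0x0) (.leaf 0x66b80066b4)))) (.node 26301 (.node 26299 (.leaf 0xf0b0b0a0004) (.node 26300 (.leaf 0x0) (.leaf 0x0))) (.node 26302 (.leaf 0x50305050202020703040103000c) (.node 26303 (.leaf 0x0) (.leaf 0xd0b0b0003))))) (.node 26309 (.node 26306 (.node 26305 (.leaf 0x0) (.leaf 0x4000207020007010008)) (.node 26307 (.leaf 0x0) (.node 26308 (.leaf 0xb0f0002) (.leaf 0x0)))) (.node 26312 (.node 26310 (.leaf 0x2000207020007010008) (.node 26311 (.leaf 0x0) (.leaf 0xb0b0a0a0004))) (.node 26313 (.leaf 0x0) (.node 26314 (.leaf 0x66c80066c4) (.leaf 0x20000000300000008))))))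

def argWS_2329 : Store := (.node 26326 (.node 26320 (.node 26317 (.node 26316 (.leaf 0x0) (.leaf 0xe0d0002)) (.node 26318 (.leaf 0x0) (.node 26319 (.leaf 0xb0f0002) (.leaf 0x0)))) (.node 26323 (.node 26321 (.leaf 0x0) (.node 26322 (.leaf 0x50306020702010007) (.leaf 0x0))) (.node 26324 (.leaf 0xa0f0002) (.node 26325 (.leaf 0x0) (.leaf 0xf0b0002))))) (.node 26332 (.node 26329 (.node 26327 (.leaf 0x0) (.node 26328 (.leaf 0x1020901060802040105000a) (.leaf 0x0))) (.node 26330 (.leaf 0xb0f0a0003) (.node 26331 (.leaf 0x0) (.leaf 0x66da0066d6)))) (.node 26335 (.node 26333 (.leaf 0xe0001) (.node 26334 (.leaf 0x0) (.leaf 0x403010904020202000701000b))) (.node 26336 (.leaf 0x0) (.node 26337 (.leaf 0xb0b0a0003) (.leaf 0x10301020000030703040103000c))))))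

def argWS_2330 : Store := (.node 26315 argWS_2328 argWS_2329)

def argWS_2331 : Store := (.node 26293 argWS_2327 argWS_2330)

def argWS_2332 : Store := (.node 26248 argWS_2324 argWS_2331)

def argWS_2333 : Store := (.node 26158 argWS_2317 argWS_2332)

def argWS_2334 : Store := (.node 26349 (.node 26343 (.node 26340 (.node 26339 (.leaf 0x0) (.leaf 0xb0f0a0003)) (.node 26341 (.leaf 0x0) (.node 26342 (.leaf 0x4000303010102000802040105000d) (.leaf 0x0)))) (.node 26346 (.node 26344 (.leaf 0xd0b0b0003) (.node 26345 (.leaf 0x0) (.leaf 0x66e8))) (.node 26347 (.leaf 0xb0a0f0003) (.node 26348 (.leaf 0x0) (.leaf 0xb0001))))) (.node 26354 (.node 26351 (.node 26350 (.leaf 0x0) (.leaf 0x0)) (.node 26352 (.leaf 0x601020102010606000703040103000e) (.node 26353 (.leaf 0x0) (.leaf 0xd0b0002)))) (.node 26357 (.node 26355 (.leaf 0x0) (.node 26356 (.leaf 0x7020901060802040105000b) (.leaf 0x0))) (.node 26358 (.leaf 0xb0a0f0003) (.node 26359 (.leaf 0x0) (.leaf 0x66f6))))))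

def argWS_2335 : Store := (.node 26371 (.node 26365 (.node 26362 (.node 26361 (.leaf 0x9070002000003010008) (.leaf 0x0)) (.node 26363 (.leaf 0xf0001) (.node 26364 (.leaf 0x0) (.leaf 0x205010908050802040105000b)))) (.node 26368 (.node 26366 (.leaf 0x0) (.node 26367 (.leaf 0xb0a0002) (.leaf 0xd0b0b0003))) (.node 26369 (.leaf 0xf0b0a0a0004) (.node 26370 (.leaf 0x6700) (.leaf 0x404020000030703040103000b))))) (.node 26377 (.node 26374 (.node 26372 (.leaf 0x0) (.node 26373 (.leaf 0xf0b0b0003) (.leaf 0x0))) (.node 26375 (.leaf 0xb0a0002) (.node 26376 (.leaf 0x0) (.leaf 0x0)))) (.node 26380 (.node 26378 (.leaf 0x3000408010802040105000a) (.node 26379 (.leaf 0x0) (.leaf 0xd0b0b0003))) (.node 26381 (.leaf 0x0) (.node 26382 (.leaf 0xd0b0b0003) (.leaf 0xd0b0002))))))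

def argWS_2336 : Store := (.node 26360 argWS_2334 argWS_2335)

def argWS_2337 : Store := (.node 26394 (.node 26388 (.node 26385 (.node 26384 (.leaf 0x670e00670d) (.leaf 0xe0d0002)) (.node 26386 (.leaf 0x0) (.node 26387 (.leaf 0x2010102000005) (.leaf 0x0)))) (.node 26391 (.node 26389 (.leaf 0xb0f0a0a0004) (.node 26390 (.leaf 0x200000003030604000703040103000e) (.leaf 0x0))) (.node 26392 (.leaf 0xd0b0002) (.node 26393 (.leaf 0x0) (.leaf 0x7000002020900000802040105000d))))) (.node 26399 (.node 26396 (.node 26395 (.leaf 0x0) (.leaf 0xb0001)) (.node 26397 (.leaf 0x0) (.node 26398 (.leaf 0x671c) (.leaf 0x1060002)))) (.node 26402 (.node 26400 (.leaf 0x0) (.node 26401 (.leaf 0xb0b0a0a0004) (.leaf 0x0))) (.node 26403 (.leaf 0xf0b0b0003) (.node 26404 (.leaf 0x0) (.leaf 0x0))))))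

def argWS_2338 : Store := (.node 26416 (.node 26410 (.node 26407 (.node 26406 (.leaf 0x40206030802040105000a) (.leaf 0x0)) (.node 26408 (.leaf 0xb0a0f0003) (.node 26409 (.leaf 0x0) (.leaf 0x200000908020401050009)))) (.node 26413 (.node 26411 (.leaf 0x0) (.node 26412 (.leaf 0xa0f0b0b0004) (.leaf 0x0))) (.node 26414 (.leaf 0x672c00157c) (.node 26415 (.leaf 0x2040300030306040008) (.leaf 0x0))))) (.node 26422 (.node 26419 (.node 26417 (.leaf 0xe0001) (.node 26418 (.leaf 0x0) (.leaf 0x0))) (.node 26420 (.leaf 0x105020202090000000703040103000e) (.node 26421 (.leaf 0x0) (.leaf 0xb0f0002)))) (.node 26425 (.node 26423 (.leaf 0x0) (.node 26424 (.leaf 0xb0a0f0003) (.leaf 0x6737006736))) (.node 26426 (.leaf 0x2060102000003010802040105000d) (.node 26427 (.leaf 0x0) (.leaf 0xf0b0a0a0004))))))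

def argWS_2339 : Store := (.node 26405 argWS_2337 argWS_2338)

def argWS_2340 : Store := (.node 26383 argWS_2336 argWS_2339)

def argWS_2341 : Store := (.node 26439 (.node 26433 (.node 26430 (.node 26429 (.leaf 0x0) (.leaf 0xd0b0b0003)) (.node 26431 (.leaf 0x0) (.node 26432 (.leaf 0x0) (.leaf 0x5020007000903000703040103000d)))) (.node 26436 (.node 26434 (.leaf 0x0) (.node 26435 (.leaf 0xf0b0a0003) (.leaf 0x0))) (.node 26437 (.leaf 0x103080007030401030009) (.node 26438 (.leaf 0x0) (.leaf 0xa0f0b0003))))) (.node 26444 (.node 26441 (.node 26440 (.leaf 0x0) (.leaf 0x4020000030703040103000b)) (.node 26442 (.leaf 0x0) (.node 26443 (.leaf 0x0) (.leaf 0x674a006747)))) (.node 26447 (.node 26445 (.leaf 0x9050000030703040103000a) (.node 26446 (.leaf 0x0) (.leaf 0xf0b0a0a0004))) (.node 26448 (.leaf 0x0) (.node 26449 (.leaf 0xf0b0a0a0004) (.leaf 0x0))))))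

def argWS_2342 : Store := (.node 26461 (.node 26455 (.node 26452 (.node 26451 (.leaf 0x0) (.leaf 0xd0001)) (.node 26453 (.leaf 0xe0001) (.node 26454 (.leaf 0x6754) (.leaf 0x6050004080703040103000a)))) (.node 26458 (.node 26456 (.leaf 0x0) (.node 26457 (.leaf 0xb0b0002) (.leaf 0x0))) (.node 26459 (.leaf 0x501060602020007010009) (.node 26460 (.leaf 0x0) (.leaf 0xb0f0a0003))))) (.node 26467 (.node 26464 (.node 26462 (.leaf 0x6000007000902000701000a) (.node 26463 (.leaf 0x0) (.leaf 0xb0a0f0003))) (.node 26465 (.leaf 0x0) (.node 26466 (.leaf 0xf0b0b0003) (.leaf 0x205020206030802040105000b)))) (.node 26470 (.node 26468 (.leaf 0x0) (.node 26469 (.leaf 0xd0b0002) (.leaf 0x0))) (.node 26471 (.leaf 0x6765006761) (.node 26472 (.leaf 0xd0b0b0003) (.leaf 0x0))))))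

def argWS_2343 : Store := (.node 26450 argWS_2341 argWS_2342)

def argWS_2344 : Store := (.node 26484 (.node 26478 (.node 26475 (.node 26474 (.leaf 0xb0b0a0a0004) (.leaf 0x0)) (.node 26476 (.leaf 0x0) (.node 26477 (.leaf 0x102020804000802040105000b) (.leaf 0x0)))) (.node 26481 (.node 26479 (.leaf 0xb0f0002) (.node 26480 (.leaf 0x0) (.leaf 0x1070206020007010008))) (.node 26482 (.leaf 0x0) (.node 26483 (.leaf 0xf0a0002) (.leaf 0x0))))) (.node 26489 (.node 26486 (.node 26485 (.leaf 0x6773) (.leaf 0xf0b0b0003)) (.node 26487 (.leaf 0x0) (.node 26488 (.leaf 0xd0b0002) (.leaf 0x0)))) (.node 26492 (.node 26490 (.leaf 0x0) (.node 26491 (.leaf 0xb0f0a0a0004) (.leaf 0x1020802020007010008))) (.node 26493 (.leaf 0x0) (.node 26494 (.leaf 0xa0f0002) (.leaf 0x0))))))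

def argWS_2345 : Store := (.node 26506 (.node 26500 (.node 26497 (.node 26496 (.leaf 0x20907020600000703040103000c) (.leaf 0x0)) (.node 26498 (.leaf 0xe0a0a0003) (.node 26499 (.leaf 0x0) (.leaf 0x678200677e)))) (.node 26503 (.node 26501 (.leaf 0xf0b0b0a0004) (.node 26502 (.leaf 0x0) (.leaf 0x20601020603000703040103000c))) (.node 26504 (.leaf 0x0) (.node 26505 (.leaf 0xd0001) (.leaf 0xb0a0a0003))))) (.node 26512 (.node 26509 (.node 26507 (.leaf 0xd0001) (.node 26508 (.leaf 0x678a) (.leaf 0x20908050202000701000a))) (.node 26510 (.leaf 0x0) (.node 26511 (.leaf 0xe0d0002) (.leaf 0x0)))) (.node 26515 (.node 26513 (.leaf 0x7030507020902000703040103000d) (.node 26514 (.leaf 0x0) (.leaf 0xd0001))) (.node 26516 (.leaf 0x2000207030802040105000b) (.node 26517 (.leaf 0x0) (.leaf 0xf0a0002))))))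

def argWS_2346 : Store := (.node 26495 argWS_2344 argWS_2345)

def argWS_2347 : Store := (.node 26473 argWS_2343 argWS_2346)

def argWS_2348 : Store := (.node 26428 argWS_2340 argWS_2347)

def argWS_2349 : Store := (.node 26529 (.node 26523 (.node 26520 (.node 26519 (.leaf 0x0) (.leaf 0x2000200030306040802040105000d)) (.node 26521 (.leaf 0x0) (.node 26522 (.leaf 0xa0001) (.leaf 0x0)))) (.node 26526 (.node 26524 (.leaf 0x206020804000006) (.node 26525 (.leaf 0x0) (.leaf 0xe0001))) (.node 26527 (.leaf 0x0) (.node 26528 (.leaf 0x679e00679a) (.leaf 0xa0f0b0b0004))))) (.node 26534 (.node 26531 (.node 26530 (.leaf 0x0) (.leaf 0x60601090000090202000701000c)) (.node 26532 (.leaf 0x0) (.node 26533 (.leaf 0xb0a0f0003) (.leaf 0xf0b0b0003)))) (.node 26537 (.node 26535 (.leaf 0xf0a0002) (.node 26536 (.leaf 0x8020401050005) (.leaf 0x0))) (.node 26538 (.leaf 0xf0b0a0a0004) (.node 26539 (.leaf 0x0) (.leaf 0x67aa0067a6))))))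

def argWS_2350 : Store := (.node 26551 (.node 26545 (.node 26542 (.node 26541 (.leaf 0x5020108020401050008) (.leaf 0x0)) (.node 26543 (.leaf 0xb0a0f0003) (.node 26544 (.leaf 0x0) (.leaf 0x60301050202020703040103000c)))) (.node 26548 (.node 26546 (.leaf 0x0) (.node 26547 (.leaf 0xb0a0a0003) (.leaf 0xa0f0b0b0004))) (.node 26549 (.leaf 0xe0d0002) (.node 26550 (.leaf 0x67b40030e1) (.leaf 0xf0b0002))))) (.node 26557 (.node 26554 (.node 26552 (.leaf 0x0) (.node 26553 (.leaf 0x2000901090202000701000b) (.leaf 0x0))) (.node 26555 (.leaf 0xb0b0a0003) (.node 26556 (.leaf 0xf0b0b0a0004) (.leaf 0xf0b0a0a0004)))) (.node 26560 (.node 26558 (.leaf 0x67bc) (.node 26559 (.leaf 0x1030006030500040202000701000d) (.leaf 0x0))) (.node 26561 (.leaf 0xf0b0b0a0004) (.node 26562 (.leaf 0x0) (.leaf 0x40401090402000703040103000c))))))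

def argWS_2351 : Store := (.node 26540 argWS_2349 argWS_2350)

def argWS_2352 : Store := (.node 26574 (.node 26568 (.node 26565 (.node 26564 (.leaf 0x0) (.leaf 0xd0b0002)) (.node 26566 (.leaf 0x900060207020703040103000c) (.node 26567 (.leaf 0x0) (.leaf 0xb0001)))) (.node 26571 (.node 26569 (.leaf 0x0) (.node 26570 (.leaf 0xb0b0a0a0004) (.leaf 0x67c9))) (.node 26572 (.leaf 0x207090806000202000701000b) (.node 26573 (.leaf 0x0) (.leaf 0xe0a0002))))) (.node 26579 (.node 26576 (.node 26575 (.leaf 0x0) (.leaf 0x30900090004)) (.node 26577 (.leaf 0x0) (.node 26578 (.leaf 0xe0a0a0003) (.leaf 0x50200020804000802040105000c)))) (.node 26582 (.node 26580 (.leaf 0x0) (.node 26581 (.leaf 0xe0a0a0003) (.leaf 0x0))) (.node 26583 (.leaf 0xa0a0002) (.node 26584 (.leaf 0x67d6) (.leaf 0x60000020804000202000701000d))))))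

def argWS_2353 : Store := (.node 26596 (.node 26590 (.node 26587 (.node 26586 (.leaf 0x0) (.leaf 0xe0a0002)) (.node 26588 (.leaf 0x0) (.node 26589 (.leaf 0x0) (.leaf 0x7090000090202000701000b)))) (.node 26593 (.node 26591 (.leaf 0x0) (.node 26592 (.leaf 0xb0a0002) (.leaf 0x0))) (.node 26594 (.leaf 0xa0f0002) (.node 26595 (.leaf 0x67e1) (.leaf 0xb0001))))) (.node 26602 (.node 26599 (.node 26597 (.leaf 0x0) (.node 26598 (.leaf 0x9030908050005) (.leaf 0x0))) (.node 26600 (.leaf 0xf0b0b0003) (.node 26601 (.leaf 0xf0a0002) (.leaf 0xb0b0002)))) (.node 26605 (.node 26603 (.leaf 0x400040400050202000701000b) (.node 26604 (.leaf 0x0) (.leaf 0xb0a0002))) (.node 26606 (.leaf 0x0) (.node 26607 (.leaf 0x67ed0067e9) (.leaf 0x6010201010904020202000701000d))))))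

def argWS_2354 : Store := (.node 26585 argWS_2352 argWS_2353)

def argWS_2355 : Store := (.node 26563 argWS_2351 argWS_2354)

def argWS_2356 : Store := (.node 26619 (.node 26613 (.node 26610 (.node 26609 (.leaf 0x0) (.leaf 0xf0b0b0003)) (.node 26611 (.leaf 0x0) (.node 26612 (.leaf 0x502020106060802040105000b) (.leaf 0x0)))) (.node 26616 (.node 26614 (.leaf 0xf0a0002) (.node 26615 (.leaf 0x0) (.leaf 0x107030608020401050009))) (.node 26617 (.leaf 0x0) (.node 26618 (.leaf 0xb0a0a0003) (.leaf 0x0))))) (.node 26624 (.node 26621 (.node 26620 (.leaf 0xd0001) (.leaf 0x67fb0067fa)) (.node 26622 (.leaf 0xf0b0b0a0a0005) (.node 26623 (.leaf 0x0) (.leaf 0x60201050206040802040105000c)))) (.node 26627 (.node 26625 (.leaf 0x0) (.node 26626 (.leaf 0xb0b0a0003) (.leaf 0xb0f0a0a0004))) (.node 26628 (.leaf 0x1090301090805000703040103000d) (.node 26629 (.leaf 0x0) (.leaf 0xa0f0b0b0004))))))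

def argWS_2357 : Store := (.node 26641 (.node 26635 (.node 26632 (.node 26631 (.leaf 0x0) (.leaf 0x20900030000000703040103000c)) (.node 26633 (.leaf 0x0) (.node 26634 (.leaf 0xb0f0a0a0004) (.leaf 0x0)))) (.node 26638 (.node 26636 (.leaf 0x680a006806) (.node 26637 (.leaf 0x20206020702010802040105000c) (.leaf 0x0))) (.node 26639 (.leaf 0xd0001) (.node 26640 (.leaf 0x0) (.leaf 0x80101020901060802040105000c))))) (.node 26647 (.node 26644 (.node 26642 (.leaf 0x0) (.node 26643 (.leaf 0xd0b0b0003) (.leaf 0x70406010500020802040105000c))) (.node 26645 (.leaf 0x0) (.node 26646 (.leaf 0xa0f0b0b0004) (.leaf 0x0)))) (.node 26650 (.node 26648 (.leaf 0x2000201070306000703040103000d) (.node 26649 (.leaf 0x0) (.leaf 0xb0f0002))) (.node 26651 (.leaf 0x0) (.node 26652 (.leaf 0x681a) (.leaf 0xb0001))))))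

def argWS_2358 : Store := (.node 26630 argWS_2356 argWS_2357)

def argWS_2359 : Store := (.node 26664 (.node 26658 (.node 26655 (.node 26654 (.leaf 0x0) (.leaf 0xe0d0002)) (.node 26656 (.leaf 0x0) (.node 26657 (.leaf 0x0) (.leaf 0xb0a0a0003)))) (.node 26661 (.node 26659 (.leaf 0x60008020401050007) (.node 26660 (.leaf 0x0) (.leaf 0xb0b0a0003))) (.node 26662 (.leaf 0x0) (.node 26663 (.leaf 0x200090000090802040105000b) (.leaf 0x0))))) (.node 26670 (.node 26667 (.node 26665 (.leaf 0xa0001) (.node 26666 (.leaf 0x0) (.leaf 0x6829006825))) (.node 26668 (.leaf 0x10201090806000802040105000c) (.node 26669 (.leaf 0x0) (.leaf 0xa0f0b0003)))) (.node 26673 (.node 26671 (.leaf 0x0) (.node 26672 (.leaf 0x905030900090202000701000b) (.leaf 0x0))) (.node 26674 (.leaf 0xe0001) (.node 26675 (.leaf 0x9000000030000000703040103000e) (.leaf 0x0))))))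

def argWS_2360 : Store := (.node 26687 (.node 26681 (.node 26678 (.node 26677 (.leaf 0xb0f0002) (.leaf 0x0)) (.node 26679 (.leaf 0x2070009030006) (.node 26680 (.leaf 0x0) (.leaf 0xa0f0b0b0004)))) (.node 26684 (.node 26682 (.leaf 0x0) (.node 26683 (.leaf 0x6839006835) (.leaf 0x6030401030005))) (.node 26685 (.leaf 0x0) (.node 26686 (.leaf 0xf0b0b0a0a0005) (.leaf 0x0))))) (.node 26693 (.node 26690 (.node 26688 (.leaf 0xa0f0b0b0004) (.node 26689 (.leaf 0x0) (.leaf 0x0))) (.node 26691 (.leaf 0xa0f0b0003) (.node 26692 (.leaf 0x2040306020702010802040105000d) (.leaf 0x0)))) (.node 26696 (.node 26694 (.leaf 0xb0f0002) (.node 26695 (.leaf 0x0) (.leaf 0x6846))) (.node 26697 (.leaf 0xb0b0002) (.node 26698 (.leaf 0x0) (.leaf 0x20007030401030007))))))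

def argWS_2361 : Store := (.node 26676 argWS_2359 argWS_2360)

def argWS_2362 : Store := (.node 26653 argWS_2358 argWS_2361)

def argWS_2363 : Store := (.node 26608 argWS_2355 argWS_2362)

def argWS_2364 : Store := (.node 26518 argWS_2348 argWS_2363)

def argWS_2365 : Store := (.node 26338 argWS_2333 argWS_2364)

def argWS_2366 : Store := (.node 26710 (.node 26704 (.node 26701 (.node 26700 (.leaf 0x0) (.leaf 0xe0d0002)) (.node 26702 (.leaf 0xb0b0a0a0004) (.node 26703 (.leaf 0x60401050005) (.leaf 0x0)))) (.node 26707 (.node 26705 (.leaf 0xb0b0a0003) (.node 26706 (.leaf 0x0) (.leaf 0x60400020106060202000701000c))) (.node 26708 (.leaf 0x0) (.node 26709 (.leaf 0xf0a0a0003) (.leaf 0x0))))) (.node 26715 (.node 26712 (.node 26711 (.leaf 0x6855006851) (.leaf 0x20406020702010802040105000c)) (.node 26713 (.leaf 0x0) (.node 26714 (.leaf 0xb0f0002) (.leaf 0x0)))) (.node 26718 (.node 26716 (.leaf 0xb0a0a0003) (.node 26717 (.leaf 0x0) (.leaf 0x0))) (.node 26719 (.leaf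 0xa0a0002) (.node 26720 (.leaf 0x0) (.leaf 0xa0a0002))))))

def argWS_2367 : Store := (.node 26732 (.node 26726 (.node 26723 (.node 26722 (.leaf 0x686000685f) (.leaf 0x60008020401050007)) (.node 26724 (.leaf 0x0) (.node 26725 (.leaf 0xd0b0b0003) (.leaf 0x0)))) (.node 26729 (.node 26727 (.leaf 0xa0a0002) (.node 26728 (.leaf 0x0) (.leaf 0x0))) (.node 26730 (.leaf 0xe0d0002) (.node 26731 (.leaf 0xf0b0b0a0004) (.leaf 0x686a))))) (.node 26738 (.node 26735 (.node 26733 (.leaf 0x1040000000300000008) (.node 26734 (.leaf 0x0) (.leaf 0xb0a0002))) (.node 26736 (.leaf 0x0) (.node 26737 (.leaf 0x90000090004) (.leaf 0x0)))) (.node 26741 (.node 26739 (.leaf 0xe0001) (.node 26740 (.leaf 0x60007020902000703040103000c) (.leaf 0x0))) (.node 26742 (.leaf 0xd0b0002) (.node 26743 (.leaf 0x0) (.leaf 0x90503070206000202000701000c))))))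

def argWS_2368 : Store := (.node 26721 argWS_2366 argWS_2367)

def argWS_2369 : Store := (.node 26755 (.node 26749 (.node 26746 (.node 26745 (.leaf 0x0) (.leaf 0xd0001)) (.node 26747 (.leaf 0x0) (.node 26748 (.leaf 0x687a) (.leaf 0xf0001)))) (.node 26752 (.node 26750 (.leaf 0x0) (.node 26751 (.leaf 0x60908050202000701000a) (.leaf 0x0))) (.node 26753 (.leaf 0xb0b0002) (.node 26754 (.leaf 0xa0f0002) (.leaf 0x1040901090802040105000a))))) (.node 26760 (.node 26757 (.node 26756 (.leaf 0x0) (.leaf 0xb0b0002)) (.node 26758 (.leaf 0x0) (.node 26759 (.leaf 0x600090000090202000701000b) (.leaf 0x0)))) (.node 26763 (.node 26761 (.leaf 0xf0a0a0003) (.node 26762 (.leaf 0x0) (.leaf 0x6889006885))) (.node 26764 (.leaf 0xf0b0a0a0004) (.node 26765 (.leaf 0x0) (.leaf 0xf0b0b0a0a0005))))))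

def argWS_2370 : Store := (.node 26777 (.node 26771 (.node 26768 (.node 26767 (.leaf 0x0) (.leaf 0x0)) (.node 26769 (.leaf 0x70002000003010802040105000c) (.node 26770 (.leaf 0x0) (.leaf 0xd0001)))) (.node 26774 (.node 26772 (.leaf 0x0) (.node 26773 (.leaf 0x9000207030802040105000a) (.leaf 0x0))) (.node 26775 (.leaf 0xb0f0a0003) (.node 26776 (.leaf 0x0) (.leaf 0x6897006893))))) (.node 26783 (.node 26780 (.node 26778 (.leaf 0x10700090000090802040105000c) (.node 26779 (.leaf 0x0) (.leaf 0xa0f0b0b0004))) (.node 26781 (.leaf 0x0) (.node 26782 (.leaf 0xd0b0b0003) (.leaf 0x0)))) (.node 26786 (.node 26784 (.leaf 0x0) (.node 26785 (.leaf 0x4020505020202010202000701000d) (.leaf 0x0))) (.node 26787 (.leaf 0xe0a0a0003) (.node 26788 (.leaf 0x0) (.leaf 0x30106030500040007))))))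

def argWS_2371 : Store := (.node 26766 argWS_2369 argWS_2370)

def argWS_2372 : Store := (.node 26744 argWS_2368 argWS_2371)

def argWS_2373 : Store := (.node 26800 (.node 26794 (.node 26791 (.node 26790 (.leaf 0x0) (.leaf 0xb0001)) (.node 26792 (.leaf 0x0) (.node 26793 (.leaf 0xb0a0002) (.leaf 0x68a80068a7)))) (.node 26797 (.node 26795 (.leaf 0xf0b0a0a0004) (.node 26796 (.leaf 0x0) (.leaf 0xa0f0b0b0004))) (.node 26798 (.leaf 0x0) (.node 26799 (.leaf 0x0) (.leaf 0xe0d0002))))) (.node 26805 (.node 26802 (.node 26801 (.leaf 0xd0b0b0003) (.leaf 0xb0f0002)) (.node 26803 (.leaf 0x68b10068b0) (.node 26804 (.leaf 0xf0b0b0003) (.leaf 0x0)))) (.node 26808 (.node 26806 (.leaf 0xf0b0002) (.node 26807 (.leaf 0x0) (.leaf 0x0))) (.node 26809 (.leaf 0xf0b0002) (.node 26810 (.leaf 0x205070009020007010009) (.leaf 0x0))))))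

def argWS_2374 : Store := (.node 26822 (.node 26816 (.node 26813 (.node 26812 (.leaf 0xa0001) (.leaf 0x0)) (.node 26814 (.leaf 0x68bc005861) (.node 26815 (.leaf 0xb0a0f0003) (.leaf 0x0)))) (.node 26819 (.node 26817 (.leaf 0xf0b0a0003) (.node 26818 (.leaf 0x0) (.leaf 0x0))) (.node 26820 (.leaf 0x4020508020401050008) (.node 26821 (.leaf 0x0) (.leaf 0xb0a0002))))) (.node 26828 (.node 26825 (.node 26823 (.leaf 0x0) (.node 26824 (.leaf 0xf0a0a0003) (.leaf 0xe0d0002))) (.node 26826 (.leaf 0x68c80068c7) (.node 26827 (.leaf 0xb0f0a0003) (.leaf 0x0)))) (.node 26831 (.node 26829 (.leaf 0x3030604000703040103000b) (.node 26830 (.leaf 0x0) (.leaf 0xb0a0002))) (.node 26832 (.leaf 0xb0a0f0003) (.node 26833 (.leaf 0x103010703060202000701000b) (.leaf 0x0))))))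

def argWS_2375 : Store := (.node 26811 argWS_2373 argWS_2374)

def argWS_2376 : Store := (.node 26845 (.node 26839 (.node 26836 (.node 26835 (.leaf 0xf0b0002) (.leaf 0x0)) (.node 26837 (.leaf 0x0) (.node 26838 (.leaf 0x68d40068d3) (.leaf 0x304040005000703040103000b)))) (.node 26842 (.node 26840 (.leaf 0x0) (.node 26841 (.leaf 0xf0b0a0003) (.leaf 0x0))) (.node 26843 (.leaf 0xe0001) (.node 26844 (.leaf 0x0) (.leaf 0x0))))) (.node 26850 (.node 26847 (.node 26846 (.leaf 0xb0f0002) (.leaf 0x4030802020007010009)) (.node 26848 (.leaf 0x0) (.node 26849 (.leaf 0xb0b0a0a0004) (.leaf 0x0)))) (.node 26853 (.node 26851 (.leaf 0x4000300000300000202000701000d) (.node 26852 (.leaf 0x0) (.leaf 0xb0f0a0003))) (.node 26854 (.leaf 0x0) (.node 26855 (.leaf 0x68e50068e1) (.leaf 0xf0b0b0a0a0005))))))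

def argWS_2377 : Store := (.node 26867 (.node 26861 (.node 26858 (.node 26857 (.leaf 0x10202020901060202000701000c) (.leaf 0x0)) (.node 26859 (.leaf 0xa0f0b0003) (.node 26860 (.leaf 0x0) (.leaf 0xb0f0002)))) (.node 26864 (.node 26862 (.leaf 0x68ec) (.node 26863 (.leaf 0x900090806000202000701000c) (.leaf 0x0))) (.node 26865 (.leaf 0xb0f0a0003) (.node 26866 (.leaf 0x0) (.leaf 0x2090102020900000202000701000d))))) (.node 26873 (.node 26870 (.node 26868 (.leaf 0x0) (.node 26869 (.leaf 0xf0001) (.leaf 0x80107030401030007))) (.node 26871 (.leaf 0x0) (.node 26872 (.leaf 0xf0001) (.leaf 0x0)))) (.node 26876 (.node 26874 (.leaf 0x107090806000202000701000b) (.node 26875 (.leaf 0x0) (.leaf 0xe0d0002))) (.node 26877 (.leaf 0x0) (.node 26878 (.leaf 0x68fc) (.leaf 0x605090806000802040105000b))))))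

def argWS_2378 : Store := (.node 26856 argWS_2376 argWS_2377)

def argWS_2379 : Store := (.node 26834 argWS_2375 argWS_2378)

def argWS_2380 : Store := (.node 26789 argWS_2372 argWS_2379)

def argWS_2381 : Store := (.node 26890 (.node 26884 (.node 26881 (.node 26880 (.leaf 0x0) (.leaf 0xb0a0a0003)) (.node 26882 (.leaf 0x0) (.node 26883 (.leaf 0xa0f0002) (.leaf 0x0)))) (.node 26887 (.node 26885 (.leaf 0x0) (.node 26886 (.leaf 0x900090806000802040105000c) (.leaf 0x0))) (.node 26888 (.leaf 0xd0b0002) (.node 26889 (.leaf 0x0) (.leaf 0xb0b0002))))) (.node 26895 (.node 26892 (.node 26891 (.leaf 0x200050206040202000701000b) (.leaf 0x0)) (.node 26893 (.leaf 0xb0a0f0003) (.node 26894 (.leaf 0x0) (.leaf 0x690d006909)))) (.node 26898 (.node 26896 (.leaf 0x702090000090802040105000b) (.node 26897 (.leaf 0x0) (.leaf 0xb0a0002))) (.node 26899 (.leaf 0x0) (.node 26900 (.leaf 0x8000400030306040802040105000d) (.leaf 0x0))))))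

def argWS_2382 : Store := (.node 26912 (.node 26906 (.node 26903 (.node 26902 (.leaf 0xb0001) (.leaf 0xb0b0a0a0004)) (.node 26904 (.leaf 0xa0a0002) (.node 26905 (.leaf 0x6917) (.leaf 0xb0a0f0003)))) (.node 26909 (.node 26907 (.leaf 0x0) (.node 26908 (.leaf 0xe0d0002) (.leaf 0x0))) (.node 26910 (.leaf 0x0) (.node 26911 (.leaf 0xd0b0b0003) (.leaf 0x4ee700691e))))) (.node 26918 (.node 26915 (.node 26913 (.leaf 0xb0001) (.node 26914 (.leaf 0x0) (.leaf 0x30105020604000703040103000c))) (.node 26916 (.leaf 0x0) (.node 26917 (.leaf 0xa0001) (.leaf 0x20403010102000802040105000c)))) (.node 26921 (.node 26919 (.leaf 0x0) (.node 26920 (.leaf 0xf0a0a0003) (.leaf 0x0))) (.node 26922 (.leaf 0x6928) (.node 26923 (.leaf 0x20205020202010202000701000c) (.leaf 0x0))))))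

def argWS_2383 : Store := (.node 26901 argWS_2381 argWS_2382)

def argWS_2384 : Store := (.node 26935 (.node 26929 (.node 26926 (.node 26925 (.leaf 0xe0a0a0003) (.leaf 0x0)) (.node 26927 (.leaf 0x60200020804000802040105000c) (.node 26928 (.leaf 0x0) (.leaf 0xa0001)))) (.node 26932 (.node 26930 (.leaf 0xe0d0002) (.node 26931 (.leaf 0x0) (.leaf 0xb0f0002))) (.node 26933 (.leaf 0xf0b0b0a0a0005) (.node 26934 (.leaf 0xa0f0002) (.leaf 0x6935006934))))) (.node 26940 (.node 26937 (.node 26936 (.leaf 0xf0a0a0003) (.leaf 0x0)) (.node 26938 (.leaf 0xf0b0a0003) (.node 26939 (.leaf 0x0) (.leaf 0x0)))) (.node 26943 (.node 26941 (.leaf 0x60501010904020007) (.node 26942 (.leaf 0x0) (.leaf 0x0))) (.node 26944 (.leaf 0x9020902000703040103000a) (.node 26945 (.leaf 0x0) (.leaf 0xf0a0002))))))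

def argWS_2385 : Store := (.node 26957 (.node 26951 (.node 26948 (.node 26947 (.leaf 0x0) (.leaf 0xf0b0b0a0a0005)) (.node 26949 (.leaf 0x6943006942) (.node 26950 (.leaf 0xd0001) (.leaf 0x0)))) (.node 26954 (.node 26952 (.leaf 0x30402080400000703040103000c) (.node 26953 (.leaf 0x0) (.leaf 0xf0b0a0003))) (.node 26955 (.leaf 0xb0b0002) (.node 26956 (.leaf 0x20601070209020007) (.leaf 0x0))))) (.node 26963 (.node 26960 (.node 26958 (.leaf 0xe0a0002) (.node 26959 (.leaf 0x0) (.leaf 0x694e))) (.node 26961 (.leaf 0x60102070206000007) (.node 26962 (.leaf 0x0) (.leaf 0xb0f0a0003)))) (.node 26966 (.node 26964 (.leaf 0x0) (.node 26965 (.leaf 0xf0b0b0a0a0005) (.leaf 0x0))) (.node 26967 (.leaf 0x0) (.node 26968 (.leaf 0xa0f0b0b0004) (.leaf 0xb0b0002))))))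

def argWS_2386 : Store := (.node 26946 argWS_2384 argWS_2385)

def argWS_2387 : Store := (.node 26924 argWS_2383 argWS_2386)

def argWS_2388 : Store := (.node 26980 (.node 26974 (.node 26971 (.node 26970 (.leaf 0x6958) (.leaf 0x40004020603000703040103000c)) (.node 26972 (.leaf 0x0) (.node 26973 (.leaf 0xa0f0b0003) (.leaf 0x0)))) (.node 26977 (.node 26975 (.leaf 0xf0b0a0a0004) (.node 26976 (.leaf 0x0) (.leaf 0x0))) (.node 26978 (.leaf 0x3040305020202010802040105000d) (.node 26979 (.leaf 0x0) (.leaf 0xf0a0002))))) (.node 26985 (.node 26982 (.node 26981 (.leaf 0x0) (.leaf 0x900020000030703040103000b)) (.node 26983 (.leaf 0x0) (.node 26984 (.leaf 0xd0001) (.leaf 0x0)))) (.node 26988 (.node 26986 (.leaf 0x40406010500020007) (.node 26987 (.leaf 0x0) (.leaf 0xb0a0a0003))) (.node 26989 (.leaf 0x0) (.node 26990 (.leaf 0x696c006968) (.leaf 0x10106030500040007))))))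

def argWS_2389 : Store := (.node 27002 (.node 26996 (.node 26993 (.node 26992 (.leaf 0x0) (.leaf 0xf0001)) (.node 26994 (.leaf 0x0) (.node 26995 (.leaf 0xb0b0002) (.leaf 0x0)))) (.node 26999 (.node 26997 (.leaf 0x0) (.node 26998 (.leaf 0x907000206030802040105000b) (.leaf 0x0))) (.node 27000 (.leaf 0xb0f0002) (.node 27001 (.leaf 0x0) (.leaf 0x622c))))) (.node 27008 (.node 27005 (.node 27003 (.leaf 0xf0001) (.node 27004 (.leaf 0x0) (.leaf 0x90700050206040202000701000c))) (.node 27006 (.leaf 0x0) (.node 27007 (.leaf 0xd0b0b0003) (.leaf 0x202020901090006)))) (.node 27011 (.node 27009 (.leaf 0x0) (.node 27010 (.leaf 0xb0b0a0a0004) (.leaf 0x0))) (.node 27012 (.leaf 0xf0b0b0a0a0005) (.node 27013 (.leaf 0x601080007030401030009) (.leaf 0x0))))))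

def argWS_2390 : Store := (.node 26991 argWS_2388 argWS_2389)

def argWS_2391 : Store := (.node 27025 (.node 27019 (.node 27016 (.node 27015 (.leaf 0xb0f0a0a0004) (.leaf 0x0)) (.node 27017 (.leaf 0x6987006983) (.node 27018 (.leaf 0x4000300090206020802040105000d) (.leaf 0x0)))) (.node 27022 (.node 27020 (.leaf 0xd0001) (.node 27021 (.leaf 0x0) (.leaf 0xf0b0a0003))) (.node 27023 (.leaf 0x0) (.node 27024 (.leaf 0x0) (.leaf 0x6000002020007010008))))) (.node 27031 (.node 27028 (.node 27026 (.leaf 0x0) (.node 27027 (.leaf 0xb0001) (.leaf 0x0))) (.node 27029 (.leaf 0x10306010500020007) (.node 27030 (.leaf 0x0) (.leaf 0xa0f0b0003)))) (.node 27034 (.node 27032 (.leaf 0x0) (.node 27033 (.leaf 0xf0b0b0a0004) (.leaf 0x6998006997))) (.node 27035 (.leaf 0x103010301010200000703040103000e) (.node 27036 (.leaf 0x0) (.leaf 0xf0b0b0a0004))))))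

def argWS_2392 : Store := (.node 27048 (.node 27042 (.node 27039 (.node 27038 (.leaf 0x0) (.leaf 0x60502000003010202000701000c)) (.node 27040 (.leaf 0x0) (.node 27041 (.leaf 0xf0b0a0003) (.leaf 0x204000003010202000701000b)))) (.node 27045 (.node 27043 (.leaf 0x0) (.node 27044 (.leaf 0xb0a0f0003) (.leaf 0x0))) (.node 27046 (.leaf 0x7030007030401030009) (.node 27047 (.leaf 0x0) (.leaf 0xa0001))))) (.node 27054 (.node 27051 (.node 27049 (.leaf 0x0) (.node 27050 (.leaf 0x1a500069a8) (.leaf 0xf0a0a0003))) (.node 27052 (.leaf 0x0) (.node 27053 (.leaf 0xf0001) (.leaf 0x0)))) (.node 27057 (.node 27055 (.leaf 0x0) (.node 27056 (.leaf 0x20902000003010802040105000c) (.leaf 0x0))) (.node 27058 (.leaf 0xb0a0a0003) (.node 27059 (.leaf 0x0) (.leaf 0x50201020901060007))))))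

def argWS_2393 : Store := (.node 27037 argWS_2391 argWS_2392)

def argWS_2394 : Store := (.node 27014 argWS_2390 argWS_2393)

def argWS_2395 : Store := (.node 26969 argWS_2387 argWS_2394)

def argWS_2396 : Store := (.node 26879 argWS_2380 argWS_2395)

def argWS_2397 : Store := (.node 27071 (.node 27065 (.node 27062 (.node 27061 (.leaf 0x0) (.leaf 0xb0b0002)) (.node 27063 (.leaf 0x0) (.node 27064 (.leaf 0x69b6) (.leaf 0x20200020901060802040105000c)))) (.node 27068 (.node 27066 (.leaf 0x0) (.node 27067 (.leaf 0xf0b0a0003) (.leaf 0x0))) (.node 27069 (.leaf 0x0) (.node 27070 (.leaf 0xf0b0002) (.leaf 0x4000207020007010008))))) (.node 27076 (.node 27073 (.node 27072 (.leaf 0x0) (.leaf 0xb0f0002)) (.node 27074 (.leaf 0x0) (.node 27075 (.leaf 0x200070206000802040105000b) (.leaf 0x0)))) (.node 27079 (.node 27077 (.leaf 0xe0d0002) (.node 27078 (.leaf 0x0) (.leaf 0x69c50069c1))) (.node 27080 (.leaf 0xf0a0a0003) (.node 27081 (.leaf 0x0) (.leaf 0x9060401050005))))))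

def argWS_2398 : Store := (.node 27093 (.node 27087 (.node 27084 (.node 27083 (.leaf 0x0) (.leaf 0xb0001)) (.node 27085 (.leaf 0x9010902020007010008) (.node 27086 (.leaf 0x0) (.leaf 0xf0b0a0a0004)))) (.node 27090 (.node 27088 (.leaf 0x0) (.node 27089 (.leaf 0x304090000090006) (.leaf 0x0))) (.node 27091 (.leaf 0xd0b0002) (.node 27092 (.leaf 0x0) (.leaf 0x60400020106060202000701000c))))) (.node 27099 (.node 27096 (.node 27094 (.leaf 0x0) (.node 27095 (.leaf 0xf0a0a0003) (.leaf 0x0))) (.node 27097 (.leaf 0x69d70069d3) (.node 27098 (.leaf 0xd0b0002) (.leaf 0x0)))) (.node 27102 (.node 27100 (.leaf 0xf0a0a0003) (.node 27101 (.leaf 0x0) (.leaf 0x0))) (.node 27103 (.leaf 0xd0001) (.node 27104 (.leaf 0x60500090206020202000701000c) (.leaf 0x0))))))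

def argWS_2399 : Store := (.node 27082 argWS_2397 argWS_2398)

def argWS_2400 : Store := (.node 27116 (.node 27110 (.node 27107 (.node 27106 (.leaf 0xe0d0002) (.leaf 0x0)) (.node 27108 (.leaf 0x69e2) (.node 27109 (.leaf 0xb0a0a0003) (.leaf 0x0)))) (.node 27113 (.node 27111 (.leaf 0xf0001) (.node 27112 (.leaf 0x0) (.leaf 0x0))) (.node 27114 (.leaf 0x109030901090006) (.node 27115 (.leaf 0x0) (.leaf 0x0))))) (.node 27121 (.node 27118 (.node 27117 (.leaf 0x20400050005) (.leaf 0x0)) (.node 27119 (.leaf 0xf0a0002) (.node 27120 (.leaf 0x0) (.leaf 0x69ef)))) (.node 27124 (.node 27122 (.leaf 0x5030900090202000701000b) (.node 27123 (.leaf 0x0) (.leaf 0xf0a0a0003))) (.node 27125 (.leaf 0x0) (.node 27126 (.leaf 0x3040109000009000703040103000d) (.leaf 0x0))))))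

def argWS_2401 : Store := (.node 27138 (.node 27132 (.node 27129 (.node 27128 (.leaf 0xf0b0b0a0004) (.leaf 0x905010606000703040103000b)) (.node 27130 (.leaf 0x0) (.node 27131 (.leaf 0xb0b0a0003) (.leaf 0x0)))) (.node 27135 (.node 27133 (.leaf 0x70000090000090007) (.node 27134 (.leaf 0x0) (.leaf 0xf0a0a0003))) (.node 27136 (.leaf 0x0) (.node 27137 (.leaf 0x69ff0069fb) (.leaf 0x400090206020802040105000c))))) (.node 27144 (.node 27141 (.node 27139 (.leaf 0x0) (.node 27140 (.leaf 0xb0001) (.leaf 0x0))) (.node 27142 (.leaf 0x6010207030802040105000a) (.node 27143 (.leaf 0x0) (.leaf 0xf0b0b0a0004)))) (.node 27147 (.node 27145 (.leaf 0xa0f0b0003) (.node 27146 (.leaf 0x0) (.leaf 0x2020108020401050008))) (.node 27148 (.leaf 0x0) (.node 27149 (.leaf 0xf0b0a0003) (.leaf 0x0))))))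

def argWS_2402 : Store := (.node 27127 argWS_2400 argWS_2401)

def argWS_2403 : Store := (.node 27105 argWS_2399 argWS_2402)

def argWS_2404 : Store := (.node 27161 (.node 27155 (.node 27152 (.node 27151 (.leaf 0x10301060207020703040103000c) (.leaf 0x0)) (.node 27153 (.leaf 0xf0001) (.node 27154 (.leaf 0x0) (.leaf 0x6a11)))) (.node 27158 (.node 27156 (.leaf 0x1050205020202010802040105000d) (.node 27157 (.leaf 0x0) (.leaf 0xf0b0002))) (.node 27159 (.leaf 0x0) (.node 27160 (.leaf 0x0) (.leaf 0xd0b0002))))) (.node 27166 (.node 27163 (.node 27162 (.leaf 0xf0b0a0003) (.leaf 0x40205090806000007)) (.node 27164 (.leaf 0x0) (.node 27165 (.leaf 0xb0f0002) (.leaf 0x0)))) (.node 27169 (.node 27167 (.leaf 0x6a1d006a19) (.node 27168 (.leaf 0x2090103010102000802040105000d) (.leaf 0x0))) (.node 27170 (.leaf 0xa0f0b0003) (.node 27171 (.leaf 0x0) (.leaf 0x90000090006))))))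

def argWS_2405 : Store := (.node 27183 (.node 27177 (.node 27174 (.node 27173 (.leaf 0x0) (.leaf 0xd0001)) (.node 27175 (.leaf 0x6010201020000030703040103000d) (.node 27176 (.leaf 0x0) (.leaf 0xf0b0b0a0004)))) (.node 27180 (.node 27178 (.leaf 0x0) (.node 27179 (.leaf 0xb0a0f0003) (.leaf 0x1040000000300000202000701000d))) (.node 27181 (.leaf 0x0) (.node 27182 (.leaf 0xa0001) (.leaf 0x0))))) (.node 27189 (.node 27186 (.node 27184 (.leaf 0x6a2e006a2a) (.node 27185 (.leaf 0xa0001) (.leaf 0x0))) (.node 27187 (.leaf 0xf0b0b0a0a0005) (.node 27188 (.leaf 0x0) (.leaf 0x0)))) (.node 27192 (.node 27190 (.leaf 0xd0b0b0003) (.node 27191 (.leaf 0x6000002080400000703040103000d) (.leaf 0x0))) (.node 27193 (.leaf 0xd0b0b0003) (.node 27194 (.leaf 0x0) (.leaf 0x5020703060802040105000a))))))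

def argWS_2406 : Store := (.node 27172 argWS_2404 argWS_2405)

def argWS_2407 : Store := (.node 27206 (.node 27200 (.node 27197 (.node 27196 (.leaf 0x0) (.leaf 0xb0b0002)) (.node 27198 (.leaf 0x0) (.node 27199 (.leaf 0x6a3d006a39) (.leaf 0xb0b0a0003)))) (.node 27203 (.node 27201 (.leaf 0x0) (.node 27202 (.leaf 0x6010908050202000701000b) (.leaf 0x0))) (.node 27204 (.leaf 0x3040107000903000703040103000d) (.node 27205 (.leaf 0x0) (.leaf 0xa0f0b0003))))) (.node 27211 (.node 27208 (.node 27207 (.leaf 0x0) (.leaf 0x20901090806000007)) (.node 27209 (.leaf 0x0) (.node 27210 (.leaf 0xe0d0002) (.leaf 0x0)))) (.node 27214 (.node 27212 (.leaf 0x6a4a) (.node 27213 (.leaf 0xd0b0002) (.leaf 0x0))) (.node 27215 (.leaf 0x60601070009030007) (.node 27216 (.leaf 0x0) (.leaf 0xe0d0002))))))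

def argWS_2408 : Store := (.node 27228 (.node 27222 (.node 27219 (.node 27218 (.leaf 0xa0001) (.leaf 0x90005020202010202000701000c)) (.node 27220 (.leaf 0x0) (.node 27221 (.leaf 0xd0001) (.leaf 0x0)))) (.node 27225 (.node 27223 (.leaf 0x103040807030401030009) (.node 27224 (.leaf 0x0) (.leaf 0xb0001))) (.node 27226 (.leaf 0x0) (.node 27227 (.leaf 0x6a59006a55) (.leaf 0x30708020401050007))))) (.node 27234 (.node 27231 (.node 27229 (.leaf 0x0) (.node 27230 (.leaf 0xe0a0002) (.leaf 0x0))) (.node 27232 (.leaf 0x2010500020202000701000a) (.node 27233 (.leaf 0x0) (.leaf 0xf0b0b0003)))) (.node 27237 (.node 27235 (.leaf 0x20606020702010202000701000c) (.node 27236 (.leaf 0x0) (.leaf 0xb0a0a0003))) (.node 27238 (.leaf 0x0) (.node 27239 (.leaf 0xb0a0002) (.leaf 0xb0f0a0003))))))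

def argWS_2409 : Store := (.node 27217 argWS_2407 argWS_2408)

def argWS_2410 : Store := (.node 27195 argWS_2406 argWS_2409)

def argWS_2411 : Store := (.node 27150 argWS_2403 argWS_2410)

def argWS_2412 : Store := (.node 27251 (.node 27245 (.node 27242 (.node 27241 (.leaf 0x6a67006a66) (.leaf 0x403010703060006)) (.node 27243 (.leaf 0x0) (.node 27244 (.leaf 0xd0b0002) (.leaf 0x0)))) (.node 27248 (.node 27246 (.leaf 0xb0a0002) (.node 27247 (.leaf 0x0) (.leaf 0x0))) (.node 27249 (.leaf 0x602010206030006) (.node 27250 (.leaf 0x0) (.leaf 0xb0a0002))))) (.node 27256 (.node 27253 (.node 27252 (.leaf 0x0) (.leaf 0x8000401090805000703040103000d)) (.node 27254 (.leaf 0x0) (.node 27255 (.leaf 0xb0b0a0a0004) (.leaf 0x0)))) (.node 27259 (.node 27257 (.leaf 0xe0a0002) (.node 27258 (.leaf 0x6a78006a77) (.leaf 0xb0f0002))) (.node 27260 (.leaf 0x0) (.node 27261 (.leaf 0xd0001) (.leaf 0x0))))))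

def argWS_2413 : Store := (.node 27273 (.node 27267 (.node 27264 (.node 27263 (.leaf 0x0) (.leaf 0x2000400050802040105000b)) (.node 27265 (.leaf 0x0) (.node 27266 (.leaf 0xf0b0b0a0a0005) (.leaf 0x0)))) (.node 27270 (.node 27268 (.leaf 0xb0001) (.node 27269 (.leaf 0xa0f0b0003) (.leaf 0x6a84006a83))) (.node 27271 (.leaf 0xf0b0b0003) (.node 27272 (.leaf 0x0) (.leaf 0x40300090000090007))))) (.node 27279 (.node 27276 (.node 27274 (.leaf 0x0) (.node 27275 (.leaf 0xf0b0a0003) (.leaf 0x102090000000703040103000b))) (.node 27277 (.leaf 0x0) (.node 27278 (.leaf 0xb0001) (.leaf 0x0)))) (.node 27282 (.node 27280 (.leaf 0x400020603000703040103000c) (.node 27281 (.leaf 0x0) (.leaf 0xa0f0002))) (.node 27283 (.leaf 0x0) (.node 27284 (.leaf 0x705010703060202000701000b) (.leaf 0x0))))))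

def argWS_2414 : Store := (.node 27262 argWS_2412 argWS_2413)

def argWS_2415 : Store := (.node 27296 (.node 27290 (.node 27287 (.node 27286 (.leaf 0xf0b0a0003) (.leaf 0x0)) (.node 27288 (.leaf 0x6a96006a92) (.node 27289 (.leaf 0xb0b0a0003) (.leaf 0x0)))) (.node 27293 (.node 27291 (.leaf 0xa0001) (.node 27292 (.leaf 0x0) (.leaf 0x0))) (.node 27294 (.leaf 0xb0b0a0003) (.node 27295 (.leaf 0x40004000408010007) (.leaf 0x0))))) (.node 27301 (.node 27298 (.node 27297 (.leaf 0xb0b0002) (.leaf 0x0)) (.node 27299 (.leaf 0x6aa1) (.node 27300 (.leaf 0x7030506030500040008) (.leaf 0x0)))) (.node 27304 (.node 27302 (.leaf 0xa0f0b0003) (.node 27303 (.leaf 0x0) (.leaf 0x105020004080703040103000b))) (.node 27305 (.leaf 0x0) (.node 27306 (.leaf 0xf0a0a0003) (.leaf 0xd0b0002))))))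

def argWS_2416 : Store := (.node 27318 (.node 27312 (.node 27309 (.node 27308 (.leaf 0x5010908050802040105000a) (.leaf 0x0)) (.node 27310 (.leaf 0x0) (.node 27311 (.leaf 0xd0b0b0003) (.leaf 0x6aae006aad)))) (.node 27315 (.node 27313 (.leaf 0xa0a0002) (.node 27314 (.leaf 0x0) (.leaf 0x601020901060006))) (.node 27316 (.leaf 0x0) (.node 27317 (.leaf 0xf0b0b0a0004) (.leaf 0x90600030306040802040105000c))))) (.node 27324 (.node 27321 (.node 27319 (.leaf 0x0) (.node 27320 (.leaf 0xb0a0002) (.leaf 0x0))) (.node 27322 (.leaf 0x701020901060802040105000b) (.node 27323 (.leaf 0x0) (.leaf 0xb0f0002)))) (.node 27327 (.node 27325 (.leaf 0x0) (.node 27326 (.leaf 0x4010703060202000701000a) (.leaf 0x0))) (.node 27328 (.leaf 0xb0f0a0a0004) (.node 27329 (.leaf 0x0) (.leaf 0x6ac0006abc))))))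

def argWS_2417 : Store := (.node 27307 argWS_2415 argWS_2416)

def argWS_2418 : Store := (.node 27285 argWS_2414 argWS_2417)

def argWS_2419 : Store := (.node 27341 (.node 27335 (.node 27332 (.node 27331 (.leaf 0xa0f0b0003) (.leaf 0x0)) (.node 27333 (.leaf 0x1030003010102000202000701000d) (.node 27334 (.leaf 0x0) (.leaf 0xa0f0b0b0004)))) (.node 27338 (.node 27336 (.leaf 0xb0f0a0003) (.node 27337 (.leaf 0x200020000030000000703040103000e) (.leaf 0x0))) (.node 27339 (.leaf 0xf0b0a0a0004) (.node 27340 (.leaf 0x0) (.leaf 0x306020702010007))))) (.node 27346 (.node 27343 (.node 27342 (.leaf 0x0) (.leaf 0xb0a0f0003)) (.node 27344 (.leaf 0x0) (.node 27345 (.leaf 0x6acf) (.leaf 0xe0a0a0003)))) (.node 27349 (.node 27347 (.leaf 0x0) (.node 27348 (.leaf 0xf0b0b0a0a0005) (.leaf 0x0))) (.node 27350 (.leaf 0x0) (.node 27351 (.leaf 0xa0a0002) (.leaf 0x400000408010802040105000c))))))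

def argWS_2420 : Store := (.node 27363 (.node 27357 (.node 27354 (.node 27353 (.leaf 0x0) (.leaf 0xa0a0002)) (.node 27355 (.leaf 0x0) (.node 27356 (.leaf 0x1090300020804000202000701000d) (.leaf 0x0)))) (.node 27360 (.node 27358 (.leaf 0xf0b0002) (.node 27359 (.leaf 0x0) (.leaf 0x6ade006ada))) (.node 27361 (.leaf 0xf0b0b0003) (.node 27362 (.leaf 0x0) (.leaf 0x0))))) (.node 27369 (.node 27366 (.node 27364 (.leaf 0x903070009020007010009) (.node 27365 (.leaf 0x0) (.leaf 0xf0a0002))) (.node 27367 (.leaf 0x0) (.node 27368 (.leaf 0xa0a0002) (.leaf 0x9070207020007010008)))) (.node 27372 (.node 27370 (.leaf 0x0) (.node 27371 (.leaf 0xf0b0a0a0004) (.leaf 0x0))) (.node 27373 (.leaf 0x6aeb006ae7) (.node 27374 (.leaf 0x70500000300000802040105000c) (.leaf 0x0))))))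

def argWS_2421 : Store := (.node 27352 argWS_2419 argWS_2420)

def argWS_2422 : Store := (.node 27386 (.node 27380 (.node 27377 (.node 27376 (.leaf 0xf0a0002) (.leaf 0x0)) (.node 27378 (.leaf 0x503050000030000000703040103000e) (.node 27379 (.leaf 0x0) (.leaf 0xb0f0002)))) (.node 27383 (.node 27381 (.leaf 0xb0f0a0003) (.node 27382 (.leaf 0x304030400050006) (.leaf 0x0))) (.node 27384 (.leaf 0xe0001) (.node 27385 (.leaf 0x0) (.leaf 0x6af8))))) (.node 27392 (.node 27389 (.node 27387 (.leaf 0x8000206040802040105000a) (.node 27388 (.leaf 0x0) (.leaf 0xe0a0a0003))) (.node 27390 (.leaf 0x0) (.node 27391 (.leaf 0xb0a0002) (.leaf 0x0)))) (.node 27395 (.node 27393 (.leaf 0x0) (.node 27394 (.leaf 0xe0d0002) (.leaf 0x40006030500040802040105000d))) (.node 27396 (.leaf 0x0) (.node 27397 (.leaf 0xf0a0002) (.leaf 0x0))))))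

def argWS_2423 : Store := (.node 27409 (.node 27403 (.node 27400 (.node 27399 (.leaf 0xd0b0002) (.leaf 0x6b06006b05)) (.node 27401 (.leaf 0x600020603000703040103000b) (.node 27402 (.leaf 0x0) (.leaf 0xa0f0b0003)))) (.node 27406 (.node 27404 (.leaf 0x0) (.node 27405 (.leaf 0x101020008020401050009) (.leaf 0x0))) (.node 27407 (.leaf 0xf0b0b0003) (.node 27408 (.leaf 0xa0001) (.leaf 0x6040006020702010008))))) (.node 27415 (.node 27412 (.node 27410 (.leaf 0x0) (.node 27411 (.leaf 0xe0d0002) (.leaf 0x0))) (.node 27413 (.leaf 0x20403010102000007) (.node 27414 (.leaf 0x0) (.leaf 0xf0b0b0a0a0005)))) (.node 27418 (.node 27416 (.leaf 0x0) (.node 27417 (.leaf 0x6b17006b13) (.leaf 0xe0a0a0003))) (.node 27419 (.leaf 0x0) (.node 27420 (.leaf 0xa0001) (.leaf 0x0))))))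

def argWS_2424 : Store := (.node 27398 argWS_2422 argWS_2423)

def argWS_2425 : Store := (.node 27375 argWS_2421 argWS_2424)

def argWS_2426 : Store := (.node 27330 argWS_2418 argWS_2425)

def argWS_2427 : Store := (.node 27240 argWS_2411 argWS_2426)

def argWS_2428 : Store := (.node 27060 argWS_2396 argWS_2427)

def argWS_2429 : Store := (.node 26699 argWS_2365 argWS_2428)

def argWS_2430 : Store := (.node 27432 (.node 27426 (.node 27423 (.node 27422 (.leaf 0x0) (.leaf 0x4030006010500020202000701000d)) (.node 27424 (.leaf 0x0) (.node 27425 (.leaf 0xd0b0002) (.leaf 0x0)))) (.node 27429 (.node 27427 (.leaf 0x1070703060202000701000a) (.node 27428 (.leaf 0x0) (.leaf 0xa0f0b0b0004))) (.node 27430 (.leaf 0x0) (.node 27431 (.leaf 0xf0b0b0a0a0005) (.leaf 0x6b26006b25))))) (.node 27437 (.node 27434 (.node 27433 (.leaf 0x2000904020202000701000a) (.leaf 0x0)) (.node 27435 (.leaf 0xb0f0002) (.node 27436 (.leaf 0x0) (.leaf 0xd0b0002)))) (.node 27440 (.node 27438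 (.leaf 0x0) (.node 27439 (.leaf 0x0) (.leaf 0xb0b0002))) (.node 27441 (.leaf 0x5862) (.node 27442 (.leaf 0x602000003010006) (.leaf 0x0))))))

def argWS_2431 : Store := (.node 27454 (.node 27448 (.node 27445 (.node 27444 (.leaf 0xf0b0a0003) (.leaf 0x0)) (.node 27446 (.leaf 0xb0b0a0a0004) (.node 27447 (.leaf 0x0) (.leaf 0x0)))) (.node 27451 (.node 27449 (.leaf 0xd0b0002) (.node 27450 (.leaf 0xf0b0b0a0004) (.leaf 0x6b39))) (.node 27452 (.leaf 0xa0f0b0003) (.node 27453 (.leaf 0x0) (.leaf 0xe0d0002))))) (.node 27460 (.node 27457 (.node 27455 (.leaf 0x0) (.node 27456 (.leaf 0x0) (.leaf 0xf0001))) (.node 27458 (.leaf 0xf0b0b0003) (.node 27459 (.leaf 0x40206020007010007) (.leaf 0x0)))) (.node 27463 (.node 27461 (.leaf 0xa0f0002) (.node 27462 (.leaf 0x0) (.leaf 0x6b45006b41))) (.node 27464 (.leaf 0x10407020902000703040103000c) (.node 27465 (.leaf 0x0) (.leaf 0xb0f0a0a0004))))))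

def argWS_2432 : Store := (.node 27443 argWS_2430 argWS_2431)

def argWS_2433 : Store := (.node 27477 (.node 27471 (.node 27468 (.node 27467 (.leaf 0x0) (.leaf 0xf0b0b0a0004)) (.node 27469 (.leaf 0x0) (.node 27470 (.leaf 0x0) (.leaf 0xb0f0002)))) (.node 27474 (.node 27472 (.leaf 0xb0a0002) (.node 27473 (.leaf 0x3f25006b4f) (.leaf 0xb0001))) (.node 27475 (.leaf 0x0) (.node 27476 (.leaf 0xb0b0a0a0004) (.leaf 0x0))))) (.node 27482 (.node 27479 (.node 27478 (.leaf 0x0) (.leaf 0x30109000009000703040103000c)) (.node 27480 (.leaf 0x0) (.node 27481 (.leaf 0xe0001) (.leaf 0x0)))) (.node 27485 (.node 27483 (.leaf 0xb0a0002) (.node 27484 (.leaf 0xa0001) (.leaf 0x6b5b006b5a))) (.node 27486 (.leaf 0x60102050206040802040105000c) (.node 27487 (.leaf 0x0) (.leaf 0xf0b0a0a0004))))))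

def argWS_2434 : Store := (.node 27499 (.node 27493 (.node 27490 (.node 27489 (.leaf 0x0) (.leaf 0x2000400050802040105000b)) (.node 27491 (.leaf 0x0) (.node 27492 (.leaf 0xf0b0b0a0a0005) (.leaf 0xd0b0002)))) (.node 27496 (.node 27494 (.leaf 0xf0a0a0003) (.node 27495 (.leaf 0xb0b0a0a0004) (.leaf 0x0))) (.node 27497 (.leaf 0x6b67006b65) (.node 27498 (.leaf 0xb0b0a0003) (.leaf 0x0))))) (.node 27505 (.node 27502 (.node 27500 (.leaf 0x0) (.node 27501 (.leaf 0xf0b0a0003) (.leaf 0x605030802020007010009))) (.node 27503 (.leaf 0x0) (.node 27504 (.leaf 0xf0a0002) (.leaf 0x0)))) (.node 27508 (.node 27506 (.leaf 0x6b70) (.node 27507 (.leaf 0x90700030306040202000701000c) (.leaf 0x0))) (.node 27509 (.leaf 0xb0a0f0003) (.node 27510 (.leaf 0x20403080004) (.leaf 0x0))))))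

def argWS_2435 : Store := (.node 27488 argWS_2433 argWS_2434)

def argWS_2436 : Store := (.node 27466 argWS_2432 argWS_2435)

def argWS_2437 : Store := (.node 27522 (.node 27516 (.node 27513 (.node 27512 (.leaf 0xf0001) (.leaf 0x0)) (.node 27514 (.leaf 0x7000002090106000703040103000d) (.node 27515 (.leaf 0x0) (.leaf 0xd0b0002)))) (.node 27519 (.node 27517 (.leaf 0x0) (.node 27518 (.leaf 0xe0a0a0003) (.leaf 0x6b7d006b7c))) (.node 27520 (.leaf 0x90806000005) (.node 27521 (.leaf 0x0) (.leaf 0xf0a0002))))) (.node 27527 (.node 27524 (.node 27523 (.leaf 0x0) (.leaf 0xe0a0002)) (.node 27525 (.leaf 0x0) (.node 27526 (.leaf 0x0) (.leaf 0x80101070206000007)))) (.node 27530 (.node 27528 (.leaf 0x0) (.node 27529 (.leaf 0xa0a0002) (.leaf 0x0))) (.node 27531 (.leaf 0x902010901090802040105000b) (.node 27532 (.leaf 0x0) (.leaf 0x0))))))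

def argWS_2438 : Store := (.node 27544 (.node 27538 (.node 27535 (.node 27534 (.leaf 0x23bd006b8c) (.leaf 0xd0001)) (.node 27536 (.leaf 0x0) (.node 27537 (.leaf 0x802000901090202000701000b) (.leaf 0x0)))) (.node 27541 (.node 27539 (.leaf 0xe0d0002) (.node 27540 (.leaf 0xb0001) (.leaf 0x10502050206040007))) (.node 27542 (.leaf 0x0) (.node 27543 (.leaf 0xf0b0002) (.leaf 0x0))))) (.node 27550 (.node 27547 (.node 27545 (.leaf 0xf0b0b0003) (.node 27546 (.leaf 0x6b98006b97) (.leaf 0x6010202080400000703040103000d))) (.node 27548 (.leaf 0x0) (.node 27549 (.leaf 0xb0f0a0a0004) (.leaf 0x0)))) (.node 27553 (.node 27551 (.leaf 0x90000090802040105000b) (.node 27552 (.leaf 0x0) (.leaf 0xa0001))) (.node 27554 (.leaf 0x90603010102000007) (.node 27555 (.leaf 0x0) (.leaf 0xf0a0a0003))))))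

def argWS_2439 : Store := (.node 27533 argWS_2437 argWS_2438)

def argWS_2440 : Store := (.node 27567 (.node 27561 (.node 27558 (.node 27557 (.leaf 0x0) (.leaf 0x30700000300000802040105000c)) (.node 27559 (.leaf 0x0) (.node 27560 (.leaf 0xb0f0a0003) (.leaf 0x0)))) (.node 27564 (.node 27562 (.leaf 0x6ba8) (.node 27563 (.leaf 0x400000300000007) (.leaf 0x0))) (.node 27565 (.leaf 0xb0b0a0003) (.node 27566 (.leaf 0x0) (.leaf 0x901040900090202000701000b))))) (.node 27572 (.node 27569 (.node 27568 (.leaf 0x0) (.leaf 0xf0a0a0003)) (.node 27570 (.leaf 0xa0f0b0b0004) (.node 27571 (.leaf 0x404020106060006) (.leaf 0x0)))) (.node 27575 (.node 27573 (.leaf 0xb0b0002) (.node 27574 (.leaf 0x0) (.leaf 0x6bb5006bb1))) (.node 27576 (.leaf 0xb0001) (.node 27577 (.leaf 0x0) (.leaf 0x0))))))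

def argWS_2441 : Store := (.node 27589 (.node 27583 (.node 27580 (.node 27579 (.leaf 0x204030900090202000701000b) (.leaf 0x0)) (.node 27581 (.leaf 0xe0d0002) (.node 27582 (.leaf 0x0) (.leaf 0xf0001)))) (.node 27586 (.node 27584 (.leaf 0x6bbe) (.node 27585 (.leaf 0xf0b0b0a0a0005) (.leaf 0x0))) (.node 27587 (.leaf 0xe0001) (.node 27588 (.leaf 0x0) (.leaf 0x0))))) (.node 27595 (.node 27592 (.node 27590 (.leaf 0x305070206000202000701000b) (.node 27591 (.leaf 0x0) (.leaf 0xa0f0b0003))) (.node 27593 (.leaf 0x0) (.node 27594 (.leaf 0x4030900090202000701000a) (.leaf 0x0)))) (.node 27598 (.node 27596 (.leaf 0xe0a0002) (.node 27597 (.leaf 0x0) (.leaf 0x6bcc))) (.node 27599 (.leaf 0x60505020202010802040105000c) (.node 27600 (.leaf 0x0) (.leaf 0xd0001))))))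

def argWS_2442 : Store := (.node 27578 argWS_2440 argWS_2441)

def argWS_2443 : Store := (.node 27556 argWS_2439 argWS_2442)

def argWS_2444 : Store := (.node 27511 argWS_2436 argWS_2443)

def argWS_2445 : Store := (.node 27612 (.node 27606 (.node 27603 (.node 27602 (.leaf 0x0) (.leaf 0x0)) (.node 27604 (.leaf 0xa0a0002) (.node 27605 (.leaf 0x4000007030401030009) (.leaf 0x0)))) (.node 27609 (.node 27607 (.leaf 0xf0b0002) (.node 27608 (.leaf 0x0) (.leaf 0x6bd7))) (.node 27610 (.leaf 0xb0f0a0a0004) (.node 27611 (.leaf 0x0) (.leaf 0x20000070209020802040105000c))))) (.node 27617 (.node 27614 (.node 27613 (.leaf 0x0) (.leaf 0x30306020702010802040105000c)) (.node 27615 (.leaf 0x0) (.node 27616 (.leaf 0xb0a0002) (.leaf 0x0)))) (.node 27620 (.node 27618 (.leaf 0x2060207020007010008) (.node 27619 (.leaf 0x0) (.leaf 0x0))) (.node 27621 (.leaf 0x6be3001f13) (.node 27622 (.leaf 0xa0f0b0003) (.leaf 0x0))))))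

def argWS_2446 : Store := (.node 27634 (.node 27628 (.node 27625 (.node 27624 (.leaf 0xa0a0002) (.leaf 0x0)) (.node 27626 (.leaf 0x0) (.node 27627 (.leaf 0x107090000090202000701000b) (.leaf 0x0)))) (.node 27631 (.node 27629 (.leaf 0xb0b0a0003) (.node 27630 (.leaf 0x0) (.leaf 0x403010703060202000701000b))) (.node 27632 (.leaf 0x0) (.node 27633 (.leaf 0xb0b0a0003) (.leaf 0x0))))) (.node 27640 (.node 27637 (.node 27635 (.leaf 0x1d1e006bf1) (.node 27636 (.leaf 0x4030401050005) (.leaf 0x0))) (.node 27638 (.leaf 0xa0f0b0003) (.node 27639 (.leaf 0x0) (.leaf 0xa0f0002)))) (.node 27643 (.node 27641 (.leaf 0x0) (.node 27642 (.leaf 0x0) (.leaf 0xd0b0b0003))) (.node 27644 (.leaf 0xb0f0a0003) (.node 27645 (.leaf 0xf0a0a0003) (.leaf 0x6bfc006bfb))))))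

def argWS_2447 : Store := (.node 27623 argWS_2445 argWS_2446)

def argWS_2448 : Store := (.node 27657 (.node 27651 (.node 27648 (.node 27647 (.leaf 0xa0f0002) (.leaf 0x0)) (.node 27649 (.leaf 0x6010208020401050008) (.node 27650 (.leaf 0x0) (.leaf 0xb0a0a0003)))) (.node 27654 (.node 27652 (.leaf 0xa0f0002) (.node 27653 (.leaf 0x40003000408010202000701000c) (.leaf 0x0))) (.node 27655 (.leaf 0xd0b0002) (.node 27656 (.leaf 0x0) (.leaf 0x701010301010200000703040103000e))))) (.node 27662 (.node 27659 (.node 27658 (.leaf 0x0) (.leaf 0xe0a0a0003)) (.node 27660 (.leaf 0x0) (.node 27661 (.leaf 0x6c0b006c07) (.leaf 0x2050200090206020202000701000d)))) (.node 27665 (.node 27663 (.leaf 0x0) (.node 27664 (.leaf 0xa0f0002) (.leaf 0x0))) (.node 27666 (.leaf 0xf0b0b0003) (.node 27667 (.leaf 0x0) (.leaf 0x0))))))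

def argWS_2449 : Store := (.node 27679 (.node 27673 (.node 27670 (.node 27669 (.leaf 0xb0b0a0a0004) (.leaf 0xf0b0b0a0004)) (.node 27671 (.leaf 0xd0b0b0003) (.node 27672 (.leaf 0x6c16006c15) (.leaf 0x5030506010500020008)))) (.node 27676 (.node 27674 (.leaf 0x0) (.node 27675 (.leaf 0xd0b0b0003) (.leaf 0x0))) (.node 27677 (.leaf 0xa0f0002) (.node 27678 (.leaf 0x0) (.leaf 0x0))))) (.node 27685 (.node 27682 (.node 27680 (.leaf 0x70500020804000202000701000c) (.node 27681 (.leaf 0x0) (.leaf 0xd0b0002))) (.node 27683 (.leaf 0x0) (.node 27684 (.leaf 0x601020206030802040105000b) (.leaf 0x0)))) (.node 27688 (.node 27686 (.leaf 0xa0001) (.node 27687 (.leaf 0x0) (.leaf 0x6c26))) (.node 27689 (.leaf 0x201070209020802040105000b) (.node 27690 (.leaf 0x0) (.leaf 0xd0b0b0003))))))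

def argWS_2450 : Store := (.node 27668 argWS_2448 argWS_2449)

def argWS_2451 : Store := (.node 27646 argWS_2447 argWS_2450)

def argWS_2452 : Store := (.node 27702 (.node 27696 (.node 27693 (.node 27692 (.leaf 0x0) (.leaf 0x6000207030005)) (.node 27694 (.leaf 0x0) (.node 27695 (.leaf 0xf0b0002) (.leaf 0xb0a0f0003)))) (.node 27699 (.node 27697 (.leaf 0xa0f0b0b0004) (.node 27698 (.leaf 0x0) (.leaf 0x6c31006bfa))) (.node 27700 (.leaf 0xb0b0a0003) (.node 27701 (.leaf 0x0) (.leaf 0x206010500020202000701000b))))) (.node 27707 (.node 27704 (.node 27703 (.leaf 0x0) (.leaf 0xb0a0002)) (.node 27705 (.leaf 0xa0a0002) (.node 27706 (.leaf 0xb0a0f0003) (.leaf 0x6000900090802040105000b)))) (.node 27710 (.node 27708 (.leaf 0x0) (.node 27709 (.leaf 0xb0a0002) (.leaf 0x0))) (.node 27711 (.leaf 0x6c3d006c39) (.node 27712 (.leaf 0x80002010606000703040103000c) (.leaf 0x0))))))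

def argWS_2453 : Store := (.node 27724 (.node 27718 (.node 27715 (.node 27714 (.leaf 0xb0f0a0003) (.leaf 0x0)) (.node 27716 (.leaf 0xf0001) (.node 27717 (.leaf 0x0) (.leaf 0x0)))) (.node 27721 (.node 27719 (.leaf 0x1030000000300000802040105000d) (.node 27720 (.leaf 0x0) (.leaf 0xf0b0b0003))) (.node 27722 (.leaf 0x0) (.node 27723 (.leaf 0x70009000009000703040103000c) (.leaf 0x0))))) (.node 27730 (.node 27727 (.node 27725 (.leaf 0x0) (.node 27726 (.leaf 0x6c4c001616) (.leaf 0x80300020106060007))) (.node 27728 (.leaf 0x0) (.node 27729 (.leaf 0xd0b0b0003) (.leaf 0x0)))) (.node 27733 (.node 27731 (.leaf 0xd0001) (.node 27732 (.leaf 0x0) (.leaf 0x0))) (.node 27734 (.leaf 0xf0b0a0003) (.node 27735 (.leaf 0xf0b0002) (.leaf 0xa0f0002))))))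

def argWS_2454 : Store := (.node 27713 argWS_2452 argWS_2453)

def argWS_2455 : Store := (.node 27747 (.node 27741 (.node 27738 (.node 27737 (.leaf 0x6c57006c56) (.leaf 0xf0b0002)) (.node 27739 (.leaf 0x0) (.node 27740 (.leaf 0x406030007030401030009) (.leaf 0x0)))) (.node 27744 (.node 27742 (.leaf 0xf0b0b0a0a0005) (.node 27743 (.leaf 0x200000408010802040105000b) (.leaf 0x0))) (.node 27745 (.leaf 0x0) (.node 27746 (.leaf 0xb0b0002) (.leaf 0x6c61006c60))))) (.node 27753 (.node 27750 (.node 27748 (.leaf 0x80000090009000703040103000c) (.node 27749 (.leaf 0x0) (.leaf 0xb0a0a0003))) (.node 27751 (.leaf 0x0) (.node 27752 (.leaf 0x207020108020401050009) (.leaf 0x0)))) (.node 27756 (.node 27754 (.leaf 0xe0a0a0003) (.node 27755 (.leaf 0xf0a0a0003) (.leaf 0x6c6a00164b))) (.node 27757 (.leaf 0xb0b0a0a0004) (.node 27758 (.leaf 0x0) (.leaf 0x902000003010802040105000b))))))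

def argWS_2456 : Store := (.node 27770 (.node 27764 (.node 27761 (.node 27760 (.leaf 0x0) (.leaf 0xa0f0002)) (.node 27762 (.leaf 0x80006010500020802040105000c) (.node 27763 (.leaf 0x0) (.leaf 0xb0a0f0003)))) (.node 27767 (.node 27765 (.leaf 0x0) (.node 27766 (.leaf 0x6040106010500020802040105000d) (.leaf 0x0))) (.node 27768 (.leaf 0xa0f0b0b0004) (.node 27769 (.leaf 0x0) (.leaf 0x40d8006c78))))) (.node 27776 (.node 27773 (.node 27771 (.leaf 0x9020105020202010008) (.node 27772 (.leaf 0x0) (.leaf 0xb0b0a0a0004))) (.node 27774 (.leaf 0x0) (.node 27775 (.leaf 0xf0a0a0003) (.leaf 0x0)))) (.node 27779 (.node 27777 (.leaf 0x0) (.node 27778 (.leaf 0x20103010904020007) (.leaf 0x0))) (.node 27780 (.leaf 0xb0a0a0003) (.node 27781 (.leaf 0x0) (.leaf 0x20901090000090202000701000c))))))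

def argWS_2457 : Store := (.node 27759 argWS_2455 argWS_2456)

def argWS_2458 : Store := (.node 27736 argWS_2454 argWS_2457)

def argWS_2459 : Store := (.node 27691 argWS_2451 argWS_2458)

def argWS_2460 : Store := (.node 27601 argWS_2444 argWS_2459)

def argWS_2461 : Store := (.node 27793 (.node 27787 (.node 27784 (.node 27783 (.leaf 0x0) (.leaf 0xb0f0a0003)) (.node 27785 (.leaf 0x0) (.node 27786 (.leaf 0x6c8800518d) (.leaf 0xd0b0002)))) (.node 27790 (.node 27788 (.leaf 0x0) (.node 27789 (.leaf 0x704000502020007010009) (.leaf 0x0))) (.node 27791 (.leaf 0xb0f0a0a0004) (.node 27792 (.leaf 0xb0001) (.leaf 0x908020401050006))))) (.node 27798 (.node 27795 (.node 27794 (.leaf 0x0) (.leaf 0xf0b0002)) (.node 27796 (.leaf 0x0) (.node 27797 (.leaf 0x1030003080202000701000a) (.leaf 0x0)))) (.node 27801 (.node 27799 (.leaf 0xa0001) (.node 27800 (.leaf 0x0) (.leaf 0x6c97006c93))) (.node 27802 (.leaf 0xd0b0b0003) (.node 27803 (.leaf 0x0) (.leaf 0x50206010500020202000701000c))))))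

def argWS_2462 : Store := (.node 27815 (.node 27809 (.node 27806 (.node 27805 (.leaf 0x0) (.leaf 0xb0a0a0003)) (.node 27807 (.leaf 0xb0a0f0003) (.node 27808 (.leaf 0x65e3) (.leaf 0x20207030005)))) (.node 27812 (.node 27810 (.leaf 0x0) (.node 27811 (.leaf 0xb0a0002) (.leaf 0x0))) (.node 27813 (.leaf 0x10301070206000802040105000c) (.node 27814 (.leaf 0x0) (.leaf 0xb0001))))) (.node 27821 (.node 27818 (.node 27816 (.leaf 0x9070005020202010802040105000d) (.node 27817 (.leaf 0x0) (.leaf 0xf0b0b0a0a0005))) (.node 27819 (.leaf 0x0) (.node 27820 (.leaf 0xe0d0002) (.leaf 0x60003010102000008)))) (.node 27824 (.node 27822 (.leaf 0x0) (.node 27823 (.leaf 0xb0b0a0a0004) (.leaf 0x0))) (.node 27825 (.leaf 0x6caf006cab) (.node 27826 (.leaf 0xe0a0002) (.leaf 0x0))))))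

def argWS_2463 : Store := (.node 27804 argWS_2461 argWS_2462)

def argWS_2464 : Store := (.node 27838 (.node 27832 (.node 27829 (.node 27828 (.leaf 0xf0b0b0a0a0005) (.leaf 0x0)) (.node 27830 (.leaf 0x0) (.node 27831 (.leaf 0xf0b0a0a0004) (.leaf 0xb0f0002)))) (.node 27835 (.node 27833 (.leaf 0x70502000003010202000701000c) (.node 27834 (.leaf 0x0) (.leaf 0xb0f0a0003))) (.node 27836 (.leaf 0x0) (.node 27837 (.leaf 0x6cbb006cb7) (.leaf 0xf0b0a0a0004))))) (.node 27843 (.node 27840 (.node 27839 (.leaf 0x0) (.leaf 0xb0a0002)) (.node 27841 (.leaf 0x0) (.node 27842 (.leaf 0x0) (.leaf 0xf0a0a0003)))) (.node 27846 (.node 27844 (.leaf 0x3030601050002000703040103000d) (.node 27845 (.leaf 0x0) (.leaf 0xd0b0002))) (.node 27847 (.leaf 0x0) (.node 27848 (.leaf 0x209020004) (.leaf 0x0))))))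

def argWS_2465 : Store := (.node 27860 (.node 27854 (.node 27851 (.node 27850 (.leaf 0xa0f0b0003) (.leaf 0x0)) (.node 27852 (.leaf 0x6cca006cc6) (.node 27853 (.leaf 0x7000202090000000703040103000d) (.leaf 0x0)))) (.node 27857 (.node 27855 (.leaf 0xe0a0a0003) (.node 27856 (.leaf 0x0) (.leaf 0x20105020604000703040103000c))) (.node 27858 (.leaf 0x0) (.node 27859 (.leaf 0x8030000000703040103000a) (.leaf 0x0))))) (.node 27866 (.node 27863 (.node 27861 (.leaf 0xf0a0a0003) (.node 27862 (.leaf 0x0) (.leaf 0xb0f0002))) (.node 27864 (.leaf 0x6cd6) (.node 27865 (.leaf 0xa0f0002) (.leaf 0x0)))) (.node 27869 (.node 27867 (.leaf 0x60102010904020202000701000c) (.node 27868 (.leaf 0x0) (.leaf 0xf0b0b0a0a0005))) (.node 27870 (.leaf 0x3070002020900000008) (.node 27871 (.leaf 0x0) (.leaf 0xd0b0b0003))))))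

def argWS_2466 : Store := (.node 27849 argWS_2464 argWS_2465)

def argWS_2467 : Store := (.node 27827 argWS_2463 argWS_2466)

def argWS_2468 : Store := (.node 27883 (.node 27877 (.node 27874 (.node 27873 (.leaf 0x0) (.leaf 0x50209000009000703040103000c)) (.node 27875 (.leaf 0x0) (.node 27876 (.leaf 0xb0a0002) (.leaf 0x0)))) (.node 27880 (.node 27878 (.leaf 0x6ce4) (.node 27879 (.leaf 0xb0f0002) (.leaf 0x0))) (.node 27881 (.leaf 0xf0b0b0a0a0005) (.node 27882 (.leaf 0x0) (.leaf 0x0))))) (.node 27888 (.node 27885 (.node 27884 (.leaf 0x200020901090006) (.leaf 0x0)) (.node 27886 (.leaf 0xa0f0b0b0004) (.node 27887 (.leaf 0x0) (.leaf 0xf0b0002)))) (.node 27891 (.node 27889 (.leaf 0x6cef) (.node 27890 (.leaf 0x309000009000703040103000b) (.leaf 0x0))) (.node 27892 (.leaf 0xf0b0a0a0004) (.node 27893 (.leaf 0x0) (.leaf 0x10202020901060802040105000c))))))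

def argWS_2469 : Store := (.node 27905 (.node 27899 (.node 27896 (.node 27895 (.leaf 0x0) (.leaf 0xf0a0002)) (.node 27897 (.leaf 0x1070003010102000202000701000d) (.node 27898 (.leaf 0x0) (.leaf 0xd0001)))) (.node 27902 (.node 27900 (.leaf 0x0) (.node 27901 (.leaf 0xa0f0b0b0004) (.leaf 0xf0a0a0003))) (.node 27903 (.leaf 0x6cfd006cfc) (.node 27904 (.leaf 0xa0001) (.leaf 0x0))))) (.node 27911 (.node 27908 (.node 27906 (.leaf 0xf0a0a0003) (.node 27907 (.leaf 0x0) (.leaf 0x0))) (.node 27909 (.leaf 0x802000206030006) (.node 27910 (.leaf 0x0) (.leaf 0xa0f0002)))) (.node 27914 (.node 27912 (.leaf 0x0) (.node 27913 (.leaf 0xb0a0f0003) (.leaf 0x0))) (.node 27915 (.leaf 0x6d09) (.node 27916 (.leaf 0xd0b0002) (.leaf 0x0))))))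

def argWS_2470 : Store := (.node 27894 argWS_2468 argWS_2469)

def argWS_2471 : Store := (.node 27928 (.node 27922 (.node 27919 (.node 27918 (.leaf 0xa0f0b0003) (.leaf 0x0)) (.node 27920 (.leaf 0x0) (.node 27921 (.leaf 0x60102000003010802040105000c) (.leaf 0x0)))) (.node 27925 (.node 27923 (.leaf 0xf0b0b0003) (.node 27924 (.leaf 0x0) (.leaf 0x4030002010606000703040103000d))) (.node 27926 (.leaf 0x0) (.node 27927 (.leaf 0xf0b0b0a0004) (.leaf 0x0))))) (.node 27933 (.node 27930 (.node 27929 (.leaf 0xd0b0002) (.leaf 0x6d18006d17)) (.node 27931 (.leaf 0xa0f0002) (.node 27932 (.leaf 0x0) (.leaf 0x604000400050202000701000b)))) (.node 27936 (.node 27934 (.leaf 0x0) (.node 27935 (.leaf 0xb0001) (.leaf 0x307040005000703040103000b))) (.node 27937 (.leaf 0x0) (.node 27938 (.leaf 0xb0a0a0003) (.leaf 0x0))))))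

def argWS_2472 : Store := (.node 27950 (.node 27944 (.node 27941 (.node 27940 (.leaf 0xd0b0b0003) (.leaf 0x4d6f006d23)) (.node 27942 (.leaf 0xe0a0002) (.node 27943 (.leaf 0x0) (.leaf 0xb0f0a0003)))) (.node 27947 (.node 27945 (.leaf 0x0) (.node 27946 (.leaf 0x0) (.leaf 0x9020107000902000701000a))) (.node 27948 (.leaf 0x0) (.node 27949 (.leaf 0xd0b0b0003) (.leaf 0x0))))) (.node 27956 (.node 27953 (.node 27951 (.leaf 0x10102000003010007) (.node 27952 (.leaf 0x0) (.leaf 0xf0b0002))) (.node 27954 (.leaf 0x0) (.node 27955 (.leaf 0x6d31) (.leaf 0x70402020900000802040105000c)))) (.node 27959 (.node 27957 (.leaf 0x0) (.node 27958 (.leaf 0xb0f0a0003) (.leaf 0x0))) (.node 27960 (.leaf 0x20601050002000703040103000c) (.node 27961 (.leaf 0x0) (.leaf 0x9080600000703040103000c))))))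

def argWS_2473 : Store := (.node 27939 argWS_2471 argWS_2472)

def argWS_2474 : Store := (.node 27917 argWS_2470 argWS_2473)

def argWS_2475 : Store := (.node 27872 argWS_2467 argWS_2474)

def argWS_2476 : Store := (.node 27973 (.node 27967 (.node 27964 (.node 27963 (.leaf 0x0) (.leaf 0xb0b0002)) (.node 27965 (.leaf 0x0) (.node 27966 (.leaf 0x2020003010102000008) (.leaf 0x0)))) (.node 27970 (.node 27968 (.leaf 0xe0d0002) (.node 27969 (.leaf 0x0) (.leaf 0x6d40))) (.node 27971 (.leaf 0x2000000030306040802040105000d) (.node 27972 (.leaf 0x0) (.leaf 0xb0f0a0003))))) (.node 27978 (.node 27975 (.node 27974 (.leaf 0x0) (.leaf 0x304090806000202000701000b)) (.node 27976 (.leaf 0x0) (.node 27977 (.leaf 0xa0f0b0b0004) (.leaf 0xf0b0a0003)))) (.node 27981 (.node 27979 (.leaf 0x2070206030802040105000a) (.node 27980 (.leaf 0x0) (.leaf 0xa0f0b0b0004))) (.node 27982 (.leaf 0x0) (.node 27983 (.leaf 0xa0001) (.leaf 0x6d4e006d4d))))))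

def argWS_2477 : Store := (.node 27995 (.node 27989 (.node 27986 (.node 27985 (.leaf 0x104000901090802040105000b) (.leaf 0x0)) (.node 27987 (.leaf 0xf0b0b0a0a0005) (.node 27988 (.leaf 0x0) (.leaf 0x0)))) (.node 27992 (.node 27990 (.leaf 0xa0001) (.node 27991 (.leaf 0x60200020603000703040103000c) (.leaf 0x0))) (.node 27993 (.leaf 0xe0a0a0003) (.node 27994 (.leaf 0x0) (.leaf 0xe0a0a0003))))) (.node 28001 (.node 27998 (.node 27996 (.leaf 0xb0a0f0003) (.node 27997 (.leaf 0x6d5b006d5a) (.leaf 0xa0001))) (.node 27999 (.leaf 0x0) (.node 28000 (.leaf 0x9000206030802040105000a) (.leaf 0x0)))) (.node 28004 (.node 28002 (.leaf 0xb0b0a0003) (.node 28003 (.leaf 0xf0001) (.leaf 0x705010904020802040105000b))) (.node 28005 (.leaf 0x0) (.node 28006 (.leaf 0x0) (.leaf 0x46a9006d65))))))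

def argWS_2478 : Store := (.node 27984 argWS_2476 argWS_2477)

def argWS_2479 : Store := (.node 28018 (.node 28012 (.node 28009 (.node 28008 (.leaf 0xa0a0002) (.leaf 0x0)) (.node 28010 (.leaf 0xb0a0a0003) (.node 28011 (.leaf 0x0) (.leaf 0x0)))) (.node 28015 (.node 28013 (.leaf 0xf0b0a0003) (.node 28014 (.leaf 0x200020007030401030009) (.leaf 0x0))) (.node 28016 (.leaf 0xe0d0002) (.node 28017 (.leaf 0x0) (.leaf 0x6d70))))) (.node 28023 (.node 28020 (.node 28019 (.leaf 0x20502020900000202000701000c) (.leaf 0x0)) (.node 28021 (.leaf 0xb0f0002) (.node 28022 (.leaf 0x0) (.leaf 0xb0f0a0a0004)))) (.node 28026 (.node 28024 (.leaf 0x0) (.node 28025 (.leaf 0x0) (.leaf 0xf0b0a0a0004))) (.node 28027 (.leaf 0xa0f0b0b0004) (.node 28028 (.leaf 0x20205020202010202000701000c) (.leaf 0x0))))))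

def argWS_2480 : Store := (.node 28040 (.node 28034 (.node 28031 (.node 28030 (.leaf 0xb0a0a0003) (.leaf 0x0)) (.node 28032 (.leaf 0x6d7e006d7a) (.node 28033 (.leaf 0x905030901090202000701000b) (.leaf 0x0)))) (.node 28037 (.node 28035 (.leaf 0xd0b0002) (.node 28036 (.leaf 0x0) (.leaf 0xf0001))) (.node 28038 (.leaf 0x0) (.node 28039 (.leaf 0x0) (.leaf 0x90402000003010802040105000c))))) (.node 28046 (.node 28043 (.node 28041 (.leaf 0x0) (.node 28042 (.leaf 0xa0f0b0003) (.leaf 0x0))) (.node 28044 (.leaf 0xe0d0002) (.node 28045 (.leaf 0x702020106060006) (.leaf 0x0)))) (.node 28049 (.node 28047 (.leaf 0xb0a0002) (.node 28048 (.leaf 0x0) (.leaf 0x6d8f006d8b))) (.node 28050 (.leaf 0x90702000003010007) (.node 28051 (.leaf 0x0) (.leaf 0xb0001))))))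

def argWS_2481 : Store := (.node 28029 argWS_2479 argWS_2480)

def argWS_2482 : Store := (.node 28007 argWS_2478 argWS_2481)

def argWS_2483 : Store := (.node 28063 (.node 28057 (.node 28054 (.node 28053 (.leaf 0x0) (.leaf 0x80200020703000703040103000c)) (.node 28055 (.leaf 0x0) (.node 28056 (.leaf 0xd0b0b0003) (.leaf 0x107020000030703040103000b)))) (.node 28060 (.node 28058 (.leaf 0x0) (.node 28059 (.leaf 0xb0f0a0003) (.leaf 0x0))) (.node 28061 (.leaf 0x207020108020401050009) (.node 28062 (.leaf 0x0) (.leaf 0xf0b0b0003))))) (.node 28068 (.node 28065 (.node 28064 (.leaf 0x0) (.leaf 0x30700050206040802040105000c)) (.node 28066 (.leaf 0x0) (.node 28067 (.leaf 0xf0b0a0a0004) (.leaf 0x0)))) (.node 28071 (.node 28069 (.leaf 0x6da3006d9f) (.node 28070 (.leaf 0x0) (.leaf 0xe0a0002))) (.node 28072 (.leaf 0x0) (.node 28073 (.leaf 0x0) (.leaf 0xf0b0b0a0a0005))))))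

def argWS_2484 : Store := (.node 28085 (.node 28079 (.node 28076 (.node 28075 (.leaf 0x403040308000703040103000b) (.leaf 0x0)) (.node 28077 (.leaf 0xf0b0a0003) (.node 28078 (.leaf 0x0) (.leaf 0x8010408010802040105000a)))) (.node 28082 (.node 28080 (.leaf 0x0) (.node 28081 (.leaf 0xb0f0a0a0004) (.leaf 0x0))) (.node 28083 (.leaf 0x6db1) (.node 28084 (.leaf 0x201050206040802040105000b) (.leaf 0x0))))) (.node 28091 (.node 28088 (.node 28086 (.leaf 0xe0a0002) (.node 28087 (.leaf 0x0) (.leaf 0x30700090206020202000701000c))) (.node 28089 (.leaf 0x0) (.node 28090 (.leaf 0xf0b0b0a0a0005) (.leaf 0xe0a0002)))) (.node 28094 (.node 28092 (.leaf 0xb0f0a0a0004) (.node 28093 (.leaf 0x40205090000090007) (.leaf 0x0))) (.node 28095 (.leaf 0xb0b0002) (.node 28096 (.leaf 0x0) (.leaf 0x6dbf006dbb))))))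

def argWS_2485 : Store := (.node 28074 argWS_2483 argWS_2484)

def argWS_2486 : Store := (.node 28108 (.node 28102 (.node 28099 (.node 28098 (.leaf 0xe0a0a0003) (.leaf 0x0)) (.node 28100 (.leaf 0x903000207030802040105000b) (.node 28101 (.leaf 0x0) (.leaf 0xe0d0002)))) (.node 28105 (.node 28103 (.leaf 0x7000009020602000703040103000d) (.node 28104 (.leaf 0x0) (.leaf 0xb0b0a0a0004))) (.node 28106 (.leaf 0x0) (.node 28107 (.leaf 0x204010908050202000701000b) (.leaf 0x0))))) (.node 28114 (.node 28111 (.node 28109 (.leaf 0xe0a0002) (.node 28110 (.leaf 0x0) (.leaf 0x6dcd))) (.node 28112 (.leaf 0xe0a0002) (.node 28113 (.leaf 0x0) (.leaf 0xf0a0002)))) (.node 28117 (.node 28115 (.leaf 0x0) (.node 28116 (.leaf 0x0) (.leaf 0xb0b0002))) (.node 28118 (.leaf 0x6000002000003010008) (.node 28119 (.leaf 0x0) (.leaf 0xf0b0b0a0004))))))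

def argWS_2487 : Store := (.node 28131 (.node 28125 (.node 28122 (.node 28121 (.leaf 0x0) (.leaf 0x6dd8)) (.node 28123 (.leaf 0x40205070009030802040105000c) (.node 28124 (.leaf 0x0) (.leaf 0xe0001)))) (.node 28128 (.node 28126 (.leaf 0x0) (.node 28127 (.leaf 0xe0a0a0003) (.leaf 0x0))) (.node 28129 (.leaf 0x0) (.node 28130 (.leaf 0xd0b0002) (.leaf 0xe0a0a0003))))) (.node 28137 (.node 28134 (.node 28132 (.leaf 0x202020207020007010009) (.node 28133 (.leaf 0x0) (.leaf 0xb0f0a0003))) (.node 28135 (.leaf 0x0) (.node 28136 (.leaf 0x6de6006de2) (.leaf 0x10301010908050802040105000c)))) (.node 28140 (.node 28138 (.leaf 0x0) (.node 28139 (.leaf 0xb0001) (.leaf 0x0))) (.node 28141 (.leaf 0xb0001) (.node 28142 (.leaf 0x0) (.leaf 0x0))))))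

def argWS_2488 : Store := (.node 28120 argWS_2486 argWS_2487)

def argWS_2489 : Store := (.node 28097 argWS_2485 argWS_2488)

def argWS_2490 : Store := (.node 28052 argWS_2482 argWS_2489)

def argWS_2491 : Store := (.node 27962 argWS_2475 argWS_2490)

def argWS_2492 : Store := (.node 27782 argWS_2460 argWS_2491)

def argWS_2493 : Store := (.node 28154 (.node 28148 (.node 28145 (.node 28144 (.leaf 0xe0a0002) (.leaf 0x50301050004)) (.node 28146 (.leaf 0x0) (.node 28147 (.leaf 0xa0a0002) (.leaf 0x0)))) (.node 28151 (.node 28149 (.leaf 0x4362006df3) (.node 28150 (.leaf 0xb0f0002) (.leaf 0x0))) (.node 28152 (.leaf 0x80006030500040008) (.node 28153 (.leaf 0x0) (.leaf 0xa0f0002))))) (.node 28159 (.node 28156 (.node 28155 (.leaf 0xf0b0b0a0004) (.leaf 0x60209000009000703040103000c)) (.node 28157 (.leaf 0x0) (.node 28158 (.leaf 0xb0b0a0a0004) (.leaf 0x0)))) (.node 28162 (.node 28160 (.leaf 0xb0f0a0a0004) (.node 28161 (.leaf 0x6dff006dfe) (.leaf 0x807030401030006)))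 (.node 28163 (.leaf 0x0) (.node 28164 (.leaf 0xa0a0002) (.leaf 0x0))))))

def argWS_2494 : Store := (.node 28176 (.node 28170 (.node 28167 (.node 28166 (.leaf 0xb0a0002) (.leaf 0x0)) (.node 28168 (.leaf 0x0) (.node 28169 (.leaf 0x20901070209020802040105000c) (.leaf 0x0)))) (.node 28173 (.node 28171 (.leaf 0xb0a0a0003) (.node 28172 (.leaf 0x0) (.leaf 0x506030500040006))) (.node 28174 (.leaf 0x0) (.node 28175 (.leaf 0xb0f0a0003) (.leaf 0x0))))) (.node 28182 (.node 28179 (.node 28177 (.leaf 0x80500020106060202000701000c) (.node 28178 (.leaf 0x0) (.leaf 0xb0001))) (.node 28180 (.leaf 0x0) (.node 28181 (.leaf 0x6e13006e0f) (.leaf 0x40003010904020202000701000c)))) (.node 28185 (.node 28183 (.leaf 0x0) (.node 28184 (.leaf 0xf0b0a0a0004) (.leaf 0x0))) (.node 28186 (.leaf 0x60505020604000703040103000c) (.node 28187 (.leaf 0x0) (.leaf 0xf0a0a0003))))))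

def argWS_2495 : Store := (.node 28165 argWS_2493 argWS_2494)

def argWS_2496 : Store := (.node 28199 (.node 28193 (.node 28190 (.node 28189 (.leaf 0x80006010500020202000701000c) (.leaf 0x0)) (.node 28191 (.leaf 0xb0f0a0a0004) (.node 28192 (.leaf 0x0) (.leaf 0x10402000003010802040105000c)))) (.node 28196 (.node 28194 (.leaf 0x0) (.node 28195 (.leaf 0xd0b0002) (.leaf 0x0))) (.node 28197 (.leaf 0x6e23) (.node 28198 (.leaf 0xf0b0b0a0a0005) (.leaf 0x0))))) (.node 28204 (.node 28201 (.node 28200 (.leaf 0x400030900090202000701000b) (.leaf 0x0)) (.node 28202 (.leaf 0xd0001) (.node 28203 (.leaf 0xe0d0002) (.leaf 0x2050202020703040103000b)))) (.node 28207 (.node 28205 (.leaf 0x0) (.node 28206 (.leaf 0x0) (.leaf 0xb0a0a0003))) (.node 28208 (.leaf 0x6e2e006e2d) (.node 28209 (.leaf 0xb0001) (.leaf 0x0))))))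

def argWS_2497 : Store := (.node 28221 (.node 28215 (.node 28212 (.node 28211 (.leaf 0xa0f0002) (.leaf 0x0)) (.node 28213 (.leaf 0x0) (.node 28214 (.leaf 0x707030401030006) (.leaf 0x0)))) (.node 28218 (.node 28216 (.leaf 0xf0b0a0a0004) (.node 28217 (.leaf 0x0) (.leaf 0x903090402000703040103000b))) (.node 28219 (.leaf 0x0) (.node 28220 (.leaf 0xe0a0a0003) (.leaf 0x0))))) (.node 28227 (.node 28224 (.node 28222 (.leaf 0xb0a0f0003) (.node 28223 (.leaf 0x6e3d006e3c) (.leaf 0xe0d0002))) (.node 28225 (.leaf 0x0) (.node 28226 (.leaf 0xe0a0a0003) (.leaf 0x0)))) (.node 28230 (.node 28228 (.leaf 0x0) (.node 28229 (.leaf 0xf0b0b0a0004) (.leaf 0xf0b0b0a0004))) (.node 28231 (.leaf 0x6e45000f2c) (.node 28232 (.leaf 0x50201050206040007) (.leaf 0x0))))))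

def argWS_2498 : Store := (.node 28210 argWS_2496 argWS_2497)

def argWS_2499 : Store := (.node 28188 argWS_2495 argWS_2498)

def argWS_2500 : Store := (.node 28244 (.node 28238 (.node 28235 (.node 28234 (.leaf 0xb0a0a0003) (.leaf 0x0)) (.node 28236 (.leaf 0x601020207020007010009) (.node 28237 (.leaf 0x0) (.leaf 0xb0f0002)))) (.node 28241 (.node 28239 (.leaf 0xe0d0002) (.node 28240 (.leaf 0xf0b0002) (.leaf 0xb0f0a0003))) (.node 28242 (.leaf 0x6e50006e4f) (.node 28243 (.leaf 0x2040300030306040202000701000d) (.leaf 0x0))))) (.node 28249 (.node 28246 (.node 28245 (.leaf 0xf0b0a0a0004) (.leaf 0x0)) (.node 28247 (.leaf 0x20901090004) (.node 28248 (.leaf 0x0) (.leaf 0xa0a0002)))) (.node 28252 (.node 28250 (.leaf 0x80101070209020007) (.node 28251 (.leaf 0x0) (.leaf 0xd0b0b0003))) (.node 28253 (.leaf 0x0) (.node 28254 (.leaf 0xe0d0002) (.leaf 0x500050202020703040103000b))))))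

def argWS_2501 : Store := (.node 28266 (.node 28260 (.node 28257 (.node 28256 (.leaf 0x0) (.leaf 0x0)) (.node 28258 (.leaf 0x6e60006e5d) (.node 28259 (.leaf 0x40900090802040105000a) (.leaf 0x0)))) (.node 28263 (.node 28261 (.leaf 0xb0001) (.node 28262 (.leaf 0x0) (.leaf 0xf0001))) (.node 28264 (.leaf 0x0) (.node 28265 (.leaf 0x0) (.leaf 0xd0b0002))))) (.node 28272 (.node 28269 (.node 28267 (.leaf 0x403040308000703040103000b) (.node 28268 (.leaf 0x0) (.leaf 0xf0b0a0003))) (.node 28270 (.leaf 0x0) (.node 28271 (.leaf 0x6e6d) (.leaf 0xf0b0b0003)))) (.node 28275 (.node 28273 (.leaf 0x0) (.node 28274 (.leaf 0xd0b0b0003) (.leaf 0x0))) (.node 28276 (.leaf 0x0) (.node 28277 (.leaf 0x90206020202000701000a) (.leaf 0x0))))))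

def argWS_2502 : Store := (.node 28255 argWS_2500 argWS_2501)

def argWS_2503 : Store := (.node 28289 (.node 28283 (.node 28280 (.node 28279 (.leaf 0xb0b0002) (.leaf 0x0)) (.node 28281 (.leaf 0x107000401050006) (.node 28282 (.leaf 0x0) (.leaf 0xe0001)))) (.node 28286 (.node 28284 (.leaf 0x0) (.node 28285 (.leaf 0x70502000003010007) (.leaf 0x0))) (.node 28287 (.leaf 0xb0f0a0a0004) (.node 28288 (.leaf 0x0) (.leaf 0x6e7f006e7b))))) (.node 28294 (.node 28291 (.node 28290 (.leaf 0xb0f0002) (.leaf 0x0)) (.node 28292 (.leaf 0xe0d0002) (.node 28293 (.leaf 0x0) (.leaf 0x0)))) (.node 28297 (.node 28295 (.leaf 0xf0b0002) (.node 28296 (.leaf 0xf0b0b0003) (.leaf 0xf0001))) (.node 28298 (.leaf 0x6e88006e87) (.node 28299 (.leaf 0x6060101090805000703040103000d) (.leaf 0x0))))))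

def argWS_2504 : Store := (.node 28311 (.node 28305 (.node 28302 (.node 28301 (.leaf 0xf0b0a0003) (.leaf 0x0)) (.node 28303 (.leaf 0x600000400050006) (.node 28304 (.leaf 0x0) (.leaf 0xd0b0b0003)))) (.node 28308 (.node 28306 (.leaf 0xe0a0002) (.node 28307 (.leaf 0x900000408010202000701000b) (.leaf 0x0))) (.node 28309 (.leaf 0x0) (.node 28310 (.leaf 0x80200070009030007) (.leaf 0x0))))) (.node 28317 (.node 28314 (.node 28312 (.leaf 0x0) (.node 28313 (.leaf 0x6e97006e94) (.leaf 0xb0b0002))) (.node 28315 (.leaf 0x0) (.node 28316 (.leaf 0x409010608020401050009) (.leaf 0x0)))) (.node 28320 (.node 28318 (.leaf 0xa0a0002) (.node 28319 (.leaf 0x6000002080400000703040103000d) (.leaf 0x0))) (.node 28321 (.leaf 0xe0d0002) (.node 28322 (.leaf 0x0) (.leaf 0x204030009020602000703040103000e))))))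

def argWS_2505 : Store := (.node 28300 argWS_2503 argWS_2504)

def argWS_2506 : Store := (.node 28278 argWS_2502 argWS_2505)

def argWS_2507 : Store := (.node 28233 argWS_2499 argWS_2506)

def argWS_2508 : Store := (.node 28334 (.node 28328 (.node 28325 (.node 28324 (.leaf 0x0) (.leaf 0xe0001)) (.node 28326 (.leaf 0x0) (.node 28327 (.leaf 0x2613006ea5) (.leaf 0xa0a0002)))) (.node 28331 (.node 28329 (.leaf 0x0) (.node 28330 (.leaf 0x4090000090802040105000a) (.leaf 0x0))) (.node 28332 (.leaf 0xf0b0002) (.node 28333 (.leaf 0xb0f0002) (.leaf 0x20500090206020202000701000c))))) (.node 28339 (.node 28336 (.node 28335 (.leaf 0x0) (.leaf 0xf0b0002)) (.node 28337 (.leaf 0x0) (.node 28338 (.leaf 0xb0b0002) (.leaf 0x6eb1006eb0)))) (.node 28342 (.node 28340 (.leaf 0x7010900090202000701000a) (.node 28341 (.leaf 0x0) (.leaf 0xb0a0002))) (.node 28343 (.leaf 0x0) (.node 28344 (.leaf 0xf0b0b0003) (.leaf 0x0))))))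

def argWS_2509 : Store := (.node 28356 (.node 28350 (.node 28347 (.node 28346 (.leaf 0x0) (.leaf 0xf0001)) (.node 28348 (.leaf 0x40002010606000703040103000c) (.node 28349 (.leaf 0x0) (.leaf 0xe0a0a0003)))) (.node 28353 (.node 28351 (.leaf 0x0) (.node 28352 (.leaf 0x102010606000703040103000b) (.leaf 0x0))) (.node 28354 (.leaf 0xf0b0a0a0004) (.node 28355 (.leaf 0x0) (.leaf 0x6ec2006ebe))))) (.node 28362 (.node 28359 (.node 28357 (.leaf 0x4030306040202000701000a) (.node 28358 (.leaf 0x0) (.leaf 0xa0f0b0b0004))) (.node 28360 (.leaf 0x0) (.node 28361 (.leaf 0x201070209020202000701000b) (.leaf 0x0)))) (.node 28365 (.node 28363 (.leaf 0xf0b0002) (.node 28364 (.leaf 0x1040908050005) (.leaf 0x0))) (.node 28366 (.leaf 0xb0b0a0a0004) (.node 28367 (.leaf 0x0) (.leaf 0xe0a0a0003))))))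

def argWS_2510 : Store := (.node 28345 argWS_2508 argWS_2509)

def argWS_2511 : Store := (.node 28379 (.node 28373 (.node 28370 (.node 28369 (.leaf 0xd0001) (.leaf 0x6ed0006ecf)) (.node 28371 (.leaf 0xa0001) (.node 28372 (.leaf 0x0) (.leaf 0x206010500020006)))) (.node 28376 (.node 28374 (.leaf 0x0) (.node 28375 (.leaf 0xb0b0002) (.leaf 0xf0b0a0a0004))) (.node 28377 (.leaf 0x5020007010005) (.node 28378 (.leaf 0x0) (.leaf 0xd0001))))) (.node 28384 (.node 28381 (.node 28380 (.leaf 0x0) (.leaf 0x6edb)) (.node 28382 (.leaf 0x301020000030703040103000b) (.node 28383 (.leaf 0x0) (.leaf 0xa0f0b0b0004)))) (.node 28387 (.node 28385 (.leaf 0x0) (.node 28386 (.leaf 0xe0a0002) (.leaf 0x0))) (.node 28388 (.leaf 0x0) (.node 28389 (.leaf 0x60502000003010007) (.leaf 0x0))))))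

def argWS_2512 : Store := (.node 28401 (.node 28395 (.node 28392 (.node 28391 (.leaf 0xf0b0a0a0004) (.leaf 0x0)) (.node 28393 (.leaf 0x6040006030500040008) (.node 28394 (.leaf 0x0) (.leaf 0xf0b0a0a0004)))) (.node 28398 (.node 28396 (.leaf 0x0) (.node 28397 (.leaf 0x905030002080400000703040103000e) (.leaf 0x0))) (.node 28399 (.leaf 0xb0a0a0003) (.node 28400 (.leaf 0x0) (.leaf 0x6eef006eeb))))) (.node 28407 (.node 28404 (.node 28402 (.leaf 0xf0b0002) (.node 28403 (.leaf 0x0) (.leaf 0x0))) (.node 28405 (.leaf 0xd0001) (.node 28406 (.leaf 0xa0f0b0003) (.leaf 0x202060207020703040103000b)))) (.node 28410 (.node 28408 (.leaf 0x0) (.node 28409 (.leaf 0xb0b0a0a0004) (.leaf 0x0))) (.node 28411 (.leaf 0x6ef9006ef5) (.node 28412 (.leaf 0x402000502020007010009) (.leaf 0x0))))))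

def argWS_2513 : Store := (.node 28390 argWS_2511 argWS_2512)

def argWS_2514 : Store := (.node 28368 argWS_2510 argWS_2513)

def argWS_2515 : Store := (.node 28424 (.node 28418 (.node 28415 (.node 28414 (.leaf 0xf0b0a0003) (.leaf 0x0)) (.node 28416 (.leaf 0xb0a0002) (.node 28417 (.leaf 0x0) (.leaf 0x0)))) (.node 28421 (.node 28419 (.leaf 0x904070009030006) (.node 28420 (.leaf 0x0) (.leaf 0xf0b0a0003))) (.node 28422 (.leaf 0x0) (.node 28423 (.leaf 0xf0b0b0a0004) (.leaf 0x6f06))))) (.node 28429 (.node 28426 (.node 28425 (.leaf 0x4000300000300000202000701000d) (.leaf 0x0)) (.node 28427 (.leaf 0xb0f0a0003) (.node 28428 (.leaf 0x0) (.leaf 0xb0a0002)))) (.node 28432 (.node 28430 (.leaf 0x0) (.node 28431 (.leaf 0x0) (.leaf 0x7010703060202000701000b))) (.node 28433 (.leaf 0x0) (.node 28434 (.leaf 0xb0a0002) (.leaf 0x0))))))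

def argWS_2516 : Store := (.node 28446 (.node 28440 (.node 28437 (.node 28436 (.leaf 0x8000007030401030008) (.leaf 0x0)) (.node 28438 (.leaf 0xf0001) (.node 28439 (.leaf 0x0) (.leaf 0x6f16)))) (.node 28443 (.node 28441 (.leaf 0x602090206020202000701000b) (.node 28442 (.leaf 0x0) (.leaf 0xb0b0a0a0004))) (.node 28444 (.leaf 0x0) (.node 28445 (.leaf 0x6000006030500040802040105000d) (.leaf 0x0))))) (.node 28452 (.node 28449 (.node 28447 (.leaf 0xb0001) (.node 28448 (.leaf 0xf0b0a0003) (.leaf 0x90403080004))) (.node 28450 (.leaf 0x0) (.node 28451 (.leaf 0xf0b0a0a0004) (.leaf 0x0)))) (.node 28455 (.node 28453 (.leaf 0x6755006f23) (.node 28454 (.leaf 0xb0f0a0003) (.leaf 0x0))) (.node 28456 (.leaf 0xb0f0a0003) (.node 28457 (.leaf 0x0) (.leaf 0x0))))))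

def argWS_2517 : Store := (.node 28435 argWS_2515 argWS_2516)

def argWS_2518 : Store := (.node 28469 (.node 28463 (.node 28460 (.node 28459 (.leaf 0x50300030306040202000701000c) (.leaf 0x0)) (.node 28461 (.leaf 0xb0b0002) (.node 28462 (.leaf 0x0) (.leaf 0xb0a0a0003)))) (.node 28466 (.node 28464 (.leaf 0x6f2e) (.node 28465 (.leaf 0x2020202000003010202000701000d) (.leaf 0x0))) (.node 28467 (.leaf 0xb0a0f0003) (.node 28468 (.leaf 0x0) (.leaf 0xe0a0a0003))))) (.node 28475 (.node 28472 (.node 28470 (.leaf 0x0) (.node 28471 (.leaf 0x0) (.leaf 0x2000202090106000703040103000d))) (.node 28473 (.leaf 0x0) (.node 28474 (.leaf 0xf0a0a0003) (.leaf 0x0)))) (.node 28478 (.node 28476 (.leaf 0xf0b0a0003) (.node 28477 (.leaf 0x6f3b005a7d) (.leaf 0xe0001))) (.node 28479 (.leaf 0x0) (.node 28480 (.leaf 0x9070003010102000802040105000d) (.leaf 0x0))))))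

def argWS_2519 : Store := (.node 28492 (.node 28486 (.node 28483 (.node 28482 (.leaf 0xf0a0a0003) (.leaf 0x701070209020802040105000b)) (.node 28484 (.leaf 0x0) (.node 28485 (.leaf 0xb0a0f0003) (.leaf 0x0)))) (.node 28489 (.node 28487 (.leaf 0xa0001) (.node 28488 (.leaf 0x702070206000802040105000b) (.leaf 0x0))) (.node 28490 (.leaf 0xa0f0b0003) (.node 28491 (.leaf 0x0) (.leaf 0x6f4a006f46))))) (.node 28498 (.node 28495 (.node 28493 (.leaf 0x20603010102000802040105000c) (.node 28494 (.leaf 0x0) (.leaf 0xf0b0002))) (.node 28496 (.leaf 0x0) (.node 28497 (.leaf 0xb0a0f0003) (.leaf 0x0)))) (.node 28501 (.node 28499 (.leaf 0x0) (.node 28500 (.leaf 0x9030002090106000703040103000d) (.leaf 0x0))) (.node 28502 (.leaf 0x0) (.node 28503 (.leaf 0x503070009030006) (.leaf 0x0))))))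

def argWS_2520 : Store := (.node 28481 argWS_2518 argWS_2519)

def argWS_2521 : Store := (.node 28458 argWS_2517 argWS_2520)

def argWS_2522 : Store := (.node 28413 argWS_2514 argWS_2521)

def argWS_2523 : Store := (.node 28323 argWS_2507 argWS_2522)

def argWS_2524 : Store := (.node 28515 (.node 28509 (.node 28506 (.node 28505 (.leaf 0xe0a0002) (.leaf 0x0)) (.node 28507 (.leaf 0x500020106060202000701000b) (.node 28508 (.leaf 0x0) (.leaf 0xf0b0002)))) (.node 28512 (.node 28510 (.leaf 0x0) (.node 28511 (.leaf 0x6f5d006f59) (.leaf 0x1050202010606000703040103000d))) (.node 28513 (.leaf 0x0) (.node 28514 (.leaf 0xf0b0b0a0004) (.leaf 0x0))))) (.node 28520 (.node 28517 (.node 28516 (.leaf 0xf0b0002) (.leaf 0x0)) (.node 28518 (.leaf 0x0) (.node 28519 (.leaf 0x3010004) (.leaf 0x0)))) (.node 28523 (.node 28521 (.leaf 0xe0a0002) (.node 28522 (.leaf 0x0) (.leaf 0x102020007030401030009))) (.node 28524 (.leaf 0x0) (.node 28525 (.leaf 0xe0001) (.leaf 0x0))))))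

def argWS_2525 : Store := (.node 28537 (.node 28531 (.node 28528 (.node 28527 (.leaf 0x6f6d) (.leaf 0xd0001)) (.node 28529 (.leaf 0x0) (.node 28530 (.leaf 0x903000408010006) (.leaf 0x0)))) (.node 28534 (.node 28532 (.leaf 0xf0b0a0003) (.node 28533 (.leaf 0xe0a0002) (.leaf 0x403000901090006))) (.node 28535 (.leaf 0x0) (.node 28536 (.leaf 0xe0d0002) (.leaf 0x0))))) (.node 28543 (.node 28540 (.node 28538 (.leaf 0x901060608020401050009) (.node 28539 (.leaf 0x0) (.leaf 0xb0a0a0003))) (.node 28541 (.leaf 0x0) (.node 28542 (.leaf 0x6f7c006f78) (.leaf 0xb0b0a0003)))) (.node 28546 (.node 28544 (.leaf 0x0) (.node 28545 (.leaf 0xb0b0002) (.leaf 0x0))) (.node 28547 (.leaf 0x0) (.node 28548 (.leaf 0x402060408020401050009) (.leaf 0x0))))))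

def argWS_2526 : Store := (.node 28526 argWS_2524 argWS_2525)

def argWS_2527 : Store := (.node 28560 (.node 28554 (.node 28551 (.node 28550 (.leaf 0xf0001) (.leaf 0x0)) (.node 28552 (.leaf 0x1090306030500040008) (.node 28553 (.leaf 0x0) (.leaf 0xb0a0002)))) (.node 28557 (.node 28555 (.leaf 0x0) (.node 28556 (.leaf 0xb0f0a0003) (.leaf 0x6f8b006f8a))) (.node 28558 (.leaf 0x1090300030306040802040105000d) (.node 28559 (.leaf 0x0) (.leaf 0xd0001))))) (.node 28565 (.node 28562 (.node 28561 (.leaf 0x0) (.leaf 0x602010908050202000701000b)) (.node 28563 (.leaf 0x0) (.node 28564 (.leaf 0xe0001) (.leaf 0x3010703060802040105000a)))) (.node 28568 (.node 28566 (.leaf 0x0) (.node 28567 (.leaf 0x0) (.leaf 0xb0f0a0003))) (.node 28569 (.leaf 0x6f97) (.node 28570 (.leaf 0x500070209020202000701000b) (.leaf 0x0))))))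

def argWS_2528 : Store := (.node 28582 (.node 28576 (.node 28573 (.node 28572 (.leaf 0xf0a0a0003) (.leaf 0x0)) (.node 28574 (.leaf 0xa0f0b0003) (.node 28575 (.leaf 0x0) (.leaf 0x0)))) (.node 28579 (.node 28577 (.leaf 0xb0a0f0003) (.node 28578 (.leaf 0x10702020900000802040105000c) (.leaf 0x0))) (.node 28580 (.leaf 0xf0a0a0003) (.node 28581 (.leaf 0x0) (.leaf 0xf0b0a0003))))) (.node 28588 (.node 28585 (.node 28583 (.leaf 0x6fa5006fa4) (.node 28584 (.leaf 0xa0f0b0003) (.leaf 0x0))) (.node 28586 (.leaf 0x90104020603000703040103000c) (.node 28587 (.leaf 0x0) (.leaf 0xa0001)))) (.node 28591 (.node 28589 (.leaf 0xf0b0002) (.node 28590 (.leaf 0xf0b0a0003) (.leaf 0x6fad))) (.node 28592 (.leaf 0xb0a0a0003) (.node 28593 (.leaf 0x0) (.leaf 0x4040308000703040103000a))))))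

def argWS_2529 : Store := (.node 28571 argWS_2527 argWS_2528)

def argWS_2530 : Store := (.node 28549 argWS_2526 argWS_2529)

def argWS_2531 : Store := (.node 28605 (.node 28599 (.node 28596 (.node 28595 (.leaf 0x0) (.leaf 0xa0a0002)) (.node 28597 (.leaf 0x4000400020804000802040105000d) (.node 28598 (.leaf 0x0) (.leaf 0xf0b0002)))) (.node 28602 (.node 28600 (.leaf 0x0) (.node 28601 (.leaf 0xf0b0a0003) (.leaf 0x6fb8))) (.node 28603 (.leaf 0xf0a0a0003) (.node 28604 (.leaf 0x0) (.leaf 0x40000030000000703040103000d))))) (.node 28610 (.node 28607 (.node 28606 (.leaf 0x0) (.leaf 0xf0b0b0003)) (.node 28608 (.leaf 0x700020603000703040103000b) (.node 28609 (.leaf 0x0) (.leaf 0xb0a0f0003)))) (.node 28613 (.node 28611 (.leaf 0x0) (.node 28612 (.leaf 0x200000900090802040105000b) (.leaf 0x0))) (.node 28614 (.leaf 0xf0b0002) (.node 28615 (.leaf 0x0) (.leaf 0xa0a0002))))))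

def argWS_2532 : Store := (.node 28627 (.node 28621 (.node 28618 (.node 28617 (.leaf 0x6fc7006fc6) (.leaf 0x90101090402000703040103000c)) (.node 28619 (.leaf 0x0) (.node 28620 (.leaf 0xf0a0002) (.leaf 0x0)))) (.node 28624 (.node 28622 (.leaf 0x6040102020900000202000701000d) (.node 28623 (.leaf 0x0) (.leaf 0xa0001))) (.node 28625 (.leaf 0x202010102000802040105000b) (.node 28626 (.leaf 0x0) (.leaf 0xf0b0b0003))))) (.node 28633 (.node 28630 (.node 28628 (.leaf 0x0) (.node 28629 (.leaf 0x6fd3) (.leaf 0x605020202010802040105000b))) (.node 28631 (.leaf 0x0) (.node 28632 (.leaf 0xa0a0002) (.leaf 0x0)))) (.node 28636 (.node 28634 (.leaf 0x9030002000003010202000701000d) (.node 28635 (.leaf 0x0) (.leaf 0xe0d0002))) (.node 28637 (.leaf 0x1090301090805000703040103000d) (.node 28638 (.leaf 0x0) (.leaf 0xa0f0b0b0004))))))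

def argWS_2533 : Store := (.node 28616 argWS_2531 argWS_2532)

def argWS_2534 : Store := (.node 28650 (.node 28644 (.node 28641 (.node 28640 (.leaf 0x0) (.leaf 0x500090806000802040105000b)) (.node 28642 (.leaf 0x0) (.node 28643 (.leaf 0xf0b0b0003) (.leaf 0x0)))) (.node 28647 (.node 28645 (.leaf 0x60601090000090007) (.node 28646 (.leaf 0x0) (.leaf 0xa0a0002))) (.node 28648 (.leaf 0x0) (.node 28649 (.leaf 0x6fe7006fe3) (.leaf 0x503070009030006))))) (.node 28655 (.node 28652 (.node 28651 (.leaf 0x0) (.leaf 0xd0b0002)) (.node 28653 (.leaf 0x0) (.node 28654 (.leaf 0x20902000003010202000701000c) (.leaf 0x0)))) (.node 28658 (.node 28656 (.leaf 0xf0b0b0003) (.node 28657 (.leaf 0x200020400050006) (.leaf 0x0))) (.node 28659 (.leaf 0xb0a0a0003) (.node 28660 (.leaf 0x0) (.leaf 0x2020206020702010008))))))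

def argWS_2535 : Store := (.node 28672 (.node 28666 (.node 28663 (.node 28662 (.leaf 0x0) (.leaf 0x0)) (.node 28664 (.leaf 0x6ff6003ccd) (.node 28665 (.leaf 0x10202010606000703040103000c) (.leaf 0x0)))) (.node 28669 (.node 28667 (.leaf 0xf0b0b0a0a0005) (.node 28668 (.leaf 0x0) (.leaf 0x5030308000703040103000a))) (.node 28670 (.leaf 0x0) (.node 28671 (.leaf 0xd0001) (.leaf 0x6010206030005))))) (.node 28678 (.node 28675 (.node 28673 (.leaf 0x0) (.node 28674 (.leaf 0xe0a0a0003) (.leaf 0x0))) (.node 28676 (.leaf 0xb0a0002) (.node 28677 (.leaf 0x7003) (.leaf 0x8000207030802040105000a)))) (.node 28681 (.node 28679 (.leaf 0x0) (.node 28680 (.leaf 0xd0b0002) (.leaf 0x0))) (.node 28682 (.leaf 0x304010207020007010009) (.node 28683 (.leaf 0x0) (.leaf 0xb0b0a0003))))))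

def argWS_2536 : Store := (.node 28661 argWS_2534 argWS_2535)

def argWS_2537 : Store := (.node 28639 argWS_2533 argWS_2536)

def argWS_2538 : Store := (.node 28594 argWS_2530 argWS_2537)

def argWS_2539 : Store := (.node 28695 (.node 28689 (.node 28686 (.node 28685 (.leaf 0x5010703060005) (.leaf 0x0)) (.node 28687 (.leaf 0xb0f0002) (.node 28688 (.leaf 0x0) (.leaf 0x5030503010102000008)))) (.node 28692 (.node 28690 (.leaf 0x0) (.node 28691 (.leaf 0xa0001) (.leaf 0x0))) (.node 28693 (.leaf 0x6b17007013) (.node 28694 (.leaf 0xa0f0002) (.leaf 0x0))))) (.node 28700 (.node 28697 (.node 28696 (.leaf 0xf0b0a0003) (.leaf 0x0)) (.node 28698 (.leaf 0x90402020900000007) (.node 28699 (.leaf 0x0) (.leaf 0xb0b0a0003)))) (.node 28703 (.node 28701 (.leaf 0x0) (.node 28702 (.leaf 0xa0001) (.leaf 0x403040202090000000703040103000e))) (.node 28704 (.leaf 0x0) (.node 28705 (.leaf 0xf0b0002) (.leaf 0x0))))))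

def argWS_2540 : Store := (.node 28717 (.node 28711 (.node 28708 (.node 28707 (.leaf 0x702100701d) (.leaf 0xa0f0b0003)) (.node 28709 (.leaf 0x0) (.node 28710 (.leaf 0x10403010102000802040105000c) (.leaf 0x0)))) (.node 28714 (.node 28712 (.leaf 0xa0f0b0003) (.node 28713 (.leaf 0xb0f0002) (.leaf 0xf0b0a0003))) (.node 28715 (.leaf 0x2000408010802040105000b) (.node 28716 (.leaf 0x0) (.leaf 0xb0a0002))))) (.node 28723 (.node 28720 (.node 28718 (.leaf 0x0) (.node 28719 (.leaf 0x702d007029) (.leaf 0xe0d0002))) (.node 28721 (.leaf 0x0) (.node 28722 (.leaf 0xd0b0b0003) (.leaf 0x0)))) (.node 28726 (.node 28724 (.leaf 0x0) (.node 28725 (.leaf 0x8000402010606000703040103000d) (.leaf 0x0))) (.node 28727 (.leaf 0xf0b0a0a0004) (.node 28728 (.leaf 0x0) (.leaf 0x9010601050002000703040103000d))))))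

def argWS_2541 : Store := (.node 28706 argWS_2539 argWS_2540)

def argWS_2542 : Store := (.node 28740 (.node 28734 (.node 28731 (.node 28730 (.leaf 0x0) (.leaf 0xd0b0002)) (.node 28732 (.leaf 0x0) (.node 28733 (.leaf 0x20903010904020802040105000c) (.leaf 0x0)))) (.node 28737 (.node 28735 (.leaf 0xf0a0002) (.node 28736 (.leaf 0x0) (.leaf 0x703f00703b))) (.node 28738 (.leaf 0x104000007030401030009) (.node 28739 (.leaf 0x0) (.leaf 0xf0b0b0a0004))))) (.node 28745 (.node 28742 (.node 28741 (.leaf 0x0) (.leaf 0x2000202020007010008)) (.node 28743 (.leaf 0x0) (.node 28744 (.leaf 0xb0a0002) (.leaf 0x10206030500040202000701000c)))) (.node 28748 (.node 28746 (.leaf 0x0) (.node 28747 (.leaf 0xa0f0b0b0004) (.leaf 0x0))) (.node 28749 (.leaf 0xf0b0002) (.node 28750 (.leaf 0x704c) (.leaf 0xf0b0b0003))))))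

def argWS_2543 : Store := (.node 28762 (.node 28756 (.node 28753 (.node 28752 (.leaf 0x0) (.leaf 0xb0001)) (.node 28754 (.leaf 0x0) (.node 28755 (.leaf 0x0) (.leaf 0xf0001)))) (.node 28759 (.node 28757 (.leaf 0xf0b0a0003) (.node 28758 (.leaf 0x7054007053) (.leaf 0x5020202010802040105000b))) (.node 28760 (.leaf 0x0) (.node 28761 (.leaf 0xa0f0b0003) (.leaf 0x0))))) (.node 28768 (.node 28765 (.node 28763 (.leaf 0x0) (.node 28764 (.leaf 0xf0b0b0a0004) (.leaf 0x4030009080600000703040103000d))) (.node 28766 (.leaf 0x0) (.node 28767 (.leaf 0x0) (.leaf 0xb0b0002)))) (.node 28771 (.node 28769 (.leaf 0x705f00705e) (.node 28770 (.leaf 0xb0b0a0003) (.leaf 0x0))) (.node 28772 (.leaf 0x601030604000703040103000b) (.node 28773 (.leaf 0x0) (.leaf 0xd0001))))))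

def argWS_2544 : Store := (.node 28751 argWS_2542 argWS_2543)

def argWS_2545 : Store := (.node 28729 argWS_2541 argWS_2544)

def argWS_2546 : Store := (.node 28785 (.node 28779 (.node 28776 (.node 28775 (.leaf 0xf0b0b0003) (.leaf 0xe0d0002)) (.node 28777 (.leaf 0x0) (.node 28778 (.leaf 0x706800272c) (.leaf 0xb0f0a0003)))) (.node 28782 (.node 28780 (.leaf 0x0) (.node 28781 (.leaf 0x9000308000703040103000a) (.leaf 0x0))) (.node 28783 (.leaf 0xd0b0b0003) (.node 28784 (.leaf 0xf0a0a0003) (.leaf 0x706f))))) (.node 28790 (.node 28787 (.node 28786 (.leaf 0x300000300000202000701000c) (.leaf 0x0)) (.node 28788 (.leaf 0xb0f0a0a0004) (.node 28789 (.leaf 0x0) (.leaf 0x2060601050002000703040103000d)))) (.node 28793 (.node 28791 (.leaf 0x0) (.node 28792 (.leaf 0xf0a0a0003) (.leaf 0xa0f0b0003))) (.node 28794 (.leaf 0x501010908050202000701000b) (.node 28795 (.leaf 0x0) (.leaf 0xd0b0002))))))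

def argWS_2547 : Store := (.node 28807 (.node 28801 (.node 28798 (.node 28797 (.leaf 0x0) (.leaf 0x707c)) (.node 28799 (.leaf 0xb0b0a0003) (.node 28800 (.leaf 0x0) (.leaf 0x10400000300000202000701000c)))) (.node 28804 (.node 28802 (.leaf 0x0) (.node 28803 (.leaf 0xf0b0b0a0004) (.leaf 0x300000300000007))) (.node 28805 (.leaf 0x0) (.node 28806 (.leaf 0xf0b0b0a0004) (.leaf 0x0))))) (.node 28813 (.node 28810 (.node 28808 (.leaf 0x10708020401050007) (.node 28809 (.leaf 0x0) (.leaf 0xb0b0002))) (.node 28811 (.leaf 0x0) (.node 28812 (.leaf 0x708a) (.leaf 0x601010904020006)))) (.node 28816 (.node 28814 (.leaf 0x0) (.node 28815 (.leaf 0xd0001) (.leaf 0x0))) (.node 28817 (.leaf 0xa0f0b0b0004) (.node 28818 (.leaf 0x0) (.leaf 0x0))))))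

def argWS_2548 : Store := (.node 28796 argWS_2546 argWS_2547)

def argWS_2549 : Store := (.node 28830 (.node 28824 (.node 28821 (.node 28820 (.leaf 0x60000000300000007) (.leaf 0x0)) (.node 28822 (.leaf 0xd0001) (.node 28823 (.leaf 0x0) (.leaf 0x282f007096)))) (.node 28827 (.node 28825 (.leaf 0x60601010904020202000701000c) (.node 28826 (.leaf 0x0) (.leaf 0xf0a0a0003))) (.node 28828 (.leaf 0x0) (.node 28829 (.leaf 0xb0b0a0a0004) (.leaf 0x0))))) (.node 28836 (.node 28833 (.node 28831 (.leaf 0x0) (.node 28832 (.leaf 0xb0f0a0003) (.leaf 0x4000306010500020008))) (.node 28834 (.leaf 0x0) (.node 28835 (.leaf 0xb0f0002) (.leaf 0x0)))) (.node 28839 (.node 28837 (.leaf 0xb020070a3) (.node 28838 (.leaf 0xf0b0a0a0004) (.leaf 0x0))) (.node 28840 (.leaf 0x80200050206040202000701000c) (.node 28841 (.leaf 0x0) (.leaf 0xb0a0002))))))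

def argWS_2550 : Store := (.node 28853 (.node 28847 (.node 28844 (.node 28843 (.leaf 0xf0a0a0003) (.leaf 0xf0b0a0a0004)) (.node 28845 (.leaf 0xe0d0002) (.node 28846 (.leaf 0x70ac0070ab) (.leaf 0xf0a0002)))) (.node 28850 (.node 28848 (.leaf 0x0) (.node 28849 (.leaf 0x800040003030604000703040103000e) (.leaf 0x0))) (.node 28851 (.leaf 0xf0b0002) (.node 28852 (.leaf 0xa0f0002) (.leaf 0x503050202020703040103000b))))) (.node 28859 (.node 28856 (.node 28854 (.leaf 0x0) (.node 28855 (.leaf 0xb0a0f0003) (.leaf 0x0))) (.node 28857 (.leaf 0xf0001) (.node 28858 (.leaf 0x70b80070b7) (.leaf 0xd0001)))) (.node 28862 (.node 28860 (.leaf 0x0) (.node 28861 (.leaf 0x803090805000703040103000b) (.leaf 0x0))) (.node 28863 (.leaf 0xa0a0002) (.node 28864 (.leaf 0x900090806000202000701000c) (.leaf 0x0))))))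

def argWS_2551 : Store := (.node 28842 argWS_2549 argWS_2550)

def argWS_2552 : Store := (.node 28819 argWS_2548 argWS_2551)

def argWS_2553 : Store := (.node 28774 argWS_2545 argWS_2552)

def argWS_2554 : Store := (.node 28684 argWS_2538 argWS_2553)

def argWS_2555 : Store := (.node 28504 argWS_2523 argWS_2554)

def argWS_2556 : Store := (.node 28143 argWS_2492 argWS_2555)

def argWS_2557 : Store := (.node 27421 argWS_2429 argWS_2556)

def argWS_2558 : Store := (.node 25978 argWS_2302 argWS_2557)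

def argWS_2559 : Store := (.node 28876 (.node 28870 (.node 28867 (.node 28866 (.leaf 0xb0f0a0003) (.leaf 0x0)) (.node 28868 (.leaf 0xb0f0a0003) (.node 28869 (.leaf 0x20000000300000802040105000c) (.leaf 0x0)))) (.node 28873 (.node 28871 (.leaf 0xb0a0f0003) (.node 28872 (.leaf 0x0) (.leaf 0x70c70070c3))) (.node 28874 (.leaf 0xa0f0002) (.node 28875 (.leaf 0x0) (.leaf 0xa0f0b0b0004))))) (.node 28881 (.node 28878 (.node 28877 (.leaf 0x0) (.leaf 0x0)) (.node 28879 (.leaf 0xa0001) (.node 28880 (.leaf 0xa0a0002) (.leaf 0xd0b0002)))) (.node 28884 (.node 28882 (.leaf 0x70d00070cf) (.node 28883 (.leaf 0xb0a0f0003) (.leaf 0x0))) (.node 28885 (.leaf 0xf0a0a0003) (.node 28886 (.leaf 0x0) (.leaf 0x0))))))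

def argWS_2560 : Store := (.node 28898 (.node 28892 (.node 28889 (.node 28888 (.leaf 0xf0b0002) (.leaf 0x205020604000703040103000c)) (.node 28890 (.leaf 0x0) (.node 28891 (.leaf 0xb0b0002) (.leaf 0x0)))) (.node 28895 (.node 28893 (.leaf 0x104090000090202000701000b) (.node 28894 (.leaf 0x0) (.leaf 0xf0b0002))) (.node 28896 (.leaf 0x0) (.node 28897 (.leaf 0x70df0070db) (.leaf 0x0))))) (.node 28904 (.node 28901 (.node 28899 (.leaf 0xa0f0b0003) (.node 28900 (.leaf 0x0) (.leaf 0x70305010908050802040105000c))) (.node 28902 (.leaf 0x0) (.node 28903 (.leaf 0xb0b0a0003) (.leaf 0x30000000300000007)))) (.node 28907 (.node 28905 (.leaf 0x0) (.node 28906 (.leaf 0xf0b0a0003) (.leaf 0x0))) (.node 28908 (.leaf 0xd0b0002) (.node 28909 (.leaf 0x70eb0070ea) (.leaf 0xb0001))))))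

def argWS_2561 : Store := (.node 28887 argWS_2559 argWS_2560)

def argWS_2562 : Store := (.node 28921 (.node 28915 (.node 28912 (.node 28911 (.leaf 0x0) (.leaf 0xe0a0002)) (.node 28913 (.leaf 0x0) (.node 28914 (.leaf 0x0) (.leaf 0x70209020004)))) (.node 28918 (.node 28916 (.leaf 0x0) (.node 28917 (.leaf 0xa0f0b0003) (.leaf 0x0))) (.node 28919 (.leaf 0xf0a0002) (.node 28920 (.leaf 0x70f6) (.leaf 0xe0001))))) (.node 28926 (.node 28923 (.node 28922 (.leaf 0x0) (.leaf 0x800020901060202000701000c)) (.node 28924 (.leaf 0x0) (.node 28925 (.leaf 0xf0001) (.leaf 0xb0f0a0003)))) (.node 28929 (.node 28927 (.leaf 0x40402000003010802040105000c) (.node 28928 (.leaf 0x0) (.leaf 0xe0001))) (.node 28930 (.leaf 0x0) (.node 28931 (.leaf 0x2060400050005) (.leaf 0x0))))))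

def argWS_2563 : Store := (.node 28943 (.node 28937 (.node 28934 (.node 28933 (.leaf 0xf0b0b0003) (.leaf 0x0)) (.node 28935 (.leaf 0x7105007101) (.node 28936 (.leaf 0xd0001) (.leaf 0x0)))) (.node 28940 (.node 28938 (.leaf 0xf0b0002) (.node 28939 (.leaf 0x0) (.leaf 0x0))) (.node 28941 (.leaf 0xb0a0002) (.node 28942 (.leaf 0x8020002000003010202000701000d) (.leaf 0x0))))) (.node 28949 (.node 28946 (.node 28944 (.leaf 0xb0a0002) (.node 28945 (.leaf 0x0) (.leaf 0xe0a0002))) (.node 28947 (.leaf 0x7111007110) (.node 28948 (.leaf 0x20403070206000007) (.leaf 0x0)))) (.node 28952 (.node 28950 (.leaf 0xb0b0002) (.node 28951 (.leaf 0x0) (.leaf 0x907000408010006))) (.node 28953 (.leaf 0x0) (.node 28954 (.leaf 0xf0b0b0003) (.leaf 0x20103010102000202000701000c))))))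

def argWS_2564 : Store := (.node 28932 argWS_2562 argWS_2563)

def argWS_2565 : Store := (.node 28910 argWS_2561 argWS_2564)

def argWS_2566 : Store := (.node 28966 (.node 28960 (.node 28957 (.node 28956 (.leaf 0x0) (.leaf 0xf0a0002)) (.node 28958 (.leaf 0x0) (.node 28959 (.leaf 0x900050206040202000701000b) (.leaf 0x0)))) (.node 28963 (.node 28961 (.leaf 0xb0b0002) (.node 28962 (.leaf 0x0) (.leaf 0xd0b0b0003))) (.node 28964 (.leaf 0x7122007121) (.node 28965 (.leaf 0xb0f0a0a0004) (.leaf 0x0))))) (.node 28971 (.node 28968 (.node 28967 (.leaf 0x2090003030604000703040103000d) (.leaf 0x0)) (.node 28969 (.leaf 0xf0001) (.node 28970 (.leaf 0xb0b0a0003) (.leaf 0x30403050206040007)))) (.node 28974 (.node 28972 (.leaf 0x0) (.node 28973 (.leaf 0xf0b0a0003) (.leaf 0x0))) (.node 28975 (.leaf 0x8010101090402000703040103000d) (.node 28976 (.leaf 0x0) (.leaf 0xb0f0a0003))))))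

def argWS_2567 : Store := (.node 28988 (.node 28982 (.node 28979 (.node 28978 (.leaf 0x0) (.leaf 0x713100712d)) (.node 28980 (.leaf 0xb0f0002) (.node 28981 (.leaf 0x0) (.leaf 0xb0001)))) (.node 28985 (.node 28983 (.leaf 0x0) (.node 28984 (.leaf 0x0) (.leaf 0x601040005000703040103000b))) (.node 28986 (.leaf 0x0) (.node 28987 (.leaf 0xa0001) (.leaf 0x0))))) (.node 28994 (.node 28991 (.node 28989 (.leaf 0x503010908050802040105000b) (.node 28990 (.leaf 0x0) (.leaf 0x0))) (.node 28992 (.leaf 0xe0a0002) (.node 28993 (.leaf 0x713f00713e) (.leaf 0xb0f0002)))) (.node 28997 (.node 28995 (.leaf 0x0) (.node 28996 (.leaf 0xf0a0002) (.leaf 0x0))) (.node 28998 (.leaf 0x0) (.node 28999 (.leaf 0xa0a0002) (.leaf 0xb0b0a0003))))))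

def argWS_2568 : Store := (.node 28977 argWS_2566 argWS_2567)

def argWS_2569 : Store := (.node 29011 (.node 29005 (.node 29002 (.node 29001 (.leaf 0xf0b0a0a0004) (.leaf 0x7148007147)) (.node 29003 (.leaf 0x900090206020202000701000b) (.node 29004 (.leaf 0x0) (.leaf 0xa0001)))) (.node 29008 (.node 29006 (.leaf 0x0) (.node 29007 (.leaf 0xa0001) (.leaf 0x0))) (.node 29009 (.leaf 0x0) (.node 29010 (.leaf 0x502070009030006) (.leaf 0x0))))) (.node 29016 (.node 29013 (.node 29012 (.leaf 0xb0a0f0003) (.leaf 0x0)) (.node 29014 (.leaf 0x1050205020604000703040103000d) (.node 29015 (.leaf 0x0) (.leaf 0xb0b0a0a0004)))) (.node 29019 (.node 29017 (.leaf 0x0) (.node 29018 (.leaf 0x7158) (.leaf 0x90600020804000007))) (.node 29020 (.leaf 0x0) (.node 29021 (.leaf 0xf0a0a0003) (.leaf 0x0))))))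

def argWS_2570 : Store := (.node 29033 (.node 29027 (.node 29024 (.node 29023 (.leaf 0xf0b0b0a0a0005) (.leaf 0x0)) (.node 29025 (.leaf 0xd0b0002) (.node 29026 (.leaf 0xf0a0002) (.leaf 0xb0a0002)))) (.node 29030 (.node 29028 (.leaf 0x7162007161) (.node 29029 (.leaf 0x60500090206020202000701000c) (.leaf 0x0))) (.node 29031 (.leaf 0xb0a0002) (.node 29032 (.leaf 0x0) (.leaf 0x30300000300000007))))) (.node 29039 (.node 29036 (.node 29034 (.leaf 0x0) (.node 29035 (.leaf 0xd0b0002) (.leaf 0x70006010500020202000701000c))) (.node 29037 (.leaf 0x0) (.node 29038 (.leaf 0xb0b0a0a0004) (.leaf 0x0)))) (.node 29042 (.node 29040 (.leaf 0x403000900090202000701000b) (.node 29041 (.leaf 0x0) (.leaf 0xd0001))) (.node 29043 (.leaf 0x0) (.node 29044 (.leaf 0x4020901060202000701000b) (.leaf 0x0))))))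

def argWS_2571 : Store := (.node 29022 argWS_2569 argWS_2570)

def argWS_2572 : Store := (.node 29000 argWS_2568 argWS_2571)

def argWS_2573 : Store := (.node 28955 argWS_2565 argWS_2572)

def argWS_2574 : Store := (.node 29056 (.node 29050 (.node 29047 (.node 29046 (.leaf 0xe0001) (.leaf 0x0)) (.node 29048 (.leaf 0x7176007172) (.node 29049 (.leaf 0x40402000003010007) (.leaf 0x0)))) (.node 29053 (.node 29051 (.leaf 0xa0f0b0b0004) (.node 29052 (.leaf 0x0) (.leaf 0xb0b0002))) (.node 29054 (.leaf 0x0) (.node 29055 (.leaf 0x0) (.leaf 0x602000901090802040105000b))))) (.node 29061 (.node 29058 (.node 29057 (.leaf 0x0) (.leaf 0xd0001)) (.node 29059 (.leaf 0x0) (.node 29060 (.leaf 0xa0001) (.leaf 0x7183)))) (.node 29064 (.node 29062 (.leaf 0x7000904020005) (.node 29063 (.leaf 0x0) (.leaf 0xf0b0b0a0a0005))) (.node 29065 (.leaf 0x0) (.node 29066 (.leaf 0xf0001) (.leaf 0x0))))))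

def argWS_2575 : Store := (.node 29078 (.node 29072 (.node 29069 (.node 29068 (.leaf 0x0) (.leaf 0xe0a0a0003)) (.node 29070 (.leaf 0x50300090206020802040105000d) (.node 29071 (.leaf 0x0) (.leaf 0xa0f0002)))) (.node 29075 (.node 29073 (.leaf 0x0) (.node 29074 (.leaf 0x70305090109000703040103000c) (.leaf 0x0))) (.node 29076 (.leaf 0xb0b0002) (.node 29077 (.leaf 0x0) (.leaf 0x7194007190))))) (.node 29084 (.node 29081 (.node 29079 (.leaf 0x0) (.node 29080 (.leaf 0xb0a0a0003) (.leaf 0x0))) (.node 29082 (.leaf 0x90006020702010202000701000d) (.node 29083 (.leaf 0x0) (.leaf 0xf0b0a0a0004)))) (.node 29087 (.node 29085 (.leaf 0xe0d0002) (.node 29086 (.leaf 0xf0b0b0a0004) (.leaf 0x40007030401030007))) (.node 29088 (.leaf 0x0) (.node 29089 (.leaf 0xf0a0002) (.leaf 0x0))))))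

def argWS_2576 : Store := (.node 29067 argWS_2574 argWS_2575)

def argWS_2577 : Store := (.node 29101 (.node 29095 (.node 29092 (.node 29091 (.leaf 0x71a100719d) (.leaf 0x3010703060202000701000b)) (.node 29093 (.leaf 0x0) (.node 29094 (.leaf 0xb0b0002) (.leaf 0x0)))) (.node 29098 (.node 29096 (.leaf 0x20403010904020802040105000c) (.node 29097 (.leaf 0x0) (.leaf 0xa0001))) (.node 29099 (.leaf 0x0) (.node 29100 (.leaf 0x0) (.leaf 0xb0f0a0003))))) (.node 29106 (.node 29103 (.node 29102 (.leaf 0x2) (.leaf 0x0)) (.node 29104 (.leaf 0x0) (.node 29105 (.leaf 0x0) (.leaf 0x20002020900000007)))) (.node 29109 (.node 29107 (.leaf 0x0) (.node 29108 (.leaf 0xf0a0a0003) (.leaf 0x5020604000703040103000a))) (.node 29110 (.leaf 0x0) (.node 29111 (.leaf 0xe0a0002) (.leaf 0x0))))))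

def argWS_2578 : Store := (.node 29123 (.node 29117 (.node 29114 (.node 29113 (.leaf 0x71b7) (.leaf 0x206020007010006)) (.node 29115 (.leaf 0x0) (.node 29116 (.leaf 0xf0001) (.leaf 0x0)))) (.node 29120 (.node 29118 (.leaf 0xf0b0b0003) (.node 29119 (.leaf 0x0) (.leaf 0x0))) (.node 29121 (.leaf 0x202090000090006) (.node 29122 (.leaf 0x0) (.leaf 0xb0a0002))))) (.node 29129 (.node 29126 (.node 29124 (.leaf 0xa0f0b0b0004) (.node 29125 (.leaf 0x6010201020603000703040103000d) (.leaf 0x0))) (.node 29127 (.leaf 0xf0b0a0a0004) (.node 29128 (.leaf 0x0) (.leaf 0x71c700063c)))) (.node 29132 (.node 29130 (.leaf 0x102010207030006) (.node 29131 (.leaf 0x0) (.leaf 0xf0b0002))) (.node 29133 (.leaf 0x0) (.node 29134 (.leaf 0x40202090000000703040103000c) (.leaf 0x0))))))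

def argWS_2579 : Store := (.node 29112 argWS_2577 argWS_2578)

def argWS_2580 : Store := (.node 29090 argWS_2576 argWS_2579)

def argWS_2581 : Store := (.node 29146 (.node 29140 (.node 29137 (.node 29136 (.leaf 0xf0b0a0003) (.leaf 0xb0f0a0a0004)) (.node 29138 (.leaf 0x90306040004) (.node 29139 (.leaf 0x0) (.leaf 0xb0a0f0003)))) (.node 29143 (.node 29141 (.leaf 0x0) (.node 29142 (.leaf 0x71d4) (.leaf 0xf0b0b0003))) (.node 29144 (.leaf 0x0) (.node 29145 (.leaf 0x10102010606000703040103000c) (.leaf 0x0))))) (.node 29151 (.node 29148 (.node 29147 (.leaf 0xa0001) (.leaf 0x80300070209020202000701000c)) (.node 29149 (.leaf 0x0) (.node 29150 (.leaf 0xf0a0a0003) (.leaf 0x0)))) (.node 29154 (.node 29152 (.leaf 0xf0a0a0003) (.node 29153 (.leaf 0x71df) (.leaf 0xd0b0b0003))) (.node 29155 (.leaf 0x0) (.node 29156 (.leaf 0xb0f0a0003) (.leaf 0x0))))))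

def argWS_2582 : Store := (.node 29168 (.node 29162 (.node 29159 (.node 29158 (.leaf 0x0) (.leaf 0xa0a0002)) (.node 29160 (.leaf 0xa0a0002) (.node 29161 (.leaf 0x103010601050002000703040103000e) (.leaf 0x0)))) (.node 29165 (.node 29163 (.leaf 0x0) (.node 29164 (.leaf 0x71ea) (.leaf 0x305020703000703040103000b))) (.node 29166 (.leaf 0x0) (.node 29167 (.leaf 0xb0f0002) (.leaf 0x0))))) (.node 29174 (.node 29171 (.node 29169 (.leaf 0xb0a0f0003) (.node 29170 (.leaf 0x0) (.leaf 0x0))) (.node 29172 (.leaf 0xa0f0b0003) (.node 29173 (.leaf 0xe0001) (.leaf 0xb0b0002)))) (.node 29177 (.node 29175 (.leaf 0x60106030500040202000701000c) (.node 29176 (.leaf 0x3090000090802040105000a) (.leaf 0x0))) (.node 29178 (.leaf 0xb0f0a0003) (.node 29179 (.leaf 0x0) (.leaf 0x80500020106060007))))))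

def argWS_2583 : Store := (.node 29157 argWS_2581 argWS_2582)

def argWS_2584 : Store := (.node 29191 (.node 29185 (.node 29182 (.node 29181 (.leaf 0x0) (.leaf 0xf0b0b0a0004)) (.node 29183 (.leaf 0x0) (.node 29184 (.leaf 0x71fe) (.leaf 0x20703060005)))) (.node 29188 (.node 29186 (.leaf 0x0) (.node 29187 (.leaf 0xb0f0a0a0004) (.leaf 0x0))) (.node 29189 (.leaf 0xf0b0b0a0a0005) (.node 29190 (.leaf 0x0) (.leaf 0x0))))) (.node 29196 (.node 29193 (.node 29192 (.leaf 0xf0b0002) (.leaf 0xd0001)) (.node 29194 (.leaf 0xb0b0a0a0004) (.node 29195 (.leaf 0x2000003030604000703040103000d) (.leaf 0x603010102000802040105000b)))) (.node 29199 (.node 29197 (.leaf 0x0) (.node 29198 (.leaf 0xb0f0a0a0004) (.leaf 0x0))) (.node 29200 (.leaf 0xe0a0a0003) (.node 29201 (.leaf 0x720f) (.leaf 0x8000407000903000703040103000d))))))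

def argWS_2585 : Store := (.node 29213 (.node 29207 (.node 29204 (.node 29203 (.leaf 0x0) (.leaf 0xa0f0b0b0004)) (.node 29205 (.leaf 0x0) (.node 29206 (.leaf 0x403000207030802040105000b) (.leaf 0x0)))) (.node 29210 (.node 29208 (.leaf 0xb0001) (.node 29209 (.leaf 0xe0001) (.leaf 0x10202090109000703040103000c))) (.node 29211 (.leaf 0xd0b0002) (.node 29212 (.leaf 0x8000900090202000701000a) (.leaf 0x0))))) (.node 29219 (.node 29216 (.node 29214 (.leaf 0xb0001) (.node 29215 (.leaf 0x0) (.leaf 0x70207030401030007))) (.node 29217 (.leaf 0x0) (.node 29218 (.leaf 0xd0b0b0003) (.leaf 0x0)))) (.node 29222 (.node 29220 (.leaf 0x722200721e) (.node 29221 (.leaf 0xa0a0002) (.leaf 0x0))) (.node 29223 (.leaf 0x702020900000802040105000b) (.node 29224 (.leaf 0x0) (.leaf 0xb0f0a0a0004))))))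

def argWS_2586 : Store := (.node 29202 argWS_2584 argWS_2585)

def argWS_2587 : Store := (.node 29180 argWS_2583 argWS_2586)

def argWS_2588 : Store := (.node 29135 argWS_2580 argWS_2587)

def argWS_2589 : Store := (.node 29045 argWS_2573 argWS_2588)

def argWS_2590 : Store := (.node 29236 (.node 29230 (.node 29227 (.node 29226 (.leaf 0xb0f0002) (.leaf 0x10400090206020202000701000c)) (.node 29228 (.leaf 0x0) (.node 29229 (.leaf 0xb0a0a0003) (.leaf 0x0)))) (.node 29233 (.node 29231 (.leaf 0x722d) (.node 29232 (.leaf 0xb0b0a0a0004) (.leaf 0x0))) (.node 29234 (.leaf 0x10406030500040802040105000c) (.node 29235 (.leaf 0x0) (.leaf 0x9020408010202000701000a))))) (.node 29241 (.node 29238 (.node 29237 (.leaf 0xb0a0a0003) (.leaf 0x0)) (.node 29239 (.leaf 0xb0b0002) (.node 29240 (.leaf 0x7236007235) (.leaf 0x4000306030500040202000701000d)))) (.node 29244 (.node 29242 (.leaf 0x0) (.node 29243 (.leaf 0xd0b0b0003) (.leaf 0x0))) (.node 29245 (.leaf 0xb0b0002) (.node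 29246 (.leaf 0x0) (.leaf 0x0))))))

def argWS_2591 : Store := (.node 29258 (.node 29252 (.node 29249 (.node 29248 (.leaf 0xd0001) (.leaf 0xd0001)) (.node 29250 (.leaf 0xf0b0002) (.node 29251 (.leaf 0x7241) (.leaf 0xf0b0a0003)))) (.node 29255 (.node 29253 (.leaf 0x0) (.node 29254 (.leaf 0xb0a0a0003) (.leaf 0x0))) (.node 29256 (.leaf 0x0) (.node 29257 (.leaf 0x2000400050802040105000b) (.leaf 0x30702010606000703040103000c))))) (.node 29264 (.node 29261 (.node 29259 (.leaf 0x0) (.node 29260 (.leaf 0x0) (.leaf 0x5030502020007010008))) (.node 29262 (.leaf 0x0) (.node 29263 (.leaf 0xb0f0002) (.leaf 0x0)))) (.node 29267 (.node 29265 (.leaf 0x9030308000703040103000a) (.node 29266 (.leaf 0x0) (.leaf 0xb0b0002))) (.node 29268 (.leaf 0x0) (.node 29269 (.leaf 0x725300724f) (.leaf 0xb0f0a0003))))))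

def argWS_2592 : Store := (.node 29247 argWS_2590 argWS_2591)

def argWS_2593 : Store := (.node 29281 (.node 29275 (.node 29272 (.node 29271 (.leaf 0x0) (.leaf 0x201090806000202000701000b)) (.node 29273 (.leaf 0x0) (.node 29274 (.leaf 0xb0f0a0003) (.leaf 0x202000003010802040105000c)))) (.node 29278 (.node 29276 (.leaf 0x0) (.node 29277 (.leaf 0xb0b0a0003) (.leaf 0x0))) (.node 29279 (.leaf 0x906020603000703040103000b) (.node 29280 (.leaf 0x0) (.leaf 0xe0001))))) (.node 29286 (.node 29283 (.node 29282 (.leaf 0x0) (.leaf 0x3d08007261)) (.node 29284 (.leaf 0xb0f0a0003) (.node 29285 (.leaf 0x0) (.leaf 0xa0001)))) (.node 29289 (.node 29287 (.leaf 0x0) (.node 29288 (.leaf 0x0) (.leaf 0x901090000090006))) (.node 29290 (.leaf 0x0) (.node 29291 (.leaf 0xb0b0002) (.leaf 0x0))))))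

def argWS_2594 : Store := (.node 29303 (.node 29297 (.node 29294 (.node 29293 (.leaf 0x301050206040202000701000b) (.leaf 0x0)) (.node 29295 (.leaf 0xe0001) (.node 29296 (.leaf 0x0) (.leaf 0x726f)))) (.node 29300 (.node 29298 (.leaf 0xb0b0a0003) (.node 29299 (.leaf 0x0) (.leaf 0x606010500020802040105000c))) (.node 29301 (.leaf 0x0) (.node 29302 (.leaf 0xf0b0b0003) (.leaf 0xb0a0a0003))))) (.node 29309 (.node 29306 (.node 29304 (.leaf 0x4000502020007010008) (.node 29305 (.leaf 0x0) (.leaf 0xf0b0b0a0a0005))) (.node 29307 (.leaf 0x0) (.node 29308 (.leaf 0x727a) (.leaf 0x90009080600000703040103000c)))) (.node 29312 (.node 29310 (.leaf 0x0) (.node 29311 (.leaf 0xd0001) (.leaf 0x0))) (.node 29313 (.leaf 0xf0b0002) (.node 29314 (.leaf 0x0) (.leaf 0x0))))))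

def argWS_2595 : Store := (.node 29292 argWS_2593 argWS_2594)

def argWS_2596 : Store := (.node 29270 argWS_2592 argWS_2595)

def argWS_2597 : Store := (.node 29326 (.node 29320 (.node 29317 (.node 29316 (.leaf 0xf0a0002) (.leaf 0x0)) (.node 29318 (.leaf 0x0) (.node 29319 (.leaf 0xb0a0f0003) (.leaf 0x1080002)))) (.node 29323 (.node 29321 (.leaf 0x0) (.node 29322 (.leaf 0x0) (.leaf 0x0))) (.node 29324 (.leaf 0x5080002) (.node 29325 (.leaf 0x0) (.leaf 0xb0a0002))))) (.node 29331 (.node 29328 (.node 29327 (.leaf 0xe0001) (.leaf 0x404020106060802040105000b)) (.node 29329 (.leaf 0x0) (.node 29330 (.leaf 0xf0b0a0003) (.leaf 0x0)))) (.node 29334 (.node 29332 (.leaf 0x7292) (.node 29333 (.leaf 0x501010703060006) (.leaf 0x0))) (.node 29335 (.leaf 0xb0f0a0003) (.node 29336 (.leaf 0x0) (.leaf 0x60105020604000703040103000c))))))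

def argWS_2598 : Store := (.node 29348 (.node 29342 (.node 29339 (.node 29338 (.leaf 0x0) (.leaf 0xb0f0002)) (.node 29340 (.leaf 0xb0f0002) (.node 29341 (.leaf 0xb0b0a0003) (.leaf 0x2000000020804000202000701000d)))) (.node 29345 (.node 29343 (.leaf 0x0) (.node 29344 (.leaf 0xa0f0b0b0004) (.leaf 0x0))) (.node 29346 (.leaf 0x72a0) (.node 29347 (.leaf 0x401010908050202000701000b) (.leaf 0x0))))) (.node 29354 (.node 29351 (.node 29349 (.leaf 0xe0d0002) (.node 29350 (.leaf 0x0) (.leaf 0x70101070209020202000701000c))) (.node 29352 (.leaf 0x0) (.node 29353 (.leaf 0xd0b0002) (.leaf 0xa0f0b0b0004)))) (.node 29357 (.node 29355 (.leaf 0xf0001) (.node 29356 (.leaf 0x1070006030500040802040105000d) (.leaf 0xf0b0b0a0a0005))) (.node 29358 (.leaf 0x60200090806000802040105000c) (.node 29359 (.leaf 0x209020007010006) (.leaf 0xf0b0b0003))))))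

def argWS_2599 : Store := (.node 29337 argWS_2597 argWS_2598)

def argWS_2600 : Store := (.node 29371 (.node 29365 (.node 29362 (.node 29361 (.leaf 0xd0001) (.leaf 0xb0b0002)) (.node 29363 (.leaf 0x30500090206020802040105000c) (.node 29364 (.leaf 0x0) (.leaf 0x0)))) (.node 29368 (.node 29366 (.leaf 0x90104010908050007) (.node 29367 (.leaf 0x0) (.leaf 0xf0b0a0003))) (.node 29369 (.leaf 0x0) (.node 29370 (.leaf 0x72b80072b4) (.leaf 0xf0b0b0a0004))))) (.node 29376 (.node 29373 (.node 29372 (.leaf 0x0) (.leaf 0xd0b0002)) (.node 29374 (.leaf 0x0) (.node 29375 (.leaf 0x0) (.leaf 0x4020000030703040103000a)))) (.node 29379 (.node 29377 (.leaf 0x0) (.node 29378 (.leaf 0xf0b0b0a0004) (.leaf 0x0))) (.node 29380 (.leaf 0x209070206000802040105000b) (.node 29381 (.leaf 0x0) (.leaf 0xb0001))))))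

def argWS_2601 : Store := (.node 29393 (.node 29387 (.node 29384 (.node 29383 (.leaf 0x0) (.leaf 0x72c6)) (.node 29385 (.leaf 0x400070206000007) (.node 29386 (.leaf 0x0) (.leaf 0xb0b0002)))) (.node 29390 (.node 29388 (.leaf 0x0) (.node 29389 (.leaf 0x0) (.leaf 0x902010207030802040105000b))) (.node 29391 (.leaf 0x0) (.node 29392 (.leaf 0xb0b0a0003) (.leaf 0x0))))) (.node 29399 (.node 29396 (.node 29394 (.leaf 0xb0b0a0a0004) (.node 29395 (.leaf 0xa0f0b0b0004) (.leaf 0xb0f0a0a0004))) (.node 29397 (.leaf 0x72d3) (.node 29398 (.leaf 0x9030005020202010802040105000d) (.leaf 0x0)))) (.node 29402 (.node 29400 (.leaf 0xf0b0a0003) (.node 29401 (.leaf 0x0) (.leaf 0xb0a0002))) (.node 29403 (.leaf 0x0) (.node 29404 (.leaf 0x0) (.leaf 0xf0b0b0a0a0005))))))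

def argWS_2602 : Store := (.node 29382 argWS_2600 argWS_2601)

def argWS_2603 : Store := (.node 29360 argWS_2599 argWS_2602)

def argWS_2604 : Store := (.node 29315 argWS_2596 argWS_2603)

def argWS_2605 : Store := (.node 29416 (.node 29410 (.node 29407 (.node 29406 (.leaf 0xf0b0b0a0004) (.leaf 0x20205020604000703040103000c)) (.node 29408 (.leaf 0x0) (.node 29409 (.leaf 0xb0a0f0003) (.leaf 0x0)))) (.node 29413 (.node 29411 (.leaf 0x10400090206020202000701000c) (.node 29412 (.leaf 0x0) (.leaf 0xb0a0a0003))) (.node 29414 (.leaf 0x0) (.node 29415 (.leaf 0x72e50072e1) (.leaf 0x7020603000703040103000a))))) (.node 29421 (.node 29418 (.node 29417 (.leaf 0x0) (.leaf 0xa0a0002)) (.node 29419 (.leaf 0x0) (.node 29420 (.leaf 0x3010904020006) (.leaf 0x0)))) (.node 29424 (.node 29422 (.leaf 0x506010500020006) (.node 29423 (.leaf 0x70009030802040105000b) (.leaf 0x403050202020703040103000b))) (.node 29425 (.leaf 0x0) (.node 29426 (.leaf 0xb0f0a0003) (.leaf 0x0))))))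

def argWS_2606 : Store := (.node 29438 (.node 29432 (.node 29429 (.node 29428 (.leaf 0xd0b0002) (.leaf 0x72f3)) (.node 29430 (.leaf 0x705020901060802040105000b) (.node 29431 (.leaf 0x0) (.leaf 0xb0f0002)))) (.node 29435 (.node 29433 (.leaf 0x0) (.node 29434 (.leaf 0x0) (.leaf 0xb0b0a0003))) (.node 29436 (.leaf 0xb0f0a0a0004) (.node 29437 (.leaf 0xb0a0f0003) (.leaf 0x72fc0072fb))))) (.node 29444 (.node 29441 (.node 29439 (.leaf 0x60000030306040202000701000c) (.node 29440 (.leaf 0x0) (.leaf 0xd0001))) (.node 29442 (.leaf 0x0) (.node 29443 (.leaf 0x1040002080400000703040103000d) (.leaf 0x0)))) (.node 29447 (.node 29445 (.leaf 0xa0001) (.node 29446 (.leaf 0x40006020702010007) (.leaf 0x0))) (.node 29448 (.leaf 0xd0b0b0003) (.node 29449 (.leaf 0x0) (.leaf 0xb0b0a0a0004))))))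

def argWS_2607 : Store := (.node 29427 argWS_2605 argWS_2606)

def argWS_2608 : Store := (.node 29461 (.node 29455 (.node 29452 (.node 29451 (.leaf 0x7309007308) (.leaf 0x503050207030006)) (.node 29453 (.leaf 0x0) (.node 29454 (.leaf 0xb0b0a0a0004) (.leaf 0x0)))) (.node 29458 (.node 29456 (.leaf 0x702060002020007010009) (.node 29457 (.leaf 0x0) (.leaf 0xa0a0002))) (.node 29459 (.leaf 0xe0001) (.node 29460 (.leaf 0xf0a0002) (.leaf 0x30500030306040802040105000c))))) (.node 29466 (.node 29463 (.node 29462 (.leaf 0x0) (.leaf 0xa0f0b0b0004)) (.node 29464 (.leaf 0x0) (.node 29465 (.leaf 0x402090106000703040103000b) (.leaf 0x0)))) (.node 29469 (.node 29467 (.leaf 0x0) (.node 29468 (.leaf 0x731a007317) (.leaf 0xf0b0a0003))) (.node 29470 (.leaf 0x0) (.node 29471 (.leaf 0xa0a0002) (.leaf 0x0))))))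

def argWS_2609 : Store := (.node 29483 (.node 29477 (.node 29474 (.node 29473 (.leaf 0x0) (.leaf 0x6020006030500040202000701000d)) (.node 29475 (.leaf 0x0) (.node 29476 (.leaf 0xe0a0002) (.leaf 0x0)))) (.node 29480 (.node 29478 (.leaf 0x7050900090005) (.node 29479 (.leaf 0x0) (.leaf 0xd0b0002))) (.node 29481 (.leaf 0x0) (.node 29482 (.leaf 0x7328) (.leaf 0x10903070009030007))))) (.node 29489 (.node 29486 (.node 29484 (.leaf 0x0) (.node 29485 (.leaf 0xb0b0a0a0004) (.leaf 0x0))) (.node 29487 (.leaf 0xd0b0002) (.node 29488 (.leaf 0x0) (.leaf 0x0)))) (.node 29492 (.node 29490 (.leaf 0x60200020901060802040105000c) (.node 29491 (.leaf 0x0) (.leaf 0xb0a0f0003))) (.node 29493 (.leaf 0x0) (.node 29494 (.leaf 0x20901070306000703040103000c) (.leaf 0x0))))))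

def argWS_2610 : Store := (.node 29472 argWS_2608 argWS_2609)

def argWS_2611 : Store := (.node 29450 argWS_2607 argWS_2610)

def argWS_2612 : Store := (.node 29506 (.node 29500 (.node 29497 (.node 29496 (.leaf 0xb0f0a0003) (.leaf 0x0)) (.node 29498 (.leaf 0x7338) (.node 29499 (.leaf 0xf0001) (.leaf 0x0)))) (.node 29503 (.node 29501 (.leaf 0x902090206020006) (.node 29502 (.leaf 0x0) (.leaf 0xf0a0a0003))) (.node 29504 (.leaf 0x5020002020007010008) (.node 29505 (.leaf 0x0) (.leaf 0xe0d0002))))) (.node 29511 (.node 29508 (.node 29507 (.leaf 0x105020000030000000703040103000e) (.leaf 0x0)) (.node 29509 (.leaf 0xd0b0b0003) (.node 29510 (.leaf 0x0) (.leaf 0x7020202010202000701000a)))) (.node 29514 (.node 29512 (.leaf 0x0) (.node 29513 (.leaf 0xf0b0b0a0004) (.leaf 0x0))) (.node 29515 (.leaf 0x7349007345) (.node 29516 (.leaf 0x80000090806000202000701000c) (.leaf 0x0))))))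

def argWS_2613 : Store := (.node 29528 (.node 29522 (.node 29519 (.node 29518 (.leaf 0xb0f0a0003) (.leaf 0x0)) (.node 29520 (.leaf 0x50201020901060007) (.node 29521 (.leaf 0x0) (.leaf 0xb0f0a0003)))) (.node 29525 (.node 29523 (.leaf 0x105020007030401030009) (.node 29524 (.leaf 0x0) (.leaf 0x0))) (.node 29526 (.leaf 0xb0001) (.node 29527 (.leaf 0xa0a0002) (.leaf 0x90503010908050007))))) (.node 29534 (.node 29531 (.node 29529 (.leaf 0x0) (.node 29530 (.leaf 0xa0f0002) (.leaf 0x0))) (.node 29532 (.leaf 0xd0b0b0003) (.node 29533 (.leaf 0x735b00735a) (.leaf 0xf0a0002)))) (.node 29537 (.node 29535 (.leaf 0x0) (.node 29536 (.leaf 0xa0f0b0003) (.leaf 0xb0a0002))) (.node 29538 (.leaf 0x0) (.node 29539 (.leaf 0x0) (.leaf 0xa0001))))))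

def argWS_2614 : Store := (.node 29517 argWS_2612 argWS_2613)

def argWS_2615 : Store := (.node 29551 (.node 29545 (.node 29542 (.node 29541 (.leaf 0xd0b0b0003) (.leaf 0x9030306040802040105000a)) (.node 29543 (.leaf 0x0) (.node 29544 (.leaf 0xb0a0a0003) (.leaf 0x0)))) (.node 29548 (.node 29546 (.leaf 0x1090206020202000701000a) (.node 29547 (.leaf 0x0) (.leaf 0xb0b0a0a0004))) (.node 29549 (.leaf 0x0) (.node 29550 (.leaf 0x736c007368) (.leaf 0xb0b0a0a0004))))) (.node 29557 (.node 29554 (.node 29552 (.leaf 0x0) (.node 29553 (.leaf 0x709000902020007010009) (.leaf 0x0))) (.node 29555 (.leaf 0xa0a0002) (.node 29556 (.leaf 0x20403010102000007) (.leaf 0x0)))) (.node 29560 (.node 29558 (.leaf 0x6050102000003010802040105000d) (.node 29559 (.leaf 0x0) (.leaf 0xf0b0b0a0004))) (.node 29561 (.leaf 0x0) (.node 29562 (.leaf 0x1010602020007010008) (.leaf 0x0))))))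

def argWS_2616 : Store := (.node 29574 (.node 29568 (.node 29565 (.node 29564 (.leaf 0xb0b0a0003) (.leaf 0x0)) (.node 29566 (.leaf 0x737c) (.node 29567 (.leaf 0xb0b0002) (.leaf 0x0)))) (.node 29571 (.node 29569 (.leaf 0xf0b0a0003) (.node 29570 (.leaf 0x0) (.leaf 0x0))) (.node 29572 (.leaf 0x60401010703060802040105000c) (.node 29573 (.leaf 0x0) (.leaf 0xe0001))))) (.node 29580 (.node 29577 (.node 29575 (.leaf 0x0) (.node 29576 (.leaf 0x40300020703000703040103000c) (.leaf 0x0))) (.node 29578 (.leaf 0xa0a0002) (.node 29579 (.leaf 0x0) (.leaf 0xb0a0002)))) (.node 29583 (.node 29581 (.leaf 0x738b00738a) (.node 29582 (.leaf 0xe0d0002) (.leaf 0x0))) (.node 29584 (.leaf 0xa0f0002) (.node 29585 (.leaf 0x0) (.leaf 0x0))))))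

def argWS_2617 : Store := (.node 29563 argWS_2615 argWS_2616)

def argWS_2618 : Store := (.node 29540 argWS_2614 argWS_2617)

def argWS_2619 : Store := (.node 29495 argWS_2611 argWS_2618)

def argWS_2620 : Store := (.node 29405 argWS_2604 argWS_2619)

def argWS_2621 : Store := (.node 29225 argWS_2589 argWS_2620)

def argWS_2622 : Store := (.node 29597 (.node 29591 (.node 29588 (.node 29587 (.leaf 0x4020502020900000008) (.leaf 0x0)) (.node 29589 (.leaf 0xb0b0002) (.node 29590 (.leaf 0x0) (.leaf 0xb0b0002)))) (.node 29594 (.node 29592 (.leaf 0x7396007395) (.node 29593 (.leaf 0x4000009020602000703040103000d) (.leaf 0x0))) (.node 29595 (.leaf 0xb0001) (.node 29596 (.leaf 0x0) (.leaf 0x80000020804000008))))) (.node 29602 (.node 29599 (.node 29598 (.leaf 0x0) (.leaf 0xa0a0002)) (.node 29600 (.leaf 0x601020004080703040103000b) (.node 29601 (.leaf 0x0) (.leaf 0xf0a0a0003)))) (.node 29605 (.node 29603 (.leaf 0x0) (.node 29604 (.leaf 0x204030007030401030009) (.leaf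 0x0))) (.node 29606 (.leaf 0xf0b0b0003) (.node 29607 (.leaf 0x0) (.leaf 0x73a60073a2))))))

def argWS_2623 : Store := (.node 29619 (.node 29613 (.node 29610 (.node 29609 (.leaf 0xb0f0002) (.leaf 0x0)) (.node 29611 (.leaf 0xf0b0b0a0a0005) (.node 29612 (.leaf 0x0) (.leaf 0x0)))) (.node 29616 (.node 29614 (.leaf 0xe0a0a0003) (.node 29615 (.leaf 0xd0b0b0003) (.leaf 0xb0a0002))) (.node 29617 (.leaf 0x73af0073ae) (.node 29618 (.leaf 0x701010703060006) (.leaf 0x0))))) (.node 29625 (.node 29622 (.node 29620 (.leaf 0xf0001) (.node 29621 (.leaf 0x0) (.leaf 0xd0b0002))) (.node 29623 (.leaf 0x0) (.node 29624 (.leaf 0x0) (.leaf 0x600020106060007)))) (.node 29628 (.node 29626 (.leaf 0x0) (.node 29627 (.leaf 0x3040300000300000008) (.leaf 0x0))) (.node 29629 (.leaf 0xf0b0b0a0a0005) (.node 29630 (.leaf 0x0) (.leaf 0xf0a0a0003))))))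

def argWS_2624 : Store := (.node 29608 argWS_2622 argWS_2623)

def argWS_2625 : Store := (.node 29642 (.node 29636 (.node 29633 (.node 29632 (.leaf 0xa0f0002) (.leaf 0x73bf0073be)) (.node 29634 (.leaf 0x3040207020007010008) (.node 29635 (.leaf 0x0) (.leaf 0xf0a0002)))) (.node 29639 (.node 29637 (.leaf 0x0) (.node 29638 (.leaf 0x6020904020802040105000a) (.leaf 0x0))) (.node 29640 (.leaf 0xd0b0002) (.node 29641 (.leaf 0xb0b0a0003) (.leaf 0xb0001))))) (.node 29647 (.node 29644 (.node 29643 (.leaf 0xf0b0b0a0a0005) (.leaf 0x73ca0073c9)) (.node 29645 (.leaf 0xa0a0002) (.node 29646 (.leaf 0x0) (.leaf 0x205020202090000000703040103000e)))) (.node 29650 (.node 29648 (.leaf 0x0) (.node 29649 (.leaf 0xa0a0002) (.leaf 0x20000030703040103000b))) (.node 29651 (.leaf 0x0) (.node 29652 (.leaf 0xa0f0b0003) (.leaf 0x0))))))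

def argWS_2626 : Store := (.node 29664 (.node 29658 (.node 29655 (.node 29654 (.leaf 0x73d4) (.leaf 0xd0001)) (.node 29656 (.leaf 0x0) (.node 29657 (.leaf 0xb0b0a0a0004) (.leaf 0x0)))) (.node 29661 (.node 29659 (.leaf 0x0) (.node 29660 (.leaf 0x503070209020007) (.leaf 0x0))) (.node 29662 (.leaf 0x0) (.node 29663 (.leaf 0x20820073dd) (.leaf 0x20606020702010007))))) (.node 29670 (.node 29667 (.node 29665 (.leaf 0x0) (.node 29666 (.leaf 0xd0001) (.leaf 0x0))) (.node 29668 (.leaf 0x2020200000300000202000701000d) (.node 29669 (.leaf 0x0) (.leaf 0xe0d0002)))) (.node 29673 (.node 29671 (.leaf 0x6000206030006) (.node 29672 (.leaf 0x0) (.leaf 0x0))) (.node 29674 (.leaf 0x20601010904020202000701000c) (.node 29675 (.leaf 0x0) (.leaf 0xb0a0a0003))))))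

def argWS_2627 : Store := (.node 29653 argWS_2625 argWS_2626)

def argWS_2628 : Store := (.node 29631 argWS_2624 argWS_2627)

def argWS_2629 : Store := (.node 29687 (.node 29681 (.node 29678 (.node 29677 (.leaf 0x0) (.leaf 0x60102010904020802040105000c)) (.node 29679 (.leaf 0x0) (.node 29680 (.leaf 0xf0b0a0a0004) (.leaf 0x0)))) (.node 29684 (.node 29682 (.leaf 0x73f00073ec) (.node 29683 (.leaf 0x7050000030000000703040103000d) (.leaf 0x0))) (.node 29685 (.leaf 0xd0b0b0003) (.node 29686 (.leaf 0x0) (.leaf 0x304030003030604000703040103000e))))) (.node 29692 (.node 29689 (.node 29688 (.leaf 0x0) (.leaf 0xb0b0a0003)) (.node 29690 (.leaf 0x1060602020007010008) (.node 29691 (.leaf 0x0) (.leaf 0xb0f0002)))) (.node 29695 (.node 29693 (.leaf 0x0) (.node 29694 (.leaf 0xe0a0a0003) (.leaf 0x307050202020703040103000b))) (.node 29696 (.leaf 0x0) (.node 29697 (.leaf 0xb0b0002) (.leaf 0x0))))))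

def argWS_2630 : Store := (.node 29709 (.node 29703 (.node 29700 (.node 29699 (.leaf 0x74010073fd) (.leaf 0x1030306040005)) (.node 29701 (.leaf 0x0) (.node 29702 (.leaf 0xe0a0002) (.leaf 0x0)))) (.node 29706 (.node 29704 (.leaf 0x40307020600000703040103000c) (.node 29705 (.leaf 0x0) (.leaf 0xb0a0f0003))) (.node 29707 (.leaf 0xa0f0002) (.node 29708 (.leaf 0x206020007030401030009) (.leaf 0x0))))) (.node 29715 (.node 29712 (.node 29710 (.leaf 0xb0b0002) (.node 29711 (.leaf 0x0) (.leaf 0xf0b0a0a0004))) (.node 29713 (.leaf 0x0) (.node 29714 (.leaf 0xb0001) (.leaf 0x7411007410)))) (.node 29718 (.node 29716 (.leaf 0x701020901060006) (.node 29717 (.leaf 0x0) (.leaf 0xf0a0002))) (.node 29719 (.leaf 0x0) (.node 29720 (.leaf 0x2050202020900000802040105000d) (.leaf 0x0))))))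

def argWS_2631 : Store := (.node 29698 argWS_2629 argWS_2630)

def argWS_2632 : Store := (.node 29732 (.node 29726 (.node 29723 (.node 29722 (.leaf 0xb0b0a0a0004) (.leaf 0xa0f0b0003)) (.node 29724 (.leaf 0x30502020007010007) (.node 29725 (.leaf 0x0) (.leaf 0xb0a0f0003)))) (.node 29729 (.node 29727 (.leaf 0x0) (.node 29728 (.leaf 0x109000908020401050009) (.leaf 0x0))) (.node 29730 (.leaf 0xa0f0b0003) (.node 29731 (.leaf 0x0) (.leaf 0x742200741e))))) (.node 29737 (.node 29734 (.node 29733 (.leaf 0xa0001) (.leaf 0x0)) (.node 29735 (.leaf 0xa0f0b0b0004) (.node 29736 (.leaf 0x0) (.leaf 0x0)))) (.node 29740 (.node 29738 (.leaf 0xb0f0a0a0004) (.node 29739 (.leaf 0x107010703060802040105000b) (.leaf 0x0))) (.node 29741 (.leaf 0xf0b0b0a0004) (.node 29742 (.leaf 0x0) (.leaf 0x5010900090005))))))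

def argWS_2633 : Store := (.node 29754 (.node 29748 (.node 29745 (.node 29744 (.leaf 0x0) (.leaf 0x0)) (.node 29746 (.leaf 0x743000742d) (.node 29747 (.leaf 0x7090206020802040105000a) (.leaf 0x0)))) (.node 29751 (.node 29749 (.leaf 0x0) (.node 29750 (.leaf 0xb0f0002) (.leaf 0x0))) (.node 29752 (.leaf 0x0) (.node 29753 (.leaf 0xf0b0b0a0004) (.leaf 0xb0a0a0003))))) (.node 29760 (.node 29757 (.node 29755 (.leaf 0x7439007438) (.node 29756 (.leaf 0x80500020000030703040103000c) (.leaf 0x0))) (.node 29758 (.leaf 0xf0b0a0003) (.node 29759 (.leaf 0x0) (.leaf 0xf0b0002)))) (.node 29763 (.node 29761 (.leaf 0x0) (.node 29762 (.leaf 0x0) (.leaf 0x5030901090006))) (.node 29764 (.leaf 0xe0a0a0003) (.node 29765 (.leaf 0x202000603050004000703040103000e) (.leaf 0x0))))))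

def argWS_2634 : Store := (.node 29743 argWS_2632 argWS_2633)

def argWS_2635 : Store := (.node 29721 argWS_2631 argWS_2634)

def argWS_2636 : Store := (.node 29676 argWS_2628 argWS_2635)

def argWS_2637 : Store := (.node 29777 (.node 29771 (.node 29768 (.node 29767 (.leaf 0xf0b0b0a0a0005) (.leaf 0x0)) (.node 29769 (.leaf 0x7447) (.node 29770 (.leaf 0xb0a0a0003) (.leaf 0x0)))) (.node 29774 (.node 29772 (.leaf 0x6040904020802040105000a) (.node 29773 (.leaf 0x0) (.leaf 0xb0f0002))) (.node 29775 (.leaf 0x6010703060202000701000b) (.node 29776 (.leaf 0x0) (.leaf 0xe0001))))) (.node 29782 (.node 29779 (.node 29778 (.leaf 0x0) (.leaf 0x307010904020802040105000b)) (.node 29780 (.leaf 0x0) (.node 29781 (.leaf 0xb0f0a0a0004) (.leaf 0x0)))) (.node 29785 (.node 29783 (.leaf 0x7455) (.node 29784 (.leaf 0x904010703060202000701000b) (.leaf 0x0))) (.node 29786 (.leaf 0xb0b0a0003) (.node 29787 (.leaf 0x0) (.leaf 0x6040002020900000008))))))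

def argWS_2638 : Store := (.node 29799 (.node 29793 (.node 29790 (.node 29789 (.leaf 0x0) (.leaf 0xe0d0002)) (.node 29791 (.leaf 0xa0a0002) (.node 29792 (.leaf 0xb0b0a0a0004) (.leaf 0x745f)))) (.node 29796 (.node 29794 (.leaf 0x1020901090005) (.node 29795 (.leaf 0x0) (.leaf 0xf0b0b0a0a0005))) (.node 29797 (.leaf 0x0) (.node 29798 (.leaf 0xb0f0a0003) (.leaf 0x0))))) (.node 29805 (.node 29802 (.node 29800 (.leaf 0x0) (.node 29801 (.leaf 0x702000408010802040105000b) (.leaf 0x0))) (.node 29803 (.leaf 0xa0001) (.node 29804 (.leaf 0x0) (.leaf 0xe0a0a0003)))) (.node 29808 (.node 29806 (.leaf 0x746c00746b) (.node 29807 (.leaf 0xf0a0a0003) (.leaf 0x0))) (.node 29809 (.leaf 0x9030002000003010202000701000d) (.node 29810 (.leaf 0x0) (.leaf 0xb0a0002))))))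

def argWS_2639 : Store := (.node 29788 argWS_2637 argWS_2638)

def argWS_2640 : Store := (.node 29822 (.node 29816 (.node 29813 (.node 29812 (.leaf 0xd0001) (.leaf 0x600040807030401030009)) (.node 29814 (.leaf 0x0) (.node 29815 (.leaf 0xe0001) (.leaf 0x0)))) (.node 29819 (.node 29817 (.leaf 0xe0001) (.node 29818 (.leaf 0x20206040004) (.leaf 0x0))) (.node 29820 (.leaf 0xd0b0002) (.node 29821 (.leaf 0x0) (.leaf 0x747c007478))))) (.node 29827 (.node 29824 (.node 29823 (.leaf 0xf0b0002) (.leaf 0x0)) (.node 29825 (.leaf 0x90701090805000703040103000c) (.node 29826 (.leaf 0x0) (.leaf 0xb0f0002)))) (.node 29830 (.node 29828 (.leaf 0x40400020804000802040105000c) (.node 29829 (.leaf 0x0) (.leaf 0xe0a0002))) (.node 29831 (.leaf 0x0) (.node 29832 (.leaf 0x20200090000090802040105000c) (.leaf 0x0))))))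

def argWS_2641 : Store := (.node 29844 (.node 29838 (.node 29835 (.node 29834 (.leaf 0xa0f0b0003) (.leaf 0x0)) (.node 29836 (.leaf 0x748a0037a4) (.node 29837 (.leaf 0x9070006020702010008) (.leaf 0x0)))) (.node 29841 (.node 29839 (.leaf 0xf0b0b0003) (.node 29840 (.leaf 0x0) (.leaf 0xb0a0a0003))) (.node 29842 (.leaf 0x0) (.node 29843 (.leaf 0x0) (.leaf 0x2060106010500020802040105000d))))) (.node 29850 (.node 29847 (.node 29845 (.leaf 0x0) (.node 29846 (.leaf 0xb0a0a0003) (.leaf 0x0))) (.node 29848 (.leaf 0xe0a0002) (.node 29849 (.leaf 0x7497) (.leaf 0x50904020004)))) (.node 29853 (.node 29851 (.leaf 0x0) (.node 29852 (.leaf 0xb0b0a0a0004) (.leaf 0x0))) (.node 29854 (.leaf 0x205020901060802040105000b) (.node 29855 (.leaf 0x0) (.leaf 0xf0b0b0a0004))))))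

def argWS_2642 : Store := (.node 29833 argWS_2640 argWS_2641)

def argWS_2643 : Store := (.node 29811 argWS_2639 argWS_2642)

def argWS_2644 : Store := (.node 29867 (.node 29861 (.node 29858 (.node 29857 (.leaf 0x1090206020802040105000a) (.leaf 0x0)) (.node 29859 (.leaf 0xe0d0002) (.node 29860 (.leaf 0x0) (.leaf 0x74a3)))) (.node 29864 (.node 29862 (.leaf 0xe0d0002) (.node 29863 (.leaf 0x0) (.leaf 0xf0b0b0a0a0005))) (.node 29865 (.leaf 0x0) (.node 29866 (.leaf 0x0) (.leaf 0xb0b0a0a0004))))) (.node 29872 (.node 29869 (.node 29868 (.leaf 0x0) (.leaf 0x60007020902000703040103000c)) (.node 29870 (.leaf 0x0) (.node 29871 (.leaf 0xa0f0b0003) (.leaf 0x0)))) (.node 29875 (.node 29873 (.leaf 0x74af0074ab) (.node 29874 (.leaf 0x8000400030306040802040105000d) (.leaf 0x0))) (.node 29876 (.leaf 0xb0001) (.node 29877 (.leaf 0x0) (.leaf 0xb0a0f0003))))))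

def argWS_2645 : Store := (.node 29889 (.node 29883 (.node 29880 (.node 29879 (.leaf 0x0) (.leaf 0x0)) (.node 29881 (.leaf 0xb0a0002) (.node 29882 (.leaf 0xb0b0002) (.leaf 0x0)))) (.node 29886 (.node 29884 (.leaf 0x206020702010006) (.node 29885 (.leaf 0x0) (.leaf 0xe0a0002))) (.node 29887 (.leaf 0x0) (.node 29888 (.leaf 0x74be0074ba) (.leaf 0x3070703060802040105000a))))) (.node 29895 (.node 29892 (.node 29890 (.leaf 0x0) (.node 29891 (.leaf 0xa0f0b0b0004) (.leaf 0x0))) (.node 29893 (.leaf 0xe0d0002) (.node 29894 (.leaf 0x0) (.leaf 0x0)))) (.node 29898 (.node 29896 (.leaf 0xb0f0a0a0004) (.node 29897 (.leaf 0x4000301070306000703040103000d) (.leaf 0x0))) (.node 29899 (.leaf 0x0) (.node 29900 (.leaf 0xf0b0002) (.leaf 0x74cb0074ca))))))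

def argWS_2646 : Store := (.node 29878 argWS_2644 argWS_2645)

def argWS_2647 : Store := (.node 29912 (.node 29906 (.node 29903 (.node 29902 (.leaf 0xb0f0002) (.leaf 0x0)) (.node 29904 (.leaf 0xb0f0002) (.node 29905 (.leaf 0x0) (.leaf 0xb0a0002)))) (.node 29909 (.node 29907 (.leaf 0x605010703060006) (.node 29908 (.leaf 0x0) (.leaf 0xf0b0b0003))) (.node 29910 (.leaf 0x0) (.node 29911 (.leaf 0x74d5) (.leaf 0x1020603050004000703040103000d))))) (.node 29918 (.node 29915 (.node 29913 (.leaf 0x0) (.node 29914 (.leaf 0xe0d0002) (.leaf 0x0))) (.node 29916 (.leaf 0x2000400050202000701000a) (.node 29917 (.leaf 0x0) (.leaf 0xb0b0a0a0004)))) (.node 29921 (.node 29919 (.leaf 0xd0b0b0003) (.node 29920 (.leaf 0x507000903000703040103000b) (.leaf 0x0))) (.node 29922 (.leaf 0xa0f0b0003) (.node 29923 (.leaf 0x0) (.leaf 0x200020400050202000701000b))))))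

def argWS_2648 : Store := (.node 29935 (.node 29929 (.node 29926 (.node 29925 (.leaf 0x0) (.leaf 0xb0a0002)) (.node 29927 (.leaf 0x0) (.node 29928 (.leaf 0x74e60074e2) (.leaf 0x7030507020902000703040103000d)))) (.node 29932 (.node 29930 (.leaf 0x0) (.node 29931 (.leaf 0xb0001) (.leaf 0x0))) (.node 29933 (.leaf 0xb0f0002) (.node 29934 (.leaf 0x0) (.leaf 0x0))))) (.node 29941 (.node 29938 (.node 29936 (.leaf 0xb0a0f0003) (.node 29937 (.leaf 0x107000206030802040105000b) (.leaf 0x0))) (.node 29939 (.leaf 0xf0a0002) (.node 29940 (.leaf 0x0) (.leaf 0x74f3)))) (.node 29944 (.node 29942 (.leaf 0xb0f0002) (.node 29943 (.leaf 0x0) (.leaf 0xf0b0b0003))) (.node 29945 (.leaf 0x0) (.node 29946 (.leaf 0x0) (.leaf 0x40006020702010202000701000d))))))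

def argWS_2649 : Store := (.node 29924 argWS_2647 argWS_2648)

def argWS_2650 : Store := (.node 29901 argWS_2646 argWS_2649)

def argWS_2651 : Store := (.node 29856 argWS_2643 argWS_2650)

def argWS_2652 : Store := (.node 29766 argWS_2636 argWS_2651)

def argWS_2653 : Store := (.node 29958 (.node 29952 (.node 29949 (.node 29948 (.leaf 0x0) (.leaf 0xd0b0b0003)) (.node 29950 (.leaf 0x0) (.node 29951 (.leaf 0x20602010606000703040103000c) (.leaf 0x0)))) (.node 29955 (.node 29953 (.leaf 0xf0b0b0a0004) (.node 29954 (.leaf 0x0) (.leaf 0xd0b0002))) (.node 29956 (.leaf 0x7502007501) (.node 29957 (.leaf 0x9070703060005) (.leaf 0x0))))) (.node 29963 (.node 29960 (.node 29959 (.leaf 0xd0b0002) (.leaf 0x0)) (.node 29961 (.leaf 0x40306010500020802040105000c) (.node 29962 (.leaf 0x0) (.leaf 0xf0a0a0003)))) (.node 29966 (.node 29964 (.leaf 0xa0f0002) (.node 29965 (.leaf 0x20106030500040202000701000c) (.leaf 0x0))) (.node 29967 (.leaf 0x0) (.node 29968 (.leaf 0x750e)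 (.leaf 0x2000908020401050008))))))

def argWS_2654 : Store := (.node 29980 (.node 29974 (.node 29971 (.node 29970 (.leaf 0x0) (.leaf 0xf0b0a0003)) (.node 29972 (.leaf 0x0) (.node 29973 (.leaf 0xa0f0002) (.leaf 0x0)))) (.node 29977 (.node 29975 (.leaf 0x8050904020005) (.node 29976 (.leaf 0x0) (.leaf 0xf0b0b0a0a0005))) (.node 29978 (.leaf 0x0) (.node 29979 (.leaf 0x502070206000006) (.leaf 0x0))))) (.node 29986 (.node 29983 (.node 29981 (.leaf 0xf0b0b0a0004) (.node 29982 (.leaf 0x0) (.leaf 0xa0f0b0b0004))) (.node 29984 (.leaf 0x751e00751d) (.node 29985 (.leaf 0xb0b0a0a0004) (.leaf 0x0)))) (.node 29989 (.node 29987 (.leaf 0x50002000003010802040105000c) (.node 29988 (.leaf 0x0) (.leaf 0xf0b0002))) (.node 29990 (.leaf 0xf0b0b0a0a0005) (.node 29991 (.leaf 0xb0f0a0a0004) (.leaf 0xf0b0b0003))))))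

def argWS_2655 : Store := (.node 29969 argWS_2653 argWS_2654)

def argWS_2656 : Store := (.node 30003 (.node 29997 (.node 29994 (.node 29993 (.leaf 0x7527007526) (.leaf 0xe0001)) (.node 29995 (.leaf 0x0) (.node 29996 (.leaf 0x303050206040006) (.leaf 0x0)))) (.node 30000 (.node 29998 (.leaf 0xe0a0a0003) (.node 29999 (.leaf 0x9000902020007010008) (.leaf 0x0))) (.node 30001 (.leaf 0xf0b0002) (.node 30002 (.leaf 0x0) (.leaf 0xf0b0a0003))))) (.node 30008 (.node 30005 (.node 30004 (.leaf 0x7532007531) (.leaf 0xf0b0002)) (.node 30006 (.leaf 0x0) (.node 30007 (.leaf 0x200000603050004000703040103000e) (.leaf 0x0)))) (.node 30011 (.node 30009 (.leaf 0xe0001) (.node 30010 (.leaf 0xb0001) (.leaf 0xb0a0a0003))) (.node 30012 (.leaf 0x30402000003010202000701000c) (.node 30013 (.leaf 0x0) (.leaf 0xe0a0002))))))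

def argWS_2657 : Store := (.node 30025 (.node 30019 (.node 30016 (.node 30015 (.leaf 0x0) (.leaf 0xd0100753e)) (.node 30017 (.leaf 0xf0001) (.node 30018 (.leaf 0x0) (.leaf 0xa0a0002)))) (.node 30022 (.node 30020 (.leaf 0x0) (.node 30021 (.leaf 0x0) (.leaf 0x209010901090006))) (.node 30023 (.leaf 0x0) (.node 30024 (.leaf 0x0) (.leaf 0xf0b0a0003))))) (.node 30031 (.node 30028 (.node 30026 (.leaf 0x7548007547) (.node 30027 (.leaf 0x403040007030401030009) (.leaf 0x0))) (.node 30029 (.leaf 0xb0a0f0003) (.node 30030 (.leaf 0x0) (.leaf 0x50201020901060802040105000c)))) (.node 30034 (.node 30032 (.leaf 0x0) (.node 30033 (.leaf 0xb0b0a0003) (.leaf 0xe0001))) (.node 30035 (.leaf 0x7551) (.node 30036 (.leaf 0x1010601050002000703040103000d) (.leaf 0x0))))))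

def argWS_2658 : Store := (.node 30014 argWS_2656 argWS_2657)

def argWS_2659 : Store := (.node 29992 argWS_2655 argWS_2658)

def argWS_2660 : Store := (.node 30048 (.node 30042 (.node 30039 (.node 30038 (.leaf 0xf0a0a0003) (.leaf 0x0)) (.node 30040 (.leaf 0xb0f0a0a0004) (.node 30041 (.leaf 0x0) (.leaf 0x0)))) (.node 30045 (.node 30043 (.leaf 0xd0b0b0003) (.node 30044 (.leaf 0xb0001) (.leaf 0x701010207030006))) (.node 30046 (.leaf 0x0) (.node 30047 (.leaf 0xb0f0a0003) (.leaf 0x0))))) (.node 30053 (.node 30050 (.node 30049 (.leaf 0x755f00755b) (.leaf 0x0)) (.node 30051 (.leaf 0xf0a0a0003) (.node 30052 (.leaf 0x0) (.leaf 0x0)))) (.node 30056 (.node 30054 (.leaf 0xe0a0a0003) (.node 30055 (.leaf 0xa0f0002) (.leaf 0x9070000090206020008))) (.node 30057 (.leaf 0x0) (.node 30058 (.leaf 0xf0b0b0a0a0005) (.leaf 0x0))))))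

def argWS_2661 : Store := (.node 30070 (.node 30064 (.node 30061 (.node 30060 (.leaf 0x756a007566) (.leaf 0x90306010500020802040105000c)) (.node 30062 (.leaf 0x0) (.node 30063 (.leaf 0xa0001) (.leaf 0x0)))) (.node 30067 (.node 30065 (.leaf 0xf0b0002) (.node 30066 (.leaf 0x0) (.leaf 0x0))) (.node 30068 (.leaf 0x8020000000300000802040105000d) (.node 30069 (.leaf 0x0) (.leaf 0xe0d0002))))) (.node 30076 (.node 30073 (.node 30071 (.leaf 0x0) (.node 30072 (.leaf 0x602020804000802040105000b) (.leaf 0x0))) (.node 30074 (.leaf 0xf0b0a0003) (.node 30075 (.leaf 0x0) (.leaf 0xf0b0b0a0004)))) (.node 30079 (.node 30077 (.leaf 0x757b00757a) (.node 30078 (.leaf 0x102070009020007010009) (.leaf 0x0))) (.node 30080 (.leaf 0xe0d0002) (.node 30081 (.leaf 0x0) (.leaf 0xb0b0002))))))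

def argWS_2662 : Store := (.node 30059 argWS_2660 argWS_2661)

def argWS_2663 : Store := (.node 30093 (.node 30087 (.node 30084 (.node 30083 (.leaf 0x0) (.leaf 0x0)) (.node 30085 (.leaf 0xd0001) (.node 30086 (.leaf 0x2050200030306040202000701000d) (.leaf 0x0)))) (.node 30090 (.node 30088 (.leaf 0xf0b0a0003) (.node 30089 (.leaf 0x0) (.leaf 0xf0a0a0003))) (.node 30091 (.leaf 0x7589007588) (.node 30092 (.leaf 0xd0001) (.leaf 0x0))))) (.node 30098 (.node 30095 (.node 30094 (.leaf 0x107020600000703040103000b) (.leaf 0x0)) (.node 30096 (.leaf 0xf0b0002) (.node 30097 (.leaf 0xf0b0002) (.leaf 0x9010901090202000701000a)))) (.node 30101 (.node 30099 (.leaf 0x0) (.node 30100 (.leaf 0x0) (.leaf 0x402000502020007010009))) (.node 30102 (.leaf 0x0) (.node 30103 (.leaf 0xb0a0a0003) (.leaf 0x0))))))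

def argWS_2664 : Store := (.node 30115 (.node 30109 (.node 30106 (.node 30105 (.leaf 0xd0001) (.leaf 0x7598)) (.node 30107 (.leaf 0x6000000000300000008) (.node 30108 (.leaf 0x0) (.leaf 0xf0b0a0003)))) (.node 30112 (.node 30110 (.leaf 0x0) (.node 30111 (.leaf 0xf0b0a0003) (.leaf 0x0))) (.node 30113 (.leaf 0x0) (.node 30114 (.leaf 0xb0a0f0003) (.leaf 0x90202080400000703040103000c))))) (.node 30121 (.node 30118 (.node 30116 (.leaf 0x0) (.node 30117 (.leaf 0xf0001) (.leaf 0x0))) (.node 30119 (.leaf 0x75a5) (.node 30120 (.leaf 0x1050200090206020802040105000d) (.leaf 0x0)))) (.node 30124 (.node 30122 (.leaf 0xb0f0002) (.node 30123 (.leaf 0x2070900090005) (.leaf 0x0))) (.node 30125 (.leaf 0xf0b0b0a0a0005) (.node 30126 (.leaf 0x0) (.leaf 0x75ad))))))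

def argWS_2665 : Store := (.node 30104 argWS_2663 argWS_2664)

def argWS_2666 : Store := (.node 30082 argWS_2662 argWS_2665)

def argWS_2667 : Store := (.node 30037 argWS_2659 argWS_2666)

def argWS_2668 : Store := (.node 30138 (.node 30132 (.node 30129 (.node 30128 (.leaf 0x8000601050002000703040103000e) (.leaf 0x0)) (.node 30130 (.leaf 0xb0f0a0a0004) (.node 30131 (.leaf 0x0) (.leaf 0x301010703060802040105000b)))) (.node 30135 (.node 30133 (.leaf 0x0) (.node 30134 (.leaf 0x400070206000202000701000c) (.leaf 0x0))) (.node 30136 (.leaf 0xb0f0a0a0004) (.node 30137 (.leaf 0x0) (.leaf 0x40402000003010202000701000c))))) (.node 30143 (.node 30140 (.node 30139 (.leaf 0x0) (.leaf 0xf0b0b0a0a0005)) (.node 30141 (.leaf 0x0) (.node 30142 (.leaf 0x75bc) (.leaf 0xf0b0b0a0004)))) (.node 30146 (.node 30144 (.leaf 0x0) (.node 30145 (.leaf 0xd0b0002) (.leaf 0x0))) (.node 30147 (.leaf 0x0) (.node 30148 (.leaf 0x20000090009000703040103000c) (.leaf 0x0))))))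

def argWS_2669 : Store := (.node 30160 (.node 30154 (.node 30151 (.node 30150 (.leaf 0xf0b0a0003) (.leaf 0x0)) (.node 30152 (.leaf 0x3070006020702010008) (.node 30153 (.leaf 0x0) (.leaf 0xb0b0002)))) (.node 30157 (.node 30155 (.leaf 0x0) (.node 30156 (.leaf 0x75ca0075c6) (.leaf 0xb0a0002))) (.node 30158 (.leaf 0x0) (.node 30159 (.leaf 0xd0001) (.leaf 0x0))))) (.node 30166 (.node 30163 (.node 30161 (.leaf 0x0) (.node 30162 (.leaf 0x80007020902000703040103000d) (.leaf 0x0))) (.node 30164 (.leaf 0xf0a0002) (.node 30165 (.leaf 0x0) (.leaf 0xb0f0002)))) (.node 30169 (.node 30167 (.leaf 0x601020900090802040105000b) (.node 30168 (.leaf 0x0) (.leaf 0xb0f0002))) (.node 30170 (.leaf 0x0) (.node 30171 (.leaf 0x75d90075d5) (.leaf 0xd0001))))))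

def argWS_2670 : Store := (.node 30149 argWS_2668 argWS_2669)

def argWS_2671 : Store := (.node 30183 (.node 30177 (.node 30174 (.node 30173 (.leaf 0x0) (.leaf 0x60501010908050802040105000c)) (.node 30175 (.leaf 0x0) (.node 30176 (.leaf 0xb0a0f0003) (.leaf 0x402020900000006)))) (.node 30180 (.node 30178 (.leaf 0x0) (.node 30179 (.leaf 0xd0b0b0003) (.leaf 0x0))) (.node 30181 (.leaf 0xb0a0a0003) (.node 30182 (.leaf 0x54b70075e4) (.leaf 0xb0f0a0a0004))))) (.node 30188 (.node 30185 (.node 30184 (.leaf 0x0) (.leaf 0xb0f0a0003)) (.node 30186 (.leaf 0x0) (.node 30187 (.leaf 0x0) (.leaf 0x60000070009030007)))) (.node 30191 (.node 30189 (.leaf 0x7020900090005) (.node 30190 (.leaf 0x0) (.leaf 0x0))) (.node 30192 (.leaf 0xd0b0b0003) (.node 30193 (.leaf 0x6050206040202000701000b) (.leaf 0x0))))))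

def argWS_2672 : Store := (.node 30205 (.node 30199 (.node 30196 (.node 30195 (.leaf 0xb0b0a0a0004) (.leaf 0x0)) (.node 30197 (.leaf 0x75f30075ef) (.node 30198 (.leaf 0x0) (.leaf 0xf0001)))) (.node 30202 (.node 30200 (.leaf 0x0) (.node 30201 (.leaf 0x20600030306040007) (.leaf 0x0))) (.node 30203 (.leaf 0xf0b0a0003) (.node 30204 (.leaf 0xf0b0b0a0004) (.leaf 0xf0b0b0003))))) (.node 30211 (.node 30208 (.node 30206 (.leaf 0x75fc007539) (.node 30207 (.leaf 0xf0a0a0003) (.leaf 0x0))) (.node 30209 (.leaf 0xd0b0002) (.node 30210 (.leaf 0x0) (.leaf 0x0)))) (.node 30214 (.node 30212 (.leaf 0xb0a0002) (.node 30213 (.leaf 0xd0001) (.leaf 0xa0f0b0b0004))) (.node 30215 (.leaf 0x7605007604) (.node 30216 (.leaf 0x20705020202010802040105000c) (.leaf 0x0))))))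

def argWS_2673 : Store := (.node 30194 argWS_2671 argWS_2672)

def argWS_2674 : Store := (.node 30172 argWS_2670 argWS_2673)

def argWS_2675 : Store := (.node 30228 (.node 30222 (.node 30219 (.node 30218 (.leaf 0xf0001) (.leaf 0x0)) (.node 30220 (.leaf 0xb0001) (.node 30221 (.leaf 0x0) (.leaf 0x0)))) (.node 30225 (.node 30223 (.leaf 0xb0a0f0003) (.node 30224 (.leaf 0xf0001) (.leaf 0x0))) (.node 30226 (.leaf 0x7254007610) (.node 30227 (.leaf 0xf0a0002) (.leaf 0x0))))) (.node 30233 (.node 30230 (.node 30229 (.leaf 0x202000207030006) (.leaf 0x0)) (.node 30231 (.leaf 0xd0001) (.node 30232 (.leaf 0xf0b0b0a0a0005) (.leaf 0xe0a0002)))) (.node 30236 (.node 30234 (.leaf 0x20202060207020703040103000c) (.node 30235 (.leaf 0x0) (.leaf 0xe0a0a0003))) (.node 30237 (.leaf 0x0) (.node 30238 (.leaf 0x761c007618) (.leaf 0xf0b0a0003))))))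

def argWS_2676 : Store := (.node 30250 (.node 30244 (.node 30241 (.node 30240 (.leaf 0x0) (.leaf 0xf0001)) (.node 30242 (.leaf 0x0) (.node 30243 (.leaf 0x0) (.leaf 0xb0a0002)))) (.node 30247 (.node 30245 (.leaf 0xa0f0b0003) (.node 30246 (.leaf 0xd0b0b0003) (.leaf 0x7625007624))) (.node 30248 (.leaf 0xf0b0b0003) (.node 30249 (.leaf 0x0) (.leaf 0xf0a0a0003))))) (.node 30256 (.node 30253 (.node 30251 (.leaf 0x0) (.node 30252 (.leaf 0x0) (.leaf 0xf0001))) (.node 30254 (.leaf 0x5030500000300000802040105000d) (.node 30255 (.leaf 0x0) (.leaf 0xd0b0b0003)))) (.node 30259 (.node 30257 (.leaf 0x0) (.node 30258 (.leaf 0x7630) (.leaf 0x50305090009000703040103000c))) (.node 30260 (.leaf 0x0) (.node 30261 (.leaf 0xb0b0002) (.leaf 0x0))))))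

def argWS_2677 : Store := (.node 30239 argWS_2675 argWS_2676)

def argWS_2678 : Store := (.node 30273 (.node 30267 (.node 30264 (.node 30263 (.leaf 0x70009020602000703040103000c) (.leaf 0x0)) (.node 30265 (.leaf 0xf0b0a0003) (.node 30266 (.leaf 0xf0b0b0003) (.leaf 0x704070209020802040105000b)))) (.node 30270 (.node 30268 (.leaf 0x0) (.node 30269 (.leaf 0xa0f0002) (.leaf 0x0))) (.node 30271 (.leaf 0x50105020202010802040105000c) (.node 30272 (.leaf 0x0) (.leaf 0xe0a0002))))) (.node 30279 (.node 30276 (.node 30274 (.leaf 0x0) (.node 30275 (.leaf 0x764100763d) (.leaf 0x6030500040202000701000a))) (.node 30277 (.leaf 0x0) (.node 30278 (.leaf 0xf0b0a0003) (.leaf 0x0)))) (.node 30282 (.node 30280 (.leaf 0xf0001) (.node 30281 (.leaf 0x0) (.leaf 0x0))) (.node 30283 (.leaf 0xb0b0002) (.node 30284 (.leaf 0x30003030604000703040103000c) (.leaf 0x0))))))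

def argWS_2679 : Store := (.node 30296 (.node 30290 (.node 30287 (.node 30286 (.leaf 0xa0a0002) (.leaf 0x0)) (.node 30288 (.leaf 0x4040401050005) (.node 30289 (.leaf 0x0) (.leaf 0x0)))) (.node 30293 (.node 30291 (.leaf 0x765100764e) (.node 30292 (.leaf 0xf0b0b0a0a0005) (.leaf 0x0))) (.node 30294 (.leaf 0x80703060004) (.node 30295 (.leaf 0x0) (.leaf 0xf0b0a0a0004))))) (.node 30302 (.node 30299 (.node 30297 (.leaf 0x20804000007) (.node 30298 (.leaf 0x0) (.leaf 0x0))) (.node 30300 (.leaf 0xb0001) (.node 30301 (.leaf 0x702060207020703040103000b) (.leaf 0x0)))) (.node 30305 (.node 30303 (.leaf 0xb0a0a0003) (.node 30304 (.leaf 0x0) (.leaf 0x765f00765b))) (.node 30306 (.leaf 0x80006010500020202000701000d) (.node 30307 (.leaf 0x0) (.leaf 0xb0f0a0003))))))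

def argWS_2680 : Store := (.node 30285 argWS_2678 argWS_2679)

def argWS_2681 : Store := (.node 30262 argWS_2677 argWS_2680)

def argWS_2682 : Store := (.node 30217 argWS_2674 argWS_2681)

def argWS_2683 : Store := (.node 30127 argWS_2667 argWS_2682)

def argWS_2684 : Store := (.node 29947 argWS_2652 argWS_2683)

def argWS_2685 : Store := (.node 29586 argWS_2621 argWS_2684)

def argWS_2686 : Store := (.node 30319 (.node 30313 (.node 30310 (.node 30309 (.leaf 0x0) (.leaf 0x905090106000703040103000b)) (.node 30311 (.leaf 0x0) (.node 30312 (.leaf 0xb0f0002) (.leaf 0x201050002000703040103000b)))) (.node 30316 (.node 30314 (.leaf 0x0) (.node 30315 (.leaf 0xe0a0002) (.leaf 0x0))) (.node 30317 (.leaf 0x6010201010908050802040105000d) (.node 30318 (.leaf 0x0) (.leaf 0xb0b0002))))) (.node 30324 (.node 30321 (.node 30320 (.leaf 0x0) (.leaf 0x90104010908050007)) (.node 30322 (.leaf 0x0) (.node 30323 (.leaf 0xb0a0f0003) (.leaf 0x0)))) (.node 30327 (.node 30325 (.leaf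 0x767300766f) (.node 30326 (.leaf 0x300070206000202000701000b) (.leaf 0x0))) (.node 30328 (.leaf 0xd0001) (.node 30329 (.leaf 0x0) (.leaf 0x20904020005))))))

def argWS_2687 : Store := (.node 30341 (.node 30335 (.node 30332 (.node 30331 (.leaf 0x0) (.leaf 0xa0f0b0003)) (.node 30333 (.leaf 0xd0001) (.node 30334 (.leaf 0x90000000300000007) (.leaf 0x0)))) (.node 30338 (.node 30336 (.leaf 0xb0a0002) (.node 30337 (.leaf 0x0) (.leaf 0xb0f0a0003))) (.node 30339 (.leaf 0x7681007680) (.node 30340 (.leaf 0x0) (.leaf 0xf0b0a0003))))) (.node 30347 (.node 30344 (.node 30342 (.leaf 0x0) (.node 30343 (.leaf 0x20702020900000802040105000c) (.leaf 0x0))) (.node 30345 (.leaf 0xb0f0a0a0004) (.node 30346 (.leaf 0x1030105020202010202000701000d) (.leaf 0x0)))) (.node 30350 (.node 30348 (.leaf 0xe0001) (.node 30349 (.leaf 0x0) (.leaf 0x50000070209020202000701000c))) (.node 30351 (.leaf 0x0) (.node 30352 (.leaf 0x0) (.leaf 0x601020206030802040105000b))))))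

def argWS_2688 : Store := (.node 30330 argWS_2686 argWS_2687)

def argWS_2689 : Store := (.node 30364 (.node 30358 (.node 30355 (.node 30354 (.leaf 0x0) (.leaf 0xa0001)) (.node 30356 (.leaf 0x0) (.node 30357 (.leaf 0x769300768f) (.leaf 0xe0a0002)))) (.node 30361 (.node 30359 (.leaf 0x0) (.node 30360 (.leaf 0x30707020600000703040103000c) (.leaf 0x0))) (.node 30362 (.leaf 0xb0a0f0003) (.node 30363 (.leaf 0xb0f0a0a0004) (.leaf 0xf0b0002))))) (.node 30369 (.node 30366 (.node 30365 (.leaf 0x769b) (.leaf 0xb0f0002)) (.node 30367 (.leaf 0x0) (.node 30368 (.leaf 0x0) (.leaf 0xd0001)))) (.node 30372 (.node 30370 (.leaf 0xd0b0002) (.node 30371 (.leaf 0xa0001) (.leaf 0x76a20076a1))) (.node 30373 (.leaf 0x20608020401050007) (.node 30374 (.leaf 0x0) (.leaf 0xf0b0b0a0004))))))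

def argWS_2690 : Store := (.node 30386 (.node 30380 (.node 30377 (.node 30376 (.leaf 0x0) (.leaf 0x1070006020702010802040105000d)) (.node 30378 (.leaf 0x0) (.node 30379 (.leaf 0xa0a0002) (.leaf 0xf0b0a0a0004)))) (.node 30383 (.node 30381 (.leaf 0xf0b0a0003) (.node 30382 (.leaf 0x208060008020401050009) (.leaf 0x0))) (.node 30384 (.leaf 0xe0a0a0003) (.node 30385 (.leaf 0x0) (.leaf 0x76b0))))) (.node 30392 (.node 30389 (.node 30387 (.leaf 0x10400050206040202000701000c) (.node 30388 (.leaf 0x0) (.leaf 0xf0b0b0a0004))) (.node 30390 (.leaf 0x8050002010606000703040103000d) (.node 30391 (.leaf 0x0) (.leaf 0xb0f0002)))) (.node 30395 (.node 30393 (.leaf 0x0) (.node 30394 (.leaf 0x0) (.leaf 0x4010703060006))) (.node 30396 (.leaf 0x0) (.node 30397 (.leaf 0xf0b0002) (.leaf 0x0))))))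

def argWS_2691 : Store := (.node 30375 argWS_2689 argWS_2690)

def argWS_2692 : Store := (.node 30353 argWS_2688 argWS_2691)

def argWS_2693 : Store := (.node 30409 (.node 30403 (.node 30400 (.node 30399 (.leaf 0x40401090402000703040103000c) (.leaf 0x0)) (.node 30401 (.leaf 0xe0a0002) (.node 30402 (.leaf 0x0) (.leaf 0x76c1)))) (.node 30406 (.node 30404 (.leaf 0xe0a0a0003) (.node 30405 (.leaf 0x0) (.leaf 0x4000402020900000202000701000d))) (.node 30407 (.leaf 0x0) (.node 30408 (.leaf 0xe0a0a0003) (.leaf 0xe0a0a0003))))) (.node 30414 (.node 30411 (.node 30410 (.leaf 0x90806000202000701000b) (.leaf 0x0)) (.node 30412 (.leaf 0xe0a0002) (.node 30413 (.leaf 0x0) (.leaf 0x76cc)))) (.node 30417 (.node 30415 (.leaf 0x2000901090202000701000a) (.node 30416 (.leaf 0x0) (.leaf 0xb0f0002))) (.node 30418 (.leaf 0x0) (.node 30419 (.leaf 0xe0d0002) (.leaf 0x0))))))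

def argWS_2694 : Store := (.node 30431 (.node 30425 (.node 30422 (.node 30421 (.leaf 0x0) (.leaf 0x605020202010202000701000c)) (.node 30423 (.leaf 0x0) (.node 30424 (.leaf 0xb0a0002) (.leaf 0x0)))) (.node 30428 (.node 30426 (.leaf 0xb0b0a0a0004) (.node 30427 (.leaf 0x59a40076d9) (.leaf 0xb0a0002))) (.node 30429 (.leaf 0x0) (.node 30430 (.leaf 0xf0b0a0a0004) (.leaf 0x0))))) (.node 30437 (.node 30434 (.node 30432 (.leaf 0x0) (.node 30433 (.leaf 0xb0a0a0003) (.leaf 0x20205020202010202000701000c))) (.node 30435 (.leaf 0x0) (.node 30436 (.leaf 0xb0a0a0003) (.leaf 0x0)))) (.node 30440 (.node 30438 (.leaf 0x76e4) (.node 30439 (.leaf 0xa0a0002) (.leaf 0x0))) (.node 30441 (.leaf 0x204010400050202000701000b) (.node 30442 (.leaf 0x0) (.leaf 0xb0b0002))))))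

def argWS_2695 : Store := (.node 30420 argWS_2693 argWS_2694)

def argWS_2696 : Store := (.node 30454 (.node 30448 (.node 30445 (.node 30444 (.leaf 0x30102020007010009) (.leaf 0x0)) (.node 30446 (.leaf 0xb0a0a0003) (.node 30447 (.leaf 0x0) (.leaf 0xe0d0002)))) (.node 30451 (.node 30449 (.leaf 0x76ef001867) (.node 30450 (.leaf 0x709080600000703040103000b) (.leaf 0x0))) (.node 30452 (.leaf 0xf0b0002) (.node 30453 (.leaf 0x0) (.leaf 0x0))))) (.node 30459 (.node 30456 (.node 30455 (.leaf 0xb0a0f0003) (.leaf 0xd0b0002)) (.node 30457 (.leaf 0xe0a0002) (.node 30458 (.leaf 0x76f80076f7) (.leaf 0x9070007020600000703040103000d)))) (.node 30462 (.node 30460 (.leaf 0x0) (.node 30461 (.leaf 0xd0b0002) (.leaf 0x0))) (.node 30463 (.leaf 0x9040900090005) (.node 30464 (.leaf 0x0) (.leaf 0xa0f0002))))))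

def argWS_2697 : Store := (.node 30476 (.node 30470 (.node 30467 (.node 30466 (.leaf 0x500020000030703040103000b) (.leaf 0x0)) (.node 30468 (.leaf 0xb0a0002) (.node 30469 (.leaf 0x0) (.leaf 0x77040041e6)))) (.node 30473 (.node 30471 (.leaf 0x6040008020401050008) (.node 30472 (.leaf 0x0) (.leaf 0xb0f0a0003))) (.node 30474 (.leaf 0x0) (.node 30475 (.leaf 0xf0001) (.leaf 0x0))))) (.node 30482 (.node 30479 (.node 30477 (.leaf 0x0) (.node 30478 (.leaf 0x700030306040802040105000c) (.leaf 0x0))) (.node 30480 (.leaf 0xf0b0b0003) (.node 30481 (.leaf 0x0) (.leaf 0x1030500040005)))) (.node 30485 (.node 30483 (.leaf 0x0) (.node 30484 (.leaf 0xf0a0002) (.leaf 0x0))) (.node 30486 (.leaf 0x2060901090005) (.node 30487 (.leaf 0x0) (.leaf 0xf0001))))))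

def argWS_2698 : Store := (.node 30465 argWS_2696 argWS_2697)

def argWS_2699 : Store := (.node 30443 argWS_2695 argWS_2698)

def argWS_2700 : Store := (.node 30398 argWS_2692 argWS_2699)

def argWS_2701 : Store := (.node 30499 (.node 30493 (.node 30490 (.node 30489 (.leaf 0x0) (.leaf 0x7718007714)) (.node 30491 (.leaf 0xa0f0b0b0004) (.node 30492 (.leaf 0x0) (.leaf 0xf0b0a0003)))) (.node 30496 (.node 30494 (.leaf 0x0) (.node 30495 (.leaf 0x0) (.leaf 0x2000005020202010202000701000d))) (.node 30497 (.leaf 0xb0001) (.node 30498 (.leaf 0x7720) (.leaf 0x5000000030306040008))))) (.node 30504 (.node 30501 (.node 30500 (.leaf 0x0) (.leaf 0xe0001)) (.node 30502 (.leaf 0x0) (.node 30503 (.leaf 0x903070206000006) (.leaf 0x0)))) (.node 30507 (.node 30505 (.leaf 0xa0001) (.node 30506 (.leaf 0xf0b0a0003) (.leaf 0x903070009020007010009))) (.node 30508 (.leaf 0x0) (.node 30509 (.leaf 0xf0a0002) (.leaf 0x0))))))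

def argWS_2702 : Store := (.node 30521 (.node 30515 (.node 30512 (.node 30511 (.leaf 0x602020106060202000701000b) (.leaf 0x0)) (.node 30513 (.leaf 0xe0001) (.node 30514 (.leaf 0x0) (.leaf 0x773100772d)))) (.node 30518 (.node 30516 (.leaf 0xb0f0002) (.node 30517 (.leaf 0x0) (.leaf 0x40008020401050008))) (.node 30519 (.leaf 0x0) (.node 30520 (.leaf 0xf0b0b0a0004) (.leaf 0xa0f0002))))) (.node 30527 (.node 30524 (.node 30522 (.leaf 0x80000050202020703040103000c) (.node 30523 (.leaf 0x0) (.leaf 0xb0f0002))) (.node 30525 (.leaf 0x0) (.node 30526 (.leaf 0x1070206030005) (.leaf 0x0)))) (.node 30530 (.node 30528 (.leaf 0xa0f0b0003) (.node 30529 (.leaf 0x0) (.leaf 0x774000773c))) (.node 30531 (.leaf 0xb0001) (.node 30532 (.leaf 0x0) (.leaf 0x5020408010802040105000a))))))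

def argWS_2703 : Store := (.node 30510 argWS_2701 argWS_2702)

def argWS_2704 : Store := (.node 30544 (.node 30538 (.node 30535 (.node 30534 (.leaf 0x0) (.leaf 0xf0b0a0a0004)) (.node 30536 (.leaf 0x609020602000703040103000b) (.node 30537 (.leaf 0x0) (.leaf 0xb0b0a0003)))) (.node 30541 (.node 30539 (.leaf 0x0) (.node 30540 (.leaf 0x774a) (.leaf 0xf0b0002))) (.node 30542 (.leaf 0x0) (.node 30543 (.leaf 0xd0b0b0003) (.leaf 0x0))))) (.node 30549 (.node 30546 (.node 30545 (.leaf 0x0) (.leaf 0xf0001)) (.node 30547 (.leaf 0x407020600000703040103000b) (.node 30548 (.leaf 0x0) (.leaf 0xf0b0a0003)))) (.node 30552 (.node 30550 (.leaf 0x0) (.node 30551 (.leaf 0x200070206000006) (.leaf 0x0))) (.node 30553 (.leaf 0xe0a0a0003) (.node 30554 (.leaf 0x0) (.leaf 0x7759007755))))))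

def argWS_2705 : Store := (.node 30566 (.node 30560 (.node 30557 (.node 30556 (.leaf 0x600020804000802040105000c) (.leaf 0x0)) (.node 30558 (.leaf 0xb0b0002) (.node 30559 (.leaf 0x0) (.leaf 0xf0b0a0003)))) (.node 30563 (.node 30561 (.leaf 0x0) (.node 30562 (.leaf 0x0) (.leaf 0xe0a0a0003))) (.node 30564 (.leaf 0xb0f0002) (.node 30565 (.leaf 0x601030802020007010009) (.leaf 0x0))))) (.node 30572 (.node 30569 (.node 30567 (.leaf 0x0) (.node 30568 (.leaf 0x7766007763) (.leaf 0x20603030604000703040103000c))) (.node 30570 (.leaf 0x0) (.node 30571 (.leaf 0xa0f0b0003) (.leaf 0x0)))) (.node 30575 (.node 30573 (.leaf 0x602070209020006) (.node 30574 (.leaf 0x0) (.leaf 0xa0f0b0b0004))) (.node 30576 (.leaf 0xf0a0002) (.node 30577 (.leaf 0xe0d0002) (.leaf 0xf0b0a0003))))))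

def argWS_2706 : Store := (.node 30555 argWS_2704 argWS_2705)

def argWS_2707 : Store := (.node 30533 argWS_2703 argWS_2706)

def argWS_2708 : Store := (.node 30589 (.node 30583 (.node 30580 (.node 30579 (.leaf 0x7771007770) (.leaf 0x1090307020600000703040103000d)) (.node 30581 (.leaf 0x0) (.node 30582 (.leaf 0xf0b0b0a0004) (.leaf 0x0)))) (.node 30586 (.node 30584 (.leaf 0x103070306000703040103000b) (.node 30585 (.leaf 0x0) (.leaf 0xb0f0002))) (.node 30587 (.leaf 0xb0a0a0003) (.node 30588 (.leaf 0x605010904020006) (.leaf 0x0))))) (.node 30594 (.node 30591 (.node 30590 (.leaf 0xb0f0a0a0004) (.leaf 0x0)) (.node 30592 (.leaf 0x90000090004) (.node 30593 (.leaf 0x0) (.leaf 0xb0b0a0003)))) (.node 30597 (.node 30595 (.leaf 0x0) (.node 30596 (.leaf 0x778200777e) (.leaf 0x407030007030401030009))) (.node 30598 (.leaf 0x0) (.node 30599 (.leaf 0xb0001) (.leaf 0x0))))))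

def argWS_2709 : Store := (.node 30611 (.node 30605 (.node 30602 (.node 30601 (.leaf 0xd0b0b0003) (.leaf 0x0)) (.node 30603 (.leaf 0x0) (.node 30604 (.leaf 0x70000000300000202000701000c) (.leaf 0x0)))) (.node 30608 (.node 30606 (.leaf 0xb0f0a0a0004) (.node 30607 (.leaf 0x0) (.leaf 0x40009000009000703040103000c))) (.node 30609 (.leaf 0x0) (.node 30610 (.leaf 0xe0d0002) (.leaf 0x0))))) (.node 30617 (.node 30614 (.node 30612 (.leaf 0x205070209020006) (.node 30613 (.leaf 0x0) (.leaf 0x0))) (.node 30615 (.leaf 0x7795007792) (.node 30616 (.leaf 0xb0b0002) (.leaf 0x0)))) (.node 30620 (.node 30618 (.leaf 0x7000904020202000701000a) (.node 30619 (.leaf 0x0) (.leaf 0xf0b0b0a0a0005))) (.node 30621 (.leaf 0x2090300020804000202000701000d) (.node 30622 (.leaf 0x0) (.leaf 0xa0f0002))))))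

def argWS_2710 : Store := (.node 30600 argWS_2708 argWS_2709)

def argWS_2711 : Store := (.node 30634 (.node 30628 (.node 30625 (.node 30624 (.leaf 0x0) (.leaf 0xe0d0002)) (.node 30626 (.leaf 0x0) (.node 30627 (.leaf 0xb0b0a0a0004) (.leaf 0x77a20077a1)))) (.node 30631 (.node 30629 (.leaf 0x907020106060202000701000b) (.node 30630 (.leaf 0x0) (.leaf 0xb0b0a0a0004))) (.node 30632 (.leaf 0x0) (.node 30633 (.leaf 0xf0b0a0a0004) (.leaf 0x0))))) (.node 30639 (.node 30636 (.node 30635 (.leaf 0x0) (.leaf 0xf0a0002)) (.node 30637 (.leaf 0xb0001) (.node 30638 (.leaf 0x77ac) (.leaf 0xf0001)))) (.node 30642 (.node 30640 (.leaf 0x0) (.node 30641 (.leaf 0xf0b0a0003) (.leaf 0x0))) (.node 30643 (.leaf 0x0) (.node 30644 (.leaf 0x40402010606000703040103000c) (.leaf 0x0))))))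

def argWS_2712 : Store := (.node 30656 (.node 30650 (.node 30647 (.node 30646 (.leaf 0xb0b0002) (.leaf 0x0)) (.node 30648 (.leaf 0xb0f0002) (.node 30649 (.leaf 0x77b70077b6) (.leaf 0xf0b0a0003)))) (.node 30653 (.node 30651 (.leaf 0x0) (.node 30652 (.leaf 0xd0b0002) (.leaf 0x0))) (.node 30654 (.leaf 0x0) (.node 30655 (.leaf 0x80007020600000703040103000d) (.leaf 0x0))))) (.node 30662 (.node 30659 (.node 30657 (.leaf 0xa0a0002) (.node 30658 (.leaf 0x0) (.leaf 0xe0a0a0003))) (.node 30660 (.leaf 0x0) (.node 30661 (.leaf 0x77c3006932) (.leaf 0x606020702010202000701000c)))) (.node 30665 (.node 30663 (.leaf 0x0) (.node 30664 (.leaf 0xd0b0b0003) (.leaf 0x0))) (.node 30666 (.leaf 0x9030006020702010802040105000d) (.node 30667 (.leaf 0x0) (.leaf 0xb0a0f0003))))))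

def argWS_2713 : Store := (.node 30645 argWS_2711 argWS_2712)

def argWS_2714 : Store := (.node 30623 argWS_2710 argWS_2713)

def argWS_2715 : Store := (.node 30578 argWS_2707 argWS_2714)

def argWS_2716 : Store := (.node 30488 argWS_2700 argWS_2715)

def argWS_2717 : Store := (.node 30679 (.node 30673 (.node 30670 (.node 30669 (.leaf 0x3070206000202000701000a) (.leaf 0x0)) (.node 30671 (.leaf 0xd0b0b0003) (.node 30672 (.leaf 0x0) (.leaf 0x2090301090805000703040103000d)))) (.node 30676 (.node 30674 (.leaf 0x0) (.node 30675 (.leaf 0xa0f0b0b0004) (.leaf 0x0))) (.node 30677 (.leaf 0x77d3) (.node 30678 (.leaf 0x40004070209020007) (.leaf 0x0))))) (.node 30684 (.node 30681 (.node 30680 (.leaf 0xe0d0002) (.leaf 0x0)) (.node 30682 (.leaf 0x9050307020902000703040103000d) (.node 30683 (.leaf 0x0) (.leaf 0xb0001)))) (.node 30687 (.node 30685 (.leaf 0xa0f0002) (.node 30686 (.leaf 0x10308020401050007) (.leaf 0x0))) (.node 30688 (.leaf 0xb0f0a0a0004) (.node 30689 (.leaf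 0x0) (.leaf 0x71f50077e0))))))

def argWS_2718 : Store := (.node 30701 (.node 30695 (.node 30692 (.node 30691 (.leaf 0xb0f0002) (.leaf 0x0)) (.node 30693 (.leaf 0x9050305020202010202000701000d) (.node 30694 (.leaf 0x0) (.leaf 0xe0a0a0003)))) (.node 30698 (.node 30696 (.leaf 0x502010904020802040105000b) (.node 30697 (.leaf 0x0) (.leaf 0xb0f0a0003))) (.node 30699 (.leaf 0x0) (.node 30700 (.leaf 0x901070009020007010009) (.leaf 0x0))))) (.node 30707 (.node 30704 (.node 30702 (.leaf 0xa0f0b0003) (.node 30703 (.leaf 0x0) (.leaf 0x90006030500040202000701000d))) (.node 30705 (.leaf 0x0) (.node 30706 (.leaf 0xb0f0a0003) (.leaf 0x0)))) (.node 30710 (.node 30708 (.leaf 0x77f20077ee) (.node 30709 (.leaf 0xf0001) (.leaf 0x0))) (.node 30711 (.leaf 0xf0b0a0a0004) (.node 30712 (.leaf 0x0) (.leaf 0x0))))))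

def argWS_2719 : Store := (.node 30690 argWS_2717 argWS_2718)

def argWS_2720 : Store := (.node 30724 (.node 30718 (.node 30715 (.node 30714 (.leaf 0x2000400050202000701000b) (.leaf 0x0)) (.node 30716 (.leaf 0x0) (.node 30717 (.leaf 0xf0b0a0003) (.leaf 0x209010904020802040105000b)))) (.node 30721 (.node 30719 (.leaf 0x0) (.node 30720 (.leaf 0xe0001) (.leaf 0x0))) (.node 30722 (.leaf 0x78000077fc) (.node 30723 (.leaf 0xe0a0002) (.leaf 0x0))))) (.node 30729 (.node 30726 (.node 30725 (.leaf 0x0) (.leaf 0xf0001)) (.node 30727 (.leaf 0xf0001) (.node 30728 (.leaf 0x30306040007) (.leaf 0x0)))) (.node 30732 (.node 30730 (.leaf 0xf0b0002) (.node 30731 (.leaf 0x0) (.leaf 0x50306030500040802040105000c))) (.node 30733 (.leaf 0x0) (.node 30734 (.leaf 0xb0f0a0a0004) (.leaf 0x0))))))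

def argWS_2721 : Store := (.node 30746 (.node 30740 (.node 30737 (.node 30736 (.leaf 0x201030603050004000703040103000e) (.leaf 0x0)) (.node 30738 (.leaf 0xf0a0a0003) (.node 30739 (.leaf 0x0) (.leaf 0x781200780e)))) (.node 30743 (.node 30741 (.leaf 0x70202020900000802040105000c) (.node 30742 (.leaf 0x0) (.leaf 0xf0b0b0a0a0005))) (.node 30744 (.leaf 0x0) (.node 30745 (.leaf 0xf0b0a0a0004) (.leaf 0x0))))) (.node 30752 (.node 30749 (.node 30747 (.leaf 0x0) (.node 30748 (.leaf 0x2000004080703040103000a) (.leaf 0x5020102000003010008))) (.node 30750 (.leaf 0x0) (.node 30751 (.leaf 0xb0a0f0003) (.leaf 0x0)))) (.node 30755 (.node 30753 (.leaf 0xb0001) (.node 30754 (.leaf 0x4000301090805000703040103000d) (.leaf 0x0))) (.node 30756 (.leaf 0xa0f0b0003) (.node 30757 (.leaf 0x0) (.leaf 0x7824007820))))))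

def argWS_2722 : Store := (.node 30735 argWS_2720 argWS_2721)

def argWS_2723 : Store := (.node 30713 argWS_2719 argWS_2722)

def argWS_2724 : Store := (.node 30769 (.node 30763 (.node 30760 (.node 30759 (.leaf 0xa0a0002) (.leaf 0x0)) (.node 30761 (.leaf 0x70206040004) (.node 30762 (.leaf 0x0) (.leaf 0xf0b0002)))) (.node 30766 (.node 30764 (.leaf 0x3010904020005) (.node 30765 (.leaf 0x0) (.leaf 0xd0001))) (.node 30767 (.leaf 0x0) (.node 30768 (.leaf 0x80006010500020202000701000c) (.leaf 0x0))))) (.node 30774 (.node 30771 (.node 30770 (.leaf 0xb0f0a0a0004) (.leaf 0x0)) (.node 30772 (.leaf 0x78320063e4) (.node 30773 (.leaf 0xd0b0002) (.leaf 0x0)))) (.node 30777 (.node 30775 (.leaf 0x30700060207020703040103000c) (.node 30776 (.leaf 0x0) (.leaf 0xd0b0002))) (.node 30778 (.leaf 0xf0b0a0a0004) (.node 30779 (.leaf 0x606010601050002000703040103000e) (.leaf 0x0))))))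

def argWS_2725 : Store := (.node 30791 (.node 30785 (.node 30782 (.node 30781 (.leaf 0x0) (.leaf 0x783c)) (.node 30783 (.leaf 0xb0b0a0003) (.node 30784 (.leaf 0x0) (.leaf 0xe0a0a0003)))) (.node 30788 (.node 30786 (.leaf 0x0) (.node 30787 (.leaf 0x0) (.leaf 0xe0a0a0003))) (.node 30789 (.leaf 0x0) (.node 30790 (.leaf 0x606000300000202000701000b) (.leaf 0x0))))) (.node 30797 (.node 30794 (.node 30792 (.leaf 0xe0a0002) (.node 30793 (.leaf 0x0) (.leaf 0xf0001))) (.node 30795 (.leaf 0x7849007848) (.node 30796 (.leaf 0xf0001) (.leaf 0x0)))) (.node 30800 (.node 30798 (.leaf 0xe0a0002) (.node 30799 (.leaf 0x0) (.leaf 0x0))) (.node 30801 (.leaf 0x80003010102000007) (.node 30802 (.leaf 0x0) (.leaf 0xa0001))))))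

def argWS_2726 : Store := (.node 30780 argWS_2724 argWS_2725)

def argWS_2727 : Store := (.node 30814 (.node 30808 (.node 30805 (.node 30804 (.leaf 0x0) (.leaf 0x20605020202010802040105000c)) (.node 30806 (.leaf 0x0) (.node 30807 (.leaf 0xb0b0a0a0004) (.leaf 0x0)))) (.node 30811 (.node 30809 (.leaf 0xb0001) (.node 30810 (.leaf 0x7858007857) (.leaf 0xd0b0b0003))) (.node 30812 (.leaf 0x0) (.node 30813 (.leaf 0x20402000003010802040105000c) (.leaf 0x0))))) (.node 30819 (.node 30816 (.node 30815 (.leaf 0xf0b0b0a0004) (.leaf 0xa0f0b0b0004)) (.node 30817 (.leaf 0x9000002020007010008) (.node 30818 (.leaf 0x0) (.leaf 0xb0b0002)))) (.node 30822 (.node 30820 (.leaf 0x0) (.node 30821 (.leaf 0xa0a0002) (.leaf 0x7864007863))) (.node 30823 (.leaf 0xf0a0a0003) (.node 30824 (.leaf 0x0) (.leaf 0x600000601050002000703040103000e))))))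

def argWS_2728 : Store := (.node 30836 (.node 30830 (.node 30827 (.node 30826 (.leaf 0x0) (.leaf 0xf0b0a0003)) (.node 30828 (.leaf 0xa0f0002) (.node 30829 (.leaf 0xe0001) (.leaf 0x786c)))) (.node 30833 (.node 30831 (.leaf 0xf0a0a0003) (.node 30832 (.leaf 0x0) (.leaf 0x0))) (.node 30834 (.leaf 0xb0f0002) (.node 30835 (.leaf 0x901050206040006) (.leaf 0x0))))) (.node 30842 (.node 30839 (.node 30837 (.leaf 0xb0f0a0a0004) (.node 30838 (.leaf 0x0) (.leaf 0x7875001f33))) (.node 30840 (.leaf 0x50305020901060007) (.node 30841 (.leaf 0x0) (.leaf 0xb0b0a0003)))) (.node 30845 (.node 30843 (.leaf 0x0) (.node 30844 (.leaf 0x50306030500040008) (.leaf 0x0))) (.node 30846 (.leaf 0xf0a0002) (.node 30847 (.leaf 0x5030503010102000802040105000d) (.leaf 0x0))))))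

def argWS_2729 : Store := (.node 30825 argWS_2727 argWS_2728)

def argWS_2730 : Store := (.node 30803 argWS_2726 argWS_2729)

def argWS_2731 : Store := (.node 30758 argWS_2723 argWS_2730)

def argWS_2732 : Store := (.node 30859 (.node 30853 (.node 30850 (.node 30849 (.leaf 0xf0a0a0003) (.leaf 0x0)) (.node 30851 (.leaf 0xf0001) (.node 30852 (.leaf 0xb0f0a0003) (.leaf 0xf0a0002)))) (.node 30856 (.node 30854 (.leaf 0x7884007883) (.node 30855 (.leaf 0x2000200090206020202000701000d) (.leaf 0x0))) (.node 30857 (.leaf 0xa0f0b0003) (.node 30858 (.leaf 0x0) (.leaf 0x2090107000902000701000a))))) (.node 30864 (.node 30861 (.node 30860 (.leaf 0x0) (.leaf 0xf0b0a0a0004)) (.node 30862 (.leaf 0x8020908050802040105000a) (.node 30863 (.leaf 0x0) (.leaf 0xb0a0a0003)))) (.node 30867 (.node 30865 (.leaf 0x0) (.node 30866 (.leaf 0xa0f0b0b0004) (.leaf 0xa0f0002))) (.node 30868 (.leaf 0x7892007891) (.node 30869 (.leaf 0x10701090805000703040103000c) (.leaf 0x0))))))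

def argWS_2733 : Store := (.node 30881 (.node 30875 (.node 30872 (.node 30871 (.leaf 0xd0b0002) (.leaf 0x0)) (.node 30873 (.leaf 0x80300070209020202000701000c) (.node 30874 (.leaf 0x0) (.leaf 0xb0b0a0003)))) (.node 30878 (.node 30876 (.leaf 0xf0b0b0003) (.node 30877 (.leaf 0x743400789b) (.leaf 0x600000408010802040105000c))) (.node 30879 (.leaf 0x0) (.node 30880 (.leaf 0xf0b0002) (.leaf 0x0))))) (.node 30887 (.node 30884 (.node 30882 (.leaf 0xb0001) (.node 30883 (.leaf 0x0) (.leaf 0x0))) (.node 30885 (.leaf 0x90703060802040105000a) (.node 30886 (.leaf 0x0) (.leaf 0xf0001)))) (.node 30890 (.node 30888 (.leaf 0x0) (.node 30889 (.leaf 0x5f17) (.leaf 0xb0b0a0a0004))) (.node 30891 (.leaf 0x0) (.node 30892 (.leaf 0x202020703000703040103000b) (.leaf 0x0))))))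

def argWS_2734 : Store := (.node 30870 argWS_2732 argWS_2733)

def argWS_2735 : Store := (.node 30904 (.node 30898 (.node 30895 (.node 30894 (.leaf 0xb0b0002) (.leaf 0x7050900090202000701000a)) (.node 30896 (.leaf 0x0) (.node 30897 (.leaf 0x0) (.leaf 0x425b0078b0)))) (.node 30901 (.node 30899 (.leaf 0xb0a0f0003) (.node 30900 (.leaf 0x0) (.leaf 0xb0f0a0a0004))) (.node 30902 (.leaf 0x0) (.node 30903 (.leaf 0x0) (.leaf 0x90201020106060802040105000c))))) (.node 30909 (.node 30906 (.node 30905 (.leaf 0x0) (.leaf 0xf0a0002)) (.node 30907 (.leaf 0x0) (.node 30908 (.leaf 0xf0b0b0a0004) (.leaf 0x78bb)))) (.node 30912 (.node 30910 (.leaf 0xf0b0b0003) (.node 30911 (.leaf 0x0) (.leaf 0x303050206040006))) (.node 30913 (.leaf 0x0) (.node 30914 (.leaf 0xb0001) (.leaf 0x60501090009000703040103000c))))))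

def argWS_2736 : Store := (.node 30926 (.node 30920 (.node 30917 (.node 30916 (.leaf 0x0) (.leaf 0xb0a0a0003)) (.node 30918 (.leaf 0x0) (.node 30919 (.leaf 0xe0001) (.leaf 0x78c6)))) (.node 30923 (.node 30921 (.leaf 0xe0001) (.node 30922 (.leaf 0x0) (.leaf 0xd0b0002))) (.node 30924 (.leaf 0x0) (.node 30925 (.leaf 0x0) (.leaf 0xb0f0a0003))))) (.node 30932 (.node 30929 (.node 30927 (.leaf 0x90602020900000007) (.node 30928 (.leaf 0x0) (.leaf 0xe0001))) (.node 30930 (.leaf 0x0) (.node 30931 (.leaf 0x800090000090202000701000c) (.leaf 0x0)))) (.node 30935 (.node 30933 (.leaf 0xd0001) (.node 30934 (.leaf 0x0) (.leaf 0x78d50078d1))) (.node 30936 (.leaf 0x2090106030500040008) (.node 30937 (.leaf 0x0) (.leaf 0xe0001))))))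

def argWS_2737 : Store := (.node 30915 argWS_2735 argWS_2736)

def argWS_2738 : Store := (.node 30893 argWS_2734 argWS_2737)

def argWS_2739 : Store := (.node 30949 (.node 30943 (.node 30940 (.node 30939 (.leaf 0x0) (.leaf 0xb0f0a0003)) (.node 30941 (.leaf 0x0) (.node 30942 (.leaf 0x0) (.leaf 0x20205020202010202000701000c)))) (.node 30946 (.node 30944 (.leaf 0x0) (.node 30945 (.leaf 0xb0a0a0003) (.leaf 0x0))) (.node 30947 (.leaf 0x304020106060802040105000b) (.node 30948 (.leaf 0x0) (.leaf 0xd0b0b0003))))) (.node 30954 (.node 30951 (.node 30950 (.leaf 0x0) (.leaf 0x78e500370e)) (.node 30952 (.leaf 0xe0d0002) (.node 30953 (.leaf 0x0) (.leaf 0xf0b0b0003)))) (.node 30957 (.node 30955 (.leaf 0x0) (.node 30956 (.leaf 0x0) (.leaf 0x604000601050002000703040103000e))) (.node 30958 (.leaf 0x0) (.node 30959 (.leaf 0xf0b0b0a0a0005) (.leaf 0x0))))))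

def argWS_2740 : Store := (.node 30971 (.node 30965 (.node 30962 (.node 30961 (.leaf 0x2010306030500040802040105000d) (.leaf 0x0)) (.node 30963 (.leaf 0x0) (.node 30964 (.leaf 0x9030007000902000701000a) (.leaf 0x0)))) (.node 30968 (.node 30966 (.leaf 0xa0f0b0003) (.node 30967 (.leaf 0x0) (.leaf 0x78f60078f2))) (.node 30969 (.leaf 0x20206010500020802040105000c) (.node 30970 (.leaf 0x0) (.leaf 0xf0a0002))))) (.node 30977 (.node 30974 (.node 30972 (.leaf 0x0) (.node 30973 (.leaf 0xe0a0002) (.leaf 0x0))) (.node 30975 (.leaf 0x0) (.node 30976 (.leaf 0xb0001) (.leaf 0x705020202010802040105000b)))) (.node 30980 (.node 30978 (.leaf 0x0) (.node 30979 (.leaf 0xb0b0a0a0004) (.leaf 0x0))) (.node 30981 (.leaf 0x506010500020802040105000b) (.node 30982 (.leaf 0x0) (.leaf 0x0))))))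

def argWS_2741 : Store := (.node 30960 argWS_2739 argWS_2740)

def argWS_2742 : Store := (.node 30994 (.node 30988 (.node 30985 (.node 30984 (.leaf 0x7906007903) (.leaf 0xf0001)) (.node 30986 (.leaf 0x0) (.node 30987 (.leaf 0x90000090206020802040105000d) (.leaf 0x0)))) (.node 30991 (.node 30989 (.leaf 0xf0b0b0a0a0005) (.node 30990 (.leaf 0xb0a0002) (.leaf 0xd0b0002))) (.node 30992 (.leaf 0x90300050206040202000701000c) (.node 30993 (.leaf 0x0) (.leaf 0xf0b0002))))) (.node 31000 (.node 30997 (.node 30995 (.leaf 0x0) (.node 30996 (.leaf 0x791200790e) (.leaf 0x20506020702010202000701000c))) (.node 30998 (.leaf 0x0) (.node 30999 (.leaf 0xf0b0b0a0a0005) (.leaf 0x0)))) (.node 31003 (.node 31001 (.leaf 0xf0b0a0a0004) (.node 31002 (.leaf 0x0) (.leaf 0x0))) (.node 31004 (.leaf 0x5000000030306040008) (.node 31005 (.leaf 0x0) (.leaf 0xb0001))))))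

def argWS_2743 : Store := (.node 31017 (.node 31011 (.node 31008 (.node 31007 (.leaf 0x0) (.leaf 0x90700090206020802040105000c)) (.node 31009 (.leaf 0x0) (.node 31010 (.leaf 0xf0b0a0a0004) (.leaf 0x0)))) (.node 31014 (.node 31012 (.leaf 0x7922006aaa) (.node 31013 (.leaf 0x700020804000802040105000c) (.leaf 0x0))) (.node 31015 (.leaf 0xb0b0a0003) (.node 31016 (.leaf 0x0) (.leaf 0xf0b0a0a0004))))) (.node 31023 (.node 31020 (.node 31018 (.leaf 0x0) (.node 31019 (.leaf 0x0) (.leaf 0xf0b0a0a0004))) (.node 31021 (.leaf 0x500000603050004000703040103000e) (.node 31022 (.leaf 0x0) (.leaf 0xf0a0a0003)))) (.node 31026 (.node 31024 (.leaf 0x0) (.node 31025 (.leaf 0x792f006e57) (.leaf 0xe0001))) (.node 31027 (.leaf 0x0) (.node 31028 (.leaf 0x4030400030306040008) (.leaf 0x0))))))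

def argWS_2744 : Store := (.node 31006 argWS_2742 argWS_2743)

def argWS_2745 : Store := (.node 30983 argWS_2741 argWS_2744)

def argWS_2746 : Store := (.node 30938 argWS_2738 argWS_2745)

def argWS_2747 : Store := (.node 30848 argWS_2731 argWS_2746)

def argWS_2748 : Store := (.node 30668 argWS_2716 argWS_2747)

def argWS_2749 : Store := (.node 31040 (.node 31034 (.node 31031 (.node 31030 (.leaf 0xb0a0a0003) (.leaf 0x2060207020703040103000a)) (.node 31032 (.leaf 0x0) (.node 31033 (.leaf 0xb0b0a0a0004) (.leaf 0x0)))) (.node 31037 (.node 31035 (.leaf 0x50202090000000703040103000c) (.node 31036 (.leaf 0x0) (.leaf 0xf0a0002))) (.node 31038 (.leaf 0x0) (.node 31039 (.leaf 0xe0001) (.leaf 0x793e00793d))))) (.node 31045 (.node 31042 (.node 31041 (.leaf 0x4030000000300000008) (.leaf 0x0)) (.node 31043 (.leaf 0xb0f0a0003) (.node 31044 (.leaf 0x0) (.leaf 0x7010703060802040105000a)))) (.node 31048 (.node 31046 (.leaf 0x0) (.node 31047 (.leaf 0xf0a0a0003) (.leaf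 0xe0a0002))) (.node 31049 (.leaf 0xd0b0002) (.node 31050 (.leaf 0x794800101e) (.leaf 0xf0b0b0003))))))

def argWS_2750 : Store := (.node 31062 (.node 31056 (.node 31053 (.node 31052 (.leaf 0x0) (.leaf 0x20000090109000703040103000c)) (.node 31054 (.leaf 0x0) (.node 31055 (.leaf 0xd0b0b0003) (.leaf 0x307000401050006)))) (.node 31059 (.node 31057 (.leaf 0x0) (.node 31058 (.leaf 0xe0d0002) (.leaf 0x0))) (.node 31060 (.leaf 0x80300090000090007) (.node 31061 (.leaf 0x0) (.leaf 0xb0a0a0003))))) (.node 31068 (.node 31065 (.node 31063 (.leaf 0x0) (.node 31064 (.leaf 0xb0f0a0a0004) (.leaf 0x7957007956))) (.node 31066 (.leaf 0xf0001) (.node 31067 (.leaf 0x0) (.leaf 0x704080102020007010009)))) (.node 31071 (.node 31069 (.leaf 0x0) (.node 31070 (.leaf 0xa0001) (.leaf 0x10400000300000202000701000c))) (.node 31072 (.leaf 0x0) (.node 31073 (.leaf 0xa0a0002) (.leaf 0x0))))))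

def argWS_2751 : Store := (.node 31051 argWS_2749 argWS_2750)

def argWS_2752 : Store := (.node 31085 (.node 31079 (.node 31076 (.node 31075 (.leaf 0xe0d0002) (.leaf 0x7962)) (.node 31077 (.leaf 0xd0001) (.node 31078 (.leaf 0x0) (.leaf 0x60400050206040007)))) (.node 31082 (.node 31080 (.leaf 0x0) (.node 31081 (.leaf 0xf0001) (.leaf 0xd0b0002))) (.node 31083 (.leaf 0x600020106060802040105000b) (.node 31084 (.leaf 0x0) (.leaf 0xf0b0002))))) (.node 31090 (.node 31087 (.node 31086 (.leaf 0x0) (.leaf 0x796d007969)) (.node 31088 (.leaf 0xe0001) (.node 31089 (.leaf 0x0) (.leaf 0xa0f0b0b0004)))) (.node 31093 (.node 31091 (.leaf 0x0) (.node 31092 (.leaf 0x0) (.leaf 0x4000408010006))) (.node 31094 (.leaf 0x0) (.node 31095 (.leaf 0xd0b0b0003) (.leaf 0x0))))))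

def argWS_2753 : Store := (.node 31107 (.node 31101 (.node 31098 (.node 31097 (.leaf 0x90000090006) (.leaf 0x0)) (.node 31099 (.leaf 0xa0001) (.node 31100 (.leaf 0x0) (.leaf 0x797b)))) (.node 31104 (.node 31102 (.leaf 0xf0001) (.node 31103 (.leaf 0x0) (.leaf 0xa0f0002))) (.node 31105 (.leaf 0x0) (.node 31106 (.leaf 0x0) (.leaf 0x50309080600000703040103000d))))) (.node 31113 (.node 31110 (.node 31108 (.leaf 0x0) (.node 31109 (.leaf 0xa0f0002) (.leaf 0x0))) (.node 31111 (.leaf 0xb0b0a0003) (.node 31112 (.leaf 0x7986) (.leaf 0xb0b0a0a0004)))) (.node 31116 (.node 31114 (.leaf 0x0) (.node 31115 (.leaf 0x8000406020702010802040105000d) (.leaf 0x0))) (.node 31117 (.leaf 0xf0b0b0a0004) (.node 31118 (.leaf 0xf0a0a0003) (.leaf 0x60501040005000703040103000c))))))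

def argWS_2754 : Store := (.node 31096 argWS_2752 argWS_2753)

def argWS_2755 : Store := (.node 31074 argWS_2751 argWS_2754)

def argWS_2756 : Store := (.node 31130 (.node 31124 (.node 31121 (.node 31120 (.leaf 0x0) (.leaf 0xb0b0a0a0004)) (.node 31122 (.leaf 0x0) (.node 31123 (.leaf 0xb0f0a0003) (.leaf 0x7992007991)))) (.node 31127 (.node 31125 (.leaf 0xd0b0002) (.node 31126 (.leaf 0x0) (.leaf 0x2000209080600000703040103000d))) (.node 31128 (.leaf 0x0) (.node 31129 (.leaf 0xf0b0b0a0a0005) (.leaf 0xf0b0a0a0004))))) (.node 31135 (.node 31132 (.node 31131 (.leaf 0x402020007010006) (.leaf 0x0)) (.node 31133 (.leaf 0xa0a0002) (.node 31134 (.leaf 0x0) (.leaf 0xb0a0a0003)))) (.node 31138 (.node 31136 (.leaf 0x799e00799d) (.node 31137 (.leaf 0xd0001) (.leaf 0x0))) (.node 31139 (.leaf 0x8020000000300000202000701000d) (.node 31140 (.leaf 0x0) (.leaf 0xe0001))))))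

def argWS_2757 : Store := (.node 31152 (.node 31146 (.node 31143 (.node 31142 (.leaf 0xb0f0002) (.leaf 0x104000900090802040105000b)) (.node 31144 (.leaf 0x0) (.node 31145 (.leaf 0x0) (.leaf 0x30401070209020007)))) (.node 31149 (.node 31147 (.leaf 0x0) (.node 31148 (.leaf 0xb0a0a0003) (.leaf 0x0))) (.node 31150 (.leaf 0x79ac0079a8) (.node 31151 (.leaf 0x400090000090202000701000b) (.leaf 0x0))))) (.node 31158 (.node 31155 (.node 31153 (.leaf 0x0) (.node 31154 (.leaf 0xa0f0b0003) (.leaf 0x0))) (.node 31156 (.leaf 0x0) (.node 31157 (.leaf 0x6010209020602000703040103000d) (.leaf 0x0)))) (.node 31161 (.node 31159 (.leaf 0xb0f0002) (.node 31160 (.leaf 0x0) (.leaf 0x2090103080005))) (.node 31162 (.leaf 0x0) (.node 31163 (.leaf 0xa0a0002) (.leaf 0x0))))))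

def argWS_2758 : Store := (.node 31141 argWS_2756 argWS_2757)

def argWS_2759 : Store := (.node 31175 (.node 31169 (.node 31166 (.node 31165 (.leaf 0x40304010908050802040105000c) (.leaf 0x0)) (.node 31167 (.leaf 0xe0a0a0003) (.node 31168 (.leaf 0x0) (.leaf 0x79bf0079bb)))) (.node 31172 (.node 31170 (.leaf 0xd0b0002) (.node 31171 (.leaf 0x0) (.leaf 0x6010904020006))) (.node 31173 (.leaf 0x0) (.node 31174 (.leaf 0xe0a0a0003) (.leaf 0x10201090805000703040103000c))))) (.node 31180 (.node 31177 (.node 31176 (.leaf 0x0) (.leaf 0xb0f0002)) (.node 31178 (.leaf 0x0) (.node 31179 (.leaf 0xb0b0a0003) (.leaf 0x79ca)))) (.node 31183 (.node 31181 (.leaf 0xe0a0002) (.node 31182 (.leaf 0x0) (.leaf 0xf0a0a0003))) (.node 31184 (.leaf 0x0) (.node 31185 (.leaf 0x0) (.leaf 0x6020103010102000202000701000d))))))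

def argWS_2760 : Store := (.node 31197 (.node 31191 (.node 31188 (.node 31187 (.leaf 0x0) (.leaf 0xb0a0002)) (.node 31189 (.leaf 0x0) (.node 31190 (.leaf 0xb0a0f0003) (.leaf 0x301040005000703040103000b)))) (.node 31194 (.node 31192 (.leaf 0x0) (.node 31193 (.leaf 0xb0f0002) (.leaf 0x0))) (.node 31195 (.leaf 0x79d90079d5) (.node 31196 (.leaf 0xf0b0a0a0004) (.leaf 0x0))))) (.node 31203 (.node 31200 (.node 31198 (.leaf 0xb0b0002) (.node 31199 (.leaf 0x0) (.leaf 0x0))) (.node 31201 (.leaf 0x30400030000000703040103000c) (.node 31202 (.leaf 0x0) (.leaf 0x0)))) (.node 31206 (.node 31204 (.leaf 0x503080007030401030009) (.node 31205 (.leaf 0x0) (.leaf 0xf0b0b0a0a0005))) (.node 31207 (.leaf 0x0) (.node 31208 (.leaf 0x79e6) (.leaf 0x101010703060202000701000b))))))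

def argWS_2761 : Store := (.node 31186 argWS_2759 argWS_2760)

def argWS_2762 : Store := (.node 31164 argWS_2758 argWS_2761)

def argWS_2763 : Store := (.node 31119 argWS_2755 argWS_2762)

def argWS_2764 : Store := (.node 31220 (.node 31214 (.node 31211 (.node 31210 (.leaf 0x0) (.leaf 0xe0001)) (.node 31212 (.leaf 0x0) (.node 31213 (.leaf 0x20202090806000007) (.leaf 0x0)))) (.node 31217 (.node 31215 (.leaf 0xe0a0a0003) (.node 31216 (.leaf 0xa0f0b0003) (.leaf 0x0))) (.node 31218 (.leaf 0x0) (.node 31219 (.leaf 0x104020901060006) (.leaf 0x0))))) (.node 31225 (.node 31222 (.node 31221 (.leaf 0xb0f0002) (.leaf 0x0)) (.node 31223 (.leaf 0x79f50079f1) (.node 31224 (.leaf 0x90703010102000802040105000c) (.leaf 0x0)))) (.node 31228 (.node 31226 (.leaf 0xf0b0002) (.node 31227 (.leaf 0x0) (.leaf 0xb0f0a0003))) (.node 31229 (.leaf 0x0) (.node 31230 (.leaf 0x0) (.leaf 0x60400050206040007))))))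

def argWS_2765 : Store := (.node 31242 (.node 31236 (.node 31233 (.node 31232 (.leaf 0x0) (.leaf 0xe0d0002)) (.node 31234 (.leaf 0x0) (.node 31235 (.leaf 0xb0b0a0a0004) (.leaf 0xd0001)))) (.node 31239 (.node 31237 (.leaf 0x7a03007a02) (.node 31238 (.leaf 0x90300030306040802040105000c) (.leaf 0x0))) (.node 31240 (.leaf 0xf0b0b0a0004) (.node 31241 (.leaf 0x0) (.leaf 0x1040904020202000701000a))))) (.node 31248 (.node 31245 (.node 31243 (.leaf 0x0) (.node 31244 (.leaf 0xf0b0b0a0a0005) (.leaf 0xe0a0a0003))) (.node 31246 (.leaf 0x60501090806000007) (.node 31247 (.leaf 0x0) (.leaf 0xf0001)))) (.node 31251 (.node 31249 (.leaf 0x0) (.node 31250 (.leaf 0xa0f0b0003) (.leaf 0x7a11007a10))) (.node 31252 (.leaf 0x60506010500020007) (.node 31253 (.leaf 0x0) (.leaf 0xb0b0a0003))))))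

def argWS_2766 : Store := (.node 31231 argWS_2764 argWS_2765)

def argWS_2767 : Store := (.node 31265 (.node 31259 (.node 31256 (.node 31255 (.leaf 0x0) (.leaf 0x700000002080400000703040103000e)) (.node 31257 (.leaf 0x0) (.node 31258 (.leaf 0xb0b0002) (.leaf 0x2000000090206020202000701000d)))) (.node 31262 (.node 31260 (.leaf 0x0) (.node 31261 (.leaf 0xd0b0b0003) (.leaf 0x0))) (.node 31263 (.leaf 0x70009000009000703040103000c) (.node 31264 (.leaf 0x0) (.leaf 0xb0b0a0a0004))))) (.node 31270 (.node 31267 (.node 31266 (.leaf 0x0) (.leaf 0x40304090000090802040105000c)) (.node 31268 (.leaf 0x0) (.node 31269 (.leaf 0x0) (.leaf 0x7a24007a21)))) (.node 31273 (.node 31271 (.leaf 0xf0b0a0003) (.node 31272 (.leaf 0x0) (.leaf 0xb0f0a0003))) (.node 31274 (.leaf 0x0) (.node 31275 (.leaf 0x0) (.leaf 0x2040307000902000701000a))))))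

def argWS_2768 : Store := (.node 31287 (.node 31281 (.node 31278 (.node 31277 (.leaf 0x0) (.leaf 0xf0b0b0003)) (.node 31279 (.leaf 0x0) (.node 31280 (.leaf 0x7a2e003b72) (.leaf 0x3070900090802040105000a)))) (.node 31284 (.node 31282 (.leaf 0x0) (.node 31283 (.leaf 0xd0b0002) (.leaf 0x0))) (.node 31285 (.leaf 0x3010900090202000701000a) (.node 31286 (.leaf 0x0) (.leaf 0xe0a0a0003))))) (.node 31293 (.node 31290 (.node 31288 (.leaf 0xf0b0002) (.node 31289 (.leaf 0x30502020900000802040105000c) (.leaf 0x0))) (.node 31291 (.leaf 0xd0b0002) (.node 31292 (.leaf 0x0) (.leaf 0x7a3b007a37)))) (.node 31296 (.node 31294 (.leaf 0x30401010703060802040105000c) (.node 31295 (.leaf 0x0) (.leaf 0xa0a0002))) (.node 31297 (.leaf 0x0) (.node 31298 (.leaf 0x0) (.leaf 0xb0b0a0003))))))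

def argWS_2769 : Store := (.node 31276 argWS_2767 argWS_2768)

def argWS_2770 : Store := (.node 31254 argWS_2766 argWS_2769)

def argWS_2771 : Store := (.node 31310 (.node 31304 (.node 31301 (.node 31300 (.leaf 0xf0b0b0003) (.leaf 0x205020603000703040103000b)) (.node 31302 (.leaf 0x0) (.node 31303 (.leaf 0xb0b0002) (.leaf 0x0)))) (.node 31307 (.node 31305 (.leaf 0x7a47) (.node 31306 (.leaf 0xb0b0002) (.leaf 0x0))) (.node 31308 (.leaf 0xe0001) (.node 31309 (.leaf 0x0) (.leaf 0xa0f0002))))) (.node 31315 (.node 31312 (.node 31311 (.leaf 0x0) (.leaf 0xb0f0a0a0004)) (.node 31313 (.leaf 0xe0a0002) (.node 31314 (.leaf 0x7a50) (.leaf 0xf0a0a0003)))) (.node 31318 (.node 31316 (.leaf 0x0) (.node 31317 (.leaf 0xb0a0f0003) (.leaf 0x0))) (.node 31319 (.leaf 0x0) (.node 31320 (.leaf 0x1010904020005) (.leaf 0x0))))))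

def argWS_2772 : Store := (.node 31332 (.node 31326 (.node 31323 (.node 31322 (.leaf 0xe0a0002) (.leaf 0x0)) (.node 31324 (.leaf 0x60201070209020802040105000c) (.node 31325 (.leaf 0x0) (.leaf 0xa0f0b0b0004)))) (.node 31329 (.node 31327 (.leaf 0x0) (.node 31328 (.leaf 0x7a5e) (.leaf 0x90700050206040802040105000c))) (.node 31330 (.leaf 0x0) (.node 31331 (.leaf 0xf0a0002) (.leaf 0x0))))) (.node 31338 (.node 31335 (.node 31333 (.leaf 0xd0b0002) (.node 31334 (.leaf 0x0) (.leaf 0x0))) (.node 31336 (.leaf 0x4030402090106000703040103000d) (.node 31337 (.leaf 0x0) (.leaf 0xa0a0002)))) (.node 31341 (.node 31339 (.leaf 0x0) (.node 31340 (.leaf 0x7a6a) (.leaf 0x306020702010802040105000c))) (.node 31342 (.leaf 0x0) (.node 31343 (.leaf 0xa0f0002) (.leaf 0x0))))))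

def argWS_2773 : Store := (.node 31321 argWS_2771 argWS_2772)

def argWS_2774 : Store := (.node 31355 (.node 31349 (.node 31346 (.node 31345 (.leaf 0xa0a0002) (.leaf 0x0)) (.node 31347 (.leaf 0x0) (.node 31348 (.leaf 0xb0001) (.leaf 0x40402000003010007)))) (.node 31352 (.node 31350 (.leaf 0x0) (.node 31351 (.leaf 0xa0f0b0b0004) (.leaf 0x0))) (.node 31353 (.leaf 0xf0a0a0003) (.node 31354 (.leaf 0x7a78007a77) (.leaf 0x2090009020602000703040103000d))))) (.node 31361 (.node 31358 (.node 31356 (.leaf 0x0) (.node 31357 (.leaf 0xb0f0a0a0004) (.leaf 0x0))) (.node 31359 (.leaf 0x60102090106000703040103000c) (.node 31360 (.leaf 0x0) (.leaf 0xb0b0002)))) (.node 31364 (.node 31362 (.leaf 0x8000901090802040105000b) (.node 31363 (.leaf 0x0) (.leaf 0xb0a0a0003))) (.node 31365 (.leaf 0x0) (.node 31366 (.leaf 0xa0a0002) (.leaf 0x9020900000202000701000a))))))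

def argWS_2775 : Store := (.node 31378 (.node 31372 (.node 31369 (.node 31368 (.leaf 0x0) (.leaf 0xf0a0002)) (.node 31370 (.leaf 0x0) (.node 31371 (.leaf 0x7a89007a85) (.leaf 0xa0001)))) (.node 31375 (.node 31373 (.leaf 0x0) (.node 31374 (.leaf 0xb0b0002) (.leaf 0x0))) (.node 31376 (.leaf 0x0) (.node 31377 (.leaf 0xb0f0a0a0004) (.leaf 0x60207020902000703040103000c))))) (.node 31384 (.node 31381 (.node 31379 (.leaf 0x0) (.node 31380 (.leaf 0xb0a0002) (.leaf 0x0))) (.node 31382 (.leaf 0xf0a0002) (.node 31383 (.leaf 0x7a95007a94) (.leaf 0x5020003010102000202000701000d)))) (.node 31387 (.node 31385 (.leaf 0x0) (.node 31386 (.leaf 0xf0b0b0a0a0005) (.leaf 0x0))) (.node 31388 (.leaf 0x400090206020006) (.node 31389 (.leaf 0x0) (.leaf 0xf0b0002))))))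

def argWS_2776 : Store := (.node 31367 argWS_2774 argWS_2775)

def argWS_2777 : Store := (.node 31344 argWS_2773 argWS_2776)

def argWS_2778 : Store := (.node 31299 argWS_2770 argWS_2777)

def argWS_2779 : Store := (.node 31209 argWS_2763 argWS_2778)

def argWS_2780 : Store := (.node 31401 (.node 31395 (.node 31392 (.node 31391 (.leaf 0xb0a0a0003) (.leaf 0x6000301010200000703040103000e)) (.node 31393 (.leaf 0x0) (.node 31394 (.leaf 0xb0b0002) (.leaf 0x0)))) (.node 31398 (.node 31396 (.leaf 0x7aa2) (.node 31397 (.leaf 0x1020703000703040103000a) (.leaf 0x0))) (.node 31399 (.leaf 0xb0f0a0a0004) (.node 31400 (.leaf 0x0) (.leaf 0xb0b0002))))) (.node 31406 (.node 31403 (.node 31402 (.leaf 0x0) (.leaf 0x0)) (.node 31404 (.leaf 0xa0f0002) (.node 31405 (.leaf 0xa0f0002) (.leaf 0xb0001)))) (.node 31409 (.node 31407 (.leaf 0x0) (.node 31408 (.leaf 0x7aae007aac) (.leaf 0xf0b0002))) (.node 31410 (.leaf 0x0) (.node 31411 (.leaf 0x3070006020702010008) (.leaf 0x0))))))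

def argWS_2781 : Store := (.node 31423 (.node 31417 (.node 31414 (.node 31413 (.leaf 0xb0b0002) (.leaf 0x6050009020602000703040103000d)) (.node 31415 (.leaf 0x0) (.node 31416 (.leaf 0xb0f0a0a0004) (.leaf 0x0)))) (.node 31420 (.node 31418 (.leaf 0xe0a0a0003) (.node 31419 (.leaf 0x7ab9007ab8) (.leaf 0x60007020902000703040103000c))) (.node 31421 (.leaf 0x0) (.node 31422 (.leaf 0xe0a0002) (.leaf 0x0))))) (.node 31429 (.node 31426 (.node 31424 (.leaf 0xf0a0002) (.node 31425 (.leaf 0x0) (.leaf 0x0))) (.node 31427 (.leaf 0x5000006020702010202000701000d) (.node 31428 (.leaf 0x0) (.leaf 0xf0b0b0003)))) (.node 31432 (.node 31430 (.leaf 0x0) (.node 31431 (.leaf 0xb0b0002) (.leaf 0xf0b0b0a0004))) (.node 31433 (.leaf 0x7ac7007ac6) (.node 31434 (.leaf 0x900000408010202000701000b) (.leaf 0x0))))))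

def argWS_2782 : Store := (.node 31412 argWS_2780 argWS_2781)

def argWS_2783 : Store := (.node 31446 (.node 31440 (.node 31437 (.node 31436 (.leaf 0xd0001) (.leaf 0x0)) (.node 31438 (.leaf 0x3040901060005) (.node 31439 (.leaf 0x0) (.leaf 0xf0b0b0a0004)))) (.node 31443 (.node 31441 (.leaf 0x205020202010802040105000b) (.node 31442 (.leaf 0x0) (.leaf 0xa0f0002))) (.node 31444 (.leaf 0x0) (.node 31445 (.leaf 0x903000007030401030009) (.leaf 0x0))))) (.node 31451 (.node 31448 (.node 31447 (.leaf 0x0) (.leaf 0x6050101090402000703040103000d)) (.node 31449 (.leaf 0x0) (.node 31450 (.leaf 0xf0a0a0003) (.leaf 0x0)))) (.node 31454 (.node 31452 (.leaf 0x7ada007ad6) (.node 31453 (.leaf 0xf0a0002) (.leaf 0x0))) (.node 31455 (.leaf 0x8020006030500040008) (.node 31456 (.leaf 0x0) (.leaf 0xe0a0002))))))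

def argWS_2784 : Store := (.node 31468 (.node 31462 (.node 31459 (.node 31458 (.leaf 0x406020702010006) (.leaf 0x0)) (.node 31460 (.leaf 0xd0b0b0003) (.node 31461 (.leaf 0x0) (.leaf 0xb0a0a0003)))) (.node 31465 (.node 31463 (.leaf 0x7ae5) (.node 31464 (.leaf 0xe0001) (.leaf 0x0))) (.node 31466 (.leaf 0x102020900000202000701000b) (.node 31467 (.leaf 0x0) (.leaf 0xb0a0002))))) (.node 31474 (.node 31471 (.node 31469 (.leaf 0xd0001) (.node 31470 (.leaf 0xb0a0f0003) (.leaf 0xb0a0a0003))) (.node 31472 (.leaf 0x0) (.node 31473 (.leaf 0xa0f0b0b0004) (.leaf 0x7af0007aef)))) (.node 31477 (.node 31475 (.leaf 0xa0f0b0b0004) (.node 31476 (.leaf 0x0) (.leaf 0x70006020702010802040105000c))) (.node 31478 (.leaf 0x0) (.node 31479 (.leaf 0xa0f0002) (.leaf 0x903000401050006))))))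

def argWS_2785 : Store := (.node 31457 argWS_2783 argWS_2784)

def argWS_2786 : Store := (.node 31435 argWS_2782 argWS_2785)

def argWS_2787 : Store := (.node 31491 (.node 31485 (.node 31482 (.node 31481 (.leaf 0x0) (.leaf 0xb0b0002)) (.node 31483 (.leaf 0x0) (.node 31484 (.leaf 0xb0001) (.leaf 0x304090000090802040105000b)))) (.node 31488 (.node 31486 (.leaf 0x0) (.node 31487 (.leaf 0xb0b0a0003) (.leaf 0x0))) (.node 31489 (.leaf 0x7aff007afb) (.node 31490 (.leaf 0xe0a0a0003) (.leaf 0x0))))) (.node 31496 (.node 31493 (.node 31492 (.leaf 0x20000070209020802040105000c) (.leaf 0x0)) (.node 31494 (.leaf 0xf0b0b0a0a0005) (.node 31495 (.leaf 0x502060402020007010009) (.leaf 0x0)))) (.node 31499 (.node 31497 (.leaf 0xa0a0002) (.node 31498 (.leaf 0x0) (.leaf 0xb0f0a0a0004))) (.node 31500 (.leaf 0x30305020202010802040105000c) (.node 31501 (.leaf 0x0) (.leaf 0xe0001))))))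

def argWS_2788 : Store := (.node 31513 (.node 31507 (.node 31504 (.node 31503 (.leaf 0x0) (.leaf 0x7b0e007b0a)) (.node 31505 (.leaf 0xf0b0b0a0004) (.node 31506 (.leaf 0x0) (.leaf 0x20409020602000703040103000c)))) (.node 31510 (.node 31508 (.leaf 0x0) (.node 31509 (.leaf 0xf0a0a0003) (.leaf 0x6020003010102000008))) (.node 31511 (.leaf 0x0) (.node 31512 (.leaf 0xa0f0b0003) (.leaf 0x0))))) (.node 31519 (.node 31516 (.node 31514 (.leaf 0xb0f0a0a0004) (.node 31515 (.leaf 0x0) (.leaf 0x7b1a007b19))) (.node 31517 (.leaf 0x304020106060202000701000b) (.node 31518 (.leaf 0x0) (.leaf 0xf0b0002)))) (.node 31522 (.node 31520 (.leaf 0x0) (.node 31521 (.leaf 0x600020804000006) (.leaf 0x0))) (.node 31523 (.leaf 0xa0a0002) (.node 31524 (.leaf 0xf0a0a0003) (.leaf 0xb0a0002))))))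

def argWS_2789 : Store := (.node 31502 argWS_2787 argWS_2788)

def argWS_2790 : Store := (.node 31536 (.node 31530 (.node 31527 (.node 31526 (.leaf 0xf0b0a0003) (.leaf 0x7b25007b24)) (.node 31528 (.leaf 0xf0b0a0003) (.node 31529 (.leaf 0x0) (.leaf 0xf0b0a0003)))) (.node 31533 (.node 31531 (.leaf 0x0) (.node 31532 (.leaf 0x0) (.leaf 0x9010402090106000703040103000d))) (.node 31534 (.leaf 0x0) (.node 31535 (.leaf 0xf0b0002) (.leaf 0x0))))) (.node 31541 (.node 31538 (.node 31537 (.leaf 0x70006010500020007) (.leaf 0x0)) (.node 31539 (.leaf 0xa0f0b0003) (.node 31540 (.leaf 0x0) (.leaf 0x40400020804000202000701000c)))) (.node 31544 (.node 31542 (.leaf 0x0) (.node 31543 (.leaf 0xb0b0a0a0004) (.leaf 0x0))) (.node 31545 (.leaf 0x7b37007b33) (.node 31546 (.leaf 0xb0f0002) (.leaf 0x0))))))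

def argWS_2791 : Store := (.node 31558 (.node 31552 (.node 31549 (.node 31548 (.leaf 0xb0a0f0003) (.leaf 0x0)) (.node 31550 (.leaf 0x0) (.node 31551 (.leaf 0x502000401050006) (.leaf 0x0)))) (.node 31555 (.node 31553 (.leaf 0xa0a0002) (.node 31554 (.leaf 0x0) (.leaf 0xf0a0a0003))) (.node 31556 (.leaf 0x1759007b42) (.node 31557 (.leaf 0x202020004080703040103000b) (.leaf 0x0))))) (.node 31564 (.node 31561 (.node 31559 (.leaf 0xf0b0b0a0004) (.node 31560 (.leaf 0x0) (.leaf 0xf0b0002))) (.node 31562 (.leaf 0x0) (.node 31563 (.leaf 0x0) (.leaf 0x2020200000300000802040105000d)))) (.node 31567 (.node 31565 (.leaf 0x0) (.node 31566 (.leaf 0x0) (.leaf 0xb0a0f0003))) (.node 31568 (.leaf 0x7b4e) (.node 31569 (.leaf 0x40300070206000202000701000c) (.leaf 0x0))))))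

def argWS_2792 : Store := (.node 31547 argWS_2790 argWS_2791)

def argWS_2793 : Store := (.node 31525 argWS_2789 argWS_2792)

def argWS_2794 : Store := (.node 31480 argWS_2786 argWS_2793)

def argWS_2795 : Store := (.node 31581 (.node 31575 (.node 31572 (.node 31571 (.leaf 0xa0a0002) (.leaf 0x0)) (.node 31573 (.leaf 0x300090000090802040105000b) (.node 31574 (.leaf 0x0) (.leaf 0xb0b0002)))) (.node 31578 (.node 31576 (.leaf 0xa0001) (.node 31577 (.leaf 0x40300090000090202000701000c) (.leaf 0x0))) (.node 31579 (.leaf 0xa0f0002) (.node 31580 (.leaf 0x0) (.leaf 0x7b5b))))) (.node 31586 (.node 31583 (.node 31582 (.leaf 0xb0b0a0003) (.leaf 0x0)) (.node 31584 (.leaf 0x103090206020202000701000b) (.node 31585 (.leaf 0x0) (.leaf 0xa0f0b0003)))) (.node 31589 (.node 31587 (.leaf 0x202060202020007010009) (.node 31588 (.leaf 0x0) (.leaf 0xe0a0a0003))) (.node 31590 (.leaf 0x0) (.node 31591 (.leaf 0x30309080600000703040103000c) (.leaf 0x0))))))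

def argWS_2796 : Store := (.node 31603 (.node 31597 (.node 31594 (.node 31593 (.leaf 0xf0a0002) (.leaf 0x0)) (.node 31595 (.leaf 0x7b69005142) (.node 31596 (.leaf 0x506010500020006) (.leaf 0x0)))) (.node 31600 (.node 31598 (.leaf 0xa0f0b0b0004) (.node 31599 (.leaf 0x0) (.leaf 0x90503090009000703040103000c))) (.node 31601 (.leaf 0x0) (.node 31602 (.leaf 0xb0b0a0003) (.leaf 0x202010606000703040103000c))))) (.node 31609 (.node 31606 (.node 31604 (.leaf 0x0) (.node 31605 (.leaf 0xe0a0002) (.leaf 0x0))) (.node 31607 (.leaf 0x60106020702010202000701000c) (.node 31608 (.leaf 0x0) (.leaf 0xf0b0b0a0a0005)))) (.node 31612 (.node 31610 (.leaf 0x0) (.node 31611 (.leaf 0x7b79) (.leaf 0xe0d0002))) (.node 31613 (.leaf 0x0) (.node 31614 (.leaf 0xf0b0b0003) (.leaf 0x0))))))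

def argWS_2797 : Store := (.node 31592 argWS_2795 argWS_2796)

def argWS_2798 : Store := (.node 31626 (.node 31620 (.node 31617 (.node 31616 (.leaf 0x0) (.leaf 0x50101090402000703040103000c)) (.node 31618 (.leaf 0x0) (.node 31619 (.leaf 0xf0b0a0a0004) (.leaf 0x0)))) (.node 31623 (.node 31621 (.leaf 0x9050300030306040802040105000d) (.node 31622 (.leaf 0x0) (.leaf 0xf0a0a0003))) (.node 31624 (.leaf 0x0) (.node 31625 (.leaf 0xe0d0002) (.leaf 0x7b88007b87))))) (.node 31631 (.node 31628 (.node 31627 (.leaf 0xe0001) (.leaf 0x0)) (.node 31629 (.leaf 0xa0f0002) (.node 31630 (.leaf 0x0) (.leaf 0x0)))) (.node 31634 (.node 31632 (.leaf 0x6000703060005) (.node 31633 (.leaf 0x0) (.leaf 0xd0001))) (.node 31635 (.leaf 0x0) (.node 31636 (.leaf 0x102090806000802040105000b) (.leaf 0x0))))))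

def argWS_2799 : Store := (.node 31648 (.node 31642 (.node 31639 (.node 31638 (.leaf 0xb0f0002) (.leaf 0x0)) (.node 31640 (.leaf 0x7b96001478) (.node 31641 (.leaf 0xf0a0002) (.leaf 0x0)))) (.node 31645 (.node 31643 (.leaf 0x2090106010500020802040105000d) (.node 31644 (.leaf 0x0) (.leaf 0xb0001))) (.node 31646 (.leaf 0xf0b0b0003) (.node 31647 (.leaf 0x70305070206000007) (.leaf 0x0))))) (.node 31654 (.node 31651 (.node 31649 (.leaf 0xf0b0a0a0004) (.node 31650 (.leaf 0x0) (.leaf 0xf0b0a0a0004))) (.node 31652 (.leaf 0x7ba2007ba1) (.node 31653 (.leaf 0x802090805000703040103000b) (.leaf 0x0)))) (.node 31657 (.node 31655 (.leaf 0xf0b0b0003) (.node 31656 (.leaf 0x0) (.leaf 0x2090300090206020802040105000d))) (.node 31658 (.leaf 0x0) (.node 31659 (.leaf 0xf0b0002) (.leaf 0xb0001))))))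

def argWS_2800 : Store := (.node 31637 argWS_2798 argWS_2799)

def argWS_2801 : Store := (.node 31615 argWS_2797 argWS_2800)

def argWS_2802 : Store := (.node 31671 (.node 31665 (.node 31662 (.node 31661 (.leaf 0xa0f0b0b0004) (.leaf 0x40304060207020703040103000c)) (.node 31663 (.leaf 0x0) (.node 31664 (.leaf 0xb0b0a0a0004) (.leaf 0x0)))) (.node 31668 (.node 31666 (.leaf 0x7bb0007bac) (.node 31667 (.leaf 0xb0f0a0a0004) (.leaf 0x0))) (.node 31669 (.leaf 0x2000006020702010008) (.node 31670 (.leaf 0x0) (.leaf 0xe0a0a0003))))) (.node 31676 (.node 31673 (.node 31672 (.leaf 0x20804000202000701000a) (.leaf 0x0)) (.node 31674 (.leaf 0xf0001) (.node 31675 (.leaf 0x0) (.leaf 0x603010206030802040105000b)))) (.node 31679 (.node 31677 (.leaf 0x0) (.node 31678 (.leaf 0xd0b0b0003) (.leaf 0x0))) (.node 31680 (.leaf 0x7bbe) (.node 31681 (.leaf 0x80300090000090802040105000c) (.leaf 0x0))))))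

def argWS_2803 : Store := (.node 31693 (.node 31687 (.node 31684 (.node 31683 (.leaf 0xf0b0b0003) (.leaf 0x604000003030604000703040103000e)) (.node 31685 (.leaf 0x0) (.node 31686 (.leaf 0x0) (.leaf 0xa0f0b0b0004)))) (.node 31690 (.node 31688 (.leaf 0x7bc6007bc5) (.node 31689 (.leaf 0x8010106030500040802040105000d) (.leaf 0x0))) (.node 31691 (.leaf 0xd0001) (.node 31692 (.leaf 0x0) (.leaf 0x6030500040202000701000c))))) (.node 31699 (.node 31696 (.node 31694 (.leaf 0x0) (.node 31695 (.leaf 0xd0001) (.leaf 0xf0b0a0003))) (.node 31697 (.leaf 0x400040400050006) (.node 31698 (.leaf 0x0) (.leaf 0x0)))) (.node 31702 (.node 31700 (.leaf 0xd0b0b0003) (.node 31701 (.leaf 0x7bd3007bd2) (.leaf 0x202090000090802040105000b))) (.node 31703 (.leaf 0x0) (.node 31704 (.leaf 0xa0f0b0003) (.leaf 0x0))))))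

def argWS_2804 : Store := (.node 31682 argWS_2802 argWS_2803)

def argWS_2805 : Store := (.node 31716 (.node 31710 (.node 31707 (.node 31706 (.leaf 0xd0b0002) (.leaf 0x0)) (.node 31708 (.leaf 0x0) (.node 31709 (.leaf 0x704000508020401050009) (.leaf 0x0)))) (.node 31713 (.node 31711 (.leaf 0xb0b0a0a0004) (.node 31712 (.leaf 0x0) (.leaf 0x20205020202010802040105000c))) (.node 31714 (.leaf 0x0) (.node 31715 (.leaf 0xb0f0002) (.leaf 0x0))))) (.node 31722 (.node 31719 (.node 31717 (.leaf 0xf0b0b0a0004) (.node 31718 (.leaf 0x7be4007be3) (.leaf 0xf0b0a0a0004))) (.node 31720 (.leaf 0x0) (.node 31721 (.leaf 0xa0f0b0003) (.leaf 0x0)))) (.node 31725 (.node 31723 (.leaf 0x0) (.node 31724 (.leaf 0xb0f0a0a0004) (.leaf 0x0))) (.node 31726 (.leaf 0x90201090806000802040105000c) (.node 31727 (.leaf 0x0) (.leaf 0xa0001))))))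

def argWS_2806 : Store := (.node 31739 (.node 31733 (.node 31730 (.node 31729 (.leaf 0x0) (.leaf 0xd0b0002)) (.node 31731 (.leaf 0x7bf1007bf0) (.node 31732 (.leaf 0xb0b0a0003) (.leaf 0x0)))) (.node 31736 (.node 31734 (.leaf 0x701090000090006) (.node 31735 (.leaf 0x0) (.leaf 0xb0a0002))) (.node 31737 (.leaf 0x2040102010606000703040103000d) (.node 31738 (.leaf 0x0) (.leaf 0xe0a0a0003))))) (.node 31745 (.node 31742 (.node 31740 (.leaf 0x0) (.node 31741 (.leaf 0x7a4d007bfb) (.leaf 0xb0a0a0003))) (.node 31743 (.leaf 0x0) (.node 31744 (.leaf 0xa0001) (.leaf 0x0)))) (.node 31748 (.node 31746 (.leaf 0x0) (.node 31747 (.leaf 0xe0a0002) (.leaf 0x5070206000202000701000a))) (.node 31749 (.leaf 0x0) (.node 31750 (.leaf 0xd0b0b0003) (.leaf 0x0))))))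

def argWS_2807 : Store := (.node 31728 argWS_2805 argWS_2806)

def argWS_2808 : Store := (.node 31705 argWS_2804 argWS_2807)

def argWS_2809 : Store := (.node 31660 argWS_2801 argWS_2808)

def argWS_2810 : Store := (.node 31570 argWS_2794 argWS_2809)

def argWS_2811 : Store := (.node 31390 argWS_2779 argWS_2810)

def argWS_2812 : Store := (.node 31029 argWS_2748 argWS_2811)

def argWS_2813 : Store := (.node 30308 argWS_2685 argWS_2812)

def argWS_2814 : Store := (.node 31762 (.node 31756 (.node 31753 (.node 31752 (.leaf 0x7c06005153) (.leaf 0xe0d0002)) (.node 31754 (.leaf 0x0) (.node 31755 (.leaf 0xb0b0a0003) (.leaf 0x0)))) (.node 31759 (.node 31757 (.leaf 0x0) (.node 31758 (.leaf 0x202020900000202000701000b) (.leaf 0x0))) (.node 31760 (.leaf 0xf0a0a0003) (.node 31761 (.leaf 0x0) (.leaf 0x30403030604000703040103000c))))) (.node 31767 (.node 31764 (.node 31763 (.leaf 0x0) (.leaf 0xa0f0b0003)) (.node 31765 (.leaf 0x0) (.node 31766 (.leaf 0x20000030306040802040105000d)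 (.leaf 0x0)))) (.node 31770 (.node 31768 (.leaf 0xe0a0002) (.node 31769 (.leaf 0x0) (.leaf 0x7c18007c14))) (.node 31771 (.leaf 0xf0b0b0003) (.node 31772 (.leaf 0xa0a0002) (.leaf 0xf0a0a0003))))))

def argWS_2815 : Store := (.node 31784 (.node 31778 (.node 31775 (.node 31774 (.leaf 0x7c1c) (.leaf 0x6080400000703040103000a)) (.node 31776 (.leaf 0x0) (.node 31777 (.leaf 0xb0f0a0003) (.leaf 0x0)))) (.node 31781 (.node 31779 (.leaf 0x0) (.node 31780 (.leaf 0x502000004080703040103000b) (.leaf 0x0))) (.node 31782 (.leaf 0xb0b0a0a0004) (.node 31783 (.leaf 0x0) (.leaf 0xe0a0a0003))))) (.node 31790 (.node 31787 (.node 31785 (.leaf 0x107010908050802040105000b) (.node 31786 (.leaf 0x0) (.leaf 0xf0b0b0a0004))) (.node 31788 (.leaf 0x0) (.node 31789 (.leaf 0x7c2b007c27) (.leaf 0x20401070209020202000701000c)))) (.node 31793 (.node 31791 (.leaf 0x0) (.node 31792 (.leaf 0xf0b0b0003) (.leaf 0x0))) (.node 31794 (.leaf 0x1010500020202000701000a) (.node 31795 (.leaf 0x0) (.leaf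 0xb0b0a0a0004))))))

def argWS_2816 : Store := (.node 31773 argWS_2814 argWS_2815)

def argWS_2817 : Store := (.node 31807 (.node 31801 (.node 31798 (.node 31797 (.leaf 0x6050308000703040103000a) (.leaf 0x0)) (.node 31799 (.leaf 0xf0a0a0003) (.node 31800 (.leaf 0x0) (.leaf 0x1030908050005)))) (.node 31804 (.node 31802 (.leaf 0x0) (.node 31803 (.leaf 0xe0d0002) (.leaf 0x0))) (.node 31805 (.leaf 0x7c3b) (.node 31806 (.leaf 0x6020005020604000703040103000d) (.leaf 0x0))))) (.node 31812 (.node 31809 (.node 31808 (.leaf 0xf0a0002) (.leaf 0x0)) (.node 31810 (.leaf 0x0) (.node 31811 (.leaf 0xb0f0a0a0004) (.leaf 0x103090206020802040105000b)))) (.node 31815 (.node 31813 (.leaf 0x0) (.node 31814 (.leaf 0xf0a0002) (.leaf 0x0))) (.node 31816 (.leaf 0x7c46) (.node 31817 (.leaf 0x8000000030000000703040103000d) (.leaf 0x0))))))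

def argWS_2818 : Store := (.node 31829 (.node 31823 (.node 31820 (.node 31819 (.leaf 0xd0b0002) (.leaf 0x0)) (.node 31821 (.leaf 0xf0a0a0003) (.node 31822 (.leaf 0x0) (.leaf 0x0)))) (.node 31826 (.node 31824 (.leaf 0x9070003010102000202000701000d) (.node 31825 (.leaf 0x0) (.leaf 0xf0b0b0a0a0005))) (.node 31827 (.leaf 0x0) (.node 31828 (.leaf 0x40000090206020202000701000c) (.leaf 0x0))))) (.node 31835 (.node 31832 (.node 31830 (.leaf 0xf0b0b0a0a0005) (.node 31831 (.leaf 0x0) (.leaf 0x7c56))) (.node 31833 (.leaf 0x6020105020202010202000701000d) (.node 31834 (.leaf 0x0) (.leaf 0xf0a0a0003)))) (.node 31838 (.node 31836 (.leaf 0x0) (.node 31837 (.leaf 0x0) (.leaf 0xa0f0b0b0004))) (.node 31839 (.leaf 0x30306020702010007) (.node 31840 (.leaf 0x0) (.leaf 0xb0b0a0a0004))))))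

def argWS_2819 : Store := (.node 31818 argWS_2817 argWS_2818)

def argWS_2820 : Store := (.node 31796 argWS_2816 argWS_2819)

def argWS_2821 : Store := (.node 31852 (.node 31846 (.node 31843 (.node 31842 (.leaf 0x0) (.leaf 0x805000900090202000701000b)) (.node 31844 (.leaf 0x0) (.node 31845 (.leaf 0xf0b0b0a0a0005) (.leaf 0x0)))) (.node 31849 (.node 31847 (.leaf 0x7c65007c61) (.node 31848 (.leaf 0x400020804000202000701000c) (.leaf 0x0))) (.node 31850 (.leaf 0xa0f0b0b0004) (.node 31851 (.leaf 0x0) (.leaf 0x600000400050006))))) (.node 31857 (.node 31854 (.node 31853 (.leaf 0x0) (.leaf 0xd0b0b0003)) (.node 31855 (.leaf 0x600060207020703040103000b) (.node 31856 (.leaf 0x0) (.leaf 0xe0a0a0003)))) (.node 31860 (.node 31858 (.leaf 0x0) (.node 31859 (.leaf 0xb0a0a0003) (.leaf 0x6040106020702010802040105000d))) (.node 31861 (.leaf 0x0) (.node 31862 (.leaf 0xb0a0f0003) (.leaf 0x0))))))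

def argWS_2822 : Store := (.node 31874 (.node 31868 (.node 31865 (.node 31864 (.leaf 0x7c76007c72) (.leaf 0xf0b0b0a0a0005)) (.node 31866 (.leaf 0x0) (.node 31867 (.leaf 0x605070206000202000701000b) (.leaf 0x0)))) (.node 31871 (.node 31869 (.leaf 0xe0a0002) (.node 31870 (.leaf 0xf0a0a0003) (.leaf 0xb0f0a0a0004))) (.node 31872 (.leaf 0x3dd2007c7e) (.node 31873 (.leaf 0x6060107000903000703040103000d) (.leaf 0x0))))) (.node 31880 (.node 31877 (.node 31875 (.leaf 0xf0b0a0003) (.node 31876 (.leaf 0x0) (.leaf 0x80006030500040007))) (.node 31878 (.leaf 0x0) (.node 31879 (.leaf 0xf0a0a0003) (.leaf 0xf0b0b0a0004)))) (.node 31883 (.node 31881 (.leaf 0x206090000090802040105000b) (.node 31882 (.leaf 0x0) (.leaf 0xa0f0002))) (.node 31884 (.leaf 0x0) (.node 31885 (.leaf 0xa0a0002) (.leaf 0x7c8c007c8b))))))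

def argWS_2823 : Store := (.node 31863 argWS_2821 argWS_2822)

def argWS_2824 : Store := (.node 31897 (.node 31891 (.node 31888 (.node 31887 (.leaf 0x202020900000202000701000c) (.leaf 0x0)) (.node 31889 (.leaf 0xb0f0a0a0004) (.node 31890 (.leaf 0x0) (.leaf 0xb0001)))) (.node 31894 (.node 31892 (.leaf 0x0) (.node 31893 (.leaf 0x0) (.leaf 0x906010500020202000701000b))) (.node 31895 (.leaf 0x0) (.node 31896 (.leaf 0xb0f0002) (.leaf 0x0))))) (.node 31902 (.node 31899 (.node 31898 (.leaf 0x6010202000003010202000701000d) (.leaf 0x0)) (.node 31900 (.leaf 0xf0001) (.node 31901 (.leaf 0x0) (.leaf 0x7c9c)))) (.node 31905 (.node 31903 (.leaf 0x10401070306000703040103000c) (.node 31904 (.leaf 0x0) (.leaf 0xb0b0002))) (.node 31906 (.leaf 0x0) (.node 31907 (.leaf 0x30308000703040103000a) (.leaf 0x0))))))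

def argWS_2825 : Store := (.node 31919 (.node 31913 (.node 31910 (.node 31909 (.leaf 0xd0b0002) (.leaf 0x307030401030006)) (.node 31911 (.leaf 0x0) (.node 31912 (.leaf 0xf0b0002) (.leaf 0x0)))) (.node 31916 (.node 31914 (.leaf 0x304030308000703040103000b) (.node 31915 (.leaf 0x0) (.leaf 0x0))) (.node 31917 (.leaf 0x7cab007ca8) (.node 31918 (.leaf 0xf0a0a0003) (.leaf 0x0))))) (.node 31925 (.node 31922 (.node 31920 (.leaf 0xb0b0a0a0004) (.node 31921 (.leaf 0x0) (.leaf 0x0))) (.node 31923 (.leaf 0xb0a0f0003) (.node 31924 (.leaf 0x200000408010802040105000b) (.leaf 0x0)))) (.node 31928 (.node 31926 (.leaf 0xb0b0a0003) (.node 31927 (.leaf 0x0) (.leaf 0x7cb6))) (.node 31929 (.leaf 0xf0b0a0003) (.node 31930 (.leaf 0x0) (.leaf 0x0))))))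

def argWS_2826 : Store := (.node 31908 argWS_2824 argWS_2825)

def argWS_2827 : Store := (.node 31886 argWS_2823 argWS_2826)

def argWS_2828 : Store := (.node 31841 argWS_2820 argWS_2827)

def argWS_2829 : Store := (.node 31942 (.node 31936 (.node 31933 (.node 31932 (.leaf 0x20002070009030007) (.leaf 0x0)) (.node 31934 (.leaf 0x0) (.node 31935 (.leaf 0x102000408010202000701000b) (.leaf 0x0)))) (.node 31939 (.node 31937 (.leaf 0xb0b0a0a0004) (.node 31938 (.leaf 0x0) (.leaf 0xd0b0b0003))) (.node 31940 (.leaf 0x7cc2007cc1) (.node 31941 (.leaf 0xb0f0002) (.leaf 0x0))))) (.node 31947 (.node 31944 (.node 31943 (.leaf 0x30403010904020202000701000c) (.leaf 0x0)) (.node 31945 (.leaf 0xf0b0002) (.node 31946 (.leaf 0xb0f0002) (.leaf 0x6020206020007010008)))) (.node 31950 (.node 31948 (.leaf 0x0) (.node 31949 (.leaf 0xe0a0a0003) (.leaf 0x0))) (.node 31951 (.leaf 0xf0001) (.node 31952 (.leaf 0x7cce007ccd) (.leaf 0x605090000090202000701000b))))))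

def argWS_2830 : Store := (.node 31964 (.node 31958 (.node 31955 (.node 31954 (.leaf 0x0) (.leaf 0xb0a0002)) (.node 31956 (.leaf 0x0) (.node 31957 (.leaf 0x3010207030005) (.leaf 0x0)))) (.node 31961 (.node 31959 (.leaf 0xf0001) (.node 31960 (.leaf 0xd0b0b0003) (.leaf 0x9000206020007010008))) (.node 31962 (.leaf 0x0) (.node 31963 (.leaf 0xd0b0002) (.leaf 0x0))))) (.node 31970 (.node 31967 (.node 31965 (.leaf 0xf0b0b0a0a0005) (.node 31966 (.leaf 0x0) (.leaf 0x7cdd007cdb))) (.node 31968 (.leaf 0xd0b0b0003) (.node 31969 (.leaf 0x0) (.leaf 0xd0b0b0003)))) (.node 31973 (.node 31971 (.leaf 0x0) (.node 31972 (.leaf 0x0) (.leaf 0x202010102000802040105000b))) (.node 31974 (.leaf 0x0) (.node 31975 (.leaf 0xf0b0b0003) (.leaf 0x0))))))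

def argWS_2831 : Store := (.node 31953 argWS_2829 argWS_2830)

def argWS_2832 : Store := (.node 31987 (.node 31981 (.node 31978 (.node 31977 (.leaf 0x7010401050005) (.leaf 0x0)) (.node 31979 (.leaf 0xe0001) (.node 31980 (.leaf 0x0) (.leaf 0x90000020804000802040105000c)))) (.node 31984 (.node 31982 (.leaf 0x0) (.node 31983 (.leaf 0xb0a0002) (.leaf 0x0))) (.node 31985 (.leaf 0x7cef007ceb) (.node 31986 (.leaf 0xf0b0b0003) (.leaf 0x0))))) (.node 31992 (.node 31989 (.node 31988 (.leaf 0x303030604000703040103000b) (.leaf 0x0)) (.node 31990 (.leaf 0xf0a0a0003) (.node 31991 (.leaf 0xb0b0a0a0004) (.leaf 0x2020207000903000703040103000d)))) (.node 31995 (.node 31993 (.leaf 0x0) (.node 31994 (.leaf 0x0) (.leaf 0x7cf9))) (.node 31996 (.leaf 0xb0b0a0a0004) (.node 31997 (.leaf 0x0) (.leaf 0xb0f0002))))))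

def argWS_2833 : Store := (.node 32009 (.node 32003 (.node 32000 (.node 31999 (.leaf 0x0) (.leaf 0x0)) (.node 32001 (.leaf 0x403000207030006) (.node 32002 (.leaf 0x0) (.leaf 0xb0a0002)))) (.node 32006 (.node 32004 (.leaf 0x0) (.node 32005 (.leaf 0xf0b0b0a0004) (.leaf 0xb0001))) (.node 32007 (.leaf 0x7d05007d04) (.node 32008 (.leaf 0x90301010200000703040103000c) (.leaf 0x0))))) (.node 32015 (.node 32012 (.node 32010 (.leaf 0xb0001) (.node 32011 (.leaf 0x0) (.leaf 0x1010500020202000701000a))) (.node 32013 (.leaf 0x0) (.node 32014 (.leaf 0xf0b0a0003) (.leaf 0xa0001)))) (.node 32018 (.node 32016 (.leaf 0x900000307030401030009) (.node 32017 (.leaf 0x0) (.leaf 0xa0f0b0003))) (.node 32019 (.leaf 0x0) (.node 32020 (.leaf 0xf0b0a0a0004) (.leaf 0x7d13007d12))))))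

def argWS_2834 : Store := (.node 31998 argWS_2832 argWS_2833)

def argWS_2835 : Store := (.node 31976 argWS_2831 argWS_2834)

def argWS_2836 : Store := (.node 32032 (.node 32026 (.node 32023 (.node 32022 (.leaf 0x506030007030401030009) (.leaf 0x0)) (.node 32024 (.leaf 0xf0b0b0003) (.node 32025 (.leaf 0x0) (.leaf 0xf0b0a0a0004)))) (.node 32029 (.node 32027 (.leaf 0x0) (.node 32028 (.leaf 0x0) (.leaf 0x0))) (.node 32030 (.leaf 0x0) (.node 32031 (.leaf 0xf0b0a0003) (.leaf 0x2000002))))) (.node 32037 (.node 32034 (.node 32033 (.leaf 0x0) (.leaf 0x0)) (.node 32035 (.leaf 0x0) (.node 32036 (.leaf 0x8050002) (.leaf 0x0)))) (.node 32040 (.node 32038 (.leaf 0xe0d0002) (.node 32039 (.leaf 0x809080502020007010009) (.leaf 0x0))) (.node 32041 (.leaf 0x0) (.node 32042 (.leaf 0x7d28) (.leaf 0x801030306040202000701000b))))))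

def argWS_2837 : Store := (.node 32054 (.node 32048 (.node 32045 (.node 32044 (.leaf 0x0) (.leaf 0xf0b0a0a0004)) (.node 32046 (.leaf 0x0) (.node 32047 (.leaf 0x602010207030802040105000b) (.leaf 0x0)))) (.node 32051 (.node 32049 (.leaf 0xe0a0a0003) (.node 32050 (.leaf 0xd0001) (.leaf 0xa0001))) (.node 32052 (.leaf 0x7d32) (.node 32053 (.leaf 0xf0b0a0003) (.leaf 0x0))))) (.node 32060 (.node 32057 (.node 32055 (.leaf 0x7030507020600000703040103000d) (.node 32056 (.leaf 0x0) (.leaf 0xa0f0b0b0004))) (.node 32058 (.leaf 0xb0001) (.node 32059 (.leaf 0x2090105020604000703040103000d) (.leaf 0x0)))) (.node 32063 (.node 32061 (.leaf 0xb0a0a0003) (.node 32062 (.leaf 0x20103060207020703040103000c) (.leaf 0x0))) (.node 32064 (.leaf 0xe0001) (.node 32065 (.leaf 0x0) (.leaf 0x7d40))))))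

def argWS_2838 : Store := (.node 32043 argWS_2836 argWS_2837)

def argWS_2839 : Store := (.node 32077 (.node 32071 (.node 32068 (.node 32067 (.leaf 0x108040008020401050009) (.leaf 0x0)) (.node 32069 (.leaf 0xf0a0002) (.node 32070 (.leaf 0x0) (.leaf 0x60601060207020703040103000c)))) (.node 32074 (.node 32072 (.leaf 0x0) (.node 32073 (.leaf 0xb0a0002) (.leaf 0xf0b0a0a0004))) (.node 32075 (.leaf 0xb0b0002) (.node 32076 (.leaf 0x3040300000300000202000701000d) (.leaf 0x0))))) (.node 32082 (.node 32079 (.node 32078 (.leaf 0xf0b0b0a0a0005) (.leaf 0x901040308000703040103000b)) (.node 32080 (.leaf 0xb0b0a0a0004) (.node 32081 (.leaf 0x0) (.leaf 0xb0f0002)))) (.node 32085 (.node 32083 (.leaf 0x7d51) (.node 32084 (.leaf 0xf0b0b0003) (.leaf 0x0))) (.node 32086 (.leaf 0x8000703060005) (.node 32087 (.leaf 0x0) (.leaf 0xf0b0a0003))))))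

def argWS_2840 : Store := (.node 32099 (.node 32093 (.node 32090 (.node 32089 (.leaf 0xb0001) (.leaf 0xf0b0a0003)) (.node 32091 (.leaf 0x3070008020401050008) (.node 32092 (.leaf 0x0) (.leaf 0xf0b0b0a0004)))) (.node 32096 (.node 32094 (.leaf 0x0) (.node 32095 (.leaf 0x7d5d007d59) (.leaf 0xe0d0002))) (.node 32097 (.leaf 0x0) (.node 32098 (.leaf 0xa0001) (.leaf 0x0))))) (.node 32105 (.node 32102 (.node 32100 (.leaf 0x0) (.node 32101 (.leaf 0xf0b0002) (.leaf 0xe0001))) (.node 32103 (.leaf 0xf0a0002) (.node 32104 (.leaf 0x90703080004) (.leaf 0x0)))) (.node 32108 (.node 32106 (.leaf 0xf0a0002) (.node 32107 (.leaf 0x0) (.leaf 0x502040005000703040103000b))) (.node 32109 (.leaf 0x0) (.node 32110 (.leaf 0xd0b0002) (.leaf 0x0))))))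

def argWS_2841 : Store := (.node 32088 argWS_2839 argWS_2840)

def argWS_2842 : Store := (.node 32066 argWS_2838 argWS_2841)

def argWS_2843 : Store := (.node 32021 argWS_2835 argWS_2842)

def argWS_2844 : Store := (.node 31931 argWS_2828 argWS_2843)

def argWS_2845 : Store := (.node 32122 (.node 32116 (.node 32113 (.node 32112 (.leaf 0xb0a0f0003) (.leaf 0x7d6f007d6e)) (.node 32114 (.leaf 0x6010601050002000703040103000d) (.node 32115 (.leaf 0x0) (.leaf 0xb0001)))) (.node 32119 (.node 32117 (.leaf 0x0) (.node 32118 (.leaf 0x4030002020900000008) (.leaf 0x0))) (.node 32120 (.leaf 0xf0b0b0a0004) (.node 32121 (.leaf 0xb0b0a0003) (.leaf 0x6050206030802040105000a))))) (.node 32127 (.node 32124 (.node 32123 (.leaf 0x0) (.leaf 0xf0b0a0a0004)) (.node 32125 (.leaf 0x0) (.node 32126 (.leaf 0xd0b0002) (.leaf 0x0)))) (.node 32130 (.node 32128 (.leaf 0x7d7e) (.node 32129 (.leaf 0x3070007000902000701000a) (.leaf 0x0))) (.node 32131 (.leaf 0xb0b0a0a0004) (.node 32132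 (.leaf 0x0) (.leaf 0x20502070209020802040105000c))))))

def argWS_2846 : Store := (.node 32144 (.node 32138 (.node 32135 (.node 32134 (.leaf 0x0) (.leaf 0xf0a0a0003)) (.node 32136 (.leaf 0x101010904020802040105000b) (.node 32137 (.leaf 0x0) (.leaf 0xe0d0002)))) (.node 32141 (.node 32139 (.leaf 0x0) (.node 32140 (.leaf 0x60200070209020202000701000c) (.leaf 0x0))) (.node 32142 (.leaf 0xb0a0f0003) (.node 32143 (.leaf 0x0) (.leaf 0x7d8e))))) (.node 32150 (.node 32147 (.node 32145 (.leaf 0x2000000090206020802040105000d) (.node 32146 (.leaf 0x0) (.leaf 0xa0a0002))) (.node 32148 (.leaf 0x0) (.node 32149 (.leaf 0x604010901090202000701000b) (.leaf 0x0)))) (.node 32153 (.node 32151 (.leaf 0xf0b0a0a0004) (.node 32152 (.leaf 0xe0a0a0003) (.leaf 0xf0b0002))) (.node 32154 (.leaf 0x7d98) (.node 32155 (.leaf 0xf0a0002) (.leaf 0x0))))))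

def argWS_2847 : Store := (.node 32133 argWS_2845 argWS_2846)

def argWS_2848 : Store := (.node 32167 (.node 32161 (.node 32158 (.node 32157 (.leaf 0x1050205020202010202000701000d) (.leaf 0x0)) (.node 32159 (.leaf 0xd0b0002) (.node 32160 (.leaf 0x503050901090006) (.leaf 0x0)))) (.node 32164 (.node 32162 (.leaf 0xf0b0a0003) (.node 32163 (.leaf 0x0) (.leaf 0x704090000090006))) (.node 32165 (.leaf 0x0) (.node 32166 (.leaf 0xa0001) (.leaf 0x0))))) (.node 32172 (.node 32169 (.node 32168 (.leaf 0x7da60052b1) (.leaf 0xf0a0a0003)) (.node 32170 (.leaf 0x0) (.node 32171 (.leaf 0x0) (.leaf 0x10700030306040007)))) (.node 32175 (.node 32173 (.leaf 0x0) (.node 32174 (.leaf 0x60209000009000703040103000c) (.leaf 0x0))) (.node 32176 (.leaf 0xb0b0a0a0004) (.node 32177 (.leaf 0x0) (.leaf 0xb0f0002))))))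

def argWS_2849 : Store := (.node 32189 (.node 32183 (.node 32180 (.node 32179 (.leaf 0x7db1007ad3) (.leaf 0xf0b0a0003)) (.node 32181 (.leaf 0x0) (.node 32182 (.leaf 0x602000408010802040105000b) (.leaf 0x0)))) (.node 32186 (.node 32184 (.leaf 0xa0001) (.node 32185 (.leaf 0x90007020600000703040103000c) (.leaf 0x0))) (.node 32187 (.leaf 0x0) (.node 32188 (.leaf 0xb0b0002) (.leaf 0x7dbb007dba))))) (.node 32195 (.node 32192 (.node 32190 (.leaf 0x6050106020702010802040105000d) (.node 32191 (.leaf 0x0) (.leaf 0xb0f0a0003))) (.node 32193 (.leaf 0x0) (.node 32194 (.leaf 0x300000300000202000701000b) (.leaf 0x0)))) (.node 32198 (.node 32196 (.leaf 0xa0a0002) (.node 32197 (.leaf 0x3040807030401030008) (.leaf 0x0))) (.node 32199 (.leaf 0xb0001) (.node 32200 (.leaf 0x0) (.leaf 0xb0b0a0003))))))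

def argWS_2850 : Store := (.node 32178 argWS_2848 argWS_2849)

def argWS_2851 : Store := (.node 32156 argWS_2847 argWS_2850)

def argWS_2852 : Store := (.node 32212 (.node 32206 (.node 32203 (.node 32202 (.leaf 0x7dc8) (.leaf 0xe0a0002)) (.node 32204 (.leaf 0x50305070009030802040105000c) (.node 32205 (.leaf 0x0) (.leaf 0x503070209020202000701000b)))) (.node 32209 (.node 32207 (.leaf 0x0) (.node 32208 (.leaf 0xb0b0a0003) (.leaf 0x0))) (.node 32210 (.leaf 0xa0a0002) (.node 32211 (.leaf 0x7dd1) (.leaf 0x0))))) (.node 32217 (.node 32214 (.node 32213 (.leaf 0xe0a0a0003) (.leaf 0x0)) (.node 32215 (.leaf 0xb0a0a0003) (.node 32216 (.leaf 0x0) (.leaf 0x0)))) (.node 32220 (.node 32218 (.leaf 0x304020106060802040105000b) (.node 32219 (.leaf 0x0) (.leaf 0xb0a0f0003))) (.node 32221 (.leaf 0x0) (.node 32222 (.leaf 0x6e44007ddc) (.leaf 0x60409020602000703040103000c))))))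

def argWS_2853 : Store := (.node 32234 (.node 32228 (.node 32225 (.node 32224 (.leaf 0x0) (.leaf 0xb0b0a0a0004)) (.node 32226 (.leaf 0x0) (.node 32227 (.leaf 0xa0f0002) (.leaf 0x0)))) (.node 32231 (.node 32229 (.leaf 0x0) (.node 32230 (.leaf 0x606010308000703040103000b) (.leaf 0x0))) (.node 32232 (.leaf 0xf0001) (.node 32233 (.leaf 0x0) (.leaf 0x60601020603000703040103000c))))) (.node 32240 (.node 32237 (.node 32235 (.leaf 0x0) (.node 32236 (.leaf 0x0) (.leaf 0x7deb))) (.node 32238 (.leaf 0x209070308020401050009) (.node 32239 (.leaf 0x0) (.leaf 0xb0f0a0003)))) (.node 32243 (.node 32241 (.leaf 0x0) (.node 32242 (.leaf 0x0) (.leaf 0x207010904020802040105000b))) (.node 32244 (.leaf 0x0) (.node 32245 (.leaf 0xb0b0002) (.leaf 0x0))))))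

def argWS_2854 : Store := (.node 32223 argWS_2852 argWS_2853)

def argWS_2855 : Store := (.node 32257 (.node 32251 (.node 32248 (.node 32247 (.leaf 0x7010102000003010008) (.leaf 0x0)) (.node 32249 (.leaf 0xf0b0b0003) (.node 32250 (.leaf 0x0) (.leaf 0x20601070206000202000701000c)))) (.node 32254 (.node 32252 (.leaf 0x0) (.node 32253 (.leaf 0xe0a0a0003) (.leaf 0x0))) (.node 32255 (.leaf 0x7dfd007df9) (.node 32256 (.leaf 0xa0001) (.leaf 0x0))))) (.node 32262 (.node 32259 (.node 32258 (.leaf 0xa0f0b0b0004) (.leaf 0x0)) (.node 32260 (.leaf 0x0) (.node 32261 (.leaf 0x30503010102000007) (.leaf 0x0)))) (.node 32265 (.node 32263 (.leaf 0xa0a0002) (.node 32264 (.leaf 0x0) (.leaf 0x9010900090802040105000a))) (.node 32266 (.leaf 0x0) (.node 32267 (.leaf 0xa0a0002) (.leaf 0x0))))))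

def argWS_2856 : Store := (.node 32279 (.node 32273 (.node 32270 (.node 32269 (.leaf 0xb0f0002) (.leaf 0x7e0c)) (.node 32271 (.leaf 0xe0a0002) (.node 32272 (.leaf 0x0) (.leaf 0xf0001)))) (.node 32276 (.node 32274 (.leaf 0x0) (.node 32275 (.leaf 0x0) (.leaf 0xb0a0002))) (.node 32277 (.leaf 0xe0a0002) (.node 32278 (.leaf 0x1090106060005) (.leaf 0x0))))) (.node 32285 (.node 32282 (.node 32280 (.leaf 0xf0b0b0003) (.node 32281 (.leaf 0x0) (.leaf 0x2c8b))) (.node 32283 (.leaf 0x20000030306040802040105000d) (.node 32284 (.leaf 0x0) (.leaf 0xd0b0002)))) (.node 32288 (.node 32286 (.leaf 0x0) (.node 32287 (.leaf 0xa0001) (.leaf 0x0))) (.node 32289 (.leaf 0x0) (.node 32290 (.leaf 0xf0a0002) (.leaf 0x4020500030306040802040105000d))))))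

def argWS_2857 : Store := (.node 32268 argWS_2855 argWS_2856)

def argWS_2858 : Store := (.node 32246 argWS_2854 argWS_2857)

def argWS_2859 : Store := (.node 32201 argWS_2851 argWS_2858)

def argWS_2860 : Store := (.node 32302 (.node 32296 (.node 32293 (.node 32292 (.leaf 0x0) (.leaf 0xa0f0b0b0004)) (.node 32294 (.leaf 0x0) (.node 32295 (.leaf 0xa0f0b0b0004) (.leaf 0x7e26)))) (.node 32299 (.node 32297 (.leaf 0x103010908050006) (.node 32298 (.leaf 0x0) (.leaf 0xb0001))) (.node 32300 (.leaf 0x0) (.node 32301 (.leaf 0xb0f0a0a0004) (.leaf 0x0))))) (.node 32307 (.node 32304 (.node 32303 (.leaf 0x0) (.leaf 0x605010901090202000701000b)) (.node 32305 (.leaf 0x0) (.node 32306 (.leaf 0xf0b0002) (.leaf 0x0)))) (.node 32310 (.node 32308 (.leaf 0x4020007030401030008) (.node 32309 (.leaf 0x0) (.leaf 0xa0f0002))) (.node 32311 (.leaf 0x0) (.node 32312 (.leaf 0xb0a0a0003) (.leaf 0x7e3700675b))))))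

def argWS_2861 : Store := (.node 32324 (.node 32318 (.node 32315 (.node 32314 (.leaf 0xf0a0a0003) (.leaf 0x0)) (.node 32316 (.leaf 0x600060207020703040103000b) (.node 32317 (.leaf 0x0) (.leaf 0xb0a0a0003)))) (.node 32321 (.node 32319 (.leaf 0x109010902020007010009) (.node 32320 (.leaf 0x0) (.leaf 0xa0f0b0b0004))) (.node 32322 (.leaf 0x0) (.node 32323 (.leaf 0xf0001) (.leaf 0xf0001))))) (.node 32330 (.node 32327 (.node 32325 (.leaf 0x7e43) (.node 32326 (.leaf 0xd0001) (.leaf 0x0))) (.node 32328 (.leaf 0xb0a0f0003) (.node 32329 (.leaf 0x0) (.leaf 0x0)))) (.node 32333 (.node 32331 (.leaf 0xb0001) (.node 32332 (.leaf 0xb0f0a0003) (.leaf 0xf0b0a0a0004))) (.node 32334 (.leaf 0x7e4c007e4b) (.node 32335 (.leaf 0xf0a0a0003) (.leaf 0x0))))))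

def argWS_2862 : Store := (.node 32313 argWS_2860 argWS_2861)

def argWS_2863 : Store := (.node 32347 (.node 32341 (.node 32338 (.node 32337 (.leaf 0xb0001) (.leaf 0x0)) (.node 32339 (.leaf 0x0) (.node 32340 (.leaf 0xf0b0b0a0004) (.leaf 0x60007020902000703040103000d)))) (.node 32344 (.node 32342 (.leaf 0x0) (.node 32343 (.leaf 0xf0001) (.leaf 0x0))) (.node 32345 (.leaf 0x78e9007e57) (.node 32346 (.leaf 0xb0a0002) (.leaf 0x0))))) (.node 32352 (.node 32349 (.node 32348 (.leaf 0x3000901090005) (.leaf 0x0)) (.node 32350 (.leaf 0xb0a0a0003) (.node 32351 (.leaf 0xe0a0a0003) (.leaf 0xb0001)))) (.node 32355 (.node 32353 (.leaf 0x1040900090005) (.node 32354 (.leaf 0x0) (.leaf 0x0))) (.node 32356 (.leaf 0x1030900090202000701000a) (.node 32357 (.leaf 0x0) (.leaf 0xd0b0b0003))))))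

def argWS_2864 : Store := (.node 32369 (.node 32363 (.node 32360 (.node 32359 (.leaf 0x0) (.leaf 0x7e66007e62)) (.node 32361 (.leaf 0x30407020600000703040103000c) (.node 32362 (.leaf 0x0) (.leaf 0xb0a0f0003)))) (.node 32366 (.node 32364 (.leaf 0x0) (.node 32365 (.leaf 0x9020106020702010008) (.leaf 0x0))) (.node 32367 (.leaf 0xe0001) (.node 32368 (.leaf 0x2050202020900000802040105000d) (.leaf 0x0))))) (.node 32375 (.node 32372 (.node 32370 (.leaf 0xb0b0a0a0004) (.node 32371 (.leaf 0x0) (.leaf 0x2ed6007e72))) (.node 32373 (.leaf 0x2080007030401030008) (.node 32374 (.leaf 0x0) (.leaf 0xb0a0002)))) (.node 32378 (.node 32376 (.leaf 0x0) (.node 32377 (.leaf 0x10700030306040802040105000c) (.leaf 0x0))) (.node 32379 (.leaf 0xb0a0f0003) (.node 32380 (.leaf 0xa0f0b0b0004) (.leaf 0x303080004))))))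

def argWS_2865 : Store := (.node 32358 argWS_2863 argWS_2864)

def argWS_2866 : Store := (.node 32336 argWS_2862 argWS_2865)

def argWS_2867 : Store := (.node 32392 (.node 32386 (.node 32383 (.node 32382 (.leaf 0x0) (.leaf 0xb0f0002)) (.node 32384 (.leaf 0x0) (.node 32385 (.leaf 0xf0001) (.leaf 0x7e80007e7f)))) (.node 32389 (.node 32387 (.leaf 0x606010500020802040105000b) (.node 32388 (.leaf 0x0) (.leaf 0xa0f0b0003))) (.node 32390 (.leaf 0x0) (.node 32391 (.leaf 0xf0b0b0a0a0005) (.leaf 0x0))))) (.node 32397 (.node 32394 (.node 32393 (.leaf 0x0) (.leaf 0xf0b0b0a0a0005)) (.node 32395 (.leaf 0x700090806000006) (.node 32396 (.leaf 0x0) (.leaf 0xf0b0a0003)))) (.node 32400 (.node 32398 (.leaf 0x0) (.node 32399 (.leaf 0x7e8d00517a) (.leaf 0x4070308020401050008))) (.node 32401 (.leaf 0x0) (.node 32402 (.leaf 0xd0b0b0003) (.leaf 0x0))))))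

def argWS_2868 : Store := (.node 32414 (.node 32408 (.node 32405 (.node 32404 (.leaf 0x101090402000703040103000b) (.leaf 0x0)) (.node 32406 (.leaf 0xf0b0a0a0004) (.node 32407 (.leaf 0xb0f0a0003) (.leaf 0xd0b0002)))) (.node 32411 (.node 32409 (.leaf 0x30106010500020202000701000c) (.node 32410 (.leaf 0x0) (.leaf 0xf0b0b0003))) (.node 32412 (.leaf 0x0) (.node 32413 (.leaf 0x7e9b007e97) (.leaf 0xa0001))))) (.node 32420 (.node 32417 (.node 32415 (.leaf 0x0) (.node 32416 (.leaf 0xa0a0002) (.leaf 0x0))) (.node 32418 (.leaf 0x0) (.node 32419 (.leaf 0x601090806000006) (.leaf 0x0)))) (.node 32423 (.node 32421 (.leaf 0xe0001) (.node 32422 (.leaf 0x0) (.leaf 0x80500020106060802040105000c))) (.node 32424 (.leaf 0x0) (.node 32425 (.leaf 0xb0f0a0a0004) (.leaf 0x0))))))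

def argWS_2869 : Store := (.node 32403 argWS_2867 argWS_2868)

def argWS_2870 : Store := (.node 32437 (.node 32431 (.node 32428 (.node 32427 (.leaf 0x7ea9007ea5) (.leaf 0xa0f0b0b0004)) (.node 32429 (.leaf 0x0) (.node 32430 (.leaf 0x7000903000703040103000b) (.leaf 0x0)))) (.node 32434 (.node 32432 (.leaf 0xf0b0b0a0a0005) (.node 32433 (.leaf 0xf0a0a0003) (.leaf 0xb0001))) (.node 32435 (.leaf 0x5030003030604000703040103000d) (.node 32436 (.leaf 0x0) (.leaf 0xa0f0002))))) (.node 32443 (.node 32440 (.node 32438 (.leaf 0x0) (.node 32439 (.leaf 0x7eb5) (.leaf 0xb0001))) (.node 32441 (.leaf 0x0) (.node 32442 (.leaf 0xf0b0a0a0004) (.leaf 0x0)))) (.node 32446 (.node 32444 (.leaf 0x0) (.node 32445 (.leaf 0xb0b0a0a0004) (.leaf 0xb0b0002))) (.node 32447 (.leaf 0xf0a0a0003) (.node 32448 (.leaf 0x7ebe007ebd) (.leaf 0xa0a0002))))))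

def argWS_2871 : Store := (.node 32460 (.node 32454 (.node 32451 (.node 32450 (.leaf 0x0) (.leaf 0xf0b0b0003)) (.node 32452 (.leaf 0x0) (.node 32453 (.leaf 0x0) (.leaf 0x2050205020202010008)))) (.node 32457 (.node 32455 (.leaf 0x0) (.node 32456 (.leaf 0xa0f0b0b0004) (.leaf 0x0))) (.node 32458 (.leaf 0x202020900090006) (.node 32459 (.leaf 0x0) (.leaf 0xb0b0a0003))))) (.node 32466 (.node 32463 (.node 32461 (.leaf 0x0) (.node 32462 (.leaf 0x7ecc007ec8) (.leaf 0xf0001))) (.node 32464 (.leaf 0x0) (.node 32465 (.leaf 0x20000020106060202000701000c) (.leaf 0x0)))) (.node 32469 (.node 32467 (.leaf 0xa0a0002) (.node 32468 (.leaf 0x1040000000300000202000701000d) (.leaf 0x0))) (.node 32470 (.leaf 0xa0001) (.node 32471 (.leaf 0x0) (.leaf 0x601020206030006))))))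

def argWS_2872 : Store := (.node 32449 argWS_2870 argWS_2871)

def argWS_2873 : Store := (.node 32426 argWS_2869 argWS_2872)

def argWS_2874 : Store := (.node 32381 argWS_2866 argWS_2873)

def argWS_2875 : Store := (.node 32291 argWS_2859 argWS_2874)

def argWS_2876 : Store := (.node 32111 argWS_2844 argWS_2875)

def argWS_2877 : Store := (.node 32483 (.node 32477 (.node 32474 (.node 32473 (.leaf 0x0) (.leaf 0xa0f0002)) (.node 32475 (.leaf 0x0) (.node 32476 (.leaf 0x7eda007ed6) (.leaf 0xb0f0002)))) (.node 32480 (.node 32478 (.leaf 0x0) (.node 32479 (.leaf 0xd0001) (.leaf 0x0))) (.node 32481 (.leaf 0x0) (.node 32482 (.leaf 0x900090000090007) (.leaf 0x0))))) (.node 32488 (.node 32485 (.node 32484 (.leaf 0xb0b0a0003) (.leaf 0x0)) (.node 32486 (.leaf 0x47db007ee4) (.node 32487 (.leaf 0x6040000020804000802040105000d) (.leaf 0x0)))) (.node 32491 (.node 32489 (.leaf 0xb0a0f0003) (.node 32490 (.leaf 0x0) (.leaf 0x400040202090000000703040103000e))) (.node 32492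 (.leaf 0x0) (.node 32493 (.leaf 0xb0001) (.leaf 0xf0b0b0a0a0005))))))

def argWS_2878 : Store := (.node 32505 (.node 32499 (.node 32496 (.node 32495 (.leaf 0x80300070206000802040105000c) (.leaf 0x0)) (.node 32497 (.leaf 0xf0a0002) (.node 32498 (.leaf 0x0) (.leaf 0x7ef1)))) (.node 32502 (.node 32500 (.leaf 0x400050003) (.node 32501 (.leaf 0x0) (.leaf 0xb0b0a0003))) (.node 32503 (.leaf 0x0) (.node 32504 (.leaf 0xf0a0002) (.leaf 0x0))))) (.node 32511 (.node 32508 (.node 32506 (.leaf 0x0) (.node 32507 (.leaf 0xa0001) (.leaf 0xe0a0002))) (.node 32509 (.leaf 0xe0a0002) (.node 32510 (.leaf 0x8050007020902000703040103000d) (.leaf 0x0)))) (.node 32514 (.node 32512 (.leaf 0x0) (.node 32513 (.leaf 0x7eff007efc) (.leaf 0x60401060207020703040103000c))) (.node 32515 (.leaf 0x0) (.node 32516 (.leaf 0xf0b0002) (.leaf 0x0))))))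

def argWS_2879 : Store := (.node 32494 argWS_2877 argWS_2878)

def argWS_2880 : Store := (.node 32528 (.node 32522 (.node 32519 (.node 32518 (.leaf 0x107070209020202000701000b) (.leaf 0x0)) (.node 32520 (.leaf 0xb0a0f0003) (.node 32521 (.leaf 0x6040006030500040008) (.leaf 0x0)))) (.node 32525 (.node 32523 (.leaf 0xf0b0a0a0004) (.node 32524 (.leaf 0x0) (.leaf 0x901090000090202000701000b))) (.node 32526 (.leaf 0x0) (.node 32527 (.leaf 0xa0f0b0003) (.leaf 0x0))))) (.node 32533 (.node 32530 (.node 32529 (.leaf 0x6010500020802040105000c) (.leaf 0x0)) (.node 32531 (.leaf 0xb0f0002) (.node 32532 (.leaf 0x0) (.leaf 0x7f13007f0f)))) (.node 32536 (.node 32534 (.leaf 0x1040002000003010802040105000d) (.node 32535 (.leaf 0x0) (.leaf 0xa0001))) (.node 32537 (.leaf 0x0) (.node 32538 (.leaf 0x2000603050004000703040103000d) (.leaf 0x0))))))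

def argWS_2881 : Store := (.node 32550 (.node 32544 (.node 32541 (.node 32540 (.leaf 0xa0f0002) (.leaf 0xd0b0b0003)) (.node 32542 (.leaf 0xf0b0a0a0004) (.node 32543 (.leaf 0x0) (.leaf 0xb0001)))) (.node 32547 (.node 32545 (.leaf 0xb0f0a0003) (.node 32546 (.leaf 0x7f20) (.leaf 0xb0f0002))) (.node 32548 (.leaf 0x0) (.node 32549 (.leaf 0x4020007010005) (.leaf 0x0))))) (.node 32556 (.node 32553 (.node 32551 (.leaf 0xf0b0a0a0004) (.node 32552 (.leaf 0xb0f0a0a0004) (.leaf 0x90104020703000703040103000c))) (.node 32554 (.leaf 0x0) (.node 32555 (.leaf 0x0) (.leaf 0x2020108020401050008)))) (.node 32559 (.node 32557 (.leaf 0x0) (.node 32558 (.leaf 0xf0b0a0003) (.leaf 0x0))) (.node 32560 (.leaf 0x7f2e007f2a) (.node 32561 (.leaf 0xf0a0002) (.leaf 0x0))))))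

def argWS_2882 : Store := (.node 32539 argWS_2880 argWS_2881)

def argWS_2883 : Store := (.node 32517 argWS_2879 argWS_2882)

def argWS_2884 : Store := (.node 32573 (.node 32567 (.node 32564 (.node 32563 (.leaf 0xa0f0b0b0004) (.leaf 0x0)) (.node 32565 (.leaf 0x0) (.node 32566 (.leaf 0x1050202000003010802040105000d) (.leaf 0x0)))) (.node 32570 (.node 32568 (.leaf 0x90202080400000703040103000c) (.node 32569 (.leaf 0x0) (.leaf 0xa0a0002))) (.node 32571 (.leaf 0x0) (.node 32572 (.leaf 0xb0b0002) (.leaf 0xf0b0b0003))))) (.node 32578 (.node 32575 (.node 32574 (.leaf 0x7f3c007f3b) (.leaf 0xb0a0002)) (.node 32576 (.leaf 0x0) (.node 32577 (.leaf 0xb0f0002) (.leaf 0x0)))) (.node 32581 (.node 32579 (.leaf 0x0) (.node 32580 (.leaf 0x2020908050202000701000a) (.leaf 0x0))) (.node 32582 (.leaf 0xa0f0b0003) (.node 32583 (.leaf 0x0) (.leaf 0xf0a0a0003))))))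

def argWS_2885 : Store := (.node 32595 (.node 32589 (.node 32586 (.node 32585 (.leaf 0xb0a0a0003) (.leaf 0x7f48007f47)) (.node 32587 (.leaf 0x4000402090106000703040103000d) (.node 32588 (.leaf 0x0) (.leaf 0xb0b0a0003)))) (.node 32592 (.node 32590 (.leaf 0x0) (.node 32591 (.leaf 0x205020901090006) (.leaf 0x0))) (.node 32593 (.leaf 0xe0001) (.node 32594 (.leaf 0xb0a0a0003) (.leaf 0xb0a0f0003))))) (.node 32601 (.node 32598 (.node 32596 (.leaf 0xb0a0f0003) (.node 32597 (.leaf 0xa0f0b0b0004) (.leaf 0x60601050002000703040103000d))) (.node 32599 (.leaf 0x0) (.node 32600 (.leaf 0xb0b0a0a0004) (.leaf 0x0)))) (.node 32604 (.node 32602 (.leaf 0xf0b0002) (.node 32603 (.leaf 0x7f59007f58) (.leaf 0x8000006030500040202000701000d))) (.node 32605 (.leaf 0x0) (.node 32606 (.leaf 0xf0b0b0a0004) (.leaf 0x0))))))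

def argWS_2886 : Store := (.node 32584 argWS_2884 argWS_2885)

def argWS_2887 : Store := (.node 32618 (.node 32612 (.node 32609 (.node 32608 (.leaf 0x50206030500040802040105000c) (.leaf 0x0)) (.node 32610 (.leaf 0xe0d0002) (.node 32611 (.leaf 0x40208020401050007) (.leaf 0x0)))) (.node 32615 (.node 32613 (.leaf 0xb0a0002) (.node 32614 (.leaf 0x0) (.leaf 0x602090206020006))) (.node 32616 (.leaf 0x0) (.node 32617 (.leaf 0xb0a0002) (.leaf 0x0))))) (.node 32623 (.node 32620 (.node 32619 (.leaf 0x7f69) (.leaf 0x304010206030802040105000b)) (.node 32621 (.leaf 0x0) (.node 32622 (.leaf 0xf0a0002) (.leaf 0x0)))) (.node 32626 (.node 32624 (.leaf 0x40005020202010202000701000d) (.node 32625 (.leaf 0x0) (.leaf 0xf0b0002))) (.node 32627 (.leaf 0xe0d0002) (.node 32628 (.leaf 0x8000007030401030008) (.leaf 0x0))))))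

def argWS_2888 : Store := (.node 32640 (.node 32634 (.node 32631 (.node 32630 (.leaf 0xf0b0a0003) (.leaf 0x0)) (.node 32632 (.leaf 0x7f76004c1d) (.node 32633 (.leaf 0xb0b0a0a0004) (.leaf 0x0)))) (.node 32637 (.node 32635 (.leaf 0x202020900000802040105000c) (.node 32636 (.leaf 0x0) (.leaf 0xf0b0002))) (.node 32638 (.leaf 0x1070009020602000703040103000d) (.node 32639 (.leaf 0x0) (.leaf 0xe0d0002))))) (.node 32646 (.node 32643 (.node 32641 (.leaf 0x0) (.node 32642 (.leaf 0x7cf5007f80) (.leaf 0xd0b0b0003))) (.node 32644 (.leaf 0x0) (.node 32645 (.leaf 0xb0f0a0003) (.leaf 0x0)))) (.node 32649 (.node 32647 (.leaf 0x0) (.node 32648 (.leaf 0x8000000090206020008) (.leaf 0xe0d0002))) (.node 32650 (.leaf 0x6020207030802040105000a) (.node 32651 (.leaf 0x0) (.leaf 0xb0a0002))))))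

def argWS_2889 : Store := (.node 32629 argWS_2887 argWS_2888)

def argWS_2890 : Store := (.node 32607 argWS_2886 argWS_2889)

def argWS_2891 : Store := (.node 32562 argWS_2883 argWS_2890)

def argWS_2892 : Store := (.node 32663 (.node 32657 (.node 32654 (.node 32653 (.leaf 0x0) (.leaf 0x7f8c007f88)) (.node 32655 (.leaf 0xb0f0a0003) (.node 32656 (.leaf 0x0) (.leaf 0x20105020202010007)))) (.node 32660 (.node 32658 (.leaf 0x0) (.node 32659 (.leaf 0xd0b0002) (.leaf 0x102090000090006))) (.node 32661 (.leaf 0x0) (.node 32662 (.leaf 0xf0b0b0003) (.leaf 0x0))))) (.node 32668 (.node 32665 (.node 32664 (.leaf 0x60507020600000703040103000c) (.leaf 0x0)) (.node 32666 (.leaf 0xf0b0b0a0a0005) (.node 32667 (.leaf 0x0) (.leaf 0x7f9a)))) (.node 32671 (.node 32669 (.leaf 0xf0b0b0a0a0005) (.node 32670 (.leaf 0x0) (.leaf 0xd0b0b0003))) (.node 32672 (.leaf 0x0) (.node 32673 (.leaf 0x0) (.leaf 0x1070006030500040802040105000d))))))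

def argWS_2893 : Store := (.node 32685 (.node 32679 (.node 32676 (.node 32675 (.leaf 0x0) (.leaf 0xb0f0002)) (.node 32677 (.leaf 0x0) (.node 32678 (.leaf 0x40900090005) (.leaf 0x0)))) (.node 32682 (.node 32680 (.leaf 0xf0b0b0a0004) (.node 32681 (.leaf 0x0) (.leaf 0x7fa8007fa4))) (.node 32683 (.leaf 0x703050207030802040105000b) (.node 32684 (.leaf 0x0) (.leaf 0xb0a0002))))) (.node 32691 (.node 32688 (.node 32686 (.leaf 0x0) (.node 32687 (.leaf 0xd0b0b0003) (.leaf 0x0))) (.node 32689 (.leaf 0x0) (.node 32690 (.leaf 0x70102020900000202000701000c) (.leaf 0x0)))) (.node 32694 (.node 32692 (.leaf 0xb0a0f0003) (.node 32693 (.leaf 0x0) (.leaf 0x8030000030306040008))) (.node 32695 (.leaf 0x0) (.node 32696 (.leaf 0xf0a0a0003) (.leaf 0x0))))))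

def argWS_2894 : Store := (.node 32674 argWS_2892 argWS_2893)

def argWS_2895 : Store := (.node 32708 (.node 32702 (.node 32699 (.node 32698 (.leaf 0x304010908050802040105000b) (.leaf 0x0)) (.node 32700 (.leaf 0xd0001) (.node 32701 (.leaf 0x0) (.leaf 0x7fbc007fb8)))) (.node 32705 (.node 32703 (.leaf 0x70202020900000007) (.node 32704 (.leaf 0x0) (.leaf 0xb0001))) (.node 32706 (.leaf 0x0) (.node 32707 (.leaf 0xb0b0a0003) (.leaf 0x0))))) (.node 32713 (.node 32710 (.node 32709 (.leaf 0x0) (.leaf 0x6050102000003010802040105000d)) (.node 32711 (.leaf 0x0) (.node 32712 (.leaf 0xf0b0b0a0004) (.leaf 0x0)))) (.node 32716 (.node 32714 (.leaf 0x90400020804000802040105000c) (.node 32715 (.leaf 0x0) (.leaf 0xb0f0002))) (.node 32717 (.leaf 0x0) (.node 32718 (.leaf 0x7fcc007fc8) (.leaf 0xa0f0b0b0004))))))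

def argWS_2896 : Store := (.node 32730 (.node 32724 (.node 32721 (.node 32720 (.leaf 0x0) (.leaf 0xb0f0a0003)) (.node 32722 (.leaf 0x0) (.node 32723 (.leaf 0x70102090106000703040103000c) (.leaf 0x0)))) (.node 32727 (.node 32725 (.leaf 0x0) (.node 32726 (.leaf 0x2070306000703040103000b) (.leaf 0x0))) (.node 32728 (.leaf 0xa0f0002) (.node 32729 (.leaf 0x0) (.leaf 0xa0a0002))))) (.node 32736 (.node 32733 (.node 32731 (.leaf 0x7fd9007fd8) (.node 32732 (.leaf 0x204000508020401050009) (.leaf 0x0))) (.node 32734 (.leaf 0xb0b0a0003) (.node 32735 (.leaf 0x0) (.leaf 0x70000020804000802040105000c)))) (.node 32739 (.node 32737 (.leaf 0x0) (.node 32738 (.leaf 0xe0a0002) (.leaf 0xf0b0a0003))) (.node 32740 (.leaf 0x700030306040006) (.node 32741 (.leaf 0x0) (.leaf 0x0))))))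

def argWS_2897 : Store := (.node 32719 argWS_2895 argWS_2896)

def argWS_2898 : Store := (.node 32697 argWS_2894 argWS_2897)

def argWS_2899 : Store := (.node 32753 (.node 32747 (.node 32744 (.node 32743 (.leaf 0x7fe5) (.leaf 0x6020103080005)) (.node 32745 (.leaf 0x0) (.node 32746 (.leaf 0xd0b0002) (.leaf 0x0)))) (.node 32750 (.node 32748 (.leaf 0x0) (.node 32749 (.leaf 0xa0a0002) (.leaf 0x20700090206020802040105000c))) (.node 32751 (.leaf 0x0) (.node 32752 (.leaf 0xe0a0002) (.leaf 0x0))))) (.node 32758 (.node 32755 (.node 32754 (.leaf 0xb0f0a0003) (.leaf 0xb0a0002)) (.node 32756 (.leaf 0x7ff2007ff1) (.node 32757 (.leaf 0x4060308020401050008) (.leaf 0x0)))) (.node 32761 (.node 32759 (.leaf 0xb0001) (.node 32760 (.leaf 0x0) (.leaf 0x2090300000300000008))) (.node 32762 (.leaf 0x0) (.node 32763 (.leaf 0xb0a0f0003) (.leaf 0xb0b0a0003))))))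

def argWS_2900 : Store := (.node 32775 (.node 32769 (.node 32766 (.node 32765 (.leaf 0x6010201050206040008) (.leaf 0x0)) (.node 32767 (.leaf 0xb0a0f0003) (.node 32768 (.leaf 0x0) (.leaf 0xf0001)))) (.node 32772 (.node 32770 (.leaf 0x8000007fff) (.node 32771 (.leaf 0x900070209020202000701000b) (.leaf 0x0))) (.node 32773 (.leaf 0xf0b0a0003) (.node 32774 (.leaf 0x0) (.leaf 0x209010901090202000701000b))))) (.node 32781 (.node 32778 (.node 32776 (.leaf 0x0) (.node 32777 (.leaf 0xf0b0002) (.leaf 0xb0f0a0003))) (.node 32779 (.leaf 0xd0b0002) (.node 32780 (.leaf 0x800a) (.leaf 0x0)))) (.node 32784 (.node 32782 (.leaf 0xb0f0a0003) (.node 32783 (.leaf 0x0) (.leaf 0x0))) (.node 32785 (.leaf 0xf0001) (.node 32786 (.leaf 0x7ef500288a) (.leaf 0x1030103010102000202000701000d))))))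

def argWS_2901 : Store := (.node 32764 argWS_2899 argWS_2900)

def argWS_2902 : Store := (.node 32798 (.node 32792 (.node 32789 (.node 32788 (.leaf 0x0) (.leaf 0xb0f0002)) (.node 32790 (.leaf 0x0) (.node 32791 (.leaf 0xb0b0a0003) (.leaf 0x0)))) (.node 32795 (.node 32793 (.leaf 0x0) (.node 32794 (.leaf 0xf0b0b0a0004) (.leaf 0xe0a0a0003))) (.node 32796 (.leaf 0xd0b0b0003) (.node 32797 (.leaf 0x801b00801a) (.leaf 0xf0b0b0a0a0005))))) (.node 32804 (.node 32801 (.node 32799 (.leaf 0x0) (.node 32800 (.leaf 0x503010703060007) (.leaf 0x0))) (.node 32802 (.leaf 0xe0a0a0003) (.node 32803 (.leaf 0xf0b0b0a0004) (.leaf 0xb0f0002)))) (.node 32807 (.node 32805 (.leaf 0xd0001) (.node 32806 (.leaf 0x401020901060802040105000b) (.leaf 0x0))) (.node 32808 (.leaf 0x0) (.node 32809 (.leaf 0x8027008024) (.leaf 0xf0b0b0003))))))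

def argWS_2903 : Store := (.node 32821 (.node 32815 (.node 32812 (.node 32811 (.leaf 0x0) (.leaf 0x7000006030500040202000701000d)) (.node 32813 (.leaf 0x0) (.node 32814 (.leaf 0xa0001) (.leaf 0xe0d0002)))) (.node 32818 (.node 32816 (.leaf 0x0) (.node 32817 (.leaf 0x403070209020202000701000b) (.leaf 0x0))) (.node 32819 (.leaf 0xd0b0b0003) (.node 32820 (.leaf 0x0) (.leaf 0xe0d0002))))) (.node 32827 (.node 32824 (.node 32822 (.leaf 0xb0b0a0a0004) (.node 32823 (.leaf 0x8035008034) (.leaf 0x404010908050202000701000b))) (.node 32825 (.leaf 0x0) (.node 32826 (.leaf 0xa0a0002) (.leaf 0x0)))) (.node 32830 (.node 32828 (.leaf 0x1050205020202010802040105000d) (.node 32829 (.leaf 0x0) (.leaf 0xb0b0a0003))) (.node 32831 (.leaf 0xf0b0a0a0004) (.node 32832 (.leaf 0x500020804000202000701000b) (.leaf 0x0))))))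

def argWS_2904 : Store := (.node 32810 argWS_2902 argWS_2903)

def argWS_2905 : Store := (.node 32787 argWS_2901 argWS_2904)

def argWS_2906 : Store := (.node 32742 argWS_2898 argWS_2905)

def argWS_2907 : Store := (.node 32652 argWS_2891 argWS_2906)

def argWS_2908 : Store := (.node 32844 (.node 32838 (.node 32835 (.node 32834 (.leaf 0xd0b0b0003) (.leaf 0x0)) (.node 32836 (.leaf 0x9020102000003010008) (.node 32837 (.leaf 0x0) (.leaf 0xe0001)))) (.node 32841 (.node 32839 (.leaf 0x0) (.node 32840 (.leaf 0x8046008042) (.leaf 0x9070006010500020008))) (.node 32842 (.leaf 0x0) (.node 32843 (.leaf 0xb0b0a0003) (.leaf 0x0))))) (.node 32849 (.node 32846 (.node 32845 (.leaf 0xe0a0002) (.leaf 0x0)) (.node 32847 (.leaf 0x201020900000802040105000b) (.node 32848 (.leaf 0x0) (.leaf 0xb0f0a0003)))) (.node 32852 (.node 32850 (.leaf 0x0) (.node 32851 (.leaf 0x200090806000202000701000b) (.leaf 0x0))) (.node 32853 (.leaf 0xd0b0002) (.node 32854 (.leaf 0x0) (.leaf 0x904000408010202000701000b))))))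

def argWS_2909 : Store := (.node 32866 (.node 32860 (.node 32857 (.node 32856 (.leaf 0x0) (.leaf 0xb0a0f0003)) (.node 32858 (.leaf 0x0) (.node 32859 (.leaf 0x8059008055) (.leaf 0xa0f0b0b0004)))) (.node 32863 (.node 32861 (.leaf 0x0) (.node 32862 (.leaf 0x0) (.leaf 0xb0f0a0a0004))) (.node 32864 (.leaf 0x4000300090206020008) (.node 32865 (.leaf 0x0) (.leaf 0x0))))) (.node 32872 (.node 32869 (.node 32867 (.leaf 0xe0a0a0003) (.node 32868 (.leaf 0x700020106060802040105000b) (.leaf 0x0))) (.node 32870 (.leaf 0xd0b0b0003) (.node 32871 (.leaf 0x0) (.leaf 0x8066008062)))) (.node 32875 (.node 32873 (.leaf 0xb0f0002) (.node 32874 (.leaf 0x0) (.leaf 0xd0b0002))) (.node 32876 (.leaf 0x0) (.node 32877 (.leaf 0x0) (.leaf 0x207030401030006))))))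

def argWS_2910 : Store := (.node 32855 argWS_2908 argWS_2909)

def argWS_2911 : Store := (.node 32889 (.node 32883 (.node 32880 (.node 32879 (.leaf 0x0) (.leaf 0xb0f0a0a0004)) (.node 32881 (.leaf 0x0) (.node 32882 (.leaf 0xf0b0a0a0004) (.leaf 0x103010102000202000701000b)))) (.node 32886 (.node 32884 (.leaf 0x0) (.node 32885 (.leaf 0xe0a0a0003) (.leaf 0x0))) (.node 32887 (.leaf 0x8075008071) (.node 32888 (.leaf 0xe0001) (.leaf 0x0))))) (.node 32894 (.node 32891 (.node 32890 (.leaf 0x4020500020804000202000701000d) (.leaf 0x0)) (.node 32892 (.leaf 0xe0a0002) (.node 32893 (.leaf 0xb0a0a0003) (.leaf 0xf0b0a0a0004)))) (.node 32897 (.node 32895 (.leaf 0x807d) (.node 32896 (.leaf 0x4000508020401050008) (.leaf 0x0))) (.node 32898 (.leaf 0xb0f0a0003) (.node 32899 (.leaf 0x0) (.leaf 0x40304070209020202000701000c))))))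

def argWS_2912 : Store := (.node 32911 (.node 32905 (.node 32902 (.node 32901 (.leaf 0x0) (.leaf 0xf0a0a0003)) (.node 32903 (.leaf 0x3070400050202000701000a) (.node 32904 (.leaf 0x0) (.leaf 0x0)))) (.node 32908 (.node 32906 (.leaf 0xa0a0002) (.node 32907 (.leaf 0x90700020106060202000701000c) (.leaf 0x0))) (.node 32909 (.leaf 0x0) (.node 32910 (.leaf 0x808c008089) (.leaf 0x30307000903000703040103000c))))) (.node 32917 (.node 32914 (.node 32912 (.leaf 0x0) (.node 32913 (.leaf 0xe0d0002) (.leaf 0x0))) (.node 32915 (.leaf 0xb0a0f0003) (.node 32916 (.leaf 0x0) (.leaf 0x0)))) (.node 32920 (.node 32918 (.leaf 0x10300060207020703040103000c) (.node 32919 (.leaf 0x0) (.leaf 0xf0b0b0a0004))) (.node 32921 (.leaf 0x0) (.node 32922 (.leaf 0xb0b0a0003) (.leaf 0xa0f0b0b0004))))))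

def argWS_2913 : Store := (.node 32900 argWS_2911 argWS_2912)

def argWS_2914 : Store := (.node 32878 argWS_2910 argWS_2913)

def argWS_2915 : Store := (.node 32934 (.node 32928 (.node 32925 (.node 32924 (.leaf 0x809a008099) (.leaf 0xf0001)) (.node 32926 (.leaf 0x0) (.node 32927 (.leaf 0xe0a0002) (.leaf 0x0)))) (.node 32931 (.node 32929 (.leaf 0x0) (.node 32930 (.leaf 0xa0f0b0003) (.leaf 0x3040300090206020802040105000d))) (.node 32932 (.leaf 0x0) (.node 32933 (.leaf 0xb0001) (.leaf 0x0))))) (.node 32939 (.node 32936 (.node 32935 (.leaf 0x501070206000006) (.leaf 0x0)) (.node 32937 (.leaf 0x0) (.node 32938 (.leaf 0x80a80080a5) (.leaf 0x305070009020007010009)))) (.node 32942 (.node 32940 (.leaf 0x0) (.node 32941 (.leaf 0xb0a0a0003) (.leaf 0x0))) (.node 32943 (.leaf 0xe0a0002) (.node 32944 (.leaf 0x0) (.leaf 0x0))))))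

def argWS_2916 : Store := (.node 32956 (.node 32950 (.node 32947 (.node 32946 (.leaf 0xa0f0002) (.leaf 0x2020108020401050008)) (.node 32948 (.leaf 0x0) (.node 32949 (.leaf 0x0) (.leaf 0x80b4)))) (.node 32953 (.node 32951 (.leaf 0x202000603050004000703040103000e) (.node 32952 (.leaf 0x0) (.leaf 0xf0b0b0a0a0005))) (.node 32954 (.leaf 0x0) (.node 32955 (.leaf 0xe0d0002) (.leaf 0x0))))) (.node 32962 (.node 32959 (.node 32957 (.leaf 0x0) (.node 32958 (.leaf 0xf0b0b0003) (.leaf 0xa0001))) (.node 32960 (.leaf 0x8030000020804000802040105000d) (.node 32961 (.leaf 0x0) (.leaf 0x0)))) (.node 32965 (.node 32963 (.leaf 0x80c1) (.node 32964 (.leaf 0xd0b0b0003) (.leaf 0x0))) (.node 32966 (.leaf 0x6020702010006) (.node 32967 (.leaf 0x0) (.leaf 0x1040908050005))))))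

def argWS_2917 : Store := (.node 32945 argWS_2915 argWS_2916)

def argWS_2918 : Store := (.node 32979 (.node 32973 (.node 32970 (.node 32969 (.leaf 0x0) (.leaf 0xb0a0f0003)) (.node 32971 (.leaf 0x0) (.node 32972 (.leaf 0x6040103010102000802040105000d) (.leaf 0x0)))) (.node 32976 (.node 32974 (.leaf 0xf0a0a0003) (.node 32975 (.leaf 0x0) (.leaf 0x80ce))) (.node 32977 (.leaf 0xf0b0002) (.node 32978 (.leaf 0x0) (.leaf 0xd0001))))) (.node 32984 (.node 32981 (.node 32980 (.leaf 0x0) (.leaf 0x0)) (.node 32982 (.leaf 0x4000900090802040105000a) (.node 32983 (.leaf 0x0) (.leaf 0xa0f0b0003)))) (.node 32987 (.node 32985 (.leaf 0x0) (.node 32986 (.leaf 0xf0a0a0003) (.leaf 0x80d90080d8))) (.node 32988 (.leaf 0x703050000030000000703040103000e) (.node 32989 (.leaf 0x0) (.leaf 0xa0f0002))))))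

def argWS_2919 : Store := (.node 33001 (.node 32995 (.node 32992 (.node 32991 (.leaf 0x0) (.leaf 0xe0001)) (.node 32993 (.leaf 0x0) (.node 32994 (.leaf 0x0) (.leaf 0x30603050004000703040103000c)))) (.node 32998 (.node 32996 (.leaf 0x0) (.node 32997 (.leaf 0xe0001) (.leaf 0x0))) (.node 32999 (.leaf 0x80e5) (.node 33000 (.leaf 0xa0f0002) (.leaf 0x0))))) (.node 33007 (.node 33004 (.node 33002 (.leaf 0x40205020106060007) (.node 33003 (.leaf 0x0) (.leaf 0xd0b0002))) (.node 33005 (.leaf 0xf0b0b0a0a0005) (.node 33006 (.leaf 0xe0a0a0003) (.leaf 0x80ed)))) (.node 33010 (.node 33008 (.leaf 0xd0b0002) (.node 33009 (.leaf 0x0) (.leaf 0x704070209020202000701000b))) (.node 33011 (.leaf 0x0) (.node 33012 (.leaf 0xd0001) (.leaf 0xa0001))))))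

def argWS_2920 : Store := (.node 32990 argWS_2918 argWS_2919)

def argWS_2921 : Store := (.node 32968 argWS_2917 argWS_2920)

def argWS_2922 : Store := (.node 32923 argWS_2914 argWS_2921)

def argWS_2923 : Store := (.node 33024 (.node 33018 (.node 33015 (.node 33014 (.leaf 0x800000004080703040103000b) (.leaf 0x0)) (.node 33016 (.leaf 0xd0b0002) (.node 33017 (.leaf 0x0) (.leaf 0xf0b0002)))) (.node 33021 (.node 33019 (.leaf 0x80f90080f8) (.node 33020 (.leaf 0x900070206000202000701000b) (.leaf 0x0))) (.node 33022 (.leaf 0xf0a0002) (.node 33023 (.leaf 0x0) (.leaf 0xb0b0a0003))))) (.node 33029 (.node 33026 (.node 33025 (.leaf 0x0) (.leaf 0x0)) (.node 33027 (.leaf 0x10202060207020703040103000c) (.node 33028 (.leaf 0x0) (.leaf 0xd0b0b0003)))) (.node 33032 (.node 33030 (.leaf 0x0) (.node 33031 (.leaf 0xf0b0002) (.leaf 0x506020702010802040105000b))) (.node 33033 (.leaf 0x0) (.node 33034 (.leaf 0xf0b0a0003) (.leaf 0x0))))))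

def argWS_2924 : Store := (.node 33046 (.node 33040 (.node 33037 (.node 33036 (.leaf 0x810a008106) (.leaf 0x1020206030500040802040105000d)) (.node 33038 (.leaf 0x0) (.node 33039 (.leaf 0xf0001) (.leaf 0x0)))) (.node 33043 (.node 33041 (.leaf 0xd0b0b0003) (.node 33042 (.leaf 0x0) (.leaf 0x0))) (.node 33044 (.leaf 0x3010904020006) (.node 33045 (.leaf 0x0) (.leaf 0xb0b0a0a0004))))) (.node 33052 (.node 33049 (.node 33047 (.leaf 0x0) (.node 33048 (.leaf 0xb0b0002) (.leaf 0x81170050f4))) (.node 33050 (.leaf 0x5010606000703040103000b) (.node 33051 (.leaf 0x0) (.leaf 0xd0001)))) (.node 33055 (.node 33053 (.leaf 0x0) (.node 33054 (.leaf 0x300030306040007) (.leaf 0x0))) (.node 33056 (.leaf 0xb0b0002) (.node 33057 (.leaf 0xd0b0b0003) (.leaf 0x7040004080703040103000a))))))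

def argWS_2925 : Store := (.node 33035 argWS_2923 argWS_2924)

def argWS_2926 : Store := (.node 33069 (.node 33063 (.node 33060 (.node 33059 (.leaf 0x0) (.leaf 0xe0d0002)) (.node 33061 (.leaf 0x0) (.node 33062 (.leaf 0x8124) (.leaf 0x907090109000703040103000b)))) (.node 33066 (.node 33064 (.leaf 0x0) (.node 33065 (.leaf 0xb0a0f0003) (.leaf 0x0))) (.node 33067 (.leaf 0x90703060004) (.node 33068 (.leaf 0x0) (.leaf 0xb0f0a0a0004))))) (.node 33074 (.node 33071 (.node 33070 (.leaf 0x6000601050002000703040103000e) (.leaf 0x0)) (.node 33072 (.leaf 0xe0d0002) (.node 33073 (.leaf 0x0) (.leaf 0x5070209020802040105000a)))) (.node 33077 (.node 33075 (.leaf 0x0) (.node 33076 (.leaf 0xf0b0b0003) (.leaf 0x0))) (.node 33078 (.leaf 0x103070209020202000701000b) (.node 33079 (.leaf 0x0) (.leaf 0xf0b0002))))))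

def argWS_2927 : Store := (.node 33091 (.node 33085 (.node 33082 (.node 33081 (.leaf 0x0) (.leaf 0x8138008134)) (.node 33083 (.leaf 0xf0a0a0003) (.node 33084 (.leaf 0x0) (.leaf 0xe0d0002)))) (.node 33088 (.node 33086 (.leaf 0x0) (.node 33087 (.leaf 0x0) (.leaf 0x503070206000202000701000c))) (.node 33089 (.leaf 0x0) (.node 33090 (.leaf 0x0) (.leaf 0xa0f0b0003))))) (.node 33097 (.node 33094 (.node 33092 (.leaf 0x7f27008142) (.node 33093 (.leaf 0xf0b0b0a0004) (.leaf 0x0))) (.node 33095 (.leaf 0x700090308020401050009) (.node 33096 (.leaf 0x0) (.leaf 0xa0f0b0003)))) (.node 33100 (.node 33098 (.leaf 0x6000009020602000703040103000e) (.node 33099 (.leaf 0x0) (.leaf 0xa0f0b0003))) (.node 33101 (.leaf 0x0) (.node 33102 (.leaf 0xb0f0a0003) (.leaf 0xa0f0b0003))))))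

def argWS_2928 : Store := (.node 33080 argWS_2926 argWS_2927)

def argWS_2929 : Store := (.node 33058 argWS_2925 argWS_2928)

def argWS_2930 : Store := (.node 33114 (.node 33108 (.node 33105 (.node 33104 (.leaf 0x814e00814d) (.leaf 0x600000408010006)) (.node 33106 (.leaf 0x0) (.node 33107 (.leaf 0xb0b0002) (.leaf 0x0)))) (.node 33111 (.node 33109 (.leaf 0xe0a0a0003) (.node 33110 (.leaf 0x0) (.leaf 0x0))) (.node 33112 (.leaf 0xf0b0002) (.node 33113 (.leaf 0x2070202090000000703040103000d) (.leaf 0x0))))) (.node 33119 (.node 33116 (.node 33115 (.leaf 0xf0b0b0a0a0005) (.leaf 0x0)) (.node 33117 (.leaf 0x20901010908050802040105000c) (.node 33118 (.leaf 0x0) (.leaf 0x0)))) (.node 33122 (.node 33120 (.leaf 0x815e00815b) (.node 33121 (.leaf 0x707030401030006) (.leaf 0x0))) (.node 33123 (.leaf 0xf0b0a0a0004) (.node 33124 (.leaf 0x0) (.leaf 0xd0b0002))))))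

def argWS_2931 : Store := (.node 33136 (.node 33130 (.node 33127 (.node 33126 (.leaf 0x0) (.leaf 0x0)) (.node 33128 (.leaf 0xb0b0002) (.node 33129 (.leaf 0x0) (.leaf 0x8168)))) (.node 33133 (.node 33131 (.leaf 0xb0f0a0a0004) (.node 33132 (.leaf 0x0) (.leaf 0xf0b0a0a0004))) (.node 33134 (.leaf 0x0) (.node 33135 (.leaf 0xe0a0a0003) (.leaf 0xb0b0a0003))))) (.node 33142 (.node 33139 (.node 33137 (.leaf 0x816f) (.node 33138 (.leaf 0xa0a0002) (.leaf 0x0))) (.node 33140 (.leaf 0x0) (.node 33141 (.leaf 0xe0001) (.leaf 0xf0b0b0a0004)))) (.node 33145 (.node 33143 (.leaf 0x9020703000703040103000a) (.node 33144 (.leaf 0x0) (.leaf 0xf0a0a0003))) (.node 33146 (.leaf 0x0) (.node 33147 (.leaf 0x8179008175) (.leaf 0x7070009020007010009))))))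

def argWS_2932 : Store := (.node 33125 argWS_2930 argWS_2931)

def argWS_2933 : Store := (.node 33159 (.node 33153 (.node 33150 (.node 33149 (.leaf 0x0) (.leaf 0xb0b0002)) (.node 33151 (.leaf 0x0) (.node 33152 (.leaf 0x900020106060802040105000c) (.leaf 0x0)))) (.node 33156 (.node 33154 (.leaf 0xa0f0002) (.node 33155 (.leaf 0xb0b0002) (.leaf 0xb0001))) (.node 33157 (.leaf 0x8183) (.node 33158 (.leaf 0xb0b0002) (.leaf 0x0))))) (.node 33165 (.node 33162 (.node 33160 (.leaf 0xe0001) (.node 33161 (.leaf 0x0) (.leaf 0x0))) (.node 33163 (.leaf 0xf0b0002) (.node 33164 (.leaf 0xd0001) (.leaf 0x60301010703060007)))) (.node 33168 (.node 33166 (.leaf 0x0) (.node 33167 (.leaf 0xb0f0002) (.leaf 0x0))) (.node 33169 (.leaf 0x818f00818b) (.node 33170 (.leaf 0xa0a0002) (.leaf 0x0))))))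

def argWS_2934 : Store := (.node 33182 (.node 33176 (.node 33173 (.node 33172 (.leaf 0x7010106010500020202000701000d) (.leaf 0x0)) (.node 33174 (.leaf 0xd0b0002) (.node 33175 (.leaf 0xb0a0002) (.leaf 0xb0001)))) (.node 33179 (.node 33177 (.leaf 0x906010703060202000701000b) (.node 33178 (.leaf 0x0) (.leaf 0x0))) (.node 33180 (.leaf 0x819a008197) (.node 33181 (.leaf 0xb0f0a0a0004) (.leaf 0x0))))) (.node 33188 (.node 33185 (.node 33183 (.leaf 0x102020400050802040105000b) (.node 33184 (.leaf 0x0) (.leaf 0xb0a0f0003))) (.node 33186 (.leaf 0xb0f0002) (.node 33187 (.leaf 0xd0001) (.leaf 0x81a2)))) (.node 33191 (.node 33189 (.leaf 0x8090805000703040103000b) (.node 33190 (.leaf 0x0) (.leaf 0xe0a0002))) (.node 33192 (.leaf 0x0) (.node 33193 (.leaf 0xf0001) (.leaf 0x0))))))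

def argWS_2935 : Store := (.node 33171 argWS_2933 argWS_2934)

def argWS_2936 : Store := (.node 33148 argWS_2932 argWS_2935)

def argWS_2937 : Store := (.node 33103 argWS_2929 argWS_2936)

def argWS_2938 : Store := (.node 33013 argWS_2922 argWS_2937)

def argWS_2939 : Store := (.node 32833 argWS_2907 argWS_2938)

def argWS_2940 : Store := (.node 32472 argWS_2876 argWS_2939)

def argWS_2941 : Store := (.node 33205 (.node 33199 (.node 33196 (.node 33195 (.leaf 0x0) (.leaf 0xe0a0a0003)) (.node 33197 (.leaf 0xf0b0a0003) (.node 33198 (.leaf 0x81ac) (.leaf 0x90300030306040802040105000c)))) (.node 33202 (.node 33200 (.leaf 0x0) (.node 33201 (.leaf 0xf0b0b0a0004) (.leaf 0x0))) (.node 33203 (.leaf 0xb0f0002) (.node 33204 (.leaf 0x0) (.leaf 0x0))))) (.node 33210 (.node 33207 (.node 33206 (.leaf 0x103050206040802040105000b) (.leaf 0x0)) (.node 33208 (.leaf 0xf0001) (.node 33209 (.leaf 0x0) (.leaf 0x60601010904020802040105000c)))) (.node 33213 (.node 33211 (.leaf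 0x0) (.node 33212 (.leaf 0xf0a0a0003) (.leaf 0x0))) (.node 33214 (.leaf 0xa0f0002) (.node 33215 (.leaf 0x81bd0081bc) (.leaf 0x6010306040202000701000a))))))

def argWS_2942 : Store := (.node 33227 (.node 33221 (.node 33218 (.node 33217 (.leaf 0x0) (.leaf 0xb0b0a0a0004)) (.node 33219 (.leaf 0x0) (.node 33220 (.leaf 0x903030604000703040103000b) (.leaf 0x0)))) (.node 33224 (.node 33222 (.leaf 0xf0001) (.node 33223 (.leaf 0xf0b0b0003) (.leaf 0xa0f0002))) (.node 33225 (.leaf 0x400060207020703040103000b) (.node 33226 (.leaf 0x0) (.leaf 0xd0b0b0003))))) (.node 33233 (.node 33230 (.node 33228 (.leaf 0x0) (.node 33229 (.leaf 0x81cb0081c7) (.leaf 0x2020703000703040103000a))) (.node 33231 (.leaf 0x0) (.node 33232 (.leaf 0xf0b0b0003) (.leaf 0x0)))) (.node 33236 (.node 33234 (.leaf 0x60501070206000202000701000c) (.node 33235 (.leaf 0x0) (.leaf 0xe0a0a0003))) (.node 33237 (.leaf 0x60901090005) (.node 33238 (.leaf 0x0) (.leaf 0xb0001))))))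

def argWS_2943 : Store := (.node 33216 argWS_2941 argWS_2942)

def argWS_2944 : Store := (.node 33250 (.node 33244 (.node 33241 (.node 33240 (.leaf 0x0) (.leaf 0xe0d0002)) (.node 33242 (.leaf 0x81d8) (.node 33243 (.leaf 0x600020804000802040105000c) (.leaf 0x0)))) (.node 33247 (.node 33245 (.leaf 0xe0d0002) (.node 33246 (.leaf 0x0) (.leaf 0xb0a0f0003))) (.node 33248 (.leaf 0x0) (.node 33249 (.leaf 0x0) (.leaf 0x4020703000703040103000a))))) (.node 33255 (.node 33252 (.node 33251 (.leaf 0x0) (.leaf 0xf0b0b0003)) (.node 33253 (.leaf 0x0) (.node 33254 (.leaf 0x902000003010202000701000b) (.leaf 0x0)))) (.node 33258 (.node 33256 (.leaf 0xf0b0b0003) (.node 33257 (.leaf 0x0) (.leaf 0xe0001))) (.node 33259 (.leaf 0x81e90081e8) (.node 33260 (.leaf 0xd0b0b0003) (.leaf 0x0))))))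

def argWS_2945 : Store := (.node 33272 (.node 33266 (.node 33263 (.node 33262 (.leaf 0xb0a0002) (.leaf 0x0)) (.node 33264 (.leaf 0x0) (.node 33265 (.leaf 0x2040102000003010202000701000d) (.leaf 0x0)))) (.node 33269 (.node 33267 (.leaf 0x0) (.node 33268 (.leaf 0x0) (.leaf 0x60000090206020008))) (.node 33270 (.leaf 0x0) (.node 33271 (.leaf 0xf0b0b0a0004) (.leaf 0x0))))) (.node 33278 (.node 33275 (.node 33273 (.leaf 0x81f70081f3) (.node 33274 (.leaf 0xf0b0a0a0004) (.leaf 0x0))) (.node 33276 (.leaf 0x60401040005000703040103000c) (.node 33277 (.leaf 0x0) (.leaf 0xb0f0a0a0004)))) (.node 33281 (.node 33279 (.leaf 0x307020000030703040103000b) (.node 33280 (.leaf 0x0) (.leaf 0xb0a0f0003))) (.node 33282 (.leaf 0x0) (.node 33283 (.leaf 0x5020009000009000703040103000d) (.leaf 0x0))))))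

def argWS_2946 : Store := (.node 33261 argWS_2944 argWS_2945)

def argWS_2947 : Store := (.node 33239 argWS_2943 argWS_2946)

def argWS_2948 : Store := (.node 33295 (.node 33289 (.node 33286 (.node 33285 (.leaf 0xf0b0002) (.leaf 0x0)) (.node 33287 (.leaf 0x403000207030802040105000b) (.node 33288 (.leaf 0x0) (.leaf 0xe0001)))) (.node 33292 (.node 33290 (.leaf 0x0) (.node 33291 (.leaf 0x8209008205) (.leaf 0x503010904020006))) (.node 33293 (.leaf 0x0) (.node 33294 (.leaf 0xb0b0002) (.leaf 0x0))))) (.node 33300 (.node 33297 (.node 33296 (.leaf 0xf0b0002) (.leaf 0x0)) (.node 33298 (.leaf 0x0) (.node 33299 (.leaf 0x9000002080400000703040103000e) (.leaf 0x0)))) (.node 33303 (.node 33301 (.leaf 0xd0001) (.node 33302 (.leaf 0x0) (.leaf 0x7000703060802040105000a))) (.node 33304 (.leaf 0x0) (.node 33305 (.leaf 0xf0b0b0a0a0005) (.leaf 0x0))))))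

def argWS_2949 : Store := (.node 33317 (.node 33311 (.node 33308 (.node 33307 (.leaf 0x50601050002000703040103000c) (.leaf 0x0)) (.node 33309 (.leaf 0xb0a0002) (.node 33310 (.leaf 0x0) (.leaf 0x402050206030006)))) (.node 33314 (.node 33312 (.leaf 0x0) (.node 33313 (.leaf 0xe0001) (.leaf 0x0))) (.node 33315 (.leaf 0x822100821d) (.node 33316 (.leaf 0x30403010904020802040105000c) (.leaf 0x0))))) (.node 33323 (.node 33320 (.node 33318 (.leaf 0xf0b0a0003) (.node 33319 (.leaf 0x0) (.leaf 0x602050206040202000701000b))) (.node 33321 (.leaf 0x0) (.node 33322 (.leaf 0xa0f0b0b0004) (.leaf 0xe0d0002)))) (.node 33326 (.node 33324 (.leaf 0x204010207020007010009) (.node 33325 (.leaf 0x0) (.leaf 0xb0f0a0a0004))) (.node 33327 (.leaf 0x0) (.node 33328 (.leaf 0x30501090402000703040103000c) (.leaf 0x0))))))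

def argWS_2950 : Store := (.node 33306 argWS_2948 argWS_2949)

def argWS_2951 : Store := (.node 33340 (.node 33334 (.node 33331 (.node 33330 (.leaf 0x0) (.leaf 0x823100822e)) (.node 33332 (.leaf 0xb0a0002) (.node 33333 (.leaf 0x0) (.leaf 0x9020102010606000703040103000d)))) (.node 33337 (.node 33335 (.leaf 0x0) (.node 33336 (.leaf 0xd0001) (.leaf 0x40306020702010007))) (.node 33338 (.leaf 0x0) (.node 33339 (.leaf 0xf0a0002) (.leaf 0x0))))) (.node 33345 (.node 33342 (.node 33341 (.leaf 0xd0b0002) (.leaf 0x7040900090802040105000a)) (.node 33343 (.leaf 0x0) (.node 33344 (.leaf 0xa0f0b0003) (.leaf 0x0)))) (.node 33348 (.node 33346 (.leaf 0x824000823c) (.node 33347 (.leaf 0xe0a0a0003) (.leaf 0x0))) (.node 33349 (.leaf 0xb0b0a0003) (.node 33350 (.leaf 0x0) (.leaf 0x0))))))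

def argWS_2952 : Store := (.node 33362 (.node 33356 (.node 33353 (.node 33352 (.leaf 0xb0001) (.leaf 0xb0f0a0003)) (.node 33354 (.leaf 0x8248008247) (.node 33355 (.leaf 0xa0a0002) (.leaf 0x0)))) (.node 33359 (.node 33357 (.leaf 0xf0a0002) (.node 33358 (.leaf 0x0) (.leaf 0x0))) (.node 33360 (.leaf 0x60107020600000703040103000c) (.node 33361 (.leaf 0x0) (.leaf 0xf0b0b0a0a0005))))) (.node 33368 (.node 33365 (.node 33363 (.leaf 0x0) (.node 33364 (.leaf 0xb0b0a0003) (.leaf 0x8253))) (.node 33366 (.leaf 0xf0b0a0a0004) (.node 33367 (.leaf 0x0) (.leaf 0x0)))) (.node 33371 (.node 33369 (.leaf 0xa0f0002) (.node 33370 (.leaf 0x8000900090802040105000b) (.leaf 0x0))) (.node 33372 (.leaf 0x0) (.node 33373 (.leaf 0x605070206000202000701000b) (.leaf 0x0))))))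

def argWS_2953 : Store := (.node 33351 argWS_2951 argWS_2952)

def argWS_2954 : Store := (.node 33329 argWS_2950 argWS_2953)

def argWS_2955 : Store := (.node 33284 argWS_2947 argWS_2954)

def argWS_2956 : Store := (.node 33385 (.node 33379 (.node 33376 (.node 33375 (.leaf 0xd0b0002) (.leaf 0x0)) (.node 33377 (.leaf 0x825f00825b) (.node 33378 (.leaf 0xe0001) (.leaf 0x0)))) (.node 33382 (.node 33380 (.leaf 0x8000207020007010009) (.node 33381 (.leaf 0x0) (.leaf 0xf0001))) (.node 33383 (.leaf 0xf0a0a0003) (.node 33384 (.leaf 0x602000202090000000703040103000e) (.leaf 0x0))))) (.node 33390 (.node 33387 (.node 33386 (.leaf 0xe0d0002) (.leaf 0x0)) (.node 33388 (.leaf 0xa0001) (.node 33389 (.leaf 0x826b00826a) (.leaf 0x4000306030500040802040105000d)))) (.node 33393 (.node 33391 (.leaf 0x0) (.node 33392 (.leaf 0xe0a0a0003) (.leaf 0x0))) (.node 33394 (.leaf 0xb0b0002) (.node 33395 (.leaf 0x0) (.leaf 0x0))))))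

def argWS_2957 : Store := (.node 33407 (.node 33401 (.node 33398 (.node 33397 (.leaf 0xb0001) (.leaf 0xe0001)) (.node 33399 (.leaf 0x80500060207020703040103000c) (.node 33400 (.leaf 0x0) (.leaf 0xf0b0b0a0004)))) (.node 33404 (.node 33402 (.leaf 0x0) (.node 33403 (.leaf 0x8279008275) (.leaf 0xa0001))) (.node 33405 (.leaf 0x0) (.node 33406 (.leaf 0x8020904020802040105000a) (.leaf 0x0))))) (.node 33413 (.node 33410 (.node 33408 (.leaf 0xa0001) (.node 33409 (.leaf 0xf0001) (.leaf 0xa0001))) (.node 33411 (.leaf 0x6010201020901060008) (.node 33412 (.leaf 0x0) (.leaf 0xe0a0a0003)))) (.node 33416 (.node 33414 (.leaf 0x0) (.node 33415 (.leaf 0x8285008281) (.leaf 0x3040108020401050008))) (.node 33417 (.leaf 0x0) (.node 33418 (.leaf 0xf0b0b0003) (.leaf 0x0))))))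

def argWS_2958 : Store := (.node 33396 argWS_2956 argWS_2957)

def argWS_2959 : Store := (.node 33430 (.node 33424 (.node 33421 (.node 33420 (.leaf 0xf0b0a0a0004) (.leaf 0x0)) (.node 33422 (.leaf 0x0) (.node 33423 (.leaf 0xf0a0002) (.leaf 0xf0b0b0a0004)))) (.node 33427 (.node 33425 (.leaf 0xb0f0a0003) (.node 33426 (.leaf 0x829000828f) (.leaf 0xe0a0a0003))) (.node 33428 (.leaf 0x0) (.node 33429 (.leaf 0x5020000000300000202000701000d) (.leaf 0x0))))) (.node 33435 (.node 33432 (.node 33431 (.leaf 0xb0a0f0003) (.leaf 0xb0a0f0003)) (.node 33433 (.leaf 0xf0b0b0a0a0005) (.node 33434 (.leaf 0x8298) (.leaf 0xa0001)))) (.node 33438 (.node 33436 (.leaf 0x0) (.node 33437 (.leaf 0x60102010901090802040105000c) (.leaf 0x0))) (.node 33439 (.leaf 0xf0001) (.node 33440 (.leaf 0xb0001) (.leaf 0x209010400050202000701000b))))))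

def argWS_2960 : Store := (.node 33452 (.node 33446 (.node 33443 (.node 33442 (.leaf 0x0) (.leaf 0xf0b0b0a0a0005)) (.node 33444 (.leaf 0x0) (.node 33445 (.leaf 0x82a3) (.leaf 0x50006030500040007)))) (.node 33449 (.node 33447 (.leaf 0x0) (.node 33448 (.leaf 0xd0b0b0003) (.leaf 0x0))) (.node 33450 (.leaf 0x501020603000703040103000b) (.node 33451 (.leaf 0x0) (.leaf 0xf0b0a0003))))) (.node 33458 (.node 33455 (.node 33453 (.leaf 0xa0f0b0b0004) (.node 33454 (.leaf 0xf0b0b0003) (.leaf 0xb0a0002))) (.node 33456 (.leaf 0x82ae0082ad) (.node 33457 (.leaf 0x702010703060006) (.leaf 0x0)))) (.node 33461 (.node 33459 (.leaf 0xf0b0b0a0004) (.node 33460 (.leaf 0x0) (.leaf 0x0))) (.node 33462 (.leaf 0x6030101090805000703040103000d) (.node 33463 (.leaf 0x0) (.leaf 0xe0001))))))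

def argWS_2961 : Store := (.node 33441 argWS_2959 argWS_2960)

def argWS_2962 : Store := (.node 33419 argWS_2958 argWS_2961)

def argWS_2963 : Store := (.node 33475 (.node 33469 (.node 33466 (.node 33465 (.leaf 0x0) (.leaf 0x401010904020006)) (.node 33467 (.leaf 0x0) (.node 33468 (.leaf 0xe0a0a0003) (.leaf 0x0)))) (.node 33472 (.node 33470 (.leaf 0x503070206000202000701000b) (.node 33471 (.leaf 0x0) (.leaf 0xf0b0002))) (.node 33473 (.leaf 0x0) (.node 33474 (.leaf 0x82c00082bc) (.leaf 0x30306030500040802040105000c))))) (.node 33480 (.node 33477 (.node 33476 (.leaf 0x0) (.leaf 0xf0b0b0a0a0005)) (.node 33478 (.leaf 0x0) (.node 33479 (.leaf 0x307070209020202000701000b) (.leaf 0x0)))) (.node 33483 (.node 33481 (.leaf 0xa0a0002) (.node 33482 (.leaf 0xf0b0a0003) (.leaf 0x3040206020007010008))) (.node 33484 (.leaf 0x0) (.node 33485 (.leaf 0xa0f0b0003) (.leaf 0x0))))))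

def argWS_2964 : Store := (.node 33497 (.node 33491 (.node 33488 (.node 33487 (.leaf 0x82cd) (.leaf 0xf0b0b0a0004)) (.node 33489 (.leaf 0x0) (.node 33490 (.leaf 0x80502020007010008) (.leaf 0x0)))) (.node 33494 (.node 33492 (.leaf 0xd0b0b0003) (.node 33493 (.leaf 0x70506020702010007) (.leaf 0x0))) (.node 33495 (.leaf 0xb0f0002) (.node 33496 (.leaf 0x0) (.leaf 0x10903010904020007))))) (.node 33503 (.node 33500 (.node 33498 (.leaf 0x0) (.node 33499 (.leaf 0xe0001) (.leaf 0x0))) (.node 33501 (.leaf 0x82db006ec2) (.node 33502 (.leaf 0x90407020902000703040103000c) (.leaf 0x0)))) (.node 33506 (.node 33504 (.leaf 0xf0b0002) (.node 33505 (.leaf 0x0) (.leaf 0xd0001))) (.node 33507 (.leaf 0x0) (.node 33508 (.leaf 0x0) (.leaf 0x609000902020007010009))))))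

def argWS_2965 : Store := (.node 33486 argWS_2963 argWS_2964)

def argWS_2966 : Store := (.node 33520 (.node 33514 (.node 33511 (.node 33510 (.leaf 0x0) (.leaf 0xb0b0a0a0004)) (.node 33512 (.leaf 0x0) (.node 33513 (.leaf 0x107070209020202000701000b) (.leaf 0x0)))) (.node 33517 (.node 33515 (.leaf 0xb0a0f0003) (.node 33516 (.leaf 0x0) (.leaf 0x82eb))) (.node 33518 (.leaf 0xf0b0b0a0a0005) (.node 33519 (.leaf 0x0) (.leaf 0xa0001))))) (.node 33526 (.node 33523 (.node 33521 (.leaf 0x0) (.node 33522 (.leaf 0x0) (.leaf 0x3070007000902000701000a))) (.node 33524 (.leaf 0x0) (.node 33525 (.leaf 0xb0f0a0003) (.leaf 0x0)))) (.node 33529 (.node 33527 (.leaf 0xb0b0002) (.node 33528 (.leaf 0x82f60082f5) (.leaf 0xb0f0002))) (.node 33530 (.leaf 0x0) (.node 33531 (.leaf 0xb0b0002) (.leaf 0x0))))))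

def argWS_2967 : Store := (.node 33543 (.node 33537 (.node 33534 (.node 33533 (.leaf 0x0) (.leaf 0x60102010904020802040105000c)) (.node 33535 (.leaf 0x0) (.node 33536 (.leaf 0x0) (.leaf 0x205050206040006)))) (.node 33540 (.node 33538 (.leaf 0x0) (.node 33539 (.leaf 0xb0a0002) (.leaf 0x0))) (.node 33541 (.leaf 0x8303) (.node 33542 (.leaf 0xf0b0a0003) (.leaf 0x0))))) (.node 33549 (.node 33546 (.node 33544 (.leaf 0x3030900090802040105000a) (.node 33545 (.leaf 0x0) (.leaf 0xb0a0f0003))) (.node 33547 (.leaf 0xd0b0002) (.node 33548 (.leaf 0x502060207020703040103000b) (.leaf 0x0)))) (.node 33552 (.node 33550 (.leaf 0xa0f0b0b0004) (.node 33551 (.leaf 0x0) (.leaf 0xa0f0b0003))) (.node 33553 (.leaf 0x830f00830e) (.node 33554 (.leaf 0xa0f0002) (.leaf 0x0))))))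

def argWS_2968 : Store := (.node 33532 argWS_2966 argWS_2967)

def argWS_2969 : Store := (.node 33509 argWS_2965 argWS_2968)

def argWS_2970 : Store := (.node 33464 argWS_2962 argWS_2969)

def argWS_2971 : Store := (.node 33374 argWS_2955 argWS_2970)

def argWS_2972 : Store := (.node 33566 (.node 33560 (.node 33557 (.node 33556 (.leaf 0xf0a0002) (.leaf 0x0)) (.node 33558 (.leaf 0x0) (.node 33559 (.leaf 0xd0b0b0003) (.leaf 0xa0f0b0003)))) (.node 33563 (.node 33561 (.leaf 0x60209080600000703040103000c) (.node 33562 (.leaf 0x0) (.leaf 0xb0f0002))) (.node 33564 (.leaf 0x0) (.node 33565 (.leaf 0x831b008317) (.leaf 0x202000002080400000703040103000e))))) (.node 33571 (.node 33568 (.node 33567 (.leaf 0x0) (.leaf 0xa0f0002)) (.node 33569 (.leaf 0x0) (.node 33570 (.leaf 0xd0b0b0003) (.leaf 0x0)))) (.node 33574 (.node 33572 (.leaf 0x0) (.node 33573 (.leaf 0x3010703060802040105000b) (.leaf 0x0))) (.node 33575 (.leaf 0xf0a0a0003) (.node 33576 (.leaf 0x0) (.leaf 0xb0b0a0003))))))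

def argWS_2973 : Store := (.node 33588 (.node 33582 (.node 33579 (.node 33578 (.leaf 0x8328) (.leaf 0x2000300000802040105000a)) (.node 33580 (.leaf 0x0) (.node 33581 (.leaf 0xf0b0a0003) (.leaf 0x0)))) (.node 33585 (.node 33583 (.leaf 0xf0b0b0a0004) (.node 33584 (.leaf 0x0) (.leaf 0x0))) (.node 33586 (.leaf 0x90006030500040202000701000d) (.node 33587 (.leaf 0x0) (.leaf 0xf0b0b0a0a0005))))) (.node 33594 (.node 33591 (.node 33589 (.leaf 0x0) (.node 33590 (.leaf 0xf0b0b0a0a0005) (.leaf 0xa0001))) (.node 33592 (.leaf 0x8336008335) (.node 33593 (.leaf 0xe0a0002) (.leaf 0x0)))) (.node 33597 (.node 33595 (.leaf 0xd0b0b0003) (.node 33596 (.leaf 0x0) (.leaf 0x0))) (.node 33598 (.leaf 0x50b2) (.node 33599 (.leaf 0xa0f0002) (.leaf 0x0))))))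

def argWS_2974 : Store := (.node 33577 argWS_2972 argWS_2973)

def argWS_2975 : Store := (.node 33611 (.node 33605 (.node 33602 (.node 33601 (.leaf 0xd0b0b0003) (.leaf 0x0)) (.node 33603 (.leaf 0x0) (.node 33604 (.leaf 0x40102020007010007) (.leaf 0x0)))) (.node 33608 (.node 33606 (.leaf 0xb0a0f0003) (.node 33607 (.leaf 0x0) (.leaf 0x207020901060202000701000b))) (.node 33609 (.leaf 0x0) (.node 33610 (.leaf 0xf0001) (.leaf 0x0))))) (.node 33616 (.node 33613 (.node 33612 (.leaf 0xb0a0002) (.leaf 0x834b00834a)) (.node 33614 (.leaf 0xd0001) (.node 33615 (.leaf 0x0) (.leaf 0x20103010102000007)))) (.node 33619 (.node 33617 (.leaf 0x0) (.node 33618 (.leaf 0xa0001) (.leaf 0x6000202090000000703040103000d))) (.node 33620 (.leaf 0x0) (.node 33621 (.leaf 0xb0f0a0a0004) (.leaf 0x0))))))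

def argWS_2976 : Store := (.node 33633 (.node 33627 (.node 33624 (.node 33623 (.leaf 0x403040400050802040105000b) (.leaf 0x0)) (.node 33625 (.leaf 0x0) (.node 33626 (.leaf 0xa0f0b0003) (.leaf 0x8359008358)))) (.node 33630 (.node 33628 (.leaf 0xd0001) (.node 33629 (.leaf 0x0) (.leaf 0x70106010500020802040105000c))) (.node 33631 (.leaf 0x0) (.node 33632 (.leaf 0xf0001) (.leaf 0xb0b0a0a0004))))) (.node 33639 (.node 33636 (.node 33634 (.leaf 0xa0a0002) (.node 33635 (.leaf 0x80004090000090802040105000c) (.leaf 0x0))) (.node 33637 (.leaf 0x0) (.node 33638 (.leaf 0x8364008361) (.leaf 0x800040003)))) (.node 33642 (.node 33640 (.leaf 0x0) (.node 33641 (.leaf 0xf0001) (.leaf 0x0))) (.node 33643 (.leaf 0x20202090009000703040103000c) (.node 33644 (.leaf 0x0) (.leaf 0xf0b0b0003))))))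

def argWS_2977 : Store := (.node 33622 argWS_2975 argWS_2976)

def argWS_2978 : Store := (.node 33600 argWS_2974 argWS_2977)

def argWS_2979 : Store := (.node 33656 (.node 33650 (.node 33647 (.node 33646 (.leaf 0x60207020703040103000a) (.leaf 0x0)) (.node 33648 (.leaf 0xf0b0b0a0a0005) (.node 33649 (.leaf 0x0) (.leaf 0xf0b0002)))) (.node 33653 (.node 33651 (.leaf 0x9010908050202000701000a) (.node 33652 (.leaf 0x0) (.leaf 0xa0001))) (.node 33654 (.leaf 0x0) (.node 33655 (.leaf 0x8375008371) (.leaf 0x3050206040802040105000b))))) (.node 33661 (.node 33658 (.node 33657 (.leaf 0x0) (.leaf 0xf0b0b0003)) (.node 33659 (.leaf 0x0) (.node 33660 (.leaf 0x8000000030306040008) (.leaf 0x0)))) (.node 33664 (.node 33662 (.leaf 0xf0a0a0003) (.node 33663 (.leaf 0x8010408010802040105000a) (.leaf 0x0))) (.node 33665 (.leaf 0x0) (.node 33666 (.leaf 0x60401060207020703040103000c) (.leaf 0x0))))))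

def argWS_2980 : Store := (.node 33678 (.node 33672 (.node 33669 (.node 33668 (.leaf 0xd0b0002) (.leaf 0x0)) (.node 33670 (.leaf 0x8384) (.node 33671 (.leaf 0x3090806000006) (.leaf 0x0)))) (.node 33675 (.node 33673 (.leaf 0xf0b0b0003) (.node 33674 (.leaf 0x0) (.leaf 0xf0a0a0003))) (.node 33676 (.leaf 0x0) (.node 33677 (.leaf 0x0) (.leaf 0x735f))))) (.node 33684 (.node 33681 (.node 33679 (.leaf 0xb0f0002) (.node 33680 (.leaf 0x0) (.leaf 0xe0001))) (.node 33682 (.leaf 0x0) (.node 33683 (.leaf 0x0) (.leaf 0x20507020600000703040103000c)))) (.node 33687 (.node 33685 (.leaf 0x0) (.node 33686 (.leaf 0xf0b0b0a0a0005) (.leaf 0x0))) (.node 33688 (.leaf 0x6010200020804000202000701000d) (.node 33689 (.leaf 0x0) (.leaf 0xe0d0002))))))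

def argWS_2981 : Store := (.node 33667 argWS_2979 argWS_2980)

def argWS_2982 : Store := (.node 33701 (.node 33695 (.node 33692 (.node 33691 (.leaf 0x0) (.leaf 0x839a008396)) (.node 33693 (.leaf 0x105020900090006) (.node 33694 (.leaf 0x0) (.leaf 0xb0a0f0003)))) (.node 33698 (.node 33696 (.leaf 0x0) (.node 33697 (.leaf 0x80000090206020202000701000d) (.leaf 0x0))) (.node 33699 (.leaf 0xf0b0b0a0004) (.node 33700 (.leaf 0x60502020900000007) (.leaf 0x0))))) (.node 33706 (.node 33703 (.node 33702 (.leaf 0xe0a0002) (.leaf 0x0)) (.node 33704 (.leaf 0x9010908050202000701000a) (.node 33705 (.leaf 0x0) (.leaf 0xb0b0a0003)))) (.node 33709 (.node 33707 (.leaf 0x0) (.node 33708 (.leaf 0x83aa) (.leaf 0x2020000000300000202000701000d))) (.node 33710 (.leaf 0x0) (.node 33711 (.leaf 0xd0b0b0003) (.leaf 0x0))))))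

def argWS_2983 : Store := (.node 33723 (.node 33717 (.node 33714 (.node 33713 (.leaf 0x701090206020802040105000b) (.leaf 0x0)) (.node 33715 (.leaf 0xb0f0a0a0004) (.node 33716 (.leaf 0xd0b0b0003) (.leaf 0xf0b0a0003)))) (.node 33720 (.node 33718 (.leaf 0x501010703060006) (.node 33719 (.leaf 0x0) (.leaf 0xb0f0a0003))) (.node 33721 (.leaf 0x0) (.node 33722 (.leaf 0x83b80083b4) (.leaf 0x6050102000003010802040105000d))))) (.node 33729 (.node 33726 (.node 33724 (.leaf 0x0) (.node 33725 (.leaf 0xb0a0002) (.leaf 0x0))) (.node 33727 (.leaf 0xe0a0a0003) (.node 33728 (.leaf 0x0) (.leaf 0x0)))) (.node 33732 (.node 33730 (.leaf 0xe0a0002) (.node 33731 (.leaf 0xf0b0b0003) (.leaf 0xd0b0002))) (.node 33733 (.leaf 0x83c30083c2) (.node 33734 (.leaf 0x1090300000300000008) (.leaf 0x0))))))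

def argWS_2984 : Store := (.node 33712 argWS_2982 argWS_2983)

def argWS_2985 : Store := (.node 33690 argWS_2981 argWS_2984)

def argWS_2986 : Store := (.node 33645 argWS_2978 argWS_2985)

def argWS_2987 : Store := (.node 33746 (.node 33740 (.node 33737 (.node 33736 (.leaf 0xb0b0002) (.leaf 0x0)) (.node 33738 (.leaf 0x60601070209020802040105000c) (.node 33739 (.leaf 0x0) (.leaf 0xb0b0a0003)))) (.node 33743 (.node 33741 (.leaf 0xd0b0b0003) (.node 33742 (.leaf 0x5a07) (.leaf 0x6040002000003010802040105000d))) (.node 33744 (.leaf 0x0) (.node 33745 (.leaf 0xb0b0002) (.leaf 0x0))))) (.node 33751 (.node 33748 (.node 33747 (.leaf 0xb0a0a0003) (.leaf 0x0)) (.node 33749 (.leaf 0x0) (.node 33750 (.leaf 0xe0001) (.leaf 0x207030007030401030009)))) (.node 33754 (.node 33752 (.leaf 0x0) (.node 33753 (.leaf 0xf0b0b0a0004) (.leaf 0x0))) (.node 33755 (.leaf 0x83d9) (.node 33756 (.leaf 0xe0001) (.leaf 0x0))))))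

def argWS_2988 : Store := (.node 33768 (.node 33762 (.node 33759 (.node 33758 (.leaf 0x9010400020804000802040105000d) (.leaf 0x0)) (.node 33760 (.leaf 0xb0a0002) (.node 33761 (.leaf 0x0) (.leaf 0x9000401050005)))) (.node 33765 (.node 33763 (.leaf 0x0) (.node 33764 (.leaf 0xb0f0002) (.leaf 0x0))) (.node 33766 (.leaf 0xe0d0002) (.node 33767 (.leaf 0x83e50083e4) (.leaf 0xf0b0b0003))))) (.node 33774 (.node 33771 (.node 33769 (.leaf 0x0) (.node 33770 (.leaf 0xe0a0a0003) (.leaf 0x0))) (.node 33772 (.leaf 0x0) (.node 33773 (.leaf 0xe0a0002) (.leaf 0xb0001)))) (.node 33777 (.node 33775 (.leaf 0x83ed) (.node 33776 (.leaf 0x40703060005) (.leaf 0x0))) (.node 33778 (.leaf 0xb0b0a0a0004) (.node 33779 (.leaf 0x0) (.leaf 0x20205020202010802040105000c))))))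

def argWS_2989 : Store := (.node 33757 argWS_2987 argWS_2988)

def argWS_2990 : Store := (.node 33791 (.node 33785 (.node 33782 (.node 33781 (.leaf 0x0) (.leaf 0xb0f0002)) (.node 33783 (.leaf 0x2060900090005) (.node 33784 (.leaf 0x0) (.leaf 0xb0001)))) (.node 33788 (.node 33786 (.leaf 0x0) (.node 33787 (.leaf 0xd0001) (.leaf 0x70502010606000703040103000c))) (.node 33789 (.leaf 0x0) (.node 33790 (.leaf 0xb0b0a0003) (.leaf 0x0))))) (.node 33796 (.node 33793 (.node 33792 (.leaf 0x83fe0083fa) (.leaf 0x102020207030802040105000b)) (.node 33794 (.leaf 0x0) (.node 33795 (.leaf 0xb0f0a0003) (.leaf 0x0)))) (.node 33799 (.node 33797 (.leaf 0xf0a0002) (.node 33798 (.leaf 0x0) (.leaf 0x0))) (.node 33800 (.leaf 0xd0b0b0003) (.node 33801 (.leaf 0xb0a0002) (.leaf 0x8408))))))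

def argWS_2991 : Store := (.node 33813 (.node 33807 (.node 33804 (.node 33803 (.leaf 0x2060106030500040008) (.leaf 0x0)) (.node 33805 (.leaf 0xf0a0a0003) (.node 33806 (.leaf 0x0) (.leaf 0x80300000408010802040105000c)))) (.node 33810 (.node 33808 (.leaf 0x0) (.node 33809 (.leaf 0xf0a0002) (.leaf 0x90105020202010202000701000c))) (.node 33811 (.leaf 0x0) (.node 33812 (.leaf 0xe0d0002) (.leaf 0x0))))) (.node 33819 (.node 33816 (.node 33814 (.leaf 0x6e32) (.node 33815 (.leaf 0x0) (.leaf 0xe0a0002))) (.node 33817 (.leaf 0x0) (.node 33818 (.leaf 0x0) (.leaf 0x6050101090402000703040103000d)))) (.node 33822 (.node 33820 (.leaf 0x0) (.node 33821 (.leaf 0xa0f0002) (.leaf 0x0))) (.node 33823 (.leaf 0x40904020005) (.node 33824 (.leaf 0x0) (.leaf 0xe0a0002))))))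

def argWS_2992 : Store := (.node 33802 argWS_2990 argWS_2991)

def argWS_2993 : Store := (.node 33780 argWS_2989 argWS_2992)

def argWS_2994 : Store := (.node 33836 (.node 33830 (.node 33827 (.node 33826 (.leaf 0x0) (.leaf 0x8421)) (.node 33828 (.leaf 0x0) (.node 33829 (.leaf 0x20602020900000802040105000c) (.leaf 0x0)))) (.node 33833 (.node 33831 (.leaf 0xf0a0a0003) (.node 33832 (.leaf 0x6000000030000000703040103000e) (.leaf 0x0))) (.node 33834 (.leaf 0xf0001) (.node 33835 (.leaf 0x0) (.leaf 0xd0b0b0003))))) (.node 33841 (.node 33838 (.node 33837 (.leaf 0x842b) (.leaf 0x809080502020007010009)) (.node 33839 (.leaf 0x0) (.node 33840 (.leaf 0xa0a0002) (.leaf 0x0)))) (.node 33844 (.node 33842 (.leaf 0xf0a0002) (.node 33843 (.leaf 0x0) (.leaf 0x0))) (.node 33845 (.leaf 0xd0b0002) (.node 33846 (.leaf 0xf0a0002) (.leaf 0x8435))))))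

def argWS_2995 : Store := (.node 33858 (.node 33852 (.node 33849 (.node 33848 (.leaf 0xe0a0002) (.leaf 0x0)) (.node 33850 (.leaf 0xf0b0a0a0004) (.node 33851 (.leaf 0x0) (.leaf 0x0)))) (.node 33855 (.node 33853 (.leaf 0x10300060207020703040103000c) (.node 33854 (.leaf 0x0) (.leaf 0xf0b0b0a0004))) (.node 33856 (.leaf 0x0) (.node 33857 (.leaf 0xf0b0a0a0004) (.leaf 0x8440))))) (.node 33864 (.node 33861 (.node 33859 (.leaf 0xe0001) (.node 33860 (.leaf 0x0) (.leaf 0x601070306000703040103000b))) (.node 33862 (.leaf 0x0) (.node 33863 (.leaf 0xb0a0a0003) (.leaf 0xf0a0002)))) (.node 33867 (.node 33865 (.leaf 0xe0001) (.node 33866 (.leaf 0x601020107020902000703040103000e) (.leaf 0x0))) (.node 33868 (.leaf 0xf0b0a0a0004) (.node 33869 (.leaf 0x0) (.leaf 0x844c008448))))))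

def argWS_2996 : Store := (.node 33847 argWS_2994 argWS_2995)

def argWS_2997 : Store := (.node 33881 (.node 33875 (.node 33872 (.node 33871 (.leaf 0x0) (.leaf 0x2000005020202010802040105000d)) (.node 33873 (.leaf 0x0) (.node 33874 (.leaf 0xd0001) (.leaf 0x6040002020007010008)))) (.node 33878 (.node 33876 (.leaf 0x0) (.node 33877 (.leaf 0xe0a0002) (.leaf 0x0))) (.node 33879 (.leaf 0x200020603000703040103000c) (.node 33880 (.leaf 0x0) (.leaf 0xa0f0b0b0004))))) (.node 33887 (.node 33884 (.node 33882 (.leaf 0x0) (.node 33883 (.leaf 0x8459008455) (.leaf 0x30000000703040103000c))) (.node 33885 (.leaf 0x0) (.node 33886 (.leaf 0xa0f0b0003) (.leaf 0x0)))) (.node 33890 (.node 33888 (.leaf 0xb0a0f0003) (.node 33889 (.leaf 0x0) (.leaf 0x0))) (.node 33891 (.leaf 0xb0b0002) (.node 33892 (.leaf 0xb0b0002) (.leaf 0x8463003848))))))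

def argWS_2998 : Store := (.node 33904 (.node 33898 (.node 33895 (.node 33894 (.leaf 0xd0b0b0003) (.leaf 0x0)) (.node 33896 (.leaf 0xb0f0002) (.node 33897 (.leaf 0x0) (.leaf 0x0)))) (.node 33901 (.node 33899 (.leaf 0x20603010102000202000701000c) (.node 33900 (.leaf 0x0) (.leaf 0xf0b0a0003))) (.node 33902 (.leaf 0x0) (.node 33903 (.leaf 0xb0b0002) (.leaf 0x602010900090202000701000b))))) (.node 33910 (.node 33907 (.node 33905 (.leaf 0x0) (.node 33906 (.leaf 0xb0a0a0003) (.leaf 0x0))) (.node 33908 (.leaf 0x847200846e) (.node 33909 (.leaf 0xf0a0a0003) (.leaf 0x0)))) (.node 33913 (.node 33911 (.leaf 0x0) (.node 33912 (.leaf 0xa0001) (.leaf 0xa0f0002))) (.node 33914 (.leaf 0x605020604000703040103000b) (.node 33915 (.leaf 0x0) (.leaf 0xb0b0a0003))))))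

def argWS_2999 : Store := (.node 33893 argWS_2997 argWS_2998)

def argWS_3000 : Store := (.node 33870 argWS_2996 argWS_2999)

def argWS_3001 : Store := (.node 33825 argWS_2993 argWS_3000)

def argWS_3002 : Store := (.node 33735 argWS_2986 argWS_3001)

def argWS_3003 : Store := (.node 33555 argWS_2971 argWS_3002)

def argWS_3004 : Store := (.node 33927 (.node 33921 (.node 33918 (.node 33917 (.leaf 0x0) (.leaf 0x847c)) (.node 33919 (.leaf 0x9020105020202010008) (.node 33920 (.leaf 0x0) (.leaf 0xf0b0a0a0004)))) (.node 33924 (.node 33922 (.leaf 0x0) (.node 33923 (.leaf 0x3040000030000000703040103000d) (.leaf 0x0))) (.node 33925 (.leaf 0xa0f0b0003) (.node 33926 (.leaf 0xa0a0002) (.leaf 0xb0b0a0003))))) (.node 33932 (.node 33929 (.node 33928 (.leaf 0x82e2008486) (.leaf 0xe0a0a0003)) (.node 33930 (.leaf 0x0) (.node 33931 (.leaf 0x50006030500040202000701000c) (.leaf 0x0)))) (.node 33935 (.node 33933 (.leaf 0xb0001) (.node 33934 (.leaf 0x6020002020007010008) (.leaf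 0x0))) (.node 33936 (.leaf 0xe0d0002) (.node 33937 (.leaf 0x0) (.leaf 0x400030901090802040105000b))))))

def argWS_3005 : Store := (.node 33949 (.node 33943 (.node 33940 (.node 33939 (.leaf 0x0) (.leaf 0xf0a0a0003)) (.node 33941 (.leaf 0x0) (.node 33942 (.leaf 0xb0b0a0003) (.leaf 0x8495008494)))) (.node 33946 (.node 33944 (.leaf 0x201020703000703040103000b) (.node 33945 (.leaf 0x0) (.leaf 0xf0b0b0003))) (.node 33947 (.leaf 0x0) (.node 33948 (.leaf 0x2060206030802040105000a) (.leaf 0x0))))) (.node 33955 (.node 33952 (.node 33950 (.leaf 0xb0b0002) (.node 33951 (.leaf 0x903000400050006) (.leaf 0x0))) (.node 33953 (.leaf 0xb0b0002) (.node 33954 (.leaf 0x0) (.leaf 0x20006010500020802040105000d)))) (.node 33958 (.node 33956 (.leaf 0x0) (.node 33957 (.leaf 0xa0001) (.leaf 0x0))) (.node 33959 (.leaf 0x84a5) (.node 33960 (.leaf 0x10406010500020802040105000c) (.leaf 0x0))))))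

def argWS_3006 : Store := (.node 33938 argWS_3004 argWS_3005)

def argWS_3007 : Store := (.node 33972 (.node 33966 (.node 33963 (.node 33962 (.leaf 0xa0a0002) (.leaf 0x0)) (.node 33964 (.leaf 0x9010401070306000703040103000d) (.node 33965 (.leaf 0x0) (.leaf 0xf0b0b0a0004)))) (.node 33969 (.node 33967 (.leaf 0xb0a0002) (.node 33968 (.leaf 0x3040107000902000701000a) (.leaf 0x0))) (.node 33970 (.leaf 0xa0a0002) (.node 33971 (.leaf 0x0) (.leaf 0x80904020005))))) (.node 33977 (.node 33974 (.node 33973 (.leaf 0x0) (.leaf 0xb0a0f0003)) (.node 33975 (.leaf 0x0) (.node 33976 (.leaf 0x84b60084b2) (.leaf 0x90406010500020202000701000c)))) (.node 33980 (.node 33978 (.leaf 0x0) (.node 33979 (.leaf 0xf0001) (.leaf 0x0))) (.node 33981 (.leaf 0x0) (.node 33982 (.leaf 0xb0001) (.leaf 0x8090805000703040103000b))))))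

def argWS_3008 : Store := (.node 33994 (.node 33988 (.node 33985 (.node 33984 (.leaf 0x0) (.leaf 0xa0001)) (.node 33986 (.leaf 0x0) (.node 33987 (.leaf 0x3050206040202000701000b) (.leaf 0x0)))) (.node 33991 (.node 33989 (.leaf 0xe0a0a0003) (.node 33990 (.leaf 0x0) (.leaf 0xe0d0002))) (.node 33992 (.leaf 0x84c60084c5) (.node 33993 (.leaf 0xb0b0a0003) (.leaf 0x0))))) (.node 34000 (.node 33997 (.node 33995 (.leaf 0x80002020900000202000701000d) (.node 33996 (.leaf 0x0) (.leaf 0xf0a0002))) (.node 33998 (.leaf 0x60200020804000202000701000c) (.node 33999 (.leaf 0x0) (.leaf 0xb0b0a0003)))) (.node 34003 (.node 34001 (.leaf 0x0) (.node 34002 (.leaf 0x9050306030500040802040105000d) (.leaf 0x0))) (.node 34004 (.leaf 0xb0b0002) (.node 34005 (.leaf 0x0) (.leaf 0x84d400175b))))))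

def argWS_3009 : Store := (.node 33983 argWS_3007 argWS_3008)

def argWS_3010 : Store := (.node 33961 argWS_3006 argWS_3009)

def argWS_3011 : Store := (.node 34017 (.node 34011 (.node 34008 (.node 34007 (.leaf 0x90106020702010007) (.leaf 0x0)) (.node 34009 (.leaf 0xb0f0a0a0004) (.node 34010 (.leaf 0x0) (.leaf 0x7020604000703040103000a)))) (.node 34014 (.node 34012 (.leaf 0x0) (.node 34013 (.leaf 0xb0b0a0a0004) (.leaf 0xb0a0f0003))) (.node 34015 (.leaf 0xe0a0a0003) (.node 34016 (.leaf 0xd0b0b0003) (.leaf 0x84df0084de))))) (.node 34022 (.node 34019 (.node 34018 (.leaf 0xb0b0002) (.leaf 0x0)) (.node 34020 (.leaf 0xb0001) (.node 34021 (.leaf 0x0) (.leaf 0x0)))) (.node 34025 (.node 34023 (.leaf 0x701010400050202000701000b) (.node 34024 (.leaf 0x0) (.leaf 0xa0f0b0003))) (.node 34026 (.leaf 0x0) (.node 34027 (.leaf 0xe0a0a0003) (.leaf 0x84ea))))))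

def argWS_3012 : Store := (.node 34039 (.node 34033 (.node 34030 (.node 34029 (.leaf 0xe0a0002) (.leaf 0x0)) (.node 34031 (.leaf 0x702000408010802040105000b) (.node 34032 (.leaf 0x0) (.leaf 0xd0b0b0003)))) (.node 34036 (.node 34034 (.leaf 0x1070006020702010008) (.node 34035 (.leaf 0x0) (.leaf 0xb0f0002))) (.node 34037 (.leaf 0x0) (.node 34038 (.leaf 0x400030603050004000703040103000e) (.leaf 0x0))))) (.node 34045 (.node 34042 (.node 34040 (.leaf 0x0) (.node 34041 (.leaf 0x605020901060802040105000b) (.leaf 0x0))) (.node 34043 (.leaf 0xf0b0002) (.node 34044 (.leaf 0x0) (.leaf 0x84fb0084f7)))) (.node 34048 (.node 34046 (.leaf 0x6020207030802040105000a) (.node 34047 (.leaf 0x0) (.leaf 0xe0d0002))) (.node 34049 (.leaf 0x0) (.node 34050 (.leaf 0xb0f0a0a0004) (.leaf 0x0))))))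

def argWS_3013 : Store := (.node 34028 argWS_3011 argWS_3012)

def argWS_3014 : Store := (.node 34062 (.node 34056 (.node 34053 (.node 34052 (.leaf 0x0) (.leaf 0xb0f0a0003)) (.node 34054 (.leaf 0xb0b0a0a0004) (.node 34055 (.leaf 0x0) (.leaf 0x906020901060006)))) (.node 34059 (.node 34057 (.leaf 0x0) (.node 34058 (.leaf 0xb0f0002) (.leaf 0x0))) (.node 34060 (.leaf 0x850a008506) (.node 34061 (.leaf 0xb0a0a0003) (.leaf 0x0))))) (.node 34067 (.node 34064 (.node 34063 (.leaf 0xd0001) (.leaf 0x0)) (.node 34065 (.leaf 0x0) (.node 34066 (.leaf 0xb0b0002) (.leaf 0x0)))) (.node 34070 (.node 34068 (.leaf 0xf0b0002) (.node 34069 (.leaf 0x306030500040802040105000b) (.leaf 0x0))) (.node 34071 (.leaf 0xb0f0a0003) (.node 34072 (.leaf 0x0) (.leaf 0x8517008513))))))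

def argWS_3015 : Store := (.node 34084 (.node 34078 (.node 34075 (.node 34074 (.leaf 0xb0a0f0003) (.leaf 0x0)) (.node 34076 (.leaf 0xa0a0002) (.node 34077 (.leaf 0x0) (.leaf 0x0)))) (.node 34081 (.node 34079 (.leaf 0xf0b0a0003) (.node 34080 (.leaf 0xf0b0002) (.leaf 0x851f))) (.node 34082 (.leaf 0xd0b0b0003) (.node 34083 (.leaf 0x0) (.leaf 0xf0001))))) (.node 34090 (.node 34087 (.node 34085 (.leaf 0x0) (.node 34086 (.leaf 0x0) (.leaf 0x502010703060202000701000b))) (.node 34088 (.leaf 0x0) (.node 34089 (.leaf 0xb0f0002) (.leaf 0x0)))) (.node 34093 (.node 34091 (.leaf 0x6020603000703040103000a) (.node 34092 (.leaf 0x0) (.leaf 0xb0b0a0a0004))) (.node 34094 (.leaf 0x0) (.node 34095 (.leaf 0x57e500852d) (.leaf 0xb0a0002))))))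

def argWS_3016 : Store := (.node 34073 argWS_3014 argWS_3015)

def argWS_3017 : Store := (.node 34051 argWS_3013 argWS_3016)

def argWS_3018 : Store := (.node 34006 argWS_3010 argWS_3017)

def argWS_3019 : Store := (.node 34107 (.node 34101 (.node 34098 (.node 34097 (.leaf 0x0) (.leaf 0xa0001)) (.node 34099 (.leaf 0x0) (.node 34100 (.leaf 0xe0d0002) (.leaf 0xf0b0b0a0004)))) (.node 34104 (.node 34102 (.leaf 0x8534008533) (.node 34103 (.leaf 0xf0b0002) (.leaf 0x0))) (.node 34105 (.leaf 0x70407020600000703040103000c) (.node 34106 (.leaf 0x0) (.leaf 0xf0b0b0a0a0005))))) (.node 34112 (.node 34109 (.node 34108 (.leaf 0xf0001) (.leaf 0xf0a0002)) (.node 34110 (.leaf 0x80200070009030802040105000c) (.node 34111 (.leaf 0x0) (.leaf 0xf0a0002)))) (.node 34115 (.node 34113 (.leaf 0x0) (.node 34114 (.leaf 0x854000853c) (.leaf 0x30106020702010802040105000c))) (.node 34116 (.leaf 0x0) (.node 34117 (.leaf 0xf0b0002) (.leaf 0x0))))))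

def argWS_3020 : Store := (.node 34129 (.node 34123 (.node 34120 (.node 34119 (.leaf 0x60601090806000802040105000c) (.leaf 0x0)) (.node 34121 (.leaf 0xb0b0a0003) (.node 34122 (.leaf 0xd0b0002) (.leaf 0x0)))) (.node 34126 (.node 34124 (.leaf 0x60009080600000703040103000d) (.node 34125 (.leaf 0x0) (.leaf 0xa0a0002))) (.node 34127 (.leaf 0x0) (.node 34128 (.leaf 0x8067) (.leaf 0xf0a0002))))) (.node 34135 (.node 34132 (.node 34130 (.leaf 0x0) (.node 34131 (.leaf 0x501010908050006) (.leaf 0x0))) (.node 34133 (.leaf 0xa0001) (.node 34134 (.leaf 0xe0d0002) (.leaf 0xe0001)))) (.node 34138 (.node 34136 (.leaf 0x8556) (.node 34137 (.leaf 0x20905020202010007) (.leaf 0x0))) (.node 34139 (.leaf 0xb0b0002) (.node 34140 (.leaf 0x0) (.leaf 0xf0a0a0003))))))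

def argWS_3021 : Store := (.node 34118 argWS_3019 argWS_3020)

def argWS_3022 : Store := (.node 34152 (.node 34146 (.node 34143 (.node 34142 (.leaf 0x0) (.leaf 0x0)) (.node 34144 (.leaf 0x206030007030401030009) (.node 34145 (.leaf 0x0) (.leaf 0xa0f0002)))) (.node 34149 (.node 34147 (.leaf 0x0) (.node 34148 (.leaf 0x902010308000703040103000b) (.leaf 0x0))) (.node 34150 (.leaf 0xe0d0002) (.node 34151 (.leaf 0x0) (.leaf 0x8566))))) (.node 34157 (.node 34154 (.node 34153 (.leaf 0x9030308000703040103000a) (.leaf 0x0)) (.node 34155 (.leaf 0xb0b0002) (.node 34156 (.leaf 0x0) (.leaf 0x104000002080400000703040103000e)))) (.node 34160 (.node 34158 (.leaf 0x0) (.node 34159 (.leaf 0xe0d0002) (.leaf 0xd0b0002))) (.node 34161 (.leaf 0xe0001) (.node 34162 (.leaf 0xe0a0002) (.leaf 0x0))))))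

def argWS_3023 : Store := (.node 34174 (.node 34168 (.node 34165 (.node 34164 (.leaf 0x8572008570) (.leaf 0x7030505020202010802040105000d)) (.node 34166 (.leaf 0x0) (.node 34167 (.leaf 0xb0b0a0a0004) (.leaf 0x0)))) (.node 34171 (.node 34169 (.leaf 0x606030500040202000701000c) (.node 34170 (.leaf 0x0) (.leaf 0xb0a0a0003))) (.node 34172 (.leaf 0x5020107020600000703040103000d) (.node 34173 (.leaf 0x0) (.leaf 0xe0001))))) (.node 34180 (.node 34177 (.node 34175 (.leaf 0x0) (.node 34176 (.leaf 0x80101040005000703040103000c) (.leaf 0x0))) (.node 34178 (.leaf 0xb0a0f0003) (.node 34179 (.leaf 0x0) (.leaf 0x8582)))) (.node 34183 (.node 34181 (.leaf 0x40904020005) (.node 34182 (.leaf 0x0) (.leaf 0xf0b0b0a0004))) (.node 34184 (.leaf 0x0) (.node 34185 (.leaf 0xe0a0a0003) (.leaf 0x0))))))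

def argWS_3024 : Store := (.node 34163 argWS_3022 argWS_3023)

def argWS_3025 : Store := (.node 34141 argWS_3021 argWS_3024)

def argWS_3026 : Store := (.node 34197 (.node 34191 (.node 34188 (.node 34187 (.leaf 0x0) (.leaf 0xd0b0002)) (.node 34189 (.leaf 0xa0a0002) (.node 34190 (.leaf 0x858c) (.leaf 0xf0b0002)))) (.node 34194 (.node 34192 (.leaf 0x0) (.node 34193 (.leaf 0xb0b0a0003) (.leaf 0x0))) (.node 34195 (.leaf 0x0) (.node 34196 (.leaf 0xa0001) (.leaf 0x8593))))) (.node 34202 (.node 34199 (.node 34198 (.leaf 0xb0b0a0a0004) (.leaf 0x0)) (.node 34200 (.leaf 0xb0a0a0003) (.node 34201 (.leaf 0x0) (.leaf 0x0)))) (.node 34205 (.node 34203 (.leaf 0xf0b0b0a0004) (.node 34204 (.leaf 0x30002000003010202000701000c) (.leaf 0x0))) (.node 34206 (.leaf 0xb0b0a0003) (.node 34207 (.leaf 0x0) (.leaf 0x30700070209020802040105000c))))))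

def argWS_3027 : Store := (.node 34219 (.node 34213 (.node 34210 (.node 34209 (.leaf 0x0) (.leaf 0xf0b0a0a0004)) (.node 34211 (.leaf 0x0) (.node 34212 (.leaf 0x85a200859e) (.leaf 0xa0f0b0003)))) (.node 34216 (.node 34214 (.leaf 0x0) (.node 34215 (.leaf 0x80500020106060007) (.leaf 0x0))) (.node 34217 (.leaf 0xf0b0b0a0004) (.node 34218 (.leaf 0xe0a0002) (.leaf 0xd0b0b0003))))) (.node 34225 (.node 34222 (.node 34220 (.leaf 0xb0f0a0a0004) (.node 34221 (.leaf 0x85ab0085aa) (.leaf 0xf0b0b0003))) (.node 34223 (.leaf 0x0) (.node 34224 (.leaf 0xf0b0b0a0a0005) (.leaf 0x0)))) (.node 34228 (.node 34226 (.leaf 0x0) (.node 34227 (.leaf 0x10400040005000703040103000c) (.leaf 0x0))) (.node 34229 (.leaf 0xb0f0a0a0004) (.node 34230 (.leaf 0x0) (.leaf 0xa0a0002))))))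

def argWS_3028 : Store := (.node 34208 argWS_3026 argWS_3027)

def argWS_3029 : Store := (.node 34242 (.node 34236 (.node 34233 (.node 34232 (.leaf 0x85b6000a6c) (.leaf 0x1050207000903000703040103000d)) (.node 34234 (.leaf 0x0) (.node 34235 (.leaf 0xf0b0b0003) (.leaf 0x0)))) (.node 34239 (.node 34237 (.leaf 0x1040908050005) (.node 34238 (.leaf 0x0) (.leaf 0xb0b0a0a0004))) (.node 34240 (.leaf 0xa0a0002) (.node 34241 (.leaf 0x0) (.leaf 0x502010703060802040105000b))))) (.node 34248 (.node 34245 (.node 34243 (.leaf 0x0) (.node 34244 (.leaf 0xf0b0a0003) (.leaf 0x0))) (.node 34246 (.leaf 0x20106060005) (.node 34247 (.leaf 0x0) (.leaf 0xb0b0a0a0004)))) (.node 34251 (.node 34249 (.leaf 0x0) (.node 34250 (.leaf 0x2010309000009000703040103000d) (.leaf 0x0))) (.node 34252 (.leaf 0xb0f0002) (.node 34253 (.leaf 0x0) (.leaf 0x85cc0085c8))))))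

def argWS_3030 : Store := (.node 34265 (.node 34259 (.node 34256 (.node 34255 (.leaf 0xa0f0b0b0004) (.leaf 0x0)) (.node 34257 (.leaf 0xf0b0b0a0004) (.node 34258 (.leaf 0x0) (.leaf 0x0)))) (.node 34262 (.node 34260 (.leaf 0x1030105020202010202000701000d) (.node 34261 (.leaf 0x0) (.leaf 0xf0b0a0a0004))) (.node 34263 (.leaf 0x0) (.node 34264 (.leaf 0xf0001) (.leaf 0x85d7))))) (.node 34271 (.node 34268 (.node 34266 (.leaf 0x0) (.node 34267 (.leaf 0xf0b0a0003) (.leaf 0x0))) (.node 34269 (.leaf 0x80000090206020202000701000c) (.node 34270 (.leaf 0x0) (.leaf 0xf0b0b0a0a0005)))) (.node 34274 (.node 34272 (.leaf 0x9050306010500020008) (.node 34273 (.leaf 0x0) (.leaf 0xd0b0b0003))) (.node 34275 (.leaf 0x0) (.node 34276 (.leaf 0xe0d0002) (.leaf 0x85e3))))))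

def argWS_3031 : Store := (.node 34254 argWS_3029 argWS_3030)

def argWS_3032 : Store := (.node 34231 argWS_3028 argWS_3031)

def argWS_3033 : Store := (.node 34186 argWS_3025 argWS_3032)

def argWS_3034 : Store := (.node 34096 argWS_3018 argWS_3033)

def argWS_3035 : Store := (.node 34288 (.node 34282 (.node 34279 (.node 34278 (.leaf 0x0) (.leaf 0xd0b0b0003)) (.node 34280 (.leaf 0x0) (.node 34281 (.leaf 0x20205020202010007) (.leaf 0x0)))) (.node 34285 (.node 34283 (.leaf 0xb0b0a0003) (.node 34284 (.leaf 0x0) (.leaf 0x0))) (.node 34286 (.leaf 0xb0a0f0003) (.node 34287 (.leaf 0x3070002000003010802040105000d) (.leaf 0x0))))) (.node 34293 (.node 34290 (.node 34289 (.leaf 0x0) (.leaf 0x0)) (.node 34291 (.leaf 0x5080002) (.node 34292 (.leaf 0x0) (.leaf 0xb0b0a0a0004)))) (.node 34296 (.node 34294 (.leaf 0xf0a0002) (.node 34295 (.leaf 0xd0001) (.leaf 0x403070209020006))) (.node 34297 (.leaf 0x0) (.node 34298 (.leaf 0x0) (.leaf 0xe0d0002))))))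

def argWS_3036 : Store := (.node 34310 (.node 34304 (.node 34301 (.node 34300 (.leaf 0x85fa0085f9) (.leaf 0x40000030000000703040103000c)) (.node 34302 (.leaf 0x0) (.node 34303 (.leaf 0xb0a0002) (.leaf 0x0)))) (.node 34307 (.node 34305 (.leaf 0xe0a0a0003) (.node 34306 (.leaf 0x0) (.leaf 0x0))) (.node 34308 (.leaf 0x800050206040202000701000b) (.node 34309 (.leaf 0x0) (.leaf 0xb0f0002))))) (.node 34316 (.node 34313 (.node 34311 (.leaf 0xa0f0b0b0004) (.node 34312 (.leaf 0x10903070209020202000701000c) (.leaf 0x0))) (.node 34314 (.leaf 0xa0f0b0b0004) (.node 34315 (.leaf 0x0) (.leaf 0x10301090806000802040105000c)))) (.node 34319 (.node 34317 (.leaf 0x0) (.node 34318 (.leaf 0xa0f0002) (.leaf 0x0))) (.node 34320 (.leaf 0x860e00860a) (.node 34321 (.leaf 0x1070000030306040008) (.leaf 0x0))))))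

def argWS_3037 : Store := (.node 34299 argWS_3035 argWS_3036)

def argWS_3038 : Store := (.node 34333 (.node 34327 (.node 34324 (.node 34323 (.leaf 0xf0a0a0003) (.leaf 0xd0b0b0003)) (.node 34325 (.leaf 0x4000307020600000703040103000d) (.node 34326 (.leaf 0x0) (.leaf 0xb0f0a0003)))) (.node 34330 (.node 34328 (.leaf 0x0) (.node 34329 (.leaf 0x3000400050202000701000a) (.leaf 0x0))) (.node 34331 (.leaf 0xf0b0b0a0a0005) (.node 34332 (.leaf 0x0) (.leaf 0x50003010102000007))))) (.node 34338 (.node 34335 (.node 34334 (.leaf 0x0) (.leaf 0xf0a0a0003)) (.node 34336 (.leaf 0x0) (.node 34337 (.leaf 0x861f00861b) (.leaf 0x0)))) (.node 34341 (.node 34339 (.leaf 0xe0001) (.node 34340 (.leaf 0x0) (.leaf 0xe0001))) (.node 34342 (.leaf 0x0) (.node 34343 (.leaf 0x0) (.leaf 0xa0001))))))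

def argWS_3039 : Store := (.node 34355 (.node 34349 (.node 34346 (.node 34345 (.leaf 0x304000508020401050009) (.leaf 0x0)) (.node 34347 (.leaf 0xb0b0002) (.node 34348 (.leaf 0x0) (.leaf 0xb0b0002)))) (.node 34352 (.node 34350 (.leaf 0xf0001) (.node 34351 (.leaf 0x862d00862c) (.leaf 0xf0001))) (.node 34353 (.leaf 0x0) (.node 34354 (.leaf 0xe0a0a0003) (.leaf 0x0))))) (.node 34361 (.node 34358 (.node 34356 (.leaf 0x0) (.node 34357 (.leaf 0x0) (.leaf 0x90700070206000202000701000c))) (.node 34359 (.leaf 0x0) (.node 34360 (.leaf 0xb0a0002) (.leaf 0x0)))) (.node 34364 (.node 34362 (.leaf 0x409010608020401050009) (.node 34363 (.leaf 0x0) (.leaf 0xe0001))) (.node 34365 (.leaf 0x0) (.node 34366 (.leaf 0x863c008638) (.leaf 0xf0b0b0003))))))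

def argWS_3040 : Store := (.node 34344 argWS_3038 argWS_3039)

def argWS_3041 : Store := (.node 34322 argWS_3037 argWS_3040)

def argWS_3042 : Store := (.node 34378 (.node 34372 (.node 34369 (.node 34368 (.leaf 0x0) (.leaf 0xb0b0a0a0004)) (.node 34370 (.leaf 0x0) (.node 34371 (.leaf 0x0) (.leaf 0x5030004080703040103000a)))) (.node 34375 (.node 34373 (.leaf 0x0) (.node 34374 (.leaf 0x0) (.leaf 0x8645))) (.node 34376 (.leaf 0xa0a0002) (.node 34377 (.leaf 0x0) (.leaf 0xb0001))))) (.node 34383 (.node 34380 (.node 34379 (.leaf 0x0) (.leaf 0xb0f0002)) (.node 34381 (.leaf 0x0) (.node 34382 (.leaf 0xf0b0a0a0004) (.leaf 0xa0f0b0003)))) (.node 34386 (.node 34384 (.leaf 0xf0b0a0003) (.node 34385 (.leaf 0x864f00864e) (.leaf 0x20601020901060007))) (.node 34387 (.leaf 0x0) (.node 34388 (.leaf 0xe0d0002) (.leaf 0x0))))))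

def argWS_3043 : Store := (.node 34400 (.node 34394 (.node 34391 (.node 34390 (.leaf 0x1070007020600000703040103000d) (.leaf 0x0)) (.node 34392 (.leaf 0xa0a0002) (.node 34393 (.leaf 0x20502050202020703040103000c) (.leaf 0x603010400050006)))) (.node 34397 (.node 34395 (.leaf 0x0) (.node 34396 (.leaf 0xa0f0b0b0004) (.leaf 0x0))) (.node 34398 (.leaf 0xf0b0a0a0004) (.node 34399 (.leaf 0xf0b0b0a0004) (.leaf 0x865e00865d))))) (.node 34406 (.node 34403 (.node 34401 (.leaf 0xe0d0002) (.node 34402 (.leaf 0x0) (.leaf 0x40900090004))) (.node 34404 (.leaf 0x0) (.node 34405 (.leaf 0xd0b0b0003) (.leaf 0x7d39)))) (.node 34409 (.node 34407 (.leaf 0xd0b0002) (.node 34408 (.leaf 0x0) (.leaf 0x80101010904020802040105000c))) (.node 34410 (.leaf 0x0) (.node 34411 (.leaf 0xb0a0002) (.leaf 0xb0f0a0a0004))))))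

def argWS_3044 : Store := (.node 34389 argWS_3042 argWS_3043)

def argWS_3045 : Store := (.node 34423 (.node 34417 (.node 34414 (.node 34413 (.leaf 0x703080007030401030009) (.leaf 0x0)) (.node 34415 (.leaf 0xe0001) (.node 34416 (.leaf 0x0) (.leaf 0xb0a0002)))) (.node 34420 (.node 34418 (.leaf 0x867000866f) (.node 34419 (.leaf 0xf0a0a0003) (.leaf 0x0))) (.node 34421 (.leaf 0xa0f0b0b0004) (.node 34422 (.leaf 0x0) (.leaf 0x0))))) (.node 34428 (.node 34425 (.node 34424 (.leaf 0x1050205020202010202000701000d) (.leaf 0xb0f0a0003)) (.node 34426 (.leaf 0xf0b0b0a0004) (.node 34427 (.leaf 0x10306030500040202000701000c) (.leaf 0x0)))) (.node 34431 (.node 34429 (.leaf 0x0) (.node 34430 (.leaf 0x525900867c) (.leaf 0x1030000090206020202000701000d))) (.node 34432 (.leaf 0x0) (.node 34433 (.leaf 0xf0a0a0003) (.leaf 0x0))))))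

def argWS_3046 : Store := (.node 34445 (.node 34439 (.node 34436 (.node 34435 (.leaf 0x201090106000703040103000b) (.leaf 0x0)) (.node 34437 (.leaf 0xf0001) (.node 34438 (.leaf 0xf0b0b0003) (.leaf 0x0)))) (.node 34442 (.node 34440 (.leaf 0x60101090805000703040103000c) (.node 34441 (.leaf 0x0) (.leaf 0xf0b0b0a0004))) (.node 34443 (.leaf 0x0) (.node 34444 (.leaf 0x868a) (.leaf 0xd0b0002))))) (.node 34451 (.node 34448 (.node 34446 (.leaf 0x0) (.node 34447 (.leaf 0xb0f0002) (.leaf 0x0))) (.node 34449 (.leaf 0x0) (.node 34450 (.leaf 0xe0a0002) (.leaf 0x40300070209020202000701000c)))) (.node 34454 (.node 34452 (.leaf 0x0) (.node 34453 (.leaf 0xe0a0002) (.leaf 0x0))) (.node 34455 (.leaf 0x703010102000202000701000c) (.node 34456 (.leaf 0x0) (.leaf 0xf0a0002))))))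

def argWS_3047 : Store := (.node 34434 argWS_3045 argWS_3046)

def argWS_3048 : Store := (.node 34412 argWS_3044 argWS_3047)

def argWS_3049 : Store := (.node 34367 argWS_3041 argWS_3048)

def argWS_3050 : Store := (.node 34468 (.node 34462 (.node 34459 (.node 34458 (.leaf 0x0) (.leaf 0x8699008695)) (.node 34460 (.leaf 0x0) (.node 34461 (.leaf 0x10106020702010202000701000c) (.leaf 0x0)))) (.node 34465 (.node 34463 (.leaf 0xa0f0b0003) (.node 34464 (.leaf 0xb0b0a0a0004) (.leaf 0x3010400050005))) (.node 34466 (.leaf 0x0) (.node 34467 (.leaf 0xb0a0a0003) (.leaf 0x0))))) (.node 34473 (.node 34470 (.node 34469 (.leaf 0x86a3) (.leaf 0x9040002080400000703040103000d)) (.node 34471 (.leaf 0x0) (.node 34472 (.leaf 0xf0a0a0003) (.leaf 0x0)))) (.node 34476 (.node 34474 (.leaf 0x204090206020006) (.node 34475 (.leaf 0x0) (.leaf 0xa0f0b0003))) (.node 34477 (.leaf 0x4030908050005) (.node 34478 (.leaf 0x0) (.leaf 0x0))))))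

def argWS_3051 : Store := (.node 34490 (.node 34484 (.node 34481 (.node 34480 (.leaf 0x50305090806000202000701000c) (.leaf 0x0)) (.node 34482 (.leaf 0x0) (.node 34483 (.leaf 0x86b1) (.leaf 0xa0001)))) (.node 34487 (.node 34485 (.leaf 0x0) (.node 34486 (.leaf 0xf0001) (.leaf 0x0))) (.node 34488 (.leaf 0x0) (.node 34489 (.leaf 0xd0001) (.leaf 0xb0b0a0003))))) (.node 34496 (.node 34493 (.node 34491 (.leaf 0x86b9) (.node 34492 (.leaf 0xf0a0002) (.leaf 0x0))) (.node 34494 (.leaf 0xf0b0a0a0004) (.node 34495 (.leaf 0x0) (.leaf 0x0)))) (.node 34499 (.node 34497 (.leaf 0x602010703060802040105000b) (.node 34498 (.leaf 0x0) (.leaf 0xf0001))) (.node 34500 (.leaf 0x0) (.node 34501 (.leaf 0xf0b0a0a0004) (.leaf 0x86c4))))))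

def argWS_3052 : Store := (.node 34479 argWS_3050 argWS_3051)

def argWS_3053 : Store := (.node 34513 (.node 34507 (.node 34504 (.node 34503 (.leaf 0x90700090806000802040105000c) (.leaf 0x0)) (.node 34505 (.leaf 0xf0b0b0a0a0005) (.node 34506 (.leaf 0x0) (.leaf 0x801010900090802040105000b)))) (.node 34510 (.node 34508 (.leaf 0x0) (.node 34509 (.leaf 0xf0b0b0a0a0005) (.leaf 0xb0b0002))) (.node 34511 (.leaf 0xf0b0a0a0004) (.node 34512 (.leaf 0xf0b0b0a0a0005) (.leaf 0x86cf))))) (.node 34518 (.node 34515 (.node 34514 (.leaf 0x20901060802040105000b) (.leaf 0x0)) (.node 34516 (.leaf 0xf0b0b0a0a0005) (.node 34517 (.leaf 0x0) (.leaf 0xf0001)))) (.node 34521 (.node 34519 (.leaf 0x0) (.node 34520 (.leaf 0x0) (.leaf 0x8050007020902000703040103000d))) (.node 34522 (.leaf 0x0) (.node 34523 (.leaf 0xf0b0b0003) (.leaf 0x0))))))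

def argWS_3054 : Store := (.node 34535 (.node 34529 (.node 34526 (.node 34525 (.leaf 0x6020400050802040105000a) (.leaf 0x0)) (.node 34527 (.leaf 0xe0001) (.node 34528 (.leaf 0x0) (.leaf 0x86df)))) (.node 34532 (.node 34530 (.leaf 0x40004090000090802040105000c) (.node 34531 (.leaf 0x0) (.leaf 0xa0a0002))) (.node 34533 (.leaf 0x0) (.node 34534 (.leaf 0x60908050202000701000a) (.leaf 0x0))))) (.node 34541 (.node 34538 (.node 34536 (.leaf 0xb0b0a0003) (.node 34537 (.leaf 0x1020202010606000703040103000d) (.leaf 0x0))) (.node 34539 (.leaf 0x0) (.node 34540 (.leaf 0x5020106030500040202000701000d) (.leaf 0x0)))) (.node 34544 (.node 34542 (.leaf 0xf0a0002) (.node 34543 (.leaf 0x0) (.leaf 0xf0a0002))) (.node 34545 (.leaf 0x86ef) (.node 34546 (.leaf 0x109030401050006) (.leaf 0x0))))))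

def argWS_3055 : Store := (.node 34524 argWS_3053 argWS_3054)

def argWS_3056 : Store := (.node 34502 argWS_3052 argWS_3055)

def argWS_3057 : Store := (.node 34558 (.node 34552 (.node 34549 (.node 34548 (.leaf 0xb0f0002) (.leaf 0x0)) (.node 34550 (.leaf 0xf0b0b0a0a0005) (.node 34551 (.leaf 0x0) (.leaf 0x0)))) (.node 34555 (.node 34553 (.leaf 0x6060106020702010008) (.node 34554 (.leaf 0x6050109080600000703040103000d) (.leaf 0x0))) (.node 34556 (.leaf 0xb0a0f0003) (.node 34557 (.leaf 0x0) (.leaf 0x5020000020804000802040105000d))))) (.node 34563 (.node 34560 (.node 34559 (.leaf 0x0) (.leaf 0xe0001)) (.node 34561 (.leaf 0x0) (.node 34562 (.leaf 0xf0b0002) (.leaf 0x8701008700)))) (.node 34566 (.node 34564 (.leaf 0x205020900090802040105000b) (.node 34565 (.leaf 0x0) (.leaf 0xb0a0f0003))) (.node 34567 (.leaf 0x0) (.node 34568 (.leaf 0x60601020106060802040105000c) (.leaf 0x0))))))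

def argWS_3058 : Store := (.node 34580 (.node 34574 (.node 34571 (.node 34570 (.leaf 0xb0f0a0003) (.leaf 0xe0d0002)) (.node 34572 (.leaf 0xf0b0b0a0004) (.node 34573 (.leaf 0xb0001) (.leaf 0xb0f0a0a0004)))) (.node 34577 (.node 34575 (.leaf 0x870d00870c) (.node 34576 (.leaf 0x2020006020702010202000701000d) (.leaf 0x0))) (.node 34578 (.leaf 0xb0f0a0003) (.node 34579 (.leaf 0x0) (.leaf 0xf0b0002))))) (.node 34586 (.node 34583 (.node 34581 (.leaf 0x0) (.node 34582 (.leaf 0x0) (.leaf 0xf0b0b0003))) (.node 34584 (.leaf 0xf0b0b0003) (.node 34585 (.leaf 0x8010106020702010802040105000d) (.leaf 0x0)))) (.node 34589 (.node 34587 (.leaf 0xb0b0a0003) (.node 34588 (.leaf 0x0) (.leaf 0x871b008717))) (.node 34590 (.leaf 0x5020109080600000703040103000d) (.node 34591 (.leaf 0x0) (.leaf 0xe0a0002))))))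

def argWS_3059 : Store := (.node 34569 argWS_3057 argWS_3058)

def argWS_3060 : Store := (.node 34603 (.node 34597 (.node 34594 (.node 34593 (.leaf 0x0) (.leaf 0x6010200020804000202000701000d)) (.node 34595 (.leaf 0x0) (.node 34596 (.leaf 0xe0d0002) (.leaf 0xd0001)))) (.node 34600 (.node 34598 (.leaf 0x70503010102000007) (.node 34599 (.leaf 0x0) (.leaf 0xf0b0a0003))) (.node 34601 (.leaf 0x0) (.node 34602 (.leaf 0x8728) (.leaf 0xf0001))))) (.node 34609 (.node 34606 (.node 34604 (.leaf 0x0) (.node 34605 (.leaf 0x8000003010102000202000701000d) (.leaf 0x0))) (.node 34607 (.leaf 0xd0b0002) (.node 34608 (.leaf 0xd0b0b0003) (.leaf 0xb0a0002)))) (.node 34612 (.node 34610 (.leaf 0x60401010904020202000701000c) (.node 34611 (.leaf 0x0) (.leaf 0xf0b0a0003))) (.node 34613 (.leaf 0x0) (.node 34614 (.leaf 0x200040005000703040103000b) (.leaf 0x0))))))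

def argWS_3061 : Store := (.node 34626 (.node 34620 (.node 34617 (.node 34616 (.leaf 0xa0f0b0b0004) (.leaf 0x0)) (.node 34618 (.leaf 0x8738008734) (.node 34619 (.leaf 0xa0001) (.leaf 0x0)))) (.node 34623 (.node 34621 (.leaf 0xb0b0a0003) (.node 34622 (.leaf 0x0) (.leaf 0x0))) (.node 34624 (.leaf 0x502010908050202000701000b) (.node 34625 (.leaf 0x0) (.leaf 0xd0001))))) (.node 34632 (.node 34629 (.node 34627 (.leaf 0x0) (.node 34628 (.leaf 0x20900000202000701000a) (.leaf 0x0))) (.node 34630 (.leaf 0xa0f0b0b0004) (.node 34631 (.leaf 0x0) (.leaf 0x8746008742)))) (.node 34635 (.node 34633 (.leaf 0xa0a0002) (.node 34634 (.leaf 0x0) (.leaf 0x30305020202010202000701000c))) (.node 34636 (.leaf 0x0) (.node 34637 (.leaf 0xb0a0f0003) (.leaf 0xf0a0002))))))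

def argWS_3062 : Store := (.node 34615 argWS_3060 argWS_3061)

def argWS_3063 : Store := (.node 34592 argWS_3059 argWS_3062)

def argWS_3064 : Store := (.node 34547 argWS_3056 argWS_3063)

def argWS_3065 : Store := (.node 34457 argWS_3049 argWS_3064)

def argWS_3066 : Store := (.node 34277 argWS_3034 argWS_3065)

def argWS_3067 : Store := (.node 33916 argWS_3003 argWS_3066)

def argWS_3068 : Store := (.node 33194 argWS_2940 argWS_3067)

def argWS_3069 : Store := (.node 31751 argWS_2813 argWS_3068)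

def argWS_3070 : Store := (.node 28865 argWS_2558 argWS_3069)

def argWS_3071 : Store := (.node 34649 (.node 34643 (.node 34640 (.node 34639 (.leaf 0x0) (.leaf 0x90104000408010007)) (.node 34641 (.leaf 0x3070006020702010202000701000d) (.node 34642 (.leaf 0x0) (.leaf 0x0)))) (.node 34646 (.node 34644 (.leaf 0x0) (.node 34645 (.leaf 0xf0001) (.leaf 0x0))) (.node 34647 (.leaf 0x605020604000703040103000c) (.node 34648 (.leaf 0x0) (.leaf 0xb0a0002))))) (.node 34654 (.node 34651 (.node 34650 (.leaf 0x0) (.leaf 0x8759008755)) (.node 34652 (.leaf 0xb0f0a0003) (.node 34653 (.leaf 0x0) (.leaf 0x6000009080600000703040103000d)))) (.node 34657 (.node 34655 (.leaf 0x0) (.node 34656 (.leaf 0xb0f0a0003) (.leaf 0x506020702010802040105000b))) (.node 34658 (.leaf 0x0) (.node 34659 (.leaf 0xf0b0a0003) (.leaf 0x0))))))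

def argWS_3072 : Store := (.node 34671 (.node 34665 (.node 34662 (.node 34661 (.leaf 0x30409000009000703040103000c) (.leaf 0x0)) (.node 34663 (.leaf 0xe0001) (.node 34664 (.leaf 0x0) (.leaf 0x8767)))) (.node 34668 (.node 34666 (.leaf 0x20508020401050007) (.node 34667 (.leaf 0x0) (.leaf 0x0))) (.node 34669 (.leaf 0xe0d0002) (.node 34670 (.leaf 0x0) (.leaf 0x0))))) (.node 34677 (.node 34674 (.node 34672 (.leaf 0xa0f0b0003) (.node 34673 (.leaf 0x60505020202010202000701000c) (.leaf 0x0))) (.node 34675 (.leaf 0xa0f0002) (.node 34676 (.leaf 0x0) (.leaf 0x2020900000802040105000a)))) (.node 34680 (.node 34678 (.leaf 0x0) (.node 34679 (.leaf 0xf0b0b0a0a0005) (.leaf 0x0))) (.node 34681 (.leaf 0x8777008773) (.node 34682 (.leaf 0xb0a0f0003) (.leaf 0x0))))))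

def argWS_3073 : Store := (.node 34660 argWS_3071 argWS_3072)

def argWS_3074 : Store := (.node 34694 (.node 34688 (.node 34685 (.node 34684 (.leaf 0xf0a0a0003) (.leaf 0x0)) (.node 34686 (.leaf 0x0) (.node 34687 (.leaf 0xa0f0002) (.leaf 0x605010900090006)))) (.node 34691 (.node 34689 (.leaf 0x0) (.node 34690 (.leaf 0xa0001) (.leaf 0x0))) (.node 34692 (.leaf 0x878200877e) (.node 34693 (.leaf 0xb0b0a0003) (.leaf 0x0))))) (.node 34699 (.node 34696 (.node 34695 (.leaf 0x0) (.leaf 0xd0b0b0003)) (.node 34697 (.leaf 0xb0f0002) (.node 34698 (.leaf 0x90000000300000202000701000d) (.leaf 0x0)))) (.node 34702 (.node 34700 (.leaf 0xd0001) (.node 34701 (.leaf 0x0) (.leaf 0x878c008788))) (.node 34703 (.leaf 0xf0b0b0a0a0005) (.node 34704 (.leaf 0x0) (.leaf 0xf0a0a0003))))))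

def argWS_3075 : Store := (.node 34716 (.node 34710 (.node 34707 (.node 34706 (.leaf 0x0) (.leaf 0xe0d0002)) (.node 34708 (.leaf 0x206030306040802040105000b) (.node 34709 (.leaf 0x0) (.leaf 0xa0001)))) (.node 34713 (.node 34711 (.leaf 0x0) (.node 34712 (.leaf 0xb0b0002) (.leaf 0x8797008796))) (.node 34714 (.leaf 0x90503070206000802040105000c) (.node 34715 (.leaf 0x0) (.leaf 0xe0001))))) (.node 34722 (.node 34719 (.node 34717 (.leaf 0x0) (.node 34718 (.leaf 0xd0001) (.leaf 0x0))) (.node 34720 (.leaf 0x0) (.node 34721 (.leaf 0xf0a0a0003) (.leaf 0x406030500040006)))) (.node 34725 (.node 34723 (.leaf 0x0) (.node 34724 (.leaf 0xb0f0a0003) (.leaf 0x0))) (.node 34726 (.leaf 0x87a4) (.node 34727 (.leaf 0xa0f0002) (.leaf 0x0))))))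

def argWS_3076 : Store := (.node 34705 argWS_3074 argWS_3075)

def argWS_3077 : Store := (.node 34683 argWS_3073 argWS_3076)

def argWS_3078 : Store := (.node 34739 (.node 34733 (.node 34730 (.node 34729 (.leaf 0xb0f0002) (.leaf 0x0)) (.node 34731 (.leaf 0x0) (.node 34732 (.leaf 0x90303010102000802040105000c) (.leaf 0x4030006010500020802040105000d)))) (.node 34736 (.node 34734 (.leaf 0x0) (.node 34735 (.leaf 0xb0a0f0003) (.leaf 0x0))) (.node 34737 (.leaf 0x503010703060802040105000b) (.node 34738 (.leaf 0x0) (.leaf 0xb0a0002))))) (.node 34744 (.node 34741 (.node 34740 (.leaf 0x0) (.leaf 0x80500000408010007)) (.node 34742 (.leaf 0x0) (.node 34743 (.leaf 0xa0f0b0003) (.leaf 0x0)))) (.node 34747 (.node 34745 (.leaf 0x87b70087b3) (.node 34746 (.leaf 0x4000508020401050008) (.leaf 0x0))) (.node 34748 (.leaf 0xe0001) (.node 34749 (.leaf 0x0) (.leaf 0x30409080600000703040103000c))))))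

def argWS_3079 : Store := (.node 34761 (.node 34755 (.node 34752 (.node 34751 (.leaf 0x0) (.leaf 0xf0001)) (.node 34753 (.leaf 0xb0f0002) (.node 34754 (.leaf 0x20505020202010802040105000c) (.leaf 0x0)))) (.node 34758 (.node 34756 (.leaf 0xf0a0a0003) (.node 34757 (.leaf 0x0) (.leaf 0x87c40087c0))) (.node 34759 (.leaf 0x4030000030306040008) (.node 34760 (.leaf 0x0) (.leaf 0xa0001))))) (.node 34767 (.node 34764 (.node 34762 (.leaf 0x0) (.node 34763 (.leaf 0x5000908050202000701000a) (.leaf 0x0))) (.node 34765 (.leaf 0xb0f0002) (.node 34766 (.leaf 0xd0b0002) (.leaf 0x900090202000701000a)))) (.node 34770 (.node 34768 (.leaf 0x0) (.node 34769 (.leaf 0xd0b0b0003) (.leaf 0x0))) (.node 34771 (.leaf 0x0) (.node 34772 (.leaf 0x400050202020703040103000c) (.leaf 0x0))))))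

def argWS_3080 : Store := (.node 34750 argWS_3078 argWS_3079)

def argWS_3081 : Store := (.node 34784 (.node 34778 (.node 34775 (.node 34774 (.leaf 0xb0b0002) (.leaf 0x0)) (.node 34776 (.leaf 0x87d60087d2) (.node 34777 (.leaf 0xb0f0a0a0004) (.leaf 0x0)))) (.node 34781 (.node 34779 (.leaf 0x3070002010606000703040103000d) (.node 34780 (.leaf 0x0) (.leaf 0xb0f0a0a0004))) (.node 34782 (.leaf 0x1040009080600000703040103000d) (.node 34783 (.leaf 0x0) (.leaf 0xe0a0002))))) (.node 34789 (.node 34786 (.node 34785 (.leaf 0x0) (.leaf 0x502010904020202000701000b)) (.node 34787 (.leaf 0x0) (.node 34788 (.leaf 0x0) (.leaf 0xf0a0a0003)))) (.node 34792 (.node 34790 (.leaf 0x87e40087e3) (.node 34791 (.leaf 0x60000020000030703040103000c) (.leaf 0x0))) (.node 34793 (.leaf 0xf0a0a0003) (.node 34794 (.leaf 0x0) (.leaf 0x50200060207020703040103000c))))))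

def argWS_3082 : Store := (.node 34806 (.node 34800 (.node 34797 (.node 34796 (.leaf 0x0) (.leaf 0xd0b0b0003)) (.node 34798 (.leaf 0xb0a0a0003) (.node 34799 (.leaf 0x50306030500040202000701000d) (.leaf 0x0)))) (.node 34803 (.node 34801 (.leaf 0xf0a0002) (.node 34802 (.leaf 0x0) (.leaf 0x87f1005c63))) (.node 34804 (.leaf 0xb0f0a0a0004) (.node 34805 (.leaf 0x0) (.leaf 0xf0001))))) (.node 34812 (.node 34809 (.node 34807 (.leaf 0x0) (.node 34808 (.leaf 0x0) (.leaf 0xb0f0002))) (.node 34810 (.leaf 0xa0001) (.node 34811 (.leaf 0x6020000000300000202000701000d) (.leaf 0x0)))) (.node 34815 (.node 34813 (.leaf 0xb0001) (.node 34814 (.leaf 0x0) (.leaf 0x87fd0087f9))) (.node 34816 (.leaf 0x60000020901060802040105000c) (.node 34817 (.leaf 0x0) (.leaf 0xd0b0002))))))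

def argWS_3083 : Store := (.node 34795 argWS_3081 argWS_3082)

def argWS_3084 : Store := (.node 34773 argWS_3080 argWS_3083)

def argWS_3085 : Store := (.node 34728 argWS_3077 argWS_3084)

def argWS_3086 : Store := (.node 34829 (.node 34823 (.node 34820 (.node 34819 (.leaf 0x0) (.leaf 0xb0b0a0003)) (.node 34821 (.leaf 0x0) (.node 34822 (.leaf 0x0) (.leaf 0xf0b0b0003)))) (.node 34826 (.node 34824 (.leaf 0x88060015e7) (.node 34825 (.leaf 0x20000000300000802040105000d) (.leaf 0x0))) (.node 34827 (.leaf 0xb0a0f0003) (.node 34828 (.leaf 0x0) (.leaf 0xa0a0002))))) (.node 34834 (.node 34831 (.node 34830 (.leaf 0x0) (.leaf 0x0)) (.node 34832 (.leaf 0xe0001) (.node 34833 (.leaf 0x305060207020703040103000b) (.leaf 0x0)))) (.node 34837 (.node 34835 (.leaf 0xb0001) (.node 34836 (.leaf 0x0) (.leaf 0xf0b0a0003))) (.node 34838 (.leaf 0x8814008813) (.node 34839 (.leaf 0xa0f0b0003) (.leaf 0x0))))))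

def argWS_3087 : Store := (.node 34851 (.node 34845 (.node 34842 (.node 34841 (.leaf 0x40205090806000007) (.leaf 0x0)) (.node 34843 (.leaf 0x20904020005) (.node 34844 (.leaf 0x0) (.leaf 0xb0f0a0003)))) (.node 34848 (.node 34846 (.leaf 0x0) (.node 34847 (.leaf 0x10201090806000202000701000c) (.leaf 0x0))) (.node 34849 (.leaf 0xb0b0a0a0004) (.node 34850 (.leaf 0x0) (.leaf 0x30000020804000802040105000c))))) (.node 34857 (.node 34854 (.node 34852 (.leaf 0x0) (.node 34853 (.leaf 0xf0001) (.leaf 0x0))) (.node 34855 (.leaf 0x8825008821) (.node 34856 (.leaf 0x906030003) (.leaf 0x0)))) (.node 34860 (.node 34858 (.leaf 0xd0001) (.node 34859 (.leaf 0x0) (.leaf 0xd0b0002))) (.node 34861 (.leaf 0x0) (.node 34862 (.leaf 0x0) (.leaf 0xe0a0a0003))))))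

def argWS_3088 : Store := (.node 34840 argWS_3086 argWS_3087)

def argWS_3089 : Store := (.node 34874 (.node 34868 (.node 34865 (.node 34864 (.leaf 0x20804000802040105000a) (.leaf 0x0)) (.node 34866 (.leaf 0xf0b0a0003) (.node 34867 (.leaf 0x0) (.leaf 0xf0b0b0a0a0005)))) (.node 34871 (.node 34869 (.leaf 0x8833008832) (.node 34870 (.leaf 0x60201090000090007) (.leaf 0x0))) (.node 34872 (.leaf 0xa0f0b0b0004) (.node 34873 (.leaf 0x0) (.leaf 0xe0d0002))))) (.node 34879 (.node 34876 (.node 34875 (.leaf 0x0) (.leaf 0x0)) (.node 34877 (.leaf 0xf0b0b0a0004) (.node 34878 (.leaf 0xb0b0a0003) (.leaf 0x702010908050006)))) (.node 34882 (.node 34880 (.leaf 0x0) (.node 34881 (.leaf 0xb0f0a0a0004) (.leaf 0x0))) (.node 34883 (.leaf 0x884100883d) (.node 34884 (.leaf 0xa0f0b0b0004) (.leaf 0x0))))))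

def argWS_3090 : Store := (.node 34896 (.node 34890 (.node 34887 (.node 34886 (.leaf 0x4010900090005) (.leaf 0x0)) (.node 34888 (.leaf 0xf0b0b0a0004) (.node 34889 (.leaf 0x508020401050007) (.leaf 0x0)))) (.node 34893 (.node 34891 (.leaf 0xe0a0002) (.node 34892 (.leaf 0x0) (.leaf 0x20002070209020007))) (.node 34894 (.leaf 0x0) (.node 34895 (.leaf 0xf0001) (.leaf 0x0))))) (.node 34902 (.node 34899 (.node 34897 (.leaf 0xb0f0a0a0004) (.node 34898 (.leaf 0x885000884f) (.leaf 0xb0a0002))) (.node 34900 (.leaf 0x0) (.node 34901 (.leaf 0x6030408010202000701000a) (.leaf 0x0)))) (.node 34905 (.node 34903 (.leaf 0xa0f0002) (.node 34904 (.leaf 0xe0d0002) (.leaf 0xb0f0a0003))) (.node 34906 (.leaf 0xd0b0b0003) (.node 34907 (.leaf 0x8859008858) (.leaf 0xa0f0002))))))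

def argWS_3091 : Store := (.node 34885 argWS_3089 argWS_3090)

def argWS_3092 : Store := (.node 34863 argWS_3088 argWS_3091)

def argWS_3093 : Store := (.node 34919 (.node 34913 (.node 34910 (.node 34909 (.leaf 0x0) (.leaf 0xb0001)) (.node 34911 (.leaf 0x0) (.node 34912 (.leaf 0x0) (.leaf 0x605000300000202000701000b)))) (.node 34916 (.node 34914 (.leaf 0x0) (.node 34915 (.leaf 0x0) (.leaf 0x8862))) (.node 34917 (.leaf 0xb0f0a0003) (.node 34918 (.leaf 0x0) (.leaf 0xe0a0a0003))))) (.node 34924 (.node 34921 (.node 34920 (.leaf 0x0) (.leaf 0x0)) (.node 34922 (.leaf 0x402000003010802040105000c) (.node 34923 (.leaf 0x0) (.leaf 0xe0a0a0003)))) (.node 34927 (.node 34925 (.leaf 0x0) (.node 34926 (.leaf 0x886c) (.leaf 0xf0b0a0003))) (.node 34928 (.leaf 0x0) (.node 34929 (.leaf 0xf0b0b0a0004) (.leaf 0x0))))))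

def argWS_3094 : Store := (.node 34941 (.node 34935 (.node 34932 (.node 34931 (.leaf 0x0) (.leaf 0xf0b0a0003)) (.node 34933 (.leaf 0x503050002080400000703040103000e) (.node 34934 (.leaf 0x0) (.leaf 0xa0f0002)))) (.node 34938 (.node 34936 (.leaf 0x0) (.node 34937 (.leaf 0x2040300030306040202000701000d) (.leaf 0x0))) (.node 34939 (.leaf 0xf0b0b0a0a0005) (.node 34940 (.leaf 0x0) (.leaf 0x900070206000202000701000b))))) (.node 34947 (.node 34944 (.node 34942 (.leaf 0x0) (.node 34943 (.leaf 0x0) (.leaf 0x887e00887b))) (.node 34945 (.leaf 0xb0b0002) (.node 34946 (.leaf 0x0) (.leaf 0x602020900000007)))) (.node 34950 (.node 34948 (.leaf 0x0) (.node 34949 (.leaf 0xf0a0002) (.leaf 0xa0f0b0003))) (.node 34951 (.leaf 0xf0b0a0a0004) (.node 34952 (.leaf 0x88860072d1) (.leaf 0x20400090206020202000701000c))))))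

def argWS_3095 : Store := (.node 34930 argWS_3093 argWS_3094)

def argWS_3096 : Store := (.node 34964 (.node 34958 (.node 34955 (.node 34954 (.leaf 0x0) (.leaf 0xb0001)) (.node 34956 (.leaf 0x0) (.node 34957 (.leaf 0xb0a0a0003) (.leaf 0x0)))) (.node 34961 (.node 34959 (.leaf 0x0) (.node 34960 (.leaf 0x500070206000802040105000b) (.leaf 0x0))) (.node 34962 (.leaf 0xb0001) (.node 34963 (.leaf 0x0) (.leaf 0x8892))))) (.node 34969 (.node 34966 (.node 34965 (.leaf 0x902060208020401050009) (.leaf 0x0)) (.node 34967 (.leaf 0xe0001) (.node 34968 (.leaf 0x0) (.leaf 0xe0a0a0003)))) (.node 34972 (.node 34970 (.leaf 0x0) (.node 34971 (.leaf 0x0) (.leaf 0x6030103010102000802040105000d))) (.node 34973 (.leaf 0x0) (.node 34974 (.leaf 0xd0b0002) (.leaf 0x0))))))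

def argWS_3097 : Store := (.node 34986 (.node 34980 (.node 34977 (.node 34976 (.leaf 0xf0001) (.leaf 0x889f)) (.node 34978 (.leaf 0xb0f0002) (.node 34979 (.leaf 0x0) (.leaf 0x200020804000007)))) (.node 34983 (.node 34981 (.leaf 0x0) (.node 34982 (.leaf 0xf0a0002) (.leaf 0xa0001))) (.node 34984 (.leaf 0x200090109000703040103000b) (.node 34985 (.leaf 0x0) (.leaf 0xd0b0b0003))))) (.node 34992 (.node 34989 (.node 34987 (.leaf 0x0) (.node 34988 (.leaf 0x88aa0088a6) (.leaf 0x4000306020702010802040105000d))) (.node 34990 (.leaf 0x0) (.node 34991 (.leaf 0xf0a0a0003) (.leaf 0x0)))) (.node 34995 (.node 34993 (.leaf 0x0) (.node 34994 (.leaf 0xb0a0002) (.leaf 0x202000308000703040103000b))) (.node 34996 (.leaf 0x0) (.node 34997 (.leaf 0xf0001) (.leaf 0x0))))))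

def argWS_3098 : Store := (.node 34975 argWS_3096 argWS_3097)

def argWS_3099 : Store := (.node 34953 argWS_3095 argWS_3098)

def argWS_3100 : Store := (.node 34908 argWS_3092 argWS_3099)

def argWS_3101 : Store := (.node 34818 argWS_3085 argWS_3100)

def argWS_3102 : Store := (.node 35009 (.node 35003 (.node 35000 (.node 34999 (.leaf 0xf0b0a0a0004) (.leaf 0x88b6)) (.node 35001 (.leaf 0xf0b0b0a0a0005) (.node 35002 (.leaf 0x0) (.leaf 0x6020000000300000202000701000d)))) (.node 35006 (.node 35004 (.leaf 0x0) (.node 35005 (.leaf 0xf0b0b0a0a0005) (.leaf 0xa0f0b0b0004))) (.node 35007 (.leaf 0x70000090206020202000701000c) (.node 35008 (.leaf 0x0) (.leaf 0xb0001))))) (.node 35014 (.node 35011 (.node 35010 (.leaf 0x0) (.leaf 0xb0b0002)) (.node 35012 (.leaf 0x88c20088c1) (.node 35013 (.leaf 0xb0a0a0003) (.leaf 0x0)))) (.node 35017 (.node 35015 (.leaf 0x30008020401050007) (.node 35016 (.leaf 0x0) (.leaf 0xb0a0f0003))) (.node 35018 (.leaf 0xb0001) (.node 35019 (.leaf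 0x90401070306000703040103000c) (.leaf 0x0))))))

def argWS_3103 : Store := (.node 35031 (.node 35025 (.node 35022 (.node 35021 (.leaf 0xe0d0002) (.leaf 0x0)) (.node 35023 (.leaf 0x1060207020703040103000a) (.node 35024 (.leaf 0x0) (.leaf 0xd0b0002)))) (.node 35028 (.node 35026 (.leaf 0x0) (.node 35027 (.leaf 0x88d10088cd) (.leaf 0x10400090806000007))) (.node 35029 (.leaf 0x0) (.node 35030 (.leaf 0xf0a0a0003) (.leaf 0x0))))) (.node 35037 (.node 35034 (.node 35032 (.leaf 0x8000202090000000703040103000e) (.node 35033 (.leaf 0x0) (.leaf 0xb0a0f0003))) (.node 35035 (.leaf 0x1070206000005) (.node 35036 (.leaf 0x0) (.leaf 0xd0b0002)))) (.node 35040 (.node 35038 (.leaf 0x0) (.node 35039 (.leaf 0x701010308000703040103000b) (.leaf 0x0))) (.node 35041 (.leaf 0xf0a0a0003) (.node 35042 (.leaf 0x0) (.leaf 0xf0b0002))))))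

def argWS_3104 : Store := (.node 35020 argWS_3102 argWS_3103)

def argWS_3105 : Store := (.node 35054 (.node 35048 (.node 35045 (.node 35044 (.leaf 0x0) (.leaf 0x88e30088e1)) (.node 35046 (.leaf 0xa0f0b0b0004) (.node 35047 (.leaf 0x0) (.leaf 0xf0b0b0003)))) (.node 35051 (.node 35049 (.leaf 0x0) (.node 35050 (.leaf 0x0) (.leaf 0x6000002010606000703040103000d))) (.node 35052 (.leaf 0x0) (.node 35053 (.leaf 0xb0001) (.leaf 0x0))))) (.node 35059 (.node 35056 (.node 35055 (.leaf 0xb0b0002) (.leaf 0x88ee)) (.node 35057 (.leaf 0x60000020804000802040105000d) (.node 35058 (.leaf 0x0) (.leaf 0xf0b0b0a0a0005)))) (.node 35062 (.node 35060 (.leaf 0x0) (.node 35061 (.leaf 0xf0b0a0003) (.leaf 0x0))) (.node 35063 (.leaf 0x0) (.node 35064 (.leaf 0x200020901060202000701000c) (.leaf 0x0))))))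

def argWS_3106 : Store := (.node 35076 (.node 35070 (.node 35067 (.node 35066 (.leaf 0xa0a0002) (.leaf 0x0)) (.node 35068 (.leaf 0x104000308000703040103000b) (.node 35069 (.leaf 0x0) (.leaf 0xa0f0002)))) (.node 35073 (.node 35071 (.leaf 0x0) (.node 35072 (.leaf 0x88fe) (.leaf 0xd0b0b0003))) (.node 35074 (.leaf 0x0) (.node 35075 (.leaf 0x70000090806000202000701000c) (.leaf 0x0))))) (.node 35082 (.node 35079 (.node 35077 (.leaf 0xb0f0002) (.node 35078 (.leaf 0x2050206010500020202000701000d) (.leaf 0x0))) (.node 35080 (.leaf 0xf0b0b0a0a0005) (.node 35081 (.leaf 0x0) (.leaf 0xe0a0002)))) (.node 35085 (.node 35083 (.leaf 0xd0b0b0003) (.node 35084 (.leaf 0x890a008909) (.leaf 0xe0a0002))) (.node 35086 (.leaf 0x0) (.node 35087 (.leaf 0xf0b0a0a0004) (.leaf 0x0))))))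

def argWS_3107 : Store := (.node 35065 argWS_3105 argWS_3106)

def argWS_3108 : Store := (.node 35043 argWS_3104 argWS_3107)

def argWS_3109 : Store := (.node 35099 (.node 35093 (.node 35090 (.node 35089 (.leaf 0x0) (.leaf 0x20206010500020202000701000c)) (.node 35091 (.leaf 0x0) (.node 35092 (.leaf 0x5020106030500040008) (.leaf 0x0)))) (.node 35096 (.node 35094 (.leaf 0xe0001) (.node 35095 (.leaf 0x0) (.leaf 0xf0b0b0003))) (.node 35097 (.leaf 0x9020702010005) (.node 35098 (.leaf 0x0) (.leaf 0xb0b0a0003))))) (.node 35104 (.node 35101 (.node 35100 (.leaf 0x0) (.leaf 0x891b008917)) (.node 35102 (.leaf 0xa0001) (.node 35103 (.leaf 0x0) (.leaf 0x4040003030604000703040103000d)))) (.node 35107 (.node 35105 (.leaf 0x0) (.node 35106 (.leaf 0xe0a0002) (.leaf 0x903000004080703040103000b))) (.node 35108 (.leaf 0x0) (.node 35109 (.leaf 0xf0a0a0003) (.leaf 0x0))))))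

def argWS_3110 : Store := (.node 35121 (.node 35115 (.node 35112 (.node 35111 (.leaf 0xf0b0a0a0004) (.leaf 0x8926)) (.node 35113 (.leaf 0x90503090806000202000701000c) (.node 35114 (.leaf 0x0) (.leaf 0xb0a0002)))) (.node 35118 (.node 35116 (.leaf 0x0) (.node 35117 (.leaf 0xa0a0002) (.leaf 0x0))) (.node 35119 (.leaf 0x0) (.node 35120 (.leaf 0xf0001) (.leaf 0xb0b0a0a0004))))) (.node 35127 (.node 35124 (.node 35122 (.leaf 0x8930) (.node 35123 (.leaf 0xb0a0002) (.leaf 0x0))) (.node 35125 (.leaf 0xe0001) (.node 35126 (.leaf 0x0) (.leaf 0x0)))) (.node 35130 (.node 35128 (.leaf 0x4000402020007010008) (.node 35129 (.leaf 0x0) (.leaf 0x0))) (.node 35131 (.leaf 0x70305010703060007) (.node 35132 (.leaf 0x0) (.leaf 0xf0b0a0003))))))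

def argWS_3111 : Store := (.node 35110 argWS_3109 argWS_3110)

def argWS_3112 : Store := (.node 35144 (.node 35138 (.node 35135 (.node 35134 (.leaf 0x0) (.leaf 0x1040002020007010008)) (.node 35136 (.leaf 0x0) (.node 35137 (.leaf 0xa0f0b0003) (.leaf 0x0)))) (.node 35141 (.node 35139 (.leaf 0x894100893d) (.node 35140 (.leaf 0x0) (.leaf 0xf0b0a0003))) (.node 35142 (.leaf 0x0) (.node 35143 (.leaf 0xf0b0a0a0004) (.leaf 0x0))))) (.node 35149 (.node 35146 (.node 35145 (.leaf 0x0) (.leaf 0x202090106000703040103000b)) (.node 35147 (.leaf 0x0) (.node 35148 (.leaf 0xf0a0a0003) (.leaf 0x0)))) (.node 35152 (.node 35150 (.leaf 0xe0a0002) (.node 35151 (.leaf 0xe0a0002) (.leaf 0x894e00894d))) (.node 35153 (.leaf 0xa0f0002) (.node 35154 (.leaf 0x0) (.leaf 0xb0b0002))))))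

def argWS_3113 : Store := (.node 35166 (.node 35160 (.node 35157 (.node 35156 (.leaf 0x0) (.leaf 0x0)) (.node 35158 (.leaf 0xb0b0a0a0004) (.node 35159 (.leaf 0xb0a0002) (.leaf 0x10400000300000202000701000c)))) (.node 35163 (.node 35161 (.leaf 0x0) (.node 35162 (.leaf 0xf0b0b0a0004) (.leaf 0x0))) (.node 35164 (.leaf 0x895a008956) (.node 35165 (.leaf 0x30109000009000703040103000c) (.leaf 0x0))))) (.node 35172 (.node 35169 (.node 35167 (.leaf 0xf0b0002) (.node 35168 (.leaf 0x0) (.leaf 0x1050200020804000802040105000d))) (.node 35170 (.leaf 0x0) (.node 35171 (.leaf 0xe0a0002) (.leaf 0xf0b0a0a0004)))) (.node 35175 (.node 35173 (.leaf 0x63ab0070d2) (.node 35174 (.leaf 0xd0001) (.leaf 0x0))) (.node 35176 (.leaf 0xb0b0002) (.node 35177 (.leaf 0x0) (.leaf 0x0))))))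

def argWS_3114 : Store := (.node 35155 argWS_3112 argWS_3113)

def argWS_3115 : Store := (.node 35133 argWS_3111 argWS_3114)

def argWS_3116 : Store := (.node 35088 argWS_3108 argWS_3115)

def argWS_3117 : Store := (.node 35189 (.node 35183 (.node 35180 (.node 35179 (.leaf 0xb0f0a0a0004) (.leaf 0xa0a0002)) (.node 35181 (.leaf 0x90400000300000202000701000c) (.node 35182 (.leaf 0x0) (.leaf 0xd0001)))) (.node 35186 (.node 35184 (.leaf 0x0) (.node 35185 (.leaf 0x896f00896b) (.leaf 0x200000908020401050009))) (.node 35187 (.leaf 0x0) (.node 35188 (.leaf 0xb0001) (.leaf 0x0))))) (.node 35194 (.node 35191 (.node 35190 (.leaf 0x809080502020007010009) (.leaf 0x0)) (.node 35192 (.leaf 0xd0b0002) (.node 35193 (.leaf 0x700020804000202000701000b) (.leaf 0x0)))) (.node 35197 (.node 35195 (.leaf 0xb0f0a0a0004) (.node 35196 (.leaf 0x0) (.leaf 0xf0a0002))) (.node 35198 (.leaf 0x897c) (.node 35199 (.leaf 0xf0a0a0003) (.leaf 0x0))))))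

def argWS_3118 : Store := (.node 35211 (.node 35205 (.node 35202 (.node 35201 (.leaf 0x60301040005000703040103000c) (.leaf 0x0)) (.node 35203 (.leaf 0xa0f0002) (.node 35204 (.leaf 0xf0a0a0003) (.leaf 0xf0b0002)))) (.node 35208 (.node 35206 (.leaf 0x309080600000703040103000c) (.node 35207 (.leaf 0x0) (.leaf 0xd0001))) (.node 35209 (.leaf 0x0) (.node 35210 (.leaf 0x8988008984) (.leaf 0x20806000004))))) (.node 35217 (.node 35214 (.node 35212 (.leaf 0x0) (.node 35213 (.leaf 0xe0a0a0003) (.leaf 0x0))) (.node 35215 (.leaf 0x60102000408010802040105000c) (.node 35216 (.leaf 0x0) (.leaf 0xa0f0b0003)))) (.node 35220 (.node 35218 (.leaf 0xb0f0002) (.node 35219 (.leaf 0xb0b0002) (.leaf 0x1020102000003010008))) (.node 35221 (.leaf 0x0) (.node 35222 (.leaf 0xb0a0a0003) (.leaf 0x0))))))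

def argWS_3119 : Store := (.node 35200 argWS_3117 argWS_3118)

def argWS_3120 : Store := (.node 35234 (.node 35228 (.node 35225 (.node 35224 (.leaf 0x8996008992) (.leaf 0xb0a0002)) (.node 35226 (.leaf 0x0) (.node 35227 (.leaf 0x900050206040006) (.leaf 0x0)))) (.node 35231 (.node 35229 (.leaf 0xf0a0a0003) (.node 35230 (.leaf 0x0) (.leaf 0x0))) (.node 35232 (.leaf 0xf0b0a0003) (.node 35233 (.leaf 0x70802020007010007) (.leaf 0x0))))) (.node 35239 (.node 35236 (.node 35235 (.leaf 0x0) (.leaf 0x0)) (.node 35237 (.leaf 0x8050002) (.node 35238 (.leaf 0x0) (.leaf 0x5030901090006)))) (.node 35242 (.node 35240 (.leaf 0x0) (.node 35241 (.leaf 0xf0001) (.leaf 0x600020804000802040105000c))) (.node 35243 (.leaf 0x0) (.node 35244 (.leaf 0xf0a0a0003) (.leaf 0x0))))))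

def argWS_3121 : Store := (.node 35256 (.node 35250 (.node 35247 (.node 35246 (.leaf 0xa0001) (.leaf 0x89ad0089ac)) (.node 35248 (.leaf 0xf0b0b0003) (.node 35249 (.leaf 0x0) (.leaf 0xa0f0002)))) (.node 35253 (.node 35251 (.leaf 0x0) (.node 35252 (.leaf 0x0) (.leaf 0x503070009030007))) (.node 35254 (.leaf 0x0) (.node 35255 (.leaf 0xf0a0002) (.leaf 0x0))))) (.node 35262 (.node 35259 (.node 35257 (.leaf 0xa0f0002) (.node 35258 (.leaf 0x89b8) (.leaf 0x902090208020401050009))) (.node 35260 (.leaf 0x0) (.node 35261 (.leaf 0xe0a0002) (.leaf 0x0)))) (.node 35265 (.node 35263 (.leaf 0x503000408010202000701000c) (.node 35264 (.leaf 0x0) (.leaf 0xb0f0a0003))) (.node 35266 (.leaf 0xa0f0b0b0004) (.node 35267 (.leaf 0x0) (.leaf 0xf0b0002))))))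

def argWS_3122 : Store := (.node 35245 argWS_3120 argWS_3121)

def argWS_3123 : Store := (.node 35223 argWS_3119 argWS_3122)

def argWS_3124 : Store := (.node 35279 (.node 35273 (.node 35270 (.node 35269 (.leaf 0x300020703000703040103000b) (.leaf 0x0)) (.node 35271 (.leaf 0xb0001) (.node 35272 (.leaf 0x0) (.leaf 0x89c7)))) (.node 35276 (.node 35274 (.leaf 0x20400000300000802040105000c) (.node 35275 (.leaf 0x0) (.leaf 0xb0f0002))) (.node 35277 (.leaf 0x0) (.node 35278 (.leaf 0xf0b0a0a0004) (.leaf 0x0))))) (.node 35284 (.node 35281 (.node 35280 (.leaf 0x0) (.leaf 0xb0a0002)) (.node 35282 (.leaf 0x202020900000202000701000b) (.node 35283 (.leaf 0x0) (.leaf 0xb0a0a0003)))) (.node 35287 (.node 35285 (.leaf 0x0) (.node 35286 (.leaf 0x89d40089d0) (.leaf 0xd0001))) (.node 35288 (.leaf 0x0) (.node 35289 (.leaf 0x70305090009000703040103000c) (.leaf 0x0))))))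

def argWS_3125 : Store := (.node 35301 (.node 35295 (.node 35292 (.node 35291 (.leaf 0xf0b0b0a0004) (.leaf 0xf0a0002)) (.node 35293 (.leaf 0xb0f0002) (.node 35294 (.leaf 0xb0b0a0a0004) (.leaf 0x90201070209020802040105000c)))) (.node 35298 (.node 35296 (.leaf 0x0) (.node 35297 (.leaf 0xe0d0002) (.leaf 0x0))) (.node 35299 (.leaf 0xf0a0002) (.node 35300 (.leaf 0x89e20089e1) (.leaf 0x901070009020007010009))))) (.node 35307 (.node 35304 (.node 35302 (.leaf 0x0) (.node 35303 (.leaf 0xa0f0b0003) (.leaf 0x0))) (.node 35305 (.leaf 0xa0f0002) (.node 35306 (.leaf 0x0) (.leaf 0x0)))) (.node 35310 (.node 35308 (.leaf 0xf0b0002) (.node 35309 (.leaf 0x401020901060802040105000b) (.leaf 0x0))) (.node 35311 (.leaf 0xa0f0b0b0004) (.node 35312 (.leaf 0x0) (.leaf 0x20200020901060802040105000c))))))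

def argWS_3126 : Store := (.node 35290 argWS_3124 argWS_3125)

def argWS_3127 : Store := (.node 35324 (.node 35318 (.node 35315 (.node 35314 (.leaf 0x0) (.leaf 0xf0b0002)) (.node 35316 (.leaf 0x0) (.node 35317 (.leaf 0x89f30089ef) (.leaf 0x40000030000000703040103000c)))) (.node 35321 (.node 35319 (.leaf 0x0) (.node 35320 (.leaf 0xb0a0002) (.leaf 0x0))) (.node 35322 (.leaf 0x90503070206000202000701000c) (.node 35323 (.leaf 0x0) (.leaf 0xa0001))))) (.node 35330 (.node 35327 (.node 35325 (.leaf 0xa0f0002) (.node 35326 (.leaf 0x70101070206000007) (.leaf 0x0))) (.node 35328 (.leaf 0xb0b0002) (.node 35329 (.leaf 0x0) (.leaf 0x805000007030401030009)))) (.node 35333 (.node 35331 (.leaf 0x0) (.node 35332 (.leaf 0xf0b0b0a0004) (.leaf 0x0))) (.node 35334 (.leaf 0x200020000030000000703040103000e) (.node 35335 (.leaf 0x0) (.leaf 0xd0001))))))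

def argWS_3128 : Store := (.node 35347 (.node 35341 (.node 35338 (.node 35337 (.leaf 0x0) (.leaf 0x8a08008a04)) (.node 35339 (.leaf 0x6010201020901060202000701000d) (.node 35340 (.leaf 0x0) (.leaf 0xa0a0002)))) (.node 35344 (.node 35342 (.leaf 0x0) (.node 35343 (.leaf 0x907000206030802040105000b) (.leaf 0x0))) (.node 35345 (.leaf 0xb0f0a0003) (.node 35346 (.leaf 0xb0f0a0a0004) (.leaf 0x60401020106060202000701000c))))) (.node 35353 (.node 35350 (.node 35348 (.leaf 0x0) (.node 35349 (.leaf 0xa0a0002) (.leaf 0x0))) (.node 35351 (.leaf 0xa0001) (.node 35352 (.leaf 0xb0a0a0003) (.leaf 0x8a17008a16)))) (.node 35356 (.node 35354 (.leaf 0x6010206030500040202000701000d) (.node 35355 (.leaf 0x0) (.leaf 0xa0f0b0003))) (.node 35357 (.leaf 0x0) (.node 35358 (.leaf 0x503050308000703040103000b) (.leaf 0x0))))))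

def argWS_3129 : Store := (.node 35336 argWS_3127 argWS_3128)

def argWS_3130 : Store := (.node 35313 argWS_3126 argWS_3129)

def argWS_3131 : Store := (.node 35268 argWS_3123 argWS_3130)

def argWS_3132 : Store := (.node 35178 argWS_3116 argWS_3131)

def argWS_3133 : Store := (.node 34998 argWS_3101 argWS_3132)

def argWS_3134 : Store := (.node 35370 (.node 35364 (.node 35361 (.node 35360 (.leaf 0xb0f0a0a0004) (.leaf 0x9000000030000000703040103000d)) (.node 35362 (.leaf 0xd0b0002) (.node 35363 (.leaf 0x7000002020900000202000701000d) (.leaf 0x0)))) (.node 35367 (.node 35365 (.leaf 0xb0a0f0003) (.node 35366 (.leaf 0x0) (.leaf 0x20600030306040202000701000c))) (.node 35368 (.leaf 0x0) (.node 35369 (.leaf 0xb0001) (.leaf 0x0))))) (.node 35375 (.node 35372 (.node 35371 (.leaf 0x8a29008a25) (.leaf 0x60507020600000703040103000c)) (.node 35373 (.leaf 0x0) (.node 35374 (.leaf 0xf0b0b0a0a0005) (.leaf 0x0)))) (.node 35378 (.node 35376 (.leaf 0x206000408010202000701000b)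 (.node 35377 (.leaf 0x0) (.leaf 0xb0b0a0003))) (.node 35379 (.leaf 0xa0f0002) (.node 35380 (.leaf 0x60102010308000703040103000c) (.leaf 0x0))))))

def argWS_3135 : Store := (.node 35392 (.node 35386 (.node 35383 (.node 35382 (.leaf 0xd0001) (.leaf 0x0)) (.node 35384 (.leaf 0x8a36) (.node 35385 (.leaf 0x6030500040202000701000c) (.leaf 0x0)))) (.node 35389 (.node 35387 (.leaf 0xd0b0b0003) (.node 35388 (.leaf 0x0) (.leaf 0xf0b0b0003))) (.node 35390 (.leaf 0x0) (.node 35391 (.leaf 0x0) (.leaf 0x60200030306040007))))) (.node 35398 (.node 35395 (.node 35393 (.leaf 0x0) (.node 35394 (.leaf 0xd0b0b0003) (.leaf 0x0))) (.node 35396 (.leaf 0x704000408010802040105000b) (.node 35397 (.leaf 0x0) (.leaf 0xf0a0a0003)))) (.node 35401 (.node 35399 (.leaf 0x0) (.node 35400 (.leaf 0x4040004080703040103000a) (.leaf 0x0))) (.node 35402 (.leaf 0xf0b0a0003) (.node 35403 (.leaf 0x0) (.leaf 0x8a4a008a46))))))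

def argWS_3136 : Store := (.node 35381 argWS_3134 argWS_3135)

def argWS_3137 : Store := (.node 35415 (.node 35409 (.node 35406 (.node 35405 (.leaf 0xf0b0002) (.leaf 0x0)) (.node 35407 (.leaf 0x807030602020007010009) (.node 35408 (.leaf 0x0) (.leaf 0xf0b0a0a0004)))) (.node 35412 (.node 35410 (.leaf 0xb0b0a0003) (.node 35411 (.leaf 0xb0a0a0003) (.leaf 0x8a52008a51))) (.node 35413 (.leaf 0xb0a0002) (.node 35414 (.leaf 0x0) (.leaf 0x80004000408010802040105000c))))) (.node 35420 (.node 35417 (.node 35416 (.leaf 0x0) (.leaf 0xf0a0a0003)) (.node 35418 (.leaf 0x1090703000703040103000a) (.node 35419 (.leaf 0x0) (.leaf 0x0)))) (.node 35423 (.node 35421 (.leaf 0xb0001) (.node 35422 (.leaf 0x34f7008a5c) (.leaf 0x3040305020202010802040105000d))) (.node 35424 (.leaf 0x0) (.node 35425 (.leaf 0xb0a0f0003) (.leaf 0x0))))))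

def argWS_3138 : Store := (.node 35437 (.node 35431 (.node 35428 (.node 35427 (.leaf 0xf0b0a0003) (.leaf 0x0)) (.node 35429 (.leaf 0x0) (.node 35430 (.leaf 0xe0001) (.leaf 0x207000408010202000701000b)))) (.node 35434 (.node 35432 (.leaf 0x0) (.node 35433 (.leaf 0xa0f0b0003) (.leaf 0x90002080400000703040103000c))) (.node 35435 (.leaf 0x0) (.node 35436 (.leaf 0xb0b0a0003) (.leaf 0x0))))) (.node 35443 (.node 35440 (.node 35438 (.leaf 0x8773008a6c) (.node 35439 (.leaf 0xf0a0a0003) (.leaf 0x0))) (.node 35441 (.leaf 0x30401070209020202000701000c) (.node 35442 (.leaf 0x0) (.leaf 0xb0f0002)))) (.node 35446 (.node 35444 (.leaf 0xf0a0a0003) (.node 35445 (.leaf 0x2020206020702010802040105000d) (.leaf 0x0))) (.node 35447 (.leaf 0xb0001) (.node 35448 (.leaf 0x0) (.leaf 0xb0f0a0a0004))))))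

def argWS_3139 : Store := (.node 35426 argWS_3137 argWS_3138)

def argWS_3140 : Store := (.node 35404 argWS_3136 argWS_3139)

def argWS_3141 : Store := (.node 35460 (.node 35454 (.node 35451 (.node 35450 (.leaf 0x8a78008a77) (.leaf 0x3070009030006)) (.node 35452 (.leaf 0x0) (.node 35453 (.leaf 0xb0b0a0a0004) (.leaf 0x0)))) (.node 35457 (.node 35455 (.leaf 0x2000408010202000701000b) (.node 35456 (.leaf 0x0) (.leaf 0xb0b0a0a0004))) (.node 35458 (.leaf 0x5020206020007010008) (.node 35459 (.leaf 0x0) (.leaf 0x0))))) (.node 35465 (.node 35462 (.node 35461 (.leaf 0x20901020106060202000701000c) (.leaf 0x0)) (.node 35463 (.leaf 0x0) (.node 35464 (.leaf 0x8a86008a83) (.leaf 0xb0a0a0003)))) (.node 35468 (.node 35466 (.leaf 0x0) (.node 35467 (.leaf 0xf0a0002) (.leaf 0x0))) (.node 35469 (.leaf 0xf0b0b0a0004) (.node 35470 (.leaf 0x0) (.leaf 0x2020209080600000703040103000d))))))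

def argWS_3142 : Store := (.node 35482 (.node 35476 (.node 35473 (.node 35472 (.leaf 0x0) (.leaf 0x603080007030401030009)) (.node 35474 (.leaf 0x0) (.node 35475 (.leaf 0x904020004) (.leaf 0x0)))) (.node 35479 (.node 35477 (.leaf 0xf0001) (.node 35478 (.leaf 0x0) (.leaf 0xa0f0b0b0004))) (.node 35480 (.leaf 0x8a96008a95) (.node 35481 (.leaf 0xb0f0a0003) (.leaf 0x0))))) (.node 35488 (.node 35485 (.node 35483 (.leaf 0xa0a0002) (.node 35484 (.leaf 0x0) (.leaf 0x0))) (.node 35486 (.leaf 0xf0b0002) (.node 35487 (.leaf 0xf0b0b0a0a0005) (.leaf 0x6030105020604000703040103000d)))) (.node 35491 (.node 35489 (.leaf 0x0) (.node 35490 (.leaf 0xd0b0b0003) (.leaf 0x0))) (.node 35492 (.leaf 0xa0f0b0b0004) (.node 35493 (.leaf 0x8aa3008aa2) (.leaf 0xb0a0a0003))))))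

def argWS_3143 : Store := (.node 35471 argWS_3141 argWS_3142)

def argWS_3144 : Store := (.node 35505 (.node 35499 (.node 35496 (.node 35495 (.leaf 0x0) (.leaf 0xf0b0a0a0004)) (.node 35497 (.leaf 0x0) (.node 35498 (.leaf 0x0) (.leaf 0x30901090802040105000a)))) (.node 35502 (.node 35500 (.leaf 0x0) (.node 35501 (.leaf 0xe0d0002) (.leaf 0x0))) (.node 35503 (.leaf 0x202090000090802040105000b) (.node 35504 (.leaf 0x0) (.leaf 0xb0a0002))))) (.node 35510 (.node 35507 (.node 35506 (.leaf 0x0) (.leaf 0x6000000030306040008)) (.node 35508 (.leaf 0x0) (.node 35509 (.leaf 0xf0b0b0a0a0005) (.leaf 0x0)))) (.node 35513 (.node 35511 (.leaf 0x8ab5008ab1) (.node 35512 (.leaf 0xa0f0b0003) (.leaf 0x0))) (.node 35514 (.leaf 0x300050206040802040105000b) (.node 35515 (.leaf 0x0) (.leaf 0xf0b0a0a0004))))))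

def argWS_3145 : Store := (.node 35527 (.node 35521 (.node 35518 (.node 35517 (.leaf 0xf0b0b0a0a0005) (.leaf 0x70206030802040105000a)) (.node 35519 (.leaf 0x0) (.node 35520 (.leaf 0xe0001) (.leaf 0x0)))) (.node 35524 (.node 35522 (.leaf 0xb0a0002) (.node 35523 (.leaf 0x0) (.leaf 0x8ac2008ac0))) (.node 35525 (.leaf 0xb0f0a0a0004) (.node 35526 (.leaf 0x0) (.leaf 0x60102010904020007))))) (.node 35533 (.node 35530 (.node 35528 (.leaf 0x0) (.node 35529 (.leaf 0xf0b0b0a0004) (.leaf 0xd0001))) (.node 35531 (.leaf 0x209020901060202000701000b) (.node 35532 (.leaf 0x0) (.leaf 0xa0f0002)))) (.node 35536 (.node 35534 (.leaf 0x0) (.node 35535 (.leaf 0xb0a0a0003) (.leaf 0x2020703000703040103000a))) (.node 35537 (.leaf 0x0) (.node 35538 (.leaf 0xd0001) (.leaf 0x0))))))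

def argWS_3146 : Store := (.node 35516 argWS_3144 argWS_3145)

def argWS_3147 : Store := (.node 35494 argWS_3143 argWS_3146)

def argWS_3148 : Store := (.node 35449 argWS_3140 argWS_3147)

def argWS_3149 : Store := (.node 35550 (.node 35544 (.node 35541 (.node 35540 (.leaf 0x8ad2008ace) (.leaf 0x202000603050004000703040103000e)) (.node 35542 (.leaf 0x0) (.node 35543 (.leaf 0xf0b0b0a0a0005) (.leaf 0x0)))) (.node 35547 (.node 35545 (.leaf 0xa0001) (.node 35546 (.leaf 0x0) (.leaf 0x0))) (.node 35548 (.leaf 0xf0a0a0003) (.node 35549 (.leaf 0x6020107020902000703040103000d) (.leaf 0x0))))) (.node 35555 (.node 35552 (.node 35551 (.leaf 0x0) (.leaf 0x40304010908050202000701000c)) (.node 35553 (.leaf 0x0) (.node 35554 (.leaf 0xe0a0a0003) (.leaf 0x0)))) (.node 35558 (.node 35556 (.leaf 0xf0001) (.node 35557 (.leaf 0x8ae3008ae2) (.leaf 0xe0a0002))) (.node 35559 (.leaf 0x0) (.node 35560 (.leaf 0xf0b0b0003) (.leaf 0x0))))))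

def argWS_3150 : Store := (.node 35572 (.node 35566 (.node 35563 (.node 35562 (.leaf 0x0) (.leaf 0xb0a0002)) (.node 35564 (.leaf 0x403050206040202000701000b) (.node 35565 (.leaf 0x0) (.leaf 0xa0a0002)))) (.node 35569 (.node 35567 (.leaf 0x40401050004) (.node 35568 (.leaf 0x0) (.leaf 0xa0f0b0003))) (.node 35570 (.leaf 0x0) (.node 35571 (.leaf 0x8af1008aed) (.leaf 0xe0001))))) (.node 35578 (.node 35575 (.node 35573 (.leaf 0x0) (.node 35574 (.leaf 0x1030105020202010202000701000d) (.leaf 0x0))) (.node 35576 (.leaf 0xf0b0a0a0004) (.node 35577 (.leaf 0xa0a0002) (.leaf 0xb0a0f0003)))) (.node 35581 (.node 35579 (.leaf 0xb0a0f0003) (.node 35580 (.leaf 0x8afa) (.leaf 0xb0a0002))) (.node 35582 (.leaf 0x0) (.node 35583 (.leaf 0x802000901090202000701000b) (.leaf 0x0))))))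

def argWS_3151 : Store := (.node 35561 argWS_3149 argWS_3150)

def argWS_3152 : Store := (.node 35595 (.node 35589 (.node 35586 (.node 35585 (.leaf 0xe0d0002) (.leaf 0x80007000902000701000a)) (.node 35587 (.leaf 0x0) (.node 35588 (.leaf 0xb0f0a0a0004) (.leaf 0x0)))) (.node 35592 (.node 35590 (.leaf 0xe0a0a0003) (.node 35591 (.leaf 0x90306030500040007) (.leaf 0x0))) (.node 35593 (.leaf 0xe0a0a0003) (.node 35594 (.leaf 0x0) (.leaf 0x8b09008b05))))) (.node 35600 (.node 35597 (.node 35596 (.leaf 0x1030000030306040202000701000d) (.leaf 0x0)) (.node 35598 (.leaf 0xa0a0002) (.node 35599 (.leaf 0x0) (.leaf 0xb0b0a0a0004)))) (.node 35603 (.node 35601 (.leaf 0x0) (.node 35602 (.leaf 0x1040308000703040103000a) (.leaf 0x0))) (.node 35604 (.leaf 0xd0b0002) (.node 35605 (.leaf 0x0) (.leaf 0x8020703060005))))))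

def argWS_3153 : Store := (.node 35617 (.node 35611 (.node 35608 (.node 35607 (.leaf 0x0) (.leaf 0xa0001)) (.node 35609 (.leaf 0x0) (.node 35610 (.leaf 0x8b18) (.leaf 0x10202010904020007)))) (.node 35614 (.node 35612 (.leaf 0x0) (.node 35613 (.leaf 0xe0a0a0003) (.leaf 0x0))) (.node 35615 (.leaf 0xd0001) (.node 35616 (.leaf 0x0) (.leaf 0x0))))) (.node 35623 (.node 35620 (.node 35618 (.leaf 0xf0b0002) (.node 35619 (.leaf 0x20206000004) (.leaf 0x0))) (.node 35621 (.leaf 0xa0f0b0b0004) (.node 35622 (.leaf 0x0) (.leaf 0x8b25)))) (.node 35626 (.node 35624 (.leaf 0x3070000090206020008) (.node 35625 (.leaf 0x0) (.leaf 0xe0d0002))) (.node 35627 (.leaf 0x0) (.node 35628 (.leaf 0xa0f0b0b0004) (.leaf 0x0))))))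

def argWS_3154 : Store := (.node 35606 argWS_3152 argWS_3153)

def argWS_3155 : Store := (.node 35584 argWS_3151 argWS_3154)

def argWS_3156 : Store := (.node 35640 (.node 35634 (.node 35631 (.node 35630 (.leaf 0x0) (.leaf 0xe0a0a0003)) (.node 35632 (.leaf 0x80300070209020202000701000c) (.node 35633 (.leaf 0x0) (.leaf 0xb0f0002)))) (.node 35637 (.node 35635 (.leaf 0x0) (.node 35636 (.leaf 0x40900090004) (.leaf 0x0))) (.node 35638 (.leaf 0xb0b0a0003) (.node 35639 (.leaf 0x0) (.leaf 0x8b36008b32))))) (.node 35645 (.node 35642 (.node 35641 (.leaf 0x3070009000009000703040103000d) (.leaf 0x0)) (.node 35643 (.leaf 0xe0001) (.node 35644 (.leaf 0x0) (.leaf 0x1070009020602000703040103000d)))) (.node 35648 (.node 35646 (.leaf 0x0) (.node 35647 (.leaf 0xf0b0a0003) (.leaf 0x40008020401050007))) (.node 35649 (.leaf 0x0) (.node 35650 (.leaf 0xa0f0b0b0004) (.leaf 0x0))))))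

def argWS_3157 : Store := (.node 35662 (.node 35656 (.node 35653 (.node 35652 (.leaf 0xb0a0a0003) (.leaf 0xa0f0b0b0004)) (.node 35654 (.leaf 0x8b44008b43) (.node 35655 (.leaf 0x1050206020702010802040105000d) (.leaf 0x0)))) (.node 35659 (.node 35657 (.leaf 0xf0a0a0003) (.node 35658 (.leaf 0x0) (.leaf 0xb0f0002))) (.node 35660 (.leaf 0x0) (.node 35661 (.leaf 0x0) (.leaf 0x80500090806000202000701000c))))) (.node 35668 (.node 35665 (.node 35663 (.leaf 0x0) (.node 35664 (.leaf 0xf0001) (.leaf 0x0))) (.node 35666 (.leaf 0xa0f0002) (.node 35667 (.leaf 0x8b51) (.leaf 0x80000020000030703040103000c)))) (.node 35671 (.node 35669 (.leaf 0x0) (.node 35670 (.leaf 0xe0a0a0003) (.leaf 0x0))) (.node 35672 (.leaf 0x60000000300000802040105000d) (.node 35673 (.leaf 0x0) (.leaf 0xb0b0a0a0004))))))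

def argWS_3158 : Store := (.node 35651 argWS_3156 argWS_3157)

def argWS_3159 : Store := (.node 35685 (.node 35679 (.node 35676 (.node 35675 (.leaf 0x7010101070306000703040103000d) (.leaf 0x0)) (.node 35677 (.leaf 0xb0b0a0a0004) (.node 35678 (.leaf 0x0) (.leaf 0x90201090806000802040105000c)))) (.node 35682 (.node 35680 (.leaf 0x0) (.node 35681 (.leaf 0x0) (.leaf 0x23bf008b60))) (.node 35683 (.leaf 0x801010900090202000701000b) (.node 35684 (.leaf 0x0) (.leaf 0xb0b0a0a0004))))) (.node 35691 (.node 35688 (.node 35686 (.leaf 0x0) (.node 35687 (.leaf 0xf0b0a0a0004) (.leaf 0x0))) (.node 35689 (.leaf 0x0) (.node 35690 (.leaf 0x2040108020401050008) (.leaf 0x0)))) (.node 35694 (.node 35692 (.leaf 0x0) (.node 35693 (.leaf 0x2060102020007010008) (.leaf 0x0))) (.node 35695 (.leaf 0xb0a0f0003) (.node 35696 (.leaf 0x0) (.leaf 0x8b6f))))))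

def argWS_3160 : Store := (.node 35708 (.node 35702 (.node 35699 (.node 35698 (.leaf 0xb0a0a0003) (.leaf 0x0)) (.node 35700 (.leaf 0xa0f0002) (.node 35701 (.leaf 0x0) (.leaf 0x0)))) (.node 35705 (.node 35703 (.leaf 0xf0001) (.node 35704 (.leaf 0xb0a0a0003) (.leaf 0xf0001))) (.node 35706 (.leaf 0x8b78) (.node 35707 (.leaf 0xf0a0a0003) (.leaf 0x0))))) (.node 35714 (.node 35711 (.node 35709 (.leaf 0xe0001) (.node 35710 (.leaf 0x0) (.leaf 0x0))) (.node 35712 (.leaf 0x404000508020401050009) (.node 35713 (.leaf 0x0) (.leaf 0x0)))) (.node 35717 (.node 35715 (.leaf 0x20202010703060202000701000c) (.node 35716 (.leaf 0x0) (.leaf 0xa0f0b0003))) (.node 35718 (.leaf 0x0) (.node 35719 (.leaf 0x60000090206020008) (.leaf 0x0))))))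

def argWS_3161 : Store := (.node 35697 argWS_3159 argWS_3160)

def argWS_3162 : Store := (.node 35674 argWS_3158 argWS_3161)

def argWS_3163 : Store := (.node 35629 argWS_3155 argWS_3162)

def argWS_3164 : Store := (.node 35539 argWS_3148 argWS_3163)

def argWS_3165 : Store := (.node 35731 (.node 35725 (.node 35722 (.node 35721 (.leaf 0xf0b0a0a0004) (.leaf 0x0)) (.node 35723 (.leaf 0x8b89008b85) (.node 35724 (.leaf 0x102010003) (.leaf 0x0)))) (.node 35728 (.node 35726 (.leaf 0xe0001) (.node 35727 (.leaf 0x0) (.leaf 0xa0001))) (.node 35729 (.leaf 0x0) (.node 35730 (.leaf 0x0) (.leaf 0x401090000090802040105000b))))) (.node 35736 (.node 35733 (.node 35732 (.leaf 0x0) (.leaf 0xf0b0b0a0004)) (.node 35734 (.leaf 0x0) (.node 35735 (.leaf 0x5000400050005) (.leaf 0x0)))) (.node 35739 (.node 35737 (.leaf 0xf0b0a0a0004) (.node 35738 (.leaf 0x0) (.leaf 0x104090000090802040105000b))) (.node 35740 (.leaf 0x0) (.node 35741 (.leaf 0xf0b0b0a0004) (.leaf 0x0))))))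

def argWS_3166 : Store := (.node 35753 (.node 35747 (.node 35744 (.node 35743 (.leaf 0x8b9d008b99) (.leaf 0x0)) (.node 35745 (.leaf 0xf0b0002) (.node 35746 (.leaf 0x0) (.leaf 0xb0f0002)))) (.node 35750 (.node 35748 (.leaf 0x0) (.node 35749 (.leaf 0x0) (.leaf 0xb0a0a0003))) (.node 35751 (.leaf 0xe0a0a0003) (.node 35752 (.leaf 0xd0b0002) (.leaf 0x8ba7))))) (.node 35759 (.node 35756 (.node 35754 (.leaf 0x0) (.node 35755 (.leaf 0x0) (.leaf 0x3070901090802040105000a))) (.node 35757 (.leaf 0x0) (.node 35758 (.leaf 0xf0b0b0a0004) (.leaf 0xd0b0b0003)))) (.node 35762 (.node 35760 (.leaf 0x604000601050002000703040103000e) (.node 35761 (.leaf 0x0) (.leaf 0x0))) (.node 35763 (.leaf 0x2000601050002000703040103000e) (.node 35764 (.leaf 0x0) (.leaf 0xf0b0002))))))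

def argWS_3167 : Store := (.node 35742 argWS_3165 argWS_3166)

def argWS_3168 : Store := (.node 35776 (.node 35770 (.node 35767 (.node 35766 (.leaf 0x0) (.leaf 0x8bb5008bb1)) (.node 35768 (.leaf 0xe0a0a0003) (.node 35769 (.leaf 0x0) (.leaf 0xb0b0a0a0004)))) (.node 35773 (.node 35771 (.leaf 0x0) (.node 35772 (.leaf 0x0) (.leaf 0xf0b0b0a0a0005))) (.node 35774 (.leaf 0xf0b0b0a0004) (.node 35775 (.leaf 0xa0f0b0b0004) (.leaf 0xf0b0b0a0a0005))))) (.node 35781 (.node 35778 (.node 35777 (.leaf 0x8bbf) (.leaf 0x2090109000703040103000b)) (.node 35779 (.leaf 0x0) (.node 35780 (.leaf 0xb0a0f0003) (.leaf 0x0)))) (.node 35784 (.node 35782 (.leaf 0xb0f0002) (.node 35783 (.leaf 0x0) (.leaf 0x0))) (.node 35785 (.leaf 0x90000020804000202000701000c) (.node 35786 (.leaf 0x0) (.leaf 0xd0b0b0003))))))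

def argWS_3169 : Store := (.node 35798 (.node 35792 (.node 35789 (.node 35788 (.leaf 0x0) (.leaf 0x907000207030802040105000b)) (.node 35790 (.leaf 0x0) (.node 35791 (.leaf 0xb0f0002) (.leaf 0x0)))) (.node 35795 (.node 35793 (.leaf 0xb0b0002) (.node 35794 (.leaf 0x8bd0008bcf) (.leaf 0x10303080004))) (.node 35796 (.leaf 0x0) (.node 35797 (.leaf 0xb0b0a0a0004) (.leaf 0x0))))) (.node 35804 (.node 35801 (.node 35799 (.leaf 0xe0d0002) (.node 35800 (.leaf 0x0) (.leaf 0x0))) (.node 35802 (.leaf 0xf0b0b0a0a0005) (.node 35803 (.leaf 0x101020008020401050009) (.leaf 0x0)))) (.node 35807 (.node 35805 (.leaf 0xf0b0b0003) (.node 35806 (.leaf 0x0) (.leaf 0x6020007030401030008))) (.node 35808 (.leaf 0x0) (.node 35809 (.leaf 0xb0f0a0a0004) (.leaf 0x0))))))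

def argWS_3170 : Store := (.node 35787 argWS_3168 argWS_3169)

def argWS_3171 : Store := (.node 35765 argWS_3167 argWS_3170)

def argWS_3172 : Store := (.node 35821 (.node 35815 (.node 35812 (.node 35811 (.leaf 0xb0f0a0a0004) (.leaf 0x8be2008be1)) (.node 35813 (.leaf 0x107090806000202000701000b) (.node 35814 (.leaf 0x0) (.leaf 0xa0f0002)))) (.node 35818 (.node 35816 (.leaf 0x0) (.node 35817 (.leaf 0xe0001) (.leaf 0x0))) (.node 35819 (.leaf 0x0) (.node 35820 (.leaf 0xf0b0b0a0a0005) (.leaf 0xf0a0a0003))))) (.node 35826 (.node 35823 (.node 35822 (.leaf 0xa0f0b0003) (.leaf 0xb0a0a0003)) (.node 35824 (.leaf 0x7b36008bee) (.node 35825 (.leaf 0xb0b0a0003) (.leaf 0x0)))) (.node 35829 (.node 35827 (.leaf 0xa0f0002) (.node 35828 (.leaf 0x0) (.leaf 0x0))) (.node 35830 (.leaf 0xf0b0b0003) (.node 35831 (.leaf 0x1020900090202000701000a) (.leaf 0x0))))))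

def argWS_3173 : Store := (.node 35843 (.node 35837 (.node 35834 (.node 35833 (.leaf 0x0) (.leaf 0x207010703060802040105000b)) (.node 35835 (.leaf 0x0) (.node 35836 (.leaf 0x0) (.leaf 0x8bfb008bf8)))) (.node 35840 (.node 35838 (.leaf 0xf0b0b0a0004) (.node 35839 (.leaf 0x0) (.leaf 0x0))) (.node 35841 (.leaf 0xa0a0002) (.node 35842 (.leaf 0x1090301090402000703040103000d) (.leaf 0x0))))) (.node 35849 (.node 35846 (.node 35844 (.leaf 0xb0f0a0a0004) (.node 35845 (.leaf 0x0) (.leaf 0x5030502020007010008))) (.node 35847 (.leaf 0x0) (.node 35848 (.leaf 0x0) (.leaf 0x8c07008c04)))) (.node 35852 (.node 35850 (.leaf 0x900020000030703040103000b) (.node 35851 (.leaf 0x0) (.leaf 0xa0001))) (.node 35853 (.leaf 0x0) (.node 35854 (.leaf 0xd0001) (.leaf 0x0))))))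

def argWS_3174 : Store := (.node 35832 argWS_3172 argWS_3173)

def argWS_3175 : Store := (.node 35866 (.node 35860 (.node 35857 (.node 35856 (.leaf 0x0) (.leaf 0xd0b0002)) (.node 35858 (.leaf 0x70207030802040105000a) (.node 35859 (.leaf 0x0) (.leaf 0x209020106060006)))) (.node 35863 (.node 35861 (.leaf 0x0) (.node 35862 (.leaf 0x0) (.leaf 0x40000030000000703040103000c))) (.node 35864 (.leaf 0x0) (.node 35865 (.leaf 0xf0001) (.leaf 0x0))))) (.node 35871 (.node 35868 (.node 35867 (.leaf 0x2000900090202000701000b) (.leaf 0x0)) (.node 35869 (.leaf 0xa0a0002) (.node 35870 (.leaf 0x0) (.leaf 0x8c1d008c19)))) (.node 35874 (.node 35872 (.leaf 0x6050102000003010802040105000d) (.node 35873 (.leaf 0x0) (.leaf 0xb0001))) (.node 35875 (.leaf 0x0) (.node 35876 (.leaf 0x7030401030006) (.leaf 0x0))))))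

def argWS_3176 : Store := (.node 35888 (.node 35882 (.node 35879 (.node 35878 (.leaf 0xf0a0a0003) (.leaf 0xf0a0a0003)) (.node 35880 (.leaf 0xb0b0a0a0004) (.node 35881 (.leaf 0x8c27) (.leaf 0x1050208020401050008)))) (.node 35885 (.node 35883 (.leaf 0x0) (.node 35884 (.leaf 0xb0a0a0003) (.leaf 0x0))) (.node 35886 (.leaf 0xf0b0a0003) (.node 35887 (.leaf 0x0) (.leaf 0x0))))) (.node 35894 (.node 35891 (.node 35889 (.leaf 0xa0f0b0003) (.node 35890 (.leaf 0x7040003030604000703040103000d) (.leaf 0x0))) (.node 35892 (.leaf 0xb0b0002) (.node 35893 (.leaf 0x0) (.leaf 0x2040900090005)))) (.node 35897 (.node 35895 (.leaf 0x0) (.node 35896 (.leaf 0xf0a0002) (.leaf 0x0))) (.node 35898 (.leaf 0x8c38008c34) (.node 35899 (.leaf 0x80003010102000007) (.leaf 0x0))))))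

def argWS_3177 : Store := (.node 35877 argWS_3175 argWS_3176)

def argWS_3178 : Store := (.node 35855 argWS_3174 argWS_3177)

def argWS_3179 : Store := (.node 35810 argWS_3171 argWS_3178)

def argWS_3180 : Store := (.node 35911 (.node 35905 (.node 35902 (.node 35901 (.leaf 0xa0f0002) (.leaf 0x0)) (.node 35903 (.leaf 0xf0a0002) (.node 35904 (.leaf 0x0) (.leaf 0x0)))) (.node 35908 (.node 35906 (.leaf 0x8000006030500040202000701000d) (.node 35907 (.leaf 0x0) (.leaf 0xe0001))) (.node 35909 (.leaf 0x0) (.node 35910 (.leaf 0xb0f0a0a0004) (.leaf 0xe0a0002))))) (.node 35916 (.node 35913 (.node 35912 (.leaf 0x8c46008c45) (.leaf 0x40400000300000802040105000c)) (.node 35914 (.leaf 0x0) (.node 35915 (.leaf 0xd0001) (.leaf 0x0)))) (.node 35919 (.node 35917 (.leaf 0xf0b0a0a0004) (.node 35918 (.leaf 0x0) (.leaf 0x0))) (.node 35920 (.leaf 0xb0a0a0003) (.node 35921 (.leaf 0x40205010908050007) (.leaf 0x0))))))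

def argWS_3181 : Store := (.node 35933 (.node 35927 (.node 35924 (.node 35923 (.leaf 0xf0b0002) (.leaf 0x0)) (.node 35925 (.leaf 0xf0b0b0003) (.node 35926 (.leaf 0x8c54008c53) (.leaf 0xf0b0a0a0004)))) (.node 35930 (.node 35928 (.leaf 0x0) (.node 35929 (.leaf 0xe0a0002) (.leaf 0x0))) (.node 35931 (.leaf 0x0) (.node 35932 (.leaf 0xd0b0002) (.leaf 0x139d))))) (.node 35939 (.node 35936 (.node 35934 (.leaf 0x50201020603000703040103000c) (.node 35935 (.leaf 0x0) (.leaf 0xd0b0002))) (.node 35937 (.leaf 0x0) (.node 35938 (.leaf 0xb0f0a0a0004) (.leaf 0xd0b0b0003)))) (.node 35942 (.node 35940 (.leaf 0x0) (.node 35941 (.leaf 0x4040202090000000703040103000d) (.leaf 0x0))) (.node 35943 (.leaf 0xd0001) (.node 35944 (.leaf 0x0) (.leaf 0x2010902020007010008))))))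

def argWS_3182 : Store := (.node 35922 argWS_3180 argWS_3181)

def argWS_3183 : Store := (.node 35956 (.node 35950 (.node 35947 (.node 35946 (.leaf 0x0) (.leaf 0xf0b0a0a0004)) (.node 35948 (.leaf 0x0) (.node 35949 (.leaf 0x8c6b0010cd) (.leaf 0x20006020702010802040105000d)))) (.node 35953 (.node 35951 (.leaf 0x0) (.node 35952 (.leaf 0xb0a0f0003) (.leaf 0x0))) (.node 35954 (.leaf 0x20401020106060802040105000c) (.node 35955 (.leaf 0x0) (.leaf 0xb0f0a0003))))) (.node 35961 (.node 35958 (.node 35957 (.leaf 0xb0a0002) (.leaf 0xa0001)) (.node 35959 (.leaf 0x209030306040802040105000b) (.node 35960 (.leaf 0x0) (.leaf 0xb0a0f0003)))) (.node 35964 (.node 35962 (.leaf 0x0) (.node 35963 (.leaf 0x8c79008c75) (.leaf 0x4010908050802040105000a))) (.node 35965 (.leaf 0x0) (.node 35966 (.leaf 0xa0f0b0003) (.leaf 0x0))))))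

def argWS_3184 : Store := (.node 35978 (.node 35972 (.node 35969 (.node 35968 (.leaf 0xf0b0002) (.leaf 0x0)) (.node 35970 (.leaf 0x0) (.node 35971 (.leaf 0x5000703060802040105000a) (.leaf 0x0)))) (.node 35975 (.node 35973 (.leaf 0x0) (.node 35974 (.leaf 0xb0b0a0a0004) (.leaf 0xb0a0f0003))) (.node 35976 (.leaf 0x8c86008c85) (.node 35977 (.leaf 0xe0a0002) (.leaf 0x0))))) (.node 35984 (.node 35981 (.node 35979 (.leaf 0xf0b0b0003) (.node 35980 (.leaf 0x0) (.leaf 0x0))) (.node 35982 (.leaf 0x6c1c) (.node 35983 (.leaf 0x101060602020007010009) (.leaf 0x0)))) (.node 35987 (.node 35985 (.leaf 0xf0b0b0a0a0005) (.node 35986 (.leaf 0x0) (.leaf 0xe0d0002))) (.node 35988 (.leaf 0x0) (.node 35989 (.leaf 0x0) (.leaf 0xd0b0002))))))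

def argWS_3185 : Store := (.node 35967 argWS_3183 argWS_3184)

def argWS_3186 : Store := (.node 35945 argWS_3182 argWS_3185)

def argWS_3187 : Store := (.node 36001 (.node 35995 (.node 35992 (.node 35991 (.leaf 0x9070005020202010008) (.leaf 0x0)) (.node 35993 (.leaf 0xb0b0a0003) (.node 35994 (.leaf 0x0) (.leaf 0x8c99)))) (.node 35998 (.node 35996 (.leaf 0xf0b0b0a0004) (.node 35997 (.leaf 0x0) (.leaf 0x20108020401050007))) (.node 35999 (.leaf 0x0) (.node 36000 (.leaf 0xa0f0b0b0004) (.leaf 0x6010201010703060802040105000d))))) (.node 36006 (.node 36003 (.node 36002 (.leaf 0x0) (.leaf 0xf0a0a0003)) (.node 36004 (.leaf 0x0) (.node 36005 (.leaf 0x8000202090000000703040103000e) (.leaf 0x0)))) (.node 36009 (.node 36007 (.leaf 0xf0b0b0003) (.node 36008 (.leaf 0x0) (.leaf 0x901050206040802040105000b))) (.node 36010 (.leaf 0x0) (.node 36011 (.leaf 0xd0b0b0003) (.leaf 0x0))))))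

def argWS_3188 : Store := (.node 36023 (.node 36017 (.node 36014 (.node 36013 (.leaf 0x8cab008ca7) (.leaf 0xf0a0a0003)) (.node 36015 (.leaf 0x0) (.node 36016 (.leaf 0xf0a0a0003) (.leaf 0x0)))) (.node 36020 (.node 36018 (.leaf 0x0) (.node 36019 (.leaf 0xb0f0002) (.leaf 0x6000007020600000703040103000d))) (.node 36021 (.leaf 0x0) (.node 36022 (.leaf 0xb0b0002) (.leaf 0x0))))) (.node 36029 (.node 36026 (.node 36024 (.leaf 0x8cb6) (.node 36025 (.leaf 0x400020106060006) (.leaf 0x0))) (.node 36027 (.leaf 0xb0b0a0003) (.node 36028 (.leaf 0x0) (.leaf 0x5000400050202000701000a)))) (.node 36032 (.node 36030 (.leaf 0x0) (.node 36031 (.leaf 0xe0a0002) (.leaf 0x80000020603000703040103000c))) (.node 36033 (.leaf 0x0) (.node 36034 (.leaf 0x0) (.leaf 0xd0b0002))))))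

def argWS_3189 : Store := (.node 36012 argWS_3187 argWS_3188)

def argWS_3190 : Store := (.node 36046 (.node 36040 (.node 36037 (.node 36036 (.leaf 0x8cc2008cc1) (.leaf 0x40400090206020802040105000c)) (.node 36038 (.leaf 0x0) (.node 36039 (.leaf 0xf0b0b0a0a0005) (.leaf 0x0)))) (.node 36043 (.node 36041 (.leaf 0x20500030306040802040105000c) (.node 36042 (.leaf 0x0) (.leaf 0xf0b0b0003))) (.node 36044 (.leaf 0x200020000030703040103000b) (.node 36045 (.leaf 0x0) (.leaf 0xf0b0b0a0a0005))))) (.node 36052 (.node 36049 (.node 36047 (.leaf 0x0) (.node 36048 (.leaf 0x503010908050202000701000c) (.leaf 0x0))) (.node 36050 (.leaf 0xb0b0002) (.node 36051 (.leaf 0x0) (.leaf 0x20901090005)))) (.node 36055 (.node 36053 (.leaf 0x0) (.node 36054 (.leaf 0xb0a0002) (.leaf 0x0))) (.node 36056 (.leaf 0xb0b0a0003) (.node 36057 (.leaf 0x8cd7008cd6) (.leaf 0x20002090000090007))))))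

def argWS_3191 : Store := (.node 36069 (.node 36063 (.node 36060 (.node 36059 (.leaf 0x0) (.leaf 0xd0b0b0003)) (.node 36061 (.leaf 0x0) (.node 36062 (.leaf 0xb0a0a0003) (.leaf 0x0)))) (.node 36066 (.node 36064 (.leaf 0x0) (.node 36065 (.leaf 0x205020202010202000701000b) (.leaf 0x0))) (.node 36067 (.leaf 0xa0f0b0003) (.node 36068 (.leaf 0x0) (.leaf 0x402050002080400000703040103000e))))) (.node 36075 (.node 36072 (.node 36070 (.leaf 0x0) (.node 36071 (.leaf 0xf0b0b0003) (.leaf 0x0))) (.node 36073 (.leaf 0x200070009030006) (.node 36074 (.leaf 0x0) (.leaf 0x0)))) (.node 36078 (.node 36076 (.leaf 0x8cea008ce7) (.node 36077 (.leaf 0x0) (.leaf 0x20002010703060202000701000c))) (.node 36079 (.leaf 0x0) (.node 36080 (.leaf 0xb0a0a0003) (.leaf 0xb0a0a0003))))))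

def argWS_3192 : Store := (.node 36058 argWS_3190 argWS_3191)

def argWS_3193 : Store := (.node 36035 argWS_3189 argWS_3192)

def argWS_3194 : Store := (.node 35990 argWS_3186 argWS_3193)

def argWS_3195 : Store := (.node 35900 argWS_3179 argWS_3194)

def argWS_3196 : Store := (.node 35720 argWS_3164 argWS_3195)

def argWS_3197 : Store := (.node 35359 argWS_3133 argWS_3196)

def argWS_3198 : Store := (.node 36092 (.node 36086 (.node 36083 (.node 36082 (.leaf 0x602000300000006) (.leaf 0x0)) (.node 36084 (.leaf 0xe0d0002) (.node 36085 (.leaf 0x0) (.leaf 0xf0b0002)))) (.node 36089 (.node 36087 (.leaf 0x8cf5008cf4) (.node 36088 (.leaf 0xb0f0002) (.leaf 0x0))) (.node 36090 (.leaf 0xb0b0002) (.node 36091 (.leaf 0x0) (.leaf 0x0))))) (.node 36097 (.node 36094 (.node 36093 (.leaf 0x3040002080400000703040103000d) (.leaf 0x0)) (.node 36095 (.leaf 0xb0a0a0003) (.node 36096 (.leaf 0x0) (.leaf 0x50000000408010202000701000c)))) (.node 36100 (.node 36098 (.leaf 0x206030500040202000701000b)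 (.node 36099 (.leaf 0x0) (.leaf 0xf0b0a0003))) (.node 36101 (.leaf 0x0) (.node 36102 (.leaf 0xf0b0a0003) (.leaf 0x8d050038fe))))))

def argWS_3199 : Store := (.node 36114 (.node 36108 (.node 36105 (.node 36104 (.leaf 0x3070401050005) (.leaf 0x0)) (.node 36106 (.leaf 0xa0f0002) (.node 36107 (.leaf 0x0) (.leaf 0x4030401070306000703040103000d)))) (.node 36111 (.node 36109 (.leaf 0x0) (.node 36110 (.leaf 0xb0f0002) (.leaf 0x60002080400000703040103000d))) (.node 36112 (.leaf 0x0) (.node 36113 (.leaf 0xb0a0a0003) (.leaf 0x0))))) (.node 36120 (.node 36117 (.node 36115 (.leaf 0xe0a0002) (.node 36116 (.leaf 0x8d12) (.leaf 0x503010703060202000701000b))) (.node 36118 (.leaf 0x0) (.node 36119 (.leaf 0xe0001) (.leaf 0x0)))) (.node 36123 (.node 36121 (.leaf 0x20901060802040105000b) (.node 36122 (.leaf 0x0) (.leaf 0xd0b0b0003))) (.node 36124 (.leaf 0x8d1a) (.node 36125 (.leaf 0x4030703060005) (.leaf 0x0))))))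

def argWS_3200 : Store := (.node 36103 argWS_3198 argWS_3199)

def argWS_3201 : Store := (.node 36137 (.node 36131 (.node 36128 (.node 36127 (.leaf 0xb0a0002) (.leaf 0x0)) (.node 36129 (.leaf 0x401050206040202000701000b) (.node 36130 (.leaf 0x0) (.leaf 0xd0b0002)))) (.node 36134 (.node 36132 (.leaf 0x3010102000802040105000a) (.node 36133 (.leaf 0x0) (.leaf 0xa0a0002))) (.node 36135 (.leaf 0x0) (.node 36136 (.leaf 0x701020901060802040105000b) (.leaf 0x0))))) (.node 36142 (.node 36139 (.node 36138 (.leaf 0xb0f0002) (.leaf 0x0)) (.node 36140 (.leaf 0x8d2a) (.node 36141 (.leaf 0xf0b0a0003) (.leaf 0x0)))) (.node 36145 (.node 36143 (.leaf 0xd0b0b0003) (.node 36144 (.leaf 0x0) (.leaf 0x0))) (.node 36146 (.leaf 0x1030103010102000202000701000d) (.node 36147 (.leaf 0x0) (.leaf 0xb0b0a0a0004))))))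

def argWS_3202 : Store := (.node 36159 (.node 36153 (.node 36150 (.node 36149 (.leaf 0x0) (.leaf 0x2020003080005)) (.node 36151 (.leaf 0x0) (.node 36152 (.leaf 0xd0b0b0003) (.leaf 0x0)))) (.node 36156 (.node 36154 (.leaf 0x1646008d38) (.node 36155 (.leaf 0x90806000802040105000b) (.leaf 0x0))) (.node 36157 (.leaf 0x0) (.node 36158 (.leaf 0x2000408010202000701000b) (.leaf 0x0))))) (.node 36165 (.node 36162 (.node 36160 (.leaf 0xb0b0a0a0004) (.node 36161 (.leaf 0x500000408010006) (.leaf 0x0))) (.node 36163 (.leaf 0xe0a0002) (.node 36164 (.leaf 0x0) (.leaf 0x2000400050802040105000a)))) (.node 36168 (.node 36166 (.leaf 0x0) (.node 36167 (.leaf 0xa0f0002) (.leaf 0x0))) (.node 36169 (.leaf 0x4030908050005) (.node 36170 (.leaf 0x0) (.leaf 0xe0a0a0003))))))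

def argWS_3203 : Store := (.node 36148 argWS_3201 argWS_3202)

def argWS_3204 : Store := (.node 36126 argWS_3200 argWS_3203)

def argWS_3205 : Store := (.node 36182 (.node 36176 (.node 36173 (.node 36172 (.leaf 0x0) (.leaf 0x8d4b008d47)) (.node 36174 (.leaf 0xf0b0a0a0004) (.node 36175 (.leaf 0x0) (.leaf 0x4000007030401030008)))) (.node 36179 (.node 36177 (.leaf 0x0) (.node 36178 (.leaf 0xd0001) (.leaf 0xd0b0002))) (.node 36180 (.leaf 0x90606020702010802040105000c) (.node 36181 (.leaf 0x0) (.leaf 0xb0a0a0003))))) (.node 36187 (.node 36184 (.node 36183 (.leaf 0x0) (.leaf 0x8d56)) (.node 36185 (.leaf 0x20900000300000802040105000c) (.node 36186 (.leaf 0x0) (.leaf 0xb0b0a0003)))) (.node 36190 (.node 36188 (.leaf 0x0) (.node 36189 (.leaf 0xb0b0a0a0004) (.leaf 0x0))) (.node 36191 (.leaf 0x0) (.node 36192 (.leaf 0x20206020004) (.leaf 0x0))))))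

def argWS_3206 : Store := (.node 36204 (.node 36198 (.node 36195 (.node 36194 (.leaf 0xf0b0a0003) (.leaf 0x0)) (.node 36196 (.leaf 0x60102010206030007) (.node 36197 (.leaf 0x0) (.leaf 0xf0b0b0a0a0005)))) (.node 36201 (.node 36199 (.leaf 0x0) (.node 36200 (.leaf 0x800000400050006) (.leaf 0x0))) (.node 36202 (.leaf 0xf0b0a0003) (.node 36203 (.leaf 0x0) (.leaf 0x8d6a008d66))))) (.node 36210 (.node 36207 (.node 36205 (.leaf 0x90602010606000703040103000c) (.node 36206 (.leaf 0x0) (.leaf 0xb0a0f0003))) (.node 36208 (.leaf 0x0) (.node 36209 (.leaf 0x8050005020202010202000701000d) (.leaf 0x0)))) (.node 36213 (.node 36211 (.leaf 0xa0a0002) (.node 36212 (.leaf 0xb0a0a0003) (.leaf 0x90104020901060007))) (.node 36214 (.leaf 0x0) (.node 36215 (.leaf 0xa0f0b0003) (.leaf 0x0))))))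

def argWS_3207 : Store := (.node 36193 argWS_3205 argWS_3206)

def argWS_3208 : Store := (.node 36227 (.node 36221 (.node 36218 (.node 36217 (.leaf 0x8d77008d73) (.leaf 0xb0a0002)) (.node 36219 (.leaf 0x0) (.node 36220 (.leaf 0x502020000030703040103000b) (.leaf 0x0)))) (.node 36224 (.node 36222 (.leaf 0xa0001) (.node 36223 (.leaf 0xf0b0b0a0a0005) (.leaf 0x400030900090802040105000b))) (.node 36225 (.leaf 0x0) (.node 36226 (.leaf 0xb0f0002) (.leaf 0x0))))) (.node 36232 (.node 36229 (.node 36228 (.leaf 0x8d82) (.leaf 0xa0f0b0003)) (.node 36230 (.leaf 0x0) (.node 36231 (.leaf 0x70200000300000007) (.leaf 0x0)))) (.node 36235 (.node 36233 (.leaf 0xf0a0002) (.node 36234 (.leaf 0xb0f0a0a0004) (.leaf 0xe0a0a0003))) (.node 36236 (.leaf 0x6060106030500040802040105000d) (.node 36237 (.leaf 0x0) (.leaf 0x0))))))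

def argWS_3209 : Store := (.node 36249 (.node 36243 (.node 36240 (.node 36239 (.leaf 0x8d8d0014e4) (.leaf 0xf0b0b0003)) (.node 36241 (.leaf 0x0) (.node 36242 (.leaf 0xf0b0002) (.leaf 0x0)))) (.node 36246 (.node 36244 (.leaf 0x0) (.node 36245 (.leaf 0xb0f0a0a0004) (.leaf 0x903000703040103000a))) (.node 36247 (.leaf 0x0) (.node 36248 (.leaf 0xb0a0f0003) (.leaf 0x0))))) (.node 36255 (.node 36252 (.node 36250 (.leaf 0x301070206000802040105000b) (.node 36251 (.leaf 0x0) (.leaf 0xf0a0002))) (.node 36253 (.leaf 0x0) (.node 36254 (.leaf 0x8d9c008d98) (.leaf 0x6050106030500040202000701000d)))) (.node 36258 (.node 36256 (.leaf 0x0) (.node 36257 (.leaf 0xd0001) (.leaf 0x0))) (.node 36259 (.leaf 0x0) (.node 36260 (.leaf 0xa0001) (.leaf 0xb0f0002))))))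

def argWS_3210 : Store := (.node 36238 argWS_3208 argWS_3209)

def argWS_3211 : Store := (.node 36216 argWS_3207 argWS_3210)

def argWS_3212 : Store := (.node 36171 argWS_3204 argWS_3211)

def argWS_3213 : Store := (.node 36272 (.node 36266 (.node 36263 (.node 36262 (.leaf 0x6040008020401050008) (.leaf 0x0)) (.node 36264 (.leaf 0xb0b0a0a0004) (.node 36265 (.leaf 0x0) (.leaf 0x8da8008da4)))) (.node 36269 (.node 36267 (.leaf 0xb0a0002) (.node 36268 (.leaf 0x0) (.leaf 0xf0b0a0a0004))) (.node 36270 (.leaf 0x0) (.node 36271 (.leaf 0x0) (.leaf 0xf0b0a0003))))) (.node 36277 (.node 36274 (.node 36273 (.leaf 0x60506030500040802040105000c) (.leaf 0x0)) (.node 36275 (.leaf 0x0) (.node 36276 (.leaf 0x8db2) (.leaf 0x3030301010200000703040103000d)))) (.node 36280 (.node 36278 (.leaf 0x0) (.node 36279 (.leaf 0xd0b0b0003) (.leaf 0x0))) (.node 36281 (.leaf 0x502000408010802040105000b) (.node 36282 (.leaf 0x0) (.leaf 0xf0b0a0a0004))))))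

def argWS_3214 : Store := (.node 36294 (.node 36288 (.node 36285 (.node 36284 (.leaf 0xb0b0002) (.leaf 0x30400050005)) (.node 36286 (.leaf 0x0) (.node 36287 (.leaf 0xf0a0002) (.leaf 0x0)))) (.node 36291 (.node 36289 (.leaf 0xb0a0a0003) (.node 36290 (.leaf 0x8dc0008dbf) (.leaf 0xe0a0002))) (.node 36292 (.leaf 0x0) (.node 36293 (.leaf 0x5030603050004000703040103000d) (.leaf 0x0))))) (.node 36300 (.node 36297 (.node 36295 (.leaf 0xf0b0a0a0004) (.node 36296 (.leaf 0xb0a0002) (.leaf 0x705020703000703040103000b))) (.node 36298 (.leaf 0x0) (.node 36299 (.leaf 0xb0f0a0a0004) (.leaf 0x0)))) (.node 36303 (.node 36301 (.leaf 0x8dcb) (.node 36302 (.leaf 0xd0001) (.leaf 0x0))) (.node 36304 (.leaf 0xe0001) (.node 36305 (.leaf 0x0) (.leaf 0x0))))))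

def argWS_3215 : Store := (.node 36283 argWS_3213 argWS_3214)

def argWS_3216 : Store := (.node 36317 (.node 36311 (.node 36308 (.node 36307 (.leaf 0x1010904020005) (.leaf 0x0)) (.node 36309 (.leaf 0xf0a0a0003) (.node 36310 (.leaf 0x0) (.leaf 0xe0a0002)))) (.node 36314 (.node 36312 (.leaf 0x6020107000903000703040103000d) (.node 36313 (.leaf 0x0) (.leaf 0xe0a0a0003))) (.node 36315 (.leaf 0x0) (.node 36316 (.leaf 0x8dda008dd6) (.leaf 0x0))))) (.node 36322 (.node 36319 (.node 36318 (.leaf 0x7070206000202000701000b) (.leaf 0x0)) (.node 36320 (.leaf 0xa0f0b0003) (.node 36321 (.leaf 0x403000207030802040105000b) (.leaf 0x0)))) (.node 36325 (.node 36323 (.leaf 0x0) (.node 36324 (.leaf 0xf0b0a0a0004) (.leaf 0x8de3005b2f))) (.node 36326 (.leaf 0xe0d0002) (.node 36327 (.leaf 0x0) (.leaf 0x9000900090005))))))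

def argWS_3217 : Store := (.node 36339 (.node 36333 (.node 36330 (.node 36329 (.leaf 0x0) (.leaf 0xd0b0002)) (.node 36331 (.leaf 0x709040202020007010009) (.node 36332 (.leaf 0x0) (.leaf 0xf0b0002)))) (.node 36336 (.node 36334 (.leaf 0x0) (.node 36335 (.leaf 0xf0001) (.leaf 0x8050006020702010802040105000d))) (.node 36337 (.leaf 0x0) (.node 36338 (.leaf 0xe0a0a0003) (.leaf 0x0))))) (.node 36345 (.node 36342 (.node 36340 (.leaf 0x8df2008dee) (.node 36341 (.leaf 0xf0b0b0a0004) (.leaf 0x0))) (.node 36343 (.leaf 0xb0001) (.node 36344 (.leaf 0x0) (.leaf 0x0)))) (.node 36348 (.node 36346 (.leaf 0xb0b0a0003) (.node 36347 (.leaf 0x204030603050004000703040103000e) (.leaf 0x0))) (.node 36349 (.leaf 0xb0a0002) (.node 36350 (.leaf 0x0) (.leaf 0xe0001))))))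

def argWS_3218 : Store := (.node 36328 argWS_3216 argWS_3217)

def argWS_3219 : Store := (.node 36306 argWS_3215 argWS_3218)

def argWS_3220 : Store := (.node 36362 (.node 36356 (.node 36353 (.node 36352 (.leaf 0x8dfe008dfd) (.leaf 0xb0001)) (.node 36354 (.leaf 0x0) (.node 36355 (.leaf 0x2010904020802040105000a) (.leaf 0x0)))) (.node 36359 (.node 36357 (.leaf 0xb0f0002) (.node 36358 (.leaf 0xb0f0a0003) (.leaf 0x90303080004))) (.node 36360 (.leaf 0x0) (.node 36361 (.leaf 0x0) (.leaf 0x107000206030006))))) (.node 36367 (.node 36364 (.node 36363 (.leaf 0x0) (.leaf 0xe0a0002)) (.node 36365 (.leaf 0x0) (.node 36366 (.leaf 0x8e0c008e08) (.leaf 0xb0001)))) (.node 36370 (.node 36368 (.leaf 0x0) (.node 36369 (.leaf 0x9000206030802040105000b) (.leaf 0x0))) (.node 36371 (.leaf 0xb0a0f0003) (.node 36372 (.leaf 0xa0a0002) (.leaf 0x8d89))))))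

def argWS_3221 : Store := (.node 36384 (.node 36378 (.node 36375 (.node 36374 (.leaf 0xf0b0002) (.leaf 0x0)) (.node 36376 (.leaf 0xb0a0002) (.node 36377 (.leaf 0x0) (.leaf 0x0)))) (.node 36381 (.node 36379 (.leaf 0x204000003010202000701000b) (.node 36380 (.leaf 0x0) (.leaf 0x0))) (.node 36382 (.leaf 0x9070206020007010008) (.node 36383 (.leaf 0x0) (.leaf 0x0))))) (.node 36390 (.node 36387 (.node 36385 (.leaf 0xf0b0a0003) (.node 36386 (.leaf 0x8e20008e1f) (.leaf 0xb0f0002))) (.node 36388 (.leaf 0x0) (.node 36389 (.leaf 0xd0001) (.leaf 0x0)))) (.node 36393 (.node 36391 (.leaf 0x0) (.node 36392 (.leaf 0x1030102020007010008) (.leaf 0x0))) (.node 36394 (.leaf 0x0) (.node 36395 (.leaf 0x3000408010202000701000a) (.leaf 0x0))))))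

def argWS_3222 : Store := (.node 36373 argWS_3220 argWS_3221)

def argWS_3223 : Store := (.node 36407 (.node 36401 (.node 36398 (.node 36397 (.leaf 0xf0b0a0a0004) (.leaf 0x0)) (.node 36399 (.leaf 0x8e2d008e29) (.node 36400 (.leaf 0xb0a0f0003) (.leaf 0x0)))) (.node 36404 (.node 36402 (.leaf 0xd0b0002) (.node 36403 (.leaf 0x0) (.leaf 0x0))) (.node 36405 (.leaf 0x300050007030401030009) (.node 36406 (.leaf 0x0) (.leaf 0xf0a0a0003))))) (.node 36412 (.node 36409 (.node 36408 (.leaf 0x0) (.leaf 0x7000007020600000703040103000d)) (.node 36410 (.leaf 0x0) (.node 36411 (.leaf 0x0) (.leaf 0x8e3a008e37)))) (.node 36415 (.node 36413 (.leaf 0x602020901060006) (.node 36414 (.leaf 0x0) (.leaf 0xe0a0a0003))) (.node 36416 (.leaf 0x0) (.node 36417 (.leaf 0x40004090806000802040105000c) (.leaf 0x0))))))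

def argWS_3224 : Store := (.node 36429 (.node 36423 (.node 36420 (.node 36419 (.leaf 0xa0f0b0003) (.leaf 0x2090103010102000802040105000d)) (.node 36421 (.leaf 0x0) (.node 36422 (.leaf 0xa0f0b0003) (.leaf 0x0)))) (.node 36426 (.node 36424 (.leaf 0xf0b0b0a0004) (.node 36425 (.leaf 0x8bd9008e47) (.leaf 0x6030500040202000701000a))) (.node 36427 (.leaf 0x0) (.node 36428 (.leaf 0xa0f0002) (.leaf 0x0))))) (.node 36435 (.node 36432 (.node 36430 (.leaf 0xb0a0a0003) (.node 36431 (.leaf 0x0) (.leaf 0x0))) (.node 36433 (.leaf 0xa0001) (.node 36434 (.leaf 0x6a25008e50) (.leaf 0x5020604000703040103000a)))) (.node 36438 (.node 36436 (.leaf 0x0) (.node 36437 (.leaf 0xf0b0a0003) (.leaf 0x0))) (.node 36439 (.leaf 0x1030006010500020802040105000d) (.node 36440 (.leaf 0x0) (.leaf 0xb0f0a0003))))))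

def argWS_3225 : Store := (.node 36418 argWS_3223 argWS_3224)

def argWS_3226 : Store := (.node 36396 argWS_3222 argWS_3225)

def argWS_3227 : Store := (.node 36351 argWS_3219 argWS_3226)

def argWS_3228 : Store := (.node 36261 argWS_3212 argWS_3227)

def argWS_3229 : Store := (.node 36452 (.node 36446 (.node 36443 (.node 36442 (.leaf 0xd0b0b0003) (.leaf 0x6050106030500040202000701000d)) (.node 36444 (.leaf 0x0) (.node 36445 (.leaf 0xa0f0002) (.leaf 0x0)))) (.node 36449 (.node 36447 (.leaf 0xe0001) (.node 36448 (.leaf 0x8e5e008e5d) (.leaf 0x20903010703060802040105000c))) (.node 36450 (.leaf 0x0) (.node 36451 (.leaf 0xf0b0b0a0a0005) (.leaf 0x0))))) (.node 36457 (.node 36454 (.node 36453 (.leaf 0x107030802020007010009) (.leaf 0x0)) (.node 36455 (.leaf 0xb0a0f0003) (.node 36456 (.leaf 0xd0b0002) (.leaf 0x80200020901060802040105000c)))) (.node 36460 (.node 36458 (.leaf 0x0) (.node 36459 (.leaf 0x0) (.leaf 0x8e6a))) (.node 36461 (.leaf 0x4000309080600000703040103000d)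 (.node 36462 (.leaf 0x0) (.leaf 0xf0a0a0003))))))

def argWS_3230 : Store := (.node 36474 (.node 36468 (.node 36465 (.node 36464 (.leaf 0xe0001) (.leaf 0xa0f0b0b0004)) (.node 36466 (.leaf 0x1020106060802040105000a) (.node 36467 (.leaf 0x0) (.leaf 0xa0001)))) (.node 36471 (.node 36469 (.leaf 0x0) (.node 36470 (.leaf 0x8e74008e70) (.leaf 0x4000306010500020008))) (.node 36472 (.leaf 0x0) (.node 36473 (.leaf 0xd0001) (.leaf 0x0))))) (.node 36480 (.node 36477 (.node 36475 (.leaf 0x200080007030401030009) (.node 36476 (.leaf 0x0) (.leaf 0xa0f0b0003))) (.node 36478 (.leaf 0x305000402020007010009) (.node 36479 (.leaf 0x0) (.leaf 0xa0f0b0003)))) (.node 36483 (.node 36481 (.leaf 0x0) (.node 36482 (.leaf 0x304030900090006) (.leaf 0x0))) (.node 36484 (.leaf 0xf0b0b0a0004) (.node 36485 (.leaf 0x0) (.leaf 0x8e84))))))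

def argWS_3231 : Store := (.node 36463 argWS_3229 argWS_3230)

def argWS_3232 : Store := (.node 36497 (.node 36491 (.node 36488 (.node 36487 (.leaf 0xb0a0f0003) (.leaf 0x0)) (.node 36489 (.leaf 0xf0b0a0003) (.node 36490 (.leaf 0x0) (.leaf 0x0)))) (.node 36494 (.node 36492 (.leaf 0xa0f0b0003) (.node 36493 (.leaf 0xf0b0b0a0004) (.leaf 0x80300090806000202000701000c))) (.node 36495 (.leaf 0x0) (.node 36496 (.leaf 0xe0d0002) (.leaf 0x0))))) (.node 36502 (.node 36499 (.node 36498 (.leaf 0x8e90008e8c) (.leaf 0xf0b0b0a0a0005)) (.node 36500 (.leaf 0x0) (.node 36501 (.leaf 0x502010901090202000701000b) (.leaf 0x0)))) (.node 36505 (.node 36503 (.leaf 0xf0b0a0a0004) (.node 36504 (.leaf 0xa0a0002) (.leaf 0x40007000902000701000a))) (.node 36506 (.leaf 0x0) (.node 36507 (.leaf 0xa0001) (.leaf 0x0))))))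

def argWS_3233 : Store := (.node 36519 (.node 36513 (.node 36510 (.node 36509 (.leaf 0x400040400050202000701000b) (.leaf 0x0)) (.node 36511 (.leaf 0xb0a0002) (.node 36512 (.leaf 0x0) (.leaf 0x8e9f008e9b)))) (.node 36516 (.node 36514 (.leaf 0xd0001) (.node 36515 (.leaf 0x0) (.leaf 0x60400020106060202000701000c))) (.node 36517 (.leaf 0x0) (.node 36518 (.leaf 0xf0a0a0003) (.leaf 0xd0b0b0003))))) (.node 36525 (.node 36522 (.node 36520 (.leaf 0xe0a0002) (.node 36521 (.leaf 0xe0a0a0003) (.leaf 0x8ea8008ea7))) (.node 36523 (.leaf 0xf0b0a0003) (.node 36524 (.leaf 0x0) (.leaf 0x2020900000802040105000a)))) (.node 36528 (.node 36526 (.leaf 0x0) (.node 36527 (.leaf 0xb0b0a0003) (.leaf 0xb0a0a0003))) (.node 36529 (.leaf 0x9050303010102000202000701000d) (.node 36530 (.leaf 0x0) (.leaf 0xb0a0a0003))))))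

def argWS_3234 : Store := (.node 36508 argWS_3232 argWS_3233)

def argWS_3235 : Store := (.node 36486 argWS_3231 argWS_3234)

def argWS_3236 : Store := (.node 36542 (.node 36536 (.node 36533 (.node 36532 (.leaf 0x0) (.leaf 0xa0f0002)) (.node 36534 (.leaf 0x8eb4008eb3) (.node 36535 (.leaf 0xa0f0002) (.leaf 0x0)))) (.node 36539 (.node 36537 (.leaf 0x4030002010606000703040103000d) (.node 36538 (.leaf 0x0) (.leaf 0xa0f0002))) (.node 36540 (.leaf 0x5ce1) (.node 36541 (.leaf 0xb0b0002) (.leaf 0x0))))) (.node 36547 (.node 36544 (.node 36543 (.leaf 0x90009020602000703040103000c) (.leaf 0x0)) (.node 36545 (.leaf 0xb0f0a0a0004) (.node 36546 (.leaf 0xa0f0002) (.leaf 0xe0d0002)))) (.node 36550 (.node 36548 (.leaf 0x0) (.node 36549 (.leaf 0x8ec3) (.leaf 0x60503010102000802040105000c))) (.node 36551 (.leaf 0x0) (.node 36552 (.leaf 0xb0a0f0003) (.leaf 0x0))))))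

def argWS_3237 : Store := (.node 36564 (.node 36558 (.node 36555 (.node 36554 (.leaf 0xb0a0f0003) (.leaf 0x0)) (.node 36556 (.leaf 0x0) (.node 36557 (.leaf 0xf0b0a0a0004) (.leaf 0xe0a0a0003)))) (.node 36561 (.node 36559 (.leaf 0x60102010606000703040103000c) (.node 36560 (.leaf 0x0) (.leaf 0xd0b0002))) (.node 36562 (.leaf 0x0) (.node 36563 (.leaf 0x8ed1008ecd) (.leaf 0xf0a0a0003))))) (.node 36570 (.node 36567 (.node 36565 (.leaf 0x0) (.node 36566 (.leaf 0x4000402000003010202000701000d) (.leaf 0x0))) (.node 36568 (.leaf 0xe0a0002) (.node 36569 (.leaf 0x103000300000202000701000b) (.leaf 0x0)))) (.node 36573 (.node 36571 (.leaf 0xf0b0b0a0a0005) (.node 36572 (.leaf 0x0) (.leaf 0x60006010500020008))) (.node 36574 (.leaf 0x0) (.node 36575 (.leaf 0xa0a0002) (.leaf 0x0))))))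

def argWS_3238 : Store := (.node 36553 argWS_3236 argWS_3237)

def argWS_3239 : Store := (.node 36587 (.node 36581 (.node 36578 (.node 36577 (.leaf 0x8edf008edb) (.leaf 0xa0f0b0b0004)) (.node 36579 (.leaf 0x0) (.node 36580 (.leaf 0xd0001) (.leaf 0x0)))) (.node 36584 (.node 36582 (.leaf 0x0) (.node 36583 (.leaf 0xb0b0a0a0004) (.leaf 0xd0001))) (.node 36585 (.leaf 0x8ee7) (.node 36586 (.leaf 0x90006010500020802040105000d) (.leaf 0x0))))) (.node 36592 (.node 36589 (.node 36588 (.leaf 0xb0b0002) (.leaf 0x0)) (.node 36590 (.leaf 0x2090106060202000701000a) (.node 36591 (.leaf 0x0) (.leaf 0xf0b0b0a0a0005)))) (.node 36595 (.node 36593 (.leaf 0x178d) (.node 36594 (.leaf 0x40206020007010008) (.leaf 0x0))) (.node 36596 (.leaf 0xb0a0f0003) (.node 36597 (.leaf 0x0) (.leaf 0xa0001))))))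

def argWS_3240 : Store := (.node 36609 (.node 36603 (.node 36600 (.node 36599 (.leaf 0x0) (.leaf 0x0)) (.node 36601 (.leaf 0xf0a0a0003) (.node 36602 (.leaf 0xd0b0b0003) (.leaf 0xe0d0002)))) (.node 36606 (.node 36604 (.leaf 0x8efa008ef9) (.node 36605 (.leaf 0xd0001) (.leaf 0x0))) (.node 36607 (.leaf 0x3070000030306040008) (.node 36608 (.leaf 0x0) (.leaf 0xb0a0f0003))))) (.node 36615 (.node 36612 (.node 36610 (.leaf 0xe0a0002) (.node 36611 (.leaf 0x8050003010102000008) (.leaf 0x0))) (.node 36613 (.leaf 0xb0a0f0003) (.node 36614 (.leaf 0x0) (.leaf 0x800040005000703040103000c)))) (.node 36618 (.node 36616 (.leaf 0x0) (.node 36617 (.leaf 0xb0001) (.leaf 0x0))) (.node 36619 (.leaf 0x8f09008f05) (.node 36620 (.leaf 0xb0b0a0003) (.leaf 0x0))))))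

def argWS_3241 : Store := (.node 36598 argWS_3239 argWS_3240)

def argWS_3242 : Store := (.node 36576 argWS_3238 argWS_3241)

def argWS_3243 : Store := (.node 36531 argWS_3235 argWS_3242)

def argWS_3244 : Store := (.node 36632 (.node 36626 (.node 36623 (.node 36622 (.leaf 0xb0f0a0003) (.leaf 0x0)) (.node 36624 (.leaf 0x0) (.node 36625 (.leaf 0xf0a0a0003) (.leaf 0x40703060004)))) (.node 36629 (.node 36627 (.leaf 0x0) (.node 36628 (.leaf 0xd0b0002) (.leaf 0x0))) (.node 36630 (.leaf 0xf0a0002) (.node 36631 (.leaf 0x8f15008f14) (.leaf 0xf0b0b0a0a0005))))) (.node 36637 (.node 36634 (.node 36633 (.leaf 0x0) (.leaf 0xd0b0002)) (.node 36635 (.leaf 0x0) (.node 36636 (.leaf 0x0) (.leaf 0x30406020007010007)))) (.node 36640 (.node 36638 (.leaf 0x0) (.node 36639 (.leaf 0xf0b0a0a0004) (.leaf 0x0))) (.node 36641 (.leaf 0x2020202090106000703040103000d) (.node 36642 (.leaf 0x0) (.leaf 0xf0001))))))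

def argWS_3245 : Store := (.node 36654 (.node 36648 (.node 36645 (.node 36644 (.leaf 0x0) (.leaf 0x8f23)) (.node 36646 (.leaf 0x8050703060005) (.node 36647 (.leaf 0x0) (.leaf 0xf0b0a0003)))) (.node 36651 (.node 36649 (.leaf 0x0) (.node 36650 (.leaf 0x60400000408010007) (.leaf 0x0))) (.node 36652 (.leaf 0xb0f0a0a0004) (.node 36653 (.leaf 0xa0f0002) (.leaf 0x7040400050202000701000a))))) (.node 36660 (.node 36657 (.node 36655 (.leaf 0x0) (.node 36656 (.leaf 0xb0f0a0003) (.leaf 0x0))) (.node 36658 (.leaf 0x4020804000202000701000a) (.node 36659 (.leaf 0x0) (.leaf 0xe0a0a0003)))) (.node 36663 (.node 36661 (.leaf 0x0) (.node 36662 (.leaf 0x8f34008f30) (.leaf 0x60301010200000703040103000d))) (.node 36664 (.leaf 0x0) (.node 36665 (.leaf 0xb0a0f0003) (.leaf 0x0))))))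

def argWS_3246 : Store := (.node 36643 argWS_3244 argWS_3245)

def argWS_3247 : Store := (.node 36677 (.node 36671 (.node 36668 (.node 36667 (.leaf 0xb0b0a0003) (.leaf 0x0)) (.node 36669 (.leaf 0x0) (.node 36670 (.leaf 0xa0001) (.leaf 0x60401010904020202000701000c)))) (.node 36674 (.node 36672 (.leaf 0x0) (.node 36673 (.leaf 0xf0a0002) (.leaf 0x0))) (.node 36675 (.leaf 0xf0b0a0003) (.node 36676 (.leaf 0x8f42008f41) (.leaf 0xf0a0002))))) (.node 36682 (.node 36679 (.node 36678 (.leaf 0x0) (.leaf 0xf0b0b0003)) (.node 36680 (.leaf 0x0) (.node 36681 (.leaf 0x0) (.leaf 0x403000900090802040105000b)))) (.node 36685 (.node 36683 (.leaf 0x0) (.node 36684 (.leaf 0xf0b0a0a0004) (.leaf 0x0))) (.node 36686 (.leaf 0xf0b0b0a0004) (.node 36687 (.leaf 0x40402020007010007) (.leaf 0x0))))))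

def argWS_3248 : Store := (.node 36699 (.node 36693 (.node 36690 (.node 36689 (.leaf 0xf0001) (.leaf 0x0)) (.node 36691 (.leaf 0x8f51008f4d) (.node 36692 (.leaf 0x702090208020401050009) (.leaf 0x0)))) (.node 36696 (.node 36694 (.leaf 0xf0b0a0a0004) (.node 36695 (.leaf 0x0) (.leaf 0x2070009030006))) (.node 36697 (.leaf 0x0) (.node 36698 (.leaf 0xb0a0f0003) (.leaf 0x20209020004))))) (.node 36705 (.node 36702 (.node 36700 (.leaf 0x0) (.node 36701 (.leaf 0xe0a0a0003) (.leaf 0x0))) (.node 36703 (.leaf 0x42bd) (.node 36704 (.leaf 0x9030002020900000202000701000d) (.leaf 0x0)))) (.node 36708 (.node 36706 (.leaf 0xa0f0b0b0004) (.node 36707 (.leaf 0x0) (.leaf 0xf0001))) (.node 36709 (.leaf 0x0) (.node 36710 (.leaf 0x0) (.leaf 0x3040900090005))))))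

def argWS_3249 : Store := (.node 36688 argWS_3247 argWS_3248)

def argWS_3250 : Store := (.node 36666 argWS_3246 argWS_3249)

def argWS_3251 : Store := (.node 36722 (.node 36716 (.node 36713 (.node 36712 (.leaf 0x0) (.leaf 0xb0b0a0a0004)) (.node 36714 (.leaf 0x0) (.node 36715 (.leaf 0x50102010606000703040103000c) (.leaf 0x0)))) (.node 36719 (.node 36717 (.leaf 0xa0f0b0003) (.node 36718 (.leaf 0x0) (.leaf 0x8f6d))) (.node 36720 (.leaf 0x30403010904020202000701000c) (.node 36721 (.leaf 0x0) (.leaf 0xb0b0002))))) (.node 36727 (.node 36724 (.node 36723 (.leaf 0x0) (.leaf 0x20403010908050202000701000c)) (.node 36725 (.leaf 0x0) (.node 36726 (.leaf 0xa0001) (.leaf 0x400040900090006)))) (.node 36730 (.node 36728 (.leaf 0x0) (.node 36729 (.leaf 0xa0f0b0b0004) (.leaf 0x0))) (.node 36731 (.leaf 0xb0a0002) (.node 36732 (.leaf 0x8f7a008f79) (.leaf 0xf0a0a0003))))))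

def argWS_3252 : Store := (.node 36744 (.node 36738 (.node 36735 (.node 36734 (.leaf 0x0) (.leaf 0x60500020804000202000701000c)) (.node 36736 (.leaf 0x0) (.node 36737 (.leaf 0xb0a0002) (.leaf 0x10206010500020202000701000c)))) (.node 36741 (.node 36739 (.leaf 0x0) (.node 36740 (.leaf 0xb0f0a0a0004) (.leaf 0x0))) (.node 36742 (.leaf 0x9000603050004000703040103000e) (.node 36743 (.leaf 0x0) (.leaf 0xa0f0b0b0004))))) (.node 36750 (.node 36747 (.node 36745 (.leaf 0x0) (.node 36746 (.leaf 0x901040206030006) (.leaf 0x0))) (.node 36748 (.leaf 0xf0a0002) (.node 36749 (.leaf 0x0) (.leaf 0x8f8c008f88)))) (.node 36753 (.node 36751 (.leaf 0x1020103080005) (.node 36752 (.leaf 0x0) (.leaf 0xf0a0002))) (.node 36754 (.leaf 0x0) (.node 36755 (.leaf 0x60601040005000703040103000c) (.leaf 0x0))))))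

def argWS_3253 : Store := (.node 36733 argWS_3251 argWS_3252)

def argWS_3254 : Store := (.node 36767 (.node 36761 (.node 36758 (.node 36757 (.leaf 0xf0001) (.leaf 0x4040003030604000703040103000d)) (.node 36759 (.leaf 0x0) (.node 36760 (.leaf 0xb0a0a0003) (.leaf 0x0)))) (.node 36764 (.node 36762 (.leaf 0xf0b0002) (.node 36763 (.leaf 0x2050206040202000701000a) (.leaf 0x0))) (.node 36765 (.leaf 0xf0b0b0a0004) (.node 36766 (.leaf 0x0) (.leaf 0x8f9d008f99))))) (.node 36773 (.node 36770 (.node 36768 (.leaf 0x103090806000006) (.node 36769 (.leaf 0x0) (.leaf 0xb0b0a0003))) (.node 36771 (.leaf 0x0) (.node 36772 (.leaf 0x2070901090202000701000a) (.leaf 0x0)))) (.node 36776 (.node 36774 (.leaf 0xe0001) (.node 36775 (.leaf 0x20901070009030802040105000c) (.leaf 0x0))) (.node 36777 (.leaf 0xb0b0a0003) (.node 36778 (.leaf 0x0) (.leaf 0xf0001))))))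

def argWS_3255 : Store := (.node 36790 (.node 36784 (.node 36781 (.node 36780 (.leaf 0x8faa) (.leaf 0xe0d0002)) (.node 36782 (.leaf 0x0) (.node 36783 (.leaf 0x2000502020007010008) (.leaf 0x0)))) (.node 36787 (.node 36785 (.leaf 0xf0a0a0003) (.node 36786 (.leaf 0xb0b0a0003) (.leaf 0x500040003))) (.node 36788 (.leaf 0x0) (.node 36789 (.leaf 0xd0001) (.leaf 0x0))))) (.node 36796 (.node 36793 (.node 36791 (.leaf 0xd0001) (.node 36792 (.leaf 0x8fb6008fb5) (.leaf 0xb0b0a0003))) (.node 36794 (.leaf 0x0) (.node 36795 (.leaf 0xb0f0a0a0004) (.leaf 0x0)))) (.node 36799 (.node 36797 (.leaf 0x0) (.node 36798 (.leaf 0x303070009030802040105000b) (.leaf 0x0))) (.node 36800 (.leaf 0xd0b0002) (.node 36801 (.leaf 0x0) (.leaf 0x2d89))))))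

def argWS_3256 : Store := (.node 36779 argWS_3254 argWS_3255)

def argWS_3257 : Store := (.node 36756 argWS_3253 argWS_3256)

def argWS_3258 : Store := (.node 36711 argWS_3250 argWS_3257)

def argWS_3259 : Store := (.node 36621 argWS_3243 argWS_3258)

def argWS_3260 : Store := (.node 36441 argWS_3228 argWS_3259)

def argWS_3261 : Store := (.node 36813 (.node 36807 (.node 36804 (.node 36803 (.leaf 0x502070206000202000701000b) (.leaf 0x0)) (.node 36805 (.leaf 0xa0001) (.node 36806 (.leaf 0x0) (.leaf 0x1040000000300000008)))) (.node 36810 (.node 36808 (.leaf 0x0) (.node 36809 (.leaf 0xf0b0a0003) (.leaf 0x30400050802040105000a))) (.node 36811 (.leaf 0x0) (.node 36812 (.leaf 0xd0b0002) (.leaf 0x0))))) (.node 36818 (.node 36815 (.node 36814 (.leaf 0xb0f0002) (.leaf 0x30000000300000007)) (.node 36816 (.leaf 0x0) (.node 36817 (.leaf 0xf0b0a0003) (.leaf 0x0)))) (.node 36821 (.node 36819 (.leaf 0x8fd1008fcd) (.node 36820 (.leaf 0x60401010703060007) (.leaf 0x0)))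 (.node 36822 (.leaf 0xb0a0a0003) (.node 36823 (.leaf 0x0) (.leaf 0x403010102000802040105000c))))))

def argWS_3262 : Store := (.node 36835 (.node 36829 (.node 36826 (.node 36825 (.leaf 0x0) (.leaf 0xb0b0a0003)) (.node 36827 (.leaf 0xd0b0002) (.node 36828 (.leaf 0x6020109000009000703040103000d) (.leaf 0x0)))) (.node 36832 (.node 36830 (.leaf 0x0) (.node 36831 (.leaf 0x8fdd0001e1) (.leaf 0xf0b0b0a0a0005))) (.node 36833 (.leaf 0x0) (.node 36834 (.leaf 0x209020003) (.leaf 0x0))))) (.node 36841 (.node 36838 (.node 36836 (.leaf 0xa0f0002) (.node 36837 (.leaf 0x500040003) (.leaf 0x0))) (.node 36839 (.leaf 0xf0b0a0a0004) (.node 36840 (.leaf 0x0) (.leaf 0xb0b0a0a0004)))) (.node 36844 (.node 36842 (.leaf 0xe0a0a0003) (.node 36843 (.leaf 0x0) (.leaf 0x8fea008fe8))) (.node 36845 (.leaf 0x0) (.node 36846 (.leaf 0xe0a0002) (.leaf 0x0))))))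

def argWS_3263 : Store := (.node 36824 argWS_3261 argWS_3262)

def argWS_3264 : Store := (.node 36858 (.node 36852 (.node 36849 (.node 36848 (.leaf 0x402050308000703040103000b) (.leaf 0x0)) (.node 36850 (.leaf 0xf0a0a0003) (.node 36851 (.leaf 0x206020007010006) (.leaf 0x0)))) (.node 36855 (.node 36853 (.leaf 0xe0001) (.node 36854 (.leaf 0x0) (.leaf 0x805000400050202000701000b))) (.node 36856 (.leaf 0x0) (.node 36857 (.leaf 0xa0f0002) (.leaf 0x0))))) (.node 36863 (.node 36860 (.node 36859 (.leaf 0x8ff9) (.leaf 0xb0a0002)) (.node 36861 (.leaf 0x0) (.node 36862 (.leaf 0x50201070206000202000701000c) (.leaf 0x0)))) (.node 36866 (.node 36864 (.leaf 0xf0001) (.node 36865 (.leaf 0x3050308000703040103000a) (.leaf 0x0))) (.node 36867 (.leaf 0xb0f0a0003) (.node 36868 (.leaf 0x0) (.leaf 0x9070006010500020802040105000d))))))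

def argWS_3265 : Store := (.node 36880 (.node 36874 (.node 36871 (.node 36870 (.leaf 0x0) (.leaf 0xf0a0a0003)) (.node 36872 (.leaf 0x0) (.node 36873 (.leaf 0xe0001) (.leaf 0x9008009007)))) (.node 36877 (.node 36875 (.leaf 0xb0b0a0003) (.node 36876 (.leaf 0x0) (.leaf 0x10502010908050202000701000c))) (.node 36878 (.leaf 0x0) (.node 36879 (.leaf 0xa0a0002) (.leaf 0xb0b0a0a0004))))) (.node 36886 (.node 36883 (.node 36881 (.leaf 0xd0001) (.node 36882 (.leaf 0x40002000003010802040105000d) (.leaf 0x0))) (.node 36884 (.leaf 0xa0a0002) (.node 36885 (.leaf 0x0) (.leaf 0x70101050206040202000701000c)))) (.node 36889 (.node 36887 (.leaf 0x0) (.node 36888 (.leaf 0xd0b0002) (.leaf 0x0))) (.node 36890 (.leaf 0x9018009014) (.node 36891 (.leaf 0x701070206000006) (.leaf 0x0))))))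

def argWS_3266 : Store := (.node 36869 argWS_3264 argWS_3265)

def argWS_3267 : Store := (.node 36847 argWS_3263 argWS_3266)

def argWS_3268 : Store := (.node 36903 (.node 36897 (.node 36894 (.node 36893 (.leaf 0xa0001) (.leaf 0x0)) (.node 36895 (.leaf 0xb0a0002) (.node 36896 (.leaf 0x0) (.leaf 0xd0b0002)))) (.node 36900 (.node 36898 (.leaf 0xd0b0b0003) (.node 36899 (.leaf 0x9021) (.leaf 0xd0001))) (.node 36901 (.leaf 0x0) (.node 36902 (.leaf 0xb0001) (.leaf 0x0))))) (.node 36908 (.node 36905 (.node 36904 (.leaf 0x0) (.leaf 0xe0001)) (.node 36906 (.leaf 0x20202090106000703040103000c) (.node 36907 (.leaf 0x0) (.leaf 0xf0b0a0003)))) (.node 36911 (.node 36909 (.leaf 0x0) (.node 36910 (.leaf 0xf0a0a0003) (.leaf 0x902d00902c))) (.node 36912 (.leaf 0xb0b0002) (.node 36913 (.leaf 0x0) (.leaf 0xb0f0a0a0004))))))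

def argWS_3269 : Store := (.node 36925 (.node 36919 (.node 36916 (.node 36915 (.leaf 0x0) (.leaf 0x0)) (.node 36917 (.leaf 0x2040102020007010008) (.node 36918 (.leaf 0x0) (.leaf 0xa0f0b0003)))) (.node 36922 (.node 36920 (.leaf 0x0) (.node 36921 (.leaf 0xe0a0a0003) (.leaf 0x0))) (.node 36923 (.leaf 0x9039) (.node 36924 (.leaf 0x104000207030006) (.leaf 0x0))))) (.node 36931 (.node 36928 (.node 36926 (.leaf 0xb0b0a0003) (.node 36927 (.leaf 0x0) (.leaf 0x40004070209020202000701000c))) (.node 36929 (.leaf 0x0) (.node 36930 (.leaf 0xb0a0002) (.leaf 0x900f)))) (.node 36934 (.node 36932 (.leaf 0x80300060207020703040103000c) (.node 36933 (.leaf 0x0) (.leaf 0xb0b0a0003))) (.node 36935 (.leaf 0x0) (.node 36936 (.leaf 0x8030002090106000703040103000d) (.leaf 0x0))))))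

def argWS_3270 : Store := (.node 36914 argWS_3268 argWS_3269)

def argWS_3271 : Store := (.node 36948 (.node 36942 (.node 36939 (.node 36938 (.leaf 0xa0001) (.leaf 0x2020000030703040103000a)) (.node 36940 (.leaf 0x0) (.node 36941 (.leaf 0xf0b0b0a0a0005) (.leaf 0x0)))) (.node 36945 (.node 36943 (.leaf 0x6010901090202000701000a) (.node 36944 (.leaf 0x0) (.leaf 0xb0a0002))) (.node 36946 (.leaf 0x0) (.node 36947 (.leaf 0x705050206040202000701000b) (.leaf 0x0))))) (.node 36953 (.node 36950 (.node 36949 (.leaf 0xe0a0002) (.leaf 0x0)) (.node 36951 (.leaf 0x9055009051) (.node 36952 (.leaf 0x90503090000090202000701000c) (.leaf 0x0)))) (.node 36956 (.node 36954 (.leaf 0xa0001) (.node 36955 (.leaf 0x0) (.leaf 0x70000050206040802040105000c))) (.node 36957 (.leaf 0x0) (.node 36958 (.leaf 0xf0001) (.leaf 0xe0d0002))))))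

def argWS_3272 : Store := (.node 36970 (.node 36964 (.node 36961 (.node 36960 (.leaf 0x3010207030005) (.leaf 0x0)) (.node 36962 (.leaf 0xf0001) (.node 36963 (.leaf 0x0) (.leaf 0x9062)))) (.node 36967 (.node 36965 (.leaf 0xb0a0a0003) (.node 36966 (.leaf 0x0) (.leaf 0x604020804000006))) (.node 36968 (.leaf 0x0) (.node 36969 (.leaf 0xb0f0a0a0004) (.leaf 0xb0a0f0003))))) (.node 36976 (.node 36973 (.node 36971 (.leaf 0x602020106060006) (.node 36972 (.leaf 0x0) (.leaf 0xe0a0002))) (.node 36974 (.leaf 0x0) (.node 36975 (.leaf 0xb0f0002) (.leaf 0x906e00906d)))) (.node 36979 (.node 36977 (.leaf 0x0) (.node 36978 (.leaf 0xa0f0b0b0004) (.leaf 0x0))) (.node 36980 (.leaf 0xa0f0b0b0004) (.node 36981 (.leaf 0x0) (.leaf 0x0))))))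

def argWS_3273 : Store := (.node 36959 argWS_3271 argWS_3272)

def argWS_3274 : Store := (.node 36937 argWS_3270 argWS_3273)

def argWS_3275 : Store := (.node 36892 argWS_3267 argWS_3274)

def argWS_3276 : Store := (.node 36993 (.node 36987 (.node 36984 (.node 36983 (.leaf 0x308020401050006) (.leaf 0x0)) (.node 36985 (.leaf 0xf0b0002) (.node 36986 (.leaf 0x0) (.leaf 0xf0001)))) (.node 36990 (.node 36988 (.leaf 0x907a) (.node 36989 (.leaf 0xe0a0002) (.leaf 0x0))) (.node 36991 (.leaf 0x90309080600000703040103000c) (.node 36992 (.leaf 0x0) (.leaf 0xa0f0002))))) (.node 36998 (.node 36995 (.node 36994 (.leaf 0x206010400050802040105000b) (.leaf 0x0)) (.node 36996 (.leaf 0xa0001) (.node 36997 (.leaf 0x0) (.leaf 0x10106020702010802040105000c)))) (.node 37001 (.node 36999 (.leaf 0x0) (.node 37000 (.leaf 0xf0b0b0a0004) (.leaf 0x0))) (.node 37002 (.leaf 0xf0b0002) (.node 37003 (.leaf 0x9089009088) (.leaf 0xb0f0a0003))))))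

def argWS_3277 : Store := (.node 37015 (.node 37009 (.node 37006 (.node 37005 (.leaf 0x0) (.leaf 0x900000902020007010009)) (.node 37007 (.leaf 0x0) (.node 37008 (.leaf 0xa0a0002) (.leaf 0xb0f0002)))) (.node 37012 (.node 37010 (.leaf 0x8000003010102000202000701000d) (.node 37011 (.leaf 0x0) (.leaf 0x0))) (.node 37013 (.leaf 0x10202040005000703040103000c) (.node 37014 (.leaf 0x0) (.leaf 0xd0b0b0003))))) (.node 37021 (.node 37018 (.node 37016 (.leaf 0x0) (.node 37017 (.leaf 0x9097009093) (.leaf 0xf0b0002))) (.node 37019 (.leaf 0x0) (.node 37020 (.leaf 0x0) (.leaf 0xf0b0a0a0004)))) (.node 37024 (.node 37022 (.leaf 0x305070009030006) (.node 37023 (.leaf 0x0) (.leaf 0xb0a0a0003))) (.node 37025 (.leaf 0x0) (.node 37026 (.leaf 0x80200060207020703040103000c) (.leaf 0x0))))))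

def argWS_3278 : Store := (.node 37004 argWS_3276 argWS_3277)

def argWS_3279 : Store := (.node 37038 (.node 37032 (.node 37029 (.node 37028 (.leaf 0xf0b0b0a0a0005) (.leaf 0x0)) (.node 37030 (.leaf 0x90a40090a0) (.node 37031 (.leaf 0xb0f0002) (.leaf 0x0)))) (.node 37035 (.node 37033 (.leaf 0xe0d0002) (.node 37034 (.leaf 0x0) (.leaf 0x0))) (.node 37036 (.leaf 0xf0b0b0a0004) (.node 37037 (.leaf 0x10301070206000007) (.leaf 0x0))))) (.node 37043 (.node 37040 (.node 37039 (.leaf 0xb0b0a0a0004) (.leaf 0x0)) (.node 37041 (.leaf 0x90703010102000802040105000c) (.node 37042 (.leaf 0x0) (.leaf 0xb0f0a0a0004)))) (.node 37046 (.node 37044 (.leaf 0x0) (.node 37045 (.leaf 0x90b30090af) (.leaf 0x701020106060802040105000b))) (.node 37047 (.leaf 0x0) (.node 37048 (.leaf 0xd0b0002) (.leaf 0x0))))))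

def argWS_3280 : Store := (.node 37060 (.node 37054 (.node 37051 (.node 37050 (.leaf 0x5020002000003010008) (.leaf 0x0)) (.node 37052 (.leaf 0xd0001) (.node 37053 (.leaf 0xa0f0b0b0004) (.leaf 0x10205020604000703040103000c)))) (.node 37057 (.node 37055 (.leaf 0x0) (.node 37056 (.leaf 0xa0001) (.leaf 0x0))) (.node 37058 (.leaf 0xd0b0b0003) (.node 37059 (.leaf 0x90c10090c0) (.leaf 0xa0a0002))))) (.node 37066 (.node 37063 (.node 37061 (.leaf 0x0) (.node 37062 (.leaf 0xf0b0b0a0a0005) (.leaf 0x0))) (.node 37064 (.leaf 0xf0b0b0a0004) (.node 37065 (.leaf 0x0) (.leaf 0x8020904020802040105000a)))) (.node 37069 (.node 37067 (.leaf 0x0) (.node 37068 (.leaf 0xd0001) (.leaf 0x0))) (.node 37070 (.leaf 0x3040105020202010008) (.node 37071 (.leaf 0x0) (.leaf 0xb0b0002))))))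

def argWS_3281 : Store := (.node 37049 argWS_3279 argWS_3280)

def argWS_3282 : Store := (.node 37027 argWS_3278 argWS_3281)

def argWS_3283 : Store := (.node 37083 (.node 37077 (.node 37074 (.node 37073 (.leaf 0x0) (.leaf 0x90d0)) (.node 37075 (.leaf 0x906010703060802040105000b) (.node 37076 (.leaf 0x0) (.leaf 0xd0001)))) (.node 37080 (.node 37078 (.leaf 0x0) (.node 37079 (.leaf 0x30509080600000703040103000c) (.leaf 0x0))) (.node 37081 (.leaf 0xf0a0002) (.node 37082 (.leaf 0xf0a0002) (.leaf 0x201090805000703040103000b))))) (.node 37088 (.node 37085 (.node 37084 (.leaf 0x0) (.leaf 0xa0f0b0b0004)) (.node 37086 (.leaf 0x0) (.node 37087 (.leaf 0xb0a0002) (.leaf 0x90de0090dd)))) (.node 37091 (.node 37089 (.leaf 0xf0b0002) (.node 37090 (.leaf 0x0) (.leaf 0x50006010500020007))) (.node 37092 (.leaf 0x0) (.node 37093 (.leaf 0xf0a0002) (.leaf 0x101020703000703040103000b))))))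

def argWS_3284 : Store := (.node 37105 (.node 37099 (.node 37096 (.node 37095 (.leaf 0x0) (.leaf 0xa0001)) (.node 37097 (.leaf 0x0) (.node 37098 (.leaf 0xf0001) (.leaf 0x90e9)))) (.node 37102 (.node 37100 (.leaf 0xb0f0a0a0004) (.node 37101 (.leaf 0x0) (.leaf 0x5000006010500020802040105000d))) (.node 37103 (.leaf 0x0) (.node 37104 (.leaf 0xb0b0a0a0004) (.leaf 0x70305020901060007))))) (.node 37111 (.node 37108 (.node 37106 (.leaf 0x0) (.node 37107 (.leaf 0xf0a0002) (.leaf 0x0))) (.node 37109 (.leaf 0x80101020901060802040105000c) (.node 37110 (.leaf 0x0) (.leaf 0xb0b0a0003)))) (.node 37114 (.node 37112 (.leaf 0x0) (.node 37113 (.leaf 0xf0a0a0003) (.leaf 0x90f80090f7))) (.node 37115 (.leaf 0xe0a0a0003) (.node 37116 (.leaf 0x0) (.leaf 0x602010308000703040103000b))))))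

def argWS_3285 : Store := (.node 37094 argWS_3283 argWS_3284)

def argWS_3286 : Store := (.node 37128 (.node 37122 (.node 37119 (.node 37118 (.leaf 0x0) (.leaf 0xb0f0002)) (.node 37120 (.leaf 0xa0a0002) (.node 37121 (.leaf 0xe0a0a0003) (.leaf 0xe0a0002)))) (.node 37125 (.node 37123 (.leaf 0x9101009100) (.node 37124 (.leaf 0x701010207030802040105000b) (.leaf 0x0))) (.node 37126 (.leaf 0xf0001) (.node 37127 (.leaf 0x0) (.leaf 0xa0f0b0003))))) (.node 37134 (.node 37131 (.node 37129 (.leaf 0x0) (.node 37130 (.leaf 0x0) (.leaf 0xf0a0002))) (.node 37132 (.leaf 0x40004020901060202000701000c) (.node 37133 (.leaf 0x0) (.leaf 0xd0b0002)))) (.node 37137 (.node 37135 (.leaf 0x0) (.node 37136 (.leaf 0x903070009030006) (.leaf 0x0))) (.node 37138 (.leaf 0xb0b0a0003) (.node 37139 (.leaf 0x0) (.leaf 0x911200910e))))))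

def argWS_3287 : Store := (.node 37151 (.node 37145 (.node 37142 (.node 37141 (.leaf 0x307000901090802040105000b) (.leaf 0x0)) (.node 37143 (.leaf 0xf0b0b0003) (.node 37144 (.leaf 0x0) (.leaf 0x209030003)))) (.node 37148 (.node 37146 (.leaf 0x0) (.node 37147 (.leaf 0xd0001) (.leaf 0x401010703060802040105000b))) (.node 37149 (.leaf 0x0) (.node 37150 (.leaf 0xb0f0a0003) (.leaf 0x0))))) (.node 37157 (.node 37154 (.node 37152 (.leaf 0xf0b0b0a0004) (.node 37153 (.leaf 0xe0a0002) (.leaf 0x912000911f))) (.node 37155 (.leaf 0x10608020401050007) (.node 37156 (.leaf 0x0) (.leaf 0xb0a0a0003)))) (.node 37160 (.node 37158 (.leaf 0xb0f0a0a0004) (.node 37159 (.leaf 0x60301090000090202000701000c) (.leaf 0x0))) (.node 37161 (.leaf 0xb0f0a0a0004) (.node 37162 (.leaf 0x0) (.leaf 0x9129))))))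

def argWS_3288 : Store := (.node 37140 argWS_3286 argWS_3287)

def argWS_3289 : Store := (.node 37117 argWS_3285 argWS_3288)

def argWS_3290 : Store := (.node 37072 argWS_3282 argWS_3289)

def argWS_3291 : Store := (.node 36982 argWS_3275 argWS_3290)

def argWS_3292 : Store := (.node 37174 (.node 37168 (.node 37165 (.node 37164 (.leaf 0x400040400050202000701000b) (.leaf 0x0)) (.node 37166 (.leaf 0xb0f0002) (.node 37167 (.leaf 0x0) (.leaf 0x204090000090006)))) (.node 37171 (.node 37169 (.leaf 0x0) (.node 37170 (.leaf 0xb0f0002) (.leaf 0x907030401030006))) (.node 37172 (.leaf 0x0) (.node 37173 (.leaf 0xa0a0002) (.leaf 0x0))))) (.node 37179 (.node 37176 (.node 37175 (.leaf 0xf0b0b0a0004) (.leaf 0x9136)) (.node 37177 (.leaf 0xf0b0b0a0a0005) (.node 37178 (.leaf 0x0) (.leaf 0xb0f0a0a0004)))) (.node 37182 (.node 37180 (.leaf 0x0) (.node 37181 (.leaf 0x0) (.leaf 0x50109080600000703040103000c))) (.node 37183 (.leaf 0x0) (.node 37184 (.leaf 0xa0f0002) (.leaf 0x0))))))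

def argWS_3293 : Store := (.node 37196 (.node 37190 (.node 37187 (.node 37186 (.leaf 0xf0b0002) (.leaf 0xf0001)) (.node 37188 (.leaf 0x9142009141) (.node 37189 (.leaf 0x5000300000202000701000a) (.leaf 0x0)))) (.node 37193 (.node 37191 (.leaf 0xa0f0b0b0004) (.node 37192 (.leaf 0x0) (.leaf 0xf0b0a0003))) (.node 37194 (.leaf 0x0) (.node 37195 (.leaf 0x0) (.leaf 0x80200090806000802040105000c))))) (.node 37202 (.node 37199 (.node 37197 (.leaf 0x0) (.node 37198 (.leaf 0x0) (.leaf 0x890b))) (.node 37200 (.leaf 0xf0b0a0003) (.node 37201 (.leaf 0x0) (.leaf 0xb0f0002)))) (.node 37205 (.node 37203 (.leaf 0xe0d0002) (.node 37204 (.leaf 0x0) (.leaf 0x0))) (.node 37206 (.leaf 0x2090106030500040802040105000d) (.node 37207 (.leaf 0x0) (.leaf 0xf0b0b0a0a0005))))))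

def argWS_3294 : Store := (.node 37185 argWS_3292 argWS_3293)

def argWS_3295 : Store := (.node 37219 (.node 37213 (.node 37210 (.node 37209 (.leaf 0x0) (.leaf 0x40000030306040802040105000c)) (.node 37211 (.leaf 0x0) (.node 37212 (.leaf 0xb0a0a0003) (.leaf 0x0)))) (.node 37216 (.node 37214 (.leaf 0x304010400050802040105000b) (.node 37215 (.leaf 0x0) (.leaf 0xf0a0a0003))) (.node 37217 (.leaf 0x0) (.node 37218 (.leaf 0x916000915c) (.leaf 0xb0f0002))))) (.node 37224 (.node 37221 (.node 37220 (.leaf 0x0) (.leaf 0x103010901090202000701000b)) (.node 37222 (.leaf 0x0) (.node 37223 (.leaf 0xf0b0a0a0004) (.leaf 0x3000901090202000701000a)))) (.node 37227 (.node 37225 (.leaf 0x0) (.node 37226 (.leaf 0xf0b0b0a0004) (.leaf 0x0))) (.node 37228 (.leaf 0xb0f0a0a0004) (.node 37229 (.leaf 0xb0f0a0003) (.leaf 0x916c00916b))))))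

def argWS_3296 : Store := (.node 37241 (.node 37235 (.node 37232 (.node 37231 (.leaf 0x6000000030306040008) (.leaf 0x0)) (.node 37233 (.leaf 0xf0b0b0a0a0005) (.node 37234 (.leaf 0x0) (.leaf 0x70000030306040007)))) (.node 37238 (.node 37236 (.leaf 0x0) (.node 37237 (.leaf 0x6000703060802040105000a) (.leaf 0x0))) (.node 37239 (.leaf 0xf0a0a0003) (.node 37240 (.leaf 0x0) (.leaf 0xd0b0002))))) (.node 37247 (.node 37244 (.node 37242 (.leaf 0x10406020702010007) (.node 37243 (.leaf 0x0) (.leaf 0xd0b0002))) (.node 37245 (.leaf 0x0) (.node 37246 (.leaf 0x917c009178) (.leaf 0xa0f0b0003)))) (.node 37250 (.node 37248 (.leaf 0x0) (.node 37249 (.leaf 0xe0001) (.leaf 0x0))) (.node 37251 (.leaf 0x0) (.node 37252 (.leaf 0xb0b0002) (.leaf 0x20103050202020703040103000c))))))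

def argWS_3297 : Store := (.node 37230 argWS_3295 argWS_3296)

def argWS_3298 : Store := (.node 37208 argWS_3294 argWS_3297)

def argWS_3299 : Store := (.node 37264 (.node 37258 (.node 37255 (.node 37254 (.leaf 0x0) (.leaf 0xa0f0b0b0004)) (.node 37256 (.leaf 0x0) (.node 37257 (.leaf 0x5000408010802040105000a) (.leaf 0x0)))) (.node 37261 (.node 37259 (.leaf 0x0) (.node 37260 (.leaf 0x918a009187) (.leaf 0xb0a0f0003))) (.node 37262 (.leaf 0x0) (.node 37263 (.leaf 0xb0a0f0003) (.leaf 0x0))))) (.node 37269 (.node 37266 (.node 37265 (.leaf 0x0) (.leaf 0xa0f0002)) (.node 37267 (.leaf 0xe0001) (.node 37268 (.leaf 0x2000502020007010008) (.leaf 0x0)))) (.node 37272 (.node 37270 (.leaf 0xf0b0a0a0004) (.node 37271 (.leaf 0x0) (.leaf 0x9196009192))) (.node 37273 (.leaf 0x90308020401050008) (.node 37274 (.leaf 0x0) (.leaf 0xb0b0a0a0004))))))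

def argWS_3300 : Store := (.node 37286 (.node 37280 (.node 37277 (.node 37276 (.leaf 0x0) (.leaf 0xb0b0002)) (.node 37278 (.leaf 0x107020007010006) (.node 37279 (.leaf 0x0) (.leaf 0xf0b0b0a0a0005)))) (.node 37283 (.node 37281 (.leaf 0x0) (.node 37282 (.leaf 0x91a0) (.leaf 0x90104010908050007))) (.node 37284 (.leaf 0x0) (.node 37285 (.leaf 0xb0a0f0003) (.leaf 0x0))))) (.node 37292 (.node 37289 (.node 37287 (.leaf 0xb0a0002) (.node 37288 (.leaf 0x0) (.leaf 0x0))) (.node 37290 (.leaf 0xa0001) (.node 37291 (.leaf 0xd0001) (.leaf 0x91aa000e48)))) (.node 37295 (.node 37293 (.leaf 0x7070009030802040105000a) (.node 37294 (.leaf 0x0) (.leaf 0xa0a0002))) (.node 37296 (.leaf 0x0) (.node 37297 (.leaf 0x20000050202020703040103000c) (.leaf 0x0))))))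

def argWS_3301 : Store := (.node 37275 argWS_3299 argWS_3300)

def argWS_3302 : Store := (.node 37309 (.node 37303 (.node 37300 (.node 37299 (.leaf 0xa0f0b0b0004) (.leaf 0x8020000000300000008)) (.node 37301 (.leaf 0x0) (.node 37302 (.leaf 0xb0b0a0003) (.leaf 0x0)))) (.node 37306 (.node 37304 (.leaf 0x10201010703060202000701000c) (.node 37305 (.leaf 0x0) (.leaf 0xa0f0b0003))) (.node 37307 (.leaf 0x0) (.node 37308 (.leaf 0x91ba) (.leaf 0x20609020602000703040103000c))))) (.node 37314 (.node 37311 (.node 37310 (.leaf 0x0) (.leaf 0xe0a0002)) (.node 37312 (.leaf 0x0) (.node 37313 (.leaf 0x801030306040006) (.leaf 0x0)))) (.node 37317 (.node 37315 (.leaf 0xf0b0a0003) (.node 37316 (.leaf 0xf0b0b0003) (.leaf 0x30400050004))) (.node 37318 (.leaf 0x0) (.node 37319 (.leaf 0xd0001) (.leaf 0x0))))))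

def argWS_3303 : Store := (.node 37331 (.node 37325 (.node 37322 (.node 37321 (.leaf 0x91c7) (.leaf 0xa0a0002)) (.node 37323 (.leaf 0x0) (.node 37324 (.leaf 0xb0b0a0003) (.leaf 0x0)))) (.node 37328 (.node 37326 (.leaf 0x0) (.node 37327 (.leaf 0xe0a0a0003) (.leaf 0xf0b0b0a0a0005))) (.node 37329 (.leaf 0x40080091cf) (.node 37330 (.leaf 0x80004000408010202000701000c) (.leaf 0x0))))) (.node 37337 (.node 37334 (.node 37332 (.leaf 0xf0b0b0a0a0005) (.node 37333 (.leaf 0x0) (.leaf 0x903000900090802040105000b))) (.node 37335 (.leaf 0x0) (.node 37336 (.leaf 0xf0b0b0a0004) (.leaf 0x4020502020900000202000701000d)))) (.node 37340 (.node 37338 (.leaf 0x0) (.node 37339 (.leaf 0xb0a0f0003) (.leaf 0x0))) (.node 37341 (.leaf 0x4090000090005) (.node 37342 (.leaf 0x0) (.leaf 0xb0a0002))))))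

def argWS_3304 : Store := (.node 37320 argWS_3302 argWS_3303)

def argWS_3305 : Store := (.node 37298 argWS_3301 argWS_3304)

def argWS_3306 : Store := (.node 37253 argWS_3298 argWS_3305)

def argWS_3307 : Store := (.node 37354 (.node 37348 (.node 37345 (.node 37344 (.leaf 0x0) (.leaf 0x91df0091db)) (.node 37346 (.leaf 0x3080007030401030009) (.node 37347 (.leaf 0x0) (.leaf 0xb0f0002)))) (.node 37351 (.node 37349 (.leaf 0x0) (.node 37350 (.leaf 0x8050007000903000703040103000d) (.leaf 0x0))) (.node 37352 (.leaf 0xb0f0a0a0004) (.node 37353 (.leaf 0x40900090005) (.leaf 0x0))))) (.node 37359 (.node 37356 (.node 37355 (.leaf 0x0) (.leaf 0xa0a0002)) (.node 37357 (.leaf 0xf0b0b0a0004) (.node 37358 (.leaf 0x91ec0091eb) (.leaf 0x209030900090202000701000b)))) (.node 37362 (.node 37360 (.leaf 0x0) (.node 37361 (.leaf 0x0) (.leaf 0xb0b0a0a0004))) (.node 37363 (.leaf 0x0) (.node 37364 (.leaf 0x0) (.leaf 0xb0b0002))))))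

def argWS_3308 : Store := (.node 37376 (.node 37370 (.node 37367 (.node 37366 (.leaf 0xb0a0002) (.leaf 0xd0b0002)) (.node 37368 (.leaf 0x91f60091f5) (.node 37369 (.leaf 0x604000202090000000703040103000e) (.leaf 0x0)))) (.node 37373 (.node 37371 (.leaf 0xa0f0b0003) (.node 37372 (.leaf 0x0) (.leaf 0xf0b0002))) (.node 37374 (.leaf 0x0) (.node 37375 (.leaf 0x0) (.leaf 0x10106020702010802040105000c))))) (.node 37382 (.node 37379 (.node 37377 (.leaf 0x0) (.node 37378 (.leaf 0xe0001) (.leaf 0x0))) (.node 37380 (.leaf 0xb0a0002) (.node 37381 (.leaf 0x9203) (.leaf 0x6010205020604000703040103000d)))) (.node 37385 (.node 37383 (.leaf 0x0) (.node 37384 (.leaf 0xa0a0002) (.leaf 0x0))) (.node 37386 (.leaf 0x50305090806000202000701000c) (.node 37387 (.leaf 0x0) (.leaf 0xd0b0b0003))))))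

def argWS_3309 : Store := (.node 37365 argWS_3307 argWS_3308)

def argWS_3310 : Store := (.node 37399 (.node 37393 (.node 37390 (.node 37389 (.leaf 0x20400050202000701000a) (.leaf 0x0)) (.node 37391 (.leaf 0x0) (.node 37392 (.leaf 0xa0f0b0b0004) (.leaf 0x0)))) (.node 37396 (.node 37394 (.leaf 0x6040107020600000703040103000d) (.node 37395 (.leaf 0x0) (.leaf 0xa0f0002))) (.node 37397 (.leaf 0x0) (.node 37398 (.leaf 0x9214009210) (.leaf 0x5030400050005))))) (.node 37404 (.node 37401 (.node 37400 (.leaf 0x0) (.leaf 0xa0a0002)) (.node 37402 (.leaf 0x0) (.node 37403 (.leaf 0x2010908050802040105000b) (.leaf 0x0)))) (.node 37407 (.node 37405 (.leaf 0xd0001) (.node 37406 (.leaf 0x602070009020007010009) (.leaf 0x0))) (.node 37408 (.leaf 0x0) (.node 37409 (.leaf 0x8000000020804000802040105000d) (.leaf 0x0))))))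

def argWS_3311 : Store := (.node 37421 (.node 37415 (.node 37412 (.node 37411 (.leaf 0xb0f0a0a0004) (.leaf 0x0)) (.node 37413 (.leaf 0x9223) (.node 37414 (.leaf 0x905030900090006) (.leaf 0x0)))) (.node 37418 (.node 37416 (.leaf 0xf0a0002) (.node 37417 (.leaf 0x0) (.leaf 0x1030109000009000703040103000d))) (.node 37419 (.leaf 0x0) (.node 37420 (.leaf 0xd0b0b0003) (.leaf 0x907000004080703040103000b))))) (.node 37427 (.node 37424 (.node 37422 (.leaf 0x0) (.node 37423 (.leaf 0xf0b0b0a0a0005) (.leaf 0x0))) (.node 37425 (.leaf 0xa0f0b0003) (.node 37426 (.leaf 0xb0f0a0003) (.leaf 0x9231009230)))) (.node 37430 (.node 37428 (.leaf 0xf0a0a0003) (.node 37429 (.leaf 0x0) (.leaf 0x907070209020802040105000b))) (.node 37431 (.leaf 0x0) (.node 37432 (.leaf 0xb0f0a0a0004) (.leaf 0xa0001))))))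

def argWS_3312 : Store := (.node 37410 argWS_3310 argWS_3311)

def argWS_3313 : Store := (.node 37388 argWS_3309 argWS_3312)

def argWS_3314 : Store := (.node 37444 (.node 37438 (.node 37435 (.node 37434 (.leaf 0x60000030000000703040103000c) (.leaf 0x0)) (.node 37436 (.leaf 0xa0a0002) (.node 37437 (.leaf 0x0) (.leaf 0x201040005000703040103000b)))) (.node 37441 (.node 37439 (.leaf 0x0) (.node 37440 (.leaf 0xb0a0f0003) (.leaf 0x0))) (.node 37442 (.leaf 0x924000923c) (.node 37443 (.leaf 0x300090206020007) (.leaf 0x0))))) (.node 37449 (.node 37446 (.node 37445 (.leaf 0xa0a0002) (.leaf 0x0)) (.node 37447 (.leaf 0xf0a0a0003) (.node 37448 (.leaf 0x0) (.leaf 0x0)))) (.node 37452 (.node 37450 (.leaf 0xf0b0a0003) (.node 37451 (.leaf 0xf0b0a0003) (.leaf 0x209010603050004000703040103000e))) (.node 37453 (.leaf 0x0) (.node 37454 (.leaf 0xe0a0a0003) (.leaf 0x0))))))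

def argWS_3315 : Store := (.node 37466 (.node 37460 (.node 37457 (.node 37456 (.leaf 0x924e00924a) (.leaf 0x202010904020802040105000b)) (.node 37458 (.leaf 0x0) (.node 37459 (.leaf 0xf0b0b0a0a0005) (.leaf 0x0)))) (.node 37463 (.node 37461 (.leaf 0x6040006010500020802040105000d) (.node 37462 (.leaf 0x0) (.leaf 0xe0a0002))) (.node 37464 (.leaf 0x401060207020703040103000b) (.node 37465 (.leaf 0x0) (.leaf 0xb0001))))) (.node 37472 (.node 37469 (.node 37467 (.leaf 0x0) (.node 37468 (.leaf 0xe0a0a0003) (.leaf 0x925b00925a))) (.node 37470 (.leaf 0xf0b0002) (.node 37471 (.leaf 0x0) (.leaf 0x90700000300000802040105000c)))) (.node 37475 (.node 37473 (.leaf 0x0) (.node 37474 (.leaf 0xa0a0002) (.leaf 0x80004020901060007))) (.node 37476 (.leaf 0x0) (.node 37477 (.leaf 0x0) (.leaf 0xa0001))))))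

def argWS_3316 : Store := (.node 37455 argWS_3314 argWS_3315)

def argWS_3317 : Store := (.node 37489 (.node 37483 (.node 37480 (.node 37479 (.leaf 0x9265) (.leaf 0x1070002020900000802040105000d)) (.node 37481 (.leaf 0x0) (.node 37482 (.leaf 0xb0a0002) (.leaf 0x0)))) (.node 37486 (.node 37484 (.leaf 0x2000205020202010202000701000d) (.node 37485 (.leaf 0x0) (.leaf 0xe0a0002))) (.node 37487 (.leaf 0xf0b0a0a0004) (.node 37488 (.leaf 0x7b14) (.leaf 0xa0001))))) (.node 37495 (.node 37492 (.node 37490 (.leaf 0x0) (.node 37491 (.leaf 0x20200020000030703040103000c) (.leaf 0x0))) (.node 37493 (.leaf 0xa0f0b0003) (.node 37494 (.leaf 0x301070306000703040103000b) (.leaf 0x0)))) (.node 37498 (.node 37496 (.leaf 0x0) (.node 37497 (.leaf 0xf0a0a0003) (.leaf 0x9278009277))) (.node 37499 (.leaf 0xf0b0b0a0004) (.node 37500 (.leaf 0x0) (.leaf 0xb0b0a0003))))))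

def argWS_3318 : Store := (.node 37512 (.node 37506 (.node 37503 (.node 37502 (.leaf 0x0) (.leaf 0x0)) (.node 37504 (.leaf 0xb0001) (.node 37505 (.leaf 0x0) (.leaf 0xb0f0a0a0004)))) (.node 37509 (.node 37507 (.leaf 0x9281) (.node 37508 (.leaf 0xd0b0002) (.leaf 0x0))) (.node 37510 (.leaf 0xd0b0002) (.node 37511 (.leaf 0x0) (.leaf 0x0))))) (.node 37518 (.node 37515 (.node 37513 (.leaf 0xb0b0a0a0004) (.node 37514 (.leaf 0xb0b0a0a0004) (.leaf 0x9289))) (.node 37516 (.leaf 0x2020901090005) (.node 37517 (.leaf 0x0) (.leaf 0xb0f0a0003)))) (.node 37521 (.node 37519 (.leaf 0x0) (.node 37520 (.leaf 0x90401070306000703040103000c) (.leaf 0x0))) (.node 37522 (.leaf 0xb0a0f0003) (.node 37523 (.leaf 0x20901090402000703040103000c) (.leaf 0x0))))))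

def argWS_3319 : Store := (.node 37501 argWS_3317 argWS_3318)

def argWS_3320 : Store := (.node 37478 argWS_3316 argWS_3319)

def argWS_3321 : Store := (.node 37433 argWS_3313 argWS_3320)

def argWS_3322 : Store := (.node 37343 argWS_3306 argWS_3321)

def argWS_3323 : Store := (.node 37163 argWS_3291 argWS_3322)

def argWS_3324 : Store := (.node 36802 argWS_3260 argWS_3323)

def argWS_3325 : Store := (.node 36081 argWS_3197 argWS_3324)

def argWS_3326 : Store := (.node 37535 (.node 37529 (.node 37526 (.node 37525 (.leaf 0xa0f0b0003) (.leaf 0x0)) (.node 37527 (.leaf 0x80500090806000802040105000c) (.node 37528 (.leaf 0x0) (.leaf 0xa0a0002)))) (.node 37532 (.node 37530 (.leaf 0x0) (.node 37531 (.leaf 0x60501070206000007) (.leaf 0x0))) (.node 37533 (.leaf 0xf0b0b0a0a0005) (.node 37534 (.leaf 0x0) (.leaf 0x929d009299))))) (.node 37540 (.node 37537 (.node 37536 (.leaf 0xb0a0002) (.leaf 0x0)) (.node 37538 (.leaf 0xa0a0002) (.node 37539 (.leaf 0x0) (.leaf 0x0))))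 (.node 37543 (.node 37541 (.leaf 0x30403010102000802040105000c) (.node 37542 (.leaf 0x0) (.leaf 0xf0b0002))) (.node 37544 (.leaf 0x0) (.node 37545 (.leaf 0xf0a0a0003) (.leaf 0xb0a0a0003))))))

def argWS_3327 : Store := (.node 37557 (.node 37551 (.node 37548 (.node 37547 (.leaf 0x92a90092a8) (.leaf 0x3030601050002000703040103000d)) (.node 37549 (.leaf 0x0) (.node 37550 (.leaf 0xe0a0002) (.leaf 0x0)))) (.node 37554 (.node 37552 (.leaf 0x60500090206020802040105000c) (.node 37553 (.leaf 0x0) (.leaf 0xf0b0a0003))) (.node 37555 (.leaf 0x20901070206000007) (.node 37556 (.leaf 0x0) (.leaf 0xb0f0002))))) (.node 37563 (.node 37560 (.node 37558 (.leaf 0x0) (.node 37559 (.leaf 0xe0d0002) (.leaf 0x0))) (.node 37561 (.leaf 0x92b7) (.node 37562 (.leaf 0xf0b0002) (.leaf 0x0)))) (.node 37566 (.node 37564 (.leaf 0xa0001) (.node 37565 (.leaf 0x0) (.leaf 0x0))) (.node 37567 (.leaf 0x70102020900000802040105000c) (.node 37568 (.leaf 0x0) (.leaf 0x0))))))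

def argWS_3328 : Store := (.node 37546 argWS_3326 argWS_3327)

def argWS_3329 : Store := (.node 37580 (.node 37574 (.node 37571 (.node 37570 (.leaf 0x40403010102000802040105000c) (.leaf 0x0)) (.node 37572 (.leaf 0xf0001) (.node 37573 (.leaf 0x0) (.leaf 0x92c400465a)))) (.node 37577 (.node 37575 (.leaf 0x307000901090202000701000b) (.node 37576 (.leaf 0x0) (.leaf 0x0))) (.node 37578 (.leaf 0x0) (.node 37579 (.leaf 0xb0b0002) (.leaf 0xd0b0b0003))))) (.node 37585 (.node 37582 (.node 37581 (.leaf 0x5020007000902000701000a) (.leaf 0x0)) (.node 37583 (.leaf 0xd0001) (.node 37584 (.leaf 0x0) (.leaf 0x2040303010102000802040105000d)))) (.node 37588 (.node 37586 (.leaf 0x0) (.node 37587 (.leaf 0xb0a0a0003) (.leaf 0x0))) (.node 37589 (.leaf 0x92d30092cf) (.node 37590 (.leaf 0x9010206020007010008) (.leaf 0x0))))))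

def argWS_3330 : Store := (.node 37602 (.node 37596 (.node 37593 (.node 37592 (.leaf 0xb0001) (.leaf 0x0)) (.node 37594 (.leaf 0x902010401050006) (.node 37595 (.leaf 0x0) (.leaf 0xf0b0a0a0004)))) (.node 37599 (.node 37597 (.leaf 0xb0a0a0003) (.node 37598 (.leaf 0xf0b0a0003) (.leaf 0x92dd001510))) (.node 37600 (.leaf 0x0) (.node 37601 (.leaf 0xa0f0b0003) (.leaf 0x0))))) (.node 37608 (.node 37605 (.node 37603 (.leaf 0xa0f0b0b0004) (.node 37604 (.leaf 0x0) (.leaf 0x0))) (.node 37606 (.leaf 0x9000901090802040105000b) (.node 37607 (.leaf 0x0) (.leaf 0xa0f0002)))) (.node 37611 (.node 37609 (.leaf 0x0) (.node 37610 (.leaf 0x107070209020006) (.leaf 0x0))) (.node 37612 (.leaf 0xb0a0002) (.node 37613 (.leaf 0x0) (.leaf 0x92ec00916a))))))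

def argWS_3331 : Store := (.node 37591 argWS_3329 argWS_3330)

def argWS_3332 : Store := (.node 37569 argWS_3328 argWS_3331)

def argWS_3333 : Store := (.node 37625 (.node 37619 (.node 37616 (.node 37615 (.leaf 0xb0f0a0a0004) (.leaf 0x0)) (.node 37617 (.leaf 0xd0001) (.node 37618 (.leaf 0x0) (.leaf 0x0)))) (.node 37622 (.node 37620 (.leaf 0xf0b0002) (.node 37621 (.leaf 0xf0a0a0003) (.leaf 0x101090009000703040103000b))) (.node 37623 (.leaf 0x0) (.node 37624 (.leaf 0xb0001) (.leaf 0x0))))) (.node 37630 (.node 37627 (.node 37626 (.leaf 0x92f80092f4) (.leaf 0x3070009020007010008)) (.node 37628 (.leaf 0x0) (.node 37629 (.leaf 0xe0d0002) (.leaf 0x0)))) (.node 37633 (.node 37631 (.leaf 0x90006030500040802040105000d) (.node 37632 (.leaf 0x0) (.leaf 0xa0f0b0b0004))) (.node 37634 (.leaf 0xa0f0b0003) (.node 37635 (.leaf 0x0) (.leaf 0x8f93))))))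

def argWS_3334 : Store := (.node 37647 (.node 37641 (.node 37638 (.node 37637 (.leaf 0xe0a0a0003) (.leaf 0x0)) (.node 37639 (.leaf 0xf0b0a0003) (.node 37640 (.leaf 0x0) (.leaf 0x0)))) (.node 37644 (.node 37642 (.leaf 0x10501010200000703040103000c) (.node 37643 (.leaf 0x0) (.leaf 0xb0b0002))) (.node 37645 (.leaf 0x0) (.node 37646 (.leaf 0xb0f0a0003) (.leaf 0x930d))))) (.node 37653 (.node 37650 (.node 37648 (.leaf 0x30000090206020202000701000c) (.node 37649 (.leaf 0x0) (.leaf 0xa0a0002))) (.node 37651 (.leaf 0x0) (.node 37652 (.leaf 0xf0b0b0a0a0005) (.leaf 0x0)))) (.node 37656 (.node 37654 (.leaf 0x0) (.node 37655 (.leaf 0xf0b0a0003) (.leaf 0xd0b0002))) (.node 37657 (.leaf 0x9317009316) (.node 37658 (.leaf 0xb0f0a0003) (.leaf 0x0))))))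

def argWS_3335 : Store := (.node 37636 argWS_3333 argWS_3334)

def argWS_3336 : Store := (.node 37670 (.node 37664 (.node 37661 (.node 37660 (.leaf 0xb0b0a0a0004) (.leaf 0x0)) (.node 37662 (.leaf 0x0) (.node 37663 (.leaf 0xd0b0002) (.leaf 0xf0b0b0a0a0005)))) (.node 37667 (.node 37665 (.leaf 0xa0f0b0003) (.node 37666 (.leaf 0x932000931f) (.leaf 0xd0b0002))) (.node 37668 (.leaf 0x0) (.node 37669 (.leaf 0x0) (.leaf 0xb0001))))) (.node 37675 (.node 37672 (.node 37671 (.leaf 0xe0a0a0003) (.leaf 0x9326)) (.node 37673 (.leaf 0x3070908050005) (.node 37674 (.leaf 0x0) (.leaf 0xb0f0a0003)))) (.node 37678 (.node 37676 (.leaf 0x0) (.node 37677 (.leaf 0x401050206040006) (.leaf 0x0))) (.node 37679 (.leaf 0xa0f0002) (.node 37680 (.leaf 0xf0b0b0a0004) (.leaf 0xf0b0b0a0004))))))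

def argWS_3337 : Store := (.node 37692 (.node 37686 (.node 37683 (.node 37682 (.leaf 0x9330) (.leaf 0xd0b0002)) (.node 37684 (.leaf 0x0) (.node 37685 (.leaf 0x0) (.leaf 0xe0a0002)))) (.node 37689 (.node 37687 (.leaf 0xb0001) (.node 37688 (.leaf 0x648e0062ec) (.leaf 0x3070000030306040008))) (.node 37690 (.leaf 0x0) (.node 37691 (.leaf 0x0) (.leaf 0x400030301010200000703040103000e))))) (.node 37698 (.node 37695 (.node 37693 (.leaf 0x0) (.node 37694 (.leaf 0xf0b0b0a0a0005) (.leaf 0xe0001))) (.node 37696 (.leaf 0xf0a0a0003) (.node 37697 (.leaf 0x8bed00933f) (.leaf 0xa0a0002)))) (.node 37701 (.node 37699 (.leaf 0x0) (.node 37700 (.leaf 0x0) (.leaf 0xb0b0a0a0004))) (.node 37702 (.leaf 0x201040005000703040103000b) (.node 37703 (.leaf 0x0) (.leaf 0xb0a0f0003))))))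

def argWS_3338 : Store := (.node 37681 argWS_3336 argWS_3337)

def argWS_3339 : Store := (.node 37659 argWS_3335 argWS_3338)

def argWS_3340 : Store := (.node 37614 argWS_3332 argWS_3339)

def argWS_3341 : Store := (.node 37715 (.node 37709 (.node 37706 (.node 37705 (.leaf 0x0) (.leaf 0xe0a0a0003)) (.node 37707 (.leaf 0x9349009348) (.node 37708 (.leaf 0x7050901090005) (.leaf 0x0)))) (.node 37712 (.node 37710 (.leaf 0xe0a0002) (.node 37711 (.leaf 0x0) (.leaf 0xb0b0a0a0004))) (.node 37713 (.leaf 0x0) (.node 37714 (.leaf 0x0) (.leaf 0xa0001))))) (.node 37720 (.node 37717 (.node 37716 (.leaf 0x7030007030401030009) (.leaf 0x0)) (.node 37718 (.leaf 0x0) (.node 37719 (.leaf 0xf0b0a0003) (.leaf 0x9356009355)))) (.node 37723 (.node 37721 (.leaf 0xf0a0a0003) (.node 37722 (.leaf 0x0) (.leaf 0xe0a0a0003))) (.node 37724 (.leaf 0x0) (.node 37725 (.leaf 0x0) (.leaf 0x500000603050004000703040103000e))))))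

def argWS_3342 : Store := (.node 37737 (.node 37731 (.node 37728 (.node 37727 (.leaf 0x0) (.leaf 0xa0f0b0003)) (.node 37729 (.leaf 0x0) (.node 37730 (.leaf 0xd0b0b0003) (.leaf 0x9361)))) (.node 37734 (.node 37732 (.leaf 0xf0b0a0a0004) (.node 37733 (.leaf 0x0) (.leaf 0xd0b0b0003))) (.node 37735 (.leaf 0x0) (.node 37736 (.leaf 0x0) (.leaf 0xb0b0002))))) (.node 37743 (.node 37740 (.node 37738 (.leaf 0x5020202010202000701000b) (.node 37739 (.leaf 0x0) (.leaf 0xd0b0b0003))) (.node 37741 (.leaf 0x0) (.node 37742 (.leaf 0x90000000300000008) (.leaf 0x0)))) (.node 37746 (.node 37744 (.leaf 0xb0a0002) (.node 37745 (.leaf 0x0) (.leaf 0x937000936c))) (.node 37747 (.leaf 0x9010403080202000701000a) (.node 37748 (.leaf 0x0) (.leaf 0xb0f0a0003))))))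

def argWS_3343 : Store := (.node 37726 argWS_3341 argWS_3342)

def argWS_3344 : Store := (.node 37760 (.node 37754 (.node 37751 (.node 37750 (.leaf 0x0) (.leaf 0x103090806000802040105000b)) (.node 37752 (.leaf 0x0) (.node 37753 (.leaf 0xf0b0002) (.leaf 0x502000000030000000703040103000e)))) (.node 37757 (.node 37755 (.leaf 0x0) (.node 37756 (.leaf 0xf0b0002) (.leaf 0x0))) (.node 37758 (.leaf 0xe0001) (.node 37759 (.leaf 0x937d) (.leaf 0x10202010904020802040105000c))))) (.node 37765 (.node 37762 (.node 37761 (.leaf 0x0) (.leaf 0xd0b0002)) (.node 37763 (.leaf 0x0) (.node 37764 (.leaf 0xe0001) (.leaf 0x0)))) (.node 37768 (.node 37766 (.leaf 0x0) (.node 37767 (.leaf 0xf0a0002) (.leaf 0x10300020804000007))) (.node 37769 (.leaf 0x0) (.node 37770 (.leaf 0x0) (.leaf 0x9389))))))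

def argWS_3345 : Store := (.node 37782 (.node 37776 (.node 37773 (.node 37772 (.leaf 0x90101090805000703040103000c) (.leaf 0x0)) (.node 37774 (.leaf 0xf0001) (.node 37775 (.leaf 0x0) (.leaf 0x304070009030802040105000b)))) (.node 37779 (.node 37777 (.leaf 0x0) (.node 37778 (.leaf 0xe0d0002) (.leaf 0x7e2b))) (.node 37780 (.leaf 0x10400090206020202000701000c) (.node 37781 (.leaf 0x0) (.leaf 0xa0f0002))))) (.node 37788 (.node 37785 (.node 37783 (.leaf 0x0) (.node 37784 (.leaf 0x30401010703060202000701000c) (.leaf 0x0))) (.node 37786 (.leaf 0xf0a0a0003) (.node 37787 (.leaf 0x8050003010102000008) (.leaf 0x0)))) (.node 37791 (.node 37789 (.leaf 0xf0a0a0003) (.node 37790 (.leaf 0x0) (.leaf 0x60505020604000703040103000c))) (.node 37792 (.leaf 0x0) (.node 37793 (.leaf 0xf0a0a0003) (.leaf 0x0))))))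

def argWS_3346 : Store := (.node 37771 argWS_3344 argWS_3345)

def argWS_3347 : Store := (.node 37749 argWS_3343 argWS_3346)

def argWS_3348 : Store := (.node 37805 (.node 37799 (.node 37796 (.node 37795 (.leaf 0x93a1) (.leaf 0x2010306030500040008)) (.node 37797 (.leaf 0x0) (.node 37798 (.leaf 0xb0001) (.leaf 0x0)))) (.node 37802 (.node 37800 (.leaf 0xb0b0a0003) (.node 37801 (.leaf 0x0) (.leaf 0x0))) (.node 37803 (.leaf 0x40304020106060007) (.node 37804 (.leaf 0x0) (.leaf 0xb0b0002))))) (.node 37810 (.node 37807 (.node 37806 (.leaf 0x0) (.leaf 0xb0f0002)) (.node 37808 (.leaf 0x6050102020900000202000701000d) (.node 37809 (.leaf 0x0) (.leaf 0xa0a0002)))) (.node 37813 (.node 37811 (.leaf 0x0) (.node 37812 (.leaf 0x93b20093ae) (.leaf 0xf0001))) (.node 37814 (.leaf 0x0) (.node 37815 (.leaf 0xd0001) (.leaf 0x0))))))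

def argWS_3349 : Store := (.node 37827 (.node 37821 (.node 37818 (.node 37817 (.leaf 0x0) (.leaf 0xe0a0002)) (.node 37819 (.leaf 0x9050300020804000008) (.node 37820 (.leaf 0x0) (.leaf 0x0)))) (.node 37824 (.node 37822 (.leaf 0x93bc) (.node 37823 (.leaf 0xd0b0002) (.leaf 0x0))) (.node 37825 (.leaf 0x20901020000030703040103000c) (.node 37826 (.leaf 0x0) (.leaf 0xf0a0a0003))))) (.node 37833 (.node 37830 (.node 37828 (.leaf 0x40006010500020802040105000c) (.node 37829 (.leaf 0x0) (.leaf 0xe0001))) (.node 37831 (.leaf 0x0) (.node 37832 (.leaf 0x402020108020401050009) (.leaf 0x0)))) (.node 37836 (.node 37834 (.leaf 0xe0a0a0003) (.node 37835 (.leaf 0x0) (.leaf 0xd0001))) (.node 37837 (.leaf 0x93cb0093ca) (.node 37838 (.leaf 0xa0001) (.leaf 0x0))))))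

def argWS_3350 : Store := (.node 37816 argWS_3348 argWS_3349)

def argWS_3351 : Store := (.node 37850 (.node 37844 (.node 37841 (.node 37840 (.leaf 0x0) (.leaf 0x0)) (.node 37842 (.leaf 0x0) (.node 37843 (.leaf 0xf0b0002) (.leaf 0x20401010703060802040105000c)))) (.node 37847 (.node 37845 (.leaf 0x0) (.node 37846 (.leaf 0x0) (.leaf 0x0))) (.node 37848 (.leaf 0x7080002) (.node 37849 (.leaf 0x0) (.leaf 0xf0b0b0a0004))))) (.node 37855 (.node 37852 (.node 37851 (.leaf 0xf0001) (.leaf 0xe0d0002)) (.node 37853 (.leaf 0xb0a0002) (.node 37854 (.leaf 0xa0a0002) (.leaf 0xf0b0a0003)))) (.node 37858 (.node 37856 (.leaf 0xf0001) (.node 37857 (.leaf 0x60105020202010802040105000c) (.leaf 0x0))) (.node 37859 (.leaf 0xa0a0002) (.node 37860 (.leaf 0x0) (.leaf 0x93e3))))))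

def argWS_3352 : Store := (.node 37872 (.node 37866 (.node 37863 (.node 37862 (.leaf 0xf0b0b0a0004) (.leaf 0x0)) (.node 37864 (.leaf 0x407020007010006) (.node 37865 (.leaf 0x0) (.leaf 0xd0b0002)))) (.node 37869 (.node 37867 (.leaf 0x90005020604000703040103000d) (.node 37868 (.leaf 0x0) (.leaf 0xa0f0b0b0004))) (.node 37870 (.leaf 0x0) (.node 37871 (.leaf 0xf0b0b0a0a0005) (.leaf 0x8020007020600000703040103000d))))) (.node 37878 (.node 37875 (.node 37873 (.leaf 0x0) (.node 37874 (.leaf 0xf0b0002) (.leaf 0x0))) (.node 37876 (.leaf 0x93f20093ee) (.node 37877 (.leaf 0xb0f0002) (.leaf 0x0)))) (.node 37881 (.node 37879 (.leaf 0x701020603000703040103000b) (.node 37880 (.leaf 0x0) (.leaf 0xe0d0002))) (.node 37882 (.leaf 0xa0f0002) (.node 37883 (.leaf 0x5030506020702010202000701000d) (.leaf 0x0))))))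

def argWS_3353 : Store := (.node 37861 argWS_3351 argWS_3352)

def argWS_3354 : Store := (.node 37839 argWS_3350 argWS_3353)

def argWS_3355 : Store := (.node 37794 argWS_3347 argWS_3354)

def argWS_3356 : Store := (.node 37704 argWS_3340 argWS_3355)

def argWS_3357 : Store := (.node 37895 (.node 37889 (.node 37886 (.node 37885 (.leaf 0xf0b0b0003) (.leaf 0x0)) (.node 37887 (.leaf 0x20106060202000701000b) (.node 37888 (.leaf 0x0) (.leaf 0xf0a0a0003)))) (.node 37892 (.node 37890 (.leaf 0x0) (.node 37891 (.leaf 0x94010093fd) (.leaf 0xf0b0b0003))) (.node 37893 (.leaf 0x0) (.node 37894 (.leaf 0xe0001) (.leaf 0x0))))) (.node 37900 (.node 37897 (.node 37896 (.leaf 0x0) (.leaf 0x40002020900000202000701000d)) (.node 37898 (.leaf 0x0) (.node 37899 (.leaf 0x0) (.leaf 0x7000308000703040103000a)))) (.node 37903 (.node 37901 (.leaf 0x0) (.node 37902 (.leaf 0x0) (.leaf 0x940d00940a))) (.node 37904 (.leaf 0xd0b0b0003) (.node 37905 (.leaf 0x0) (.leaf 0xb0f0a0a0004))))))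

def argWS_3358 : Store := (.node 37917 (.node 37911 (.node 37908 (.node 37907 (.leaf 0x0) (.leaf 0x0)) (.node 37909 (.leaf 0xb0a0a0003) (.node 37910 (.leaf 0x90603010102000802040105000c) (.leaf 0x0)))) (.node 37914 (.node 37912 (.leaf 0xf0b0a0a0004) (.node 37913 (.leaf 0x0) (.leaf 0x1020202020007010008))) (.node 37915 (.leaf 0x0) (.node 37916 (.leaf 0xa0f0b0003) (.leaf 0x0))))) (.node 37923 (.node 37920 (.node 37918 (.leaf 0x941c) (.node 37919 (.leaf 0xf0b0b0a0a0005) (.leaf 0x0))) (.node 37921 (.leaf 0xa0f0002) (.node 37922 (.leaf 0x0) (.leaf 0x0)))) (.node 37926 (.node 37924 (.leaf 0xd0001) (.node 37925 (.leaf 0xf0b0b0a0a0005) (.leaf 0x1090303080005))) (.node 37927 (.leaf 0x0) (.node 37928 (.leaf 0xf0b0b0003) (.leaf 0x0))))))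

def argWS_3359 : Store := (.node 37906 argWS_3357 argWS_3358)

def argWS_3360 : Store := (.node 37940 (.node 37934 (.node 37931 (.node 37930 (.leaf 0x9428009424) (.leaf 0xe0a0a0003)) (.node 37932 (.leaf 0xf0b0002) (.node 37933 (.leaf 0x40004090806000007) (.leaf 0x0)))) (.node 37937 (.node 37935 (.leaf 0x0) (.node 37936 (.leaf 0xe0d0002) (.leaf 0xf0a0002))) (.node 37938 (.leaf 0x943000942f) (.node 37939 (.leaf 0x60301090806000802040105000c) (.leaf 0x0))))) (.node 37945 (.node 37942 (.node 37941 (.leaf 0xa0001) (.leaf 0x0)) (.node 37943 (.leaf 0x60206020007010007) (.node 37944 (.leaf 0x0) (.leaf 0xb0b0a0a0004)))) (.node 37948 (.node 37946 (.leaf 0xe0d0002) (.node 37947 (.leaf 0xf0001) (.leaf 0x905030003))) (.node 37949 (.leaf 0x0) (.node 37950 (.leaf 0xb0a0a0003) (.leaf 0x0))))))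

def argWS_3361 : Store := (.node 37962 (.node 37956 (.node 37953 (.node 37952 (.leaf 0x20901020603000703040103000c) (.leaf 0x0)) (.node 37954 (.leaf 0xa0f0b0003) (.node 37955 (.leaf 0x0) (.leaf 0x944200943e)))) (.node 37959 (.node 37957 (.leaf 0x70206010500020802040105000c) (.node 37958 (.leaf 0x0) (.leaf 0xb0a0002))) (.node 37960 (.leaf 0x0) (.node 37961 (.leaf 0x90700040005000703040103000c) (.leaf 0x0))))) (.node 37968 (.node 37965 (.node 37963 (.leaf 0xb0f0a0a0004) (.node 37964 (.leaf 0x70305090000090802040105000c) (.leaf 0x0))) (.node 37966 (.leaf 0xf0b0a0003) (.node 37967 (.leaf 0x0) (.leaf 0x8ac9)))) (.node 37971 (.node 37969 (.leaf 0x20603010102000802040105000c) (.node 37970 (.leaf 0x0) (.leaf 0xe0a0a0003))) (.node 37972 (.leaf 0x0) (.node 37973 (.leaf 0xf0b0b0a0a0005) (.leaf 0x0))))))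

def argWS_3362 : Store := (.node 37951 argWS_3360 argWS_3361)

def argWS_3363 : Store := (.node 37929 argWS_3359 argWS_3362)

def argWS_3364 : Store := (.node 37985 (.node 37979 (.node 37976 (.node 37975 (.leaf 0x0) (.leaf 0xf0a0002)) (.node 37977 (.leaf 0xe0d0002) (.node 37978 (.leaf 0x9458) (.leaf 0xb0b0002)))) (.node 37982 (.node 37980 (.leaf 0x0) (.node 37981 (.leaf 0x70006020702010007) (.leaf 0x0))) (.node 37983 (.leaf 0xb0b0a0003) (.node 37984 (.leaf 0x30401010703060202000701000c) (.leaf 0x0))))) (.node 37990 (.node 37987 (.node 37986 (.leaf 0xa0a0002) (.leaf 0x0)) (.node 37988 (.leaf 0x8cdd009462) (.node 37989 (.leaf 0x50200020603000703040103000c) (.leaf 0x0)))) (.node 37993 (.node 37991 (.leaf 0xe0d0002) (.node 37992 (.leaf 0x0) (.leaf 0xa0f0b0003))) (.node 37994 (.leaf 0x0) (.node 37995 (.leaf 0x0) (.leaf 0xa0f0b0b0004))))))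

def argWS_3365 : Store := (.node 38007 (.node 38001 (.node 37998 (.node 37997 (.leaf 0x60201090000090007) (.leaf 0x0)) (.node 37999 (.leaf 0xf0a0002) (.node 38000 (.leaf 0x0) (.leaf 0x946f)))) (.node 38004 (.node 38002 (.leaf 0x200030306040006) (.node 38003 (.leaf 0x0) (.leaf 0xb0b0002))) (.node 38005 (.leaf 0x0) (.node 38006 (.leaf 0x50200000300000007) (.leaf 0x0))))) (.node 38013 (.node 38010 (.node 38008 (.leaf 0xe0001) (.node 38009 (.leaf 0xd0001) (.leaf 0x2060900090202000701000a))) (.node 38011 (.leaf 0x0) (.node 38012 (.leaf 0xd0b0b0003) (.leaf 0x0)))) (.node 38016 (.node 38014 (.leaf 0xb0f0002) (.node 38015 (.leaf 0xb0f0a0a0004) (.leaf 0x20002020900000202000701000d))) (.node 38017 (.leaf 0x0) (.node 38018 (.leaf 0xf0b0b0003) (.leaf 0x0))))))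

def argWS_3366 : Store := (.node 37996 argWS_3364 argWS_3365)

def argWS_3367 : Store := (.node 38030 (.node 38024 (.node 38021 (.node 38020 (.leaf 0xb0a0002) (.leaf 0x9483009482)) (.node 38022 (.leaf 0xb0b0002) (.node 38023 (.leaf 0x0) (.leaf 0x40304090806000802040105000c)))) (.node 38027 (.node 38025 (.leaf 0x0) (.node 38026 (.leaf 0xf0b0002) (.leaf 0xa0f0b0b0004))) (.node 38028 (.leaf 0xf0b0b0a0a0005) (.node 38029 (.leaf 0x30309080600000703040103000c) (.leaf 0x0))))) (.node 38035 (.node 38032 (.node 38031 (.leaf 0x0) (.leaf 0x300050003)) (.node 38033 (.leaf 0x0) (.node 38034 (.leaf 0xa0a0002) (.leaf 0x0)))) (.node 38038 (.node 38036 (.leaf 0x949200948e) (.node 38037 (.leaf 0xd0b0002) (.leaf 0x0))) (.node 38039 (.leaf 0xf0b0b0a0a0005) (.node 38040 (.leaf 0x0) (.leaf 0x0))))))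

def argWS_3368 : Store := (.node 38052 (.node 38046 (.node 38043 (.node 38042 (.leaf 0xd0001) (.leaf 0x20601090806000007)) (.node 38044 (.leaf 0x0) (.node 38045 (.leaf 0xb0b0a0a0004) (.leaf 0x0)))) (.node 38049 (.node 38047 (.leaf 0xf0a0a0003) (.node 38048 (.leaf 0x949e00949d) (.leaf 0xf0001))) (.node 38050 (.leaf 0x0) (.node 38051 (.leaf 0xd0b0b0003) (.leaf 0x0))))) (.node 38058 (.node 38055 (.node 38053 (.leaf 0x0) (.node 38054 (.leaf 0x102020106060006) (.leaf 0x0))) (.node 38056 (.leaf 0xb0f0a0003) (.node 38057 (.leaf 0x0) (.leaf 0x94a8)))) (.node 38061 (.node 38059 (.leaf 0xf0b0a0003) (.node 38060 (.leaf 0x0) (.leaf 0x602090206020006))) (.node 38062 (.leaf 0x0) (.node 38063 (.leaf 0xb0a0a0003) (.leaf 0x50008020401050007))))))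

def argWS_3369 : Store := (.node 38041 argWS_3367 argWS_3368)

def argWS_3370 : Store := (.node 38019 argWS_3366 argWS_3369)

def argWS_3371 : Store := (.node 37974 argWS_3363 argWS_3370)

def argWS_3372 : Store := (.node 38075 (.node 38069 (.node 38066 (.node 38065 (.leaf 0x0) (.leaf 0xf0b0b0a0004)) (.node 38067 (.leaf 0x0) (.node 38068 (.leaf 0xf0b0002) (.leaf 0x4030306040005)))) (.node 38072 (.node 38070 (.leaf 0x0) (.node 38071 (.leaf 0x0) (.leaf 0x94b60094b3))) (.node 38073 (.leaf 0x704010703060802040105000b) (.node 38074 (.leaf 0x0) (.leaf 0xa0001))))) (.node 38080 (.node 38077 (.node 38076 (.leaf 0x0) (.leaf 0x503010102000802040105000b)) (.node 38078 (.leaf 0x0) (.node 38079 (.leaf 0xa0f0002) (.leaf 0xa0001)))) (.node 38083 (.node 38081 (.leaf 0xd0001) (.node 38082 (.leaf 0xb0a0002) (.leaf 0x94c10094c0))) (.node 38084 (.leaf 0x50000000300000802040105000c) (.node 38085 (.leaf 0x0) (.leaf 0xb0b0a0003))))))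

def argWS_3373 : Store := (.node 38097 (.node 38091 (.node 38088 (.node 38087 (.leaf 0x0) (.leaf 0xb0001)) (.node 38089 (.leaf 0x0) (.node 38090 (.leaf 0x0) (.leaf 0x8050006010500020008)))) (.node 38094 (.node 38092 (.leaf 0x0) (.node 38093 (.leaf 0x0) (.leaf 0x40003070206000007))) (.node 38095 (.leaf 0x0) (.node 38096 (.leaf 0xb0001) (.leaf 0x0))))) (.node 38103 (.node 38100 (.node 38098 (.leaf 0x305090000090006) (.node 38099 (.leaf 0x0) (.leaf 0xa0f0b0003))) (.node 38101 (.leaf 0x0) (.node 38102 (.leaf 0x94d40094d0) (.leaf 0xe0a0a0003)))) (.node 38106 (.node 38104 (.leaf 0x0) (.node 38105 (.leaf 0x200050206040202000701000c) (.leaf 0x0))) (.node 38107 (.leaf 0xb0b0002) (.node 38108 (.leaf 0x400020804000802040105000c) (.leaf 0x0))))))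

def argWS_3374 : Store := (.node 38086 argWS_3372 argWS_3373)

def argWS_3375 : Store := (.node 38120 (.node 38114 (.node 38111 (.node 38110 (.leaf 0xf0b0a0003) (.leaf 0x0)) (.node 38112 (.leaf 0xb0f0a0a0004) (.node 38113 (.leaf 0xf0b0a0003) (.leaf 0x94e00094df)))) (.node 38117 (.node 38115 (.leaf 0xb0b0002) (.node 38116 (.leaf 0x0) (.leaf 0xb0001))) (.node 38118 (.leaf 0x0) (.node 38119 (.leaf 0x0) (.leaf 0xb0a0a0003))))) (.node 38125 (.node 38122 (.node 38121 (.leaf 0xd0b0002) (.leaf 0x94e8)) (.node 38123 (.leaf 0xf0a0002) (.node 38124 (.leaf 0x0) (.leaf 0x20500000300000007)))) (.node 38128 (.node 38126 (.leaf 0x0) (.node 38127 (.leaf 0xb0f0a0003) (.leaf 0xf0a0002))) (.node 38129 (.leaf 0x20900030306040802040105000c) (.node 38130 (.leaf 0x0) (.leaf 0xb0f0a0003))))))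

def argWS_3376 : Store := (.node 38142 (.node 38136 (.node 38133 (.node 38132 (.leaf 0x0) (.leaf 0xf0a0a0003)) (.node 38134 (.leaf 0xb0a0f0003) (.node 38135 (.leaf 0x94f50094f4) (.leaf 0x50601050002000703040103000c)))) (.node 38139 (.node 38137 (.leaf 0x0) (.node 38138 (.leaf 0xe0d0002) (.leaf 0x0))) (.node 38140 (.leaf 0x70206040004) (.node 38141 (.leaf 0x0) (.leaf 0xf0b0002))))) (.node 38148 (.node 38145 (.node 38143 (.leaf 0xf0a0a0003) (.node 38144 (.leaf 0xe0a0a0003) (.leaf 0x7020400050802040105000a))) (.node 38146 (.leaf 0x0) (.node 38147 (.leaf 0xb0001) (.leaf 0x0)))) (.node 38151 (.node 38149 (.leaf 0x95030094ff) (.node 38150 (.leaf 0xb0001) (.leaf 0x0))) (.node 38152 (.leaf 0xd0001) (.node 38153 (.leaf 0x0) (.leaf 0x0))))))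

def argWS_3377 : Store := (.node 38131 argWS_3375 argWS_3376)

def argWS_3378 : Store := (.node 38109 argWS_3374 argWS_3377)

def argWS_3379 : Store := (.node 38165 (.node 38159 (.node 38156 (.node 38155 (.leaf 0xb0f0a0003) (.leaf 0x4020502020900000008)) (.node 38157 (.leaf 0x0) (.node 38158 (.leaf 0xb0b0002) (.leaf 0x0)))) (.node 38162 (.node 38160 (.leaf 0x950e) (.node 38161 (.leaf 0x1020200000300000802040105000d) (.leaf 0x0))) (.node 38163 (.leaf 0xb0a0f0003) (.node 38164 (.leaf 0x0) (.leaf 0x50102000003010802040105000c))))) (.node 38170 (.node 38167 (.node 38166 (.leaf 0x0) (.leaf 0xd0b0002)) (.node 38168 (.leaf 0xa0f0b0b0004) (.node 38169 (.leaf 0x80101010703060007) (.leaf 0x0)))) (.node 38173 (.node 38171 (.leaf 0xf0b0002) (.node 38172 (.leaf 0x0) (.leaf 0x951b))) (.node 38174 (.leaf 0xb0a0002) (.node 38175 (.leaf 0x0) (.leaf 0xf0b0b0a0a0005))))))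

def argWS_3380 : Store := (.node 38187 (.node 38181 (.node 38178 (.node 38177 (.leaf 0x0) (.leaf 0x0)) (.node 38179 (.leaf 0xf0b0002) (.node 38180 (.leaf 0x5000007020600000703040103000d) (.leaf 0x0)))) (.node 38184 (.node 38182 (.leaf 0xb0b0002) (.node 38183 (.leaf 0x0) (.leaf 0xe0a0a0003))) (.node 38185 (.leaf 0xd0b0b0003) (.node 38186 (.leaf 0x600000202090000000703040103000e) (.leaf 0x0))))) (.node 38193 (.node 38190 (.node 38188 (.leaf 0x0) (.node 38189 (.leaf 0x952b009528) (.leaf 0x40205010904020202000701000c))) (.node 38191 (.leaf 0x0) (.node 38192 (.leaf 0xb0f0a0003) (.leaf 0x0)))) (.node 38196 (.node 38194 (.leaf 0xa0001) (.node 38195 (.leaf 0x0) (.leaf 0x0))) (.node 38197 (.leaf 0x9020603000703040103000a) (.node 38198 (.leaf 0x0) (.leaf 0xe0a0002))))))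

def argWS_3381 : Store := (.node 38176 argWS_3379 argWS_3380)

def argWS_3382 : Store := (.node 38210 (.node 38204 (.node 38201 (.node 38200 (.leaf 0x0) (.leaf 0x90105020202010802040105000c)) (.node 38202 (.leaf 0x0) (.node 38203 (.leaf 0xb0a0a0003) (.leaf 0x0)))) (.node 38207 (.node 38205 (.leaf 0xb0a0002) (.node 38206 (.leaf 0x953c00953b) (.leaf 0x5010207030802040105000a))) (.node 38208 (.leaf 0x0) (.node 38209 (.leaf 0xb0b0a0003) (.leaf 0x0))))) (.node 38216 (.node 38213 (.node 38211 (.leaf 0xa0f0002) (.node 38212 (.leaf 0x0) (.leaf 0x0))) (.node 38214 (.leaf 0x8000703060005) (.node 38215 (.leaf 0x0) (.leaf 0xf0a0a0003)))) (.node 38219 (.node 38217 (.leaf 0x0) (.node 38218 (.leaf 0xb0a0a0003) (.leaf 0x9549009548))) (.node 38220 (.leaf 0x9010904020802040105000a) (.node 38221 (.leaf 0x0) (.leaf 0xf0b0b0a0a0005))))))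

def argWS_3383 : Store := (.node 38233 (.node 38227 (.node 38224 (.node 38223 (.leaf 0x0) (.leaf 0x6050206040202000701000b)) (.node 38225 (.leaf 0x0) (.node 38226 (.leaf 0xb0b0a0a0004) (.leaf 0x906050206040006)))) (.node 38230 (.node 38228 (.leaf 0x0) (.node 38229 (.leaf 0xf0b0b0003) (.leaf 0x0))) (.node 38231 (.leaf 0x3e66009555) (.node 38232 (.leaf 0x70904020004) (.leaf 0x0))))) (.node 38239 (.node 38236 (.node 38234 (.leaf 0xf0a0a0003) (.node 38235 (.leaf 0x0) (.leaf 0xb0a0f0003))) (.node 38237 (.leaf 0x0) (.node 38238 (.leaf 0x0) (.leaf 0x202020207030006)))) (.node 38242 (.node 38240 (.leaf 0x0) (.node 38241 (.leaf 0xf0001) (.leaf 0x0))) (.node 38243 (.leaf 0xf0b0a0003) (.node 38244 (.leaf 0x7377009562) (.leaf 0x1020202010202000701000a))))))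

def argWS_3384 : Store := (.node 38222 argWS_3382 argWS_3383)

def argWS_3385 : Store := (.node 38199 argWS_3381 argWS_3384)

def argWS_3386 : Store := (.node 38154 argWS_3378 argWS_3385)

def argWS_3387 : Store := (.node 38064 argWS_3371 argWS_3386)

def argWS_3388 : Store := (.node 37884 argWS_3356 argWS_3387)

def argWS_3389 : Store := (.node 38256 (.node 38250 (.node 38247 (.node 38246 (.leaf 0x0) (.leaf 0xe0a0a0003)) (.node 38248 (.leaf 0x0) (.node 38249 (.leaf 0x709000902020007010009) (.leaf 0x0)))) (.node 38253 (.node 38251 (.leaf 0xe0d0002) (.node 38252 (.leaf 0xd0b0002) (.leaf 0x2020901060802040105000b))) (.node 38254 (.leaf 0x0) (.node 38255 (.leaf 0xb0f0a0a0004) (.leaf 0x0))))) (.node 38261 (.node 38258 (.node 38257 (.leaf 0x956f) (.leaf 0xd0b0b0003)) (.node 38259 (.leaf 0x0) (.node 38260 (.leaf 0xd0001) (.leaf 0x0)))) (.node 38264 (.node 38262 (.leaf 0x0) (.node 38263 (.leaf 0xa0f0b0003) (.leaf 0xd0b0002))) (.node 38265 (.leaf 0x3030007030401030008)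 (.node 38266 (.leaf 0x0) (.leaf 0xf0a0a0003))))))

def argWS_3390 : Store := (.node 38278 (.node 38272 (.node 38269 (.node 38268 (.leaf 0x0) (.leaf 0x957b)) (.node 38270 (.leaf 0xa0f0b0003) (.node 38271 (.leaf 0x0) (.leaf 0x8000601050002000703040103000d)))) (.node 38275 (.node 38273 (.leaf 0x0) (.node 38274 (.leaf 0xb0a0f0003) (.leaf 0xf0b0a0a0004))) (.node 38276 (.leaf 0xa0001) (.node 38277 (.leaf 0x9583) (.leaf 0xb0b0a0003))))) (.node 38284 (.node 38281 (.node 38279 (.leaf 0x0) (.node 38280 (.leaf 0xb0b0002) (.leaf 0x0))) (.node 38282 (.leaf 0x0) (.node 38283 (.leaf 0xb0a0002) (.leaf 0xe0a0002)))) (.node 38287 (.node 38285 (.leaf 0x958b) (.node 38286 (.leaf 0xb0f0a0a0004) (.leaf 0x0))) (.node 38288 (.leaf 0xf0b0002) (.node 38289 (.leaf 0x0) (.leaf 0x0))))))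

def argWS_3391 : Store := (.node 38267 argWS_3389 argWS_3390)

def argWS_3392 : Store := (.node 38301 (.node 38295 (.node 38292 (.node 38291 (.leaf 0xb0a0f0003) (.leaf 0xb0a0002)) (.node 38293 (.leaf 0x9593) (.node 38294 (.leaf 0xd0b0002) (.leaf 0x0)))) (.node 38298 (.node 38296 (.leaf 0xa0a0002) (.node 38297 (.leaf 0x0) (.leaf 0x0))) (.node 38299 (.leaf 0x80101010904020007) (.node 38300 (.leaf 0x0) (.leaf 0x0))))) (.node 38306 (.node 38303 (.node 38302 (.leaf 0xf0b0b0a0a0005) (.leaf 0x959d)) (.node 38304 (.leaf 0xf0001) (.node 38305 (.leaf 0x0) (.leaf 0x2090408010202000701000a)))) (.node 38309 (.node 38307 (.leaf 0x0) (.node 38308 (.leaf 0xf0a0a0003) (.leaf 0xd0b0b0003))) (.node 38310 (.leaf 0xb0f0a0003) (.node 38311 (.leaf 0x102070009020007010009) (.leaf 0x0))))))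

def argWS_3393 : Store := (.node 38323 (.node 38317 (.node 38314 (.node 38313 (.leaf 0x205020901060006) (.leaf 0x0)) (.node 38315 (.leaf 0xa0f0b0b0004) (.node 38316 (.leaf 0x0) (.leaf 0x948a)))) (.node 38320 (.node 38318 (.leaf 0xa0001) (.node 38319 (.leaf 0x0) (.leaf 0xb0001))) (.node 38321 (.leaf 0x0) (.node 38322 (.leaf 0x0) (.leaf 0x2040306010500020008))))) (.node 38329 (.node 38326 (.node 38324 (.leaf 0x0) (.node 38325 (.leaf 0xb0a0a0003) (.leaf 0x0))) (.node 38327 (.leaf 0x207000408010006) (.node 38328 (.leaf 0x0) (.leaf 0xb0f0a0003)))) (.node 38332 (.node 38330 (.leaf 0x0) (.node 38331 (.leaf 0x95b9) (.leaf 0x102020804000802040105000b))) (.node 38333 (.leaf 0x0) (.node 38334 (.leaf 0xb0b0a0003) (.leaf 0x0))))))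

def argWS_3394 : Store := (.node 38312 argWS_3392 argWS_3393)

def argWS_3395 : Store := (.node 38290 argWS_3391 argWS_3394)

def argWS_3396 : Store := (.node 38346 (.node 38340 (.node 38337 (.node 38336 (.leaf 0x40005020604000703040103000c) (.leaf 0x0)) (.node 38338 (.leaf 0xf0b0b0003) (.node 38339 (.leaf 0x90300000300000802040105000c) (.leaf 0x0)))) (.node 38343 (.node 38341 (.leaf 0x0) (.node 38342 (.leaf 0x95c4000589) (.leaf 0x0))) (.node 38344 (.leaf 0x0) (.node 38345 (.leaf 0x70000050202020703040103000c) (.leaf 0x0))))) (.node 38351 (.node 38348 (.node 38347 (.leaf 0x0) (.leaf 0xd0b0b0003)) (.node 38349 (.leaf 0x0) (.node 38350 (.leaf 0x0) (.leaf 0x0)))) (.node 38354 (.node 38352 (.leaf 0x0) (.node 38353 (.leaf 0x2000003080005) (.leaf 0x0))) (.node 38355 (.leaf 0xb0f0a0003) (.node 38356 (.leaf 0x0) (.leaf 0xd0b0002))))))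

def argWS_3397 : Store := (.node 38368 (.node 38362 (.node 38359 (.node 38358 (.leaf 0xa0001) (.leaf 0x95d50095d4)) (.node 38360 (.leaf 0xe0a0002) (.node 38361 (.leaf 0x0) (.leaf 0x9070007000902000701000a)))) (.node 38365 (.node 38363 (.leaf 0x0) (.node 38364 (.leaf 0xb0b0a0a0004) (.leaf 0xb0f0a0003))) (.node 38366 (.leaf 0xd0b0002) (.node 38367 (.leaf 0x507020007010006) (.leaf 0x0))))) (.node 38374 (.node 38371 (.node 38369 (.leaf 0xe0d0002) (.node 38370 (.leaf 0x0) (.leaf 0xf0b0002))) (.node 38372 (.leaf 0x95e20095e1) (.node 38373 (.leaf 0xe0d0002) (.leaf 0x0)))) (.node 38377 (.node 38375 (.leaf 0x103000401050006) (.node 38376 (.leaf 0x0) (.leaf 0xf0a0002))) (.node 38378 (.leaf 0xa0a0002) (.node 38379 (.leaf 0xb0a0a0003) (.leaf 0x40402020900000007))))))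

def argWS_3398 : Store := (.node 38357 argWS_3396 argWS_3397)

def argWS_3399 : Store := (.node 38391 (.node 38385 (.node 38382 (.node 38381 (.leaf 0x0) (.leaf 0xa0a0002)) (.node 38383 (.leaf 0x0) (.node 38384 (.leaf 0x95ee0095ea) (.leaf 0x0)))) (.node 38388 (.node 38386 (.leaf 0xd0b0b0003) (.node 38387 (.leaf 0x0) (.leaf 0xa0f0b0003))) (.node 38389 (.leaf 0x0) (.node 38390 (.leaf 0x0) (.leaf 0xf0b0b0a0a0005))))) (.node 38396 (.node 38393 (.node 38392 (.leaf 0xa0f0002) (.leaf 0x200060207020703040103000c)) (.node 38394 (.leaf 0x0) (.node 38395 (.leaf 0xb0b0a0a0004) (.leaf 0x0)))) (.node 38399 (.node 38397 (.leaf 0x95fb) (.node 38398 (.leaf 0x7090000090006) (.leaf 0x0))) (.node 38400 (.leaf 0xb0f0a0003) (.node 38401 (.leaf 0x0) (.leaf 0x102010904020802040105000b))))))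

def argWS_3400 : Store := (.node 38413 (.node 38407 (.node 38404 (.node 38403 (.leaf 0x0) (.leaf 0xe0a0a0003)) (.node 38405 (.leaf 0xb0b0a0003) (.node 38406 (.leaf 0x907090009000703040103000b) (.leaf 0x0)))) (.node 38410 (.node 38408 (.leaf 0xb0f0a0a0004) (.node 38409 (.leaf 0x30403030604000703040103000c) (.leaf 0x0))) (.node 38411 (.leaf 0xe0a0002) (.node 38412 (.leaf 0x0) (.leaf 0x40205050206040007))))) (.node 38419 (.node 38416 (.node 38414 (.leaf 0x0) (.node 38415 (.leaf 0xb0a0a0003) (.leaf 0x0))) (.node 38417 (.leaf 0x960f) (.node 38418 (.leaf 0xb0a0f0003) (.leaf 0x0)))) (.node 38422 (.node 38420 (.leaf 0x501070209020006) (.node 38421 (.leaf 0x0) (.leaf 0xe0a0a0003))) (.node 38423 (.leaf 0x1040006010500020202000701000d) (.node 38424 (.leaf 0x0) (.leaf 0xb0f0a0003))))))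

def argWS_3401 : Store := (.node 38402 argWS_3399 argWS_3400)

def argWS_3402 : Store := (.node 38380 argWS_3398 argWS_3401)

def argWS_3403 : Store := (.node 38335 argWS_3395 argWS_3402)

def argWS_3404 : Store := (.node 38436 (.node 38430 (.node 38427 (.node 38426 (.leaf 0x0) (.leaf 0xb0001)) (.node 38428 (.leaf 0x961a0005a8) (.node 38429 (.leaf 0x309010908020401050009) (.leaf 0x0)))) (.node 38433 (.node 38431 (.leaf 0xb0a0a0003) (.node 38432 (.leaf 0x0) (.leaf 0xa0001))) (.node 38434 (.leaf 0x0) (.node 38435 (.leaf 0x0) (.leaf 0xf0001))))) (.node 38441 (.node 38438 (.node 38437 (.leaf 0x3070206030005) (.leaf 0x0)) (.node 38439 (.leaf 0xb0a0002) (.node 38440 (.leaf 0x0) (.leaf 0x307000301010200000703040103000e)))) (.node 38444 (.node 38442 (.leaf 0x0) (.node 38443 (.leaf 0x0) (.leaf 0x962a009627))) (.node 38445 (.leaf 0xd0b0b0003) (.node 38446 (.leaf 0x0) (.leaf 0xf0b0002))))))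

def argWS_3405 : Store := (.node 38458 (.node 38452 (.node 38449 (.node 38448 (.leaf 0x0) (.leaf 0x0)) (.node 38450 (.leaf 0xa0f0b0003) (.node 38451 (.leaf 0x40106020702010202000701000c) (.leaf 0x0)))) (.node 38455 (.node 38453 (.leaf 0xb0f0a0003) (.node 38454 (.leaf 0x0) (.leaf 0xb0f0a0003))) (.node 38456 (.leaf 0x9636009635) (.node 38457 (.leaf 0xa0f0002) (.leaf 0x0))))) (.node 38464 (.node 38461 (.node 38459 (.leaf 0x602020900000007) (.node 38460 (.leaf 0x0) (.leaf 0xb0f0a0a0004))) (.node 38462 (.leaf 0xf0b0a0a0004) (.node 38463 (.leaf 0x0) (.leaf 0x30701090805000703040103000c)))) (.node 38467 (.node 38465 (.leaf 0x1020000030000000703040103000d) (.node 38466 (.leaf 0x0) (.leaf 0xa0a0002))) (.node 38468 (.leaf 0xb0001) (.node 38469 (.leaf 0x3030400050202000701000a) (.leaf 0x0))))))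

def argWS_3406 : Store := (.node 38447 argWS_3404 argWS_3405)

def argWS_3407 : Store := (.node 38481 (.node 38475 (.node 38472 (.node 38471 (.leaf 0xb0f0a0a0004) (.leaf 0x0)) (.node 38473 (.leaf 0xe0a0a0003) (.node 38474 (.leaf 0x9648) (.leaf 0xf0b0b0a0004)))) (.node 38478 (.node 38476 (.leaf 0x0) (.node 38477 (.leaf 0xa0f0002) (.leaf 0x0))) (.node 38479 (.leaf 0x0) (.node 38480 (.leaf 0x0) (.leaf 0x4020900000802040105000a))))) (.node 38486 (.node 38483 (.node 38482 (.leaf 0x0) (.leaf 0x0)) (.node 38484 (.leaf 0xb0f0a0a0004) (.node 38485 (.leaf 0x901010703060006) (.leaf 0x0)))) (.node 38489 (.node 38487 (.leaf 0xe0d0002) (.node 38488 (.leaf 0x0) (.leaf 0x9657009653))) (.node 38490 (.leaf 0x307000207030802040105000b) (.node 38491 (.leaf 0x0) (.leaf 0xd0b0b0003))))))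

def argWS_3408 : Store := (.node 38503 (.node 38497 (.node 38494 (.node 38493 (.leaf 0x0) (.leaf 0x506030007030401030009)) (.node 38495 (.leaf 0x0) (.node 38496 (.leaf 0xb0f0002) (.leaf 0x50201090109000703040103000c)))) (.node 38500 (.node 38498 (.leaf 0x0) (.node 38499 (.leaf 0xf0b0a0003) (.leaf 0xe0a0a0003))) (.node 38501 (.leaf 0xb0a0a0003) (.node 38502 (.leaf 0x306010500020802040105000b) (.leaf 0x0))))) (.node 38509 (.node 38506 (.node 38504 (.leaf 0xf0b0b0a0004) (.node 38505 (.leaf 0x0) (.leaf 0x9668009664))) (.node 38507 (.leaf 0xf0a0a0003) (.node 38508 (.leaf 0x0) (.leaf 0x90201020901060802040105000c)))) (.node 38512 (.node 38510 (.leaf 0x0) (.node 38511 (.leaf 0xf0001) (.leaf 0xd0b0b0003))) (.node 38513 (.leaf 0xf0001) (.node 38514 (.leaf 0x2a99009670) (.leaf 0xb0a0f0003))))))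

def argWS_3409 : Store := (.node 38492 argWS_3407 argWS_3408)

def argWS_3410 : Store := (.node 38470 argWS_3406 argWS_3409)

def argWS_3411 : Store := (.node 38526 (.node 38520 (.node 38517 (.node 38516 (.leaf 0x0) (.leaf 0x5030306040005)) (.node 38518 (.leaf 0x0) (.node 38519 (.leaf 0xf0a0002) (.leaf 0x2020007030401030008)))) (.node 38523 (.node 38521 (.leaf 0x0) (.node 38522 (.leaf 0xf0b0a0a0004) (.leaf 0xa0f0002))) (.node 38524 (.leaf 0x967a) (.node 38525 (.leaf 0x9030901090202000701000a) (.leaf 0x0))))) (.node 38531 (.node 38528 (.node 38527 (.leaf 0xd0b0b0003) (.leaf 0x0)) (.node 38529 (.leaf 0x2000408010006) (.node 38530 (.leaf 0x0) (.leaf 0xf0b0a0a0004)))) (.node 38534 (.node 38532 (.leaf 0xa0001) (.node 38533 (.leaf 0x3040102020900000008) (.leaf 0x0))) (.node 38535 (.leaf 0xf0a0a0003) (.node 38536 (.leaf 0x0) (.leaf 0x9687))))))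

def argWS_3412 : Store := (.node 38548 (.node 38542 (.node 38539 (.node 38538 (.leaf 0xf0b0b0003) (.leaf 0x0)) (.node 38540 (.leaf 0x303090000090006) (.node 38541 (.leaf 0x0) (.leaf 0xa0001)))) (.node 38545 (.node 38543 (.leaf 0xe0a0a0003) (.node 38544 (.leaf 0x7020900090802040105000a) (.leaf 0x0))) (.node 38546 (.leaf 0xb0001) (.node 38547 (.leaf 0x0) (.leaf 0x80000000408010802040105000c))))) (.node 38554 (.node 38551 (.node 38549 (.leaf 0x0) (.node 38550 (.leaf 0xa0f0b0003) (.leaf 0x0))) (.node 38552 (.leaf 0x40304090000090202000701000c) (.node 38553 (.leaf 0x0) (.leaf 0xb0b0002)))) (.node 38557 (.node 38555 (.leaf 0x0) (.node 38556 (.leaf 0x969a) (.leaf 0x30403070209020007))) (.node 38558 (.leaf 0x0) (.node 38559 (.leaf 0xb0a0a0003) (.leaf 0x0))))))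

def argWS_3413 : Store := (.node 38537 argWS_3411 argWS_3412)

def argWS_3414 : Store := (.node 38571 (.node 38565 (.node 38562 (.node 38561 (.leaf 0x602060308020401050009) (.leaf 0x0)) (.node 38563 (.leaf 0xf0b0b0a0004) (.node 38564 (.leaf 0xa0f0b0003) (.leaf 0xf0b0b0003)))) (.node 38568 (.node 38566 (.leaf 0x209050206040202000701000b) (.node 38567 (.leaf 0x0) (.leaf 0xa0a0002))) (.node 38569 (.leaf 0x0) (.node 38570 (.leaf 0x96a8) (.leaf 0xd0b0002))))) (.node 38577 (.node 38574 (.node 38572 (.leaf 0x0) (.node 38573 (.leaf 0x5020202010006) (.leaf 0x0))) (.node 38575 (.leaf 0xf0b0002) (.node 38576 (.leaf 0xf0b0b0003) (.leaf 0x96af)))) (.node 38580 (.node 38578 (.leaf 0x605070209020006) (.node 38579 (.leaf 0x0) (.leaf 0xf0001))) (.node 38581 (.leaf 0x0) (.node 38582 (.leaf 0xd0b0b0003) (.leaf 0x0))))))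

def argWS_3415 : Store := (.node 38594 (.node 38588 (.node 38585 (.node 38584 (.leaf 0x0) (.leaf 0x901020901060006)) (.node 38586 (.leaf 0x0) (.node 38587 (.leaf 0xf0b0a0a0004) (.leaf 0x0)))) (.node 38591 (.node 38589 (.leaf 0xd0b0b0003) (.node 38590 (.leaf 0x96bc) (.leaf 0xb0f0002))) (.node 38592 (.leaf 0x0) (.node 38593 (.leaf 0xb0001) (.leaf 0x0))))) (.node 38600 (.node 38597 (.node 38595 (.leaf 0x0) (.node 38596 (.leaf 0x8010106020702010202000701000d) (.leaf 0x0))) (.node 38598 (.leaf 0xe0a0002) (.node 38599 (.leaf 0x0) (.leaf 0x8000000030000000703040103000d)))) (.node 38603 (.node 38601 (.leaf 0x0) (.node 38602 (.leaf 0xe0a0002) (.leaf 0x0))) (.node 38604 (.leaf 0x96ca) (.node 38605 (.leaf 0x103000400050202000701000b) (.leaf 0x0))))))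

def argWS_3416 : Store := (.node 38583 argWS_3414 argWS_3415)

def argWS_3417 : Store := (.node 38560 argWS_3413 argWS_3416)

def argWS_3418 : Store := (.node 38515 argWS_3410 argWS_3417)

def argWS_3419 : Store := (.node 38425 argWS_3403 argWS_3418)

def argWS_3420 : Store := (.node 38617 (.node 38611 (.node 38608 (.node 38607 (.leaf 0xf0b0b0003) (.leaf 0x0)) (.node 38609 (.leaf 0x8020002000003010802040105000d) (.node 38610 (.leaf 0x0) (.leaf 0xd0001)))) (.node 38614 (.node 38612 (.leaf 0xa0f0b0b0004) (.node 38613 (.leaf 0x9522) (.leaf 0x40904020802040105000a))) (.node 38615 (.leaf 0x0) (.node 38616 (.leaf 0xd0001) (.leaf 0x0))))) (.node 38622 (.node 38619 (.node 38618 (.leaf 0xf0b0002) (.leaf 0x0)) (.node 38620 (.leaf 0x0) (.node 38621 (.leaf 0xb0b0a0a0004) (.leaf 0x5010900090005)))) (.node 38625 (.node 38623 (.leaf 0x0) (.node 38624 (.leaf 0xe0a0002) (.leaf 0x0))) (.node 38626 (.leaf 0xd0b0002) (.node 38627 (.leaf 0x96e10096e0) (.leaf 0xf0b0a0003))))))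

def argWS_3421 : Store := (.node 38639 (.node 38633 (.node 38630 (.node 38629 (.leaf 0x0) (.leaf 0x4020106060802040105000b)) (.node 38631 (.leaf 0x0) (.node 38632 (.leaf 0xe0a0002) (.leaf 0xe0a0002)))) (.node 38636 (.node 38634 (.leaf 0xd0001) (.node 38635 (.leaf 0x96e9000f05) (.leaf 0xb0f0a0003))) (.node 38637 (.leaf 0x0) (.node 38638 (.leaf 0xf0b0b0003) (.leaf 0x0))))) (.node 38645 (.node 38642 (.node 38640 (.leaf 0x0) (.node 38641 (.leaf 0x30306040202000701000b) (.leaf 0x0))) (.node 38643 (.leaf 0xb0f0002) (.node 38644 (.leaf 0x0) (.leaf 0xe0d0002)))) (.node 38648 (.node 38646 (.leaf 0x96f4001586) (.node 38647 (.leaf 0x70505020202010202000701000c) (.leaf 0x0))) (.node 38649 (.leaf 0xa0f0b0b0004) (.node 38650 (.leaf 0x0) (.leaf 0x6040005020202010008))))))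

def argWS_3422 : Store := (.node 38628 argWS_3420 argWS_3421)

def argWS_3423 : Store := (.node 38662 (.node 38656 (.node 38653 (.node 38652 (.leaf 0x0) (.leaf 0xb0a0002)) (.node 38654 (.leaf 0x900020901060802040105000b) (.node 38655 (.leaf 0x0) (.leaf 0xd0b0b0003)))) (.node 38659 (.node 38657 (.leaf 0x0) (.node 38658 (.leaf 0xf0b0a0a0004) (.leaf 0xd0001))) (.node 38660 (.leaf 0x9702009701) (.node 38661 (.leaf 0x903090000090802040105000b) (.leaf 0x0))))) (.node 38667 (.node 38664 (.node 38663 (.leaf 0xf0001) (.leaf 0x0)) (.node 38665 (.leaf 0xf0001) (.node 38666 (.leaf 0x0) (.leaf 0x102090109000703040103000b)))) (.node 38670 (.node 38668 (.leaf 0x0) (.node 38669 (.leaf 0xd0b0002) (.leaf 0x0))) (.node 38671 (.leaf 0x8b90) (.node 38672 (.leaf 0x1070703060005) (.leaf 0x0))))))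

def argWS_3424 : Store := (.node 38684 (.node 38678 (.node 38675 (.node 38674 (.leaf 0xa0f0b0003) (.leaf 0x0)) (.node 38676 (.leaf 0x8030006030500040008) (.node 38677 (.leaf 0x0) (.leaf 0xf0b0002)))) (.node 38681 (.node 38679 (.leaf 0xf0b0b0003) (.node 38680 (.leaf 0x30500000300000802040105000c) (.leaf 0x0))) (.node 38682 (.leaf 0xb0f0a0003) (.node 38683 (.leaf 0x0) (.leaf 0x60007030401030007))))) (.node 38690 (.node 38687 (.node 38685 (.leaf 0x0) (.node 38686 (.leaf 0xb0f0a0a0004) (.leaf 0x0))) (.node 38688 (.leaf 0x971e00971a) (.node 38689 (.leaf 0xe0d0002) (.leaf 0x0)))) (.node 38693 (.node 38691 (.leaf 0x207020902000703040103000c) (.node 38692 (.leaf 0x0) (.leaf 0xb0a0002))) (.node 38694 (.leaf 0x6010207030401030008) (.node 38695 (.leaf 0x0) (.leaf 0xb0a0a0003))))))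

def argWS_3425 : Store := (.node 38673 argWS_3423 argWS_3424)

def argWS_3426 : Store := (.node 38651 argWS_3422 argWS_3425)

def argWS_3427 : Store := (.node 38707 (.node 38701 (.node 38698 (.node 38697 (.leaf 0x0) (.leaf 0x60500020804000802040105000c)) (.node 38699 (.leaf 0x0) (.node 38700 (.leaf 0xe0a0a0003) (.leaf 0x0)))) (.node 38704 (.node 38702 (.leaf 0x972c) (.node 38703 (.leaf 0x80000020901060202000701000c) (.leaf 0x0))) (.node 38705 (.leaf 0xd0b0b0003) (.node 38706 (.leaf 0x0) (.leaf 0xf0b0b0a0a0005))))) (.node 38712 (.node 38709 (.node 38708 (.leaf 0x0) (.leaf 0x0)) (.node 38710 (.leaf 0x8c67008c6e) (.node 38711 (.leaf 0x2020000000300000008) (.leaf 0x0)))) (.node 38715 (.node 38713 (.leaf 0xf0a0002) (.node 38714 (.leaf 0x0) (.leaf 0x50201020901060007))) (.node 38716 (.leaf 0x0) (.node 38717 (.leaf 0xa0f0b0003) (.leaf 0xa0f0b0b0004))))))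

def argWS_3428 : Store := (.node 38729 (.node 38723 (.node 38720 (.node 38719 (.leaf 0x602010400050802040105000b) (.leaf 0x0)) (.node 38721 (.leaf 0xe0001) (.node 38722 (.leaf 0x0) (.leaf 0x10202050206040202000701000c)))) (.node 38726 (.node 38724 (.leaf 0x0) (.node 38725 (.leaf 0xb0f0002) (.leaf 0x0))) (.node 38727 (.leaf 0x9745009741) (.node 38728 (.leaf 0x30401070209020202000701000c) (.leaf 0x0))))) (.node 38735 (.node 38732 (.node 38730 (.leaf 0xb0f0a0a0004) (.node 38731 (.leaf 0x0) (.leaf 0xf0b0a0a0004))) (.node 38733 (.leaf 0x0) (.node 38734 (.leaf 0xe0a0002) (.leaf 0xa0f0b0003)))) (.node 38738 (.node 38736 (.leaf 0x30900090004) (.node 38737 (.leaf 0x0) (.leaf 0xa0f0b0b0004))) (.node 38739 (.leaf 0x0) (.node 38740 (.leaf 0x975200974e) (.leaf 0xa0f0b0b0004))))))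

def argWS_3429 : Store := (.node 38718 argWS_3427 argWS_3428)

def argWS_3430 : Store := (.node 38752 (.node 38746 (.node 38743 (.node 38742 (.leaf 0x0) (.leaf 0x90402020900000202000701000c)) (.node 38744 (.leaf 0x0) (.node 38745 (.leaf 0xb0a0002) (.leaf 0xf0a0002)))) (.node 38749 (.node 38747 (.leaf 0x903010102000802040105000b) (.node 38748 (.leaf 0x0) (.leaf 0xf0b0b0003))) (.node 38750 (.leaf 0x0) (.node 38751 (.leaf 0x975d003dce) (.leaf 0xa0a0002))))) (.node 38757 (.node 38754 (.node 38753 (.leaf 0x0) (.leaf 0x2000308000703040103000a)) (.node 38755 (.leaf 0x0) (.node 38756 (.leaf 0xb0a0a0003) (.leaf 0x3010206030802040105000a)))) (.node 38760 (.node 38758 (.leaf 0x0) (.node 38759 (.leaf 0xe0a0002) (.leaf 0x0))) (.node 38761 (.leaf 0x9050306030500040802040105000d) (.node 38762 (.leaf 0x0) (.leaf 0xb0b0002))))))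

def argWS_3431 : Store := (.node 38774 (.node 38768 (.node 38765 (.node 38764 (.leaf 0x0) (.leaf 0x976b009767)) (.node 38766 (.leaf 0x4000400030306040802040105000d) (.node 38767 (.leaf 0x0) (.leaf 0xb0a0f0003)))) (.node 38771 (.node 38769 (.leaf 0x0) (.node 38770 (.leaf 0xa0a0002) (.leaf 0x0))) (.node 38772 (.leaf 0x0) (.node 38773 (.leaf 0xf0b0a0a0004) (.leaf 0x0))))) (.node 38780 (.node 38777 (.node 38775 (.leaf 0x9000901090202000701000b) (.node 38776 (.leaf 0x0) (.leaf 0xf0a0a0003))) (.node 38778 (.leaf 0x0) (.node 38779 (.leaf 0x103000901090202000701000b) (.leaf 0x0)))) (.node 38783 (.node 38781 (.leaf 0xf0b0a0003) (.node 38782 (.leaf 0x0) (.leaf 0x6010703060006))) (.node 38784 (.leaf 0x0) (.node 38785 (.leaf 0xe0d0002) (.leaf 0x0))))))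

def argWS_3432 : Store := (.node 38763 argWS_3430 argWS_3431)

def argWS_3433 : Store := (.node 38741 argWS_3429 argWS_3432)

def argWS_3434 : Store := (.node 38696 argWS_3426 argWS_3433)

def argWS_3435 : Store := (.node 38797 (.node 38791 (.node 38788 (.node 38787 (.leaf 0x978100977d) (.leaf 0xa0f0b0b0004)) (.node 38789 (.leaf 0x0) (.node 38790 (.leaf 0xd0b0002) (.leaf 0x0)))) (.node 38794 (.node 38792 (.leaf 0x0) (.node 38793 (.leaf 0x80500050206040802040105000c) (.leaf 0x0))) (.node 38795 (.leaf 0xb0b0002) (.node 38796 (.leaf 0x0) (.leaf 0x978b))))) (.node 38802 (.node 38799 (.node 38798 (.leaf 0x4020507020600000703040103000d) (.leaf 0x0)) (.node 38800 (.leaf 0xf0b0b0a0004) (.node 38801 (.leaf 0x0) (.leaf 0xb0a0f0003)))) (.node 38805 (.node 38803 (.leaf 0x0) (.node 38804 (.leaf 0x0) (.leaf 0xb0a0f0003))) (.node 38806 (.leaf 0xe0001) (.node 38807 (.leaf 0x9795) (.leaf 0xe0d0002))))))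

def argWS_3436 : Store := (.node 38819 (.node 38813 (.node 38810 (.node 38809 (.leaf 0x0) (.leaf 0xe0001)) (.node 38811 (.leaf 0x0) (.node 38812 (.leaf 0x0) (.leaf 0x90300070009030802040105000c)))) (.node 38816 (.node 38814 (.leaf 0x0) (.node 38815 (.leaf 0xf0b0002) (.leaf 0x0))) (.node 38817 (.leaf 0xf0001) (.node 38818 (.leaf 0x97a0) (.leaf 0xf0b0b0a0004))))) (.node 38825 (.node 38822 (.node 38820 (.leaf 0x0) (.node 38821 (.leaf 0x705070209020006) (.leaf 0x0))) (.node 38823 (.leaf 0xf0b0b0003) (.node 38824 (.leaf 0x60202020900000007) (.leaf 0x0)))) (.node 38828 (.node 38826 (.leaf 0xd0b0002) (.node 38827 (.leaf 0x0) (.leaf 0xe0a0a0003))) (.node 38829 (.leaf 0x97ab) (.node 38830 (.leaf 0xe0a0a0003) (.leaf 0x0))))))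

def argWS_3437 : Store := (.node 38808 argWS_3435 argWS_3436)

def argWS_3438 : Store := (.node 38842 (.node 38836 (.node 38833 (.node 38832 (.leaf 0x204030007030401030009) (.leaf 0x0)) (.node 38834 (.leaf 0xf0b0b0003) (.node 38835 (.leaf 0x20903070209020802040105000c) (.leaf 0x800070306000703040103000b)))) (.node 38839 (.node 38837 (.leaf 0xf0b0b0003) (.node 38838 (.leaf 0x301060608020401050009) (.leaf 0x0))) (.node 38840 (.leaf 0xf0a0a0003) (.node 38841 (.leaf 0x0) (.leaf 0xf0a0002))))) (.node 38847 (.node 38844 (.node 38843 (.leaf 0x97b90097b8) (.leaf 0xb0001)) (.node 38845 (.leaf 0x0) (.node 38846 (.leaf 0xf0b0002) (.leaf 0x0)))) (.node 38850 (.node 38848 (.leaf 0x0) (.node 38849 (.leaf 0xf0a0a0003) (.leaf 0x9692007b75))) (.node 38851 (.leaf 0xd0b0002) (.node 38852 (.leaf 0x0) (.leaf 0x8000002010606000703040103000d))))))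

def argWS_3439 : Store := (.node 38864 (.node 38858 (.node 38855 (.node 38854 (.leaf 0x0) (.leaf 0xf0001)) (.node 38856 (.leaf 0xe0a0002) (.node 38857 (.leaf 0x50300000300000202000701000c) (.leaf 0x0)))) (.node 38861 (.node 38859 (.leaf 0xf0a0a0003) (.node 38860 (.leaf 0x0) (.leaf 0xedb0097cb))) (.node 38862 (.leaf 0x30306040202000701000a) (.node 38863 (.leaf 0x0) (.leaf 0xf0001))))) (.node 38870 (.node 38867 (.node 38865 (.leaf 0x0) (.node 38866 (.leaf 0xa0a0002) (.leaf 0x0))) (.node 38868 (.leaf 0x0) (.node 38869 (.leaf 0xf0b0a0003) (.leaf 0x97d4)))) (.node 38873 (.node 38871 (.leaf 0xe0001) (.node 38872 (.leaf 0x0) (.leaf 0xa0f0002))) (.node 38874 (.leaf 0x0) (.node 38875 (.leaf 0x0) (.leaf 0xf0b0b0a0004))))))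

def argWS_3440 : Store := (.node 38853 argWS_3438 argWS_3439)

def argWS_3441 : Store := (.node 38831 argWS_3437 argWS_3440)

def argWS_3442 : Store := (.node 38887 (.node 38881 (.node 38878 (.node 38877 (.leaf 0x0) (.leaf 0xd0001)) (.node 38879 (.leaf 0x0) (.node 38880 (.leaf 0x9000400050802040105000b) (.leaf 0x0)))) (.node 38884 (.node 38882 (.leaf 0xb0a0f0003) (.node 38883 (.leaf 0x0) (.leaf 0x97e20097de))) (.node 38885 (.leaf 0xb0001) (.node 38886 (.leaf 0x0) (.leaf 0xf0b0b0a0004))))) (.node 38892 (.node 38889 (.node 38888 (.leaf 0x0) (.leaf 0x0)) (.node 38890 (.leaf 0x10305020202010007) (.node 38891 (.leaf 0x0) (.leaf 0xf0b0a0003)))) (.node 38895 (.node 38893 (.leaf 0xb0b0a0a0004) (.node 38894 (.leaf 0x97ec) (.leaf 0xa0f0b0b0004))) (.node 38896 (.leaf 0x0) (.node 38897 (.leaf 0x8020000000300000202000701000d) (.leaf 0x0))))))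

def argWS_3443 : Store := (.node 38909 (.node 38903 (.node 38900 (.node 38899 (.leaf 0xe0001) (.leaf 0x701010207030006)) (.node 38901 (.leaf 0x0) (.node 38902 (.leaf 0xb0f0a0003) (.leaf 0x0)))) (.node 38906 (.node 38904 (.leaf 0x55b40097f6) (.node 38905 (.leaf 0xe0a0a0003) (.leaf 0x0))) (.node 38907 (.leaf 0xb0b0002) (.node 38908 (.leaf 0x0) (.leaf 0x0))))) (.node 38915 (.node 38912 (.node 38910 (.leaf 0x9010409000009000703040103000d) (.node 38911 (.leaf 0x0) (.leaf 0xe0a0a0003))) (.node 38913 (.leaf 0x0) (.node 38914 (.leaf 0xf0b0b0a0004) (.leaf 0xe0d0002)))) (.node 38918 (.node 38916 (.leaf 0x9802009801) (.node 38917 (.leaf 0xe0a0002) (.leaf 0x0))) (.node 38919 (.leaf 0xd0b0b0003) (.node 38920 (.leaf 0x0) (.leaf 0x0))))))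

def argWS_3444 : Store := (.node 38898 argWS_3442 argWS_3443)

def argWS_3445 : Store := (.node 38932 (.node 38926 (.node 38923 (.node 38922 (.leaf 0xd0b0002) (.leaf 0x209020003)) (.node 38924 (.leaf 0x0) (.node 38925 (.leaf 0xa0f0002) (.leaf 0x0)))) (.node 38929 (.node 38927 (.leaf 0xd0b0b0003) (.node 38928 (.leaf 0x980e00980d) (.leaf 0xb0b0002))) (.node 38930 (.leaf 0x0) (.node 38931 (.leaf 0xa0f0b0b0004) (.leaf 0x0))))) (.node 38938 (.node 38935 (.node 38933 (.leaf 0x0) (.node 38934 (.leaf 0xf0b0b0a0004) (.leaf 0xb0f0a0003))) (.node 38936 (.leaf 0x9000308000703040103000a) (.node 38937 (.leaf 0x0) (.leaf 0xe0a0a0003)))) (.node 38941 (.node 38939 (.leaf 0x0) (.node 38940 (.leaf 0x981a009816) (.leaf 0xa0001))) (.node 38942 (.leaf 0x0) (.node 38943 (.leaf 0xb0a0a0003) (.leaf 0x30102000003010802040105000c))))))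

def argWS_3446 : Store := (.node 38955 (.node 38949 (.node 38946 (.node 38945 (.leaf 0x0) (.leaf 0xb0b0a0003)) (.node 38947 (.leaf 0x0) (.node 38948 (.leaf 0x9822) (.leaf 0x60102090206020802040105000c)))) (.node 38952 (.node 38950 (.leaf 0x0) (.node 38951 (.leaf 0xa0f0b0003) (.leaf 0x0))) (.node 38953 (.leaf 0x8000402000003010202000701000d) (.node 38954 (.leaf 0x0) (.leaf 0xa0001))))) (.node 38961 (.node 38958 (.node 38956 (.leaf 0xe0d0002) (.node 38957 (.leaf 0x0) (.leaf 0x0))) (.node 38959 (.leaf 0x207070209020202000701000b) (.node 38960 (.leaf 0x0) (.leaf 0xf0001)))) (.node 38964 (.node 38962 (.leaf 0x0) (.node 38963 (.leaf 0xe0d0002) (.leaf 0x4020604000703040103000a))) (.node 38965 (.leaf 0x0) (.node 38966 (.leaf 0xa0f0b0003) (.leaf 0x0))))))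

def argWS_3447 : Store := (.node 38944 argWS_3445 argWS_3446)

def argWS_3448 : Store := (.node 38921 argWS_3444 argWS_3447)

def argWS_3449 : Store := (.node 38876 argWS_3441 argWS_3448)

def argWS_3450 : Store := (.node 38786 argWS_3434 argWS_3449)

def argWS_3451 : Store := (.node 38606 argWS_3419 argWS_3450)

def argWS_3452 : Store := (.node 38245 argWS_3388 argWS_3451)

def argWS_3453 : Store := (.node 38978 (.node 38972 (.node 38969 (.node 38968 (.leaf 0x9836009832) (.leaf 0x6000400050202000701000b)) (.node 38970 (.leaf 0x0) (.node 38971 (.leaf 0xb0001) (.leaf 0x0)))) (.node 38975 (.node 38973 (.leaf 0x20601020106060007) (.node 38974 (.leaf 0x0) (.leaf 0xe0001))) (.node 38976 (.leaf 0xb0f0a0003) (.node 38977 (.leaf 0x60205020202010007) (.leaf 0xa0f0002))))) (.node 38983 (.node 38980 (.node 38979 (.leaf 0x903010908050006) (.leaf 0x0)) (.node 38981 (.leaf 0xd0001) (.node 38982 (.leaf 0x0) (.leaf 0xb0b0002)))) (.node 38986 (.node 38984 (.leaf 0x9846009845)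 (.node 38985 (.leaf 0x908050007030401030009) (.leaf 0x0))) (.node 38987 (.leaf 0xb0f0002) (.node 38988 (.leaf 0x0) (.leaf 0x0))))))

def argWS_3454 : Store := (.node 39000 (.node 38994 (.node 38991 (.node 38990 (.leaf 0x0) (.leaf 0x0)) (.node 38992 (.leaf 0x1040007000902000701000a) (.node 38993 (.leaf 0x0) (.leaf 0x0)))) (.node 38997 (.node 38995 (.leaf 0xa0f0002) (.node 38996 (.leaf 0x0) (.leaf 0xf0b0002))) (.node 38998 (.leaf 0x0) (.node 38999 (.leaf 0x0) (.leaf 0x0))))) (.node 39006 (.node 39003 (.node 39001 (.leaf 0x0) (.node 39002 (.leaf 0x0) (.leaf 0x0))) (.node 39004 (.leaf 0x0) (.node 39005 (.leaf 0x0) (.leaf 0x0)))) (.node 39009 (.node 39007 (.leaf 0x0) (.node 39008 (.leaf 0x0) (.leaf 0x0))) (.node 39010 (.leaf 0x0) (.node 39011 (.leaf 0x3030500040005) (.leaf 0x0))))))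

def argWS_3455 : Store := (.node 38989 argWS_3453 argWS_3454)

def argWS_3456 : Store := (.node 39023 (.node 39017 (.node 39014 (.node 39013 (.leaf 0xf0b0a0003) (.leaf 0x0)) (.node 39015 (.leaf 0x2090000030000000703040103000d) (.node 39016 (.leaf 0x0) (.leaf 0xa0001)))) (.node 39020 (.node 39018 (.leaf 0x0) (.node 39019 (.leaf 0xe0a0a0003) (.leaf 0x986a009869))) (.node 39021 (.leaf 0xf0a0a0003) (.node 39022 (.leaf 0x0) (.leaf 0xe0001))))) (.node 39028 (.node 39025 (.node 39024 (.leaf 0x0) (.leaf 0x0)) (.node 39026 (.leaf 0xf0b0b0a0004) (.node 39027 (.leaf 0xf0b0a0003) (.leaf 0x9872)))) (.node 39031 (.node 39029 (.leaf 0xd0b0b0003) (.node 39030 (.leaf 0x0) (.leaf 0xf0b0a0a0004))) (.node 39032 (.leaf 0x0) (.node 39033 (.leaf 0x0) (.leaf 0x900000908020401050009))))))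

def argWS_3457 : Store := (.node 39045 (.node 39039 (.node 39036 (.node 39035 (.leaf 0x0) (.leaf 0xb0a0f0003)) (.node 39037 (.leaf 0x0) (.node 39038 (.leaf 0x503050202020703040103000b) (.leaf 0x0)))) (.node 39042 (.node 39040 (.leaf 0xf0b0002) (.node 39041 (.leaf 0x0) (.leaf 0x9880))) (.node 39043 (.leaf 0x207090806000202000701000b) (.node 39044 (.leaf 0x0) (.leaf 0xb0f0a0a0004))))) (.node 39051 (.node 39048 (.node 39046 (.leaf 0x0) (.node 39047 (.leaf 0x0) (.leaf 0xa0f0b0003))) (.node 39049 (.leaf 0xb0001) (.node 39050 (.leaf 0x0) (.leaf 0x9889)))) (.node 39054 (.node 39052 (.leaf 0xe0a0a0003) (.node 39053 (.leaf 0x0) (.leaf 0xb0a0002))) (.node 39055 (.leaf 0x0) (.node 39056 (.leaf 0x0) (.leaf 0xe0d0002))))))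

def argWS_3458 : Store := (.node 39034 argWS_3456 argWS_3457)

def argWS_3459 : Store := (.node 39012 argWS_3455 argWS_3458)

def argWS_3460 : Store := (.node 39068 (.node 39062 (.node 39059 (.node 39058 (.leaf 0x202060008020401050009) (.leaf 0x0)) (.node 39060 (.leaf 0xe0a0a0003) (.node 39061 (.leaf 0x0) (.leaf 0x9894)))) (.node 39065 (.node 39063 (.leaf 0xb0a0002) (.node 39064 (.leaf 0x0) (.leaf 0x0))) (.node 39066 (.leaf 0xb0b0002) (.node 39067 (.leaf 0xb0b0002) (.leaf 0x20709000009000703040103000c))))) (.node 39073 (.node 39070 (.node 39069 (.leaf 0x0) (.leaf 0x0)) (.node 39071 (.leaf 0x102020000030703040103000b) (.node 39072 (.leaf 0x0) (.leaf 0xe0001)))) (.node 39076 (.node 39074 (.leaf 0x0) (.node 39075 (.leaf 0x2020900000007) (.leaf 0x0))) (.node 39077 (.leaf 0xb0a0f0003) (.node 39078 (.leaf 0x0) (.leaf 0x98a50098a1))))))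

def argWS_3461 : Store := (.node 39090 (.node 39084 (.node 39081 (.node 39080 (.leaf 0x10502070209020802040105000c) (.leaf 0x0)) (.node 39082 (.leaf 0xb0a0f0003) (.node 39083 (.leaf 0x0) (.leaf 0x2020000000300000008)))) (.node 39087 (.node 39085 (.leaf 0x0) (.node 39086 (.leaf 0xf0b0b0003) (.leaf 0xd0001))) (.node 39088 (.leaf 0x1020004080703040103000a) (.node 39089 (.leaf 0x0) (.leaf 0xf0b0a0a0004))))) (.node 39096 (.node 39093 (.node 39091 (.leaf 0x0) (.node 39092 (.leaf 0x30401010703060802040105000c) (.leaf 0x0))) (.node 39094 (.leaf 0xa0a0002) (.node 39095 (.leaf 0x0) (.leaf 0x9070002080400000703040103000d)))) (.node 39099 (.node 39097 (.leaf 0x0) (.node 39098 (.leaf 0xb0f0a0003) (.leaf 0x0))) (.node 39100 (.leaf 0x98ba0098b6) (.node 39101 (.leaf 0x9050901060202000701000a) (.leaf 0x0))))))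

def argWS_3462 : Store := (.node 39079 argWS_3460 argWS_3461)

def argWS_3463 : Store := (.node 39113 (.node 39107 (.node 39104 (.node 39103 (.leaf 0xf0b0b0a0a0005) (.leaf 0x0)) (.node 39105 (.leaf 0xe0a0002) (.node 39106 (.leaf 0x0) (.leaf 0x0)))) (.node 39110 (.node 39108 (.leaf 0xb0f0a0a0004) (.node 39109 (.leaf 0xa0f0002) (.leaf 0x60501070209020202000701000c))) (.node 39111 (.leaf 0x0) (.node 39112 (.leaf 0xf0b0b0a0004) (.leaf 0x0))))) (.node 39118 (.node 39115 (.node 39114 (.leaf 0x5f320098c8) (.leaf 0x1090300000300000008)) (.node 39116 (.leaf 0x0) (.node 39117 (.leaf 0xb0b0002) (.leaf 0x0)))) (.node 39121 (.node 39119 (.leaf 0x30403070206000202000701000c) (.node 39120 (.leaf 0x0) (.leaf 0xa0f0002))) (.node 39122 (.leaf 0xf0b0b0a0a0005) (.node 39123 (.leaf 0x5020005020202010202000701000d) (.leaf 0x0))))))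

def argWS_3464 : Store := (.node 39135 (.node 39129 (.node 39126 (.node 39125 (.leaf 0xe0d0002) (.leaf 0x0)) (.node 39127 (.leaf 0xd0b0b0003) (.node 39128 (.leaf 0x98d60098d5) (.leaf 0xb0b0002)))) (.node 39132 (.node 39130 (.leaf 0x0) (.node 39131 (.leaf 0xf0b0b0a0a0005) (.leaf 0x0))) (.node 39133 (.leaf 0x0) (.node 39134 (.leaf 0xa0001) (.leaf 0xe0d0002))))) (.node 39141 (.node 39138 (.node 39136 (.leaf 0xb0b0a0a0004) (.node 39137 (.leaf 0x98df0098de) (.leaf 0x209070206000006))) (.node 39139 (.leaf 0x0) (.node 39140 (.leaf 0xe0a0002) (.leaf 0x0)))) (.node 39144 (.node 39142 (.leaf 0x8030003080202000701000a) (.node 39143 (.leaf 0x0) (.leaf 0xa0f0b0b0004))) (.node 39145 (.leaf 0xa0001) (.node 39146 (.leaf 0xa0f0002) (.leaf 0xe0a0a0003))))))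

def argWS_3465 : Store := (.node 39124 argWS_3463 argWS_3464)

def argWS_3466 : Store := (.node 39102 argWS_3462 argWS_3465)

def argWS_3467 : Store := (.node 39057 argWS_3459 argWS_3466)

def argWS_3468 : Store := (.node 39158 (.node 39152 (.node 39149 (.node 39148 (.leaf 0xa0f0b0b0004) (.leaf 0x602020900000006)) (.node 39150 (.leaf 0x0) (.node 39151 (.leaf 0xb0b0a0003) (.leaf 0x0)))) (.node 39155 (.node 39153 (.leaf 0x98ef0098eb) (.node 39154 (.leaf 0x500040003) (.leaf 0x0))) (.node 39156 (.leaf 0xa0001) (.node 39157 (.leaf 0x0) (.leaf 0x5020106030500040202000701000d))))) (.node 39163 (.node 39160 (.node 39159 (.leaf 0x0) (.leaf 0xf0b0a0003)) (.node 39161 (.leaf 0xa0f0002) (.node 39162 (.leaf 0xf0a0002) (.leaf 0xb0a0a0003)))) (.node 39166 (.node 39164 (.leaf 0xb0f0a0a0004) (.node 39165 (.leaf 0x7030500000300000802040105000d) (.leaf 0x0))) (.node 39167 (.leaf 0x0) (.node 39168 (.leaf 0x601020107020902000703040103000e) (.leaf 0x0))))))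

def argWS_3469 : Store := (.node 39180 (.node 39174 (.node 39171 (.node 39170 (.leaf 0xf0b0b0003) (.leaf 0x0)) (.node 39172 (.leaf 0x80000090206020202000701000c) (.node 39173 (.leaf 0x0) (.leaf 0xe0a0002)))) (.node 39177 (.node 39175 (.leaf 0x0) (.node 39176 (.leaf 0x9906009902) (.leaf 0x8020005020202010202000701000d))) (.node 39178 (.leaf 0x0) (.node 39179 (.leaf 0xb0f0002) (.leaf 0x0))))) (.node 39186 (.node 39183 (.node 39181 (.leaf 0x2000009020602000703040103000e) (.node 39182 (.leaf 0x0) (.leaf 0xf0b0002))) (.node 39184 (.leaf 0xf0a0a0003) (.node 39185 (.leaf 0xe0a0a0003) (.leaf 0x60609020602000703040103000c)))) (.node 39189 (.node 39187 (.leaf 0x0) (.node 39188 (.leaf 0xf0a0002) (.leaf 0x0))) (.node 39190 (.leaf 0xd0001) (.node 39191 (.leaf 0xb0001) (.leaf 0x3c55009916))))))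

def argWS_3470 : Store := (.node 39169 argWS_3468 argWS_3469)

def argWS_3471 : Store := (.node 39203 (.node 39197 (.node 39194 (.node 39193 (.leaf 0x400030601050002000703040103000e) (.leaf 0x0)) (.node 39195 (.leaf 0xd0b0b0003) (.node 39196 (.leaf 0x0) (.leaf 0x700050206040202000701000b)))) (.node 39200 (.node 39198 (.leaf 0x0) (.node 39199 (.leaf 0xf0b0b0003) (.leaf 0x2070207030005))) (.node 39201 (.leaf 0x0) (.node 39202 (.leaf 0x0) (.leaf 0xf0b0b0a0a0005))))) (.node 39208 (.node 39205 (.node 39204 (.leaf 0x307020600000703040103000b) (.leaf 0x0)) (.node 39206 (.leaf 0xb0f0002) (.node 39207 (.leaf 0x0) (.leaf 0x9000206020007010009)))) (.node 39211 (.node 39209 (.leaf 0x0) (.node 39210 (.leaf 0xf0b0002) (.leaf 0x0))) (.node 39212 (.leaf 0x90005020202010202000701000c) (.node 39213 (.leaf 0x0) (.leaf 0xa0f0002))))))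

def argWS_3472 : Store := (.node 39225 (.node 39219 (.node 39216 (.node 39215 (.leaf 0x0) (.leaf 0x992e00992a)) (.node 39217 (.leaf 0x20103070009030802040105000c) (.node 39218 (.leaf 0x0) (.leaf 0xb0a0002)))) (.node 39222 (.node 39220 (.leaf 0x0) (.node 39221 (.leaf 0xf0b0002) (.leaf 0x0))) (.node 39223 (.leaf 0x0) (.node 39224 (.leaf 0xa0f0b0b0004) (.leaf 0x6040101090805000703040103000d))))) (.node 39231 (.node 39228 (.node 39226 (.leaf 0x0) (.node 39227 (.leaf 0xf0b0b0003) (.leaf 0x0))) (.node 39229 (.leaf 0xa0f0b0b0004) (.node 39230 (.leaf 0x993c00993b) (.leaf 0xf0b0a0003)))) (.node 39234 (.node 39232 (.leaf 0x0) (.node 39233 (.leaf 0x6010201020106060008) (.leaf 0x0))) (.node 39235 (.leaf 0xe0d0002) (.node 39236 (.leaf 0x90700000408010202000701000c) (.leaf 0x0))))))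

def argWS_3473 : Store := (.node 39214 argWS_3471 argWS_3472)

def argWS_3474 : Store := (.node 39192 argWS_3470 argWS_3473)

def argWS_3475 : Store := (.node 39248 (.node 39242 (.node 39239 (.node 39238 (.leaf 0xa0a0002) (.leaf 0x0)) (.node 39240 (.leaf 0x50201040005000703040103000c) (.node 39241 (.leaf 0x0) (.leaf 0xb0f0002)))) (.node 39245 (.node 39243 (.leaf 0x0) (.node 39244 (.leaf 0x994a) (.leaf 0x90009000703040103000b))) (.node 39246 (.leaf 0x0) (.node 39247 (.leaf 0xb0f0a0a0004) (.leaf 0x0))))) (.node 39253 (.node 39250 (.node 39249 (.leaf 0x8020009000009000703040103000d) (.leaf 0x0)) (.node 39251 (.leaf 0xf0a0a0003) (.node 39252 (.leaf 0xf0b0b0a0004) (.leaf 0xf0b0b0a0a0005)))) (.node 39256 (.node 39254 (.leaf 0x9954) (.node 39255 (.leaf 0xa0f0b0003) (.leaf 0x0))) (.node 39257 (.leaf 0x805000207030802040105000b) (.node 39258 (.leaf 0x0) (.leaf 0xa0f0b0b0004))))))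

def argWS_3476 : Store := (.node 39270 (.node 39264 (.node 39261 (.node 39260 (.leaf 0x2000202090000000703040103000d) (.leaf 0x0)) (.node 39262 (.leaf 0xd0b0b0003) (.node 39263 (.leaf 0x0) (.leaf 0x6020207030005)))) (.node 39267 (.node 39265 (.leaf 0x0) (.node 39266 (.leaf 0xb0f0002) (.leaf 0x0))) (.node 39268 (.leaf 0x9962) (.node 39269 (.leaf 0x4020202010802040105000a) (.leaf 0x0))))) (.node 39276 (.node 39273 (.node 39271 (.leaf 0xe0001) (.node 39272 (.leaf 0x0) (.leaf 0x70403010102000802040105000c))) (.node 39274 (.leaf 0x0) (.node 39275 (.leaf 0xf0b0a0003) (.leaf 0x70509000009000703040103000c)))) (.node 39279 (.node 39277 (.leaf 0x0) (.node 39278 (.leaf 0xb0b0002) (.leaf 0x0))) (.node 39280 (.leaf 0x201010908050802040105000b) (.node 39281 (.leaf 0x0) (.leaf 0xf0a0002))))))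

def argWS_3477 : Store := (.node 39259 argWS_3475 argWS_3476)

def argWS_3478 : Store := (.node 39293 (.node 39287 (.node 39284 (.node 39283 (.leaf 0x0) (.leaf 0x500020106060202000701000b)) (.node 39285 (.leaf 0x0) (.node 39286 (.leaf 0xd0b0002) (.leaf 0x0)))) (.node 39290 (.node 39288 (.leaf 0x9976009972) (.node 39289 (.leaf 0x5090206020802040105000a) (.leaf 0x0))) (.node 39291 (.leaf 0xe0a0002) (.node 39292 (.leaf 0x0) (.leaf 0xb0f0a0a0004))))) (.node 39299 (.node 39296 (.node 39294 (.leaf 0x0) (.node 39295 (.leaf 0x0) (.leaf 0x900030306040202000701000b))) (.node 39297 (.leaf 0x0) (.node 39298 (.leaf 0x0) (.leaf 0x305050202020703040103000b)))) (.node 39302 (.node 39300 (.leaf 0x0) (.node 39301 (.leaf 0xd0b0002) (.leaf 0x0))) (.node 39303 (.leaf 0x9985) (.node 39304 (.leaf 0xf0b0a0a0004) (.leaf 0x0))))))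

def argWS_3479 : Store := (.node 39316 (.node 39310 (.node 39307 (.node 39306 (.leaf 0x5020202010802040105000b) (.leaf 0x0)) (.node 39308 (.leaf 0xb0b0002) (.node 39309 (.leaf 0xe0001) (.leaf 0x400040206020007010009)))) (.node 39313 (.node 39311 (.leaf 0x0) (.node 39312 (.leaf 0xf0b0002) (.leaf 0x0))) (.node 39314 (.leaf 0x95ba009990) (.node 39315 (.leaf 0x5000900090202000701000a) (.leaf 0x0))))) (.node 39322 (.node 39319 (.node 39317 (.leaf 0xf0b0b0003) (.node 39318 (.leaf 0x0) (.leaf 0xe0a0002))) (.node 39320 (.leaf 0x0) (.node 39321 (.leaf 0x0) (.leaf 0x60401020901060007)))) (.node 39325 (.node 39323 (.leaf 0x0) (.node 39324 (.leaf 0xf0b0b0003) (.leaf 0x0))) (.node 39326 (.leaf 0xf0a0002) (.node 39327 (.leaf 0x999d00999c) (.leaf 0x900030306040802040105000b))))))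

def argWS_3480 : Store := (.node 39305 argWS_3478 argWS_3479)

def argWS_3481 : Store := (.node 39282 argWS_3477 argWS_3480)

def argWS_3482 : Store := (.node 39237 argWS_3474 argWS_3481)

def argWS_3483 : Store := (.node 39147 argWS_3467 argWS_3482)

def argWS_3484 : Store := (.node 39339 (.node 39333 (.node 39330 (.node 39329 (.leaf 0x0) (.leaf 0xe0a0a0003)) (.node 39331 (.leaf 0x0) (.node 39332 (.leaf 0x9000300000202000701000a) (.leaf 0x0)))) (.node 39336 (.node 39334 (.leaf 0xb0a0002) (.node 39335 (.leaf 0xd0b0b0003) (.leaf 0x103010904020006))) (.node 39337 (.leaf 0x0) (.node 39338 (.leaf 0xa0f0b0b0004) (.leaf 0x0))))) (.node 39344 (.node 39341 (.node 39340 (.leaf 0xe0d0002) (.leaf 0x99ab0099aa)) (.node 39342 (.leaf 0x1030107000902000701000a) (.node 39343 (.leaf 0x0) (.leaf 0xf0b0b0003)))) (.node 39347 (.node 39345 (.leaf 0x0) (.node 39346 (.leaf 0xf0001) (.leaf 0x0))) (.node 39348 (.leaf 0x0) (.node 39349 (.leaf 0xf0b0b0a0a0005) (.leaf 0x40304070209020802040105000c))))))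

def argWS_3485 : Store := (.node 39361 (.node 39355 (.node 39352 (.node 39351 (.leaf 0x0) (.leaf 0x0)) (.node 39353 (.leaf 0x99b7007d83) (.node 39354 (.leaf 0xd0b0b0003) (.leaf 0x0)))) (.node 39358 (.node 39356 (.leaf 0xe0d0002) (.node 39357 (.leaf 0x0) (.leaf 0x0))) (.node 39359 (.leaf 0xb0f0002) (.node 39360 (.leaf 0x0) (.leaf 0x200090806000202000701000c))))) (.node 39367 (.node 39364 (.node 39362 (.leaf 0x0) (.node 39363 (.leaf 0xa0f0b0b0004) (.leaf 0x0))) (.node 39365 (.leaf 0x99c3) (.node 39366 (.leaf 0x4000309080600000703040103000d) (.leaf 0x0)))) (.node 39370 (.node 39368 (.leaf 0xa0f0b0003) (.node 39369 (.leaf 0x0) (.leaf 0xd0001))) (.node 39371 (.leaf 0x0) (.node 39372 (.leaf 0x0) (.leaf 0xf0001))))))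

def argWS_3486 : Store := (.node 39350 argWS_3484 argWS_3485)

def argWS_3487 : Store := (.node 39384 (.node 39378 (.node 39375 (.node 39374 (.leaf 0xb0a0f0003) (.leaf 0xa0a0002)) (.node 39376 (.leaf 0x99ce0099cd) (.node 39377 (.leaf 0x409010608020401050009) (.leaf 0x0)))) (.node 39381 (.node 39379 (.leaf 0xb0f0002) (.node 39380 (.leaf 0x0) (.leaf 0x0))) (.node 39382 (.leaf 0xf0b0a0003) (.node 39383 (.leaf 0xf0b0b0a0a0005) (.leaf 0x207000408010802040105000b))))) (.node 39389 (.node 39386 (.node 39385 (.leaf 0x0) (.leaf 0xd0b0002)) (.node 39387 (.leaf 0x0) (.node 39388 (.leaf 0xf0a0a0003) (.leaf 0x99db0099da)))) (.node 39392 (.node 39390 (.leaf 0x6040002000003010802040105000d) (.node 39391 (.leaf 0x0) (.leaf 0xb0b0002))) (.node 39393 (.leaf 0x0) (.node 39394 (.leaf 0x6040908050202000701000a) (.leaf 0x0))))))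

def argWS_3488 : Store := (.node 39406 (.node 39400 (.node 39397 (.node 39396 (.leaf 0xb0f0a0003) (.leaf 0x9030908050005)) (.node 39398 (.leaf 0x0) (.node 39399 (.leaf 0xf0b0b0003) (.leaf 0x0)))) (.node 39403 (.node 39401 (.leaf 0xb0a0f0003) (.node 39402 (.leaf 0x70403010102000007) (.leaf 0x0))) (.node 39404 (.leaf 0xf0001) (.node 39405 (.leaf 0x0) (.leaf 0x99ec0099e8))))) (.node 39412 (.node 39409 (.node 39407 (.leaf 0xf0a0002) (.node 39408 (.leaf 0x0) (.leaf 0xf0b0b0003))) (.node 39410 (.leaf 0x0) (.node 39411 (.leaf 0x0) (.leaf 0xd0001)))) (.node 39415 (.node 39413 (.leaf 0x903000408010006) (.node 39414 (.leaf 0x0) (.leaf 0xf0b0a0003))) (.node 39416 (.leaf 0x0) (.node 39417 (.leaf 0xa0a0002) (.leaf 0x99f80099f7))))))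

def argWS_3489 : Store := (.node 39395 argWS_3487 argWS_3488)

def argWS_3490 : Store := (.node 39373 argWS_3486 argWS_3489)

def argWS_3491 : Store := (.node 39429 (.node 39423 (.node 39420 (.node 39419 (.leaf 0x702000408010802040105000b) (.leaf 0x0)) (.node 39421 (.leaf 0xb0a0f0003) (.node 39422 (.leaf 0x0) (.leaf 0x0)))) (.node 39426 (.node 39424 (.leaf 0x5010703060802040105000a) (.node 39425 (.leaf 0x2050003030604000703040103000d) (.leaf 0x0))) (.node 39427 (.leaf 0x0) (.node 39428 (.leaf 0x20700090206020802040105000c) (.leaf 0x0))))) (.node 39434 (.node 39431 (.node 39430 (.leaf 0xe0a0002) (.leaf 0x0)) (.node 39432 (.leaf 0xb0001) (.node 39433 (.leaf 0x9a07009a06) (.leaf 0xa0001)))) (.node 39437 (.node 39435 (.leaf 0x0) (.node 39436 (.leaf 0xd0b0b0003) (.leaf 0x0))) (.node 39438 (.leaf 0x0) (.node 39439 (.leaf 0x1030007020600000703040103000d) (.leaf 0xb0b0002))))))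

def argWS_3492 : Store := (.node 39451 (.node 39445 (.node 39442 (.node 39441 (.leaf 0x8060008020401050008) (.leaf 0x0)) (.node 39443 (.leaf 0xf0b0b0a0004) (.node 39444 (.leaf 0x0) (.leaf 0x9a13)))) (.node 39448 (.node 39446 (.leaf 0xb0b0a0a0004) (.node 39447 (.leaf 0x0) (.leaf 0xd0b0b0003))) (.node 39449 (.leaf 0x0) (.node 39450 (.leaf 0x0) (.leaf 0xa0f0b0003))))) (.node 39457 (.node 39454 (.node 39452 (.leaf 0x0) (.node 39453 (.leaf 0xa0f0002) (.leaf 0x9a1c))) (.node 39455 (.leaf 0xf0b0b0a0004) (.node 39456 (.leaf 0x0) (.leaf 0x5020002010606000703040103000d)))) (.node 39460 (.node 39458 (.leaf 0x0) (.node 39459 (.leaf 0xf0b0b0003) (.leaf 0xa0f0b0003))) (.node 39461 (.leaf 0x40300030306040007) (.node 39462 (.leaf 0x0) (.leaf 0xb0b0a0003))))))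

def argWS_3493 : Store := (.node 39440 argWS_3491 argWS_3492)

def argWS_3494 : Store := (.node 39474 (.node 39468 (.node 39465 (.node 39464 (.leaf 0x0) (.leaf 0x9a27)) (.node 39466 (.leaf 0x801010601050002000703040103000e) (.node 39467 (.leaf 0x0) (.leaf 0xa0a0002)))) (.node 39471 (.node 39469 (.leaf 0x0) (.node 39470 (.leaf 0x60301070009030802040105000c) (.leaf 0x0))) (.node 39472 (.leaf 0xb0a0a0003) (.node 39473 (.leaf 0x900000408010007) (.leaf 0x0))))) (.node 39479 (.node 39476 (.node 39475 (.leaf 0xb0b0a0003) (.leaf 0x0)) (.node 39477 (.leaf 0x6000004080703040103000b) (.node 39478 (.leaf 0x0) (.leaf 0xf0a0002)))) (.node 39482 (.node 39480 (.leaf 0x0) (.node 39481 (.leaf 0x206020901060802040105000b) (.leaf 0x0))) (.node 39483 (.leaf 0xb0a0a0003) (.node 39484 (.leaf 0x0) (.leaf 0x9a3b009a37))))))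

def argWS_3495 : Store := (.node 39496 (.node 39490 (.node 39487 (.node 39486 (.leaf 0x90503090109000703040103000c) (.leaf 0x0)) (.node 39488 (.leaf 0xf0b0002) (.node 39489 (.leaf 0x0) (.leaf 0x50306020702010802040105000c)))) (.node 39493 (.node 39491 (.leaf 0x0) (.node 39492 (.leaf 0xf0001) (.leaf 0xa0f0002))) (.node 39494 (.leaf 0x8030000030306040008) (.node 39495 (.leaf 0x0) (.leaf 0xf0b0a0003))))) (.node 39502 (.node 39499 (.node 39497 (.leaf 0x0) (.node 39498 (.leaf 0x20202010802040105000a) (.leaf 0x0))) (.node 39500 (.leaf 0xb0a0a0003) (.node 39501 (.leaf 0x0) (.leaf 0x9a4c009a48)))) (.node 39505 (.node 39503 (.leaf 0xa0f0b0b0004) (.node 39504 (.leaf 0x0) (.leaf 0xb0a0002))) (.node 39506 (.leaf 0x0) (.node 39507 (.leaf 0x0) (.leaf 0x300020000030703040103000b))))))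

def argWS_3496 : Store := (.node 39485 argWS_3494 argWS_3495)

def argWS_3497 : Store := (.node 39463 argWS_3493 argWS_3496)

def argWS_3498 : Store := (.node 39418 argWS_3490 argWS_3497)

def argWS_3499 : Store := (.node 39519 (.node 39513 (.node 39510 (.node 39509 (.leaf 0x0) (.leaf 0xd0b0b0003)) (.node 39511 (.leaf 0x0) (.node 39512 (.leaf 0xb0f0002) (.leaf 0x2000300000202000701000a)))) (.node 39516 (.node 39514 (.leaf 0x0) (.node 39515 (.leaf 0xb0f0002) (.leaf 0x0))) (.node 39517 (.leaf 0x9a5b009a57) (.node 39518 (.leaf 0xb0001) (.leaf 0x0))))) (.node 39524 (.node 39521 (.node 39520 (.leaf 0xa0f0002) (.leaf 0x0)) (.node 39522 (.leaf 0x0) (.node 39523 (.leaf 0x4030000000300000802040105000d) (.leaf 0x0)))) (.node 39527 (.node 39525 (.leaf 0xa0f0002) (.node 39526 (.leaf 0x0) (.leaf 0xf0b0a0a0004))) (.node 39528 (.leaf 0x9a66) (.node 39529 (.leaf 0x906050206040006) (.leaf 0x0))))))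

def argWS_3500 : Store := (.node 39541 (.node 39535 (.node 39532 (.node 39531 (.leaf 0xf0b0b0003) (.leaf 0x0)) (.node 39533 (.leaf 0xb0b0a0003) (.node 39534 (.leaf 0x0) (.leaf 0x0)))) (.node 39538 (.node 39536 (.leaf 0xe0001) (.node 39537 (.leaf 0xd0b0b0003) (.leaf 0x9a70))) (.node 39539 (.leaf 0x204020804000802040105000b) (.node 39540 (.leaf 0x0) (.leaf 0xf0b0a0a0004))))) (.node 39547 (.node 39544 (.node 39542 (.leaf 0x0) (.node 39543 (.leaf 0xf0b0a0003) (.leaf 0x0))) (.node 39545 (.leaf 0x0) (.node 39546 (.leaf 0xd0b0b0003) (.leaf 0x700000401050006)))) (.node 39550 (.node 39548 (.leaf 0x0) (.node 39549 (.leaf 0xb0001) (.leaf 0x0))) (.node 39551 (.leaf 0x9a7d009914) (.node 39552 (.leaf 0x10700090206020202000701000c) (.leaf 0x0))))))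

def argWS_3501 : Store := (.node 39530 argWS_3499 argWS_3500)

def argWS_3502 : Store := (.node 39564 (.node 39558 (.node 39555 (.node 39554 (.leaf 0xb0001) (.leaf 0x0)) (.node 39556 (.leaf 0xf0b0b0003) (.node 39557 (.leaf 0x0) (.leaf 0x0)))) (.node 39561 (.node 39559 (.leaf 0xf0b0002) (.node 39560 (.leaf 0xb0b0002) (.leaf 0x9a87))) (.node 39562 (.leaf 0x3040101070306000703040103000d) (.node 39563 (.leaf 0x0) (.leaf 0xb0001))))) (.node 39569 (.node 39566 (.node 39565 (.leaf 0x0) (.leaf 0x10902090000000703040103000c)) (.node 39567 (.leaf 0x0) (.node 39568 (.leaf 0xb0b0a0a0004) (.leaf 0x508020401050007)))) (.node 39572 (.node 39570 (.leaf 0x0) (.node 39571 (.leaf 0xd0b0002) (.leaf 0x0))) (.node 39573 (.leaf 0xb0a0a0003) (.node 39574 (.leaf 0xf0001) (.leaf 0x9a95009a94))))))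

def argWS_3503 : Store := (.node 39586 (.node 39580 (.node 39577 (.node 39576 (.leaf 0xf0b0b0a0004) (.leaf 0x0)) (.node 39578 (.leaf 0xb0a0f0003) (.node 39579 (.leaf 0x0) (.leaf 0x0)))) (.node 39583 (.node 39581 (.leaf 0xf0001) (.node 39582 (.leaf 0x403040000030000000703040103000e) (.leaf 0x0))) (.node 39584 (.leaf 0xb0f0002) (.node 39585 (.leaf 0x0) (.leaf 0x300090206020802040105000b))))) (.node 39592 (.node 39589 (.node 39587 (.leaf 0x0) (.node 39588 (.leaf 0xe0d0002) (.leaf 0x0))) (.node 39590 (.leaf 0x9aa4009aa0) (.node 39591 (.leaf 0xa0001) (.leaf 0x0)))) (.node 39595 (.node 39593 (.leaf 0xf0b0002) (.node 39594 (.leaf 0x0) (.leaf 0x0))) (.node 39596 (.leaf 0xa0f0b0b0004) (.node 39597 (.leaf 0xf0b0b0a0004) (.leaf 0xf0b0a0003))))))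

def argWS_3504 : Store := (.node 39575 argWS_3502 argWS_3503)

def argWS_3505 : Store := (.node 39553 argWS_3501 argWS_3504)

def argWS_3506 : Store := (.node 39609 (.node 39603 (.node 39600 (.node 39599 (.leaf 0x209010904020802040105000b) (.leaf 0x0)) (.node 39601 (.leaf 0xf0b0b0a0a0005) (.node 39602 (.leaf 0x0) (.leaf 0x9ab1009aad)))) (.node 39606 (.node 39604 (.leaf 0xb0a0f0003) (.node 39605 (.leaf 0x0) (.leaf 0xf0b0a0a0004))) (.node 39607 (.leaf 0x0) (.node 39608 (.leaf 0x0) (.leaf 0x103090806000802040105000b))))) (.node 39614 (.node 39611 (.node 39610 (.leaf 0x0) (.leaf 0xf0a0a0003)) (.node 39612 (.leaf 0x0) (.node 39613 (.leaf 0x907050206040006) (.leaf 0x0)))) (.node 39617 (.node 39615 (.leaf 0xf0b0b0a0a0005) (.node 39616 (.leaf 0x0) (.leaf 0x9abf))) (.node 39618 (.leaf 0xf0b0b0003) (.node 39619 (.leaf 0x0) (.leaf 0xb0001))))))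

def argWS_3507 : Store := (.node 39631 (.node 39625 (.node 39622 (.node 39621 (.leaf 0x0) (.leaf 0x0)) (.node 39623 (.leaf 0xb0f0002) (.node 39624 (.leaf 0x3040301070306000703040103000d) (.leaf 0x0)))) (.node 39628 (.node 39626 (.leaf 0xd0b0002) (.node 39627 (.leaf 0x0) (.leaf 0xf0b0b0a0004))) (.node 39629 (.leaf 0x9acb009aca) (.node 39630 (.leaf 0x107000308000703040103000b) (.leaf 0x0))))) (.node 39637 (.node 39634 (.node 39632 (.leaf 0xf0b0a0003) (.node 39633 (.leaf 0x0) (.leaf 0xb0f0a0a0004))) (.node 39635 (.leaf 0x0) (.node 39636 (.leaf 0x0) (.leaf 0xd0001)))) (.node 39640 (.node 39638 (.leaf 0x0) (.node 39639 (.leaf 0xe0a0a0003) (.leaf 0x9ad6))) (.node 39641 (.leaf 0x50201090806000802040105000c) (.node 39642 (.leaf 0x0) (.leaf 0xf0b0a0a0004))))))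

def argWS_3508 : Store := (.node 39620 argWS_3506 argWS_3507)

def argWS_3509 : Store := (.node 39654 (.node 39648 (.node 39645 (.node 39644 (.leaf 0x0) (.leaf 0x20502050206040202000701000c)) (.node 39646 (.leaf 0x0) (.node 39647 (.leaf 0xf0b0b0a0004) (.leaf 0x700000901090802040105000b)))) (.node 39651 (.node 39649 (.leaf 0x0) (.node 39650 (.leaf 0xb0b0a0003) (.leaf 0x0))) (.node 39652 (.leaf 0xa0f0b0b0004) (.node 39653 (.leaf 0xf0a0002) (.leaf 0x0))))) (.node 39660 (.node 39657 (.node 39655 (.leaf 0x9ae5009ae3) (.node 39656 (.leaf 0xf0b0b0a0a0005) (.leaf 0x0))) (.node 39658 (.leaf 0xf0a0a0003) (.node 39659 (.leaf 0x0) (.leaf 0xa0f0002)))) (.node 39663 (.node 39661 (.leaf 0x702090208020401050009) (.node 39662 (.leaf 0x0) (.leaf 0xa0f0b0b0004))) (.node 39664 (.leaf 0x0) (.node 39665 (.leaf 0x9aef) (.leaf 0x1010207030005))))))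

def argWS_3510 : Store := (.node 39677 (.node 39671 (.node 39668 (.node 39667 (.leaf 0x0) (.leaf 0xf0b0b0a0004)) (.node 39669 (.leaf 0x0) (.node 39670 (.leaf 0x107000308000703040103000b) (.leaf 0x0)))) (.node 39674 (.node 39672 (.leaf 0xf0b0b0003) (.node 39673 (.leaf 0xf0b0a0003) (.leaf 0xd0b0b0003))) (.node 39675 (.leaf 0xb0b0002) (.node 39676 (.leaf 0x9afa009af9) (.leaf 0xf0b0a0003))))) (.node 39683 (.node 39680 (.node 39678 (.leaf 0x0) (.node 39679 (.leaf 0xb0f0a0a0004) (.leaf 0x0))) (.node 39681 (.leaf 0x0) (.node 39682 (.leaf 0xf0b0a0003) (.leaf 0xb0f0a0a0004)))) (.node 39686 (.node 39684 (.leaf 0x600090402000703040103000b) (.node 39685 (.leaf 0x0) (.leaf 0xb0a0002))) (.node 39687 (.leaf 0x0) (.node 39688 (.leaf 0x9b06009b02) (.leaf 0x902090208020401050009))))))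

def argWS_3511 : Store := (.node 39666 argWS_3509 argWS_3510)

def argWS_3512 : Store := (.node 39643 argWS_3508 argWS_3511)

def argWS_3513 : Store := (.node 39598 argWS_3505 argWS_3512)

def argWS_3514 : Store := (.node 39508 argWS_3498 argWS_3513)

def argWS_3515 : Store := (.node 39328 argWS_3483 argWS_3514)

def argWS_3516 : Store := (.node 39700 (.node 39694 (.node 39691 (.node 39690 (.leaf 0x0) (.leaf 0xf0b0b0a0004)) (.node 39692 (.leaf 0x0) (.node 39693 (.leaf 0x20901090000090802040105000c) (.leaf 0x0)))) (.node 39697 (.node 39695 (.leaf 0xf0b0b0a0004) (.node 39696 (.leaf 0xa0f0b0003) (.leaf 0x6010900090202000701000a))) (.node 39698 (.leaf 0x0) (.node 39699 (.leaf 0xd0b0002) (.leaf 0x0))))) (.node 39705 (.node 39702 (.node 39701 (.leaf 0xf0a0a0003) (.leaf 0x9b14009b13)) (.node 39703 (.leaf 0x4030403080202000701000a) (.node 39704 (.leaf 0x0) (.leaf 0xb0a0002)))) (.node 39708 (.node 39706 (.leaf 0x0) (.node 39707 (.leaf 0x6010208020401050008) (.leaf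 0x0))) (.node 39709 (.leaf 0xe0001) (.node 39710 (.leaf 0x2060900090005) (.leaf 0x0))))))

def argWS_3517 : Store := (.node 39722 (.node 39716 (.node 39713 (.node 39712 (.leaf 0xb0001) (.leaf 0x0)) (.node 39714 (.leaf 0xf0b0b0a0004) (.node 39715 (.leaf 0x9b21) (.leaf 0x60401010703060202000701000c)))) (.node 39719 (.node 39717 (.leaf 0x0) (.node 39718 (.leaf 0xb0001) (.leaf 0x0))) (.node 39720 (.leaf 0x6020002090106000703040103000d) (.node 39721 (.leaf 0x0) (.leaf 0xb0f0a0a0004))))) (.node 39728 (.node 39725 (.node 39723 (.leaf 0xb0f0a0003) (.node 39724 (.leaf 0x2090306010500020202000701000d) (.leaf 0x0))) (.node 39726 (.leaf 0xa0001) (.node 39727 (.leaf 0x0) (.leaf 0x40002010606000703040103000c)))) (.node 39731 (.node 39729 (.leaf 0x0) (.node 39730 (.leaf 0xe0a0a0003) (.leaf 0x0))) (.node 39732 (.leaf 0x9b32009b2e) (.node 39733 (.leaf 0xf0001) (.leaf 0x0))))))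

def argWS_3518 : Store := (.node 39711 argWS_3516 argWS_3517)

def argWS_3519 : Store := (.node 39745 (.node 39739 (.node 39736 (.node 39735 (.leaf 0x50309000009000703040103000c) (.leaf 0x0)) (.node 39737 (.leaf 0xb0b0a0003) (.node 39738 (.leaf 0xf0b0002) (.leaf 0x2080400000703040103000d)))) (.node 39742 (.node 39740 (.leaf 0x0) (.node 39741 (.leaf 0xf0b0a0a0004) (.leaf 0x0))) (.node 39743 (.leaf 0x9b3d000bb3) (.node 39744 (.leaf 0xf0b0a0a0004) (.leaf 0x0))))) (.node 39750 (.node 39747 (.node 39746 (.leaf 0xf0001) (.leaf 0x0)) (.node 39748 (.leaf 0x0) (.node 39749 (.leaf 0x202000000030000000703040103000e) (.leaf 0x0)))) (.node 39753 (.node 39751 (.leaf 0xb0a0002) (.node 39752 (.leaf 0x0) (.leaf 0x109030901090202000701000b))) (.node 39754 (.leaf 0x0) (.node 39755 (.leaf 0xe0a0a0003) (.leaf 0x0))))))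

def argWS_3520 : Store := (.node 39767 (.node 39761 (.node 39758 (.node 39757 (.leaf 0x9b4b) (.leaf 0xd0b0002)) (.node 39759 (.leaf 0x0) (.node 39760 (.leaf 0x5020408010802040105000a) (.leaf 0x0)))) (.node 39764 (.node 39762 (.leaf 0xb0f0002) (.node 39763 (.leaf 0xa0f0b0b0004) (.leaf 0x800090806000006))) (.node 39765 (.leaf 0x0) (.node 39766 (.leaf 0xa0001) (.leaf 0x0))))) (.node 39773 (.node 39770 (.node 39768 (.leaf 0x70000000408010802040105000c) (.node 39769 (.leaf 0x0) (.leaf 0xb0b0a0003))) (.node 39771 (.leaf 0x0) (.node 39772 (.leaf 0x9b5a009b56) (.leaf 0x10502010703060007)))) (.node 39776 (.node 39774 (.leaf 0x0) (.node 39775 (.leaf 0xe0001) (.leaf 0x0))) (.node 39777 (.leaf 0x2020601050002000703040103000d) (.node 39778 (.leaf 0x0) (.leaf 0xf0b0a0003))))))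

def argWS_3521 : Store := (.node 39756 argWS_3519 argWS_3520)

def argWS_3522 : Store := (.node 39734 argWS_3518 argWS_3521)

def argWS_3523 : Store := (.node 39790 (.node 39784 (.node 39781 (.node 39780 (.leaf 0x8000402020900000008) (.leaf 0x0)) (.node 39782 (.leaf 0xb0b0a0003) (.node 39783 (.leaf 0x0) (.leaf 0x3040300020804000008)))) (.node 39787 (.node 39785 (.leaf 0x0) (.node 39786 (.leaf 0xa0f0002) (.leaf 0x0))) (.node 39788 (.leaf 0xf0b0b0003) (.node 39789 (.leaf 0x9b6b009b6a) (.leaf 0x1040006020702010802040105000d))))) (.node 39795 (.node 39792 (.node 39791 (.leaf 0x0) (.leaf 0x0)) (.node 39793 (.leaf 0x20005020202010202000701000d) (.node 39794 (.leaf 0x0) (.leaf 0xb0b0a0003)))) (.node 39798 (.node 39796 (.leaf 0x9050106060005) (.node 39797 (.leaf 0x0) (.leaf 0xa0f0b0b0004))) (.node 39799 (.leaf 0x0) (.node 39800 (.leaf 0x60201070009030007) (.leaf 0x0))))))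

def argWS_3524 : Store := (.node 39812 (.node 39806 (.node 39803 (.node 39802 (.leaf 0xa0f0b0b0004) (.leaf 0x0)) (.node 39804 (.leaf 0xb0a0a0003) (.node 39805 (.leaf 0x9b7b009b7a) (.leaf 0x200000901090006)))) (.node 39809 (.node 39807 (.leaf 0x0) (.node 39808 (.leaf 0xf0b0b0003) (.leaf 0x0))) (.node 39810 (.leaf 0xf0b0b0a0a0005) (.node 39811 (.leaf 0x0) (.leaf 0x0))))) (.node 39818 (.node 39815 (.node 39813 (.leaf 0xb0001) (.node 39814 (.leaf 0x60200070009030007) (.leaf 0x0))) (.node 39816 (.leaf 0xb0f0002) (.node 39817 (.leaf 0x0) (.leaf 0xf0b0a0003)))) (.node 39821 (.node 39819 (.leaf 0x9b89009b88) (.node 39820 (.leaf 0xf0a0002) (.leaf 0x0))) (.node 39822 (.leaf 0xb0001) (.node 39823 (.leaf 0x0) (.leaf 0x0))))))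

def argWS_3525 : Store := (.node 39801 argWS_3523 argWS_3524)

def argWS_3526 : Store := (.node 39835 (.node 39829 (.node 39826 (.node 39825 (.leaf 0xb0f0002) (.leaf 0x403070206000006)) (.node 39827 (.leaf 0x0) (.node 39828 (.leaf 0xb0a0f0003) (.leaf 0x0)))) (.node 39832 (.node 39830 (.leaf 0xb0001) (.node 39831 (.leaf 0x9b95009b94) (.leaf 0xb0b0a0a0004))) (.node 39833 (.leaf 0x0) (.node 39834 (.leaf 0xf0b0b0a0004) (.leaf 0x0))))) (.node 39840 (.node 39837 (.node 39836 (.leaf 0x0) (.leaf 0x70406030500040202000701000c)) (.node 39838 (.leaf 0x0) (.node 39839 (.leaf 0xf0b0b0003) (.leaf 0x0)))) (.node 39843 (.node 39841 (.leaf 0x1010703060802040105000a) (.node 39842 (.leaf 0x0) (.leaf 0xf0b0002))) (.node 39844 (.leaf 0x0) (.node 39845 (.leaf 0x9ba3009b9f) (.leaf 0xe0d0002))))))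

def argWS_3527 : Store := (.node 39857 (.node 39851 (.node 39848 (.node 39847 (.leaf 0x0) (.leaf 0xb0b0a0003)) (.node 39849 (.leaf 0x0) (.node 39850 (.leaf 0x0) (.leaf 0x10901090004)))) (.node 39854 (.node 39852 (.leaf 0x0) (.node 39853 (.leaf 0x0) (.leaf 0x305000408020401050009))) (.node 39855 (.leaf 0x0) (.node 39856 (.leaf 0xa0f0b0b0004) (.leaf 0x0))))) (.node 39863 (.node 39860 (.node 39858 (.leaf 0x9bb0) (.node 39859 (.leaf 0x1030006020702010802040105000d) (.leaf 0x0))) (.node 39861 (.leaf 0xb0a0a0003) (.node 39862 (.leaf 0x0) (.leaf 0xf0b0a0a0004)))) (.node 39866 (.node 39864 (.leaf 0x0) (.node 39865 (.leaf 0x0) (.leaf 0x50102010606000703040103000c))) (.node 39867 (.leaf 0x0) (.node 39868 (.leaf 0xa0f0b0003) (.leaf 0x0))))))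

def argWS_3528 : Store := (.node 39846 argWS_3526 argWS_3527)

def argWS_3529 : Store := (.node 39824 argWS_3525 argWS_3528)

def argWS_3530 : Store := (.node 39779 argWS_3522 argWS_3529)

def argWS_3531 : Store := (.node 39880 (.node 39874 (.node 39871 (.node 39870 (.leaf 0x10709000009000703040103000c) (.leaf 0x0)) (.node 39872 (.leaf 0xb0a0f0003) (.node 39873 (.leaf 0x0) (.leaf 0x9bc0)))) (.node 39877 (.node 39875 (.leaf 0x107000000030000000703040103000e) (.node 39876 (.leaf 0x0) (.leaf 0xf0a0002))) (.node 39878 (.leaf 0x0) (.node 39879 (.leaf 0xf0a0002) (.leaf 0x0))))) (.node 39885 (.node 39882 (.node 39881 (.leaf 0x0) (.leaf 0x20002010904020202000701000c)) (.node 39883 (.leaf 0x0) (.node 39884 (.leaf 0x0) (.leaf 0x104020106060006)))) (.node 39888 (.node 39886 (.leaf 0x0) (.node 39887 (.leaf 0xa0f0b0b0004) (.leaf 0x0))) (.node 39889 (.leaf 0x602000603050004000703040103000e) (.node 39890 (.leaf 0x0) (.leaf 0xa0a0002))))))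

def argWS_3532 : Store := (.node 39902 (.node 39896 (.node 39893 (.node 39892 (.leaf 0x0) (.leaf 0x9bd3009bcf)) (.node 39894 (.leaf 0xe0a0002) (.node 39895 (.leaf 0x0) (.leaf 0xb0f0a0a0004)))) (.node 39899 (.node 39897 (.leaf 0x0) (.node 39898 (.leaf 0x0) (.leaf 0x202000002080400000703040103000e))) (.node 39900 (.leaf 0x0) (.node 39901 (.leaf 0xa0f0002) (.leaf 0x0))))) (.node 39908 (.node 39905 (.node 39903 (.leaf 0x9bdd) (.node 39904 (.leaf 0x6000900090802040105000b) (.leaf 0x0))) (.node 39906 (.leaf 0xe0d0002) (.node 39907 (.leaf 0x0) (.leaf 0x801010206020007010009)))) (.node 39911 (.node 39909 (.leaf 0x0) (.node 39910 (.leaf 0xb0f0a0003) (.leaf 0xf0b0b0a0004))) (.node 39912 (.leaf 0xe0d0002) (.node 39913 (.leaf 0x9be7) (.leaf 0x60006030500040202000701000c))))))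

def argWS_3533 : Store := (.node 39891 argWS_3531 argWS_3532)

def argWS_3534 : Store := (.node 39925 (.node 39919 (.node 39916 (.node 39915 (.leaf 0x0) (.leaf 0xd0001)) (.node 39917 (.leaf 0x0) (.node 39918 (.leaf 0x20902020900000007) (.leaf 0x0)))) (.node 39922 (.node 39920 (.leaf 0xb0b0002) (.node 39921 (.leaf 0x7010102000003010802040105000d) (.leaf 0x0))) (.node 39923 (.leaf 0x0) (.node 39924 (.leaf 0x9bf2008d7e) (.leaf 0xa0001))))) (.node 39930 (.node 39927 (.node 39926 (.leaf 0x0) (.leaf 0xb0a0002)) (.node 39928 (.leaf 0x0) (.node 39929 (.leaf 0x2090208020401050008) (.leaf 0x0)))) (.node 39933 (.node 39931 (.leaf 0xa0f0b0003) (.node 39932 (.leaf 0x0) (.leaf 0x705090806000802040105000b))) (.node 39934 (.leaf 0x0) (.node 39935 (.leaf 0xb0a0a0003) (.leaf 0x0))))))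

def argWS_3535 : Store := (.node 39947 (.node 39941 (.node 39938 (.node 39937 (.leaf 0x1020200000300000802040105000d) (.leaf 0x0)) (.node 39939 (.leaf 0xe0a0a0003) (.node 39940 (.leaf 0x0) (.leaf 0x9c03009bff)))) (.node 39944 (.node 39942 (.leaf 0xf0001) (.node 39943 (.leaf 0x0) (.leaf 0x1030901090005))) (.node 39945 (.leaf 0x0) (.node 39946 (.leaf 0xb0a0a0003) (.leaf 0x40106060004))))) (.node 39953 (.node 39950 (.node 39948 (.leaf 0x0) (.node 39949 (.leaf 0xd0b0b0003) (.leaf 0x0))) (.node 39951 (.leaf 0xa0f0b0b0004) (.node 39952 (.leaf 0x30401090000090802040105000c) (.leaf 0x0)))) (.node 39956 (.node 39954 (.leaf 0x0) (.node 39955 (.leaf 0x9c11009c0e) (.leaf 0xb0f0002))) (.node 39957 (.leaf 0x0) (.node 39958 (.leaf 0x60000090206020008) (.leaf 0x0))))))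

def argWS_3536 : Store := (.node 39936 argWS_3534 argWS_3535)

def argWS_3537 : Store := (.node 39914 argWS_3533 argWS_3536)

def argWS_3538 : Store := (.node 39970 (.node 39964 (.node 39961 (.node 39960 (.leaf 0xf0b0a0a0004) (.leaf 0xe0d0002)) (.node 39962 (.leaf 0x605010904020006) (.node 39963 (.leaf 0x0) (.leaf 0xb0f0a0a0004)))) (.node 39967 (.node 39965 (.leaf 0x0) (.node 39966 (.leaf 0x80200020901060007) (.leaf 0x0))) (.node 39968 (.leaf 0xa0f0b0b0004) (.node 39969 (.leaf 0x0) (.leaf 0x9c20009c1c))))) (.node 39975 (.node 39972 (.node 39971 (.leaf 0xd0001) (.leaf 0x0)) (.node 39973 (.leaf 0xb0b0002) (.node 39974 (.leaf 0x0) (.leaf 0x0)))) (.node 39978 (.node 39976 (.leaf 0x6060207020703040103000b) (.node 39977 (.leaf 0x0) (.leaf 0xd0001))) (.node 39979 (.leaf 0x0) (.node 39980 (.leaf 0x4000206040202000701000a) (.leaf 0x0))))))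

def argWS_3539 : Store := (.node 39992 (.node 39986 (.node 39983 (.node 39982 (.leaf 0xd0001) (.leaf 0x0)) (.node 39984 (.leaf 0x6040002) (.node 39985 (.leaf 0x0) (.leaf 0x9c30)))) (.node 39989 (.node 39987 (.leaf 0x601020106030500040202000701000e) (.node 39988 (.leaf 0x0) (.leaf 0xb0b0002))) (.node 39990 (.leaf 0x0) (.node 39991 (.leaf 0xe0a0002) (.leaf 0x0))))) (.node 39998 (.node 39995 (.node 39993 (.leaf 0x0) (.node 39994 (.leaf 0x907090000090202000701000b) (.leaf 0x0))) (.node 39996 (.leaf 0xb0f0a0003) (.node 39997 (.leaf 0x0) (.leaf 0x304030802020007010009)))) (.node 40001 (.node 39999 (.leaf 0x0) (.node 40000 (.leaf 0xe0a0a0003) (.leaf 0x0))) (.node 40002 (.leaf 0x9c40) (.node 40003 (.leaf 0xf0001) (.leaf 0x0))))))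

def argWS_3540 : Store := (.node 39981 argWS_3538 argWS_3539)

def argWS_3541 : Store := (.node 40015 (.node 40009 (.node 40006 (.node 40005 (.leaf 0x20906020702010007) (.leaf 0x0)) (.node 40007 (.leaf 0xa0001) (.node 40008 (.leaf 0x507020007010006) (.leaf 0x0)))) (.node 40012 (.node 40010 (.leaf 0xf0b0b0a0004) (.node 40011 (.leaf 0x0) (.leaf 0x6020007000902000701000a))) (.node 40013 (.leaf 0x0) (.node 40014 (.leaf 0xb0b0a0003) (.leaf 0x0))))) (.node 40021 (.node 40018 (.node 40016 (.leaf 0x9c4e) (.node 40017 (.leaf 0xd0001) (.leaf 0x0))) (.node 40019 (.leaf 0xa0f0b0b0004) (.node 40020 (.leaf 0x0) (.leaf 0x0)))) (.node 40024 (.node 40022 (.leaf 0x30500020804000007) (.node 40023 (.leaf 0x0) (.leaf 0xe0a0002))) (.node 40025 (.leaf 0x0) (.node 40026 (.leaf 0x2010207030005) (.leaf 0x0))))))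

def argWS_3542 : Store := (.node 40038 (.node 40032 (.node 40029 (.node 40028 (.leaf 0x0) (.leaf 0xa0a0002)) (.node 40030 (.leaf 0x9c5c009c5b) (.node 40031 (.leaf 0xf0b0a0003) (.leaf 0x0)))) (.node 40035 (.node 40033 (.leaf 0x908020401050006) (.node 40034 (.leaf 0x0) (.leaf 0xf0b0002))) (.node 40036 (.leaf 0x70003010102000802040105000c) (.node 40037 (.leaf 0x0) (.leaf 0xf0b0a0003))))) (.node 40044 (.node 40041 (.node 40039 (.leaf 0x0) (.node 40040 (.leaf 0xd0b0002) (.leaf 0x2010300000300000008))) (.node 40042 (.leaf 0x0) (.node 40043 (.leaf 0xf0a0002) (.leaf 0x0)))) (.node 40047 (.node 40045 (.leaf 0x9c6b009c67) (.node 40046 (.leaf 0xa0001) (.leaf 0x0))) (.node 40048 (.leaf 0xe0a0002) (.node 40049 (.leaf 0x0) (.leaf 0x0))))))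

def argWS_3543 : Store := (.node 40027 argWS_3541 argWS_3542)

def argWS_3544 : Store := (.node 40004 argWS_3540 argWS_3543)

def argWS_3545 : Store := (.node 39959 argWS_3537 argWS_3544)

def argWS_3546 : Store := (.node 39869 argWS_3530 argWS_3545)

def argWS_3547 : Store := (.node 40061 (.node 40055 (.node 40052 (.node 40051 (.leaf 0x2040106060005) (.leaf 0x0)) (.node 40053 (.leaf 0xb0a0a0003) (.node 40054 (.leaf 0x0) (.leaf 0x70505020604000703040103000c)))) (.node 40058 (.node 40056 (.leaf 0x0) (.node 40057 (.leaf 0xf0b0b0a0a0005) (.leaf 0x0))) (.node 40059 (.leaf 0x9c79) (.node 40060 (.leaf 0x7040807030401030008) (.leaf 0x0))))) (.node 40066 (.node 40063 (.node 40062 (.leaf 0xb0a0002) (.leaf 0x0)) (.node 40064 (.leaf 0xa0001) (.node 40065 (.leaf 0x0) (.leaf 0x9030002080400000703040103000d)))) (.node 40069 (.node 40067 (.leaf 0x0) (.node 40068 (.leaf 0xe0d0002) (.leaf 0x0))) (.node 40070 (.leaf 0xa0001) (.node 40071 (.leaf 0x9c8500749f) (.leaf 0xf0a0a0003))))))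

def argWS_3548 : Store := (.node 40083 (.node 40077 (.node 40074 (.node 40073 (.leaf 0x0) (.leaf 0xa0f0b0003)) (.node 40075 (.leaf 0x0) (.node 40076 (.leaf 0x0) (.leaf 0x20202010802040105000a)))) (.node 40080 (.node 40078 (.leaf 0x0) (.node 40079 (.leaf 0x0) (.leaf 0x209020003))) (.node 40081 (.leaf 0x0) (.node 40082 (.leaf 0xa0f0002) (.leaf 0x0))))) (.node 40089 (.node 40086 (.node 40084 (.leaf 0x9c92009c8e) (.node 40085 (.leaf 0x7030502090106000703040103000d) (.leaf 0x0))) (.node 40087 (.leaf 0xa0f0b0b0004) (.node 40088 (.leaf 0x0) (.leaf 0xf0b0b0a0a0005)))) (.node 40092 (.node 40090 (.leaf 0x0) (.node 40091 (.leaf 0x0) (.leaf 0x207050206040202000701000b))) (.node 40093 (.leaf 0x0) (.node 40094 (.leaf 0xd0b0002) (.leaf 0x0))))))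

def argWS_3549 : Store := (.node 40072 argWS_3547 argWS_3548)

def argWS_3550 : Store := (.node 40106 (.node 40100 (.node 40097 (.node 40096 (.leaf 0x6010900090005) (.leaf 0x0)) (.node 40098 (.leaf 0xf0b0a0a0004) (.node 40099 (.leaf 0x0) (.leaf 0x9ca2)))) (.node 40103 (.node 40101 (.leaf 0xb0001) (.node 40102 (.leaf 0x0) (.leaf 0x10202050206040802040105000c))) (.node 40104 (.leaf 0x0) (.node 40105 (.leaf 0xf0b0b0a0a0005) (.leaf 0xf0a0002))))) (.node 40111 (.node 40108 (.node 40107 (.leaf 0xb0001) (.leaf 0xb0b0a0a0004)) (.node 40109 (.leaf 0x9cab009caa) (.node 40110 (.leaf 0xf0b0b0a0004) (.leaf 0x0)))) (.node 40114 (.node 40112 (.leaf 0x0) (.node 40113 (.leaf 0xb0b0002) (.leaf 0xe0001))) (.node 40115 (.leaf 0x602010703060202000701000b) (.node 40116 (.leaf 0x0) (.leaf 0xf0a0a0003))))))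

def argWS_3551 : Store := (.node 40128 (.node 40122 (.node 40119 (.node 40118 (.leaf 0x0) (.leaf 0xd0b0b0003)) (.node 40120 (.leaf 0x9cb6009cb5) (.node 40121 (.leaf 0xf0001) (.leaf 0x0)))) (.node 40125 (.node 40123 (.leaf 0xf0b0002) (.node 40124 (.leaf 0x0) (.leaf 0x0))) (.node 40126 (.leaf 0xb0a0f0003) (.node 40127 (.leaf 0xe0a0002) (.leaf 0x6556009cbe))))) (.node 40134 (.node 40131 (.node 40129 (.leaf 0xb0a0a0003) (.node 40130 (.leaf 0x0) (.leaf 0x50200020901060802040105000c))) (.node 40132 (.leaf 0x0) (.node 40133 (.leaf 0xf0b0b0a0a0005) (.leaf 0xf0b0b0003)))) (.node 40137 (.node 40135 (.leaf 0xb0a0002) (.node 40136 (.leaf 0x98c3009cc6) (.leaf 0xf0b0002))) (.node 40138 (.leaf 0x0) (.node 40139 (.leaf 0x60301090806000007) (.leaf 0x0))))))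

def argWS_3552 : Store := (.node 40117 argWS_3550 argWS_3551)

def argWS_3553 : Store := (.node 40095 argWS_3549 argWS_3552)

def argWS_3554 : Store := (.node 40151 (.node 40145 (.node 40142 (.node 40141 (.leaf 0xf0b0002) (.leaf 0xf0b0002)) (.node 40143 (.leaf 0xb0a0a0003) (.node 40144 (.leaf 0x60401090806000202000701000c) (.leaf 0x0)))) (.node 40148 (.node 40146 (.leaf 0xa0f0b0b0004) (.node 40147 (.leaf 0x0) (.leaf 0x9cd2009cce))) (.node 40149 (.leaf 0x202000003010802040105000b) (.node 40150 (.leaf 0x0) (.leaf 0xf0b0a0003))))) (.node 40156 (.node 40153 (.node 40152 (.leaf 0x0) (.leaf 0xb0a0002)) (.node 40154 (.leaf 0x0) (.node 40155 (.leaf 0x0) (.leaf 0x6020603000703040103000b)))) (.node 40159 (.node 40157 (.leaf 0x0) (.node 40158 (.leaf 0x0) (.leaf 0x9cdd))) (.node 40160 (.leaf 0xa0f0b0b0004) (.node 40161 (.leaf 0x0) (.leaf 0x0))))))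

def argWS_3555 : Store := (.node 40173 (.node 40167 (.node 40164 (.node 40163 (.leaf 0xe0001) (.leaf 0xa0a0002)) (.node 40165 (.leaf 0x6f1e009ce3) (.node 40166 (.leaf 0xa0a0002) (.leaf 0x0)))) (.node 40170 (.node 40168 (.leaf 0xa0a0002) (.node 40169 (.leaf 0x0) (.leaf 0x0))) (.node 40171 (.leaf 0xf0b0002) (.node 40172 (.leaf 0xe0d0002) (.leaf 0x9ceb))))) (.node 40179 (.node 40176 (.node 40174 (.leaf 0x60000030306040007) (.node 40175 (.leaf 0x0) (.leaf 0xb0a0002))) (.node 40177 (.leaf 0x0) (.node 40178 (.leaf 0x90403010102000007) (.leaf 0x0)))) (.node 40182 (.node 40180 (.leaf 0xb0001) (.node 40181 (.leaf 0xb0b0002) (.leaf 0x2000901090202000701000b))) (.node 40183 (.leaf 0x0) (.node 40184 (.leaf 0xd0b0b0003) (.leaf 0x0))))))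

def argWS_3556 : Store := (.node 40162 argWS_3554 argWS_3555)

def argWS_3557 : Store := (.node 40196 (.node 40190 (.node 40187 (.node 40186 (.leaf 0x9cf8) (.leaf 0xb0a0f0003)) (.node 40188 (.leaf 0x0) (.node 40189 (.leaf 0x7070306000703040103000a) (.leaf 0x0)))) (.node 40193 (.node 40191 (.leaf 0xb0b0a0003) (.node 40192 (.leaf 0x0) (.leaf 0x0))) (.node 40194 (.leaf 0xd0001) (.node 40195 (.leaf 0xb0f0002) (.leaf 0x9d02))))) (.node 40201 (.node 40198 (.node 40197 (.leaf 0x0) (.leaf 0xf0a0a0003)) (.node 40199 (.leaf 0x0) (.node 40200 (.leaf 0xf0b0b0a0a0005) (.leaf 0xf0b0a0003)))) (.node 40204 (.node 40202 (.leaf 0x7010401050005) (.node 40203 (.leaf 0x0) (.leaf 0xb0f0002))) (.node 40205 (.leaf 0x0) (.node 40206 (.leaf 0x9d0c) (.leaf 0xb0b0a0a0004))))))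

def argWS_3558 : Store := (.node 40218 (.node 40212 (.node 40209 (.node 40208 (.leaf 0x0) (.leaf 0x0)) (.node 40210 (.leaf 0x0) (.node 40211 (.leaf 0x803000207020007010009) (.leaf 0x0)))) (.node 40215 (.node 40213 (.leaf 0x0) (.node 40214 (.leaf 0xb0b0002) (.leaf 0x0))) (.node 40216 (.leaf 0x600070306000703040103000b) (.node 40217 (.leaf 0x0) (.leaf 0x0))))) (.node 40224 (.node 40221 (.node 40219 (.leaf 0xd0b0b0003) (.node 40220 (.leaf 0x0) (.leaf 0x0))) (.node 40222 (.leaf 0x0) (.node 40223 (.leaf 0x0) (.leaf 0x0)))) (.node 40227 (.node 40225 (.leaf 0x0) (.node 40226 (.leaf 0x0) (.leaf 0x0))) (.node 40228 (.leaf 0x0) (.node 40229 (.leaf 0x0) (.leaf 0x0))))))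

def argWS_3559 : Store := (.node 40207 argWS_3557 argWS_3558)

def argWS_3560 : Store := (.node 40185 argWS_3556 argWS_3559)

def argWS_3561 : Store := (.node 40140 argWS_3553 argWS_3560)

def argWS_3562 : Store := (.node 40241 (.node 40235 (.node 40232 (.node 40231 (.leaf 0x0) (.leaf 0x0)) (.node 40233 (.leaf 0x0) (.node 40234 (.leaf 0x0) (.leaf 0x0)))) (.node 40238 (.node 40236 (.leaf 0x0) (.node 40237 (.leaf 0x0) (.leaf 0x0))) (.node 40239 (.leaf 0x0) (.node 40240 (.leaf 0x0) (.leaf 0x0))))) (.node 40246 (.node 40243 (.node 40242 (.leaf 0x0) (.leaf 0x0)) (.node 40244 (.leaf 0x0) (.node 40245 (.leaf 0x0) (.leaf 0x0)))) (.node 40249 (.node 40247 (.leaf 0xf0a0a0003) (.node 40248 (.leaf 0x20908050802040105000a) (.leaf 0xf0b0a0003))) (.node 40250 (.leaf 0x50306020702010802040105000d) (.node 40251 (.leaf 0x0) (.leaf 0xf0b0b0003))))))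

def argWS_3563 : Store := (.node 40263 (.node 40257 (.node 40254 (.node 40253 (.leaf 0x0) (.leaf 0x90104090000090802040105000c)) (.node 40255 (.leaf 0x0) (.node 40256 (.leaf 0xd0001) (.leaf 0x0)))) (.node 40260 (.node 40258 (.leaf 0x200050007030401030009) (.node 40259 (.leaf 0x0) (.leaf 0xd0b0002))) (.node 40261 (.leaf 0x0) (.node 40262 (.leaf 0x9d44009d40) (.leaf 0x30401020901060007))))) (.node 40269 (.node 40266 (.node 40264 (.leaf 0x0) (.node 40265 (.leaf 0xf0b0b0a0004) (.leaf 0x0))) (.node 40267 (.leaf 0xf0b0002) (.node 40268 (.leaf 0x0) (.leaf 0x0)))) (.node 40272 (.node 40270 (.leaf 0xd0b0002) (.node 40271 (.leaf 0x6050009020602000703040103000d) (.leaf 0x0))) (.node 40273 (.leaf 0xf0b0a0a0004) (.node 40274 (.leaf 0x702020901060802040105000b) (.leaf 0x0))))))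

def argWS_3564 : Store := (.node 40252 argWS_3562 argWS_3563)

def argWS_3565 : Store := (.node 40286 (.node 40280 (.node 40277 (.node 40276 (.leaf 0xa0001) (.leaf 0x0)) (.node 40278 (.leaf 0x9d54009040) (.node 40279 (.leaf 0xb0a0002) (.leaf 0x0)))) (.node 40283 (.node 40281 (.leaf 0x707020600000703040103000b) (.node 40282 (.leaf 0x0) (.leaf 0xb0f0002))) (.node 40284 (.leaf 0x1040007020902000703040103000d) (.node 40285 (.leaf 0x0) (.leaf 0xb0b0002))))) (.node 40291 (.node 40288 (.node 40287 (.leaf 0x0) (.leaf 0x400030603050004000703040103000e)) (.node 40289 (.leaf 0x0) (.node 40290 (.leaf 0xa0f0002) (.leaf 0x0)))) (.node 40294 (.node 40292 (.leaf 0x207090000090202000701000b) (.node 40293 (.leaf 0x0) (.leaf 0xf0a0a0003))) (.node 40295 (.leaf 0x0) (.node 40296 (.leaf 0xf0a0a0003) (.leaf 0x9d67009d66))))))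

def argWS_3566 : Store := (.node 40308 (.node 40302 (.node 40299 (.node 40298 (.leaf 0x60200070206000202000701000c) (.leaf 0x0)) (.node 40300 (.leaf 0xf0a0002) (.node 40301 (.leaf 0x0) (.leaf 0xb0b0002)))) (.node 40305 (.node 40303 (.leaf 0x0) (.node 40304 (.leaf 0x0) (.leaf 0xb0f0002))) (.node 40306 (.leaf 0x60102050202020703040103000c) (.node 40307 (.leaf 0x0) (.leaf 0xf0b0b0a0a0005))))) (.node 40314 (.node 40311 (.node 40309 (.leaf 0x0) (.node 40310 (.leaf 0x104000009020602000703040103000e) (.leaf 0x0))) (.node 40312 (.leaf 0xb0a0a0003) (.node 40313 (.leaf 0x0) (.leaf 0xb0a0f0003)))) (.node 40317 (.node 40315 (.leaf 0x9d79009d78) (.node 40316 (.leaf 0xb0001) (.leaf 0x0))) (.node 40318 (.leaf 0x2040308020401050008) (.node 40319 (.leaf 0x0) (.leaf 0xf0a0a0003))))))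

def argWS_3567 : Store := (.node 40297 argWS_3565 argWS_3566)

def argWS_3568 : Store := (.node 40275 argWS_3564 argWS_3567)

def argWS_3569 : Store := (.node 40331 (.node 40325 (.node 40322 (.node 40321 (.leaf 0x1020207030005) (.leaf 0x3070002020007010008)) (.node 40323 (.leaf 0xb0f0a0a0004) (.node 40324 (.leaf 0x50202000003010007) (.leaf 0x0)))) (.node 40328 (.node 40326 (.leaf 0xf0b0a0a0004) (.node 40327 (.leaf 0x0) (.leaf 0x2040303010102000802040105000d))) (.node 40329 (.leaf 0x0) (.node 40330 (.leaf 0xb0a0a0003) (.leaf 0x0))))) (.node 40336 (.node 40333 (.node 40332 (.leaf 0x9d8a) (.leaf 0x90002000003010802040105000c)) (.node 40334 (.leaf 0x0) (.node 40335 (.leaf 0xa0a0002) (.leaf 0x0)))) (.node 40339 (.node 40337 (.leaf 0x10903040005000703040103000c) (.node 40338 (.leaf 0x0) (.leaf 0xb0f0a0a0004))) (.node 40340 (.leaf 0xb0b0a0003) (.node 40341 (.leaf 0xb0f0a0003) (.leaf 0x903090109000703040103000b))))))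

def argWS_3570 : Store := (.node 40353 (.node 40347 (.node 40344 (.node 40343 (.leaf 0x0) (.leaf 0xf0b0b0003)) (.node 40345 (.leaf 0x0) (.node 40346 (.leaf 0xa0f0b0003) (.leaf 0x9d99009d98)))) (.node 40350 (.node 40348 (.leaf 0xb0f0a0a0004) (.node 40349 (.leaf 0x0) (.leaf 0x80703060004))) (.node 40351 (.leaf 0x0) (.node 40352 (.leaf 0xe0001) (.leaf 0x703050207030006))))) (.node 40359 (.node 40356 (.node 40354 (.leaf 0xb0f0002) (.node 40355 (.leaf 0xf0b0a0003) (.leaf 0x9da2))) (.node 40357 (.leaf 0x1040908050202000701000a) (.node 40358 (.leaf 0x0) (.leaf 0xf0b0b0a0a0005)))) (.node 40362 (.node 40360 (.leaf 0x0) (.node 40361 (.leaf 0xe0a0a0003) (.leaf 0x0))) (.node 40363 (.leaf 0x0) (.node 40364 (.leaf 0x5030500030306040802040105000d) (.leaf 0x0))))))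

def argWS_3571 : Store := (.node 40342 argWS_3569 argWS_3570)

def argWS_3572 : Store := (.node 40376 (.node 40370 (.node 40367 (.node 40366 (.leaf 0x0) (.leaf 0xf0b0a0003)) (.node 40368 (.leaf 0xf0b0002) (.node 40369 (.leaf 0x1070401050005) (.leaf 0xb0f0002)))) (.node 40373 (.node 40371 (.leaf 0x209070009020007010009) (.node 40372 (.leaf 0x0) (.leaf 0x0))) (.node 40374 (.leaf 0xf0b0a0a0004) (.node 40375 (.leaf 0x9db5009db4) (.leaf 0x9070006010500020008))))) (.node 40382 (.node 40379 (.node 40377 (.leaf 0x0) (.node 40378 (.leaf 0xb0b0a0003) (.leaf 0x0))) (.node 40380 (.leaf 0xa0f0b0b0004) (.node 40381 (.leaf 0x0) (.leaf 0x0)))) (.node 40385 (.node 40383 (.leaf 0x8000409080600000703040103000d) (.node 40384 (.leaf 0x0) (.leaf 0xf0b0b0a0004))) (.node 40386 (.leaf 0x0) (.node 40387 (.leaf 0xf0b0002) (.leaf 0xb0f0002))))))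

def argWS_3573 : Store := (.node 40399 (.node 40393 (.node 40390 (.node 40389 (.leaf 0x9dc3009dc2) (.leaf 0x40304070206000802040105000c)) (.node 40391 (.leaf 0x0) (.node 40392 (.leaf 0xa0f0b0003) (.leaf 0x0)))) (.node 40396 (.node 40394 (.leaf 0x202090806000202000701000b) (.node 40395 (.leaf 0x0) (.leaf 0xb0001))) (.node 40397 (.leaf 0x907090806000802040105000b) (.node 40398 (.leaf 0x0) (.leaf 0xb0a0002))))) (.node 40405 (.node 40402 (.node 40400 (.leaf 0x0) (.node 40401 (.leaf 0x20102090000000703040103000c) (.leaf 0x0))) (.node 40403 (.leaf 0xa0f0002) (.node 40404 (.leaf 0x0) (.leaf 0x9dd300389e)))) (.node 40408 (.node 40406 (.leaf 0xf0b0a0003) (.node 40407 (.leaf 0x0) (.leaf 0xf0b0a0a0004))) (.node 40409 (.leaf 0x0) (.node 40410 (.leaf 0x0) (.leaf 0xd0001))))))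

def argWS_3574 : Store := (.node 40388 argWS_3572 argWS_3573)

def argWS_3575 : Store := (.node 40365 argWS_3571 argWS_3574)

def argWS_3576 : Store := (.node 40320 argWS_3568 argWS_3575)

def argWS_3577 : Store := (.node 40230 argWS_3561 argWS_3576)

def argWS_3578 : Store := (.node 40050 argWS_3546 argWS_3577)

def argWS_3579 : Store := (.node 39689 argWS_3515 argWS_3578)

def argWS_3580 : Store := (.node 38967 argWS_3452 argWS_3579)

def argWS_3581 : Store := (.node 37524 argWS_3325 argWS_3580)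

def argWS_3582 : Store := (.node 40422 (.node 40416 (.node 40413 (.node 40412 (.leaf 0x103060207020703040103000b) (.leaf 0x0)) (.node 40414 (.leaf 0xf0a0002) (.node 40415 (.leaf 0x0) (.leaf 0x9dde)))) (.node 40419 (.node 40417 (.leaf 0xf0b0a0a0004) (.node 40418 (.leaf 0x0) (.leaf 0xb0a0002))) (.node 40420 (.leaf 0x0) (.node 40421 (.leaf 0x0) (.leaf 0xe0d0002))))) (.node 40427 (.node 40424 (.node 40423 (.leaf 0xa0001) (.leaf 0xd0b0b0003)) (.node 40425 (.leaf 0x9de7009de6) (.node 40426 (.leaf 0xb0f0a0a0004) (.leaf 0x0)))) (.node 40430 (.node 40428 (.leaf 0x10202090000090202000701000c) (.node 40429 (.leaf 0x0) (.leaf 0xf0b0002))) (.node 40431 (.leaf 0x400030306040007) (.node 40432 (.leaf 0x0) (.leaf 0xb0a0f0003))))))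

def argWS_3583 : Store := (.node 40444 (.node 40438 (.node 40435 (.node 40434 (.leaf 0x0) (.leaf 0x50c9009df1)) (.node 40436 (.leaf 0x0) (.node 40437 (.leaf 0x101070009020007010009) (.leaf 0x0)))) (.node 40441 (.node 40439 (.leaf 0xb0a0a0003) (.node 40440 (.leaf 0x601020603000703040103000b) (.leaf 0x0))) (.node 40442 (.leaf 0xf0001) (.node 40443 (.leaf 0x0) (.leaf 0xf0b0b0003))))) (.node 40450 (.node 40447 (.node 40445 (.leaf 0xf0b0b0003) (.node 40446 (.leaf 0x9dfc009dfb) (.leaf 0xa0f0002))) (.node 40448 (.leaf 0x0) (.node 40449 (.leaf 0x0) (.leaf 0xb0a0002)))) (.node 40453 (.node 40451 (.leaf 0xf0001) (.node 40452 (.leaf 0x0) (.leaf 0x0))) (.node 40454 (.leaf 0x0) (.node 40455 (.leaf 0xb0a0a0003) (.leaf 0xb0a0002))))))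

def argWS_3584 : Store := (.node 40433 argWS_3582 argWS_3583)

def argWS_3585 : Store := (.node 40467 (.node 40461 (.node 40458 (.node 40457 (.leaf 0xb0f0a0003) (.leaf 0xa0f0002)) (.node 40459 (.leaf 0xb0f0002) (.node 40460 (.leaf 0x6080002) (.leaf 0xf0b0002)))) (.node 40464 (.node 40462 (.leaf 0xe0001) (.node 40463 (.leaf 0x90700000300000007) (.leaf 0x0))) (.node 40465 (.leaf 0xb0001) (.node 40466 (.leaf 0x0) (.leaf 0xf0b0b0a0a0005))))) (.node 40472 (.node 40469 (.node 40468 (.leaf 0x9e12009e11) (.leaf 0x6020006010500020008)) (.node 40470 (.leaf 0x0) (.node 40471 (.leaf 0xe0a0a0003) (.leaf 0x0)))) (.node 40475 (.node 40473 (.leaf 0xf0b0b0a0a0005) (.node 40474 (.leaf 0x0) (.leaf 0x0))) (.node 40476 (.leaf 0xb0a0002) (.node 40477 (.leaf 0xb0b0a0a0004) (.leaf 0x2010307000902000701000a))))))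

def argWS_3586 : Store := (.node 40489 (.node 40483 (.node 40480 (.node 40479 (.leaf 0x0) (.leaf 0xb0a0f0003)) (.node 40481 (.leaf 0x0) (.node 40482 (.leaf 0x2000307030401030008) (.leaf 0x0)))) (.node 40486 (.node 40484 (.leaf 0xb0f0002) (.node 40485 (.leaf 0x0) (.leaf 0x9e24009e20))) (.node 40487 (.leaf 0xf0b0b0a0004) (.node 40488 (.leaf 0x0) (.leaf 0xb0f0a0003))))) (.node 40495 (.node 40492 (.node 40490 (.leaf 0x0) (.node 40491 (.leaf 0x0) (.leaf 0xa0f0b0b0004))) (.node 40493 (.leaf 0xa0f0002) (.node 40494 (.leaf 0x7000002000003010802040105000d) (.leaf 0x0)))) (.node 40498 (.node 40496 (.leaf 0xb0f0002) (.node 40497 (.leaf 0x0) (.leaf 0x9e30))) (.node 40499 (.leaf 0xf0b0a0003) (.node 40500 (.leaf 0x0) (.leaf 0xb0f0a0a0004))))))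

def argWS_3587 : Store := (.node 40478 argWS_3585 argWS_3586)

def argWS_3588 : Store := (.node 40456 argWS_3584 argWS_3587)

def argWS_3589 : Store := (.node 40512 (.node 40506 (.node 40503 (.node 40502 (.leaf 0x0) (.leaf 0x0)) (.node 40504 (.leaf 0xa0f0b0003) (.node 40505 (.leaf 0x803000003) (.leaf 0x0)))) (.node 40509 (.node 40507 (.leaf 0xd0b0b0003) (.node 40508 (.leaf 0x0) (.leaf 0x9e3b))) (.node 40510 (.leaf 0xb0b0a0003) (.node 40511 (.leaf 0x0) (.leaf 0x9020804000005))))) (.node 40517 (.node 40514 (.node 40513 (.leaf 0x0) (.leaf 0xa0f0b0b0004)) (.node 40515 (.leaf 0xe0d0002) (.node 40516 (.leaf 0xf0b0b0a0004) (.leaf 0xe0a0a0003)))) (.node 40520 (.node 40518 (.leaf 0x8000003010102000202000701000d) (.node 40519 (.leaf 0x0) (.leaf 0xa0001))) (.node 40521 (.leaf 0x0) (.node 40522 (.leaf 0x8e4c009e48) (.leaf 0xf0001))))))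

def argWS_3590 : Store := (.node 40534 (.node 40528 (.node 40525 (.node 40524 (.leaf 0x0) (.leaf 0xf0b0b0a0004)) (.node 40526 (.leaf 0x0) (.node 40527 (.leaf 0x0) (.leaf 0xb0a0a0003)))) (.node 40531 (.node 40529 (.leaf 0xb0a0002) (.node 40530 (.leaf 0x9e50) (.leaf 0x9020106010500020202000701000d))) (.node 40532 (.leaf 0x0) (.node 40533 (.leaf 0xb0001) (.leaf 0x0))))) (.node 40540 (.node 40537 (.node 40535 (.leaf 0xb0b0a0a0004) (.node 40536 (.leaf 0x0) (.leaf 0x0))) (.node 40538 (.leaf 0xd0b0002) (.node 40539 (.leaf 0xf0b0a0003) (.leaf 0x10103010102000007)))) (.node 40543 (.node 40541 (.leaf 0x0) (.node 40542 (.leaf 0xb0f0002) (.leaf 0x0))) (.node 40544 (.leaf 0xb0a0f0003) (.node 40545 (.leaf 0x9e5f009e5e) (.leaf 0xa0f0b0b0004))))))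

def argWS_3591 : Store := (.node 40523 argWS_3589 argWS_3590)

def argWS_3592 : Store := (.node 40557 (.node 40551 (.node 40548 (.node 40547 (.leaf 0x0) (.leaf 0x202020207030401030009)) (.node 40549 (.leaf 0x0) (.node 40550 (.leaf 0xd0b0b0003) (.leaf 0x204000508020401050009)))) (.node 40554 (.node 40552 (.leaf 0x0) (.node 40553 (.leaf 0xf0b0b0a0004) (.leaf 0x0))) (.node 40555 (.leaf 0xb0001) (.node 40556 (.leaf 0xe0d0002) (.leaf 0x9e6b009e6a))))) (.node 40562 (.node 40559 (.node 40558 (.leaf 0xa0001) (.leaf 0x0)) (.node 40560 (.leaf 0x702090000090202000701000b) (.node 40561 (.leaf 0x0) (.leaf 0xb0a0a0003)))) (.node 40565 (.node 40563 (.leaf 0xd0001) (.node 40564 (.leaf 0x903000308000703040103000b) (.leaf 0x0))) (.node 40566 (.leaf 0xf0b0b0a0a0005) (.node 40567 (.leaf 0x0) (.leaf 0x60201020106060802040105000c))))))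

def argWS_3593 : Store := (.node 40579 (.node 40573 (.node 40570 (.node 40569 (.leaf 0x0) (.leaf 0xb0b0002)) (.node 40571 (.leaf 0x0) (.node 40572 (.leaf 0x107000301010200000703040103000e) (.leaf 0x0)))) (.node 40576 (.node 40574 (.leaf 0xe0d0002) (.node 40575 (.leaf 0x0) (.leaf 0x9e7e009e7a))) (.node 40577 (.leaf 0x604000000030000000703040103000e) (.node 40578 (.leaf 0x0) (.leaf 0xd0b0002))))) (.node 40585 (.node 40582 (.node 40580 (.leaf 0x0) (.node 40581 (.leaf 0x4000406020702010802040105000d) (.leaf 0x0))) (.node 40583 (.leaf 0xb0b0a0a0004) (.node 40584 (.leaf 0xb0f0a0a0004) (.leaf 0xf0a0a0003)))) (.node 40588 (.node 40586 (.leaf 0xb0b0a0a0004) (.node 40587 (.leaf 0x40205010908050802040105000c) (.leaf 0x0))) (.node 40589 (.leaf 0xe0001) (.node 40590 (.leaf 0x0) (.leaf 0x5030306040202000701000a))))))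

def argWS_3594 : Store := (.node 40568 argWS_3592 argWS_3593)

def argWS_3595 : Store := (.node 40546 argWS_3591 argWS_3594)

def argWS_3596 : Store := (.node 40501 argWS_3588 argWS_3595)

def argWS_3597 : Store := (.node 40602 (.node 40596 (.node 40593 (.node 40592 (.leaf 0x0) (.leaf 0xf0b0b0a0004)) (.node 40594 (.leaf 0x0) (.node 40595 (.leaf 0x9e91009e8d) (.leaf 0x502060308020401050009)))) (.node 40599 (.node 40597 (.leaf 0x0) (.node 40598 (.leaf 0xd0001) (.leaf 0x0))) (.node 40600 (.leaf 0xd0b0b0003) (.node 40601 (.leaf 0x0) (.leaf 0x0))))) (.node 40607 (.node 40604 (.node 40603 (.leaf 0xe0d0002) (.leaf 0xb0a0002)) (.node 40605 (.leaf 0xb0b0002) (.node 40606 (.leaf 0x9e9c) (.leaf 0xa0f0002)))) (.node 40610 (.node 40608 (.leaf 0x0) (.node 40609 (.leaf 0xd0b0002) (.leaf 0x0))) (.node 40611 (.leaf 0x0) (.node 40612 (.leaf 0xd0001) (.leaf 0xe0a0a0003))))))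

def argWS_3598 : Store := (.node 40624 (.node 40618 (.node 40615 (.node 40614 (.leaf 0xb0f0a0003) (.leaf 0xa0a0002)) (.node 40616 (.leaf 0x60400020106060007) (.node 40617 (.leaf 0x0) (.leaf 0xe0d0002)))) (.node 40621 (.node 40619 (.leaf 0x0) (.node 40620 (.leaf 0x9070000000300000008) (.leaf 0x0))) (.node 40622 (.leaf 0xb0b0a0003) (.node 40623 (.leaf 0x0) (.leaf 0x9eae009eaa))))) (.node 40630 (.node 40627 (.node 40625 (.leaf 0x20402020900000007) (.node 40626 (.leaf 0x0) (.leaf 0xe0a0a0003))) (.node 40628 (.leaf 0x0) (.node 40629 (.leaf 0xf0b0b0a0004) (.leaf 0x0)))) (.node 40633 (.node 40631 (.leaf 0x0) (.node 40632 (.leaf 0xf0b0b0003) (.leaf 0x8010102000003010202000701000d))) (.node 40634 (.leaf 0x0) (.node 40635 (.leaf 0xb0a0a0003) (.leaf 0x0))))))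

def argWS_3599 : Store := (.node 40613 argWS_3597 argWS_3598)

def argWS_3600 : Store := (.node 40647 (.node 40641 (.node 40638 (.node 40637 (.leaf 0xf0b0a0003) (.leaf 0x9ebc009ebb)) (.node 40639 (.leaf 0xe0001) (.node 40640 (.leaf 0x0) (.leaf 0xf0b0a0003)))) (.node 40644 (.node 40642 (.leaf 0x0) (.node 40643 (.leaf 0x0) (.leaf 0xb0b0002))) (.node 40645 (.leaf 0xa0a0002) (.node 40646 (.leaf 0x6030401030005) (.leaf 0x0))))) (.node 40652 (.node 40649 (.node 40648 (.leaf 0x0) (.leaf 0x50009000009000703040103000c)) (.node 40650 (.leaf 0x0) (.node 40651 (.leaf 0xe0a0002) (.leaf 0x0)))) (.node 40655 (.node 40653 (.leaf 0x9ecb009ec7) (.node 40654 (.leaf 0xb0f0002) (.leaf 0x0))) (.node 40656 (.leaf 0xb0f0002) (.node 40657 (.leaf 0x0) (.leaf 0x90608020401050007))))))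

def argWS_3601 : Store := (.node 40669 (.node 40663 (.node 40660 (.node 40659 (.leaf 0x0) (.leaf 0xf0b0a0003)) (.node 40661 (.leaf 0x0) (.node 40662 (.leaf 0x2000908020401050008) (.leaf 0x0)))) (.node 40666 (.node 40664 (.leaf 0xf0b0a0003) (.node 40665 (.leaf 0x0) (.leaf 0x9ed8))) (.node 40667 (.leaf 0xb0f0a0a0004) (.node 40668 (.leaf 0x0) (.leaf 0x20403010904020202000701000c))))) (.node 40675 (.node 40672 (.node 40670 (.leaf 0x0) (.node 40671 (.leaf 0xe0a0a0003) (.leaf 0xf0b0b0a0a0005))) (.node 40673 (.leaf 0xe0a0a0003) (.node 40674 (.leaf 0x9ee0) (.leaf 0x404000502020007010009)))) (.node 40678 (.node 40676 (.leaf 0x0) (.node 40677 (.leaf 0xf0b0b0a0004) (.leaf 0x0))) (.node 40679 (.leaf 0xa0001) (.node 40680 (.leaf 0x0) (.leaf 0x0))))))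

def argWS_3602 : Store := (.node 40658 argWS_3600 argWS_3601)

def argWS_3603 : Store := (.node 40636 argWS_3599 argWS_3602)

def argWS_3604 : Store := (.node 40692 (.node 40686 (.node 40683 (.node 40682 (.leaf 0x601020002080400000703040103000e) (.leaf 0x0)) (.node 40684 (.leaf 0xf0b0b0003) (.node 40685 (.leaf 0x0) (.leaf 0x40300060207020703040103000c)))) (.node 40689 (.node 40687 (.leaf 0x0) (.node 40688 (.leaf 0xf0b0b0a0004) (.leaf 0x0))) (.node 40690 (.leaf 0xf0b0b0003) (.node 40691 (.leaf 0x9ef1009ef0) (.leaf 0x1010207030005))))) (.node 40697 (.node 40694 (.node 40693 (.leaf 0x0) (.leaf 0xa0a0002)) (.node 40695 (.leaf 0x0) (.node 40696 (.leaf 0x6010904020006) (.leaf 0x0)))) (.node 40700 (.node 40698 (.leaf 0xe0a0a0003) (.node 40699 (.leaf 0xf0b0a0a0004) (.leaf 0x1040603050004000703040103000d))) (.node 40701 (.leaf 0x0) (.node 40702 (.leaf 0x0) (.leaf 0x9efd009efa))))))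

def argWS_3605 : Store := (.node 40714 (.node 40708 (.node 40705 (.node 40704 (.leaf 0xb0b0a0a0004) (.leaf 0x0)) (.node 40706 (.leaf 0xa0f0b0b0004) (.node 40707 (.leaf 0x0) (.leaf 0x0)))) (.node 40711 (.node 40709 (.leaf 0x3050206040202000701000a) (.node 40710 (.leaf 0x0) (.leaf 0xf0b0002))) (.node 40712 (.leaf 0x0) (.node 40713 (.leaf 0xa0001) (.leaf 0x3030301010200000703040103000d))))) (.node 40720 (.node 40717 (.node 40715 (.leaf 0x0) (.node 40716 (.leaf 0xf0a0002) (.leaf 0x0))) (.node 40718 (.leaf 0x9f0c009f08) (.node 40719 (.leaf 0xf0a0002) (.leaf 0x0)))) (.node 40723 (.node 40721 (.leaf 0xf0b0002) (.node 40722 (.leaf 0x0) (.leaf 0x0))) (.node 40724 (.leaf 0xe0001) (.node 40725 (.leaf 0x3d88) (.leaf 0xf0a0a0003))))))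

def argWS_3606 : Store := (.node 40703 argWS_3604 argWS_3605)

def argWS_3607 : Store := (.node 40737 (.node 40731 (.node 40728 (.node 40727 (.leaf 0x0) (.leaf 0xf0b0002)) (.node 40729 (.leaf 0x0) (.node 40730 (.leaf 0x0) (.leaf 0xb0b0002)))) (.node 40734 (.node 40732 (.leaf 0xe0d0002) (.node 40733 (.leaf 0x60501090806000202000701000c) (.leaf 0x0))) (.node 40735 (.leaf 0x0) (.node 40736 (.leaf 0x9f1e) (.leaf 0x2010300090206020802040105000d))))) (.node 40742 (.node 40739 (.node 40738 (.leaf 0x0) (.leaf 0xb0a0002)) (.node 40740 (.leaf 0x0) (.node 40741 (.leaf 0xe0001) (.leaf 0x0)))) (.node 40745 (.node 40743 (.leaf 0x0) (.node 40744 (.leaf 0xb0a0a0003) (.leaf 0xa0001))) (.node 40746 (.leaf 0x0) (.node 40747 (.leaf 0x9f29009f28) (.leaf 0x604000400050802040105000b))))))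

def argWS_3608 : Store := (.node 40759 (.node 40753 (.node 40750 (.node 40749 (.leaf 0x0) (.leaf 0xb0001)) (.node 40751 (.leaf 0x0) (.node 40752 (.leaf 0xf0b0b0a0a0005) (.leaf 0x0)))) (.node 40756 (.node 40754 (.leaf 0x0) (.node 40755 (.leaf 0xf0b0b0a0a0005) (.leaf 0xe0001))) (.node 40757 (.leaf 0x9010402020007010008) (.node 40758 (.leaf 0x0) (.leaf 0xb0a0a0003))))) (.node 40765 (.node 40762 (.node 40760 (.leaf 0x0) (.node 40761 (.leaf 0x9f37009f33) (.leaf 0x901090000090202000701000b))) (.node 40763 (.leaf 0x0) (.node 40764 (.leaf 0xb0f0002) (.leaf 0x0)))) (.node 40768 (.node 40766 (.leaf 0xd0b0b0003) (.node 40767 (.leaf 0x0) (.leaf 0x0))) (.node 40769 (.leaf 0x20000020106060007) (.node 40770 (.leaf 0x0) (.leaf 0xb0f0002))))))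

def argWS_3609 : Store := (.node 40748 argWS_3607 argWS_3608)

def argWS_3610 : Store := (.node 40726 argWS_3606 argWS_3609)

def argWS_3611 : Store := (.node 40681 argWS_3603 argWS_3610)

def argWS_3612 : Store := (.node 40591 argWS_3596 argWS_3611)

def argWS_3613 : Store := (.node 40782 (.node 40776 (.node 40773 (.node 40772 (.leaf 0x0) (.leaf 0xf0001)) (.node 40774 (.leaf 0x0) (.node 40775 (.leaf 0x9d93009f45) (.leaf 0xe0d0002)))) (.node 40779 (.node 40777 (.leaf 0x0) (.node 40778 (.leaf 0x307020901060802040105000b) (.leaf 0x0))) (.node 40780 (.leaf 0xd0b0002) (.node 40781 (.leaf 0x30102010606000703040103000c) (.leaf 0x0))))) (.node 40787 (.node 40784 (.node 40783 (.leaf 0xf0b0a0003) (.leaf 0x0)) (.node 40785 (.leaf 0xb0a0a0003) (.node 40786 (.leaf 0x30306040202000701000b) (.leaf 0x0)))) (.node 40790 (.node 40788 (.leaf 0xe0a0002) (.node 40789 (.leaf 0x0) (.leaf 0x9f54009f50))) (.node 40791 (.leaf 0xf0001) (.node 40792 (.leaf 0x0) (.leaf 0x20609000009000703040103000c))))))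

def argWS_3614 : Store := (.node 40804 (.node 40798 (.node 40795 (.node 40794 (.leaf 0x0) (.leaf 0xe0a0a0003)) (.node 40796 (.leaf 0xb0b0002) (.node 40797 (.leaf 0xe0001) (.leaf 0x80101050206040202000701000c)))) (.node 40801 (.node 40799 (.leaf 0x0) (.node 40800 (.leaf 0xf0a0a0003) (.leaf 0x0))) (.node 40802 (.leaf 0x9f60009f5c) (.node 40803 (.leaf 0x70402000003010007) (.leaf 0x0))))) (.node 40810 (.node 40807 (.node 40805 (.leaf 0xb0f0002) (.node 40806 (.leaf 0x0) (.leaf 0xb0a0002))) (.node 40808 (.leaf 0x0) (.node 40809 (.leaf 0x0) (.leaf 0x305090000090006)))) (.node 40813 (.node 40811 (.leaf 0x0) (.node 40812 (.leaf 0xb0f0a0003) (.leaf 0x0))) (.node 40814 (.leaf 0x602060207020703040103000b) (.node 40815 (.leaf 0x0) (.leaf 0xe0a0a0003))))))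

def argWS_3615 : Store := (.node 40793 argWS_3613 argWS_3614)

def argWS_3616 : Store := (.node 40827 (.node 40821 (.node 40818 (.node 40817 (.leaf 0x0) (.leaf 0x9f70)) (.node 40819 (.leaf 0xf0b0a0a0004) (.node 40820 (.leaf 0x0) (.leaf 0x702020207030401030009)))) (.node 40824 (.node 40822 (.leaf 0x0) (.node 40823 (.leaf 0xf0b0002) (.leaf 0xf0a0002))) (.node 40825 (.leaf 0x5020703060202000701000a) (.node 40826 (.leaf 0x0) (.leaf 0xb0f0a0003))))) (.node 40832 (.node 40829 (.node 40828 (.leaf 0x0) (.leaf 0xb0f0002)) (.node 40830 (.leaf 0x9f7c009f7b) (.node 40831 (.leaf 0x800000408010202000701000c) (.leaf 0x0)))) (.node 40835 (.node 40833 (.leaf 0xe0001) (.node 40834 (.leaf 0x0) (.leaf 0xb0a0f0003))) (.node 40836 (.leaf 0x0) (.node 40837 (.leaf 0x0) (.leaf 0xb0a0002))))))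

def argWS_3617 : Store := (.node 40849 (.node 40843 (.node 40840 (.node 40839 (.leaf 0x6000207020007010009) (.leaf 0x0)) (.node 40841 (.leaf 0xb0001) (.node 40842 (.leaf 0x0) (.leaf 0x9f89)))) (.node 40846 (.node 40844 (.leaf 0xd0001) (.node 40845 (.leaf 0x0) (.leaf 0xa0f0002))) (.node 40847 (.leaf 0x0) (.node 40848 (.leaf 0x0) (.leaf 0xb0001))))) (.node 40855 (.node 40852 (.node 40850 (.leaf 0xa0a0002) (.node 40851 (.leaf 0x800090000090202000701000b) (.leaf 0x0))) (.node 40853 (.leaf 0xa0f0002) (.node 40854 (.leaf 0x0) (.leaf 0xf0b0a0a0004)))) (.node 40858 (.node 40856 (.leaf 0x9f96009f95) (.node 40857 (.leaf 0x80502020007010008) (.leaf 0x0))) (.node 40859 (.leaf 0xd0b0b0003) (.node 40860 (.leaf 0x0) (.leaf 0xe0001))))))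

def argWS_3618 : Store := (.node 40838 argWS_3616 argWS_3617)

def argWS_3619 : Store := (.node 40816 argWS_3615 argWS_3618)

def argWS_3620 : Store := (.node 40872 (.node 40866 (.node 40863 (.node 40862 (.leaf 0x0) (.leaf 0x0)) (.node 40864 (.leaf 0xf0b0a0a0004) (.node 40865 (.leaf 0xb0a0a0003) (.leaf 0x9fa0)))) (.node 40869 (.node 40867 (.leaf 0xf0b0b0a0004) (.node 40868 (.leaf 0x0) (.leaf 0xa0001))) (.node 40870 (.leaf 0x0) (.node 40871 (.leaf 0x0) (.leaf 0xd0001))))) (.node 40877 (.node 40874 (.node 40873 (.leaf 0xb0b0a0a0004) (.leaf 0x9fa8009fa7)) (.node 40875 (.leaf 0x10202070009030007) (.node 40876 (.leaf 0x0) (.leaf 0xe0a0a0003)))) (.node 40880 (.node 40878 (.leaf 0x0) (.node 40879 (.leaf 0xe0a0002) (.leaf 0x0))) (.node 40881 (.leaf 0x0) (.node 40882 (.leaf 0xa0001) (.leaf 0xf0b0002))))))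

def argWS_3621 : Store := (.node 40894 (.node 40888 (.node 40885 (.node 40884 (.leaf 0x9fb2009fb1) (.leaf 0x9010902020007010009)) (.node 40886 (.leaf 0x0) (.node 40887 (.leaf 0xe0d0002) (.leaf 0x0)))) (.node 40891 (.node 40889 (.leaf 0xa0f0002) (.node 40890 (.leaf 0x0) (.leaf 0x0))) (.node 40892 (.leaf 0x10903010703060202000701000c) (.node 40893 (.leaf 0x0) (.leaf 0xf0b0a0003))))) (.node 40900 (.node 40897 (.node 40895 (.leaf 0x0) (.node 40896 (.leaf 0xa0f0b0b0004) (.leaf 0x9e9a009fbf))) (.node 40898 (.leaf 0xd0b0b0003) (.node 40899 (.leaf 0x0) (.leaf 0x20700030306040802040105000c)))) (.node 40903 (.node 40901 (.leaf 0x0) (.node 40902 (.leaf 0xb0f0a0a0004) (.leaf 0xe0001))) (.node 40904 (.leaf 0xb0a0a0003) (.node 40905 (.leaf 0x60000090806000202000701000c) (.leaf 0x0))))))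

def argWS_3622 : Store := (.node 40883 argWS_3620 argWS_3621)

def argWS_3623 : Store := (.node 40917 (.node 40911 (.node 40908 (.node 40907 (.leaf 0x0) (.leaf 0x9fca)) (.node 40909 (.leaf 0x50206040202000701000a) (.node 40910 (.leaf 0x0) (.leaf 0xf0001)))) (.node 40914 (.node 40912 (.leaf 0x0) (.node 40913 (.leaf 0xb0b0a0003) (.leaf 0x0))) (.node 40915 (.leaf 0x0) (.node 40916 (.leaf 0xa0f0b0b0004) (.leaf 0xd0b0b0003))))) (.node 40922 (.node 40919 (.node 40918 (.leaf 0x40900090005) (.leaf 0x0)) (.node 40920 (.leaf 0xb0a0f0003) (.node 40921 (.leaf 0x0) (.leaf 0x9fd8)))) (.node 40925 (.node 40923 (.leaf 0x502040005000703040103000b) (.node 40924 (.leaf 0x0) (.leaf 0xe0a0002))) (.node 40926 (.leaf 0x0) (.node 40927 (.leaf 0x3000603050004000703040103000d) (.leaf 0x0))))))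

def argWS_3624 : Store := (.node 40939 (.node 40933 (.node 40930 (.node 40929 (.leaf 0xd0001) (.leaf 0xf0001)) (.node 40931 (.leaf 0xb0f0002) (.node 40932 (.leaf 0xd0001) (.leaf 0x9fe3009fe2)))) (.node 40936 (.node 40934 (.leaf 0xa0001) (.node 40935 (.leaf 0x0) (.leaf 0xf0b0b0003))) (.node 40937 (.leaf 0x0) (.node 40938 (.leaf 0x0) (.leaf 0xd0b0b0003))))) (.node 40945 (.node 40942 (.node 40940 (.leaf 0x800040308000703040103000b) (.node 40941 (.leaf 0x0) (.leaf 0xf0b0002))) (.node 40943 (.leaf 0x0) (.node 40944 (.leaf 0x805000400050802040105000b) (.leaf 0x0)))) (.node 40948 (.node 40946 (.leaf 0xe0d0002) (.node 40947 (.leaf 0x0) (.leaf 0x9ff2009fee))) (.node 40949 (.leaf 0x5010207030802040105000a) (.node 40950 (.leaf 0x0) (.leaf 0xf0b0a0a0004))))))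

def argWS_3625 : Store := (.node 40928 argWS_3623 argWS_3624)

def argWS_3626 : Store := (.node 40906 argWS_3622 argWS_3625)

def argWS_3627 : Store := (.node 40861 argWS_3619 argWS_3626)

def argWS_3628 : Store := (.node 40962 (.node 40956 (.node 40953 (.node 40952 (.leaf 0x0) (.leaf 0xb0b0a0a0004)) (.node 40954 (.leaf 0x0) (.node 40955 (.leaf 0x0) (.leaf 0x307000308000703040103000b)))) (.node 40959 (.node 40957 (.leaf 0x0) (.node 40958 (.leaf 0x0) (.leaf 0xf0a0a0003))) (.node 40960 (.leaf 0x9ffe009ffd) (.node 40961 (.leaf 0x10903060207020703040103000c) (.leaf 0x0))))) (.node 40967 (.node 40964 (.node 40963 (.leaf 0xe0d0002) (.leaf 0x0)) (.node 40965 (.leaf 0xa0f0b0003) (.node 40966 (.leaf 0x0) (.leaf 0x0)))) (.node 40970 (.node 40968 (.leaf 0xe0a0002) (.node 40969 (.leaf 0xe0a0002) (.leaf 0xf0b0b0003))) (.node 40971 (.leaf 0x1090805000703040103000a) (.node 40972 (.leaf 0x0) (.leaf 0xd0001))))))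

def argWS_3629 : Store := (.node 40984 (.node 40978 (.node 40975 (.node 40974 (.leaf 0x0) (.leaf 0xa00d00a009)) (.node 40976 (.leaf 0x6010201090009000703040103000d) (.node 40977 (.leaf 0x0) (.leaf 0xf0001)))) (.node 40981 (.node 40979 (.leaf 0x0) (.node 40980 (.leaf 0xe0a0a0003) (.leaf 0x0))) (.node 40982 (.leaf 0x0) (.node 40983 (.leaf 0xe0d0002) (.leaf 0x70305090806000202000701000c))))) (.node 40990 (.node 40987 (.node 40985 (.leaf 0x0) (.node 40986 (.leaf 0xf0b0b0a0004) (.leaf 0x0))) (.node 40988 (.leaf 0xa01a) (.node 40989 (.leaf 0xb0f0a0003) (.leaf 0x0)))) (.node 40993 (.node 40991 (.leaf 0xb0f0a0003) (.node 40992 (.leaf 0x0) (.leaf 0x0))) (.node 40994 (.leaf 0xd0b0002) (.node 40995 (.leaf 0x30105020604000703040103000c) (.leaf 0x0))))))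

def argWS_3630 : Store := (.node 40973 argWS_3628 argWS_3629)

def argWS_3631 : Store := (.node 41007 (.node 41001 (.node 40998 (.node 40997 (.leaf 0xf0001) (.leaf 0x0)) (.node 40999 (.leaf 0x507020600000703040103000b) (.node 41000 (.leaf 0x0) (.leaf 0xb0f0a0a0004)))) (.node 41004 (.node 41002 (.leaf 0x0) (.node 41003 (.leaf 0xa02900a025) (.leaf 0xa0f0002))) (.node 41005 (.leaf 0x0) (.node 41006 (.leaf 0x8050006010500020008) (.leaf 0x0))))) (.node 41012 (.node 41009 (.node 41008 (.leaf 0xe0001) (.leaf 0x701090806000202000701000b)) (.node 41010 (.leaf 0x0) (.node 41011 (.leaf 0xf0001) (.leaf 0x0)))) (.node 41015 (.node 41013 (.leaf 0xe0a0002) (.node 41014 (.leaf 0xa034) (.leaf 0xb0b0a0003))) (.node 41016 (.leaf 0x0) (.node 41017 (.leaf 0x0) (.leaf 0xb0b0002))))))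

def argWS_3632 : Store := (.node 41029 (.node 41023 (.node 41020 (.node 41019 (.leaf 0xa0f0002) (.leaf 0xd0b0002)) (.node 41021 (.leaf 0xb0b0a0003) (.node 41022 (.leaf 0xa03c00a03b) (.leaf 0xd0001)))) (.node 41026 (.node 41024 (.leaf 0x0) (.node 41025 (.leaf 0x40006020007010007) (.leaf 0x0))) (.node 41027 (.leaf 0xb0a0f0003) (.node 41028 (.leaf 0x30303010102000802040105000c) (.leaf 0x0))))) (.node 41035 (.node 41032 (.node 41030 (.leaf 0xf0b0b0a0a0005) (.node 41031 (.leaf 0x0) (.leaf 0xf0b0b0003))) (.node 41033 (.leaf 0xa04700a046) (.node 41034 (.leaf 0x70009020007010009) (.leaf 0x0)))) (.node 41038 (.node 41036 (.leaf 0xa0f0002) (.node 41037 (.leaf 0x0) (.leaf 0xa0001))) (.node 41039 (.leaf 0x0) (.node 41040 (.leaf 0x0) (.leaf 0x5000009000009000703040103000d))))))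

def argWS_3633 : Store := (.node 41018 argWS_3631 argWS_3632)

def argWS_3634 : Store := (.node 40996 argWS_3630 argWS_3633)

def argWS_3635 : Store := (.node 41052 (.node 41046 (.node 41043 (.node 41042 (.leaf 0x0) (.leaf 0xb0f0002)) (.node 41044 (.leaf 0x0) (.node 41045 (.leaf 0xb0f0a0a0004) (.leaf 0x402050202090000000703040103000e)))) (.node 41049 (.node 41047 (.leaf 0x0) (.node 41048 (.leaf 0xb0b0002) (.leaf 0x0))) (.node 41050 (.leaf 0xa05800a054) (.node 41051 (.leaf 0xd0b0002) (.leaf 0x0))))) (.node 41057 (.node 41054 (.node 41053 (.leaf 0x602050206040202000701000b) (.leaf 0x0)) (.node 41055 (.leaf 0xa0f0002) (.node 41056 (.leaf 0xf0b0b0a0a0005) (.leaf 0x3030400050202000701000a)))) (.node 41060 (.node 41058 (.leaf 0x0) (.node 41059 (.leaf 0xb0b0a0a0004) (.leaf 0x0))) (.node 41061 (.leaf 0xa06300a05f) (.node 41062 (.leaf 0x20906020702010802040105000c) (.leaf 0x0))))))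

def argWS_3636 : Store := (.node 41074 (.node 41068 (.node 41065 (.node 41064 (.leaf 0xf0b0b0003) (.leaf 0x0)) (.node 41066 (.leaf 0x0) (.node 41067 (.leaf 0x8050002020007010008) (.leaf 0x0)))) (.node 41071 (.node 41069 (.leaf 0xa0f0b0b0004) (.node 41070 (.leaf 0x0) (.leaf 0xf0a0a0003))) (.node 41072 (.leaf 0x9e5900a06e) (.node 41073 (.leaf 0xd0b0002) (.leaf 0x0))))) (.node 41080 (.node 41077 (.node 41075 (.leaf 0xf0a0002) (.node 41076 (.leaf 0x0) (.leaf 0x0))) (.node 41078 (.leaf 0x8010106030500040008) (.node 41079 (.leaf 0x0) (.leaf 0x0)))) (.node 41083 (.node 41081 (.leaf 0x60400050202000701000a) (.node 41082 (.leaf 0x0) (.leaf 0xd0b0b0003))) (.node 41084 (.leaf 0x0) (.node 41085 (.leaf 0xa07b00a077) (.leaf 0x20705020202010802040105000c))))))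

def argWS_3637 : Store := (.node 41063 argWS_3635 argWS_3636)

def argWS_3638 : Store := (.node 41097 (.node 41091 (.node 41088 (.node 41087 (.leaf 0x0) (.leaf 0xe0d0002)) (.node 41089 (.leaf 0x0) (.node 41090 (.leaf 0xf0b0b0a0004) (.leaf 0x0)))) (.node 41094 (.node 41092 (.leaf 0x0) (.node 41093 (.leaf 0x50305070209020007) (.leaf 0x0))) (.node 41095 (.leaf 0xf0b0b0a0a0005) (.node 41096 (.leaf 0x0) (.leaf 0x202020206030006))))) (.node 41103 (.node 41100 (.node 41098 (.leaf 0x0) (.node 41099 (.leaf 0xa0f0b0b0004) (.leaf 0x0))) (.node 41101 (.leaf 0xd0b0b0003) (.node 41102 (.leaf 0xa08c00a08b) (.leaf 0xf0b0a0a0004)))) (.node 41106 (.node 41104 (.leaf 0x0) (.node 41105 (.leaf 0xd0b0b0003) (.leaf 0x0))) (.node 41107 (.leaf 0x0) (.node 41108 (.leaf 0xb0a0a0003) (.leaf 0xf0b0002))))))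

def argWS_3639 : Store := (.node 41120 (.node 41114 (.node 41111 (.node 41110 (.leaf 0xa094) (.leaf 0x90006030500040802040105000d)) (.node 41112 (.leaf 0x0) (.node 41113 (.leaf 0xb0b0002) (.leaf 0x0)))) (.node 41117 (.node 41115 (.leaf 0xb0f0a0a0004) (.node 41116 (.leaf 0x0) (.leaf 0x0))) (.node 41118 (.leaf 0xa0f0b0b0004) (.node 41119 (.leaf 0x601020103080202000701000b) (.leaf 0x0))))) (.node 41126 (.node 41123 (.node 41121 (.leaf 0xa0001) (.node 41122 (.leaf 0x0) (.leaf 0xa0a1))) (.node 41124 (.leaf 0xb0b0a0a0004) (.node 41125 (.leaf 0x0) (.leaf 0xa0a0002)))) (.node 41129 (.node 41127 (.leaf 0x0) (.node 41128 (.leaf 0xd0b0b0003) (.leaf 0x50301050004))) (.node 41130 (.leaf 0x0) (.node 41131 (.leaf 0xa0a0002) (.leaf 0x0))))))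

def argWS_3640 : Store := (.node 41109 argWS_3638 argWS_3639)

def argWS_3641 : Store := (.node 41086 argWS_3637 argWS_3640)

def argWS_3642 : Store := (.node 41041 argWS_3634 argWS_3641)

def argWS_3643 : Store := (.node 40951 argWS_3627 argWS_3642)

def argWS_3644 : Store := (.node 40771 argWS_3612 argWS_3643)

def argWS_3645 : Store := (.node 41143 (.node 41137 (.node 41134 (.node 41133 (.leaf 0xa0ab00a0a7) (.leaf 0xf0b0a0003)) (.node 41135 (.leaf 0x0) (.node 41136 (.leaf 0x4040901090005) (.leaf 0x0)))) (.node 41140 (.node 41138 (.leaf 0xb0b0a0a0004) (.node 41139 (.leaf 0xf0001) (.leaf 0xf0b0b0003))) (.node 41141 (.leaf 0x20000000300000202000701000c) (.node 41142 (.leaf 0x0) (.leaf 0xb0f0a0a0004))))) (.node 41148 (.node 41145 (.node 41144 (.leaf 0x0) (.leaf 0xa0b700a0b3)) (.node 41146 (.leaf 0xf0b0b0a0004) (.node 41147 (.leaf 0x0) (.leaf 0xf0b0b0a0a0005)))) (.node 41151 (.node 41149 (.leaf 0x0) (.node 41150 (.leaf 0x0) (.leaf 0xf0b0002))) (.node 41152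 (.leaf 0x40208020401050008) (.node 41153 (.leaf 0x0) (.leaf 0xd0b0b0003))))))

def argWS_3646 : Store := (.node 41165 (.node 41159 (.node 41156 (.node 41155 (.leaf 0x0) (.leaf 0xa0c2)) (.node 41157 (.leaf 0xb0f0002) (.node 41158 (.leaf 0x0) (.leaf 0xf0b0b0a0004)))) (.node 41162 (.node 41160 (.leaf 0x0) (.node 41161 (.leaf 0x0) (.leaf 0xe0a0a0003))) (.node 41163 (.leaf 0x702050202020703040103000b) (.node 41164 (.leaf 0x0) (.leaf 0xd0b0b0003))))) (.node 41171 (.node 41168 (.node 41166 (.leaf 0x0) (.node 41167 (.leaf 0xa0cd) (.leaf 0x903090000090802040105000b))) (.node 41169 (.leaf 0x0) (.node 41170 (.leaf 0xf0b0b0a0a0005) (.leaf 0x0)))) (.node 41174 (.node 41172 (.leaf 0xb0f0002) (.node 41173 (.leaf 0x0) (.leaf 0x0))) (.node 41175 (.leaf 0x90600000300000007) (.node 41176 (.leaf 0x0) (.leaf 0xb0b0002))))))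

def argWS_3647 : Store := (.node 41154 argWS_3645 argWS_3646)

def argWS_3648 : Store := (.node 41188 (.node 41182 (.node 41179 (.node 41178 (.leaf 0x0) (.leaf 0x902010901090202000701000b)) (.node 41180 (.leaf 0x0) (.node 41181 (.leaf 0xa0f0b0003) (.leaf 0x0)))) (.node 41185 (.node 41183 (.leaf 0xa0dd) (.node 41184 (.leaf 0xb0a0002) (.leaf 0x0))) (.node 41186 (.leaf 0xd0b0b0003) (.node 41187 (.leaf 0x0) (.leaf 0x0))))) (.node 41193 (.node 41190 (.node 41189 (.leaf 0xb0f0a0003) (.leaf 0xd0001)) (.node 41191 (.leaf 0x30700090206020802040105000c) (.node 41192 (.leaf 0x0) (.leaf 0x0)))) (.node 41196 (.node 41194 (.leaf 0xa0e800a0e5) (.node 41195 (.leaf 0xa0f0002) (.leaf 0x0))) (.node 41197 (.leaf 0xa0001) (.node 41198 (.leaf 0x0) (.leaf 0x0))))))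

def argWS_3649 : Store := (.node 41210 (.node 41204 (.node 41201 (.node 41200 (.leaf 0x30700000300000202000701000c) (.leaf 0x0)) (.node 41202 (.leaf 0xa0001) (.node 41203 (.leaf 0x0) (.leaf 0x7010904020202000701000b)))) (.node 41207 (.node 41205 (.leaf 0x0) (.node 41206 (.leaf 0xb0001) (.leaf 0x0))) (.node 41208 (.leaf 0x7010109000009000703040103000d) (.node 41209 (.leaf 0x0) (.leaf 0xf0001))))) (.node 41216 (.node 41213 (.node 41211 (.leaf 0x0) (.node 41212 (.leaf 0xa0fa00a0f6) (.leaf 0x503050206040202000701000c))) (.node 41214 (.leaf 0x0) (.node 41215 (.leaf 0xa0001) (.leaf 0x0)))) (.node 41219 (.node 41217 (.leaf 0x70400030306040802040105000c) (.node 41218 (.leaf 0x0) (.leaf 0xa0f0b0b0004))) (.node 41220 (.leaf 0xa0f0b0b0004) (.node 41221 (.leaf 0x6060106030500040802040105000d) (.leaf 0x0))))))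

def argWS_3650 : Store := (.node 41199 argWS_3648 argWS_3649)

def argWS_3651 : Store := (.node 41177 argWS_3647 argWS_3650)

def argWS_3652 : Store := (.node 41233 (.node 41227 (.node 41224 (.node 41223 (.leaf 0xa0001) (.leaf 0x0)) (.node 41225 (.leaf 0x205010102000006) (.node 41226 (.leaf 0x0) (.leaf 0xe0a0002)))) (.node 41230 (.node 41228 (.leaf 0x0) (.node 41229 (.leaf 0xa10b00a107) (.leaf 0xa0f0002))) (.node 41231 (.leaf 0x0) (.node 41232 (.leaf 0xb0b0a0a0004) (.leaf 0x0))))) (.node 41238 (.node 41235 (.node 41234 (.leaf 0x0) (.leaf 0xf0a0002)) (.node 41236 (.leaf 0x2020200020804000008) (.node 41237 (.leaf 0x0) (.leaf 0xb0001)))) (.node 41241 (.node 41239 (.leaf 0x0) (.node 41240 (.leaf 0x60601040005000703040103000c) (.leaf 0x0))) (.node 41242 (.leaf 0xb0a0002) (.node 41243 (.leaf 0x0) (.leaf 0xa11a00a116))))))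

def argWS_3653 : Store := (.node 41255 (.node 41249 (.node 41246 (.node 41245 (.leaf 0x40003010703060202000701000c) (.leaf 0x0)) (.node 41247 (.leaf 0xd0b0b0003) (.node 41248 (.leaf 0x0) (.leaf 0xe0d0002)))) (.node 41252 (.node 41250 (.leaf 0x0) (.node 41251 (.leaf 0x0) (.leaf 0xe0d0002))) (.node 41253 (.leaf 0x20106060802040105000a) (.node 41254 (.leaf 0x0) (.leaf 0xe0d0002))))) (.node 41261 (.node 41258 (.node 41256 (.leaf 0x0) (.node 41257 (.leaf 0x10903090806000007) (.leaf 0x0))) (.node 41259 (.leaf 0x0) (.node 41260 (.leaf 0xa12a00a127) (.leaf 0xb0f0002)))) (.node 41264 (.node 41262 (.leaf 0x0) (.node 41263 (.leaf 0xe0d0002) (.leaf 0x0))) (.node 41265 (.leaf 0x0) (.node 41266 (.leaf 0xa0a0002) (.leaf 0x1090300030306040802040105000d))))))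

def argWS_3654 : Store := (.node 41244 argWS_3652 argWS_3653)

def argWS_3655 : Store := (.node 41278 (.node 41272 (.node 41269 (.node 41268 (.leaf 0x0) (.leaf 0x0)) (.node 41270 (.leaf 0xa134) (.node 41271 (.leaf 0xe0d0002) (.leaf 0x0)))) (.node 41275 (.node 41273 (.leaf 0xa0f0b0b0004) (.node 41274 (.leaf 0x0) (.leaf 0x0))) (.node 41276 (.leaf 0xa0f0002) (.node 41277 (.leaf 0x7040308000703040103000a) (.leaf 0x0))))) (.node 41283 (.node 41280 (.node 41279 (.leaf 0xe0a0002) (.leaf 0x0)) (.node 41281 (.leaf 0xb0001) (.node 41282 (.leaf 0xa140006049) (.leaf 0xa0a0002)))) (.node 41286 (.node 41284 (.leaf 0x0) (.node 41285 (.leaf 0xe0a0002) (.leaf 0x0))) (.node 41287 (.leaf 0x0) (.node 41288 (.leaf 0xa0f0b0b0004) (.leaf 0x90104000408010802040105000c))))))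

def argWS_3656 : Store := (.node 41300 (.node 41294 (.node 41291 (.node 41290 (.leaf 0x0) (.leaf 0xb0f0002)) (.node 41292 (.leaf 0x0) (.node 41293 (.leaf 0xe0001) (.leaf 0xa14c00a14b)))) (.node 41297 (.node 41295 (.leaf 0x1020207030005) (.node 41296 (.leaf 0x0) (.leaf 0xb0a0a0003))) (.node 41298 (.leaf 0x0) (.node 41299 (.leaf 0xf0a0a0003) (.leaf 0x0))))) (.node 41306 (.node 41303 (.node 41301 (.leaf 0x0) (.node 41302 (.leaf 0x40402020900000802040105000c) (.leaf 0x0))) (.node 41304 (.leaf 0xf0b0b0003) (.node 41305 (.leaf 0x0) (.leaf 0x6030105020202010802040105000d)))) (.node 41309 (.node 41307 (.leaf 0x0) (.node 41308 (.leaf 0xe0a0002) (.leaf 0x0))) (.node 41310 (.leaf 0x80908050802040105000a) (.node 41311 (.leaf 0x0) (.leaf 0xf0b0b0a0004))))))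

def argWS_3657 : Store := (.node 41289 argWS_3655 argWS_3656)

def argWS_3658 : Store := (.node 41267 argWS_3654 argWS_3657)

def argWS_3659 : Store := (.node 41222 argWS_3651 argWS_3658)

def argWS_3660 : Store := (.node 41323 (.node 41317 (.node 41314 (.node 41313 (.leaf 0x0) (.leaf 0xa16000a15c)) (.node 41315 (.leaf 0xb0f0a0003) (.node 41316 (.leaf 0x0) (.leaf 0xe0d0002)))) (.node 41320 (.node 41318 (.leaf 0x0) (.node 41319 (.leaf 0x0) (.leaf 0xb0f0a0a0004))) (.node 41321 (.leaf 0x50106060802040105000a) (.node 41322 (.leaf 0x0) (.leaf 0xd0b0002))))) (.node 41328 (.node 41325 (.node 41324 (.leaf 0x0) (.leaf 0x7020901060802040105000a)) (.node 41326 (.leaf 0x0) (.node 41327 (.leaf 0xb0a0f0003) (.leaf 0x0)))) (.node 41331 (.node 41329 (.leaf 0xa16f00a16b) (.node 41330 (.leaf 0xa0a0002) (.leaf 0x0))) (.node 41332 (.leaf 0x50200030306040202000701000c) (.node 41333 (.leaf 0x0) (.leaf 0xe0a0002))))))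

def argWS_3661 : Store := (.node 41345 (.node 41339 (.node 41336 (.node 41335 (.leaf 0x701040005000703040103000b) (.leaf 0x0)) (.node 41337 (.leaf 0xb0b0a0003) (.node 41338 (.leaf 0x0) (.leaf 0xf0b0b0a0004)))) (.node 41342 (.node 41340 (.leaf 0xa17a) (.node 41341 (.leaf 0xe0a0a0003) (.leaf 0x0))) (.node 41343 (.leaf 0xb0f0002) (.node 41344 (.leaf 0x0) (.leaf 0x0))))) (.node 41351 (.node 41348 (.node 41346 (.leaf 0x4080703040103000a) (.node 41347 (.leaf 0x0) (.leaf 0xa0f0b0003))) (.node 41349 (.leaf 0x0) (.node 41350 (.leaf 0xe0d0002) (.leaf 0xa18500a184)))) (.node 41354 (.node 41352 (.leaf 0xe0a0a0003) (.node 41353 (.leaf 0x0) (.leaf 0xd0b0002))) (.node 41355 (.leaf 0x0) (.node 41356 (.leaf 0x0) (.leaf 0x8bf2))))))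

def argWS_3662 : Store := (.node 41334 argWS_3660 argWS_3661)

def argWS_3663 : Store := (.node 41368 (.node 41362 (.node 41359 (.node 41358 (.leaf 0x1020603000703040103000a) (.leaf 0x0)) (.node 41360 (.leaf 0xf0b0002) (.node 41361 (.leaf 0x0) (.leaf 0xb0a0f0003)))) (.node 41365 (.node 41363 (.leaf 0x0) (.node 41364 (.leaf 0x0) (.leaf 0x90106020702010007))) (.node 41366 (.leaf 0x0) (.node 41367 (.leaf 0xb0f0a0003) (.leaf 0x0))))) (.node 41373 (.node 41370 (.node 41369 (.leaf 0xb0b0a0a0004) (.leaf 0xa19800734a)) (.node 41371 (.leaf 0x0) (.node 41372 (.leaf 0xf0b0b0a0004) (.leaf 0x0)))) (.node 41376 (.node 41374 (.leaf 0xa0f0b0b0004) (.node 41375 (.leaf 0x0) (.leaf 0x0))) (.node 41377 (.leaf 0xe0a0a0003) (.node 41378 (.leaf 0x202000002080400000703040103000e) (.leaf 0x0))))))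

def argWS_3664 : Store := (.node 41390 (.node 41384 (.node 41381 (.node 41380 (.leaf 0xa0f0002) (.leaf 0x0)) (.node 41382 (.leaf 0x907010703060802040105000b) (.node 41383 (.leaf 0x0) (.leaf 0xe0a0002)))) (.node 41387 (.node 41385 (.leaf 0x0) (.node 41386 (.leaf 0xa1a800a1a4) (.leaf 0x8000900090202000701000a))) (.node 41388 (.leaf 0x0) (.node 41389 (.leaf 0xa0f0b0b0004) (.leaf 0x0))))) (.node 41396 (.node 41393 (.node 41391 (.leaf 0xb0f0a0a0004) (.node 41392 (.leaf 0x0) (.leaf 0x0))) (.node 41394 (.leaf 0x9030901090005) (.node 41395 (.leaf 0x0) (.leaf 0xa0f0b0003)))) (.node 41399 (.node 41397 (.leaf 0x0) (.node 41398 (.leaf 0xb0f0a0003) (.leaf 0xa1b500a1b4))) (.node 41400 (.leaf 0x604000000030000000703040103000e) (.node 41401 (.leaf 0x0) (.leaf 0xd0b0002))))))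

def argWS_3665 : Store := (.node 41379 argWS_3663 argWS_3664)

def argWS_3666 : Store := (.node 41357 argWS_3662 argWS_3665)

def argWS_3667 : Store := (.node 41413 (.node 41407 (.node 41404 (.node 41403 (.leaf 0x0) (.leaf 0x0)) (.node 41405 (.leaf 0xb0f0a0003) (.node 41406 (.leaf 0x2060106010500020802040105000d) (.leaf 0x0)))) (.node 41410 (.node 41408 (.leaf 0xe0001) (.node 41409 (.leaf 0x0) (.leaf 0x8020000020804000802040105000d))) (.node 41411 (.leaf 0x0) (.node 41412 (.leaf 0xb0f0a0003) (.leaf 0x0))))) (.node 41418 (.node 41415 (.node 41414 (.leaf 0xa1c400a1c0) (.leaf 0x202070206000202000701000b)) (.node 41416 (.leaf 0x0) (.node 41417 (.leaf 0xf0b0a0003) (.leaf 0x0)))) (.node 41421 (.node 41419 (.leaf 0x0) (.node 41420 (.leaf 0xe0d0002) (.leaf 0x102090806000802040105000b))) (.node 41422 (.leaf 0x0) (.node 41423 (.leaf 0xf0b0a0a0004) (.leaf 0x0))))))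

def argWS_3668 : Store := (.node 41435 (.node 41429 (.node 41426 (.node 41425 (.leaf 0x2010106060005) (.leaf 0x0)) (.node 41427 (.leaf 0xf0a0a0003) (.node 41428 (.leaf 0x0) (.leaf 0xa1d300a1cf)))) (.node 41432 (.node 41430 (.leaf 0x603090206020006) (.node 41431 (.leaf 0x0) (.leaf 0xb0001))) (.node 41433 (.leaf 0x0) (.node 41434 (.leaf 0xb0f0a0a0004) (.leaf 0x0))))) (.node 41441 (.node 41438 (.node 41436 (.leaf 0x0) (.node 41437 (.leaf 0x2000901090802040105000b) (.leaf 0x0))) (.node 41439 (.leaf 0x0) (.node 41440 (.leaf 0xd0b0b0003) (.leaf 0xb0f0a0003)))) (.node 41444 (.node 41442 (.leaf 0xa1e000a1df) (.node 41443 (.leaf 0xf0a0002) (.leaf 0x0))) (.node 41445 (.leaf 0x5020202010202000701000b) (.node 41446 (.leaf 0x0) (.leaf 0xf0a0002))))))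

def argWS_3669 : Store := (.node 41424 argWS_3667 argWS_3668)

def argWS_3670 : Store := (.node 41458 (.node 41452 (.node 41449 (.node 41448 (.leaf 0xa0f0002) (.leaf 0x5020102020900000802040105000d)) (.node 41450 (.leaf 0x0) (.node 41451 (.leaf 0xb0f0a0a0004) (.leaf 0x0)))) (.node 41455 (.node 41453 (.leaf 0xa0f0b0b0004) (.node 41454 (.leaf 0xa1ec00a1eb) (.leaf 0xb0b0a0003))) (.node 41456 (.leaf 0x0) (.node 41457 (.leaf 0x90003010102000008) (.leaf 0x0))))) (.node 41464 (.node 41461 (.node 41459 (.leaf 0xf0b0b0003) (.node 41460 (.leaf 0x4020508020401050008) (.leaf 0x0))) (.node 41462 (.leaf 0xb0a0002) (.node 41463 (.leaf 0x0) (.leaf 0xb0a0f0003)))) (.node 41467 (.node 41465 (.leaf 0xa1f7) (.node 41466 (.leaf 0xa0f0b0003) (.leaf 0x0))) (.node 41468 (.leaf 0x1070005020604000703040103000d) (.node 41469 (.leaf 0x0) (.leaf 0xb0b0a0a0004))))))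

def argWS_3671 : Store := (.node 41481 (.node 41475 (.node 41472 (.node 41471 (.leaf 0xd0001) (.leaf 0x1090306020702010202000701000d)) (.node 41473 (.leaf 0x0) (.node 41474 (.leaf 0xf0a0002) (.leaf 0x0)))) (.node 41478 (.node 41476 (.leaf 0xa202) (.node 41477 (.leaf 0x2020703000703040103000a) (.leaf 0x0))) (.node 41479 (.leaf 0xf0b0b0a0a0005) (.node 41480 (.leaf 0x0) (.leaf 0xb0b0a0a0004))))) (.node 41487 (.node 41484 (.node 41482 (.leaf 0x0) (.node 41483 (.leaf 0x0) (.leaf 0x30300030306040202000701000c))) (.node 41485 (.leaf 0x0) (.node 41486 (.leaf 0x0) (.leaf 0xa20d)))) (.node 41490 (.node 41488 (.leaf 0xb0a0f0003) (.node 41489 (.leaf 0x0) (.leaf 0x0))) (.node 41491 (.leaf 0xf0001) (.node 41492 (.leaf 0xb0b0a0a0004) (.leaf 0x20207030004))))))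

def argWS_3672 : Store := (.node 41470 argWS_3670 argWS_3671)

def argWS_3673 : Store := (.node 41447 argWS_3669 argWS_3672)

def argWS_3674 : Store := (.node 41402 argWS_3666 argWS_3673)

def argWS_3675 : Store := (.node 41312 argWS_3659 argWS_3674)

def argWS_3676 : Store := (.node 41504 (.node 41498 (.node 41495 (.node 41494 (.leaf 0x0) (.leaf 0xf0001)) (.node 41496 (.leaf 0x0) (.node 41497 (.leaf 0xa21700a213) (.leaf 0x402050901090202000701000b)))) (.node 41501 (.node 41499 (.leaf 0x0) (.node 41500 (.leaf 0xf0a0002) (.leaf 0x0))) (.node 41502 (.leaf 0xd0001) (.node 41503 (.leaf 0x0) (.leaf 0x0))))) (.node 41509 (.node 41506 (.node 41505 (.leaf 0xb0b0a0a0004) (.leaf 0xa0a0002)) (.node 41507 (.leaf 0xa22100a220) (.node 41508 (.leaf 0xa0a0002) (.leaf 0x0)))) (.node 41512 (.node 41510 (.leaf 0xa0f0002) (.node 41511 (.leaf 0x0) (.leaf 0x0))) (.node 41513 (.leaf 0x40000030306040008) (.node 41514 (.leaf 0x0) (.leaf 0xb0f0a0003))))))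

def argWS_3677 : Store := (.node 41526 (.node 41520 (.node 41517 (.node 41516 (.leaf 0x0) (.leaf 0xa0001)) (.node 41518 (.leaf 0x503010703060202000701000c) (.node 41519 (.leaf 0x0) (.leaf 0xf0a0002)))) (.node 41523 (.node 41521 (.leaf 0x0) (.node 41522 (.leaf 0xa23000a22c) (.leaf 0xa0001))) (.node 41524 (.leaf 0x0) (.node 41525 (.leaf 0x20103070009030007) (.leaf 0x0))))) (.node 41532 (.node 41529 (.node 41527 (.leaf 0xf0001) (.node 41528 (.leaf 0xa0f0b0003) (.leaf 0x1010102000802040105000a))) (.node 41530 (.leaf 0x0) (.node 41531 (.leaf 0xf0b0b0a0a0005) (.leaf 0x0)))) (.node 41535 (.node 41533 (.leaf 0x30401020703000703040103000c) (.node 41534 (.leaf 0x0) (.leaf 0xf0a0a0003))) (.node 41536 (.leaf 0x0) (.node 41537 (.leaf 0xa23f00a23b) (.leaf 0x50307020902000703040103000c))))))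

def argWS_3678 : Store := (.node 41515 argWS_3676 argWS_3677)

def argWS_3679 : Store := (.node 41549 (.node 41543 (.node 41540 (.node 41539 (.leaf 0x0) (.leaf 0xf0b0b0a0a0005)) (.node 41541 (.leaf 0x0) (.node 41542 (.leaf 0xa0f0b0b0004) (.leaf 0x0)))) (.node 41546 (.node 41544 (.leaf 0x0) (.node 41545 (.leaf 0x30507000903000703040103000c) (.leaf 0x0))) (.node 41547 (.leaf 0xa0f0b0003) (.node 41548 (.leaf 0x0) (.leaf 0x102010400050802040105000b))))) (.node 41554 (.node 41551 (.node 41550 (.leaf 0x0) (.leaf 0xa0f0b0b0004)) (.node 41552 (.leaf 0x0) (.node 41553 (.leaf 0xa24f00a24b) (.leaf 0x5000006020702010802040105000d)))) (.node 41557 (.node 41555 (.leaf 0x0) (.node 41556 (.leaf 0xe0d0002) (.leaf 0x0))) (.node 41558 (.leaf 0xa0f0b0003) (.node 41559 (.leaf 0x0) (.leaf 0x0))))))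

def argWS_3680 : Store := (.node 41571 (.node 41565 (.node 41562 (.node 41561 (.leaf 0xf0b0b0003) (.leaf 0x10101070306000703040103000c)) (.node 41563 (.leaf 0x0) (.node 41564 (.leaf 0xb0b0a0a0004) (.leaf 0x0)))) (.node 41568 (.node 41566 (.leaf 0xa25c) (.node 41567 (.leaf 0x602010207030006) (.leaf 0x0))) (.node 41569 (.leaf 0xf0b0b0a0004) (.node 41570 (.leaf 0x0) (.leaf 0xb0f0a0003))))) (.node 41577 (.node 41574 (.node 41572 (.leaf 0x0) (.node 41573 (.leaf 0x0) (.leaf 0xa0001))) (.node 41575 (.leaf 0x60106020702010802040105000c) (.node 41576 (.leaf 0x0) (.leaf 0xb0f0002)))) (.node 41580 (.node 41578 (.leaf 0x0) (.node 41579 (.leaf 0xf0a0002) (.leaf 0xa26a00a269))) (.node 41581 (.leaf 0xb0001) (.node 41582 (.leaf 0x0) (.leaf 0x1010904020005))))))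

def argWS_3681 : Store := (.node 41560 argWS_3679 argWS_3680)

def argWS_3682 : Store := (.node 41538 argWS_3678 argWS_3681)

def argWS_3683 : Store := (.node 41594 (.node 41588 (.node 41585 (.node 41584 (.leaf 0x0) (.leaf 0xf0b0b0003)) (.node 41586 (.leaf 0xe0001) (.node 41587 (.leaf 0xa0f0b0b0004) (.leaf 0xa272)))) (.node 41591 (.node 41589 (.leaf 0xd0b0b0003) (.node 41590 (.leaf 0x0) (.leaf 0xf0b0002))) (.node 41592 (.leaf 0x0) (.node 41593 (.leaf 0x0) (.leaf 0xf0b0b0a0a0005))))) (.node 41599 (.node 41596 (.node 41595 (.leaf 0x900070209020202000701000c) (.leaf 0x0)) (.node 41597 (.leaf 0xf0b0002) (.node 41598 (.leaf 0x0) (.leaf 0xa27d)))) (.node 41602 (.node 41600 (.leaf 0xe0001) (.node 41601 (.leaf 0x0) (.leaf 0xe0a0002))) (.node 41603 (.leaf 0x0) (.node 41604 (.leaf 0x0) (.leaf 0xb0b0a0a0004))))))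

def argWS_3684 : Store := (.node 41616 (.node 41610 (.node 41607 (.node 41606 (.leaf 0x800040002080400000703040103000e) (.leaf 0x0)) (.node 41608 (.leaf 0xd0b0b0003) (.node 41609 (.leaf 0x0) (.leaf 0x9ad400a288)))) (.node 41613 (.node 41611 (.leaf 0xa0f0b0003) (.node 41612 (.leaf 0x0) (.leaf 0xb0001))) (.node 41614 (.leaf 0x0) (.node 41615 (.leaf 0x0) (.leaf 0xb0f0002))))) (.node 41622 (.node 41619 (.node 41617 (.leaf 0x8030000020804000802040105000d) (.node 41618 (.leaf 0x0) (.leaf 0x0))) (.node 41620 (.leaf 0xb0a0002) (.node 41621 (.leaf 0xa29300a292) (.leaf 0x8000409080600000703040103000d)))) (.node 41625 (.node 41623 (.leaf 0x0) (.node 41624 (.leaf 0xb0001) (.leaf 0x0))) (.node 41626 (.leaf 0xb0f0a0a0004) (.node 41627 (.leaf 0x0) (.leaf 0x0))))))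

def argWS_3685 : Store := (.node 41605 argWS_3683 argWS_3684)

def argWS_3686 : Store := (.node 41639 (.node 41633 (.node 41630 (.node 41629 (.leaf 0x6010703060006) (.leaf 0x0)) (.node 41631 (.leaf 0x0) (.node 41632 (.leaf 0xb0b0a0a0004) (.leaf 0x5020009000009000703040103000d)))) (.node 41636 (.node 41634 (.leaf 0x0) (.node 41635 (.leaf 0xa0001) (.leaf 0x0))) (.node 41637 (.leaf 0xa2a300a29f) (.node 41638 (.leaf 0xb0b0a0a0004) (.leaf 0x0))))) (.node 41644 (.node 41641 (.node 41640 (.leaf 0xa0f0b0003) (.leaf 0x0)) (.node 41642 (.leaf 0x0) (.node 41643 (.leaf 0x40406020702010007) (.leaf 0x0)))) (.node 41647 (.node 41645 (.leaf 0xb0a0f0003) (.node 41646 (.leaf 0x0) (.leaf 0xf0b0b0003))) (.node 41648 (.leaf 0xa2ae00a2ad) (.node 41649 (.leaf 0xb0f0002) (.leaf 0x0))))))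

def argWS_3687 : Store := (.node 41661 (.node 41655 (.node 41652 (.node 41651 (.leaf 0x2040109000009000703040103000d) (.leaf 0x0)) (.node 41653 (.leaf 0xb0a0f0003) (.node 41654 (.leaf 0xf0a0a0003) (.leaf 0x202080007030401030009)))) (.node 41658 (.node 41656 (.leaf 0x0) (.node 41657 (.leaf 0xa0a0002) (.leaf 0x0))) (.node 41659 (.leaf 0xa2b90064e8) (.node 41660 (.leaf 0xf0b0a0003) (.leaf 0x0))))) (.node 41667 (.node 41664 (.node 41662 (.leaf 0x80200060207020703040103000c) (.node 41663 (.leaf 0x0) (.leaf 0xf0b0b0a0a0005))) (.node 41665 (.leaf 0xb0f0002) (.node 41666 (.leaf 0x0) (.leaf 0xe0d0002)))) (.node 41670 (.node 41668 (.leaf 0xa2c200a2c1) (.node 41669 (.leaf 0x50002) (.leaf 0x0))) (.node 41671 (.leaf 0xf0b0a0003) (.node 41672 (.leaf 0x0) (.leaf 0x30106030500040007))))))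

def argWS_3688 : Store := (.node 41650 argWS_3686 argWS_3687)

def argWS_3689 : Store := (.node 41628 argWS_3685 argWS_3688)

def argWS_3690 : Store := (.node 41583 argWS_3682 argWS_3689)

def argWS_3691 : Store := (.node 41684 (.node 41678 (.node 41675 (.node 41674 (.leaf 0x0) (.leaf 0xe0001)) (.node 41676 (.leaf 0x50000070206000202000701000c) (.node 41677 (.leaf 0x0) (.leaf 0xf0a0a0003)))) (.node 41681 (.node 41679 (.leaf 0x0) (.node 41680 (.leaf 0x2040306020702010008) (.leaf 0x0))) (.node 41682 (.leaf 0xb0a0a0003) (.node 41683 (.leaf 0x0) (.leaf 0xa2d2007aec))))) (.node 41689 (.node 41686 (.node 41685 (.leaf 0xb0a0a0003) (.leaf 0x0)) (.node 41687 (.leaf 0x4020509080600000703040103000d) (.node 41688 (.leaf 0x0) (.leaf 0xf0b0b0003)))) (.node 41692 (.node 41690 (.leaf 0xb0b0a0a0004) (.node 41691 (.leaf 0x905070308020401050009) (.leaf 0x0))) (.node 41693 (.leaf 0xb0f0a0a0004) (.node 41694 (.leaf 0x0) (.leaf 0xa2dd006639))))))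

def argWS_3692 : Store := (.node 41706 (.node 41700 (.node 41697 (.node 41696 (.leaf 0x60102010202090000000703040103000f) (.leaf 0x0)) (.node 41698 (.leaf 0xf0b0b0003) (.node 41699 (.leaf 0x0) (.leaf 0xb0f0002)))) (.node 41703 (.node 41701 (.leaf 0x0) (.node 41702 (.leaf 0x0) (.leaf 0xe0a0a0003))) (.node 41704 (.leaf 0x20202010908050802040105000c) (.node 41705 (.leaf 0x0) (.leaf 0x0))))) (.node 41712 (.node 41709 (.node 41707 (.leaf 0xa2e9009341) (.node 41708 (.leaf 0xb0b0002) (.leaf 0x0))) (.node 41710 (.leaf 0x70305090000090802040105000c) (.node 41711 (.leaf 0x0) (.leaf 0xf0b0a0003)))) (.node 41715 (.node 41713 (.leaf 0xb0b0002) (.node 41714 (.leaf 0xf0b0a0a0004) (.leaf 0x9f4a00a2f1))) (.node 41716 (.leaf 0xb0b0a0a0004) (.node 41717 (.leaf 0x0) (.leaf 0xe0001))))))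

def argWS_3693 : Store := (.node 41695 argWS_3691 argWS_3692)

def argWS_3694 : Store := (.node 41729 (.node 41723 (.node 41720 (.node 41719 (.leaf 0x0) (.leaf 0x0)) (.node 41721 (.leaf 0xb0a0f0003) (.node 41722 (.leaf 0x40106060004) (.leaf 0x0)))) (.node 41726 (.node 41724 (.leaf 0xb0f0a0a0004) (.node 41725 (.leaf 0x0) (.leaf 0x802000308000703040103000b))) (.node 41727 (.leaf 0x0) (.node 41728 (.leaf 0x0) (.leaf 0xf0a0002))))) (.node 41734 (.node 41731 (.node 41730 (.leaf 0xa30000a2ff) (.leaf 0x1030002020900000202000701000d)) (.node 41732 (.leaf 0x0) (.node 41733 (.leaf 0xb0a0002) (.leaf 0x0)))) (.node 41737 (.node 41735 (.leaf 0x707000903000703040103000c) (.node 41736 (.leaf 0x0) (.leaf 0xb0f0a0a0004))) (.node 41738 (.leaf 0x50305090109000703040103000c) (.node 41739 (.leaf 0x0) (.leaf 0xe0d0002))))))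

def argWS_3695 : Store := (.node 41751 (.node 41745 (.node 41742 (.node 41741 (.leaf 0x0) (.leaf 0xf0b0b0a0004)) (.node 41743 (.leaf 0xa30d00a30c) (.node 41744 (.leaf 0xa0f0002) (.leaf 0x0)))) (.node 41748 (.node 41746 (.leaf 0x20002070209020007) (.node 41747 (.leaf 0x0) (.leaf 0xf0001))) (.node 41749 (.leaf 0xf0b0b0a0a0005) (.node 41750 (.leaf 0xe0001) (.leaf 0xa315))))) (.node 41757 (.node 41754 (.node 41752 (.leaf 0xf0a0002) (.node 41753 (.leaf 0x0) (.leaf 0xe0a0002))) (.node 41755 (.leaf 0x0) (.node 41756 (.leaf 0x0) (.leaf 0xa0f0b0003)))) (.node 41760 (.node 41758 (.leaf 0xd0b0b0003) (.node 41759 (.leaf 0xa31d) (.leaf 0xa0a0002))) (.node 41761 (.leaf 0x0) (.node 41762 (.leaf 0xf0b0b0003) (.leaf 0x0))))))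

def argWS_3696 : Store := (.node 41740 argWS_3694 argWS_3695)

def argWS_3697 : Store := (.node 41718 argWS_3693 argWS_3696)

def argWS_3698 : Store := (.node 41774 (.node 41768 (.node 41765 (.node 41764 (.leaf 0x0) (.leaf 0xa0001)) (.node 41766 (.leaf 0x5020105020202010802040105000d) (.node 41767 (.leaf 0x0) (.leaf 0xf0b0a0003)))) (.node 41771 (.node 41769 (.leaf 0x0) (.node 41770 (.leaf 0xa328) (.leaf 0x50305090009000703040103000c))) (.node 41772 (.leaf 0x0) (.node 41773 (.leaf 0xf0b0a0003) (.leaf 0x0))))) (.node 41779 (.node 41776 (.node 41775 (.leaf 0xb0a0002) (.leaf 0x0)) (.node 41777 (.leaf 0x0) (.node 41778 (.leaf 0xb0f0a0003) (.leaf 0x60000000300000008)))) (.node 41782 (.node 41780 (.leaf 0x0) (.node 41781 (.leaf 0xf0b0b0003) (.leaf 0x0))) (.node 41783 (.leaf 0x202020901090802040105000b) (.node 41784 (.leaf 0x0) (.leaf 0xf0b0b0a0004))))))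

def argWS_3699 : Store := (.node 41796 (.node 41790 (.node 41787 (.node 41786 (.leaf 0x0) (.leaf 0xa33900a335)) (.node 41788 (.leaf 0x20206020702010202000701000c) (.node 41789 (.leaf 0x0) (.leaf 0x0)))) (.node 41793 (.node 41791 (.leaf 0xf0b0b0a0004) (.node 41792 (.leaf 0x0) (.leaf 0x0))) (.node 41794 (.leaf 0xb0a0f0003) (.node 41795 (.leaf 0x9060900090802040105000a) (.leaf 0x0))))) (.node 41802 (.node 41799 (.node 41797 (.leaf 0xb0b0002) (.node 41798 (.leaf 0x0) (.leaf 0xb0b0002))) (.node 41800 (.leaf 0xa34600a345) (.node 41801 (.leaf 0xd0b0b0003) (.leaf 0x0)))) (.node 41805 (.node 41803 (.leaf 0x9020804000202000701000a) (.node 41804 (.leaf 0x0) (.leaf 0xb0f0a0a0004))) (.node 41806 (.leaf 0x4020202010802040105000a) (.node 41807 (.leaf 0x0) (.leaf 0xb0001))))))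

def argWS_3700 : Store := (.node 41785 argWS_3698 argWS_3699)

def argWS_3701 : Store := (.node 41819 (.node 41813 (.node 41810 (.node 41809 (.leaf 0x0) (.leaf 0xa350008af7)) (.node 41811 (.leaf 0x309010902020007010009) (.node 41812 (.leaf 0x0) (.leaf 0xb0a0a0003)))) (.node 41816 (.node 41814 (.leaf 0x0) (.node 41815 (.leaf 0xf0b0b0003) (.leaf 0x0))) (.node 41817 (.leaf 0x0) (.node 41818 (.leaf 0xa0a0002) (.leaf 0x50201010904020802040105000c))))) (.node 41825 (.node 41822 (.node 41820 (.leaf 0x0) (.node 41821 (.leaf 0xa0001) (.leaf 0x0))) (.node 41823 (.leaf 0x307090000090202000701000b) (.node 41824 (.leaf 0x0) (.leaf 0xf0a0002)))) (.node 41828 (.node 41826 (.leaf 0x0) (.node 41827 (.leaf 0xa36100a35d) (.leaf 0x3070206030005))) (.node 41829 (.leaf 0x0) (.node 41830 (.leaf 0xb0b0002) (.leaf 0x0))))))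

def argWS_3702 : Store := (.node 41842 (.node 41836 (.node 41833 (.node 41832 (.leaf 0xf0a0002) (.leaf 0x0)) (.node 41834 (.leaf 0x0) (.node 41835 (.leaf 0xb0b0a0003) (.leaf 0xf0001)))) (.node 41839 (.node 41837 (.leaf 0xa36b) (.node 41838 (.leaf 0xf0a0002) (.leaf 0x0))) (.node 41840 (.leaf 0xd0b0002) (.node 41841 (.leaf 0x0) (.leaf 0x0))))) (.node 41848 (.node 41845 (.node 41843 (.leaf 0xa0f0b0003) (.node 41844 (.leaf 0x80000070206000202000701000c) (.leaf 0x0))) (.node 41846 (.leaf 0xa0001) (.node 41847 (.leaf 0x0) (.leaf 0xa0a0002)))) (.node 41851 (.node 41849 (.leaf 0xa37700a376) (.node 41850 (.leaf 0xf0b0b0a0004) (.leaf 0x0))) (.node 41852 (.leaf 0xb0f0a0003) (.node 41853 (.leaf 0xa0f0b0b0004) (.leaf 0x0))))))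

def argWS_3703 : Store := (.node 41831 argWS_3701 argWS_3702)

def argWS_3704 : Store := (.node 41808 argWS_3700 argWS_3703)

def argWS_3705 : Store := (.node 41763 argWS_3697 argWS_3704)

def argWS_3706 : Store := (.node 41673 argWS_3690 argWS_3705)

def argWS_3707 : Store := (.node 41493 argWS_3675 argWS_3706)

def argWS_3708 : Store := (.node 41132 argWS_3644 argWS_3707)

def argWS_3709 : Store := (.node 41865 (.node 41859 (.node 41856 (.node 41855 (.leaf 0x700040807030401030009) (.leaf 0x0)) (.node 41857 (.leaf 0xa0f0b0b0004) (.node 41858 (.leaf 0x0) (.leaf 0x202000901090802040105000b)))) (.node 41862 (.node 41860 (.leaf 0x0) (.node 41861 (.leaf 0xa0a0002) (.leaf 0x0))) (.node 41863 (.leaf 0x206010900090202000701000b) (.node 41864 (.leaf 0x0) (.leaf 0xf0b0b0003))))) (.node 41870 (.node 41867 (.node 41866 (.leaf 0x0) (.leaf 0xa38900a385)) (.node 41868 (.leaf 0xb0a0002) (.node 41869 (.leaf 0x0) (.leaf 0x402060408020401050009)))) (.node 41873 (.node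 41871 (.leaf 0x0) (.node 41872 (.leaf 0xf0001) (.leaf 0xa0f0b0b0004))) (.node 41874 (.leaf 0x701090000090802040105000b) (.node 41875 (.leaf 0x0) (.leaf 0xb0f0a0a0004))))))

def argWS_3710 : Store := (.node 41887 (.node 41881 (.node 41878 (.node 41877 (.leaf 0x0) (.leaf 0xf0b0b0a0a0005)) (.node 41879 (.leaf 0xa39500a394) (.node 41880 (.leaf 0x30900090802040105000a) (.leaf 0x0)))) (.node 41884 (.node 41882 (.leaf 0xb0a0a0003) (.node 41883 (.leaf 0x0) (.leaf 0x4000400090206020802040105000d))) (.node 41885 (.leaf 0x0) (.node 41886 (.leaf 0xd0b0002) (.leaf 0xf0001))))) (.node 41893 (.node 41890 (.node 41888 (.leaf 0x10301090806000802040105000c) (.node 41889 (.leaf 0x0) (.leaf 0xb0b0002))) (.node 41891 (.leaf 0x0) (.node 41892 (.leaf 0xa3a2) (.leaf 0xa0f0002)))) (.node 41896 (.node 41894 (.leaf 0x0) (.node 41895 (.leaf 0x0) (.leaf 0xa0001))) (.node 41897 (.leaf 0x501010904020802040105000b) (.node 41898 (.leaf 0x0) (.leaf 0xa0f0b0b0004))))))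

def argWS_3711 : Store := (.node 41876 argWS_3709 argWS_3710)

def argWS_3712 : Store := (.node 41910 (.node 41904 (.node 41901 (.node 41900 (.leaf 0x0) (.leaf 0xa3ab)) (.node 41902 (.leaf 0x502010904020202000701000b) (.node 41903 (.leaf 0x0) (.leaf 0xe0d0002)))) (.node 41907 (.node 41905 (.leaf 0x0) (.node 41906 (.leaf 0xf0b0b0a0004) (.leaf 0x0))) (.node 41908 (.leaf 0x0) (.node 41909 (.leaf 0xf0b0a0003) (.leaf 0x700030802020007010009))))) (.node 41915 (.node 41912 (.node 41911 (.leaf 0x0) (.leaf 0xb0a0f0003)) (.node 41913 (.leaf 0x0) (.node 41914 (.leaf 0x3040102010606000703040103000d) (.leaf 0x0)))) (.node 41918 (.node 41916 (.leaf 0xf0b0b0003) (.node 41917 (.leaf 0x0) (.leaf 0xa3bc00a3b8))) (.node 41919 (.leaf 0xb0f0a0003) (.node 41920 (.leaf 0x0) (.leaf 0xe0001))))))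

def argWS_3713 : Store := (.node 41932 (.node 41926 (.node 41923 (.node 41922 (.leaf 0x0) (.leaf 0x0)) (.node 41924 (.leaf 0xd0001) (.node 41925 (.leaf 0xf0b0b0a0004) (.leaf 0x7030401030008)))) (.node 41929 (.node 41927 (.leaf 0x0) (.node 41928 (.leaf 0xa0001) (.leaf 0x0))) (.node 41930 (.leaf 0xa3c800a3c4) (.node 41931 (.leaf 0x907000207030802040105000b) (.leaf 0x0))))) (.node 41938 (.node 41935 (.node 41933 (.leaf 0xb0f0002) (.node 41934 (.leaf 0x0) (.leaf 0xf0001))) (.node 41936 (.leaf 0x0) (.node 41937 (.leaf 0x0) (.leaf 0xf0b0b0003)))) (.node 41941 (.node 41939 (.leaf 0xf0a0002) (.node 41940 (.leaf 0xf0b0b0a0004) (.leaf 0xa3d300a3d2))) (.node 41942 (.leaf 0x107090109000703040103000b) (.node 41943 (.leaf 0x0) (.leaf 0xb0a0002))))))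

def argWS_3714 : Store := (.node 41921 argWS_3712 argWS_3713)

def argWS_3715 : Store := (.node 41899 argWS_3711 argWS_3714)

def argWS_3716 : Store := (.node 41955 (.node 41949 (.node 41946 (.node 41945 (.leaf 0x0) (.leaf 0xf0b0a0a0004)) (.node 41947 (.leaf 0x0) (.node 41948 (.leaf 0x0) (.leaf 0xf0b0a0003)))) (.node 41952 (.node 41950 (.leaf 0xd0b0002) (.node 41951 (.leaf 0xa3dd) (.leaf 0xe0a0002))) (.node 41953 (.leaf 0x0) (.node 41954 (.leaf 0x10201020106060007) (.leaf 0x0))))) (.node 41960 (.node 41957 (.node 41956 (.leaf 0xe0001) (.leaf 0xb0a0a0003)) (.node 41958 (.leaf 0xb0a0002) (.node 41959 (.leaf 0x0) (.leaf 0xa3e6)))) (.node 41963 (.node 41961 (.leaf 0xa0f0002) (.node 41962 (.leaf 0x0) (.leaf 0xb0f0002))) (.node 41964 (.leaf 0x0) (.node 41965 (.leaf 0x0) (.leaf 0xf0a0a0003))))))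

def argWS_3717 : Store := (.node 41977 (.node 41971 (.node 41968 (.node 41967 (.leaf 0x400070206000202000701000c) (.leaf 0x0)) (.node 41969 (.leaf 0xd0b0b0003) (.node 41970 (.leaf 0x0) (.leaf 0x1070000000300000802040105000d)))) (.node 41974 (.node 41972 (.leaf 0x0) (.node 41973 (.leaf 0x0) (.leaf 0xa3f400a3f1))) (.node 41975 (.leaf 0xa0f0002) (.node 41976 (.leaf 0x0) (.leaf 0xd0b0002))))) (.node 41983 (.node 41980 (.node 41978 (.leaf 0x0) (.node 41979 (.leaf 0x0) (.leaf 0xf0a0a0003))) (.node 41981 (.leaf 0x400050202020703040103000c) (.node 41982 (.leaf 0x0) (.leaf 0xb0b0002)))) (.node 41986 (.node 41984 (.leaf 0x0) (.node 41985 (.leaf 0xa3ff) (.leaf 0xf0b0a0a0004))) (.node 41987 (.leaf 0x0) (.node 41988 (.leaf 0xf0a0a0003) (.leaf 0x0))))))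

def argWS_3718 : Store := (.node 41966 argWS_3716 argWS_3717)

def argWS_3719 : Store := (.node 42000 (.node 41994 (.node 41991 (.node 41990 (.leaf 0x0) (.leaf 0xb0b0a0003)) (.node 41992 (.leaf 0x2060102000003010802040105000d) (.node 41993 (.leaf 0x0) (.leaf 0xf0b0a0a0004)))) (.node 41997 (.node 41995 (.leaf 0x0) (.node 41996 (.leaf 0xa40a) (.leaf 0x60400090000090202000701000c))) (.node 41998 (.leaf 0x0) (.node 41999 (.leaf 0xe0001) (.leaf 0x0))))) (.node 42005 (.node 42002 (.node 42001 (.leaf 0xe0d0002) (.leaf 0x0)) (.node 42003 (.leaf 0x0) (.node 42004 (.leaf 0x2090105020604000703040103000d) (.leaf 0x0)))) (.node 42008 (.node 42006 (.leaf 0xb0001) (.node 42007 (.leaf 0x0) (.leaf 0x60200060207020703040103000c))) (.node 42009 (.leaf 0x0) (.node 42010 (.leaf 0x0) (.leaf 0x90300090206020202000701000c))))))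

def argWS_3720 : Store := (.node 42022 (.node 42016 (.node 42013 (.node 42012 (.leaf 0x0) (.leaf 0xf0b0002)) (.node 42014 (.leaf 0x0) (.node 42015 (.leaf 0xa41d00a419) (.leaf 0xf0b0b0a0a0005)))) (.node 42019 (.node 42017 (.leaf 0x0) (.node 42018 (.leaf 0x20901070306000703040103000c) (.leaf 0x0))) (.node 42020 (.leaf 0xd0b0002) (.node 42021 (.leaf 0xb0b0a0003) (.leaf 0x602020000030703040103000b))))) (.node 42028 (.node 42025 (.node 42023 (.leaf 0x0) (.node 42024 (.leaf 0xf0b0b0a0a0005) (.leaf 0x0))) (.node 42026 (.leaf 0x2050205020202010202000701000d) (.node 42027 (.leaf 0x0) (.leaf 0xd0001)))) (.node 42031 (.node 42029 (.leaf 0x0) (.node 42030 (.leaf 0xd0b0b0003) (.leaf 0xa42d00a42c))) (.node 42032 (.leaf 0xb0a0f0003) (.node 42033 (.leaf 0x0) (.leaf 0x40400030306040202000701000c))))))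

def argWS_3721 : Store := (.node 42011 argWS_3719 argWS_3720)

def argWS_3722 : Store := (.node 41989 argWS_3718 argWS_3721)

def argWS_3723 : Store := (.node 41944 argWS_3715 argWS_3722)

def argWS_3724 : Store := (.node 42045 (.node 42039 (.node 42036 (.node 42035 (.leaf 0x0) (.leaf 0xa0f0002)) (.node 42037 (.leaf 0x107010908050006) (.node 42038 (.leaf 0x0) (.leaf 0xa0a0002)))) (.node 42042 (.node 42040 (.leaf 0x0) (.node 42041 (.leaf 0x40304070206000202000701000c) (.leaf 0x0))) (.node 42043 (.leaf 0xe0001) (.node 42044 (.leaf 0x0) (.leaf 0xa43b00a437))))) (.node 42050 (.node 42047 (.node 42046 (.leaf 0x4000306010500020008) (.leaf 0x0)) (.node 42048 (.leaf 0xd0001) (.node 42049 (.leaf 0x0) (.leaf 0xf0001)))) (.node 42053 (.node 42051 (.leaf 0x0) (.node 42052 (.leaf 0x0) (.leaf 0xf0b0a0003))) (.node 42054 (.leaf 0x400040000030000000703040103000e) (.node 42055 (.leaf 0x0) (.leaf 0xa0f0b0b0004))))))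

def argWS_3725 : Store := (.node 42067 (.node 42061 (.node 42058 (.node 42057 (.leaf 0x0) (.leaf 0xa44800a444)) (.node 42059 (.leaf 0x4090402000703040103000a) (.node 42060 (.leaf 0x0) (.leaf 0xb0f0a0a0004)))) (.node 42064 (.node 42062 (.leaf 0x0) (.node 42063 (.leaf 0xd0b0b0003) (.leaf 0x0))) (.node 42065 (.leaf 0x0) (.node 42066 (.leaf 0x6020108020401050008) (.leaf 0x0))))) (.node 42073 (.node 42070 (.node 42068 (.leaf 0xf0b0b0a0a0005) (.node 42069 (.leaf 0x0) (.leaf 0xf0a0a0003))) (.node 42071 (.leaf 0xb0f0a0003) (.node 42072 (.leaf 0xa45600a455) (.leaf 0xe0d0002)))) (.node 42076 (.node 42074 (.leaf 0x0) (.node 42075 (.leaf 0xb0b0a0003) (.leaf 0x0))) (.node 42077 (.leaf 0x0) (.node 42078 (.leaf 0xe0a0002) (.leaf 0xb0001))))))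

def argWS_3726 : Store := (.node 42056 argWS_3724 argWS_3725)

def argWS_3727 : Store := (.node 42090 (.node 42084 (.node 42081 (.node 42080 (.leaf 0xa45e001b91) (.leaf 0x107010703060802040105000b)) (.node 42082 (.leaf 0x0) (.node 42083 (.leaf 0xd0001) (.leaf 0x0)))) (.node 42087 (.node 42085 (.leaf 0xd0b0002) (.node 42086 (.leaf 0x0) (.leaf 0x0))) (.node 42088 (.leaf 0xa0001) (.node 42089 (.leaf 0x3040102010606000703040103000d) (.leaf 0x0))))) (.node 42095 (.node 42092 (.node 42091 (.leaf 0xa0001) (.leaf 0x0)) (.node 42093 (.leaf 0xb0b0a0003) (.node 42094 (.leaf 0xa46c00a46b) (.leaf 0xb0001)))) (.node 42098 (.node 42096 (.leaf 0x0) (.node 42097 (.leaf 0xf0001) (.leaf 0x0))) (.node 42099 (.leaf 0x0) (.node 42100 (.leaf 0x303090000090006) (.leaf 0x0))))))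

def argWS_3728 : Store := (.node 42112 (.node 42106 (.node 42103 (.node 42102 (.leaf 0xa0001) (.leaf 0x0)) (.node 42104 (.leaf 0xf0b0b0a0a0005) (.node 42105 (.leaf 0xf0001) (.leaf 0xa47800a477)))) (.node 42109 (.node 42107 (.leaf 0xf0b0a0a0004) (.node 42108 (.leaf 0x0) (.leaf 0x505020202010802040105000b))) (.node 42110 (.leaf 0x0) (.node 42111 (.leaf 0xe0d0002) (.leaf 0xa0001))))) (.node 42118 (.node 42115 (.node 42113 (.leaf 0xf0b0002) (.node 42114 (.leaf 0x103010206030802040105000b) (.leaf 0x0))) (.node 42116 (.leaf 0xb0001) (.node 42117 (.leaf 0x0) (.leaf 0xb0f0002)))) (.node 42121 (.node 42119 (.leaf 0xa48500a484) (.node 42120 (.leaf 0xf0b0002) (.leaf 0x0))) (.node 42122 (.leaf 0x0) (.node 42123 (.leaf 0x800000408010202000701000c) (.leaf 0x0))))))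

def argWS_3729 : Store := (.node 42101 argWS_3727 argWS_3728)

def argWS_3730 : Store := (.node 42079 argWS_3726 argWS_3729)

def argWS_3731 : Store := (.node 42135 (.node 42129 (.node 42126 (.node 42125 (.leaf 0xb0b0a0003) (.leaf 0x0)) (.node 42127 (.leaf 0xb0b0002) (.node 42128 (.leaf 0x0) (.leaf 0xb0b0a0a0004)))) (.node 42132 (.node 42130 (.leaf 0xa49000a48f) (.node 42131 (.leaf 0xb0f0a0003) (.leaf 0x0))) (.node 42133 (.leaf 0x2040401050005) (.node 42134 (.leaf 0x0) (.leaf 0xf0b0a0003))))) (.node 42140 (.node 42137 (.node 42136 (.leaf 0xb0b0002) (.leaf 0x0)) (.node 42138 (.leaf 0x90700000300000802040105000c) (.node 42139 (.leaf 0x0) (.leaf 0xa0001)))) (.node 42143 (.node 42141 (.leaf 0x0) (.node 42142 (.leaf 0xa49c) (.leaf 0xa0001))) (.node 42144 (.leaf 0x0) (.node 42145 (.leaf 0xf0b0b0a0004) (.leaf 0x0))))))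

def argWS_3732 : Store := (.node 42157 (.node 42151 (.node 42148 (.node 42147 (.leaf 0x0) (.leaf 0xa0f0b0003)) (.node 42149 (.leaf 0x107000903000703040103000b) (.node 42150 (.leaf 0x0) (.leaf 0xb0b0a0003)))) (.node 42154 (.node 42152 (.leaf 0x0) (.node 42153 (.leaf 0xb0f0a0a0004) (.leaf 0xa4a800a4a7))) (.node 42155 (.leaf 0xb0b0002) (.node 42156 (.leaf 0x0) (.leaf 0xa0f0b0003))))) (.node 42163 (.node 42160 (.node 42158 (.leaf 0x0) (.node 42159 (.leaf 0x0) (.leaf 0xb0b0002))) (.node 42161 (.leaf 0xb0f0a0a0004) (.node 42162 (.leaf 0xb0001) (.leaf 0xa4b100a4b0)))) (.node 42166 (.node 42164 (.leaf 0xf0a0002) (.node 42165 (.leaf 0x0) (.leaf 0xe0a0002))) (.node 42167 (.leaf 0x0) (.node 42168 (.leaf 0x0) (.leaf 0xf0a0002))))))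

def argWS_3733 : Store := (.node 42146 argWS_3731 argWS_3732)

def argWS_3734 : Store := (.node 42180 (.node 42174 (.node 42171 (.node 42170 (.leaf 0xe0a0002) (.leaf 0x9030002010606000703040103000d)) (.node 42172 (.leaf 0x0) (.node 42173 (.leaf 0xa0f0b0003) (.leaf 0x0)))) (.node 42177 (.node 42175 (.leaf 0xa4bd00a4b9) (.node 42176 (.leaf 0xb0b0002) (.leaf 0x0))) (.node 42178 (.leaf 0xf0b0b0a0a0005) (.node 42179 (.leaf 0x0) (.leaf 0x0))))) (.node 42185 (.node 42182 (.node 42181 (.leaf 0xa0001) (.leaf 0x400090206020802040105000b)) (.node 42183 (.leaf 0x0) (.node 42184 (.leaf 0xa0001) (.leaf 0x0)))) (.node 42188 (.node 42186 (.leaf 0xa4c8) (.node 42187 (.leaf 0xb0b0002) (.leaf 0x0))) (.node 42189 (.leaf 0xd0b0002) (.node 42190 (.leaf 0x0) (.leaf 0x0))))))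

def argWS_3735 : Store := (.node 42202 (.node 42196 (.node 42193 (.node 42192 (.leaf 0x20403040005000703040103000c) (.leaf 0x0)) (.node 42194 (.leaf 0xb0f0002) (.node 42195 (.leaf 0x0) (.leaf 0x8000002000003010202000701000d)))) (.node 42199 (.node 42197 (.leaf 0x0) (.node 42198 (.leaf 0xf0b0002) (.leaf 0x0))) (.node 42200 (.leaf 0xa4d600a4d2) (.node 42201 (.leaf 0xb0a0002) (.leaf 0x0))))) (.node 42208 (.node 42205 (.node 42203 (.leaf 0xb0f0a0003) (.node 42204 (.leaf 0x0) (.leaf 0x0))) (.node 42206 (.leaf 0xe0a0002) (.node 42207 (.leaf 0xf0a0a0003) (.leaf 0x20605020604000703040103000c)))) (.node 42211 (.node 42209 (.leaf 0x0) (.node 42210 (.leaf 0xf0b0b0003) (.leaf 0x0))) (.node 42212 (.leaf 0xa4e200a4de) (.node 42213 (.leaf 0x107070206000006) (.leaf 0x0))))))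

def argWS_3736 : Store := (.node 42191 argWS_3734 argWS_3735)

def argWS_3737 : Store := (.node 42169 argWS_3733 argWS_3736)

def argWS_3738 : Store := (.node 42124 argWS_3730 argWS_3737)

def argWS_3739 : Store := (.node 42034 argWS_3723 argWS_3738)

def argWS_3740 : Store := (.node 42225 (.node 42219 (.node 42216 (.node 42215 (.leaf 0xb0f0002) (.leaf 0x0)) (.node 42217 (.leaf 0xa0f0002) (.node 42218 (.leaf 0x0) (.leaf 0x0)))) (.node 42222 (.node 42220 (.leaf 0xd0b0002) (.node 42221 (.leaf 0x8000703060005) (.leaf 0x0))) (.node 42223 (.leaf 0xf0a0a0003) (.node 42224 (.leaf 0x0) (.leaf 0xd0001))))) (.node 42230 (.node 42227 (.node 42226 (.leaf 0xa4f000a4ef) (.leaf 0xd0b0b0003)) (.node 42228 (.leaf 0x0) (.node 42229 (.leaf 0x301070206000202000701000b) (.leaf 0x0)))) (.node 42233 (.node 42231 (.leaf 0xe0a0a0003) (.node 42232 (.leaf 0xf0b0a0a0004) (.leaf 0xb0b0002))) (.node 42234 (.leaf 0xa4f8) (.node 42235 (.leaf 0xf0a0002) (.leaf 0x0))))))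

def argWS_3741 : Store := (.node 42247 (.node 42241 (.node 42238 (.node 42237 (.leaf 0xf0b0a0a0004) (.leaf 0x0)) (.node 42239 (.leaf 0x0) (.node 42240 (.leaf 0x1050002) (.leaf 0x0)))) (.node 42244 (.node 42242 (.leaf 0xf0b0a0003) (.node 42243 (.leaf 0x0) (.leaf 0xa12c))) (.node 42245 (.leaf 0x0) (.node 42246 (.leaf 0x7030507020600000703040103000d) (.leaf 0x0))))) (.node 42253 (.node 42250 (.node 42248 (.leaf 0xa0001) (.node 42249 (.leaf 0xe0d0002) (.leaf 0xd0b0b0003))) (.node 42251 (.leaf 0x502080400000703040103000b) (.node 42252 (.leaf 0x0) (.leaf 0xd0b0002)))) (.node 42256 (.node 42254 (.leaf 0x0) (.node 42255 (.leaf 0xb0b0002) (.leaf 0xa50e00a50d))) (.node 42257 (.leaf 0xa0f0002) (.node 42258 (.leaf 0x0) (.leaf 0xf0001))))))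

def argWS_3742 : Store := (.node 42236 argWS_3740 argWS_3741)

def argWS_3743 : Store := (.node 42270 (.node 42264 (.node 42261 (.node 42260 (.leaf 0x0) (.leaf 0x0)) (.node 42262 (.leaf 0x601010904020006) (.node 42263 (.leaf 0x0) (.leaf 0xa0001)))) (.node 42267 (.node 42265 (.leaf 0x0) (.node 42266 (.leaf 0x9050300090206020202000701000d) (.leaf 0x0))) (.node 42268 (.leaf 0xf0001) (.node 42269 (.leaf 0x0) (.leaf 0xa51c))))) (.node 42275 (.node 42272 (.node 42271 (.leaf 0xf0b0b0a0004) (.leaf 0x0)) (.node 42273 (.leaf 0xf0b0b0a0a0005) (.node 42274 (.leaf 0x0) (.leaf 0x0)))) (.node 42278 (.node 42276 (.leaf 0xb0f0a0a0004) (.node 42277 (.leaf 0x5090009000703040103000a) (.leaf 0x0))) (.node 42279 (.leaf 0xd0b0b0003) (.node 42280 (.leaf 0x0) (.leaf 0xd0001))))))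

def argWS_3744 : Store := (.node 42292 (.node 42286 (.node 42283 (.node 42282 (.leaf 0xa52800a527) (.leaf 0xf0b0002)) (.node 42284 (.leaf 0x0) (.node 42285 (.leaf 0x80000030306040802040105000d) (.leaf 0x0)))) (.node 42289 (.node 42287 (.leaf 0xf0b0002) (.node 42288 (.leaf 0xe0001) (.leaf 0x40206040004))) (.node 42290 (.leaf 0x0) (.node 42291 (.leaf 0xf0b0b0a0004) (.leaf 0x0))))) (.node 42298 (.node 42295 (.node 42293 (.leaf 0xf0b0b0a0a0005) (.node 42294 (.leaf 0xa53400a533) (.leaf 0xb0b0002))) (.node 42296 (.leaf 0x0) (.node 42297 (.leaf 0x0) (.leaf 0xa0f0b0b0004)))) (.node 42301 (.node 42299 (.leaf 0xa0f0002) (.node 42300 (.leaf 0x307090806000202000701000b) (.leaf 0x0))) (.node 42302 (.leaf 0xf0b0b0a0a0005) (.node 42303 (.leaf 0x0) (.leaf 0xa53e00a53a))))))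

def argWS_3745 : Store := (.node 42281 argWS_3743 argWS_3744)

def argWS_3746 : Store := (.node 42259 argWS_3742 argWS_3745)

def argWS_3747 : Store := (.node 42315 (.node 42309 (.node 42306 (.node 42305 (.leaf 0xf0b0a0a0004) (.leaf 0x0)) (.node 42307 (.leaf 0x905030308000703040103000b) (.node 42308 (.leaf 0x0) (.leaf 0xb0001)))) (.node 42312 (.node 42310 (.leaf 0xa0f0b0b0004) (.node 42311 (.leaf 0x3030604000703040103000d) (.leaf 0x0))) (.node 42313 (.leaf 0xb0a0002) (.node 42314 (.leaf 0x0) (.leaf 0xa549))))) (.node 42320 (.node 42317 (.node 42316 (.leaf 0x702040005000703040103000b) (.leaf 0x0)) (.node 42318 (.leaf 0x0) (.node 42319 (.leaf 0xb0f0a0a0004) (.leaf 0x0)))) (.node 42323 (.node 42321 (.leaf 0x0) (.node 42322 (.leaf 0xe0d0002) (.leaf 0xb0f0002))) (.node 42324 (.leaf 0xe0a0002) (.node 42325 (.leaf 0xa55300a552) (.leaf 0x201010908050006))))))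

def argWS_3748 : Store := (.node 42337 (.node 42331 (.node 42328 (.node 42327 (.leaf 0x0) (.leaf 0xf0b0b0a0004)) (.node 42329 (.leaf 0x0) (.node 42330 (.leaf 0xb0f0a0003) (.leaf 0x0)))) (.node 42334 (.node 42332 (.leaf 0x0) (.node 42333 (.leaf 0x7000400050005) (.leaf 0x0))) (.node 42335 (.leaf 0xb0b0a0a0004) (.node 42336 (.leaf 0x0) (.leaf 0xb0b0a0003))))) (.node 42343 (.node 42340 (.node 42338 (.leaf 0xa560) (.node 42339 (.leaf 0xf0b0b0003) (.leaf 0x0))) (.node 42341 (.leaf 0x60105020202010202000701000c) (.node 42342 (.leaf 0x0) (.leaf 0xa0a0002)))) (.node 42346 (.node 42344 (.leaf 0xb0b0a0a0004) (.node 42345 (.leaf 0xd0b0002) (.leaf 0x0))) (.node 42347 (.leaf 0xa56900a568) (.node 42348 (.leaf 0xd0001) (.leaf 0x0))))))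

def argWS_3749 : Store := (.node 42326 argWS_3747 argWS_3748)

def argWS_3750 : Store := (.node 42360 (.node 42354 (.node 42351 (.node 42350 (.leaf 0xa0a0002) (.leaf 0x0)) (.node 42352 (.leaf 0x0) (.node 42353 (.leaf 0xd0b0002) (.leaf 0x907000004080703040103000b)))) (.node 42357 (.node 42355 (.leaf 0x0) (.node 42356 (.leaf 0xf0b0b0a0a0005) (.leaf 0x0))) (.node 42358 (.leaf 0xf0b0b0003) (.node 42359 (.leaf 0xa57500a574) (.leaf 0x500000004080703040103000b))))) (.node 42365 (.node 42362 (.node 42361 (.leaf 0x0) (.leaf 0xf0b0002)) (.node 42363 (.leaf 0x0) (.node 42364 (.leaf 0xb0b0002) (.leaf 0x0)))) (.node 42368 (.node 42366 (.leaf 0x0) (.node 42367 (.leaf 0xf0b0002) (.leaf 0xb0b0002))) (.node 42369 (.leaf 0xa57f) (.node 42370 (.leaf 0x20205020202010202000701000c) (.leaf 0x0))))))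

def argWS_3751 : Store := (.node 42382 (.node 42376 (.node 42373 (.node 42372 (.leaf 0xf0b0a0003) (.leaf 0x0)) (.node 42374 (.leaf 0xf0b0002) (.node 42375 (.leaf 0x0) (.leaf 0x0)))) (.node 42379 (.node 42377 (.leaf 0xa0a0002) (.node 42378 (.leaf 0xb0b0a0003) (.leaf 0xa589))) (.node 42380 (.leaf 0xb0b0a0003) (.node 42381 (.leaf 0x0) (.leaf 0xe0a0a0003))))) (.node 42388 (.node 42385 (.node 42383 (.leaf 0x0) (.node 42384 (.leaf 0x0) (.leaf 0x0))) (.node 42386 (.leaf 0x0) (.node 42387 (.leaf 0x0) (.leaf 0xa0f0b0003)))) (.node 42391 (.node 42389 (.leaf 0xb0f0a0003) (.node 42390 (.leaf 0xf0b0b0003) (.leaf 0xa0a0002))) (.node 42392 (.leaf 0xf0a0002) (.node 42393 (.leaf 0xe0d0002) (.leaf 0x20901070206000007))))))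

def argWS_3752 : Store := (.node 42371 argWS_3750 argWS_3751)

def argWS_3753 : Store := (.node 42349 argWS_3749 argWS_3752)

def argWS_3754 : Store := (.node 42304 argWS_3746 argWS_3753)

def argWS_3755 : Store := (.node 42405 (.node 42399 (.node 42396 (.node 42395 (.leaf 0x0) (.leaf 0xd0001)) (.node 42397 (.leaf 0x0) (.node 42398 (.leaf 0xa59c) (.leaf 0xf0a0a0003)))) (.node 42402 (.node 42400 (.leaf 0x0) (.node 42401 (.leaf 0xf0a0002) (.leaf 0x0))) (.node 42403 (.leaf 0x0) (.node 42404 (.leaf 0xa0f0002) (.leaf 0x8020005020202010008))))) (.node 42410 (.node 42407 (.node 42406 (.leaf 0x0) (.leaf 0x0)) (.node 42408 (.leaf 0xf0b0a0003) (.node 42409 (.leaf 0xa5a700a5a6) (.leaf 0x500000207020007010009)))) (.node 42413 (.node 42411 (.leaf 0x0) (.node 42412 (.leaf 0xb0b0002) (.leaf 0x0))) (.node 42414 (.leaf 0xa0f0002) (.node 42415 (.leaf 0x0) (.leaf 0x0))))))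

def argWS_3756 : Store := (.node 42427 (.node 42421 (.node 42418 (.node 42417 (.leaf 0xd0b0002) (.leaf 0xf0b0a0a0004)) (.node 42419 (.leaf 0xf0b0b0a0a0005) (.node 42420 (.leaf 0xb0f0a0a0004) (.leaf 0x8bbd00a5b3)))) (.node 42424 (.node 42422 (.leaf 0x700000308000703040103000b) (.node 42423 (.leaf 0x0) (.leaf 0xf0b0b0a0004))) (.node 42425 (.leaf 0x0) (.node 42426 (.leaf 0xf0001) (.leaf 0x0))))) (.node 42433 (.node 42430 (.node 42428 (.leaf 0x0) (.node 42429 (.leaf 0x1020106060202000701000a) (.leaf 0x0))) (.node 42431 (.leaf 0xe0a0002) (.node 42432 (.leaf 0x0) (.leaf 0xf0b0b0a0a0005)))) (.node 42436 (.node 42434 (.leaf 0xa5c0) (.node 42435 (.leaf 0xf0b0b0a0004) (.leaf 0x0))) (.node 42437 (.leaf 0x7020900090802040105000a) (.node 42438 (.leaf 0x0) (.leaf 0xf0b0a0a0004))))))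

def argWS_3757 : Store := (.node 42416 argWS_3755 argWS_3756)

def argWS_3758 : Store := (.node 42450 (.node 42444 (.node 42441 (.node 42440 (.leaf 0xb0f0a0a0004) (.leaf 0xb0a0f0003)) (.node 42442 (.leaf 0xa0f0b0b0004) (.node 42443 (.leaf 0xa5c9005f5e) (.leaf 0xf0b0002)))) (.node 42447 (.node 42445 (.leaf 0x0) (.node 42446 (.leaf 0xb0f0a0003) (.leaf 0x0))) (.node 42448 (.leaf 0x0) (.node 42449 (.leaf 0xf0001) (.leaf 0x1030103010102000202000701000d))))) (.node 42455 (.node 42452 (.node 42451 (.leaf 0x0) (.leaf 0x0)) (.node 42453 (.leaf 0x8030000000300000008) (.node 42454 (.leaf 0x0) (.leaf 0xb0a0002)))) (.node 42458 (.node 42456 (.leaf 0x0) (.node 42457 (.leaf 0xa5d700a5d3) (.leaf 0xf0b0b0a0a0005))) (.node 42459 (.leaf 0x0) (.node 42460 (.leaf 0xb0a0f0003) (.leaf 0x0))))))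

def argWS_3759 : Store := (.node 42472 (.node 42466 (.node 42463 (.node 42462 (.leaf 0x0) (.leaf 0x90400090206020202000701000c)) (.node 42464 (.leaf 0x0) (.node 42465 (.leaf 0xe0d0002) (.leaf 0x0)))) (.node 42469 (.node 42467 (.leaf 0xa0f0b0003) (.node 42468 (.leaf 0xa5e2) (.leaf 0xb0b0002))) (.node 42470 (.leaf 0x0) (.node 42471 (.leaf 0xd0b0b0003) (.leaf 0x0))))) (.node 42478 (.node 42475 (.node 42473 (.leaf 0x0) (.node 42474 (.leaf 0x701010900090202000701000b) (.leaf 0x0))) (.node 42476 (.leaf 0xf0b0a0003) (.node 42477 (.leaf 0x0) (.leaf 0x957100a5ec)))) (.node 42481 (.node 42479 (.leaf 0xf0001) (.node 42480 (.leaf 0x0) (.leaf 0xe0001))) (.node 42482 (.leaf 0x0) (.node 42483 (.leaf 0x0) (.leaf 0xf0b0a0003))))))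

def argWS_3760 : Store := (.node 42461 argWS_3758 argWS_3759)

def argWS_3761 : Store := (.node 42439 argWS_3757 argWS_3760)

def argWS_3762 : Store := (.node 42495 (.node 42489 (.node 42486 (.node 42485 (.leaf 0xf0b0002) (.leaf 0xf0b0002)) (.node 42487 (.leaf 0xa0f0b0b0004) (.node 42488 (.leaf 0xa5f600a5f5) (.leaf 0x506030007030401030009)))) (.node 42492 (.node 42490 (.leaf 0x0) (.node 42491 (.leaf 0xf0b0b0003) (.leaf 0x0))) (.node 42493 (.leaf 0xd0001) (.node 42494 (.leaf 0x0) (.leaf 0x0))))) (.node 42500 (.node 42497 (.node 42496 (.leaf 0xf0b0b0003) (.leaf 0xb0b0a0a0004)) (.node 42498 (.leaf 0xb0001) (.node 42499 (.leaf 0x20703060005) (.leaf 0x0)))) (.node 42503 (.node 42501 (.leaf 0xb0f0a0a0004) (.node 42502 (.leaf 0x0) (.leaf 0x101040005000703040103000b))) (.node 42504 (.leaf 0x0) (.node 42505 (.leaf 0xf0b0b0a0a0005) (.leaf 0x0))))))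

def argWS_3763 : Store := (.node 42517 (.node 42511 (.node 42508 (.node 42507 (.leaf 0x108040002020007010009) (.leaf 0x0)) (.node 42509 (.leaf 0xa0a0002) (.node 42510 (.leaf 0x0) (.leaf 0xa60d00a609)))) (.node 42514 (.node 42512 (.leaf 0x0) (.node 42513 (.leaf 0xe0001) (.leaf 0x0))) (.node 42515 (.leaf 0x6000000030306040802040105000d) (.node 42516 (.leaf 0x0) (.leaf 0xb0a0a0003))))) (.node 42523 (.node 42520 (.node 42518 (.leaf 0xf0b0a0003) (.node 42519 (.leaf 0xf0b0a0a0004) (.leaf 0x914000a616))) (.node 42521 (.leaf 0xe0001) (.node 42522 (.leaf 0x0) (.leaf 0xe0a0a0003)))) (.node 42526 (.node 42524 (.leaf 0x0) (.node 42525 (.leaf 0x0) (.leaf 0xb0a0002))) (.node 42527 (.leaf 0xa593001ed2) (.node 42528 (.leaf 0xb0b0a0a0004) (.leaf 0x0))))))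

def argWS_3764 : Store := (.node 42506 argWS_3762 argWS_3763)

def argWS_3765 : Store := (.node 42540 (.node 42534 (.node 42531 (.node 42530 (.leaf 0xf0001) (.leaf 0x0)) (.node 42532 (.leaf 0x0) (.node 42533 (.leaf 0x60201090000090007) (.leaf 0x0)))) (.node 42537 (.node 42535 (.leaf 0xd0b0002) (.node 42536 (.leaf 0x0) (.leaf 0xa082))) (.node 42538 (.leaf 0xa0001) (.node 42539 (.leaf 0x0) (.leaf 0xb0b0a0003))))) (.node 42546 (.node 42543 (.node 42541 (.leaf 0x0) (.node 42542 (.leaf 0x0) (.leaf 0xa0f0b0b0004))) (.node 42544 (.leaf 0xf0a0002) (.node 42545 (.leaf 0xb0f0a0a0004) (.leaf 0x6010201020702000701000a)))) (.node 42549 (.node 42547 (.leaf 0x0) (.node 42548 (.leaf 0xb0001) (.leaf 0x0))) (.node 42550 (.leaf 0xd0b0002) (.node 42551 (.leaf 0xa63500a634) (.leaf 0x702010703060802040105000b))))))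

def argWS_3766 : Store := (.node 42563 (.node 42557 (.node 42554 (.node 42553 (.leaf 0x0) (.leaf 0xf0b0b0003)) (.node 42555 (.leaf 0x0) (.node 42556 (.leaf 0xb0f0a0003) (.leaf 0x0)))) (.node 42560 (.node 42558 (.leaf 0x0) (.node 42559 (.leaf 0x2020206020702010202000701000d) (.leaf 0x0))) (.node 42561 (.leaf 0xb0f0a0a0004) (.node 42562 (.leaf 0x0) (.leaf 0xe0d0002))))) (.node 42569 (.node 42566 (.node 42564 (.leaf 0x20702020900000202000701000c) (.node 42565 (.leaf 0x0) (.leaf 0xe0d0002))) (.node 42567 (.leaf 0x0) (.node 42568 (.leaf 0xa64600a642) (.leaf 0xf0b0a0a0004)))) (.node 42572 (.node 42570 (.leaf 0x0) (.node 42571 (.leaf 0x0) (.leaf 0xa0f0002))) (.node 42573 (.leaf 0x204010900090006) (.node 42574 (.leaf 0x0) (.leaf 0xe0a0a0003))))))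

def argWS_3767 : Store := (.node 42552 argWS_3765 argWS_3766)

def argWS_3768 : Store := (.node 42529 argWS_3764 argWS_3767)

def argWS_3769 : Store := (.node 42484 argWS_3761 argWS_3768)

def argWS_3770 : Store := (.node 42394 argWS_3754 argWS_3769)

def argWS_3771 : Store := (.node 42214 argWS_3739 argWS_3770)

def argWS_3772 : Store := (.node 42586 (.node 42580 (.node 42577 (.node 42576 (.leaf 0x0) (.leaf 0xf0b0b0a0004)) (.node 42578 (.leaf 0xa650) (.node 42579 (.leaf 0xf0b0002) (.leaf 0x0)))) (.node 42583 (.node 42581 (.leaf 0x20401070209020802040105000c) (.node 42582 (.leaf 0x0) (.leaf 0xb0f0002))) (.node 42584 (.leaf 0xb0f0a0003) (.node 42585 (.leaf 0xf0b0b0003) (.leaf 0xa658))))) (.node 42591 (.node 42588 (.node 42587 (.leaf 0xa0a0002) (.leaf 0x0)) (.node 42589 (.leaf 0x0) (.node 42590 (.leaf 0xa0f0b0003) (.leaf 0xf0a0a0003)))) (.node 42594 (.node 42592 (.leaf 0x400070009030007) (.node 42593 (.leaf 0x0) (.leaf 0xf0b0002))) (.node 42595 (.leaf 0x0)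 (.node 42596 (.leaf 0x7f8300a662) (.leaf 0xb0a0f0003))))))

def argWS_3773 : Store := (.node 42608 (.node 42602 (.node 42599 (.node 42598 (.leaf 0x0) (.leaf 0xb0f0a0a0004)) (.node 42600 (.leaf 0x0) (.node 42601 (.leaf 0x0) (.leaf 0x403010102000202000701000c)))) (.node 42605 (.node 42603 (.leaf 0x0) (.node 42604 (.leaf 0xd0001) (.leaf 0x0))) (.node 42606 (.leaf 0x20903080004) (.node 42607 (.leaf 0x0) (.leaf 0xd0b0b0003))))) (.node 42614 (.node 42611 (.node 42609 (.leaf 0x0) (.node 42610 (.leaf 0x501010904020202000701000b) (.leaf 0x0))) (.node 42612 (.leaf 0x0) (.node 42613 (.leaf 0xa67300a670) (.leaf 0xf0b0b0003)))) (.node 42617 (.node 42615 (.leaf 0x0) (.node 42616 (.leaf 0x202020102020007010009) (.leaf 0x0))) (.node 42618 (.leaf 0xf0b0a0003) (.node 42619 (.leaf 0xa0f0b0003) (.leaf 0x702010703060006))))))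

def argWS_3774 : Store := (.node 42597 argWS_3772 argWS_3773)

def argWS_3775 : Store := (.node 42631 (.node 42625 (.node 42622 (.node 42621 (.leaf 0x0) (.leaf 0xf0b0b0a0a0005)) (.node 42623 (.leaf 0x0) (.node 42624 (.leaf 0xb0001) (.leaf 0xa67f00a67e)))) (.node 42628 (.node 42626 (.leaf 0x0) (.node 42627 (.leaf 0x0) (.leaf 0xe0001))) (.node 42629 (.leaf 0x10301090402000703040103000c) (.node 42630 (.leaf 0x0) (.leaf 0xe0d0002))))) (.node 42636 (.node 42633 (.node 42632 (.leaf 0x0) (.leaf 0xa0f0b0b0004)) (.node 42634 (.leaf 0x3070008020401050008) (.node 42635 (.leaf 0x0) (.leaf 0xd0b0b0003)))) (.node 42639 (.node 42637 (.leaf 0x0) (.node 42638 (.leaf 0xa68c00a688) (.leaf 0xe0d0002))) (.node 42640 (.leaf 0x0) (.node 42641 (.leaf 0x2000005020202010802040105000d) (.leaf 0x0))))))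

def argWS_3776 : Store := (.node 42653 (.node 42647 (.node 42644 (.node 42643 (.leaf 0xf0b0002) (.leaf 0xf0b0b0a0004)) (.node 42645 (.leaf 0xd0b0002) (.node 42646 (.leaf 0xb0a0002) (.leaf 0xa69500a694)))) (.node 42650 (.node 42648 (.leaf 0xf0b0b0003) (.node 42649 (.leaf 0x0) (.leaf 0xd0b0002))) (.node 42651 (.leaf 0x0) (.node 42652 (.leaf 0x0) (.leaf 0xf0b0a0a0004))))) (.node 42659 (.node 42656 (.node 42654 (.leaf 0x403070009020007010009) (.node 42655 (.leaf 0x0) (.leaf 0xa0f0b0b0004))) (.node 42657 (.leaf 0x0) (.node 42658 (.leaf 0xa6a0) (.leaf 0xf0b0a0a0004)))) (.node 42662 (.node 42660 (.leaf 0x0) (.node 42661 (.leaf 0xb0001) (.leaf 0x0))) (.node 42663 (.leaf 0x0) (.node 42664 (.leaf 0xa0f0b0b0004) (.leaf 0xb0a0f0003))))))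

def argWS_3777 : Store := (.node 42642 argWS_3775 argWS_3776)

def argWS_3778 : Store := (.node 42620 argWS_3774 argWS_3777)

def argWS_3779 : Store := (.node 42676 (.node 42670 (.node 42667 (.node 42666 (.leaf 0x40300090806000202000701000c) (.leaf 0x0)) (.node 42668 (.leaf 0xb0a0a0003) (.node 42669 (.leaf 0x0) (.leaf 0xa6ac004890)))) (.node 42673 (.node 42671 (.leaf 0xb0f0002) (.node 42672 (.leaf 0x0) (.leaf 0x20906020702010202000701000c))) (.node 42674 (.leaf 0x0) (.node 42675 (.leaf 0xf0b0a0003) (.leaf 0xe0001))))) (.node 42681 (.node 42678 (.node 42677 (.leaf 0x9070005020202010802040105000d) (.leaf 0x0)) (.node 42679 (.leaf 0xd0b0002) (.node 42680 (.leaf 0x0) (.leaf 0xb0b0a0a0004)))) (.node 42684 (.node 42682 (.leaf 0x206020000030703040103000b) (.node 42683 (.leaf 0x0) (.leaf 0xd0b0b0003))) (.node 42685 (.leaf 0x0) (.node 42686 (.leaf 0xa6bc00a6b8) (.leaf 0xb0f0a0003))))))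

def argWS_3780 : Store := (.node 42698 (.node 42692 (.node 42689 (.node 42688 (.leaf 0x0) (.leaf 0x402020900000007)) (.node 42690 (.leaf 0x0) (.node 42691 (.leaf 0xe0001) (.leaf 0xf0b0b0a0004)))) (.node 42695 (.node 42693 (.leaf 0x209020804000802040105000b) (.node 42694 (.leaf 0x0) (.leaf 0xf0b0b0a0004))) (.node 42696 (.leaf 0x0) (.node 42697 (.leaf 0x2060103010102000202000701000d) (.leaf 0x0))))) (.node 42704 (.node 42701 (.node 42699 (.leaf 0xf0b0b0003) (.node 42700 (.leaf 0x0) (.leaf 0xd0b0002))) (.node 42702 (.leaf 0xa6cc00a6cb) (.node 42703 (.leaf 0xd0b0002) (.leaf 0x0)))) (.node 42707 (.node 42705 (.leaf 0x503010703060202000701000c) (.node 42706 (.leaf 0x0) (.leaf 0xb0f0a0003))) (.node 42708 (.leaf 0xf0b0b0a0004) (.node 42709 (.leaf 0xe0a0002) (.leaf 0xf0b0002))))))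

def argWS_3781 : Store := (.node 42687 argWS_3779 argWS_3780)

def argWS_3782 : Store := (.node 42721 (.node 42715 (.node 42712 (.node 42711 (.leaf 0x0) (.leaf 0xa6d600a6d4)) (.node 42713 (.leaf 0x50303010102000802040105000c) (.node 42714 (.leaf 0x0) (.leaf 0xf0b0b0a0004)))) (.node 42718 (.node 42716 (.leaf 0x0) (.node 42717 (.leaf 0xf0b0b0a0a0005) (.leaf 0x0))) (.node 42719 (.leaf 0x0) (.node 42720 (.leaf 0x500090000090802040105000b) (.leaf 0x0))))) (.node 42726 (.node 42723 (.node 42722 (.leaf 0xb0a0002) (.leaf 0x0)) (.node 42724 (.leaf 0x500030306040202000701000b) (.node 42725 (.leaf 0x0) (.leaf 0xf0b0b0a0a0005)))) (.node 42729 (.node 42727 (.leaf 0x0) (.node 42728 (.leaf 0xa6e6) (.leaf 0xf0b0b0a0a0005))) (.node 42730 (.leaf 0x0) (.node 42731 (.leaf 0x3010901090005) (.leaf 0x0))))))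

def argWS_3783 : Store := (.node 42743 (.node 42737 (.node 42734 (.node 42733 (.leaf 0xd0b0b0003) (.leaf 0x6010202010606000703040103000d)) (.node 42735 (.leaf 0x0) (.node 42736 (.leaf 0xf0b0a0a0004) (.leaf 0x0)))) (.node 42740 (.node 42738 (.leaf 0x200070209020802040105000c) (.node 42739 (.leaf 0x0) (.leaf 0xf0001))) (.node 42741 (.leaf 0x0) (.node 42742 (.leaf 0xa6f4) (.leaf 0xa0f0002))))) (.node 42749 (.node 42746 (.node 42744 (.leaf 0x0) (.node 42745 (.leaf 0x2090206030802040105000a) (.leaf 0x0))) (.node 42747 (.leaf 0xe0a0a0003) (.node 42748 (.leaf 0xa0f0b0003) (.leaf 0x6a5d)))) (.node 42752 (.node 42750 (.leaf 0xb0f0a0003) (.node 42751 (.leaf 0x0) (.leaf 0xd0001))) (.node 42753 (.leaf 0x0) (.node 42754 (.leaf 0x0) (.leaf 0x40400050005))))))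

def argWS_3784 : Store := (.node 42732 argWS_3782 argWS_3783)

def argWS_3785 : Store := (.node 42710 argWS_3781 argWS_3784)

def argWS_3786 : Store := (.node 42665 argWS_3778 argWS_3785)

def argWS_3787 : Store := (.node 42766 (.node 42760 (.node 42757 (.node 42756 (.leaf 0x0) (.leaf 0xd0001)) (.node 42758 (.leaf 0x0) (.node 42759 (.leaf 0x8000202090000000703040103000d) (.leaf 0x0)))) (.node 42763 (.node 42761 (.leaf 0xe0a0002) (.node 42762 (.leaf 0x0) (.leaf 0xa709))) (.node 42764 (.leaf 0xa0f0b0003) (.node 42765 (.leaf 0x0) (.leaf 0x4090000090006))))) (.node 42771 (.node 42768 (.node 42767 (.leaf 0x0) (.leaf 0xb0b0a0a0004)) (.node 42769 (.leaf 0xb0f0002) (.node 42770 (.leaf 0x3000002080400000703040103000d) (.leaf 0x0)))) (.node 42774 (.node 42772 (.leaf 0x0) (.node 42773 (.leaf 0xa713) (.leaf 0xb0a0f0003))) (.node 42775 (.leaf 0x0) (.node 42776 (.leaf 0xb0a0f0003) (.leaf 0x0))))))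

def argWS_3788 : Store := (.node 42788 (.node 42782 (.node 42779 (.node 42778 (.leaf 0x0) (.leaf 0xa0f0002)) (.node 42780 (.leaf 0xb0b0a0003) (.node 42781 (.leaf 0xf0a0a0003) (.leaf 0xe0001)))) (.node 42785 (.node 42783 (.leaf 0xa71d00a71c) (.node 42784 (.leaf 0x309000908020401050009) (.leaf 0x0))) (.node 42786 (.leaf 0xf0001) (.node 42787 (.leaf 0x0) (.leaf 0xd0b0b0003))))) (.node 42794 (.node 42791 (.node 42789 (.leaf 0x0) (.node 42790 (.leaf 0x0) (.leaf 0xb0f0a0a0004))) (.node 42792 (.leaf 0x502010202090000000703040103000e) (.node 42793 (.leaf 0x0) (.leaf 0xf0a0a0003)))) (.node 42797 (.node 42795 (.leaf 0x0) (.node 42796 (.leaf 0x2020002000003010202000701000d) (.leaf 0x0))) (.node 42798 (.leaf 0xd0b0002) (.node 42799 (.leaf 0x0) (.leaf 0xa72e00a72a))))))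

def argWS_3789 : Store := (.node 42777 argWS_3787 argWS_3788)

def argWS_3790 : Store := (.node 42811 (.node 42805 (.node 42802 (.node 42801 (.leaf 0xd0001) (.leaf 0x0)) (.node 42803 (.leaf 0xa0001) (.node 42804 (.leaf 0x0) (.leaf 0x0)))) (.node 42808 (.node 42806 (.leaf 0xb0a0a0003) (.node 42807 (.leaf 0x903070009020007010009) (.leaf 0x0))) (.node 42809 (.leaf 0x0) (.node 42810 (.leaf 0xa73800a735) (.leaf 0xf0b0002))))) (.node 42816 (.node 42813 (.node 42812 (.leaf 0x0) (.leaf 0x60000000408010007)) (.node 42814 (.leaf 0x0) (.node 42815 (.leaf 0xf0b0b0003) (.leaf 0xf0b0a0003)))) (.node 42819 (.node 42817 (.leaf 0x301020106060202000701000b) (.node 42818 (.leaf 0x0) (.leaf 0xb0001))) (.node 42820 (.leaf 0x0) (.node 42821 (.leaf 0xa743) (.leaf 0x4000400050202000701000a))))))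

def argWS_3791 : Store := (.node 42833 (.node 42827 (.node 42824 (.node 42823 (.leaf 0x0) (.leaf 0xf0a0002)) (.node 42825 (.leaf 0x0) (.node 42826 (.leaf 0xb0b0a0a0004) (.leaf 0x0)))) (.node 42830 (.node 42828 (.leaf 0x0) (.node 42829 (.leaf 0xe0001) (.leaf 0xf0b0a0a0004))) (.node 42831 (.leaf 0xe0a0002) (.node 42832 (.leaf 0xa74e00a74d) (.leaf 0x4090806000802040105000b))))) (.node 42839 (.node 42836 (.node 42834 (.leaf 0x0) (.node 42835 (.leaf 0xf0001) (.leaf 0x0))) (.node 42837 (.leaf 0xb0a0f0003) (.node 42838 (.leaf 0x0) (.leaf 0x0)))) (.node 42842 (.node 42840 (.leaf 0x5020007010005) (.node 42841 (.leaf 0x0) (.leaf 0x0))) (.node 42843 (.leaf 0x0) (.node 42844 (.leaf 0x90300070206000802040105000c) (.leaf 0x0))))))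

def argWS_3792 : Store := (.node 42822 argWS_3790 argWS_3791)

def argWS_3793 : Store := (.node 42800 argWS_3789 argWS_3792)

def argWS_3794 : Store := (.node 42856 (.node 42850 (.node 42847 (.node 42846 (.leaf 0x0) (.leaf 0xa75d000ac7)) (.node 42848 (.leaf 0xf0b0a0003) (.node 42849 (.leaf 0x0) (.leaf 0x4000309080600000703040103000d)))) (.node 42853 (.node 42851 (.leaf 0x0) (.node 42852 (.leaf 0xe0a0a0003) (.leaf 0x503090806000007))) (.node 42854 (.leaf 0x0) (.node 42855 (.leaf 0xb0b0a0a0004) (.leaf 0x0))))) (.node 42861 (.node 42858 (.node 42857 (.leaf 0xf0b0002) (.leaf 0xa768)) (.node 42859 (.leaf 0x907020600000703040103000b) (.node 42860 (.leaf 0x0) (.leaf 0xa0f0002)))) (.node 42864 (.node 42862 (.leaf 0x0) (.node 42863 (.leaf 0x103060207020703040103000b) (.leaf 0x0))) (.node 42865 (.leaf 0xf0a0002) (.node 42866 (.leaf 0xa0001) (.leaf 0x306030007030401030009))))))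

def argWS_3795 : Store := (.node 42878 (.node 42872 (.node 42869 (.node 42868 (.leaf 0x0) (.leaf 0xa0001)) (.node 42870 (.leaf 0x0) (.node 42871 (.leaf 0x1020205020202010802040105000d) (.leaf 0x0)))) (.node 42875 (.node 42873 (.leaf 0xb0001) (.node 42874 (.leaf 0x0) (.leaf 0xa77900a775))) (.node 42876 (.leaf 0xd0b0002) (.node 42877 (.leaf 0x0) (.leaf 0xf0a0a0003))))) (.node 42884 (.node 42881 (.node 42879 (.leaf 0x0) (.node 42880 (.leaf 0x0) (.leaf 0x6020007010005))) (.node 42882 (.leaf 0x0) (.node 42883 (.leaf 0xf0b0b0a0a0005) (.leaf 0x0)))) (.node 42887 (.node 42885 (.leaf 0x5020007030401030008) (.node 42886 (.leaf 0x0) (.leaf 0x0))) (.node 42888 (.leaf 0xa786) (.node 42889 (.leaf 0xf0001) (.leaf 0x0))))))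

def argWS_3796 : Store := (.node 42867 argWS_3794 argWS_3795)

def argWS_3797 : Store := (.node 42901 (.node 42895 (.node 42892 (.node 42891 (.leaf 0xf0b0b0a0a0005) (.leaf 0x0)) (.node 42893 (.leaf 0x0) (.node 42894 (.leaf 0xd0b0002) (.leaf 0xd0b0b0003)))) (.node 42898 (.node 42896 (.leaf 0x3040301010200000703040103000d) (.node 42897 (.leaf 0x0) (.leaf 0xe0a0002))) (.node 42899 (.leaf 0x0) (.node 42900 (.leaf 0xa792) (.leaf 0x50305090009000703040103000c))))) (.node 42907 (.node 42904 (.node 42902 (.leaf 0x0) (.node 42903 (.leaf 0xb0b0002) (.leaf 0x0))) (.node 42905 (.leaf 0x0) (.node 42906 (.leaf 0xa0f0b0b0004) (.leaf 0xb0f0a0a0004)))) (.node 42910 (.node 42908 (.leaf 0x8000206030005) (.node 42909 (.leaf 0x0) (.leaf 0xf0b0b0a0a0005))) (.node 42911 (.leaf 0x0) (.node 42912 (.leaf 0x80300060207020703040103000c) (.leaf 0x0))))))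

def argWS_3798 : Store := (.node 42924 (.node 42918 (.node 42915 (.node 42914 (.leaf 0xb0b0a0a0004) (.leaf 0x0)) (.node 42916 (.leaf 0xa7a2) (.node 42917 (.leaf 0xb0f0a0a0004) (.leaf 0x0)))) (.node 42921 (.node 42919 (.leaf 0xb0a0a0003) (.node 42920 (.leaf 0x0) (.leaf 0x0))) (.node 42922 (.leaf 0x701090402000703040103000b) (.node 42923 (.leaf 0x0) (.leaf 0xd0b0b0003))))) (.node 42930 (.node 42927 (.node 42925 (.leaf 0x0) (.node 42926 (.leaf 0x705050206040202000701000b) (.leaf 0x0))) (.node 42928 (.leaf 0xe0a0002) (.node 42929 (.leaf 0x0) (.leaf 0xb0a0a0003)))) (.node 42933 (.node 42931 (.leaf 0xa7b100a7b0) (.node 42932 (.leaf 0xf0b0002) (.leaf 0x0))) (.node 42934 (.leaf 0xa0f0b0b0004) (.node 42935 (.leaf 0x0) (.leaf 0x0))))))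

def argWS_3799 : Store := (.node 42913 argWS_3797 argWS_3798)

def argWS_3800 : Store := (.node 42890 argWS_3796 argWS_3799)

def argWS_3801 : Store := (.node 42845 argWS_3793 argWS_3800)

def argWS_3802 : Store := (.node 42755 argWS_3786 argWS_3801)

def argWS_3803 : Store := (.node 42947 (.node 42941 (.node 42938 (.node 42937 (.leaf 0xe0a0002) (.leaf 0xb0b0a0a0004)) (.node 42939 (.leaf 0xa7b9) (.node 42940 (.leaf 0x20106060004) (.leaf 0x0)))) (.node 42944 (.node 42942 (.leaf 0xb0b0a0a0004) (.node 42943 (.leaf 0x0) (.leaf 0xf0b0002))) (.node 42945 (.leaf 0x0) (.node 42946 (.leaf 0x0) (.leaf 0x6010201070209020202000701000d))))) (.node 42952 (.node 42949 (.node 42948 (.leaf 0x0) (.leaf 0xb0a0f0003)) (.node 42950 (.leaf 0x0) (.node 42951 (.leaf 0x5030802020007010008) (.leaf 0x0)))) (.node 42955 (.node 42953 (.leaf 0xf0b0b0a0a0005) (.node 42954 (.leaf 0x0) (.leaf 0xb0a0002))) (.node 42956 (.leaf 0xa7ca00a7c9) (.node 42957 (.leaf 0xb0a0f0003) (.leaf 0x0))))))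

def argWS_3804 : Store := (.node 42969 (.node 42963 (.node 42960 (.node 42959 (.leaf 0x1030000000300000008) (.leaf 0x0)) (.node 42961 (.leaf 0xb0b0a0003) (.node 42962 (.leaf 0x10300000408010007) (.leaf 0x0)))) (.node 42966 (.node 42964 (.leaf 0x0) (.node 42965 (.leaf 0x303090000090006) (.leaf 0x0))) (.node 42967 (.leaf 0xa0001) (.node 42968 (.leaf 0x0) (.leaf 0xa7d700a7d3))))) (.node 42975 (.node 42972 (.node 42970 (.leaf 0x20403070206000007) (.node 42971 (.leaf 0x0) (.leaf 0xb0b0002))) (.node 42973 (.leaf 0x0) (.node 42974 (.leaf 0xb0f0002) (.leaf 0x0)))) (.node 42978 (.node 42976 (.leaf 0x0) (.node 42977 (.leaf 0xb0a0002) (.leaf 0x50003010102000802040105000c))) (.node 42979 (.leaf 0x0) (.node 42980 (.leaf 0xf0a0a0003) (.leaf 0x0))))))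

def argWS_3805 : Store := (.node 42958 argWS_3803 argWS_3804)

def argWS_3806 : Store := (.node 42992 (.node 42986 (.node 42983 (.node 42982 (.leaf 0xb0a0a0003) (.leaf 0xa7e500a7e4)) (.node 42984 (.leaf 0x200070009030802040105000b) (.node 42985 (.leaf 0x0) (.leaf 0xd0001)))) (.node 42989 (.node 42987 (.leaf 0x0) (.node 42988 (.leaf 0xf0b0a0a0004) (.leaf 0x0))) (.node 42990 (.leaf 0x0) (.node 42991 (.leaf 0x90503010908050007) (.leaf 0x0))))) (.node 42997 (.node 42994 (.node 42993 (.leaf 0x0) (.leaf 0xa5f300a7f0)) (.node 42995 (.leaf 0xb0001) (.node 42996 (.leaf 0x0) (.leaf 0xf0001)))) (.node 43000 (.node 42998 (.leaf 0x0) (.node 42999 (.leaf 0x0) (.leaf 0xb0b0002))) (.node 43001 (.leaf 0xb0f0002) (.node 43002 (.leaf 0x9010402020007010008) (.leaf 0x0))))))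

def argWS_3807 : Store := (.node 43014 (.node 43008 (.node 43005 (.node 43004 (.leaf 0xf0a0a0003) (.leaf 0x0)) (.node 43006 (.leaf 0xa7fc00a7f8) (.node 43007 (.leaf 0xb0b0a0003) (.leaf 0x0)))) (.node 43011 (.node 43009 (.leaf 0xe0a0a0003) (.node 43010 (.leaf 0x0) (.leaf 0x0))) (.node 43012 (.leaf 0xd0001) (.node 43013 (.leaf 0xb0a0002) (.leaf 0x9010500020802040105000a))))) (.node 43020 (.node 43017 (.node 43015 (.leaf 0x0) (.node 43016 (.leaf 0xf0a0a0003) (.leaf 0x0))) (.node 43018 (.leaf 0xb0a0f0003) (.node 43019 (.leaf 0xa80900a808) (.leaf 0xe0a0002)))) (.node 43023 (.node 43021 (.leaf 0x0) (.node 43022 (.leaf 0x70101020703000703040103000c) (.leaf 0x0))) (.node 43024 (.leaf 0xf0b0b0003) (.node 43025 (.leaf 0xf0b0002) (.leaf 0xe0a0a0003))))))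

def argWS_3808 : Store := (.node 43003 argWS_3806 argWS_3807)

def argWS_3809 : Store := (.node 42981 argWS_3805 argWS_3808)

def argWS_3810 : Store := (.node 43037 (.node 43031 (.node 43028 (.node 43027 (.leaf 0x7000000090206020802040105000d) (.leaf 0x0)) (.node 43029 (.leaf 0x0) (.node 43030 (.leaf 0xf0001) (.leaf 0xa81500a814)))) (.node 43034 (.node 43032 (.leaf 0x20906030500040802040105000c) (.node 43033 (.leaf 0x0) (.leaf 0xb0b0a0a0004))) (.node 43035 (.leaf 0x0) (.node 43036 (.leaf 0xb0a0002) (.leaf 0x0))))) (.node 43042 (.node 43039 (.node 43038 (.leaf 0x0) (.leaf 0xb0b0a0003)) (.node 43040 (.leaf 0x60401010904020802040105000c) (.node 43041 (.leaf 0x0) (.leaf 0xb0f0a0003)))) (.node 43045 (.node 43043 (.leaf 0x0) (.node 43044 (.leaf 0xa822) (.leaf 0x902020804000802040105000b))) (.node 43046 (.leaf 0x0) (.node 43047 (.leaf 0xa0001) (.leaf 0x0))))))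

def argWS_3811 : Store := (.node 43059 (.node 43053 (.node 43050 (.node 43049 (.leaf 0xa0a0002) (.leaf 0x0)) (.node 43051 (.leaf 0x0) (.node 43052 (.leaf 0xf0b0002) (.leaf 0x2000308000703040103000b)))) (.node 43056 (.node 43054 (.leaf 0x0) (.node 43055 (.leaf 0x0) (.leaf 0xf0001))) (.node 43057 (.leaf 0xa82f00a82e) (.node 43058 (.leaf 0xb0f0a0a0004) (.leaf 0x0))))) (.node 43065 (.node 43062 (.node 43060 (.leaf 0xf0b0b0a0a0005) (.node 43061 (.leaf 0x0) (.leaf 0x0))) (.node 43063 (.leaf 0xa0a0002) (.node 43064 (.leaf 0xe0a0002) (.leaf 0x20903070009030007)))) (.node 43068 (.node 43066 (.leaf 0x0) (.node 43067 (.leaf 0x0) (.leaf 0xa83a00a837))) (.node 43069 (.leaf 0xf0b0b0a0a0005) (.node 43070 (.leaf 0x0) (.leaf 0xa0f0b0003))))))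

def argWS_3812 : Store := (.node 43048 argWS_3810 argWS_3811)

def argWS_3813 : Store := (.node 43082 (.node 43076 (.node 43073 (.node 43072 (.leaf 0x0) (.leaf 0x0)) (.node 43074 (.leaf 0x7040400050802040105000a) (.node 43075 (.leaf 0x0) (.leaf 0xf0001)))) (.node 43079 (.node 43077 (.leaf 0x0) (.node 43078 (.leaf 0xb0a0f0003) (.leaf 0xa84500a844))) (.node 43080 (.leaf 0x50301070306000703040103000c) (.node 43081 (.leaf 0x0) (.leaf 0xe0a0002))))) (.node 43087 (.node 43084 (.node 43083 (.leaf 0x0) (.leaf 0x0)) (.node 43085 (.leaf 0xe0a0002) (.node 43086 (.leaf 0xa80900a84c) (.leaf 0xb0a0a0003)))) (.node 43090 (.node 43088 (.leaf 0x0) (.node 43089 (.leaf 0x0) (.leaf 0xf0b0002))) (.node 43091 (.leaf 0xf0001) (.node 43092 (.leaf 0x404070009020007010009) (.leaf 0x0))))))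

def argWS_3814 : Store := (.node 43104 (.node 43098 (.node 43095 (.node 43094 (.leaf 0xf0001) (.leaf 0x0)) (.node 43096 (.leaf 0xa85600a852) (.node 43097 (.leaf 0xf0b0b0a0a0005) (.leaf 0x0)))) (.node 43101 (.node 43099 (.leaf 0xb0a0002) (.node 43100 (.leaf 0x0) (.leaf 0x0))) (.node 43102 (.leaf 0xb0a0a0003) (.node 43103 (.leaf 0x5030400050802040105000a) (.leaf 0x0))))) (.node 43110 (.node 43107 (.node 43105 (.leaf 0xd0b0b0003) (.node 43106 (.leaf 0x0) (.leaf 0xe0a0a0003))) (.node 43108 (.leaf 0xa86200a861) (.node 43109 (.leaf 0x4000901090802040105000b) (.leaf 0x0)))) (.node 43113 (.node 43111 (.leaf 0xf0b0b0a0004) (.node 43112 (.leaf 0x0) (.leaf 0xb0001))) (.node 43114 (.leaf 0x0) (.node 43115 (.leaf 0x0) (.leaf 0xe0d0002))))))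

def argWS_3815 : Store := (.node 43093 argWS_3813 argWS_3814)

def argWS_3816 : Store := (.node 43071 argWS_3812 argWS_3815)

def argWS_3817 : Store := (.node 43026 argWS_3809 argWS_3816)

def argWS_3818 : Store := (.node 43127 (.node 43121 (.node 43118 (.node 43117 (.leaf 0x107030007030401030009) (.leaf 0x0)) (.node 43119 (.leaf 0xb0f0a0a0004) (.node 43120 (.leaf 0x0) (.leaf 0xa86f)))) (.node 43124 (.node 43122 (.leaf 0xb0b0a0a0004) (.node 43123 (.leaf 0x0) (.leaf 0xd0001))) (.node 43125 (.leaf 0x0) (.node 43126 (.leaf 0x0) (.leaf 0xe0a0002))))) (.node 43132 (.node 43129 (.node 43128 (.leaf 0xb0f0002) (.leaf 0x9daf007d93)) (.node 43130 (.leaf 0xd0001) (.node 43131 (.leaf 0x0) (.leaf 0xf0b0b0a0a0005)))) (.node 43135 (.node 43133 (.leaf 0x0) (.node 43134 (.leaf 0x0) (.leaf 0xe0d0002))) (.node 43136 (.leaf 0x4000305020604000703040103000d) (.node 43137 (.leaf 0x0) (.leaf 0xf0b0a0a0004))))))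

def argWS_3819 : Store := (.node 43149 (.node 43143 (.node 43140 (.node 43139 (.leaf 0x0) (.leaf 0xa882)) (.node 43141 (.leaf 0xa0f0b0003) (.node 43142 (.leaf 0x0) (.leaf 0xf0b0a0a0004)))) (.node 43146 (.node 43144 (.leaf 0x0) (.node 43145 (.leaf 0x0) (.leaf 0xd0b0b0003))) (.node 43147 (.leaf 0x4030006010500020008) (.node 43148 (.leaf 0x0) (.leaf 0xa0f0b0003))))) (.node 43155 (.node 43152 (.node 43150 (.leaf 0x0) (.node 43151 (.leaf 0xa88d) (.leaf 0xb0f0a0a0004))) (.node 43153 (.leaf 0x0) (.node 43154 (.leaf 0xb0f0a0a0004) (.leaf 0x0)))) (.node 43158 (.node 43156 (.leaf 0x0) (.node 43157 (.leaf 0xb0a0a0003) (.leaf 0x2090305020202010008))) (.node 43159 (.leaf 0x0) (.node 43160 (.leaf 0xf0a0a0003) (.leaf 0x0))))))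

def argWS_3820 : Store := (.node 43138 argWS_3818 argWS_3819)

def argWS_3821 : Store := (.node 43172 (.node 43166 (.node 43163 (.node 43162 (.leaf 0xe0d0002) (.leaf 0xa89900a898)) (.node 43164 (.leaf 0x10106030500040007) (.node 43165 (.leaf 0x0) (.leaf 0xf0001)))) (.node 43169 (.node 43167 (.leaf 0x0) (.node 43168 (.leaf 0xe0a0002) (.leaf 0x0))) (.node 43170 (.leaf 0x0) (.node 43171 (.leaf 0x60106020702010802040105000c) (.leaf 0x0))))) (.node 43177 (.node 43174 (.node 43173 (.leaf 0xb0f0002) (.leaf 0x0)) (.node 43175 (.leaf 0xa8a50008db) (.node 43176 (.leaf 0xb0f0a0a0004) (.leaf 0x0)))) (.node 43180 (.node 43178 (.leaf 0x603010601050002000703040103000e) (.node 43179 (.leaf 0x0) (.leaf 0xf0b0b0a0004))) (.node 43181 (.leaf 0xb0b0a0003) (.node 43182 (.leaf 0x9070207020007010008) (.leaf 0x0))))))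

def argWS_3822 : Store := (.node 43194 (.node 43188 (.node 43185 (.node 43184 (.leaf 0xb0b0a0003) (.leaf 0x0)) (.node 43186 (.leaf 0xa8b0) (.node 43187 (.leaf 0xf0001) (.leaf 0x0)))) (.node 43191 (.node 43189 (.leaf 0xa0f0b0b0004) (.node 43190 (.leaf 0x0) (.leaf 0x0))) (.node 43192 (.leaf 0xb0f0002) (.node 43193 (.leaf 0x4000306010500020202000701000d) (.leaf 0x0))))) (.node 43200 (.node 43197 (.node 43195 (.leaf 0xf0b0b0003) (.node 43196 (.leaf 0x0) (.leaf 0xa8bb00a8b7))) (.node 43198 (.leaf 0xf0001) (.node 43199 (.leaf 0x0) (.leaf 0xb0a0002)))) (.node 43203 (.node 43201 (.leaf 0x0) (.node 43202 (.leaf 0x0) (.leaf 0xf0b0b0a0004))) (.node 43204 (.leaf 0x1030306040005) (.node 43205 (.leaf 0x0) (.leaf 0xd0b0002))))))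

def argWS_3823 : Store := (.node 43183 argWS_3821 argWS_3822)

def argWS_3824 : Store := (.node 43161 argWS_3820 argWS_3823)

def argWS_3825 : Store := (.node 43217 (.node 43211 (.node 43208 (.node 43207 (.leaf 0x0) (.leaf 0x70502000003010802040105000c)) (.node 43209 (.leaf 0x0) (.node 43210 (.leaf 0xa0f0b0003) (.leaf 0x0)))) (.node 43214 (.node 43212 (.leaf 0xa8ca00a8c6) (.node 43213 (.leaf 0xb0001) (.leaf 0x0))) (.node 43215 (.leaf 0xf0b0b0a0004) (.node 43216 (.leaf 0x0) (.leaf 0x0))))) (.node 43222 (.node 43219 (.node 43218 (.leaf 0x60006010500020202000701000c) (.leaf 0x0)) (.node 43220 (.leaf 0x0) (.node 43221 (.leaf 0xa8d3) (.leaf 0xb0b0a0003)))) (.node 43225 (.node 43223 (.leaf 0x0) (.node 43224 (.leaf 0xf0b0a0003) (.leaf 0x0))) (.node 43226 (.leaf 0x0) (.node 43227 (.leaf 0xe0d0002) (.leaf 0xf0001))))))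

def argWS_3826 : Store := (.node 43239 (.node 43233 (.node 43230 (.node 43229 (.leaf 0xa8db000915) (.leaf 0x209070209020006)) (.node 43231 (.leaf 0x0) (.node 43232 (.leaf 0xe0a0a0003) (.leaf 0x0)))) (.node 43236 (.node 43234 (.leaf 0xa0f0b0b0004) (.node 43235 (.leaf 0x0) (.leaf 0x0))) (.node 43237 (.leaf 0xf0a0a0003) (.node 43238 (.leaf 0x1070002000003010202000701000d) (.leaf 0x0))))) (.node 43245 (.node 43242 (.node 43240 (.leaf 0xa0f0b0003) (.node 43241 (.leaf 0x0) (.leaf 0x805000400050202000701000b))) (.node 43243 (.leaf 0x0) (.node 43244 (.leaf 0x0) (.leaf 0xa8eb00a8e8)))) (.node 43248 (.node 43246 (.leaf 0xd0b0002) (.node 43247 (.leaf 0x0) (.leaf 0xf0b0a0a0004))) (.node 43249 (.leaf 0x0) (.node 43250 (.leaf 0x0) (.leaf 0xd0b0002))))))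

def argWS_3827 : Store := (.node 43228 argWS_3825 argWS_3826)

def argWS_3828 : Store := (.node 43262 (.node 43256 (.node 43253 (.node 43252 (.leaf 0xb0f0a0003) (.leaf 0x5020202010202000701000a)) (.node 43254 (.leaf 0x0) (.node 43255 (.leaf 0xf0b0a0a0004) (.leaf 0x0)))) (.node 43259 (.node 43257 (.leaf 0xa8f700a8f3) (.node 43258 (.leaf 0xe0a0a0003) (.leaf 0x0))) (.node 43260 (.leaf 0x70102020900000202000701000c) (.node 43261 (.leaf 0x0) (.leaf 0xb0b0a0003))))) (.node 43268 (.node 43265 (.node 43263 (.leaf 0x3070904020202000701000a) (.node 43264 (.leaf 0x0) (.leaf 0xe0a0002))) (.node 43266 (.leaf 0x0) (.node 43267 (.leaf 0x70407020600000703040103000c) (.leaf 0x0)))) (.node 43271 (.node 43269 (.leaf 0xf0001) (.node 43270 (.leaf 0x0) (.leaf 0x202040005000703040103000b))) (.node 43272 (.leaf 0x0) (.node 43273 (.leaf 0xb0a0a0003) (.leaf 0x0))))))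

def argWS_3829 : Store := (.node 43285 (.node 43279 (.node 43276 (.node 43275 (.leaf 0xa90900a905) (.leaf 0xf0b0b0a0a0005)) (.node 43277 (.leaf 0x0) (.node 43278 (.leaf 0x507020007010006) (.leaf 0x0)))) (.node 43282 (.node 43280 (.leaf 0xb0a0002) (.node 43281 (.leaf 0xb0a0002) (.leaf 0xb0b0a0a0004))) (.node 43283 (.leaf 0x791d00a911) (.node 43284 (.leaf 0x102020900000202000701000b) (.leaf 0x0))))) (.node 43291 (.node 43288 (.node 43286 (.leaf 0xb0a0002) (.node 43287 (.leaf 0x0) (.leaf 0xd0b0002))) (.node 43289 (.leaf 0x0) (.node 43290 (.leaf 0x0) (.leaf 0x20400020804000802040105000c)))) (.node 43294 (.node 43292 (.leaf 0x0) (.node 43293 (.leaf 0xf0b0a0a0004) (.leaf 0x0))) (.node 43295 (.leaf 0x403000408010802040105000b) (.node 43296 (.leaf 0x0) (.leaf 0xb0b0002))))))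

def argWS_3830 : Store := (.node 43274 argWS_3828 argWS_3829)

def argWS_3831 : Store := (.node 43251 argWS_3827 argWS_3830)

def argWS_3832 : Store := (.node 43206 argWS_3824 argWS_3831)

def argWS_3833 : Store := (.node 43116 argWS_3817 argWS_3832)

def argWS_3834 : Store := (.node 42936 argWS_3802 argWS_3833)

def argWS_3835 : Store := (.node 42575 argWS_3771 argWS_3834)

def argWS_3836 : Store := (.node 41854 argWS_3708 argWS_3835)

def argWS_3837 : Store := (.node 43308 (.node 43302 (.node 43299 (.node 43298 (.leaf 0x0) (.leaf 0x106010500020802040105000b)) (.node 43300 (.leaf 0x0) (.node 43301 (.leaf 0xb0f0002) (.leaf 0x0)))) (.node 43305 (.node 43303 (.leaf 0xe0d0002) (.node 43304 (.leaf 0xa92600a925) (.leaf 0xb0b0a0a0004))) (.node 43306 (.leaf 0x0) (.node 43307 (.leaf 0xe0001) (.leaf 0x0))))) (.node 43313 (.node 43310 (.node 43309 (.leaf 0x0) (.leaf 0x2000202020900000008)) (.node 43311 (.leaf 0x0) (.node 43312 (.leaf 0xe0001) (.leaf 0x0)))) (.node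 43316 (.node 43314 (.leaf 0x3050206020007010008) (.node 43315 (.leaf 0x0) (.leaf 0xb0f0002))) (.node 43317 (.leaf 0x0) (.node 43318 (.leaf 0x10705020202010802040105000c) (.leaf 0x0))))))

def argWS_3838 : Store := (.node 43330 (.node 43324 (.node 43321 (.node 43320 (.leaf 0xf0b0a0a0004) (.leaf 0x0)) (.node 43322 (.leaf 0xa93800a934) (.node 43323 (.leaf 0x20400000300000802040105000c) (.leaf 0x0)))) (.node 43327 (.node 43325 (.leaf 0xd0001) (.node 43326 (.leaf 0x0) (.leaf 0x6030102020900000802040105000d))) (.node 43328 (.leaf 0x0) (.node 43329 (.leaf 0xf0b0b0003) (.leaf 0xe0d0002))))) (.node 43336 (.node 43333 (.node 43331 (.leaf 0xb0a0f0003) (.node 43332 (.leaf 0x60102090106000703040103000c) (.leaf 0x0))) (.node 43334 (.leaf 0xb0b0002) (.node 43335 (.leaf 0x0) (.leaf 0xa94600a942)))) (.node 43339 (.node 43337 (.leaf 0xd0b0b0003) (.node 43338 (.leaf 0x0) (.leaf 0xb0f0a0a0004))) (.node 43340 (.leaf 0x0) (.node 43341 (.leaf 0x0) (.leaf 0x102000300000802040105000b))))))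

def argWS_3839 : Store := (.node 43319 argWS_3837 argWS_3838)

def argWS_3840 : Store := (.node 43353 (.node 43347 (.node 43344 (.node 43343 (.leaf 0x0) (.leaf 0xe0a0002)) (.node 43345 (.leaf 0x0) (.node 43346 (.leaf 0xd0001) (.leaf 0xa95100a950)))) (.node 43350 (.node 43348 (.leaf 0x2020009080600000703040103000d) (.node 43349 (.leaf 0x0) (.leaf 0xa0001))) (.node 43351 (.leaf 0x0) (.node 43352 (.leaf 0xe0001) (.leaf 0x0))))) (.node 43358 (.node 43355 (.node 43354 (.leaf 0x0) (.leaf 0x2090106060202000701000a)) (.node 43356 (.leaf 0x0) (.node 43357 (.leaf 0xd0001) (.leaf 0x0)))) (.node 43361 (.node 43359 (.leaf 0xf0b0a0003) (.node 43360 (.leaf 0x702060408020401050009) (.leaf 0x0))) (.node 43362 (.leaf 0x0) (.node 43363 (.leaf 0xa96100a95e) (.leaf 0xb0a0f0003))))))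

def argWS_3841 : Store := (.node 43375 (.node 43369 (.node 43366 (.node 43365 (.leaf 0x0) (.leaf 0x300070009020007010009)) (.node 43367 (.leaf 0x0) (.node 43368 (.leaf 0xb0f0002) (.leaf 0xa0a0002)))) (.node 43372 (.node 43370 (.leaf 0xb0b0002) (.node 43371 (.leaf 0xd0b0b0003) (.leaf 0xa96a00a969))) (.node 43373 (.leaf 0x20903070206000802040105000c) (.node 43374 (.leaf 0x0) (.leaf 0xb0b0a0003))))) (.node 43381 (.node 43378 (.node 43376 (.leaf 0x0) (.node 43377 (.leaf 0x0) (.leaf 0xa5ab))) (.node 43379 (.leaf 0xb0b0002) (.node 43380 (.leaf 0x0) (.leaf 0xb0b0a0a0004)))) (.node 43384 (.node 43382 (.leaf 0x0) (.node 43383 (.leaf 0x0) (.leaf 0xf0b0a0a0004))) (.node 43385 (.leaf 0xb0b0a0a0004) (.node 43386 (.leaf 0xa978) (.leaf 0xb0f0a0003))))))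

def argWS_3842 : Store := (.node 43364 argWS_3840 argWS_3841)

def argWS_3843 : Store := (.node 43342 argWS_3839 argWS_3842)

def argWS_3844 : Store := (.node 43398 (.node 43392 (.node 43389 (.node 43388 (.leaf 0x0) (.leaf 0xe0a0a0003)) (.node 43390 (.leaf 0x0) (.node 43391 (.leaf 0x0) (.leaf 0xe0d0002)))) (.node 43395 (.node 43393 (.leaf 0xb0f0002) (.node 43394 (.leaf 0xa9800098c4) (.leaf 0xb0b0a0003))) (.node 43396 (.leaf 0x0) (.node 43397 (.leaf 0xa0a0002) (.leaf 0x0))))) (.node 43403 (.node 43400 (.node 43399 (.leaf 0x0) (.leaf 0xe0001)) (.node 43401 (.leaf 0xf0b0b0003) (.node 43402 (.leaf 0x4030007000903000703040103000d) (.leaf 0x0)))) (.node 43406 (.node 43404 (.leaf 0xe0a0002) (.node 43405 (.leaf 0x0) (.leaf 0xf0b0b0a0a0005))) (.node 43407 (.leaf 0xa98d00a98c) (.node 43408 (.leaf 0xb0001) (.leaf 0x0))))))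

def argWS_3845 : Store := (.node 43420 (.node 43414 (.node 43411 (.node 43410 (.leaf 0xd0b0002) (.leaf 0x0)) (.node 43412 (.leaf 0x0) (.node 43413 (.leaf 0xf0a0002) (.leaf 0xb0f0a0003)))) (.node 43417 (.node 43415 (.leaf 0x400030802020007010009) (.node 43416 (.leaf 0x0) (.leaf 0xe0a0002))) (.node 43418 (.leaf 0x0) (.node 43419 (.leaf 0xa99900a995) (.leaf 0x20200090109000703040103000c))))) (.node 43426 (.node 43423 (.node 43421 (.leaf 0x0) (.node 43422 (.leaf 0xe0a0a0003) (.leaf 0x0))) (.node 43424 (.leaf 0xf0b0a0a0004) (.node 43425 (.leaf 0x0) (.leaf 0x0)))) (.node 43429 (.node 43427 (.leaf 0xb0a0a0003) (.node 43428 (.leaf 0xb0f0a0003) (.leaf 0x7ff900a9a3))) (.node 43430 (.leaf 0xa0f0002) (.node 43431 (.leaf 0x0) (.leaf 0xf0b0a0003))))))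

def argWS_3846 : Store := (.node 43409 argWS_3844 argWS_3845)

def argWS_3847 : Store := (.node 43443 (.node 43437 (.node 43434 (.node 43433 (.leaf 0x0) (.leaf 0xd0001)) (.node 43435 (.leaf 0xf0001) (.node 43436 (.leaf 0xb0a0002) (.leaf 0xa9ab00a9aa)))) (.node 43440 (.node 43438 (.leaf 0x2000207030005) (.node 43439 (.leaf 0x0) (.leaf 0xb0f0a0a0004))) (.node 43441 (.leaf 0x0) (.node 43442 (.leaf 0xa0f0b0b0004) (.leaf 0x0))))) (.node 43448 (.node 43445 (.node 43444 (.leaf 0x0) (.leaf 0x50300090206020008)) (.node 43446 (.leaf 0x0) (.node 43447 (.leaf 0x0) (.leaf 0x80000020804000802040105000d)))) (.node 43451 (.node 43449 (.leaf 0x0) (.node 43450 (.leaf 0xb0f0002) (.leaf 0x0))) (.node 43452 (.leaf 0xa9ba00223b) (.node 43453 (.leaf 0xf0a0a0003) (.leaf 0x0))))))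

def argWS_3848 : Store := (.node 43465 (.node 43459 (.node 43456 (.node 43455 (.leaf 0x60201090009000703040103000c) (.leaf 0x0)) (.node 43457 (.leaf 0xe0a0a0003) (.node 43458 (.leaf 0xb0b0a0a0004) (.leaf 0x103010206030802040105000b)))) (.node 43462 (.node 43460 (.leaf 0x0) (.node 43461 (.leaf 0xa0f0b0b0004) (.leaf 0x0))) (.node 43463 (.leaf 0xa9c5) (.node 43464 (.leaf 0xe0a0002) (.leaf 0x0))))) (.node 43471 (.node 43468 (.node 43466 (.leaf 0x903070206000006) (.node 43467 (.leaf 0x0) (.leaf 0xd0b0b0003))) (.node 43469 (.leaf 0x9020106020702010802040105000d) (.node 43470 (.leaf 0x0) (.leaf 0xb0b0a0003)))) (.node 43474 (.node 43472 (.leaf 0x0) (.node 43473 (.leaf 0xf0a0002) (.leaf 0xa9d000a9cf))) (.node 43475 (.leaf 0xf0b0a0003) (.node 43476 (.leaf 0x0) (.leaf 0xb0b0a0003))))))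

def argWS_3849 : Store := (.node 43454 argWS_3847 argWS_3848)

def argWS_3850 : Store := (.node 43432 argWS_3846 argWS_3849)

def argWS_3851 : Store := (.node 43387 argWS_3843 argWS_3850)

def argWS_3852 : Store := (.node 43488 (.node 43482 (.node 43479 (.node 43478 (.leaf 0x0) (.leaf 0x0)) (.node 43480 (.leaf 0xa0f0b0003) (.node 43481 (.leaf 0xe0a0a0003) (.leaf 0xa9d8)))) (.node 43485 (.node 43483 (.leaf 0xd0001) (.node 43484 (.leaf 0x0) (.leaf 0x6090009000703040103000a))) (.node 43486 (.leaf 0x0) (.node 43487 (.leaf 0xb0001) (.leaf 0xb0f0a0003))))) (.node 43493 (.node 43490 (.node 43489 (.leaf 0x40004000408010007) (.leaf 0x0)) (.node 43491 (.leaf 0xb0f0a0003) (.node 43492 (.leaf 0x0) (.leaf 0xa9e3)))) (.node 43496 (.node 43494 (.leaf 0x807030401030006) (.node 43495 (.leaf 0x0) (.leaf 0xa0a0002))) (.node 43497 (.leaf 0x0) (.node 43498 (.leaf 0xa0f0b0003) (.leaf 0x0))))))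

def argWS_3853 : Store := (.node 43510 (.node 43504 (.node 43501 (.node 43500 (.leaf 0x0) (.leaf 0x3050202020703040103000a)) (.node 43502 (.leaf 0x0) (.node 43503 (.leaf 0x0) (.leaf 0x70502000003010007)))) (.node 43507 (.node 43505 (.leaf 0x0) (.node 43506 (.leaf 0xb0f0a0a0004) (.leaf 0x0))) (.node 43508 (.leaf 0xa9f2009921) (.node 43509 (.leaf 0x0) (.leaf 0x7010904020802040105000b))))) (.node 43516 (.node 43513 (.node 43511 (.leaf 0x0) (.node 43512 (.leaf 0xe0d0002) (.leaf 0x2090206020007010008))) (.node 43514 (.leaf 0x0) (.node 43515 (.leaf 0xf0b0b0003) (.leaf 0x0)))) (.node 43519 (.node 43517 (.leaf 0xb0f0a0a0004) (.node 43518 (.leaf 0xb0a0a0003) (.leaf 0xa9fd00a9fc))) (.node 43520 (.leaf 0xd0001) (.node 43521 (.leaf 0x0) (.leaf 0xb0b0002))))))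

def argWS_3854 : Store := (.node 43499 argWS_3852 argWS_3853)

def argWS_3855 : Store := (.node 43533 (.node 43527 (.node 43524 (.node 43523 (.leaf 0x0) (.leaf 0x0)) (.node 43525 (.leaf 0xb0b0a0003) (.node 43526 (.leaf 0x8020007000902000701000a) (.leaf 0x0)))) (.node 43530 (.node 43528 (.leaf 0xf0001) (.node 43529 (.leaf 0x0) (.leaf 0x102010606000703040103000b))) (.node 43531 (.leaf 0x0) (.node 43532 (.leaf 0xf0b0a0a0004) (.leaf 0x0))))) (.node 43538 (.node 43535 (.node 43534 (.leaf 0xaa0c00aa08) (.leaf 0x40300070209020202000701000c)) (.node 43536 (.leaf 0x0) (.node 43537 (.leaf 0xb0f0a0a0004) (.leaf 0x0)))) (.node 43541 (.node 43539 (.leaf 0xb0b0002) (.node 43540 (.leaf 0x0) (.leaf 0x0))) (.node 43542 (.leaf 0xf0b0b0003) (.node 43543 (.leaf 0x703050009020602000703040103000e) (.leaf 0x0))))))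

def argWS_3856 : Store := (.node 43555 (.node 43549 (.node 43546 (.node 43545 (.leaf 0x0) (.leaf 0xaa18)) (.node 43547 (.leaf 0xd0b0002) (.node 43548 (.leaf 0x0) (.leaf 0xb0f0002)))) (.node 43552 (.node 43550 (.leaf 0x0) (.node 43551 (.leaf 0x0) (.leaf 0xe0001))) (.node 43553 (.leaf 0xd0b0b0003) (.node 43554 (.leaf 0x403070009030006) (.leaf 0x0))))) (.node 43561 (.node 43558 (.node 43556 (.leaf 0xe0d0002) (.node 43557 (.leaf 0x0) (.leaf 0xb0f0a0003))) (.node 43559 (.leaf 0x0) (.node 43560 (.leaf 0xaa2600aa24) (.leaf 0x6000207030006)))) (.node 43564 (.node 43562 (.leaf 0x0) (.node 43563 (.leaf 0xf0a0002) (.leaf 0x0))) (.node 43565 (.leaf 0xe0001) (.node 43566 (.leaf 0x0) (.leaf 0x0))))))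

def argWS_3857 : Store := (.node 43544 argWS_3855 argWS_3856)

def argWS_3858 : Store := (.node 43522 argWS_3854 argWS_3857)

def argWS_3859 : Store := (.node 43578 (.node 43572 (.node 43569 (.node 43568 (.leaf 0xe0a0002) (.leaf 0xa0f0002)) (.node 43570 (.leaf 0xaa30) (.node 43571 (.leaf 0xa0f0b0b0004) (.leaf 0x0)))) (.node 43575 (.node 43573 (.leaf 0xe0d0002) (.node 43574 (.leaf 0x0) (.leaf 0x0))) (.node 43576 (.leaf 0xb0f0002) (.node 43577 (.leaf 0xb0a0f0003) (.leaf 0xaa38))))) (.node 43583 (.node 43580 (.node 43579 (.leaf 0xe0a0002) (.leaf 0x0)) (.node 43581 (.leaf 0xa0001) (.node 43582 (.leaf 0x0) (.leaf 0x0)))) (.node 43586 (.node 43584 (.leaf 0xb0f0002) (.node 43585 (.leaf 0x401010908050802040105000b) (.leaf 0x0))) (.node 43587 (.leaf 0xa0f0b0b0004) (.node 43588 (.leaf 0x0) (.leaf 0xaa43))))))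

def argWS_3860 : Store := (.node 43600 (.node 43594 (.node 43591 (.node 43590 (.leaf 0xa0a0002) (.leaf 0x0)) (.node 43592 (.leaf 0xf0b0b0a0a0005) (.node 43593 (.leaf 0x0) (.leaf 0x0)))) (.node 43597 (.node 43595 (.leaf 0xf0b0a0a0004) (.node 43596 (.leaf 0xe0a0002) (.leaf 0xd0b0002))) (.node 43598 (.leaf 0xaa4c00aa4b) (.node 43599 (.leaf 0x50306020702010202000701000d) (.leaf 0x0))))) (.node 43606 (.node 43603 (.node 43601 (.leaf 0xb0001) (.node 43602 (.leaf 0x0) (.leaf 0xd0001))) (.node 43604 (.leaf 0x0) (.node 43605 (.leaf 0x0) (.leaf 0xb0b0a0a0004)))) (.node 43609 (.node 43607 (.leaf 0xe0d0002) (.node 43608 (.leaf 0xaa56) (.leaf 0x30700090009000703040103000c))) (.node 43610 (.leaf 0x0) (.node 43611 (.leaf 0xd0b0b0003) (.leaf 0x0))))))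

def argWS_3861 : Store := (.node 43589 argWS_3859 argWS_3860)

def argWS_3862 : Store := (.node 43623 (.node 43617 (.node 43614 (.node 43613 (.leaf 0xb0f0002) (.leaf 0x0)) (.node 43615 (.leaf 0x0) (.node 43616 (.leaf 0xe0001) (.leaf 0xf0b0002)))) (.node 43620 (.node 43618 (.leaf 0xb0b0002) (.node 43619 (.leaf 0xaa6100aa60) (.leaf 0x907000202090000000703040103000e))) (.node 43621 (.leaf 0x0) (.node 43622 (.leaf 0xa0a0002) (.leaf 0x0))))) (.node 43628 (.node 43625 (.node 43624 (.leaf 0xf0b0a0003) (.leaf 0x0)) (.node 43626 (.leaf 0x0) (.node 43627 (.leaf 0xa0a0002) (.leaf 0x7020604000703040103000a)))) (.node 43631 (.node 43629 (.leaf 0x0) (.node 43630 (.leaf 0x0) (.leaf 0x4010900090802040105000a))) (.node 43632 (.leaf 0x0) (.node 43633 (.leaf 0xf0b0a0a0004) (.leaf 0x0))))))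

def argWS_3863 : Store := (.node 43645 (.node 43639 (.node 43636 (.node 43635 (.leaf 0xaa7100aa6d) (.leaf 0xe0001)) (.node 43637 (.leaf 0x0) (.node 43638 (.leaf 0x0) (.leaf 0x40006030500040007)))) (.node 43642 (.node 43640 (.leaf 0x0) (.node 43641 (.leaf 0xd0001) (.leaf 0x0))) (.node 43643 (.leaf 0xb0a0f0003) (.node 43644 (.leaf 0xaa7a) (.leaf 0x201010908050006))))) (.node 43651 (.node 43648 (.node 43646 (.leaf 0x0) (.node 43647 (.leaf 0xa0f0002) (.leaf 0x0))) (.node 43649 (.leaf 0x30300000300000202000701000c) (.node 43650 (.leaf 0x0) (.leaf 0xf0b0b0a0a0005)))) (.node 43654 (.node 43652 (.leaf 0xf0b0b0003) (.node 43653 (.leaf 0xf0b0a0a0004) (.leaf 0x30300030306040202000701000c))) (.node 43655 (.leaf 0x0) (.node 43656 (.leaf 0xb0b0a0003) (.leaf 0x0))))))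

def argWS_3864 : Store := (.node 43634 argWS_3862 argWS_3863)

def argWS_3865 : Store := (.node 43612 argWS_3861 argWS_3864)

def argWS_3866 : Store := (.node 43567 argWS_3858 argWS_3865)

def argWS_3867 : Store := (.node 43477 argWS_3851 argWS_3866)

def argWS_3868 : Store := (.node 43668 (.node 43662 (.node 43659 (.node 43658 (.leaf 0xe0d0002) (.leaf 0xaa8900aa88)) (.node 43660 (.leaf 0x2040106010500020008) (.node 43661 (.leaf 0x0) (.leaf 0xa0f0b0b0004)))) (.node 43665 (.node 43663 (.leaf 0x0) (.node 43664 (.leaf 0xb0a0a0003) (.leaf 0x0))) (.node 43666 (.leaf 0x0) (.node 43667 (.leaf 0xf0001) (.leaf 0x76d7))))) (.node 43673 (.node 43670 (.node 43669 (.leaf 0x602010601050002000703040103000e) (.leaf 0x0)) (.node 43671 (.leaf 0xe0a0a0003) (.node 43672 (.leaf 0x0) (.leaf 0xb0001)))) (.node 43676 (.node 43674 (.leaf 0x0) (.node 43675 (.leaf 0x0) (.leaf 0xb0f0a0003))) (.node 43677 (.leaf 0x20205020202010802040105000c) (.node 43678 (.leaf 0x0) (.leaf 0xb0f0002))))))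

def argWS_3869 : Store := (.node 43690 (.node 43684 (.node 43681 (.node 43680 (.leaf 0x0) (.leaf 0x7000007000902000701000a)) (.node 43682 (.leaf 0x0) (.node 43683 (.leaf 0xa0f0b0003) (.leaf 0x0)))) (.node 43687 (.node 43685 (.leaf 0xaaa300aa9f) (.node 43686 (.leaf 0x0) (.leaf 0xb0b0002))) (.node 43688 (.leaf 0x0) (.node 43689 (.leaf 0xb0f0002) (.leaf 0x0))))) (.node 43696 (.node 43693 (.node 43691 (.leaf 0x0) (.node 43692 (.leaf 0xb0a0f0003) (.leaf 0x90201090009000703040103000c))) (.node 43694 (.leaf 0x0) (.node 43695 (.leaf 0x0) (.leaf 0xb0a0002)))) (.node 43699 (.node 43697 (.leaf 0xaaaf00aaae) (.node 43698 (.leaf 0x4000303080005) (.leaf 0x0))) (.node 43700 (.leaf 0xb0a0f0003) (.node 43701 (.leaf 0x0) (.leaf 0xb0f0002))))))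

def argWS_3870 : Store := (.node 43679 argWS_3868 argWS_3869)

def argWS_3871 : Store := (.node 43713 (.node 43707 (.node 43704 (.node 43703 (.leaf 0x0) (.leaf 0x0)) (.node 43705 (.leaf 0xf0b0a0003) (.node 43706 (.leaf 0x402050003030604000703040103000e) (.leaf 0x0)))) (.node 43710 (.node 43708 (.leaf 0xf0b0b0003) (.node 43709 (.leaf 0x0) (.leaf 0xaabc))) (.node 43711 (.leaf 0xf0b0a0a0004) (.node 43712 (.leaf 0x0) (.leaf 0x906020000030703040103000b))))) (.node 43718 (.node 43715 (.node 43714 (.leaf 0x0) (.leaf 0xf0001)) (.node 43716 (.leaf 0xb0b0a0003) (.node 43717 (.leaf 0xb0f0a0a0004) (.leaf 0xaac4)))) (.node 43721 (.node 43719 (.leaf 0xf0b0b0a0004) (.node 43720 (.leaf 0x0) (.leaf 0xf0b0b0003))) (.node 43722 (.leaf 0x0) (.node 43723 (.leaf 0x0) (.leaf 0xd0001))))))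

def argWS_3872 : Store := (.node 43735 (.node 43729 (.node 43726 (.node 43725 (.leaf 0x2000200000300000802040105000d) (.leaf 0x0)) (.node 43727 (.leaf 0xf0b0b0003) (.node 43728 (.leaf 0x0) (.leaf 0xb0b0002)))) (.node 43732 (.node 43730 (.leaf 0xaad000aacf) (.node 43731 (.leaf 0x0) (.leaf 0xb0f0a0003))) (.node 43733 (.leaf 0x0) (.node 43734 (.leaf 0x0) (.leaf 0x30703010102000802040105000c))))) (.node 43741 (.node 43738 (.node 43736 (.leaf 0x0) (.node 43737 (.leaf 0xe0001) (.leaf 0x0))) (.node 43739 (.leaf 0xb0f0a0003) (.node 43740 (.leaf 0xaada0012e9) (.leaf 0x9020804000202000701000a)))) (.node 43744 (.node 43742 (.leaf 0x0) (.node 43743 (.leaf 0xb0f0a0a0004) (.leaf 0x0))) (.node 43745 (.leaf 0xf0b0b0003) (.node 43746 (.leaf 0x0) (.leaf 0x0))))))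

def argWS_3873 : Store := (.node 43724 argWS_3871 argWS_3872)

def argWS_3874 : Store := (.node 43702 argWS_3870 argWS_3873)

def argWS_3875 : Store := (.node 43758 (.node 43752 (.node 43749 (.node 43748 (.leaf 0xb0a0f0003) (.leaf 0x1030901090202000701000a)) (.node 43750 (.leaf 0x0) (.node 43751 (.leaf 0xf0b0b0a0004) (.leaf 0x0)))) (.node 43755 (.node 43753 (.leaf 0xa0f0b0b0004) (.node 43754 (.leaf 0xaae800aae7) (.leaf 0x20406020702010802040105000c))) (.node 43756 (.leaf 0x0) (.node 43757 (.leaf 0xb0a0a0003) (.leaf 0x0))))) (.node 43763 (.node 43760 (.node 43759 (.leaf 0x0) (.leaf 0xa0f0b0b0004)) (.node 43761 (.leaf 0xe0a0002) (.node 43762 (.leaf 0xaaf0009d38) (.leaf 0xb0a0f0003)))) (.node 43766 (.node 43764 (.leaf 0x0) (.node 43765 (.leaf 0xe0a0002) (.leaf 0x0))) (.node 43767 (.leaf 0x0) (.node 43768 (.leaf 0xa0f0002) (.leaf 0xd0b0002))))))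

def argWS_3876 : Store := (.node 43780 (.node 43774 (.node 43771 (.node 43770 (.leaf 0xf0001) (.leaf 0xaaf900aaf8)) (.node 43772 (.leaf 0x0) (.node 43773 (.leaf 0xa0f0b0b0004) (.leaf 0x0)))) (.node 43777 (.node 43775 (.leaf 0x0) (.node 43776 (.leaf 0xf0b0b0a0004) (.leaf 0x20200000300000802040105000c))) (.node 43778 (.leaf 0x0) (.node 43779 (.leaf 0xb0f0a0003) (.leaf 0x0))))) (.node 43786 (.node 43783 (.node 43781 (.leaf 0xab03) (.node 43782 (.leaf 0x2080400000703040103000c) (.leaf 0x0))) (.node 43784 (.leaf 0xe0a0002) (.node 43785 (.leaf 0x0) (.leaf 0xa0f0002)))) (.node 43789 (.node 43787 (.leaf 0x0) (.node 43788 (.leaf 0x0) (.leaf 0xb0a0f0003))) (.node 43790 (.leaf 0x6010900090802040105000a) (.node 43791 (.leaf 0x0) (.leaf 0xa0f0002))))))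

def argWS_3877 : Store := (.node 43769 argWS_3875 argWS_3876)

def argWS_3878 : Store := (.node 43803 (.node 43797 (.node 43794 (.node 43793 (.leaf 0x0) (.leaf 0xab10)) (.node 43795 (.leaf 0x50201090805000703040103000c) (.node 43796 (.leaf 0x0) (.leaf 0xf0b0b0003)))) (.node 43800 (.node 43798 (.leaf 0x0) (.node 43799 (.leaf 0xe0d0002) (.leaf 0x0))) (.node 43801 (.leaf 0x0) (.node 43802 (.leaf 0xf0b0a0a0004) (.leaf 0x9030007020600000703040103000d))))) (.node 43808 (.node 43805 (.node 43804 (.leaf 0x0) (.leaf 0xf0001)) (.node 43806 (.leaf 0x0) (.node 43807 (.leaf 0xab1d00ab19) (.leaf 0xe0d0002)))) (.node 43811 (.node 43809 (.leaf 0x0) (.node 43810 (.leaf 0x0) (.leaf 0xb0001))) (.node 43812 (.leaf 0xb0a0f0003) (.node 43813 (.leaf 0x80000070209020802040105000c) (.leaf 0x0))))))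

def argWS_3879 : Store := (.node 43825 (.node 43819 (.node 43816 (.node 43815 (.leaf 0xe0a0002) (.leaf 0x0)) (.node 43817 (.leaf 0xab2700ab23) (.node 43818 (.leaf 0x90000030306040007) (.leaf 0x0)))) (.node 43822 (.node 43820 (.leaf 0xa0001) (.node 43821 (.leaf 0x0) (.leaf 0xa0f0b0b0004))) (.node 43823 (.leaf 0x0) (.node 43824 (.leaf 0x0) (.leaf 0xe0d0002))))) (.node 43831 (.node 43828 (.node 43826 (.leaf 0x4020703000703040103000b) (.node 43827 (.leaf 0x0) (.leaf 0xb0f0002))) (.node 43829 (.leaf 0x0) (.node 43830 (.leaf 0x602000900090802040105000b) (.leaf 0x0)))) (.node 43834 (.node 43832 (.leaf 0xf0b0a0003) (.node 43833 (.leaf 0x0) (.leaf 0xab3800ab34))) (.node 43835 (.leaf 0x101030802020007010009) (.node 43836 (.leaf 0x0) (.leaf 0xa0f0b0b0004))))))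

def argWS_3880 : Store := (.node 43814 argWS_3878 argWS_3879)

def argWS_3881 : Store := (.node 43792 argWS_3877 argWS_3880)

def argWS_3882 : Store := (.node 43747 argWS_3874 argWS_3881)

def argWS_3883 : Store := (.node 43848 (.node 43842 (.node 43839 (.node 43838 (.leaf 0x0) (.leaf 0xf0b0a0a0004)) (.node 43840 (.leaf 0x0) (.node 43841 (.leaf 0x0) (.leaf 0xe0d0002)))) (.node 43845 (.node 43843 (.leaf 0x20601020901060802040105000c) (.node 43844 (.leaf 0x0) (.leaf 0xd0001))) (.node 43846 (.leaf 0x0) (.node 43847 (.leaf 0xab45) (.leaf 0xf0b0b0a0a0005))))) (.node 43853 (.node 43850 (.node 43849 (.leaf 0x0) (.leaf 0xb0f0a0003)) (.node 43851 (.leaf 0x0) (.node 43852 (.leaf 0x0) (.leaf 0xb0b0002)))) (.node 43856 (.node 43854 (.leaf 0xe0d0002) (.node 43855 (.leaf 0x566e00ab4d) (.leaf 0xe0d0002))) (.node 43857 (.leaf 0x0) (.node 43858 (.leaf 0xd0b0002) (.leaf 0x0))))))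

def argWS_3884 : Store := (.node 43870 (.node 43864 (.node 43861 (.node 43860 (.leaf 0x0) (.leaf 0xd0b0002)) (.node 43862 (.leaf 0x205020901060006) (.node 43863 (.leaf 0x0) (.leaf 0xf0b0a0a0004)))) (.node 43867 (.node 43865 (.leaf 0x0) (.node 43866 (.leaf 0x6030103010102000802040105000d) (.leaf 0x0))) (.node 43868 (.leaf 0x0) (.node 43869 (.leaf 0xab5b00ab58) (.leaf 0xe0d0002))))) (.node 43876 (.node 43873 (.node 43871 (.leaf 0x0) (.node 43872 (.leaf 0xa0f0b0003) (.leaf 0x0))) (.node 43874 (.leaf 0x0) (.node 43875 (.leaf 0x70300000004) (.leaf 0x0)))) (.node 43879 (.node 43877 (.leaf 0xf0b0a0003) (.node 43878 (.leaf 0x0) (.leaf 0xf0001))) (.node 43880 (.leaf 0xab6600ab65) (.node 43881 (.leaf 0x7000002000003010802040105000d) (.leaf 0x0))))))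

def argWS_3885 : Store := (.node 43859 argWS_3883 argWS_3884)

def argWS_3886 : Store := (.node 43893 (.node 43887 (.node 43884 (.node 43883 (.leaf 0xb0a0f0003) (.leaf 0x0)) (.node 43885 (.leaf 0xb0a0f0003) (.node 43886 (.leaf 0x0) (.leaf 0x0)))) (.node 43890 (.node 43888 (.leaf 0xf0b0b0003) (.node 43889 (.leaf 0x20202040005000703040103000c) (.leaf 0x0))) (.node 43891 (.leaf 0xf0b0a0003) (.node 43892 (.leaf 0x0) (.leaf 0xab73))))) (.node 43898 (.node 43895 (.node 43894 (.leaf 0xe0d0002) (.leaf 0x0)) (.node 43896 (.leaf 0xb0a0a0003) (.node 43897 (.leaf 0x0) (.leaf 0x0)))) (.node 43901 (.node 43899 (.leaf 0xb0001) (.node 43900 (.leaf 0x903090402000703040103000b) (.leaf 0x0))) (.node 43902 (.leaf 0xe0a0a0003) (.node 43903 (.leaf 0x0) (.leaf 0xab7e))))))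

def argWS_3887 : Store := (.node 43915 (.node 43909 (.node 43906 (.node 43905 (.leaf 0x70107020600000703040103000c) (.leaf 0x0)) (.node 43907 (.leaf 0xd0b0002) (.node 43908 (.leaf 0x0) (.leaf 0xe0001)))) (.node 43912 (.node 43910 (.leaf 0x0) (.node 43911 (.leaf 0x0) (.leaf 0xa0a0002))) (.node 43913 (.leaf 0xf0b0b0a0004) (.node 43914 (.leaf 0xab88) (.leaf 0x10201060207020703040103000c))))) (.node 43921 (.node 43918 (.node 43916 (.leaf 0x0) (.node 43917 (.leaf 0xa0a0002) (.leaf 0x0))) (.node 43919 (.leaf 0xf0b0b0003) (.node 43920 (.leaf 0x0) (.leaf 0x0)))) (.node 43924 (.node 43922 (.leaf 0xb0f0002) (.node 43923 (.leaf 0xb0001) (.leaf 0xd0001))) (.node 43925 (.leaf 0xab9300ab92) (.node 43926 (.leaf 0xa0001) (.leaf 0x0))))))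

def argWS_3888 : Store := (.node 43904 argWS_3886 argWS_3887)

def argWS_3889 : Store := (.node 43882 argWS_3885 argWS_3888)

def argWS_3890 : Store := (.node 43938 (.node 43932 (.node 43929 (.node 43928 (.leaf 0xf0a0002) (.leaf 0x0)) (.node 43930 (.leaf 0x0) (.node 43931 (.leaf 0xd0001) (.leaf 0x2040103080202000701000a)))) (.node 43935 (.node 43933 (.leaf 0x0) (.node 43934 (.leaf 0xf0a0a0003) (.leaf 0x0))) (.node 43936 (.leaf 0x10903010908050007) (.node 43937 (.leaf 0x0) (.leaf 0x0))))) (.node 43943 (.node 43940 (.node 43939 (.leaf 0xaba100ab9e) (.leaf 0xb0a0f0003)) (.node 43941 (.leaf 0x0) (.node 43942 (.leaf 0xb0b0a0a0004) (.leaf 0x0)))) (.node 43946 (.node 43944 (.leaf 0x0) (.node 43945 (.leaf 0xf0b0b0a0a0005) (.leaf 0xa0f0002))) (.node 43947 (.leaf 0x0) (.node 43948 (.leaf 0x50000020804000802040105000c) (.leaf 0x0))))))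

def argWS_3891 : Store := (.node 43960 (.node 43954 (.node 43951 (.node 43950 (.leaf 0xf0b0a0003) (.leaf 0x0)) (.node 43952 (.leaf 0xabae00abaa) (.node 43953 (.leaf 0xe0001) (.leaf 0x0)))) (.node 43957 (.node 43955 (.leaf 0xb0a0002) (.node 43956 (.leaf 0x0) (.leaf 0x0))) (.node 43958 (.leaf 0x4000406020702010802040105000d) (.node 43959 (.leaf 0x0) (.leaf 0xb0b0a0003))))) (.node 43966 (.node 43963 (.node 43961 (.leaf 0x0) (.node 43962 (.leaf 0x4030003030604000703040103000d) (.leaf 0x0))) (.node 43964 (.leaf 0xd0001) (.node 43965 (.leaf 0x0) (.leaf 0xabae00abbc)))) (.node 43969 (.node 43967 (.leaf 0xb0b0a0a0004) (.node 43968 (.leaf 0x0) (.leaf 0xd0b0b0003))) (.node 43970 (.leaf 0x0) (.node 43971 (.leaf 0x0) (.leaf 0xb0b0a0a0004))))))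

def argWS_3892 : Store := (.node 43949 argWS_3890 argWS_3891)

def argWS_3893 : Store := (.node 43983 (.node 43977 (.node 43974 (.node 43973 (.leaf 0x10702010606000703040103000c) (.leaf 0x0)) (.node 43975 (.leaf 0xd0001) (.node 43976 (.leaf 0x0) (.leaf 0xabc700732f)))) (.node 43980 (.node 43978 (.leaf 0xe0d0002) (.node 43979 (.leaf 0x0) (.leaf 0xe0d0002))) (.node 43981 (.leaf 0x0) (.node 43982 (.leaf 0x0) (.leaf 0xf0b0a0003))))) (.node 43989 (.node 43986 (.node 43984 (.leaf 0xf0001) (.node 43985 (.leaf 0xb0f0a0a0004) (.leaf 0xabd000abcf))) (.node 43987 (.leaf 0xa0a0002) (.node 43988 (.leaf 0x0) (.leaf 0x2050207020007010008)))) (.node 43992 (.node 43990 (.leaf 0x0) (.node 43991 (.leaf 0xb0f0a0a0004) (.leaf 0xd0b0b0003))) (.node 43993 (.leaf 0xb0f0002) (.node 43994 (.leaf 0xb0001) (.leaf 0xabd900abd8))))))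

def argWS_3894 : Store := (.node 44006 (.node 44000 (.node 43997 (.node 43996 (.leaf 0xb0f0002) (.leaf 0x0)) (.node 43998 (.leaf 0x502020007010007) (.node 43999 (.leaf 0x0) (.leaf 0xa0f0b0b0004)))) (.node 44003 (.node 44001 (.leaf 0xa0a0002) (.node 44002 (.leaf 0x4000002080400000703040103000e) (.leaf 0x0))) (.node 44004 (.leaf 0xb0001) (.node 44005 (.leaf 0x0) (.leaf 0xe0a0a0003))))) (.node 44012 (.node 44009 (.node 44007 (.leaf 0xabe500abe4) (.node 44008 (.leaf 0x50901060004) (.leaf 0x0))) (.node 44010 (.leaf 0xd0b0b0003) (.node 44011 (.leaf 0x0) (.leaf 0xa0001)))) (.node 44015 (.node 44013 (.leaf 0x0) (.node 44014 (.leaf 0x0) (.leaf 0xf0b0a0a0004))) (.node 44016 (.leaf 0x2020000030000000703040103000d) (.node 44017 (.leaf 0x0) (.leaf 0xd0b0b0003))))))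

def argWS_3895 : Store := (.node 43995 argWS_3893 argWS_3894)

def argWS_3896 : Store := (.node 43972 argWS_3892 argWS_3895)

def argWS_3897 : Store := (.node 43927 argWS_3889 argWS_3896)

def argWS_3898 : Store := (.node 43837 argWS_3882 argWS_3897)

def argWS_3899 : Store := (.node 43657 argWS_3867 argWS_3898)

def argWS_3900 : Store := (.node 44029 (.node 44023 (.node 44020 (.node 44019 (.leaf 0x0) (.leaf 0xa0f0002)) (.node 44021 (.leaf 0xabf300abf2) (.node 44022 (.leaf 0xf0a0a0003) (.leaf 0x0)))) (.node 44026 (.node 44024 (.leaf 0xe0d0002) (.node 44025 (.leaf 0x0) (.leaf 0x0))) (.node 44027 (.leaf 0xf0a0002) (.node 44028 (.leaf 0x1020208020401050008) (.leaf 0x0))))) (.node 44034 (.node 44031 (.node 44030 (.leaf 0xb0f0a0a0004) (.leaf 0x0)) (.node 44032 (.leaf 0xa64b00abfe) (.node 44033 (.leaf 0xb0a0002) (.leaf 0x0)))) (.node 44037 (.node 44035 (.leaf 0x6010603050004000703040103000d) (.node 44036 (.leaf 0x0) (.leaf 0xd0b0b0003))) (.node 44038 (.leaf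 0xa0f0002) (.node 44039 (.leaf 0xf0a0002) (.leaf 0xac06))))))

def argWS_3901 : Store := (.node 44051 (.node 44045 (.node 44042 (.node 44041 (.leaf 0xf0b0b0003) (.leaf 0x0)) (.node 44043 (.leaf 0xb0b0a0003) (.node 44044 (.leaf 0x0) (.leaf 0x0)))) (.node 44048 (.node 44046 (.leaf 0xa0f0b0003) (.node 44047 (.leaf 0xd0b0b0003) (.leaf 0xf0a0a0003))) (.node 44049 (.leaf 0xac0f00ac0e) (.node 44050 (.leaf 0x60201040005000703040103000c) (.leaf 0x0))))) (.node 44057 (.node 44054 (.node 44052 (.leaf 0xb0f0a0003) (.node 44053 (.leaf 0x0) (.leaf 0xb0b0a0003))) (.node 44055 (.leaf 0x0) (.node 44056 (.leaf 0x0) (.leaf 0xb0f0a0003)))) (.node 44060 (.node 44058 (.leaf 0xe0001) (.node 44059 (.leaf 0xac19) (.leaf 0x700000007030401030009))) (.node 44061 (.leaf 0x0) (.node 44062 (.leaf 0xd0b0002) (.leaf 0x0))))))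

def argWS_3902 : Store := (.node 44040 argWS_3900 argWS_3901)

def argWS_3903 : Store := (.node 44074 (.node 44068 (.node 44065 (.node 44064 (.leaf 0xb0001) (.leaf 0x0)) (.node 44066 (.leaf 0x0) (.node 44067 (.leaf 0xb0a0002) (.leaf 0xa0f0002)))) (.node 44071 (.node 44069 (.leaf 0x606010500020802040105000b) (.node 44070 (.leaf 0x0) (.leaf 0xf0001))) (.node 44072 (.leaf 0x0) (.node 44073 (.leaf 0xac2700ac23) (.leaf 0xa0f0002))))) (.node 44079 (.node 44076 (.node 44075 (.leaf 0x0) (.leaf 0xd0b0002)) (.node 44077 (.leaf 0x0) (.node 44078 (.leaf 0x0) (.leaf 0xf0b0a0003)))) (.node 44082 (.node 44080 (.leaf 0x305090009000703040103000b) (.node 44081 (.leaf 0x0) (.leaf 0xb0a0f0003))) (.node 44083 (.leaf 0x0) (.node 44084 (.leaf 0xac32009aab) (.leaf 0xb0001))))))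

def argWS_3904 : Store := (.node 44096 (.node 44090 (.node 44087 (.node 44086 (.leaf 0x0) (.leaf 0xf0a0a0003)) (.node 44088 (.leaf 0x0) (.node 44089 (.leaf 0x0) (.leaf 0x0)))) (.node 44093 (.node 44091 (.leaf 0x7070206000202000701000a) (.node 44092 (.leaf 0x0) (.leaf 0xe0a0a0003))) (.node 44094 (.leaf 0x0) (.node 44095 (.leaf 0xac3d00ac39) (.leaf 0xe0a0002))))) (.node 44102 (.node 44099 (.node 44097 (.leaf 0x0) (.node 44098 (.leaf 0xa0f0b0b0004) (.leaf 0x0))) (.node 44100 (.leaf 0x0) (.node 44101 (.leaf 0xb0b0a0003) (.leaf 0x700020603000703040103000b)))) (.node 44105 (.node 44103 (.leaf 0x0) (.node 44104 (.leaf 0xb0b0a0a0004) (.leaf 0x0))) (.node 44106 (.leaf 0x9010901090005) (.node 44107 (.leaf 0x0) (.leaf 0xb0b0002))))))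

def argWS_3905 : Store := (.node 44085 argWS_3903 argWS_3904)

def argWS_3906 : Store := (.node 44063 argWS_3902 argWS_3905)

def argWS_3907 : Store := (.node 44119 (.node 44113 (.node 44110 (.node 44109 (.leaf 0x0) (.leaf 0xac4c00ac48)) (.node 44111 (.leaf 0xa0f0b0b0004) (.node 44112 (.leaf 0x0) (.leaf 0xf0b0b0a0004)))) (.node 44116 (.node 44114 (.leaf 0x0) (.node 44115 (.leaf 0x0) (.leaf 0xf0b0a0a0004))) (.node 44117 (.leaf 0x6000009020602000703040103000d) (.node 44118 (.leaf 0x0) (.leaf 0xa0a0002))))) (.node 44124 (.node 44121 (.node 44120 (.leaf 0x0) (.leaf 0xb0a0a0003)) (.node 44122 (.leaf 0xac5800ac57) (.node 44123 (.leaf 0xb0a0f0003) (.leaf 0x0)))) (.node 44127 (.node 44125 (.leaf 0xf0b0002) (.node 44126 (.leaf 0x0) (.leaf 0x0))) (.node 44128 (.leaf 0x40103010102000202000701000c) (.node 44129 (.leaf 0x0) (.leaf 0xe0d0002))))))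

def argWS_3908 : Store := (.node 44141 (.node 44135 (.node 44132 (.node 44131 (.leaf 0x0) (.leaf 0xf0a0a0003)) (.node 44133 (.leaf 0xac6300ac62) (.node 44134 (.leaf 0xb0a0a0003) (.leaf 0x0)))) (.node 44138 (.node 44136 (.leaf 0xf0b0a0a0004) (.node 44137 (.leaf 0x0) (.leaf 0x0))) (.node 44139 (.leaf 0xe0a0002) (.node 44140 (.leaf 0x30500000300000007) (.leaf 0x0))))) (.node 44147 (.node 44144 (.node 44142 (.leaf 0xd0b0b0003) (.node 44143 (.leaf 0x0) (.leaf 0xac6e))) (.node 44145 (.leaf 0xb0a0a0003) (.node 44146 (.leaf 0x0) (.leaf 0x2090206020802040105000a)))) (.node 44150 (.node 44148 (.leaf 0x0) (.node 44149 (.leaf 0xd0b0002) (.leaf 0xb0b0a0003))) (.node 44151 (.leaf 0x0) (.node 44152 (.leaf 0xf0a0a0003) (.leaf 0x0))))))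

def argWS_3909 : Store := (.node 44130 argWS_3907 argWS_3908)

def argWS_3910 : Store := (.node 44164 (.node 44158 (.node 44155 (.node 44154 (.leaf 0x50200070209020202000701000c) (.leaf 0x0)) (.node 44156 (.leaf 0xf0001) (.node 44157 (.leaf 0x0) (.leaf 0xd0001)))) (.node 44161 (.node 44159 (.leaf 0xac7d00ac7c) (.node 44160 (.leaf 0xa0001) (.leaf 0x0))) (.node 44162 (.leaf 0x20502020900000007) (.node 44163 (.leaf 0x0) (.leaf 0xb0b0a0003))))) (.node 44169 (.node 44166 (.node 44165 (.leaf 0xb0001) (.leaf 0x20502090806000802040105000c)) (.node 44167 (.leaf 0x0) (.node 44168 (.leaf 0xb0b0a0003) (.leaf 0x0)))) (.node 44172 (.node 44170 (.leaf 0xac88) (.node 44171 (.leaf 0xe0d0002) (.leaf 0x0))) (.node 44173 (.leaf 0x4000009020602000703040103000e) (.node 44174 (.leaf 0x0) (.leaf 0xf0b0002))))))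

def argWS_3911 : Store := (.node 44186 (.node 44180 (.node 44177 (.node 44176 (.leaf 0x20406030500040202000701000c) (.leaf 0x0)) (.node 44178 (.leaf 0xe0d0002) (.node 44179 (.leaf 0x0) (.leaf 0xac92)))) (.node 44183 (.node 44181 (.leaf 0x2090003030604000703040103000d) (.node 44182 (.leaf 0x0) (.leaf 0xf0001))) (.node 44184 (.leaf 0x0) (.node 44185 (.leaf 0xf0b0b0a0004) (.leaf 0x0))))) (.node 44192 (.node 44189 (.node 44187 (.leaf 0x0) (.node 44188 (.leaf 0x80006020702010008) (.leaf 0x0))) (.node 44190 (.leaf 0xf0b0002) (.node 44191 (.leaf 0x0) (.leaf 0x90700000300000202000701000c)))) (.node 44195 (.node 44193 (.leaf 0x0) (.node 44194 (.leaf 0xb0001) (.leaf 0x0))) (.node 44196 (.leaf 0xaca2) (.node 44197 (.leaf 0xf0b0a0003) (.leaf 0x0))))))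

def argWS_3912 : Store := (.node 44175 argWS_3910 argWS_3911)

def argWS_3913 : Store := (.node 44153 argWS_3909 argWS_3912)

def argWS_3914 : Store := (.node 44108 argWS_3906 argWS_3913)

def argWS_3915 : Store := (.node 44209 (.node 44203 (.node 44200 (.node 44199 (.leaf 0x701030306040202000701000b) (.leaf 0x0)) (.node 44201 (.leaf 0xb0f0a0003) (.node 44202 (.leaf 0x2090307000903000703040103000d) (.leaf 0x0)))) (.node 44206 (.node 44204 (.leaf 0xb0b0002) (.node 44205 (.leaf 0x0) (.leaf 0xe0a0a0003))) (.node 44207 (.leaf 0x50106060004) (.node 44208 (.leaf 0x0) (.leaf 0xb0b0a0003))))) (.node 44214 (.node 44211 (.node 44210 (.leaf 0x0) (.leaf 0xacb100acad)) (.node 44212 (.leaf 0xe0a0a0003) (.node 44213 (.leaf 0x0) (.leaf 0xb0a0f0003)))) (.node 44217 (.node 44215 (.leaf 0x0) (.node 44216 (.leaf 0x0) (.leaf 0x9020902000703040103000a))) (.node 44218 (.leaf 0x0) (.node 44219 (.leaf 0xf0a0002) (.leaf 0x0))))))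

def argWS_3916 : Store := (.node 44231 (.node 44225 (.node 44222 (.node 44221 (.leaf 0x49c000acbb) (.leaf 0x3050206040202000701000a)) (.node 44223 (.leaf 0x0) (.node 44224 (.leaf 0xb0a0a0003) (.leaf 0x0)))) (.node 44228 (.node 44226 (.leaf 0xf0b0a0003) (.node 44227 (.leaf 0x0) (.leaf 0x0))) (.node 44229 (.leaf 0xf0b0002) (.node 44230 (.leaf 0x20506030500040007) (.leaf 0x0))))) (.node 44237 (.node 44234 (.node 44232 (.leaf 0xa0f0002) (.node 44233 (.leaf 0x0) (.leaf 0x602700acc8))) (.node 44235 (.leaf 0xe0a0002) (.node 44236 (.leaf 0x0) (.leaf 0xb0b0a0003)))) (.node 44240 (.node 44238 (.leaf 0x0) (.node 44239 (.leaf 0xb0a0002) (.leaf 0xe0a0a0003))) (.node 44241 (.leaf 0xaccf) (.node 44242 (.leaf 0x7010102020900000802040105000d) (.leaf 0x0))))))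

def argWS_3917 : Store := (.node 44220 argWS_3915 argWS_3916)

def argWS_3918 : Store := (.node 44254 (.node 44248 (.node 44245 (.node 44244 (.leaf 0xb0f0002) (.leaf 0x0)) (.node 44246 (.leaf 0xb0a0f0003) (.node 44247 (.leaf 0x0) (.leaf 0x0)))) (.node 44251 (.node 44249 (.leaf 0xa0001) (.node 44250 (.leaf 0xb0f0002) (.leaf 0xb0b0a0a0004))) (.node 44252 (.leaf 0xacda00acd9) (.node 44253 (.leaf 0xf0b0002) (.leaf 0x0))))) (.node 44259 (.node 44256 (.node 44255 (.leaf 0xf0b0b0a0a0005) (.leaf 0x0)) (.node 44257 (.leaf 0x0) (.node 44258 (.leaf 0x3090109000703040103000b) (.leaf 0x0)))) (.node 44262 (.node 44260 (.leaf 0xd0001) (.node 44261 (.leaf 0x0) (.leaf 0x3010606000703040103000a))) (.node 44263 (.leaf 0x0) (.node 44264 (.leaf 0xb0001) (.leaf 0x0))))))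

def argWS_3919 : Store := (.node 44276 (.node 44270 (.node 44267 (.node 44266 (.leaf 0xace8) (.leaf 0xe0001)) (.node 44268 (.leaf 0x0) (.node 44269 (.leaf 0x400030000030000000703040103000e) (.leaf 0x0)))) (.node 44273 (.node 44271 (.leaf 0xb0001) (.node 44272 (.leaf 0x8000400030306040008) (.leaf 0x0))) (.node 44274 (.leaf 0xa0f0b0b0004) (.node 44275 (.leaf 0x0) (.leaf 0x1020201070306000703040103000d))))) (.node 44282 (.node 44279 (.node 44277 (.leaf 0x0) (.node 44278 (.leaf 0xb0b0002) (.leaf 0x0))) (.node 44280 (.leaf 0xb0f0a0003) (.node 44281 (.leaf 0xacf700acf6) (.leaf 0xb0001)))) (.node 44285 (.node 44283 (.leaf 0x0) (.node 44284 (.leaf 0x30002020900000007) (.leaf 0x0))) (.node 44286 (.leaf 0xd0b0002) (.node 44287 (.leaf 0xf0b0b0a0004) (.leaf 0x303070009030802040105000b))))))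

def argWS_3920 : Store := (.node 44265 argWS_3918 argWS_3919)

def argWS_3921 : Store := (.node 44243 argWS_3917 argWS_3920)

def argWS_3922 : Store := (.node 44299 (.node 44293 (.node 44290 (.node 44289 (.leaf 0x0) (.leaf 0x0)) (.node 44291 (.leaf 0xad01) (.node 44292 (.leaf 0xb0a0a0003) (.leaf 0x0)))) (.node 44296 (.node 44294 (.leaf 0x2050202020900000802040105000d) (.node 44295 (.leaf 0x0) (.leaf 0xb0b0a0a0004))) (.node 44297 (.leaf 0xf0001) (.node 44298 (.leaf 0xa0f0002) (.leaf 0xa0001))))) (.node 44304 (.node 44301 (.node 44300 (.leaf 0xad0a00ad09) (.leaf 0xf0a0002)) (.node 44302 (.leaf 0x0) (.node 44303 (.leaf 0xe0001) (.leaf 0x0)))) (.node 44307 (.node 44305 (.leaf 0x0) (.node 44306 (.leaf 0xf0a0a0003) (.leaf 0x6000000020804000008))) (.node 44308 (.leaf 0x0) (.node 44309 (.leaf 0xd0b0002) (.leaf 0x0))))))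

def argWS_3923 : Store := (.node 44321 (.node 44315 (.node 44312 (.node 44311 (.leaf 0xa0a0002) (.leaf 0xad1600ad15)) (.node 44313 (.leaf 0xf0b0b0003) (.node 44314 (.leaf 0x0) (.leaf 0xa0f0002)))) (.node 44318 (.node 44316 (.leaf 0x0) (.node 44317 (.leaf 0x0) (.leaf 0xf0a0002))) (.node 44319 (.leaf 0x400090206020202000701000c) (.node 44320 (.leaf 0x0) (.leaf 0xa0f0b0b0004))))) (.node 44327 (.node 44324 (.node 44322 (.leaf 0x0) (.node 44323 (.leaf 0xf0b0b0a0a0005) (.leaf 0xad2200ad21))) (.node 44325 (.leaf 0xb0f0a0a0004) (.node 44326 (.leaf 0x0) (.leaf 0x7040400050005)))) (.node 44330 (.node 44328 (.leaf 0x0) (.node 44329 (.leaf 0xf0a0002) (.leaf 0xb0001))) (.node 44331 (.leaf 0xf0b0b0003) (.node 44332 (.leaf 0xf0b0a0a0004) (.leaf 0xad2b00ad2a))))))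

def argWS_3924 : Store := (.node 44310 argWS_3922 argWS_3923)

def argWS_3925 : Store := (.node 44344 (.node 44338 (.node 44335 (.node 44334 (.leaf 0x80006020702010802040105000c) (.leaf 0x0)) (.node 44336 (.leaf 0xd0b0002) (.node 44337 (.leaf 0x0) (.leaf 0xd0b0b0003)))) (.node 44341 (.node 44339 (.leaf 0x0) (.node 44340 (.leaf 0xe0a0a0003) (.leaf 0xa0f0b0b0004))) (.node 44342 (.leaf 0x80003010102000008) (.node 44343 (.leaf 0x0) (.leaf 0xe0001))))) (.node 44350 (.node 44347 (.node 44345 (.leaf 0x0) (.node 44346 (.leaf 0xad3800ad34) (.leaf 0x601070209020802040105000b))) (.node 44348 (.leaf 0x0) (.node 44349 (.leaf 0xa0f0b0003) (.leaf 0x0)))) (.node 44353 (.node 44351 (.leaf 0xf0001) (.node 44352 (.leaf 0x0) (.leaf 0x0))) (.node 44354 (.leaf 0xd0b0b0003) (.node 44355 (.leaf 0x70005020202010007) (.leaf 0x0))))))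

def argWS_3926 : Store := (.node 44367 (.node 44361 (.node 44358 (.node 44357 (.leaf 0x0) (.leaf 0xa0f0002)) (.node 44359 (.leaf 0xad4500ad44) (.node 44360 (.leaf 0x2040102010606000703040103000d) (.leaf 0x0)))) (.node 44364 (.node 44362 (.leaf 0xb0a0f0003) (.node 44363 (.leaf 0x0) (.leaf 0xb0a0f0003))) (.node 44365 (.leaf 0x0) (.node 44366 (.leaf 0x0) (.leaf 0xf0b0b0a0004))))) (.node 44373 (.node 44370 (.node 44368 (.leaf 0x5020908050802040105000a) (.node 44369 (.leaf 0x0) (.leaf 0xa0f0b0003))) (.node 44371 (.leaf 0x0) (.node 44372 (.leaf 0xad52) (.leaf 0x2060103080005)))) (.node 44376 (.node 44374 (.leaf 0x0) (.node 44375 (.leaf 0xf0b0002) (.leaf 0x0))) (.node 44377 (.leaf 0xf0b0a0a0004) (.node 44378 (.leaf 0x0) (.leaf 0x0))))))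

def argWS_3927 : Store := (.node 44356 argWS_3925 argWS_3926)

def argWS_3928 : Store := (.node 44333 argWS_3924 argWS_3927)

def argWS_3929 : Store := (.node 44288 argWS_3921 argWS_3928)

def argWS_3930 : Store := (.node 44198 argWS_3914 argWS_3929)

def argWS_3931 : Store := (.node 44390 (.node 44384 (.node 44381 (.node 44380 (.leaf 0xf0a0a0003) (.leaf 0x603010400050202000701000b)) (.node 44382 (.leaf 0x0) (.node 44383 (.leaf 0xa0a0002) (.leaf 0x0)))) (.node 44387 (.node 44385 (.leaf 0xacdb00ad5f) (.node 44386 (.leaf 0xf0a0002) (.leaf 0x0))) (.node 44388 (.leaf 0x40300090000090802040105000c) (.node 44389 (.leaf 0x0) (.leaf 0xf0001))))) (.node 44395 (.node 44392 (.node 44391 (.leaf 0xf0b0a0a0004) (.leaf 0xb0b0002)) (.node 44393 (.leaf 0xad67) (.node 44394 (.leaf 0xf0a0002) (.leaf 0x0)))) (.node 44398 (.node 44396 (.leaf 0xb0a0002) (.node 44397 (.leaf 0x0) (.leaf 0x0))) (.node 44399 (.leaf 0xf0b0002) (.node 44400 (.leaf 0x4020106060802040105000b) (.leaf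 0x0))))))

def argWS_3932 : Store := (.node 44412 (.node 44406 (.node 44403 (.node 44402 (.leaf 0xe0a0002) (.leaf 0x0)) (.node 44404 (.leaf 0xb0a0a0003) (.node 44405 (.leaf 0xad7300ad72) (.leaf 0x2010301090402000703040103000d)))) (.node 44409 (.node 44407 (.leaf 0x0) (.node 44408 (.leaf 0xf0b0a0a0004) (.leaf 0x0))) (.node 44410 (.leaf 0xd0b0b0003) (.node 44411 (.leaf 0x0) (.leaf 0x0))))) (.node 44418 (.node 44415 (.node 44413 (.leaf 0xf0b0002) (.node 44414 (.leaf 0x305000408010006) (.leaf 0x0))) (.node 44416 (.leaf 0xb0b0a0003) (.node 44417 (.leaf 0x0) (.leaf 0xad8000ad7c)))) (.node 44421 (.node 44419 (.leaf 0xf0a0002) (.node 44420 (.leaf 0x0) (.leaf 0x10402090106000703040103000c))) (.node 44422 (.leaf 0x0) (.node 44423 (.leaf 0xa0f0002) (.leaf 0xb0b0a0a0004))))))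

def argWS_3933 : Store := (.node 44401 argWS_3931 argWS_3932)

def argWS_3934 : Store := (.node 44435 (.node 44429 (.node 44426 (.node 44425 (.leaf 0x9050305020202010802040105000d) (.leaf 0x0)) (.node 44427 (.leaf 0xe0d0002) (.node 44428 (.leaf 0x0) (.leaf 0xf0b0b0003)))) (.node 44432 (.node 44430 (.leaf 0xad8c00ad8b) (.node 44431 (.leaf 0x9030006010500020202000701000d) (.leaf 0x0))) (.node 44433 (.leaf 0xa0f0002) (.node 44434 (.leaf 0x0) (.leaf 0x0))))) (.node 44440 (.node 44437 (.node 44436 (.leaf 0xf0b0b0a0a0005) (.leaf 0x602000206030802040105000b)) (.node 44438 (.leaf 0x0) (.node 44439 (.leaf 0xa0001) (.leaf 0x0)))) (.node 44443 (.node 44441 (.leaf 0xad97) (.node 44442 (.leaf 0xa0f0002) (.leaf 0x0))) (.node 44444 (.leaf 0xf0a0a0003) (.node 44445 (.leaf 0x0) (.leaf 0x0))))))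

def argWS_3935 : Store := (.node 44457 (.node 44451 (.node 44448 (.node 44447 (.leaf 0xf0b0002) (.leaf 0x30103010102000802040105000c)) (.node 44449 (.leaf 0x0) (.node 44450 (.leaf 0xb0b0a0a0004) (.leaf 0x0)))) (.node 44454 (.node 44452 (.leaf 0xb0f0002) (.node 44453 (.leaf 0xada300ada2) (.leaf 0x4020900000802040105000a))) (.node 44455 (.leaf 0x0) (.node 44456 (.leaf 0xf0b0002) (.leaf 0x0))))) (.node 44463 (.node 44460 (.node 44458 (.leaf 0xf0a0002) (.node 44459 (.leaf 0x0) (.leaf 0x0))) (.node 44461 (.leaf 0xd0b0002) (.node 44462 (.leaf 0xb0b0a0003) (.leaf 0xadad00adac)))) (.node 44466 (.node 44464 (.leaf 0xb0001) (.node 44465 (.leaf 0x0) (.leaf 0xf0b0a0003))) (.node 44467 (.leaf 0x0) (.node 44468 (.leaf 0x0) (.leaf 0x2040106020702010202000701000d))))))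

def argWS_3936 : Store := (.node 44446 argWS_3934 argWS_3935)

def argWS_3937 : Store := (.node 44424 argWS_3933 argWS_3936)

def argWS_3938 : Store := (.node 44480 (.node 44474 (.node 44471 (.node 44470 (.leaf 0x0) (.leaf 0xa0a0002)) (.node 44472 (.leaf 0x0) (.node 44473 (.leaf 0xf0a0002) (.leaf 0xadb800adb7)))) (.node 44477 (.node 44475 (.leaf 0x107000603050004000703040103000e) (.node 44476 (.leaf 0x0) (.leaf 0xf0b0b0003))) (.node 44478 (.leaf 0x0) (.node 44479 (.leaf 0xb0a0f0003) (.leaf 0x0))))) (.node 44485 (.node 44482 (.node 44481 (.leaf 0x0) (.leaf 0xb0b0a0a0004)) (.node 44483 (.leaf 0x4090009000703040103000b) (.node 44484 (.leaf 0x0) (.leaf 0xf0001)))) (.node 44488 (.node 44486 (.leaf 0x0) (.node 44487 (.leaf 0xb0f0a0003) (.leaf 0xadc600adc5))) (.node 44489 (.leaf 0xb0b0a0a0004) (.node 44490 (.leaf 0x0) (.leaf 0xf0b0a0a0004))))))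

def argWS_3939 : Store := (.node 44502 (.node 44496 (.node 44493 (.node 44492 (.leaf 0x0) (.leaf 0x0)) (.node 44494 (.leaf 0x40409080600000703040103000c) (.node 44495 (.leaf 0x0) (.leaf 0xf0a0a0003)))) (.node 44499 (.node 44497 (.leaf 0x0) (.node 44498 (.leaf 0x400020106060802040105000c) (.leaf 0x0))) (.node 44500 (.leaf 0xa0001) (.node 44501 (.leaf 0x0) (.leaf 0xb0a0a0003))))) (.node 44508 (.node 44505 (.node 44503 (.leaf 0xadd500add4) (.node 44504 (.leaf 0xe0a0002) (.leaf 0x0))) (.node 44506 (.leaf 0xa0f0002) (.node 44507 (.leaf 0x0) (.leaf 0x0)))) (.node 44511 (.node 44509 (.leaf 0xa0001) (.node 44510 (.leaf 0x20002080400000703040103000d) (.leaf 0x0))) (.node 44512 (.leaf 0xd0b0002) (.node 44513 (.leaf 0x0) (.leaf 0xade0))))))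

def argWS_3940 : Store := (.node 44491 argWS_3938 argWS_3939)

def argWS_3941 : Store := (.node 44525 (.node 44519 (.node 44516 (.node 44515 (.leaf 0x90000020804000802040105000d) (.leaf 0x0)) (.node 44517 (.leaf 0xf0b0b0003) (.node 44518 (.leaf 0x0) (.leaf 0xa0f0b0b0004)))) (.node 44522 (.node 44520 (.leaf 0x0) (.node 44521 (.leaf 0x0) (.leaf 0xe0a0a0003))) (.node 44523 (.leaf 0x10301020000030703040103000c) (.node 44524 (.leaf 0x0) (.leaf 0xb0f0a0003))))) (.node 44530 (.node 44527 (.node 44526 (.leaf 0x0) (.leaf 0xd0b0002)) (.node 44528 (.leaf 0xadee00aded) (.node 44529 (.leaf 0x6020207020007010008) (.leaf 0x0)))) (.node 44533 (.node 44531 (.leaf 0xb0f0a0a0004) (.node 44532 (.leaf 0x0) (.leaf 0xa0a0002))) (.node 44534 (.leaf 0x0) (.node 44535 (.leaf 0x0) (.leaf 0xe0a0a0003))))))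

def argWS_3942 : Store := (.node 44547 (.node 44541 (.node 44538 (.node 44537 (.leaf 0x5020102020900000202000701000d) (.leaf 0x0)) (.node 44539 (.leaf 0xb0001) (.node 44540 (.leaf 0x0) (.leaf 0xadfb)))) (.node 44544 (.node 44542 (.leaf 0xf0b0b0a0a0005) (.node 44543 (.leaf 0x0) (.leaf 0xf0b0b0a0004))) (.node 44545 (.leaf 0x0) (.node 44546 (.leaf 0x0) (.leaf 0xe0001))))) (.node 44553 (.node 44550 (.node 44548 (.leaf 0x20202010005) (.node 44549 (.leaf 0x0) (.leaf 0xe0a0a0003))) (.node 44551 (.leaf 0x0) (.node 44552 (.leaf 0xa0f0b0b0004) (.leaf 0xae0700ae06)))) (.node 44556 (.node 44554 (.leaf 0xb0a0002) (.node 44555 (.leaf 0x0) (.leaf 0xa0a0002))) (.node 44557 (.leaf 0x0) (.node 44558 (.leaf 0x0) (.leaf 0xf0b0b0a0a0005))))))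

def argWS_3943 : Store := (.node 44536 argWS_3941 argWS_3942)

def argWS_3944 : Store := (.node 44514 argWS_3940 argWS_3943)

def argWS_3945 : Store := (.node 44469 argWS_3937 argWS_3944)

def argWS_3946 : Store := (.node 44570 (.node 44564 (.node 44561 (.node 44560 (.leaf 0xb0f0002) (.leaf 0xae0f00ae0e)) (.node 44562 (.leaf 0xe0a0002) (.node 44563 (.leaf 0x0) (.leaf 0x0)))) (.node 44567 (.node 44565 (.leaf 0xf0a0002) (.node 44566 (.leaf 0xb0b0a0a0004) (.leaf 0x602000003010006))) (.node 44568 (.leaf 0x0) (.node 44569 (.leaf 0xf0b0a0003) (.leaf 0x0))))) (.node 44575 (.node 44572 (.node 44571 (.leaf 0xae19) (.leaf 0xe0001)) (.node 44573 (.leaf 0x0) (.node 44574 (.leaf 0xf0b0002) (.leaf 0x0)))) (.node 44578 (.node 44576 (.leaf 0x0) (.node 44577 (.leaf 0xb0a0f0003) (.leaf 0x1070209020802040105000a))) (.node 44579 (.leaf 0x0) (.node 44580 (.leaf 0xa0f0b0b0004) (.leaf 0x0))))))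

def argWS_3947 : Store := (.node 44592 (.node 44586 (.node 44583 (.node 44582 (.leaf 0x4000409000009000703040103000d) (.leaf 0x0)) (.node 44584 (.leaf 0xf0a0a0003) (.node 44585 (.leaf 0x0) (.leaf 0xae2800ae24)))) (.node 44589 (.node 44587 (.leaf 0xa0f0b0b0004) (.node 44588 (.leaf 0x0) (.leaf 0x60102010901090802040105000c))) (.node 44590 (.leaf 0x0) (.node 44591 (.leaf 0xf0b0b0a0a0005) (.leaf 0xa0f0002))))) (.node 44598 (.node 44595 (.node 44593 (.leaf 0x901010908050006) (.node 44594 (.leaf 0x0) (.leaf 0xd0b0002))) (.node 44596 (.leaf 0x0) (.node 44597 (.leaf 0xae33) (.leaf 0xb0f0a0003)))) (.node 44601 (.node 44599 (.leaf 0x0) (.node 44600 (.leaf 0xb0f0a0a0004) (.leaf 0x0))) (.node 44602 (.leaf 0x0) (.node 44603 (.leaf 0xe0001) (.leaf 0x1020106060005))))))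

def argWS_3948 : Store := (.node 44581 argWS_3946 argWS_3947)

def argWS_3949 : Store := (.node 44615 (.node 44609 (.node 44606 (.node 44605 (.leaf 0x0) (.leaf 0xb0001)) (.node 44607 (.leaf 0x0) (.node 44608 (.leaf 0xae3e) (.leaf 0x2020000000300000802040105000d)))) (.node 44612 (.node 44610 (.leaf 0x0) (.node 44611 (.leaf 0xf0001) (.leaf 0x0))) (.node 44613 (.leaf 0xf0b0a0003) (.node 44614 (.leaf 0x0) (.leaf 0x0))))) (.node 44620 (.node 44617 (.node 44616 (.leaf 0xe0a0a0003) (.leaf 0xf0b0a0a0004)) (.node 44618 (.leaf 0xae48003c94) (.node 44619 (.leaf 0xb0b0002) (.leaf 0x0)))) (.node 44623 (.node 44621 (.leaf 0x1030006030500040202000701000d) (.node 44622 (.leaf 0x0) (.leaf 0xf0b0b0a0004))) (.node 44624 (.leaf 0xf0b0b0003) (.node 44625 (.leaf 0x90600020804000802040105000c) (.leaf 0x0))))))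

def argWS_3950 : Store := (.node 44637 (.node 44631 (.node 44628 (.node 44627 (.leaf 0xa0a0002) (.leaf 0x0)) (.node 44629 (.leaf 0x605030306040006) (.node 44630 (.leaf 0x0) (.leaf 0xb0b0a0a0004)))) (.node 44634 (.node 44632 (.leaf 0x0) (.node 44633 (.leaf 0xae5700ae53) (.leaf 0x303090806000202000701000b))) (.node 44635 (.leaf 0x0) (.node 44636 (.leaf 0xb0b0a0003) (.leaf 0x0))))) (.node 44643 (.node 44640 (.node 44638 (.leaf 0xa0f0002) (.node 44639 (.leaf 0x0) (.leaf 0x0))) (.node 44641 (.leaf 0xb0f0a0003) (.node 44642 (.leaf 0xb0b0002) (.leaf 0x7010106010500020802040105000d)))) (.node 44646 (.node 44644 (.leaf 0x0) (.node 44645 (.leaf 0xf0b0b0003) (.leaf 0x0))) (.node 44647 (.leaf 0xae6500ae61) (.node 44648 (.leaf 0xa0f0002) (.leaf 0x0))))))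

def argWS_3951 : Store := (.node 44626 argWS_3949 argWS_3950)

def argWS_3952 : Store := (.node 44604 argWS_3948 argWS_3951)

def argWS_3953 : Store := (.node 44660 (.node 44654 (.node 44651 (.node 44650 (.leaf 0xd0b0b0003) (.leaf 0x0)) (.node 44652 (.leaf 0x0) (.node 44653 (.leaf 0xf0b0b0a0a0005) (.leaf 0xb0001)))) (.node 44657 (.node 44655 (.leaf 0xae6d) (.node 44656 (.leaf 0xa0a0002) (.leaf 0x0))) (.node 44658 (.leaf 0xe0d0002) (.node 44659 (.leaf 0x0) (.leaf 0x0))))) (.node 44665 (.node 44662 (.node 44661 (.leaf 0xf0b0002) (.leaf 0xb0b0a0a0004)) (.node 44663 (.leaf 0x1070000030306040008) (.node 44664 (.leaf 0x0) (.leaf 0x0)))) (.node 44668 (.node 44666 (.leaf 0xae7800ae75) (.node 44667 (.leaf 0xa0f0b0003) (.leaf 0x0))) (.node 44669 (.leaf 0x800000408010802040105000b) (.node 44670 (.leaf 0x0) (.leaf 0xb0f0a0003))))))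

def argWS_3954 : Store := (.node 44682 (.node 44676 (.node 44673 (.node 44672 (.leaf 0xa0f0b0b0004) (.leaf 0xa0f0b0b0004)) (.node 44674 (.leaf 0x300020804000202000701000b) (.node 44675 (.leaf 0x0) (.leaf 0xd0001)))) (.node 44679 (.node 44677 (.leaf 0x0) (.node 44678 (.leaf 0x502080400000703040103000b) (.leaf 0x0))) (.node 44680 (.leaf 0xd0b0002) (.node 44681 (.leaf 0x0) (.leaf 0xae8800ae84))))) (.node 44688 (.node 44685 (.node 44683 (.leaf 0xa0f0b0003) (.node 44684 (.leaf 0x0) (.leaf 0xa0a0002))) (.node 44686 (.leaf 0x0) (.node 44687 (.leaf 0x0) (.leaf 0xf0001)))) (.node 44691 (.node 44689 (.leaf 0xf0a0002) (.node 44690 (.leaf 0xae90) (.leaf 0xb0f0002))) (.node 44692 (.leaf 0x0) (.node 44693 (.leaf 0x3070006020702010202000701000d) (.leaf 0x0))))))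

def argWS_3955 : Store := (.node 44671 argWS_3953 argWS_3954)

def argWS_3956 : Store := (.node 44705 (.node 44699 (.node 44696 (.node 44695 (.leaf 0xb0a0002) (.leaf 0x5000003010202000701000b)) (.node 44697 (.leaf 0x0) (.node 44698 (.leaf 0xf0b0b0003) (.leaf 0x0)))) (.node 44702 (.node 44700 (.leaf 0xe0001) (.node 44701 (.leaf 0xae9b) (.leaf 0xa0f0b0003))) (.node 44703 (.leaf 0x0) (.node 44704 (.leaf 0xb0f0a0003) (.leaf 0x0))))) (.node 44711 (.node 44708 (.node 44706 (.leaf 0x0) (.node 44707 (.leaf 0xb0a0f0003) (.leaf 0xa0a0002))) (.node 44709 (.leaf 0xaea30061ac) (.node 44710 (.leaf 0x107070009030802040105000b) (.leaf 0x0)))) (.node 44714 (.node 44712 (.leaf 0xa0001) (.node 44713 (.leaf 0x0) (.leaf 0x0))) (.node 44715 (.leaf 0xf0b0a0003) (.node 44716 (.leaf 0x908020401050008) (.leaf 0x0))))))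

def argWS_3957 : Store := (.node 44728 (.node 44722 (.node 44719 (.node 44718 (.leaf 0x0) (.leaf 0xd0b0b0003)) (.node 44720 (.leaf 0xaeae00aead) (.node 44721 (.leaf 0x403000400050202000701000b) (.leaf 0x0)))) (.node 44725 (.node 44723 (.leaf 0xe0a0002) (.node 44724 (.leaf 0x0) (.leaf 0xd0b0b0003))) (.node 44726 (.leaf 0x0) (.node 44727 (.leaf 0x0) (.leaf 0xb0b0a0a0004))))) (.node 44734 (.node 44731 (.node 44729 (.leaf 0xa0001) (.node 44730 (.leaf 0x90400090206020007) (.leaf 0x0))) (.node 44732 (.leaf 0xf0b0a0003) (.node 44733 (.leaf 0x0) (.leaf 0xaebc00aeb8)))) (.node 44737 (.node 44735 (.leaf 0xa0f0002) (.node 44736 (.leaf 0x0) (.leaf 0xf0b0002))) (.node 44738 (.leaf 0x0) (.node 44739 (.leaf 0x0) (.leaf 0xb0f0a0003))))))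

def argWS_3958 : Store := (.node 44717 argWS_3956 argWS_3957)

def argWS_3959 : Store := (.node 44694 argWS_3955 argWS_3958)

def argWS_3960 : Store := (.node 44649 argWS_3952 argWS_3959)

def argWS_3961 : Store := (.node 44559 argWS_3945 argWS_3960)

def argWS_3962 : Store := (.node 44379 argWS_3930 argWS_3961)

def argWS_3963 : Store := (.node 44018 argWS_3899 argWS_3962)

def argWS_3964 : Store := (.node 44751 (.node 44745 (.node 44742 (.node 44741 (.leaf 0xe0001) (.leaf 0xaec4)) (.node 44743 (.leaf 0xd0001) (.node 44744 (.leaf 0x0) (.leaf 0x5030003030604000703040103000d)))) (.node 44748 (.node 44746 (.leaf 0x0) (.node 44747 (.leaf 0xd0001) (.leaf 0xa0f0002))) (.node 44749 (.leaf 0xf0b0002) (.node 44750 (.leaf 0xf0a0002) (.leaf 0xaecd00aecc))))) (.node 44756 (.node 44753 (.node 44752 (.leaf 0xf0001) (.leaf 0x0)) (.node 44754 (.leaf 0x90202080400000703040103000c) (.node 44755 (.leaf 0x0) (.leaf 0xf0b0002)))) (.node 44759 (.node 44757 (.leaf 0xf0b0b0a0a0005)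 (.node 44758 (.leaf 0x10202000408010202000701000c) (.leaf 0x0))) (.node 44760 (.leaf 0xa0f0002) (.node 44761 (.leaf 0x0) (.leaf 0xaed8))))))

def argWS_3965 : Store := (.node 44773 (.node 44767 (.node 44764 (.node 44763 (.leaf 0xd0b0002) (.leaf 0x0)) (.node 44765 (.leaf 0x2000408010202000701000a) (.node 44766 (.leaf 0x0) (.leaf 0xb0b0a0a0004)))) (.node 44770 (.node 44768 (.leaf 0x60401090806000202000701000c) (.node 44769 (.leaf 0x0) (.leaf 0xd0001))) (.node 44771 (.leaf 0x0) (.node 44772 (.leaf 0x30506030500040802040105000c) (.leaf 0x0))))) (.node 44779 (.node 44776 (.node 44774 (.leaf 0xa0f0002) (.node 44775 (.leaf 0x0) (.leaf 0xa29a00aee6))) (.node 44777 (.leaf 0xf0b0b0003) (.node 44778 (.leaf 0x0) (.leaf 0x907090000090802040105000b)))) (.node 44782 (.node 44780 (.leaf 0x0) (.node 44781 (.leaf 0xf0b0a0003) (.leaf 0xa0f0b0003))) (.node 44783 (.leaf 0x9050301070306000703040103000d) (.node 44784 (.leaf 0x0) (.leaf 0xf0b0b0a0a0005))))))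

def argWS_3966 : Store := (.node 44762 argWS_3964 argWS_3965)

def argWS_3967 : Store := (.node 44796 (.node 44790 (.node 44787 (.node 44786 (.leaf 0x0) (.leaf 0x50002010606000703040103000c)) (.node 44788 (.leaf 0x0) (.node 44789 (.leaf 0xe0001) (.leaf 0x0)))) (.node 44793 (.node 44791 (.leaf 0xaef500aef1) (.node 44792 (.leaf 0x109010908020401050009) (.leaf 0x0))) (.node 44794 (.leaf 0xd0001) (.node 44795 (.leaf 0x0) (.leaf 0xf0b0a0003))))) (.node 44801 (.node 44798 (.node 44797 (.leaf 0x0) (.leaf 0x0)) (.node 44799 (.leaf 0x403040206030802040105000b) (.node 44800 (.leaf 0x0) (.leaf 0xa0001)))) (.node 44804 (.node 44802 (.leaf 0x0) (.node 44803 (.leaf 0x600000000030000000703040103000e) (.leaf 0x0))) (.node 44805 (.leaf 0xf0a0a0003) (.node 44806 (.leaf 0x0) (.leaf 0xaf0500450d))))))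

def argWS_3968 : Store := (.node 44818 (.node 44812 (.node 44809 (.node 44808 (.leaf 0xf0a0002) (.leaf 0x0)) (.node 44810 (.leaf 0xd0b0b0003) (.node 44811 (.leaf 0x0) (.leaf 0x0)))) (.node 44815 (.node 44813 (.leaf 0xf0b0a0003) (.node 44814 (.leaf 0x50601050002000703040103000c) (.leaf 0x0))) (.node 44816 (.leaf 0xb0a0002) (.node 44817 (.leaf 0x0) (.leaf 0xaf1000af0c))))) (.node 44824 (.node 44821 (.node 44819 (.leaf 0x6000908050802040105000a) (.node 44820 (.leaf 0x0) (.leaf 0xe0001))) (.node 44822 (.leaf 0x0) (.node 44823 (.leaf 0xf0b0a0003) (.leaf 0x0)))) (.node 44827 (.node 44825 (.leaf 0x0) (.node 44826 (.leaf 0x7090806000006) (.leaf 0x0))) (.node 44828 (.leaf 0xf0b0002) (.node 44829 (.leaf 0x0) (.leaf 0xf0b0a0003))))))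

def argWS_3969 : Store := (.node 44807 argWS_3967 argWS_3968)

def argWS_3970 : Store := (.node 44785 argWS_3966 argWS_3969)

def argWS_3971 : Store := (.node 44841 (.node 44835 (.node 44832 (.node 44831 (.leaf 0xaf1d) (.leaf 0xf0b0b0a0a0005)) (.node 44833 (.leaf 0x0) (.node 44834 (.leaf 0x500000007030401030009) (.leaf 0x0)))) (.node 44838 (.node 44836 (.leaf 0x50206030500040007) (.node 44837 (.leaf 0x0) (.leaf 0xf0b0b0a0004))) (.node 44839 (.leaf 0x0) (.node 44840 (.leaf 0xaf26) (.leaf 0xa0f0b0b0004))))) (.node 44846 (.node 44843 (.node 44842 (.leaf 0x0) (.leaf 0x20901020106060802040105000c)) (.node 44844 (.leaf 0x0) (.node 44845 (.leaf 0xa0f0002) (.leaf 0x20000050206040802040105000c)))) (.node 44849 (.node 44847 (.leaf 0x0) (.node 44848 (.leaf 0xe0a0002) (.leaf 0x0))) (.node 44850 (.leaf 0x20502010703060202000701000c) (.node 44851 (.leaf 0x0) (.leaf 0xd0001))))))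

def argWS_3972 : Store := (.node 44863 (.node 44857 (.node 44854 (.node 44853 (.leaf 0x0) (.leaf 0xaf3400af30)) (.node 44855 (.leaf 0xe0d0002) (.node 44856 (.leaf 0x0) (.leaf 0x1010900090802040105000a)))) (.node 44860 (.node 44858 (.leaf 0x0) (.node 44859 (.leaf 0xb0b0a0a0004) (.leaf 0x4000409000009000703040103000d))) (.node 44861 (.leaf 0x0) (.node 44862 (.leaf 0xf0a0a0003) (.leaf 0x0))))) (.node 44869 (.node 44866 (.node 44864 (.leaf 0xf0b0a0003) (.node 44865 (.leaf 0xaf3f00af3e) (.leaf 0x5000006020702010008))) (.node 44867 (.leaf 0x0) (.node 44868 (.leaf 0xb0b0a0a0004) (.leaf 0x0)))) (.node 44872 (.node 44870 (.leaf 0xb0001) (.node 44871 (.leaf 0x0) (.leaf 0x0))) (.node 44873 (.leaf 0xaafb) (.node 44874 (.leaf 0xd0b0002) (.leaf 0x0))))))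

def argWS_3973 : Store := (.node 44852 argWS_3971 argWS_3972)

def argWS_3974 : Store := (.node 44886 (.node 44880 (.node 44877 (.node 44876 (.leaf 0x101020703000703040103000b) (.leaf 0x0)) (.node 44878 (.leaf 0xf0b0002) (.node 44879 (.leaf 0xb0f0a0003) (.leaf 0xf0a0a0003)))) (.node 44883 (.node 44881 (.leaf 0x50305070206000007) (.node 44882 (.leaf 0x0) (.leaf 0xa0f0002))) (.node 44884 (.leaf 0x0) (.node 44885 (.leaf 0xaf5300af4f) (.leaf 0x400020804000007))))) (.node 44891 (.node 44888 (.node 44887 (.leaf 0x0) (.leaf 0xf0b0a0a0004)) (.node 44889 (.leaf 0x0) (.node 44890 (.leaf 0xe0a0002) (.leaf 0x0)))) (.node 44894 (.node 44892 (.leaf 0x0) (.node 44893 (.leaf 0xf0b0a0003) (.leaf 0xb0001))) (.node 44895 (.leaf 0xaf5d002e64) (.node 44896 (.leaf 0xb0f0a0003) (.leaf 0x0))))))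

def argWS_3975 : Store := (.node 44908 (.node 44902 (.node 44899 (.node 44898 (.leaf 0x205020603000703040103000b) (.leaf 0x0)) (.node 44900 (.leaf 0xb0b0002) (.node 44901 (.leaf 0xe0a0002) (.leaf 0xa0001)))) (.node 44905 (.node 44903 (.leaf 0xaf65000e99) (.node 44904 (.leaf 0xb0b0002) (.leaf 0x0))) (.node 44906 (.leaf 0xb0a0f0003) (.node 44907 (.leaf 0x0) (.leaf 0x0))))) (.node 44914 (.node 44911 (.node 44909 (.leaf 0x10400090109000703040103000c) (.node 44910 (.leaf 0x0) (.leaf 0xe0d0002))) (.node 44912 (.leaf 0x0) (.node 44913 (.leaf 0xe0a0002) (.leaf 0xaf70)))) (.node 44917 (.node 44915 (.leaf 0xb0b0a0003) (.node 44916 (.leaf 0x0) (.leaf 0x30403010904020202000701000c))) (.node 44918 (.leaf 0x0) (.node 44919 (.leaf 0xb0b0002) (.leaf 0xb0b0a0a0004))))))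

def argWS_3976 : Store := (.node 44897 argWS_3974 argWS_3975)

def argWS_3977 : Store := (.node 44875 argWS_3973 argWS_3976)

def argWS_3978 : Store := (.node 44830 argWS_3970 argWS_3977)

def argWS_3979 : Store := (.node 44931 (.node 44925 (.node 44922 (.node 44921 (.leaf 0x402000003010802040105000c) (.leaf 0x0)) (.node 44923 (.leaf 0xa0f0b0b0004) (.node 44924 (.leaf 0x0) (.leaf 0x600000202090000000703040103000e)))) (.node 44928 (.node 44926 (.leaf 0x0) (.node 44927 (.leaf 0xa0f0002) (.leaf 0x0))) (.node 44929 (.leaf 0xaf7f00af7b) (.node 44930 (.leaf 0xa0f0b0003) (.leaf 0x0))))) (.node 44936 (.node 44933 (.node 44932 (.leaf 0xf0001) (.leaf 0x0)) (.node 44934 (.leaf 0x0) (.node 44935 (.leaf 0xa0f0b0003) (.leaf 0x9fd30005d4)))) (.node 44939 (.node 44937 (.leaf 0xe0a0a0003) (.node 44938 (.leaf 0x0) (.leaf 0xe0001))) (.node 44940 (.leaf 0x0) (.node 44941 (.leaf 0x0) (.leaf 0xf0b0a0003))))))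

def argWS_3980 : Store := (.node 44953 (.node 44947 (.node 44944 (.node 44943 (.leaf 0xa0a0002) (.leaf 0xaf8e)) (.node 44945 (.leaf 0xb0001) (.node 44946 (.leaf 0x0) (.leaf 0xb0b0a0003)))) (.node 44950 (.node 44948 (.leaf 0x0) (.node 44949 (.leaf 0x0) (.leaf 0xd0b0b0003))) (.node 44951 (.leaf 0xb0a0f0003) (.node 44952 (.leaf 0xaf96) (.leaf 0xa0001))))) (.node 44959 (.node 44956 (.node 44954 (.leaf 0x0) (.node 44955 (.leaf 0xf0b0b0003) (.leaf 0x0))) (.node 44957 (.leaf 0x0) (.node 44958 (.leaf 0x20403010102000007) (.leaf 0x0)))) (.node 44962 (.node 44960 (.leaf 0xf0b0b0a0a0005) (.node 44961 (.leaf 0x0) (.leaf 0xf0b0b0a0a0005))) (.node 44963 (.leaf 0xe0a0a0003) (.node 44964 (.leaf 0xafa200afa1) (.leaf 0xf0b0a0003))))))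

def argWS_3981 : Store := (.node 44942 argWS_3979 argWS_3980)

def argWS_3982 : Store := (.node 44976 (.node 44970 (.node 44967 (.node 44966 (.leaf 0x0) (.leaf 0x0)) (.node 44968 (.leaf 0xb0b0a0003) (.node 44969 (.leaf 0xf0b0002) (.leaf 0x60102010908050802040105000c)))) (.node 44973 (.node 44971 (.leaf 0x0) (.node 44972 (.leaf 0xb0a0002) (.leaf 0x0))) (.node 44974 (.leaf 0xe0a0a0003) (.node 44975 (.leaf 0xafad00afac) (.leaf 0xb0f0a0a0004))))) (.node 44981 (.node 44978 (.node 44977 (.leaf 0x0) (.leaf 0x6010201070206000802040105000d)) (.node 44979 (.leaf 0x0) (.node 44980 (.leaf 0xf0b0a0a0004) (.leaf 0x905030900090006)))) (.node 44984 (.node 44982 (.leaf 0x0) (.node 44983 (.leaf 0xe0a0a0003) (.leaf 0x0))) (.node 44985 (.leaf 0x20207020007010007) (.node 44986 (.leaf 0x0) (.leaf 0xe0d0002))))))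

def argWS_3983 : Store := (.node 44998 (.node 44992 (.node 44989 (.node 44988 (.leaf 0x0) (.leaf 0x2000408010802040105000a)) (.node 44990 (.leaf 0x0) (.node 44991 (.leaf 0xb0a0002) (.leaf 0x0)))) (.node 44995 (.node 44993 (.leaf 0xafbf00afbb) (.node 44994 (.leaf 0xf0b0b0a0a0005) (.leaf 0x0))) (.node 44996 (.leaf 0x70000020703000703040103000c) (.node 44997 (.leaf 0x0) (.leaf 0xf0b0b0003))))) (.node 45004 (.node 45001 (.node 44999 (.leaf 0x800090000090802040105000b) (.node 45000 (.leaf 0x0) (.leaf 0xd0b0b0003))) (.node 45002 (.leaf 0x0) (.node 45003 (.leaf 0x1030003010102000202000701000d) (.leaf 0x0)))) (.node 45007 (.node 45005 (.leaf 0xa0f0b0b0004) (.node 45006 (.leaf 0x0) (.leaf 0xab3b00afcd))) (.node 45008 (.leaf 0xb0f0002) (.node 45009 (.leaf 0x0) (.leaf 0x70208020401050007))))))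

def argWS_3984 : Store := (.node 44987 argWS_3982 argWS_3983)

def argWS_3985 : Store := (.node 44965 argWS_3981 argWS_3984)

def argWS_3986 : Store := (.node 45021 (.node 45015 (.node 45012 (.node 45011 (.leaf 0x0) (.leaf 0xf0b0a0003)) (.node 45013 (.leaf 0xd0001) (.node 45014 (.leaf 0xa0f0002) (.leaf 0xafd5)))) (.node 45018 (.node 45016 (.leaf 0x1020200030306040202000701000d) (.node 45017 (.leaf 0x0) (.leaf 0xf0a0002))) (.node 45019 (.leaf 0x0) (.node 45020 (.leaf 0x60200090000090202000701000c) (.leaf 0x0))))) (.node 45026 (.node 45023 (.node 45022 (.leaf 0xb0f0a0003) (.leaf 0xb0a0002)) (.node 45024 (.leaf 0xb0f0002) (.node 45025 (.leaf 0xafdf00084e) (.leaf 0xf0b0002)))) (.node 45029 (.node 45027 (.leaf 0x0) (.node 45028 (.leaf 0x1070002000003010202000701000d) (.leaf 0x0))) (.node 45030 (.leaf 0xa0f0b0003) (.node 45031 (.leaf 0xf0001) (.leaf 0x800000900090202000701000b))))))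

def argWS_3987 : Store := (.node 45043 (.node 45037 (.node 45034 (.node 45033 (.leaf 0x0) (.leaf 0xb0a0a0003)) (.node 45035 (.leaf 0x0) (.node 45036 (.leaf 0xafea001233) (.leaf 0xf0b0a0003)))) (.node 45040 (.node 45038 (.leaf 0x0) (.node 45039 (.leaf 0xa0a0002) (.leaf 0x0))) (.node 45041 (.leaf 0x0) (.node 45042 (.leaf 0xb0001) (.leaf 0x70501090402000703040103000c))))) (.node 45049 (.node 45046 (.node 45044 (.leaf 0x0) (.node 45045 (.leaf 0xb0b0a0a0004) (.leaf 0x0))) (.node 45047 (.leaf 0xaff5) (.node 45048 (.leaf 0x700090206020802040105000c) (.leaf 0x0)))) (.node 45052 (.node 45050 (.leaf 0xf0001) (.node 45051 (.leaf 0x0) (.leaf 0xb0a0002))) (.node 45053 (.leaf 0x0) (.node 45054 (.leaf 0x0) (.leaf 0x701010904020202000701000b))))))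

def argWS_3988 : Store := (.node 45032 argWS_3986 argWS_3987)

def argWS_3989 : Store := (.node 45066 (.node 45060 (.node 45057 (.node 45056 (.leaf 0x0) (.leaf 0x0)) (.node 45058 (.leaf 0xa0a0002) (.node 45059 (.leaf 0xb00100b000) (.leaf 0xb0b0002)))) (.node 45063 (.node 45061 (.leaf 0x0) (.node 45062 (.leaf 0x506030500040202000701000b) (.leaf 0x0))) (.node 45064 (.leaf 0xb0b0002) (.node 45065 (.leaf 0xd0b0002) (.leaf 0xb0a0a0003))))) (.node 45072 (.node 45069 (.node 45067 (.leaf 0x403010703060802040105000b) (.node 45068 (.leaf 0x0) (.leaf 0xe0a0a0003))) (.node 45070 (.leaf 0x0) (.node 45071 (.leaf 0xb00d00b009) (.leaf 0x5020207030802040105000a)))) (.node 45075 (.node 45073 (.leaf 0x0) (.node 45074 (.leaf 0xb0b0a0a0004) (.leaf 0x0))) (.node 45076 (.leaf 0xf0b0002) (.node 45077 (.leaf 0x0) (.leaf 0x0))))))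

def argWS_3990 : Store := (.node 45089 (.node 45083 (.node 45080 (.node 45079 (.leaf 0xf0001) (.leaf 0xb0b0a0a0004)) (.node 45081 (.leaf 0x4030401050005) (.node 45082 (.leaf 0x0) (.leaf 0xa0f0b0003)))) (.node 45086 (.node 45084 (.leaf 0x0) (.node 45085 (.leaf 0xb01b00b017) (.leaf 0x1040002000003010202000701000d))) (.node 45087 (.leaf 0x0) (.node 45088 (.leaf 0xb0f0002) (.leaf 0x0))))) (.node 45095 (.node 45092 (.node 45090 (.leaf 0xb0b0002) (.node 45091 (.leaf 0x0) (.leaf 0x0))) (.node 45093 (.leaf 0xb0b0002) (.node 45094 (.leaf 0x1030400050005) (.leaf 0x0)))) (.node 45098 (.node 45096 (.leaf 0xa0a0002) (.node 45097 (.leaf 0x0) (.leaf 0x16a900b028))) (.node 45099 (.leaf 0x200040005000703040103000b) (.node 45100 (.leaf 0x0) (.leaf 0xa0f0b0b0004))))))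

def argWS_3991 : Store := (.node 45078 argWS_3989 argWS_3990)

def argWS_3992 : Store := (.node 45055 argWS_3988 argWS_3991)

def argWS_3993 : Store := (.node 45010 argWS_3985 argWS_3992)

def argWS_3994 : Store := (.node 44920 argWS_3978 argWS_3993)

def argWS_3995 : Store := (.node 45112 (.node 45106 (.node 45103 (.node 45102 (.leaf 0x0) (.leaf 0xf0b0002)) (.node 45104 (.leaf 0x0) (.node 45105 (.leaf 0x0) (.leaf 0x30506030500040802040105000c)))) (.node 45109 (.node 45107 (.leaf 0x0) (.node 45108 (.leaf 0xb0f0a0003) (.leaf 0x0))) (.node 45110 (.leaf 0xa0a0002) (.node 45111 (.leaf 0xb03500b034) (.leaf 0xf0b0b0a0004))))) (.node 45117 (.node 45114 (.node 45113 (.leaf 0x0) (.leaf 0x6040005020202010202000701000d)) (.node 45115 (.leaf 0x0) (.node 45116 (.leaf 0xb0f0002) (.leaf 0xe0a0a0003)))) (.node 45120 (.node 45118 (.leaf 0xf0b0b0a0004) (.node 45119 (.leaf 0x0) (.leaf 0xa7b500b03e))) (.node 45121 (.leaf 0xf0b0b0003) (.node 45122 (.leaf 0x0) (.leaf 0x0))))))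

def argWS_3996 : Store := (.node 45134 (.node 45128 (.node 45125 (.node 45124 (.leaf 0x6020904020202000701000a) (.leaf 0x0)) (.node 45126 (.leaf 0xb0f0a0a0004) (.node 45127 (.leaf 0x0) (.leaf 0xa0f0002)))) (.node 45131 (.node 45129 (.leaf 0xb04700b046) (.node 45130 (.leaf 0xb0f0002) (.leaf 0x0))) (.node 45132 (.leaf 0x0) (.node 45133 (.leaf 0xd0b0b0003) (.leaf 0xb0a0f0003))))) (.node 45140 (.node 45137 (.node 45135 (.leaf 0xb0b0a0a0004) (.node 45136 (.leaf 0xb04e00b04d) (.leaf 0xb0f0002))) (.node 45138 (.leaf 0x0) (.node 45139 (.leaf 0xe0001) (.leaf 0x0)))) (.node 45143 (.node 45141 (.leaf 0x0) (.node 45142 (.leaf 0xa0f0b0b0004) (.leaf 0xa0a0002))) (.node 45144 (.leaf 0xb0b0002) (.node 45145 (.leaf 0xb05700b056) (.leaf 0xf0b0b0003))))))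

def argWS_3997 : Store := (.node 45123 argWS_3995 argWS_3996)

def argWS_3998 : Store := (.node 45157 (.node 45151 (.node 45148 (.node 45147 (.leaf 0x0) (.leaf 0x101020603000703040103000b)) (.node 45149 (.leaf 0x0) (.node 45150 (.leaf 0xf0b0002) (.leaf 0xe0a0002)))) (.node 45154 (.node 45152 (.leaf 0xf0a0002) (.node 45153 (.leaf 0xb05f) (.leaf 0xf0b0a0a0004))) (.node 45155 (.leaf 0x0) (.node 45156 (.leaf 0xa0001) (.leaf 0x0))))) (.node 45162 (.node 45159 (.node 45158 (.leaf 0x0) (.leaf 0xb0f0002)) (.node 45160 (.leaf 0xf0b0b0a0004) (.node 45161 (.leaf 0xb067) (.leaf 0xa0f0b0003)))) (.node 45165 (.node 45163 (.leaf 0x0) (.node 45164 (.leaf 0xd0b0002) (.leaf 0x0))) (.node 45166 (.leaf 0x0) (.node 45167 (.leaf 0xa0001) (.leaf 0x2020202020900000008))))))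

def argWS_3999 : Store := (.node 45179 (.node 45173 (.node 45170 (.node 45169 (.leaf 0x0) (.leaf 0xf0a0002)) (.node 45171 (.leaf 0x0) (.node 45172 (.leaf 0xb072) (.leaf 0x6030102010606000703040103000d)))) (.node 45176 (.node 45174 (.leaf 0x0) (.node 45175 (.leaf 0xb0a0a0003) (.leaf 0x0))) (.node 45177 (.leaf 0xd0b0b0003) (.node 45178 (.leaf 0x0) (.leaf 0x0))))) (.node 45185 (.node 45182 (.node 45180 (.leaf 0xb0b0a0003) (.node 45181 (.leaf 0x60401010904020202000701000c) (.leaf 0x0))) (.node 45183 (.leaf 0xf0b0a0a0004) (.node 45184 (.leaf 0x0) (.leaf 0xb07f)))) (.node 45188 (.node 45186 (.leaf 0xf0a0002) (.node 45187 (.leaf 0x0) (.leaf 0xf0b0a0003))) (.node 45189 (.leaf 0x0) (.node 45190 (.leaf 0x0) (.leaf 0xe0d0002))))))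

def argWS_4000 : Store := (.node 45168 argWS_3998 argWS_3999)

def argWS_4001 : Store := (.node 45146 argWS_3997 argWS_4000)

def argWS_4002 : Store := (.node 45202 (.node 45196 (.node 45193 (.node 45192 (.leaf 0xb0b0a0a0004) (.leaf 0xf0b0002)) (.node 45194 (.leaf 0xb08800b087) (.node 45195 (.leaf 0xa0f0b0b0004) (.leaf 0x0)))) (.node 45199 (.node 45197 (.leaf 0xa0f0b0003) (.node 45198 (.leaf 0x0) (.leaf 0x0))) (.node 45200 (.leaf 0xf0001) (.node 45201 (.leaf 0x901060004) (.leaf 0x0))))) (.node 45207 (.node 45204 (.node 45203 (.leaf 0xf0b0a0003) (.leaf 0x0)) (.node 45205 (.leaf 0xb093) (.node 45206 (.leaf 0xb0a0a0003) (.leaf 0x0)))) (.node 45210 (.node 45208 (.leaf 0x1070703060005) (.node 45209 (.leaf 0x0) (.leaf 0xf0a0002))) (.node 45211 (.leaf 0xf0001) (.node 45212 (.leaf 0xb09a) (.leaf 0xf0b0a0a0004))))))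

def argWS_4003 : Store := (.node 45224 (.node 45218 (.node 45215 (.node 45214 (.leaf 0x0) (.leaf 0x70009000009000703040103000c)) (.node 45216 (.leaf 0x0) (.node 45217 (.leaf 0xf0b0b0a0004) (.leaf 0xa0a0002)))) (.node 45221 (.node 45219 (.leaf 0x9000003030604000703040103000e) (.node 45220 (.leaf 0x0) (.leaf 0xb0a0002))) (.node 45222 (.leaf 0x0) (.node 45223 (.leaf 0xb0b0a0a0004) (.leaf 0xb0a600b0a5))))) (.node 45230 (.node 45227 (.node 45225 (.leaf 0xf0b0b0003) (.node 45226 (.leaf 0x0) (.leaf 0x10400050206040802040105000c))) (.node 45228 (.leaf 0x0) (.node 45229 (.leaf 0xf0b0a0a0004) (.leaf 0xa0f0002)))) (.node 45233 (.node 45231 (.leaf 0x905030400050006) (.node 45232 (.leaf 0x0) (.leaf 0xe0d0002))) (.node 45234 (.leaf 0x0) (.node 45235 (.leaf 0xb0b1) (.leaf 0xd0b0002))))))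

def argWS_4004 : Store := (.node 45213 argWS_4002 argWS_4003)

def argWS_4005 : Store := (.node 45247 (.node 45241 (.node 45238 (.node 45237 (.leaf 0x0) (.leaf 0xe0d0002)) (.node 45239 (.leaf 0x0) (.node 45240 (.leaf 0x0) (.leaf 0xf0b0b0a0a0005)))) (.node 45244 (.node 45242 (.leaf 0x601020102090106000703040103000e) (.node 45243 (.leaf 0x0) (.leaf 0x0))) (.node 45245 (.leaf 0xb0bb) (.node 45246 (.leaf 0x201060003) (.leaf 0x0))))) (.node 45252 (.node 45249 (.node 45248 (.leaf 0xb0a0f0003) (.leaf 0x0)) (.node 45250 (.leaf 0xe0a0a0003) (.node 45251 (.leaf 0x0) (.leaf 0x0)))) (.node 45255 (.node 45253 (.leaf 0x10201010703060007) (.node 45254 (.leaf 0x0) (.leaf 0xe0a0002))) (.node 45256 (.leaf 0x0) (.node 45257 (.leaf 0xf0b0b0003) (.leaf 0xb0c8))))))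

def argWS_4006 : Store := (.node 45269 (.node 45263 (.node 45260 (.node 45259 (.leaf 0xa0a0002) (.leaf 0x0)) (.node 45261 (.leaf 0x2090105020202010008) (.node 45262 (.leaf 0x0) (.leaf 0xf0b0b0a0a0005)))) (.node 45266 (.node 45264 (.leaf 0x6010201090000090802040105000d) (.node 45265 (.leaf 0x0) (.leaf 0xb0b0002))) (.node 45267 (.leaf 0x0) (.node 45268 (.leaf 0xb0d2) (.leaf 0xa0f0b0b0004))))) (.node 45275 (.node 45272 (.node 45270 (.leaf 0x0) (.node 45271 (.leaf 0xf0b0b0a0004) (.leaf 0x0))) (.node 45273 (.leaf 0x0) (.node 45274 (.leaf 0xf0b0a0003) (.leaf 0xb0d9)))) (.node 45278 (.node 45276 (.leaf 0xb0f0a0a0004) (.node 45277 (.leaf 0x0) (.leaf 0x0))) (.node 45279 (.leaf 0xe0a0a0003) (.node 45280 (.leaf 0xb0de) (.leaf 0xb0a0002))))))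

def argWS_4007 : Store := (.node 45258 argWS_4005 argWS_4006)

def argWS_4008 : Store := (.node 45236 argWS_4004 argWS_4007)

def argWS_4009 : Store := (.node 45191 argWS_4001 argWS_4008)

def argWS_4010 : Store := (.node 45292 (.node 45286 (.node 45283 (.node 45282 (.leaf 0x0) (.leaf 0x80006030500040008)) (.node 45284 (.leaf 0x0) (.node 45285 (.leaf 0xb0a0f0003) (.leaf 0xd0b0002)))) (.node 45289 (.node 45287 (.leaf 0xb0a0f0003) (.node 45288 (.leaf 0x90006010500020802040105000d) (.leaf 0x0))) (.node 45290 (.leaf 0xb0b0002) (.node 45291 (.leaf 0x0) (.leaf 0xb0ea00b0e6))))) (.node 45297 (.node 45294 (.node 45293 (.leaf 0x90000090802040105000b) (.leaf 0x0)) (.node 45295 (.leaf 0xf0b0a0003) (.node 45296 (.leaf 0x0) (.leaf 0xb0b0a0a0004)))) (.node 45300 (.node 45298 (.leaf 0x0) (.node 45299 (.leaf 0x0) (.leaf 0x804000007030401030009))) (.node 45301 (.leaf 0x0) (.node 45302 (.leaf 0xf0a0002) (.leaf 0x0))))))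

def argWS_4011 : Store := (.node 45314 (.node 45308 (.node 45305 (.node 45304 (.leaf 0xf0a0a0003) (.leaf 0xb0f7)) (.node 45306 (.leaf 0xf0a0002) (.node 45307 (.leaf 0x0) (.leaf 0x2020209080600000703040103000d)))) (.node 45311 (.node 45309 (.leaf 0x0) (.node 45310 (.leaf 0xf0a0002) (.leaf 0xe0001))) (.node 45312 (.leaf 0xb0b0002) (.node 45313 (.leaf 0xb0ff0089c2) (.leaf 0x7040004080703040103000a))))) (.node 45320 (.node 45317 (.node 45315 (.leaf 0x0) (.node 45316 (.leaf 0xf0b0b0a0a0005) (.leaf 0x0))) (.node 45318 (.leaf 0xe0a0002) (.node 45319 (.leaf 0x0) (.leaf 0x0)))) (.node 45323 (.node 45321 (.leaf 0xa0f0b0b0004) (.node 45322 (.leaf 0x0) (.leaf 0x6020105020202010202000701000d))) (.node 45324 (.leaf 0x0) (.node 45325 (.leaf 0xb0a0f0003) (.leaf 0x0))))))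

def argWS_4012 : Store := (.node 45303 argWS_4010 argWS_4011)

def argWS_4013 : Store := (.node 45337 (.node 45331 (.node 45328 (.node 45327 (.leaf 0xb10d00b109) (.leaf 0xb0b0a0003)) (.node 45329 (.leaf 0x0) (.node 45330 (.leaf 0xb0f0a0a0004) (.leaf 0x0)))) (.node 45334 (.node 45332 (.leaf 0x0) (.node 45333 (.leaf 0xa0a0002) (.leaf 0x20903010904020802040105000c))) (.node 45335 (.leaf 0x0) (.node 45336 (.leaf 0xb0001) (.leaf 0x0))))) (.node 45342 (.node 45339 (.node 45338 (.leaf 0xf0a0002) (.leaf 0xb11900b118)) (.node 45340 (.leaf 0xf0b0b0a0a0005) (.node 45341 (.leaf 0x0) (.leaf 0x20502040005000703040103000c)))) (.node 45345 (.node 45343 (.leaf 0x0) (.node 45344 (.leaf 0xa0f0b0003) (.leaf 0xb0f0a0a0004))) (.node 45346 (.leaf 0xb120) (.node 45347 (.leaf 0xf0b0b0a0a0005) (.leaf 0x0))))))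

def argWS_4014 : Store := (.node 45359 (.node 45353 (.node 45350 (.node 45349 (.leaf 0x20901090806000007) (.leaf 0x0)) (.node 45351 (.leaf 0xe0a0a0003) (.node 45352 (.leaf 0x80007020902000703040103000d) (.leaf 0x0)))) (.node 45356 (.node 45354 (.leaf 0xf0a0002) (.node 45355 (.leaf 0x0) (.leaf 0xb0001))) (.node 45357 (.leaf 0x0) (.node 45358 (.leaf 0xb0a0f0003) (.leaf 0xb12d00b12c))))) (.node 45365 (.node 45362 (.node 45360 (.leaf 0x0) (.node 45361 (.leaf 0x40406010500020202000701000c) (.leaf 0x0))) (.node 45363 (.leaf 0xe0a0002) (.node 45364 (.leaf 0xe0a0a0003) (.leaf 0x10306010500020007)))) (.node 45368 (.node 45366 (.leaf 0x0) (.node 45367 (.leaf 0xa0f0b0003) (.leaf 0x0))) (.node 45369 (.leaf 0x801010400050802040105000b) (.node 45370 (.leaf 0x0) (.leaf 0xb0a0f0003))))))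

def argWS_4015 : Store := (.node 45348 argWS_4013 argWS_4014)

def argWS_4016 : Store := (.node 45326 argWS_4012 argWS_4015)

def argWS_4017 : Store := (.node 45382 (.node 45376 (.node 45373 (.node 45372 (.leaf 0x0) (.leaf 0xb13b00b137)) (.node 45374 (.leaf 0xb0b0a0a0004) (.node 45375 (.leaf 0x0) (.leaf 0xa0f0b0b0004)))) (.node 45379 (.node 45377 (.leaf 0x0) (.node 45378 (.leaf 0x0) (.leaf 0xb0b0a0003))) (.node 45380 (.leaf 0x2060106020702010202000701000d) (.node 45381 (.leaf 0x0) (.leaf 0xb0f0a0003))))) (.node 45387 (.node 45384 (.node 45383 (.leaf 0x0) (.leaf 0x40306010500020007)) (.node 45385 (.leaf 0x0) (.node 45386 (.leaf 0xa0001) (.leaf 0x0)))) (.node 45390 (.node 45388 (.leaf 0xb14a00b146) (.node 45389 (.leaf 0xd0b0002) (.leaf 0x0))) (.node 45391 (.leaf 0xb0f0002) (.node 45392 (.leaf 0x0) (.leaf 0x0))))))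

def argWS_4018 : Store := (.node 45404 (.node 45398 (.node 45395 (.node 45394 (.leaf 0xf0b0002) (.leaf 0x9ea1)) (.node 45396 (.leaf 0xf0a0002) (.node 45397 (.leaf 0x0) (.leaf 0x602000408010202000701000b)))) (.node 45401 (.node 45399 (.leaf 0x0) (.node 45400 (.leaf 0xf0b0002) (.leaf 0xf0a0002))) (.node 45402 (.leaf 0x6000006030500040802040105000d) (.node 45403 (.leaf 0x0) (.leaf 0xe0001))))) (.node 45410 (.node 45407 (.node 45405 (.leaf 0x0) (.node 45406 (.leaf 0xb15c007640) (.leaf 0x4000309080600000703040103000d))) (.node 45408 (.leaf 0x0) (.node 45409 (.leaf 0x0) (.leaf 0xb0a0a0003)))) (.node 45413 (.node 45411 (.leaf 0x0) (.node 45412 (.leaf 0x0) (.leaf 0xf0b0002))) (.node 45414 (.leaf 0x90600020804000202000701000c) (.node 45415 (.leaf 0x0) (.leaf 0xf0b0b0a0a0005))))))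

def argWS_4019 : Store := (.node 45393 argWS_4017 argWS_4018)

def argWS_4020 : Store := (.node 45427 (.node 45421 (.node 45418 (.node 45417 (.leaf 0x0) (.leaf 0x803000401050006)) (.node 45419 (.leaf 0x0) (.node 45420 (.leaf 0xa0a0002) (.leaf 0x0)))) (.node 45424 (.node 45422 (.leaf 0xb16c00b168) (.node 45423 (.leaf 0x90703060802040105000a) (.leaf 0x0))) (.node 45425 (.leaf 0xf0b0b0a0a0005) (.node 45426 (.leaf 0x0) (.leaf 0xd0b0002))))) (.node 45433 (.node 45430 (.node 45428 (.leaf 0x0) (.node 45429 (.leaf 0x0) (.leaf 0xe0001))) (.node 45431 (.leaf 0xf0b0a0a0004) (.node 45432 (.leaf 0xb176) (.leaf 0xd0001)))) (.node 45436 (.node 45434 (.leaf 0x0) (.node 45435 (.leaf 0xf0b0a0003) (.leaf 0x0))) (.node 45437 (.leaf 0x0) (.node 45438 (.leaf 0x6010206030500040008) (.leaf 0x0))))))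

def argWS_4021 : Store := (.node 45450 (.node 45444 (.node 45441 (.node 45440 (.leaf 0xb0001) (.leaf 0x0)) (.node 45442 (.leaf 0xa0f0b0003) (.node 45443 (.leaf 0xb18100b180) (.leaf 0xb0f0a0003)))) (.node 45447 (.node 45445 (.leaf 0x0) (.node 45446 (.leaf 0x201070209020802040105000b) (.leaf 0x0))) (.node 45448 (.leaf 0xf0001) (.node 45449 (.leaf 0xf0a0a0003) (.leaf 0x70305090109000703040103000c))))) (.node 45456 (.node 45453 (.node 45451 (.leaf 0x0) (.node 45452 (.leaf 0x0) (.leaf 0xb0f0002))) (.node 45454 (.leaf 0xb18c00b18b) (.node 45455 (.leaf 0x90300070009030802040105000c) (.leaf 0x0)))) (.node 45459 (.node 45457 (.leaf 0xf0b0002) (.node 45458 (.leaf 0x0) (.leaf 0xb0f0002))) (.node 45460 (.leaf 0x0) (.node 45461 (.leaf 0x0) (.leaf 0xb0f0a0a0004))))))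

def argWS_4022 : Store := (.node 45439 argWS_4020 argWS_4021)

def argWS_4023 : Store := (.node 45416 argWS_4019 argWS_4022)

def argWS_4024 : Store := (.node 45371 argWS_4016 argWS_4023)

def argWS_4025 : Store := (.node 45281 argWS_4009 argWS_4024)

def argWS_4026 : Store := (.node 45101 argWS_3994 argWS_4025)

def argWS_4027 : Store := (.node 45473 (.node 45467 (.node 45464 (.node 45463 (.leaf 0x107070209020802040105000b) (.leaf 0x0)) (.node 45465 (.leaf 0xf0b0b0003) (.node 45466 (.leaf 0x0) (.leaf 0x30006020702010802040105000c)))) (.node 45470 (.node 45468 (.leaf 0x0) (.node 45469 (.leaf 0xf0001) (.leaf 0x0))) (.node 45471 (.leaf 0xb19d00b199) (.node 45472 (.leaf 0xd0b0b0003) (.leaf 0x0))))) (.node 45478 (.node 45475 (.node 45474 (.leaf 0xf0b0002) (.leaf 0x0)) (.node 45476 (.leaf 0x0) (.node 45477 (.leaf 0xa0001) (.leaf 0x903000603050004000703040103000e)))) (.node 45481 (.node 45479 (.leaf 0x0) (.node 45480 (.leaf 0xb0001) (.leaf 0x0))) (.node 45482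 (.leaf 0xb0001) (.node 45483 (.leaf 0xb1a900b1a8) (.leaf 0xb0a0a0003))))))

def argWS_4028 : Store := (.node 45495 (.node 45489 (.node 45486 (.node 45485 (.leaf 0x0) (.leaf 0xb0a0a0003)) (.node 45487 (.leaf 0x0) (.node 45488 (.leaf 0xb0b0a0a0004) (.leaf 0xf0b0b0003)))) (.node 45492 (.node 45490 (.leaf 0x933100b1b0) (.node 45491 (.leaf 0x900090000090202000701000b) (.leaf 0x0))) (.node 45493 (.leaf 0xf0b0b0a0004) (.node 45494 (.leaf 0x0) (.leaf 0xa0a0002))))) (.node 45501 (.node 45498 (.node 45496 (.leaf 0x0) (.node 45497 (.leaf 0x0) (.leaf 0x604000900090006))) (.node 45499 (.leaf 0x0) (.node 45500 (.leaf 0xd0001) (.leaf 0x0)))) (.node 45504 (.node 45502 (.leaf 0x900070209020006) (.node 45503 (.leaf 0x0) (.leaf 0xd0b0b0003))) (.node 45505 (.leaf 0x0) (.node 45506 (.leaf 0xb1c0) (.leaf 0x0))))))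

def argWS_4029 : Store := (.node 45484 argWS_4027 argWS_4028)

def argWS_4030 : Store := (.node 45518 (.node 45512 (.node 45509 (.node 45508 (.leaf 0x701090206020802040105000b) (.leaf 0x0)) (.node 45510 (.leaf 0xa0f0002) (.node 45511 (.leaf 0xf0a0002) (.leaf 0xd0b0b0003)))) (.node 45515 (.node 45513 (.leaf 0xb1c7) (.node 45514 (.leaf 0x606010202090000000703040103000e) (.leaf 0x0))) (.node 45516 (.leaf 0xe0d0002) (.node 45517 (.leaf 0x0) (.leaf 0xb0f0002))))) (.node 45523 (.node 45520 (.node 45519 (.leaf 0x0) (.leaf 0x0)) (.node 45521 (.leaf 0xd0001) (.node 45522 (.leaf 0xe0001) (.leaf 0xf0001)))) (.node 45526 (.node 45524 (.leaf 0xb1d200b1d1) (.node 45525 (.leaf 0xf0b0b0a0a0005) (.leaf 0x0))) (.node 45527 (.leaf 0xa0001) (.node 45528 (.leaf 0x0) (.leaf 0x0))))))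

def argWS_4031 : Store := (.node 45540 (.node 45534 (.node 45531 (.node 45530 (.leaf 0xf0b0b0003) (.leaf 0xa0f0b0b0004)) (.node 45532 (.leaf 0xb1da) (.node 45533 (.leaf 0xe0001) (.leaf 0x0)))) (.node 45537 (.node 45535 (.leaf 0x0) (.node 45536 (.leaf 0xb0a0002) (.leaf 0x8215))) (.node 45538 (.leaf 0x50000090000090802040105000c) (.node 45539 (.leaf 0x0) (.leaf 0xa0a0002))))) (.node 45546 (.node 45543 (.node 45541 (.leaf 0x0) (.node 45542 (.leaf 0xf0001) (.leaf 0x0))) (.node 45544 (.leaf 0x0) (.node 45545 (.leaf 0xb0f0a0a0004) (.leaf 0x30306030500040202000701000c)))) (.node 45549 (.node 45547 (.leaf 0x0) (.node 45548 (.leaf 0xa0001) (.leaf 0x0))) (.node 45550 (.leaf 0xb1ec) (.node 45551 (.leaf 0xe0a0002) (.leaf 0x0))))))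

def argWS_4032 : Store := (.node 45529 argWS_4030 argWS_4031)

def argWS_4033 : Store := (.node 45507 argWS_4029 argWS_4032)

def argWS_4034 : Store := (.node 45563 (.node 45557 (.node 45554 (.node 45553 (.leaf 0x2060106030500040202000701000d) (.leaf 0x0)) (.node 45555 (.leaf 0xf0b0002) (.node 45556 (.leaf 0xa0f0b0003) (.leaf 0xf0b0b0a0a0005)))) (.node 45560 (.node 45558 (.leaf 0xf0b0b0a0004) (.node 45559 (.leaf 0xb1f500b1f4) (.leaf 0x90300030306040802040105000c))) (.node 45561 (.leaf 0x0) (.node 45562 (.leaf 0xf0b0a0a0004) (.leaf 0x0))))) (.node 45568 (.node 45565 (.node 45564 (.leaf 0xf0a0a0003) (.leaf 0x0)) (.node 45566 (.leaf 0x0) (.node 45567 (.leaf 0x101070206000202000701000b) (.leaf 0x0)))) (.node 45571 (.node 45569 (.leaf 0xf0b0002) (.node 45570 (.leaf 0x0) (.leaf 0xe0a0a0003))) (.node 45572 (.leaf 0x20202000408010802040105000c) (.node 45573 (.leaf 0x0) (.leaf 0xb0f0a0003))))))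

def argWS_4035 : Store := (.node 45585 (.node 45579 (.node 45576 (.node 45575 (.leaf 0x0) (.leaf 0xb20600b202)) (.node 45577 (.leaf 0xf0b0b0003) (.node 45578 (.leaf 0x0) (.leaf 0xd0001)))) (.node 45582 (.node 45580 (.leaf 0x0) (.node 45581 (.leaf 0x0) (.leaf 0xe0001))) (.node 45583 (.leaf 0xa0f0b0003) (.node 45584 (.leaf 0x20401090000090202000701000c) (.leaf 0x0))))) (.node 45591 (.node 45588 (.node 45586 (.leaf 0x0) (.node 45587 (.leaf 0xb21100b20e) (.leaf 0x602020106060202000701000b))) (.node 45589 (.leaf 0x0) (.node 45590 (.leaf 0xb0001) (.leaf 0x0)))) (.node 45594 (.node 45592 (.leaf 0xf0b0b0a0a0005) (.node 45593 (.leaf 0x0) (.leaf 0x0))) (.node 45595 (.leaf 0xb0a0f0003) (.node 45596 (.leaf 0x6000003010102000202000701000d) (.leaf 0x0))))))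

def argWS_4036 : Store := (.node 45574 argWS_4034 argWS_4035)

def argWS_4037 : Store := (.node 45608 (.node 45602 (.node 45599 (.node 45598 (.leaf 0xf0b0b0a0004) (.leaf 0x0)) (.node 45600 (.leaf 0xe0a0a0003) (.node 45601 (.leaf 0xb21f00b21e) (.leaf 0xa0f0b0b0004)))) (.node 45605 (.node 45603 (.leaf 0x0) (.node 45604 (.leaf 0xd0b0b0003) (.leaf 0x0))) (.node 45606 (.leaf 0x0) (.node 45607 (.leaf 0xb0a0f0003) (.leaf 0xe0a0a0003))))) (.node 45613 (.node 45610 (.node 45609 (.leaf 0xb0001) (.leaf 0xb22800b227)) (.node 45611 (.leaf 0xf0a0a0003) (.node 45612 (.leaf 0x0) (.leaf 0xd0b0002)))) (.node 45616 (.node 45614 (.leaf 0x0) (.node 45615 (.leaf 0x0) (.leaf 0xb0f0a0003))) (.node 45617 (.leaf 0xb22f) (.node 45618 (.leaf 0xf0b0b0a0a0005) (.leaf 0x0))))))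

def argWS_4038 : Store := (.node 45630 (.node 45624 (.node 45621 (.node 45620 (.leaf 0xa0f0002) (.leaf 0x0)) (.node 45622 (.leaf 0x0) (.node 45623 (.leaf 0xb0f0a0a0004) (.leaf 0x103070009030006)))) (.node 45627 (.node 45625 (.leaf 0x0) (.node 45626 (.leaf 0xb0b0a0a0004) (.leaf 0x0))) (.node 45628 (.leaf 0xa87200b23a) (.node 45629 (.leaf 0xa0f0b0003) (.leaf 0x0))))) (.node 45636 (.node 45633 (.node 45631 (.leaf 0xd0b0002) (.node 45632 (.leaf 0x0) (.leaf 0x0))) (.node 45634 (.leaf 0x105020601050002000703040103000e) (.node 45635 (.leaf 0x0) (.leaf 0xf0b0b0a0a0005)))) (.node 45639 (.node 45637 (.leaf 0x0) (.node 45638 (.leaf 0x90201050206040802040105000c) (.leaf 0x0))) (.node 45640 (.leaf 0xf0b0b0a0004) (.node 45641 (.leaf 0x0) (.leaf 0xb0b0a0003))))))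

def argWS_4039 : Store := (.node 45619 argWS_4037 argWS_4038)

def argWS_4040 : Store := (.node 45597 argWS_4036 argWS_4039)

def argWS_4041 : Store := (.node 45552 argWS_4033 argWS_4040)

def argWS_4042 : Store := (.node 45653 (.node 45647 (.node 45644 (.node 45643 (.leaf 0xb24900b248) (.leaf 0xf0a0002)) (.node 45645 (.leaf 0x0) (.node 45646 (.leaf 0xf0b0b0a0a0005) (.leaf 0x0)))) (.node 45650 (.node 45648 (.leaf 0x0) (.node 45649 (.leaf 0xe0d0002) (.leaf 0xf0a0a0003))) (.node 45651 (.leaf 0x206000408010202000701000b) (.node 45652 (.leaf 0x0) (.leaf 0xa0f0b0003))))) (.node 45658 (.node 45655 (.node 45654 (.leaf 0x0) (.leaf 0xb25500b251)) (.node 45656 (.leaf 0xb0a0002) (.node 45657 (.leaf 0x0) (.leaf 0x60101090805000703040103000c)))) (.node 45661 (.node 45659 (.leaf 0x0) (.node 45660 (.leaf 0xf0001) (.leaf 0x80006030500040802040105000c))) (.node 45662 (.leaf 0x0) (.node 45663 (.leaf 0x0) (.leaf 0xe0a0002))))))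

def argWS_4043 : Store := (.node 45675 (.node 45669 (.node 45666 (.node 45665 (.leaf 0x9080600000703040103000b) (.leaf 0x0)) (.node 45667 (.leaf 0xe0a0002) (.node 45668 (.leaf 0x0) (.leaf 0xb26300b25f)))) (.node 45672 (.node 45670 (.leaf 0xa0f0b0b0004) (.node 45671 (.leaf 0x0) (.leaf 0x600030802020007010009))) (.node 45673 (.leaf 0x0) (.node 45674 (.leaf 0xb0a0002) (.leaf 0xd0001))))) (.node 45681 (.node 45678 (.node 45676 (.leaf 0x10202050206040802040105000c) (.node 45677 (.leaf 0x0) (.leaf 0xd0b0002))) (.node 45679 (.leaf 0x0) (.node 45680 (.leaf 0xf0b0a0003) (.leaf 0xb26f00b26e)))) (.node 45684 (.node 45682 (.leaf 0xd0b0002) (.node 45683 (.leaf 0x0) (.leaf 0xf0b0a0a0004))) (.node 45685 (.leaf 0x0) (.node 45686 (.leaf 0x0) (.leaf 0x1020106020702010008))))))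

def argWS_4044 : Store := (.node 45664 argWS_4042 argWS_4043)

def argWS_4045 : Store := (.node 45698 (.node 45692 (.node 45689 (.node 45688 (.leaf 0x0) (.leaf 0xf0b0b0003)) (.node 45690 (.leaf 0x0) (.node 45691 (.leaf 0x900030802020007010009) (.leaf 0x0)))) (.node 45695 (.node 45693 (.leaf 0xb0a0002) (.node 45694 (.leaf 0x0) (.leaf 0xf0b0b0003))) (.node 45696 (.leaf 0xb27e00b27d) (.node 45697 (.leaf 0xf0b0b0003) (.leaf 0x0))))) (.node 45703 (.node 45700 (.node 45699 (.leaf 0xf0b0b0a0004) (.leaf 0x0)) (.node 45701 (.leaf 0x0) (.node 45702 (.leaf 0xb0a0002) (.leaf 0x90503010904020202000701000c)))) (.node 45706 (.node 45704 (.leaf 0x0) (.node 45705 (.leaf 0xe0a0002) (.leaf 0x0))) (.node 45707 (.leaf 0xb289) (.node 45708 (.leaf 0xf0a0002) (.leaf 0x0))))))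

def argWS_4046 : Store := (.node 45720 (.node 45714 (.node 45711 (.node 45710 (.leaf 0xa0f0b0003) (.leaf 0x0)) (.node 45712 (.leaf 0x0) (.node 45713 (.leaf 0xe0001) (.leaf 0xf0a0002)))) (.node 45717 (.node 45715 (.leaf 0x102010901090802040105000b) (.node 45716 (.leaf 0x0) (.leaf 0xf0a0002))) (.node 45718 (.leaf 0x0) (.node 45719 (.leaf 0xb29500b291) (.leaf 0xa0001))))) (.node 45726 (.node 45723 (.node 45721 (.leaf 0x0) (.node 45722 (.leaf 0x0) (.leaf 0xb0f0002))) (.node 45724 (.leaf 0xb0b0a0003) (.node 45725 (.leaf 0x10502010703060007) (.leaf 0x0)))) (.node 45729 (.node 45727 (.leaf 0xb0001) (.node 45728 (.leaf 0x0) (.leaf 0xb29f00b29b))) (.node 45730 (.leaf 0xb0f0a0a0004) (.node 45731 (.leaf 0x0) (.leaf 0x3040901060005))))))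

def argWS_4047 : Store := (.node 45709 argWS_4045 argWS_4046)

def argWS_4048 : Store := (.node 45687 argWS_4044 argWS_4047)

def argWS_4049 : Store := (.node 45743 (.node 45737 (.node 45734 (.node 45733 (.leaf 0x0) (.leaf 0xf0b0b0a0004)) (.node 45735 (.leaf 0x4000408010006) (.node 45736 (.leaf 0x0) (.leaf 0xd0b0b0003)))) (.node 45740 (.node 45738 (.leaf 0x0) (.node 45739 (.leaf 0x201050002000703040103000b) (.leaf 0x0))) (.node 45741 (.leaf 0xe0a0a0003) (.node 45742 (.leaf 0x0) (.leaf 0xf0b0a0003))))) (.node 45748 (.node 45745 (.node 45744 (.leaf 0xb2ae00b2ad) (.leaf 0xe0a0a0003)) (.node 45746 (.leaf 0x0) (.node 45747 (.leaf 0xe0a0a0003) (.leaf 0x0)))) (.node 45751 (.node 45749 (.leaf 0xa0f0b0003) (.node 45750 (.leaf 0xb0f0002) (.leaf 0xb0a0002))) (.node 45752 (.leaf 0xb2b600b2b5) (.node 45753 (.leaf 0xf0a0002) (.leaf 0x0))))))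

def argWS_4050 : Store := (.node 45765 (.node 45759 (.node 45756 (.node 45755 (.leaf 0x60200050206040007) (.leaf 0x0)) (.node 45757 (.leaf 0xd0001) (.node 45758 (.leaf 0xe0d0002) (.leaf 0xb0a0002)))) (.node 45762 (.node 45760 (.leaf 0xb2be) (.node 45761 (.leaf 0xb0f0a0003) (.leaf 0x0))) (.node 45763 (.leaf 0x60200090000090202000701000c) (.node 45764 (.leaf 0x0) (.leaf 0xf0a0002))))) (.node 45771 (.node 45768 (.node 45766 (.leaf 0xf0b0a0003) (.node 45767 (.leaf 0x802000206030006) (.leaf 0x0))) (.node 45769 (.leaf 0x0) (.node 45770 (.leaf 0x6000202090000000703040103000e) (.leaf 0x0)))) (.node 45774 (.node 45772 (.leaf 0xa0001) (.node 45773 (.leaf 0x0) (.leaf 0xb2cc00b2c8))) (.node 45775 (.leaf 0xe0d0002) (.node 45776 (.leaf 0x0) (.leaf 0x1020106060802040105000a))))))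

def argWS_4051 : Store := (.node 45754 argWS_4049 argWS_4050)

def argWS_4052 : Store := (.node 45788 (.node 45782 (.node 45779 (.node 45778 (.leaf 0x0) (.leaf 0xd0001)) (.node 45780 (.leaf 0x2000000030306040202000701000d) (.node 45781 (.leaf 0x0) (.leaf 0xb0f0a0a0004)))) (.node 45785 (.node 45783 (.leaf 0x0) (.node 45784 (.leaf 0x8000007030401030008) (.leaf 0x0))) (.node 45786 (.leaf 0xf0001) (.node 45787 (.leaf 0x0) (.leaf 0xd0001))))) (.node 45794 (.node 45791 (.node 45789 (.leaf 0xb2db00b2da) (.node 45790 (.leaf 0xb0a0a0003) (.leaf 0x0))) (.node 45792 (.leaf 0x40901090005) (.node 45793 (.leaf 0x0) (.leaf 0xe0001)))) (.node 45797 (.node 45795 (.leaf 0xd0b0b0003) (.node 45796 (.leaf 0xa0001) (.leaf 0x404090806000202000701000b))) (.node 45798 (.leaf 0x0) (.node 45799 (.leaf 0xf0a0a0003) (.leaf 0x0))))))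

def argWS_4053 : Store := (.node 45811 (.node 45805 (.node 45802 (.node 45801 (.leaf 0xb2e700b2e3) (.leaf 0xd0001)) (.node 45803 (.leaf 0x0) (.node 45804 (.leaf 0xf0b0a0a0004) (.leaf 0x0)))) (.node 45808 (.node 45806 (.leaf 0x0) (.node 45807 (.leaf 0xe0a0a0003) (.leaf 0xb0b0a0003))) (.node 45809 (.leaf 0xb2ef) (.node 45810 (.leaf 0xb0a0f0003) (.leaf 0x0))))) (.node 45817 (.node 45814 (.node 45812 (.leaf 0xf0b0a0a0004) (.node 45813 (.leaf 0x0) (.leaf 0x0))) (.node 45815 (.leaf 0x8050006010500020202000701000d) (.node 45816 (.leaf 0x0) (.leaf 0x0)))) (.node 45820 (.node 45818 (.leaf 0x40105020202010802040105000c) (.node 45819 (.leaf 0x0) (.leaf 0xe0d0002))) (.node 45821 (.leaf 0x0) (.node 45822 (.leaf 0xa0001) (.leaf 0xb2fd00b2fc))))))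

def argWS_4054 : Store := (.node 45800 argWS_4052 argWS_4053)

def argWS_4055 : Store := (.node 45777 argWS_4051 argWS_4054)

def argWS_4056 : Store := (.node 45732 argWS_4048 argWS_4055)

def argWS_4057 : Store := (.node 45642 argWS_4041 argWS_4056)

def argWS_4058 : Store := (.node 45834 (.node 45828 (.node 45825 (.node 45824 (.leaf 0xf0b0a0003) (.leaf 0x0)) (.node 45826 (.leaf 0x2060207030802040105000a) (.node 45827 (.leaf 0x0) (.leaf 0xb0a0a0003)))) (.node 45831 (.node 45829 (.leaf 0xf0a0002) (.node 45830 (.leaf 0x6020000000300000802040105000d) (.leaf 0x0))) (.node 45832 (.leaf 0xd0b0002) (.node 45833 (.leaf 0x0) (.leaf 0xb308))))) (.node 45839 (.node 45836 (.node 45835 (.leaf 0xb0b0a0a0004) (.leaf 0x0)) (.node 45837 (.leaf 0xb0f0a0a0004) (.node 45838 (.leaf 0x0) (.leaf 0x0)))) (.node 45842 (.node 45840 (.leaf 0xb0f0a0003) (.node 45841 (.leaf 0xe0d0002) (.leaf 0xb310))) (.node 45843 (.leaf 0xf0a0002) (.node 45844 (.leaf 0x0) (.leaf 0x0))))))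

def argWS_4059 : Store := (.node 45856 (.node 45850 (.node 45847 (.node 45846 (.leaf 0xf0a0002) (.leaf 0xf0b0a0003)) (.node 45848 (.leaf 0x4000307000903000703040103000d) (.node 45849 (.leaf 0x0) (.leaf 0xe0001)))) (.node 45853 (.node 45851 (.leaf 0x0) (.node 45852 (.leaf 0xb31a00b316) (.leaf 0xf0b0a0003))) (.node 45854 (.leaf 0x0) (.node 45855 (.leaf 0x602090805000703040103000b) (.leaf 0x0))))) (.node 45862 (.node 45859 (.node 45857 (.leaf 0xe0a0a0003) (.node 45858 (.leaf 0xe0a0a0003) (.leaf 0xf0b0a0003))) (.node 45860 (.leaf 0x10700090109000703040103000c) (.node 45861 (.leaf 0x0) (.leaf 0xa0f0b0003)))) (.node 45865 (.node 45863 (.leaf 0x0) (.node 45864 (.leaf 0xb32600b322) (.leaf 0x3030308000703040103000a))) (.node 45866 (.leaf 0x0) (.node 45867 (.leaf 0xb0b0002) (.leaf 0x0))))))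

def argWS_4060 : Store := (.node 45845 argWS_4058 argWS_4059)

def argWS_4061 : Store := (.node 45879 (.node 45873 (.node 45870 (.node 45869 (.leaf 0xe0001) (.leaf 0x0)) (.node 45871 (.leaf 0x0) (.node 45872 (.leaf 0xd0b0002) (.leaf 0x1070000020804000802040105000d)))) (.node 45876 (.node 45874 (.leaf 0x0) (.node 45875 (.leaf 0xb0f0002) (.leaf 0x0))) (.node 45877 (.leaf 0xf0b0b0a0a0005) (.node 45878 (.leaf 0xb33400b333) (.leaf 0x800040005000703040103000b))))) (.node 45884 (.node 45881 (.node 45880 (.leaf 0x0) (.leaf 0xa0a0002)) (.node 45882 (.leaf 0x0) (.node 45883 (.leaf 0xd0001) (.leaf 0x0)))) (.node 45887 (.node 45885 (.leaf 0x0) (.node 45886 (.leaf 0xb0f0a0003) (.leaf 0xf0b0b0a0a0005))) (.node 45888 (.leaf 0xb33e) (.node 45889 (.leaf 0xa0f0002) (.leaf 0x0))))))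

def argWS_4062 : Store := (.node 45901 (.node 45895 (.node 45892 (.node 45891 (.leaf 0xd0b0002) (.leaf 0x0)) (.node 45893 (.leaf 0x0) (.node 45894 (.leaf 0xf0b0a0a0004) (.leaf 0x2060102090106000703040103000d)))) (.node 45898 (.node 45896 (.leaf 0x0) (.node 45897 (.leaf 0xf0b0b0a0a0005) (.leaf 0x0))) (.node 45899 (.leaf 0xb349005810) (.node 45900 (.leaf 0x3010703060006) (.leaf 0x0))))) (.node 45907 (.node 45904 (.node 45902 (.leaf 0xb0f0002) (.node 45903 (.leaf 0x0) (.leaf 0xf0a0002))) (.node 45905 (.leaf 0x0) (.node 45906 (.leaf 0x0) (.leaf 0xb0001)))) (.node 45910 (.node 45908 (.leaf 0x70200090206020202000701000c) (.node 45909 (.leaf 0x0) (.leaf 0xb0b0a0a0004))) (.node 45911 (.leaf 0x0) (.node 45912 (.leaf 0x306020702010006) (.leaf 0x0))))))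

def argWS_4063 : Store := (.node 45890 argWS_4061 argWS_4062)

def argWS_4064 : Store := (.node 45868 argWS_4060 argWS_4063)

def argWS_4065 : Store := (.node 45924 (.node 45918 (.node 45915 (.node 45914 (.leaf 0xf0a0a0003) (.leaf 0x0)) (.node 45916 (.leaf 0xb35a00b356) (.node 45917 (.leaf 0xd0001) (.leaf 0x0)))) (.node 45921 (.node 45919 (.leaf 0xf0a0a0003) (.node 45920 (.leaf 0x0) (.leaf 0x0))) (.node 45922 (.leaf 0xb0a0f0003) (.node 45923 (.leaf 0x7020900090802040105000a) (.leaf 0x0))))) (.node 45929 (.node 45926 (.node 45925 (.leaf 0xf0b0002) (.leaf 0x0)) (.node 45927 (.leaf 0xb0b0a0a0004) (.node 45928 (.leaf 0xb36600b365) (.leaf 0x0)))) (.node 45932 (.node 45930 (.leaf 0xb0b0a0a0004) (.node 45931 (.leaf 0x0) (.leaf 0xd0b0b0003))) (.node 45933 (.leaf 0x0) (.node 45934 (.leaf 0x0) (.leaf 0xf0b0a0a0004))))))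

def argWS_4066 : Store := (.node 45946 (.node 45940 (.node 45937 (.node 45936 (.leaf 0xb0001) (.leaf 0xb36f)) (.node 45938 (.leaf 0xe0a0002) (.node 45939 (.leaf 0x0) (.leaf 0xb0b0a0003)))) (.node 45943 (.node 45941 (.leaf 0x0) (.node 45942 (.leaf 0xf0b0b0a0a0005) (.leaf 0x30400020804000007))) (.node 45944 (.leaf 0x0) (.node 45945 (.leaf 0xb0a0002) (.leaf 0x0))))) (.node 45952 (.node 45949 (.node 45947 (.leaf 0x10400020901060202000701000c) (.node 45948 (.leaf 0x0) (.leaf 0xa0f0002))) (.node 45950 (.leaf 0x0) (.node 45951 (.leaf 0xb37d00b379) (.leaf 0xf0b0a0a0004)))) (.node 45955 (.node 45953 (.leaf 0x0) (.node 45954 (.leaf 0x0) (.leaf 0x306020702010202000701000b))) (.node 45956 (.leaf 0x0) (.node 45957 (.leaf 0xb0f0a0a0004) (.leaf 0x0))))))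

def argWS_4067 : Store := (.node 45935 argWS_4065 argWS_4066)

def argWS_4068 : Store := (.node 45969 (.node 45963 (.node 45960 (.node 45959 (.leaf 0x801020804000802040105000b) (.leaf 0x0)) (.node 45961 (.leaf 0xb0f0002) (.node 45962 (.leaf 0x0) (.leaf 0xb389)))) (.node 45966 (.node 45964 (.leaf 0xf0b0b0003) (.node 45965 (.leaf 0x0) (.leaf 0xd0001))) (.node 45967 (.leaf 0x0) (.node 45968 (.leaf 0x0) (.leaf 0xd0b0002))))) (.node 45974 (.node 45971 (.node 45970 (.leaf 0x1070703060202000701000a) (.leaf 0x0)) (.node 45972 (.leaf 0xf0a0002) (.node 45973 (.leaf 0x0) (.leaf 0xb3940057ae)))) (.node 45977 (.node 45975 (.leaf 0xb0b0a0003) (.node 45976 (.leaf 0x0) (.leaf 0xb0b0002))) (.node 45978 (.leaf 0x0) (.node 45979 (.leaf 0x0) (.leaf 0xd0b0b0003))))))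

def argWS_4069 : Store := (.node 45991 (.node 45985 (.node 45982 (.node 45981 (.leaf 0xe0001) (.leaf 0x0)) (.node 45983 (.leaf 0x8d3e00b39d) (.node 45984 (.leaf 0xb0a0f0003) (.leaf 0x0)))) (.node 45988 (.node 45986 (.leaf 0xe0a0a0003) (.node 45987 (.leaf 0x0) (.leaf 0x0))) (.node 45989 (.leaf 0xf0b0b0003) (.node 45990 (.leaf 0x9000900090802040105000b) (.leaf 0x0))))) (.node 45997 (.node 45994 (.node 45992 (.leaf 0xe0001) (.node 45993 (.leaf 0x0) (.leaf 0x400090806000802040105000c))) (.node 45995 (.leaf 0x0) (.node 45996 (.leaf 0xf0b0a0a0004) (.leaf 0x0)))) (.node 46000 (.node 45998 (.leaf 0xb3ac00b3a8) (.node 45999 (.leaf 0x202010904020006) (.leaf 0x0))) (.node 46001 (.leaf 0xb0b0a0a0004) (.node 46002 (.leaf 0x0) (.leaf 0xd0b0b0003))))))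

def argWS_4070 : Store := (.node 45980 argWS_4068 argWS_4069)

def argWS_4071 : Store := (.node 45958 argWS_4067 argWS_4070)

def argWS_4072 : Store := (.node 45913 argWS_4064 argWS_4071)

def argWS_4073 : Store := (.node 46014 (.node 46008 (.node 46005 (.node 46004 (.leaf 0x0) (.leaf 0x0)) (.node 46006 (.leaf 0x9050106060005) (.node 46007 (.leaf 0x0) (.leaf 0xe0a0a0003)))) (.node 46011 (.node 46009 (.leaf 0x0) (.node 46010 (.leaf 0xb0a0a0003) (.leaf 0xb3b900b3b8))) (.node 46012 (.leaf 0xf0a0002) (.node 46013 (.leaf 0x0) (.leaf 0xb0b0a0a0004))))) (.node 46019 (.node 46016 (.node 46015 (.leaf 0x0) (.leaf 0x0)) (.node 46017 (.leaf 0xe0a0a0003) (.node 46018 (.leaf 0x20903010102000202000701000c) (.leaf 0x0)))) (.node 46022 (.node 46020 (.leaf 0xb0f0a0a0004) (.node 46021 (.leaf 0x0) (.leaf 0xb3c4))) (.node 46023 (.leaf 0x4000306020702010202000701000d) (.node 46024 (.leaf 0x0) (.leaf 0xe0d0002))))))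

def argWS_4074 : Store := (.node 46036 (.node 46030 (.node 46027 (.node 46026 (.leaf 0x0) (.leaf 0xa0f0b0b0004)) (.node 46028 (.leaf 0x0) (.node 46029 (.leaf 0x0) (.leaf 0x109030400050006)))) (.node 46033 (.node 46031 (.leaf 0x0) (.node 46032 (.leaf 0xe0d0002) (.leaf 0x0))) (.node 46034 (.leaf 0x20400000300000007) (.node 46035 (.leaf 0x0) (.leaf 0xb0f0a0003))))) (.node 46042 (.node 46039 (.node 46037 (.leaf 0x0) (.node 46038 (.leaf 0x70305090806000007) (.leaf 0x0))) (.node 46040 (.leaf 0xf0a0002) (.node 46041 (.leaf 0x0) (.leaf 0xb3d800b3d4)))) (.node 46045 (.node 46043 (.leaf 0xf0b0b0a0004) (.node 46044 (.leaf 0x0) (.leaf 0x7000007020600000703040103000d))) (.node 46046 (.leaf 0x0) (.node 46047 (.leaf 0xf0b0b0a0a0005) (.leaf 0x5020202010802040105000b))))))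

def argWS_4075 : Store := (.node 46025 argWS_4073 argWS_4074)

def argWS_4076 : Store := (.node 46059 (.node 46053 (.node 46050 (.node 46049 (.leaf 0x0) (.leaf 0xf0b0b0003)) (.node 46051 (.leaf 0x0) (.node 46052 (.leaf 0x2010301010200000703040103000d) (.leaf 0x0)))) (.node 46056 (.node 46054 (.leaf 0xb0b0a0a0004) (.node 46055 (.leaf 0x0) (.leaf 0xb3e600b3e2))) (.node 46057 (.leaf 0xb0f0a0a0004) (.node 46058 (.leaf 0x0) (.leaf 0xb0a0a0003))))) (.node 46064 (.node 46061 (.node 46060 (.leaf 0x0) (.leaf 0x0)) (.node 46062 (.leaf 0x8030003080202000701000a) (.node 46063 (.leaf 0x0) (.leaf 0xf0a0a0003)))) (.node 46067 (.node 46065 (.leaf 0x0) (.node 46066 (.leaf 0xe0001) (.leaf 0xe0a0002))) (.node 46068 (.leaf 0xb3f200b3f1) (.node 46069 (.leaf 0xa0001) (.leaf 0x0))))))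

def argWS_4077 : Store := (.node 46081 (.node 46075 (.node 46072 (.node 46071 (.leaf 0x305010908050006) (.leaf 0x0)) (.node 46073 (.leaf 0xa0f0b0003) (.node 46074 (.leaf 0xf0b0b0a0004) (.leaf 0x209080600000703040103000b)))) (.node 46078 (.node 46076 (.leaf 0x0) (.node 46077 (.leaf 0xb0f0a0003) (.leaf 0x0))) (.node 46079 (.leaf 0x2000901090202000701000a) (.node 46080 (.leaf 0x0) (.leaf 0xf0b0a0003))))) (.node 46087 (.node 46084 (.node 46082 (.leaf 0x0) (.node 46083 (.leaf 0x60009080600000703040103000c) (.leaf 0x0))) (.node 46085 (.leaf 0xa0001) (.node 46086 (.leaf 0x0) (.leaf 0xb40500b401)))) (.node 46090 (.node 46088 (.leaf 0xb0001) (.node 46089 (.leaf 0x0) (.leaf 0x102010206020007010009))) (.node 46091 (.leaf 0x0) (.node 46092 (.leaf 0xd0b0b0003) (.leaf 0xe0d0002))))))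

def argWS_4078 : Store := (.node 46070 argWS_4076 argWS_4077)

def argWS_4079 : Store := (.node 46048 argWS_4075 argWS_4078)

def argWS_4080 : Store := (.node 46104 (.node 46098 (.node 46095 (.node 46094 (.leaf 0xb0b0a0003) (.leaf 0xb40d)) (.node 46096 (.leaf 0x2090806000202000701000b) (.node 46097 (.leaf 0x0) (.leaf 0xf0001)))) (.node 46101 (.node 46099 (.leaf 0x0) (.node 46100 (.leaf 0xa0a0002) (.leaf 0x0))) (.node 46102 (.leaf 0x0) (.node 46103 (.leaf 0xf0001) (.leaf 0x8bed))))) (.node 46109 (.node 46106 (.node 46105 (.leaf 0x1010900090802040105000a) (.leaf 0x0)) (.node 46107 (.leaf 0xf0001) (.node 46108 (.leaf 0x0) (.leaf 0xf0b0b0003)))) (.node 46112 (.node 46110 (.leaf 0x0) (.node 46111 (.leaf 0x0) (.leaf 0xf0b0a0a0004))) (.node 46113 (.leaf 0x501070209020202000701000b) (.node 46114 (.leaf 0x0) (.leaf 0xb0f0a0003))))))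

def argWS_4081 : Store := (.node 46126 (.node 46120 (.node 46117 (.node 46116 (.leaf 0x0) (.leaf 0x77f600b423)) (.node 46118 (.leaf 0x0) (.node 46119 (.leaf 0xb0b0a0a0004) (.leaf 0x0)))) (.node 46123 (.node 46121 (.leaf 0x0) (.node 46122 (.leaf 0xe0d0002) (.leaf 0x10300020703000703040103000c))) (.node 46124 (.leaf 0x0) (.node 46125 (.leaf 0x0) (.leaf 0xb42c002fb9))))) (.node 46132 (.node 46129 (.node 46127 (.leaf 0xa0f0002) (.node 46128 (.leaf 0x0) (.leaf 0x907010908050006))) (.node 46130 (.leaf 0x0) (.node 46131 (.leaf 0xa0001) (.leaf 0xd0b0b0003)))) (.node 46135 (.node 46133 (.leaf 0xb0f0a0a0004) (.node 46134 (.leaf 0xb0b0a0a0004) (.leaf 0xb43500b434))) (.node 46136 (.leaf 0xe0001) (.node 46137 (.leaf 0x0) (.leaf 0x108040002020007010009))))))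

def argWS_4082 : Store := (.node 46115 argWS_4080 argWS_4081)

def argWS_4083 : Store := (.node 46149 (.node 46143 (.node 46140 (.node 46139 (.leaf 0x0) (.leaf 0xf0b0a0003)) (.node 46141 (.leaf 0x10700070009030802040105000c) (.node 46142 (.leaf 0x0) (.leaf 0xb0001)))) (.node 46146 (.node 46144 (.leaf 0x0) (.node 46145 (.leaf 0xf0b0b0a0004) (.leaf 0x20006030500040202000701000c))) (.node 46147 (.leaf 0x0) (.node 46148 (.leaf 0xb0b0a0003) (.leaf 0x0))))) (.node 46155 (.node 46152 (.node 46150 (.leaf 0xb44400b440) (.node 46151 (.leaf 0xa0f0b0b0004) (.leaf 0x0))) (.node 46153 (.leaf 0x10903070009030007) (.node 46154 (.leaf 0x0) (.leaf 0xb0b0a0a0004)))) (.node 46158 (.node 46156 (.leaf 0x402080400000703040103000b) (.node 46157 (.leaf 0x0) (.leaf 0xb0a0002))) (.node 46159 (.leaf 0x0) (.node 46160 (.leaf 0xb0f0002) (.leaf 0x9030006030500040802040105000d))))))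

def argWS_4084 : Store := (.node 46172 (.node 46166 (.node 46163 (.node 46162 (.leaf 0x0) (.leaf 0xb0f0a0003)) (.node 46164 (.leaf 0x0) (.node 46165 (.leaf 0xb45300b44f) (.leaf 0x0)))) (.node 46169 (.node 46167 (.leaf 0x60301050202020703040103000c) (.node 46168 (.leaf 0x0) (.leaf 0xb0a0a0003))) (.node 46170 (.leaf 0xe0a0002) (.node 46171 (.leaf 0x500020106060202000701000b) (.leaf 0x0))))) (.node 46178 (.node 46175 (.node 46173 (.leaf 0x0) (.node 46174 (.leaf 0xb45c00b459) (.leaf 0xb0f0002))) (.node 46176 (.leaf 0x0) (.node 46177 (.leaf 0x1020007010005) (.leaf 0x0)))) (.node 46181 (.node 46179 (.leaf 0xd0001) (.node 46180 (.leaf 0xe0a0a0003) (.leaf 0x70901090202000701000a))) (.node 46182 (.leaf 0x0) (.node 46183 (.leaf 0xb0001) (.leaf 0x0))))))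

def argWS_4085 : Store := (.node 46161 argWS_4083 argWS_4084)

def argWS_4086 : Store := (.node 46138 argWS_4082 argWS_4085)

def argWS_4087 : Store := (.node 46093 argWS_4079 argWS_4086)

def argWS_4088 : Store := (.node 46003 argWS_4072 argWS_4087)

def argWS_4089 : Store := (.node 45823 argWS_4057 argWS_4088)

def argWS_4090 : Store := (.node 45462 argWS_4026 argWS_4089)

def argWS_4091 : Store := (.node 44740 argWS_3963 argWS_4090)

def argWS_4092 : Store := (.node 43297 argWS_3836 argWS_4091)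

def argWS_4093 : Store := (.node 40411 argWS_3581 argWS_4092)

def argWS_4094 : Store := (.node 34638 argWS_3070 argWS_4093)

def argWS_4095 : Store := (.node 23092 argWS_2047 argWS_4094)

def argWS_4096 : Store := (.node 46195 (.node 46189 (.node 46186 (.node 46185 (.leaf 0xb467) (.leaf 0xa0a0002)) (.node 46187 (.leaf 0x0) (.node 46188 (.leaf 0x50002020007010007) (.leaf 0x0)))) (.node 46192 (.node 46190 (.leaf 0xb0b0a0003) (.node 46191 (.leaf 0xd0b0002) (.leaf 0xe0d0002))) (.node 46193 (.leaf 0x40003090000090007) (.node 46194 (.leaf 0x0) (.leaf 0xd0001))))) (.node 46200 (.node 46197 (.node 46196 (.leaf 0x0) (.leaf 0xb473)) (.node 46198 (.leaf 0xf0b0a0003) (.node 46199 (.leaf 0x0) (.leaf 0xb0a0002)))) (.node 46203 (.node 46201 (.leaf 0x0) (.node 46202 (.leaf 0x0) (.leaf 0x304090109000703040103000b))) (.node 46204 (.leaf 0x0) (.node 46205 (.leaf 0x0) (.leaf 0x702000003010006))))))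

def argWS_4097 : Store := (.node 46217 (.node 46211 (.node 46208 (.node 46207 (.leaf 0x0) (.leaf 0x0)) (.node 46209 (.leaf 0xb47f00b47c) (.node 46210 (.leaf 0x50009000009000703040103000c) (.leaf 0x0)))) (.node 46214 (.node 46212 (.leaf 0xb0b0a0a0004) (.node 46213 (.leaf 0x0) (.leaf 0x9060206020007010008))) (.node 46215 (.leaf 0x0) (.node 46216 (.leaf 0xb0b0002) (.leaf 0x8030005020604000703040103000d))))) (.node 46223 (.node 46220 (.node 46218 (.leaf 0x0) (.node 46219 (.leaf 0xf0b0a0a0004) (.leaf 0x0))) (.node 46221 (.leaf 0xb0b0002) (.node 46222 (.leaf 0x202090000090006) (.leaf 0x0)))) (.node 46226 (.node 46224 (.leaf 0xb0a0002) (.node 46225 (.leaf 0x0) (.leaf 0xb49000b48c))) (.node 46227 (.leaf 0xd0b0002) (.node 46228 (.leaf 0x0) (.leaf 0xb0f0a0a0004))))))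

def argWS_4098 : Store := (.node 46206 argWS_4096 argWS_4097)

def argWS_4099 : Store := (.node 46240 (.node 46234 (.node 46231 (.node 46230 (.leaf 0x0) (.leaf 0x0)) (.node 46232 (.leaf 0xb0a0a0003) (.node 46233 (.leaf 0xf0b0b0a0004) (.leaf 0xb498)))) (.node 46237 (.node 46235 (.leaf 0x60000000300000007) (.node 46236 (.leaf 0x0) (.leaf 0xa0001))) (.node 46238 (.leaf 0x0) (.node 46239 (.leaf 0xf0b0b0003) (.leaf 0x0))))) (.node 46245 (.node 46242 (.node 46241 (.leaf 0x0) (.leaf 0x0)) (.node 46243 (.leaf 0x0) (.node 46244 (.leaf 0x0) (.leaf 0xa0f0b0b0004)))) (.node 46248 (.node 46246 (.leaf 0x4000406020702010202000701000d) (.node 46247 (.leaf 0x0) (.leaf 0xe0001))) (.node 46249 (.leaf 0x0) (.node 46250 (.leaf 0xd0b0002) (.leaf 0xb4a9))))))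

def argWS_4100 : Store := (.node 46262 (.node 46256 (.node 46253 (.node 46252 (.leaf 0xf0001) (.leaf 0x0)) (.node 46254 (.leaf 0x20601060207020703040103000c) (.node 46255 (.leaf 0x0) (.leaf 0xa0001)))) (.node 46259 (.node 46257 (.leaf 0xe0d0002) (.node 46258 (.leaf 0x20602090106000703040103000c) (.leaf 0x0))) (.node 46260 (.leaf 0xe0001) (.node 46261 (.leaf 0x0) (.leaf 0xb4b4))))) (.node 46268 (.node 46265 (.node 46263 (.leaf 0x5090206020202000701000a) (.node 46264 (.leaf 0x0) (.leaf 0xb0b0a0a0004))) (.node 46266 (.leaf 0x0) (.node 46267 (.leaf 0xe0001) (.leaf 0x0)))) (.node 46271 (.node 46269 (.leaf 0x0) (.node 46270 (.leaf 0xe0a0a0003) (.leaf 0xd0b0b0003))) (.node 46272 (.leaf 0xf0b0b0a0004) (.node 46273 (.leaf 0x205010908050202000701000b) (.leaf 0x0))))))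

def argWS_4101 : Store := (.node 46251 argWS_4099 argWS_4100)

def argWS_4102 : Store := (.node 46229 argWS_4098 argWS_4101)

def argWS_4103 : Store := (.node 46285 (.node 46279 (.node 46276 (.node 46275 (.leaf 0xb0f0a0a0004) (.leaf 0x0)) (.node 46277 (.leaf 0xb4c3002c58) (.node 46278 (.leaf 0x2000200090206020802040105000d) (.leaf 0x0)))) (.node 46282 (.node 46280 (.leaf 0xb0001) (.node 46281 (.leaf 0x0) (.leaf 0xb0001))) (.node 46283 (.leaf 0x0) (.node 46284 (.leaf 0x0) (.leaf 0xb0b0002))))) (.node 46290 (.node 46287 (.node 46286 (.leaf 0xa0001) (.leaf 0xb4cd002d80)) (.node 46288 (.leaf 0x6020009080600000703040103000d) (.node 46289 (.leaf 0x0) (.leaf 0xf0b0b0a0004)))) (.node 46293 (.node 46291 (.leaf 0x0) (.node 46292 (.leaf 0xf0b0a0003) (.leaf 0x0))) (.node 46294 (.leaf 0x0) (.node 46295 (.leaf 0x50305090109000703040103000c) (.leaf 0x0))))))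

def argWS_4104 : Store := (.node 46307 (.node 46301 (.node 46298 (.node 46297 (.leaf 0xf0b0b0003) (.leaf 0x0)) (.node 46299 (.leaf 0xd0b0b0003) (.node 46300 (.leaf 0xb4da00b4d9) (.leaf 0x0)))) (.node 46304 (.node 46302 (.leaf 0xb0f0002) (.node 46303 (.leaf 0x0) (.leaf 0x0))) (.node 46305 (.leaf 0xa0f0002) (.node 46306 (.leaf 0xa0a0002) (.leaf 0xf0a0a0003))))) (.node 46313 (.node 46310 (.node 46308 (.leaf 0x40000090206020202000701000c) (.node 46309 (.leaf 0x0) (.leaf 0xf0b0b0a0a0005))) (.node 46311 (.leaf 0x0) (.node 46312 (.leaf 0x1020106060802040105000a) (.leaf 0x0)))) (.node 46316 (.node 46314 (.leaf 0xe0a0002) (.node 46315 (.leaf 0x0) (.leaf 0xb4ea00b4e6))) (.node 46317 (.leaf 0x90200030000000703040103000c) (.node 46318 (.leaf 0x0) (.leaf 0xd0b0b0003))))))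

def argWS_4105 : Store := (.node 46296 argWS_4103 argWS_4104)

def argWS_4106 : Store := (.node 46330 (.node 46324 (.node 46321 (.node 46320 (.leaf 0x0) (.leaf 0xf0a0002)) (.node 46322 (.leaf 0x0) (.node 46323 (.leaf 0x0) (.leaf 0xf0b0b0003)))) (.node 46327 (.node 46325 (.leaf 0xb0a0002) (.node 46326 (.leaf 0x30107020902000703040103000c) (.leaf 0x0))) (.node 46328 (.leaf 0xa0f0b0003) (.node 46329 (.leaf 0x0) (.leaf 0xb4f800b4f4))))) (.node 46335 (.node 46332 (.node 46331 (.leaf 0xe0001) (.leaf 0x0)) (.node 46333 (.leaf 0xf0b0a0a0004) (.node 46334 (.leaf 0x0) (.leaf 0x0)))) (.node 46338 (.node 46336 (.leaf 0xf0b0002) (.node 46337 (.leaf 0xb0b0a0a0004) (.leaf 0xf0b0a0003))) (.node 46339 (.leaf 0x301010703060802040105000b) (.node 46340 (.leaf 0x0) (.leaf 0xb0b0a0a0004))))))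

def argWS_4107 : Store := (.node 46352 (.node 46346 (.node 46343 (.node 46342 (.leaf 0x0) (.leaf 0xb505)) (.node 46344 (.leaf 0x9010703060802040105000a) (.node 46345 (.leaf 0x0) (.leaf 0xb0001)))) (.node 46349 (.node 46347 (.leaf 0x0) (.node 46348 (.leaf 0xf0b0b0a0004) (.leaf 0x0))) (.node 46350 (.leaf 0x0) (.node 46351 (.leaf 0xd0b0b0003) (.leaf 0xe0001))))) (.node 46358 (.node 46355 (.node 46353 (.leaf 0x10202090806000007) (.node 46354 (.leaf 0x0) (.leaf 0xb0f0a0a0004))) (.node 46356 (.leaf 0x0) (.node 46357 (.leaf 0x802000301010200000703040103000e) (.leaf 0x0)))) (.node 46361 (.node 46359 (.leaf 0xa0001) (.node 46360 (.leaf 0x0) (.leaf 0xb51700b513))) (.node 46362 (.leaf 0x202000003010006) (.node 46363 (.leaf 0x0) (.leaf 0xf0b0b0a0a0005))))))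

def argWS_4108 : Store := (.node 46341 argWS_4106 argWS_4107)

def argWS_4109 : Store := (.node 46319 argWS_4105 argWS_4108)

def argWS_4110 : Store := (.node 46274 argWS_4102 argWS_4109)

def argWS_4111 : Store := (.node 46375 (.node 46369 (.node 46366 (.node 46365 (.leaf 0x0) (.leaf 0xb0a0f0003)) (.node 46367 (.leaf 0x0) (.node 46368 (.leaf 0x0) (.leaf 0xe0a0a0003)))) (.node 46372 (.node 46370 (.leaf 0xf0001) (.node 46371 (.leaf 0x20401050202020703040103000c) (.leaf 0x0))) (.node 46373 (.leaf 0x0) (.node 46374 (.leaf 0xb52400b521) (.leaf 0x0))))) (.node 46380 (.node 46377 (.node 46376 (.leaf 0xb0a0002) (.leaf 0x0)) (.node 46378 (.leaf 0x0) (.node 46379 (.leaf 0xf0a0a0003) (.leaf 0xd0b0b0003)))) (.node 46383 (.node 46381 (.leaf 0x105020901090202000701000b) (.node 46382 (.leaf 0x0) (.leaf 0xa0f0b0b0004))) (.node 46384 (.leaf 0x0) (.node 46385 (.leaf 0x903010908050006) (.leaf 0x0))))))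

def argWS_4112 : Store := (.node 46397 (.node 46391 (.node 46388 (.node 46387 (.leaf 0x0) (.leaf 0xb53200b52f)) (.node 46389 (.leaf 0x0) (.node 46390 (.leaf 0xb0a0002) (.leaf 0x0)))) (.node 46394 (.node 46392 (.leaf 0x0) (.node 46393 (.leaf 0xf0a0002) (.leaf 0x2010102000005))) (.node 46395 (.leaf 0x0) (.node 46396 (.leaf 0xb0f0a0a0004) (.leaf 0x0))))) (.node 46403 (.node 46400 (.node 46398 (.leaf 0xb0f0002) (.node 46399 (.leaf 0xb53d00b53c) (.leaf 0x3040303010102000008))) (.node 46401 (.leaf 0x0) (.node 46402 (.leaf 0xb0001) (.leaf 0x0)))) (.node 46406 (.node 46404 (.leaf 0xa0a0002) (.node 46405 (.leaf 0x0) (.leaf 0x0))) (.node 46407 (.leaf 0xb0f0a0a0004) (.node 46408 (.leaf 0xb0a0002) (.leaf 0x200070206000802040105000b))))))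

def argWS_4113 : Store := (.node 46386 argWS_4111 argWS_4112)

def argWS_4114 : Store := (.node 46420 (.node 46414 (.node 46411 (.node 46410 (.leaf 0x0) (.leaf 0xb0a0f0003)) (.node 46412 (.leaf 0x0) (.node 46413 (.leaf 0xb54b00b547) (.leaf 0x209010207030006)))) (.node 46417 (.node 46415 (.leaf 0x0) (.node 46416 (.leaf 0xa0001) (.leaf 0x0))) (.node 46418 (.leaf 0xe0a0002) (.node 46419 (.leaf 0x0) (.leaf 0x0))))) (.node 46425 (.node 46422 (.node 46421 (.leaf 0xb0f0a0003) (.leaf 0x40205050206040007)) (.node 46423 (.leaf 0x0) (.node 46424 (.leaf 0xb0a0a0003) (.leaf 0x0)))) (.node 46428 (.node 46426 (.leaf 0x40807030401030007) (.node 46427 (.leaf 0x0) (.leaf 0xb0f0002))) (.node 46429 (.leaf 0x0) (.node 46430 (.leaf 0xb55c00b558) (.leaf 0xb0f0002))))))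

def argWS_4115 : Store := (.node 46442 (.node 46436 (.node 46433 (.node 46432 (.leaf 0x0) (.leaf 0xf0a0a0003)) (.node 46434 (.leaf 0x0) (.node 46435 (.leaf 0x0) (.leaf 0x902010308000703040103000b)))) (.node 46439 (.node 46437 (.leaf 0x0) (.node 46438 (.leaf 0xe0d0002) (.leaf 0x0))) (.node 46440 (.leaf 0xe0a0a0003) (.node 46441 (.leaf 0xe0a0a0003) (.leaf 0xb56800b567))))) (.node 46448 (.node 46445 (.node 46443 (.leaf 0xa0f0b0003) (.node 46444 (.leaf 0x0) (.leaf 0x90306030500040802040105000c))) (.node 46446 (.leaf 0x0) (.node 46447 (.leaf 0xf0001) (.leaf 0xa0f0002)))) (.node 46451 (.node 46449 (.leaf 0xf0b0b0a0a0005) (.node 46450 (.leaf 0xb0f0002) (.leaf 0xb0001))) (.node 46452 (.leaf 0xb57200b571) (.node 46453 (.leaf 0xb0b0a0a0004) (.leaf 0x0))))))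

def argWS_4116 : Store := (.node 46431 argWS_4114 argWS_4115)

def argWS_4117 : Store := (.node 46409 argWS_4113 argWS_4116)

def argWS_4118 : Store := (.node 46465 (.node 46459 (.node 46456 (.node 46455 (.leaf 0xd0b0002) (.leaf 0x0)) (.node 46457 (.leaf 0x0) (.node 46458 (.leaf 0xf0a0a0003) (.leaf 0xb0b0002)))) (.node 46462 (.node 46460 (.leaf 0xb0f0002) (.node 46461 (.leaf 0xe0d0002) (.leaf 0x20900030306040007))) (.node 46463 (.leaf 0x0) (.node 46464 (.leaf 0xf0b0b0a0004) (.leaf 0x0))))) (.node 46470 (.node 46467 (.node 46466 (.leaf 0xb58000b57c) (.leaf 0xf0b0b0003)) (.node 46468 (.leaf 0x0) (.node 46469 (.leaf 0xf0b0b0a0a0005) (.leaf 0x0)))) (.node 46473 (.node 46471 (.leaf 0x0) (.node 46472 (.leaf 0x3040601050002000703040103000d) (.leaf 0x0))) (.node 46474 (.leaf 0xa0f0002) (.node 46475 (.leaf 0x0) (.leaf 0xb0b0002))))))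

def argWS_4119 : Store := (.node 46487 (.node 46481 (.node 46478 (.node 46477 (.leaf 0x701010400050802040105000b) (.leaf 0x0)) (.node 46479 (.leaf 0x0) (.node 46480 (.leaf 0xb58e00b58b) (.leaf 0xa0f0b0b0004)))) (.node 46484 (.node 46482 (.leaf 0x0) (.node 46483 (.leaf 0xb0f0a0003) (.leaf 0x0))) (.node 46485 (.leaf 0xb0a0002) (.node 46486 (.leaf 0xf0001) (.leaf 0xd0001))))) (.node 46493 (.node 46490 (.node 46488 (.leaf 0x702000003010202000701000b) (.node 46489 (.leaf 0x0) (.leaf 0xb0f0002))) (.node 46491 (.leaf 0x0) (.node 46492 (.leaf 0xb59a00b596) (.leaf 0xd0001)))) (.node 46496 (.node 46494 (.leaf 0x0) (.node 46495 (.leaf 0xf0b0b0a0004) (.leaf 0x0))) (.node 46497 (.leaf 0x0) (.node 46498 (.leaf 0xe0001) (.leaf 0xe0a0002))))))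

def argWS_4120 : Store := (.node 46476 argWS_4118 argWS_4119)

def argWS_4121 : Store := (.node 46510 (.node 46504 (.node 46501 (.node 46500 (.leaf 0xb5a200352b) (.leaf 0x0)) (.node 46502 (.leaf 0xb0a0a0003) (.node 46503 (.leaf 0x0) (.leaf 0x0)))) (.node 46507 (.node 46505 (.leaf 0xb0f0a0003) (.node 46506 (.leaf 0xa0001) (.leaf 0xb5a900b5a8))) (.node 46508 (.leaf 0x60401010908050202000701000c) (.node 46509 (.leaf 0x0) (.leaf 0xd0b0b0003))))) (.node 46515 (.node 46512 (.node 46511 (.leaf 0x0) (.leaf 0xa0f0b0003)) (.node 46513 (.leaf 0x0) (.node 46514 (.leaf 0x0) (.leaf 0x90000000300000202000701000c)))) (.node 46518 (.node 46516 (.leaf 0x0) (.node 46517 (.leaf 0xa0f0b0003) (.leaf 0x0))) (.node 46519 (.leaf 0x20103010904020802040105000c) (.node 46520 (.leaf 0x0) (.leaf 0xf0a0a0003))))))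

def argWS_4122 : Store := (.node 46532 (.node 46526 (.node 46523 (.node 46522 (.leaf 0x0) (.leaf 0xb0f0002)) (.node 46524 (.leaf 0xb5ba00b5b9) (.node 46525 (.leaf 0xf0b0b0003) (.leaf 0x0)))) (.node 46529 (.node 46527 (.leaf 0x6040007030401030008) (.node 46528 (.leaf 0x0) (.leaf 0xb0f0a0003))) (.node 46530 (.leaf 0xb0b0a0a0004) (.node 46531 (.leaf 0x200020603000703040103000b) (.leaf 0x0))))) (.node 46538 (.node 46535 (.node 46533 (.leaf 0xb0b0a0a0004) (.node 46534 (.leaf 0x0) (.leaf 0x2000908050202000701000a))) (.node 46536 (.leaf 0x0) (.node 46537 (.leaf 0xf0b0002) (.leaf 0x0)))) (.node 46541 (.node 46539 (.leaf 0xb5c900b5c5) (.node 46540 (.leaf 0x5090000090005) (.leaf 0x0))) (.node 46542 (.leaf 0xb0b0002) (.node 46543 (.leaf 0x0) (.leaf 0xf0b0a0a0004))))))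

def argWS_4123 : Store := (.node 46521 argWS_4121 argWS_4122)

def argWS_4124 : Store := (.node 46499 argWS_4120 argWS_4123)

def argWS_4125 : Store := (.node 46454 argWS_4117 argWS_4124)

def argWS_4126 : Store := (.node 46364 argWS_4110 argWS_4125)

def argWS_4127 : Store := (.node 46555 (.node 46549 (.node 46546 (.node 46545 (.leaf 0x0) (.leaf 0x0)) (.node 46547 (.leaf 0xd0001) (.node 46548 (.leaf 0xf0001) (.leaf 0xa0f0b0003)))) (.node 46552 (.node 46550 (.leaf 0xb0a0a0003) (.node 46551 (.leaf 0xd0001) (.leaf 0xb5d600b5d5))) (.node 46553 (.leaf 0x10400070206000007) (.node 46554 (.leaf 0x0) (.leaf 0xb0b0a0003))))) (.node 46560 (.node 46557 (.node 46556 (.leaf 0x0) (.leaf 0xa0a0002)) (.node 46558 (.leaf 0x0) (.node 46559 (.leaf 0x0) (.leaf 0x2060102020900000008)))) (.node 46563 (.node 46561 (.leaf 0x0) (.node 46562 (.leaf 0xb0001) (.leaf 0x0))) (.node 46564 (.leaf 0x406010500020006) (.node 46565 (.leaf 0x0) (.leaf 0xb0a0002))))))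

def argWS_4128 : Store := (.node 46577 (.node 46571 (.node 46568 (.node 46567 (.leaf 0x0) (.leaf 0xb5e6)) (.node 46569 (.leaf 0xe0001) (.node 46570 (.leaf 0x0) (.leaf 0xf0a0a0003)))) (.node 46574 (.node 46572 (.leaf 0x0) (.node 46573 (.leaf 0x0) (.leaf 0xa0001))) (.node 46575 (.leaf 0x20000070209020802040105000c) (.node 46576 (.leaf 0x0) (.leaf 0x0))))) (.node 46583 (.node 46580 (.node 46578 (.leaf 0x1080007030401030008) (.node 46579 (.leaf 0x0) (.leaf 0xf0001))) (.node 46581 (.leaf 0x0) (.node 46582 (.leaf 0xb5f400b5f0) (.leaf 0x2020006020702010202000701000d)))) (.node 46586 (.node 46584 (.leaf 0x0) (.node 46585 (.leaf 0xb0f0a0003) (.leaf 0x0))) (.node 46587 (.leaf 0xf0a0002) (.node 46588 (.leaf 0x0) (.leaf 0x0))))))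

def argWS_4129 : Store := (.node 46566 argWS_4127 argWS_4128)

def argWS_4130 : Store := (.node 46600 (.node 46594 (.node 46591 (.node 46590 (.leaf 0xe0001) (.leaf 0x6010201010703060008)) (.node 46592 (.leaf 0x0) (.node 46593 (.leaf 0xa0001) (.leaf 0x0)))) (.node 46597 (.node 46595 (.leaf 0xb601) (.node 46596 (.leaf 0xe0d0002) (.leaf 0x0))) (.node 46598 (.leaf 0x1020206030500040008) (.node 46599 (.leaf 0x0) (.leaf 0xf0b0b0003))))) (.node 46605 (.node 46602 (.node 46601 (.leaf 0x2090206020802040105000a) (.leaf 0x0)) (.node 46603 (.leaf 0xe0a0002) (.node 46604 (.leaf 0x0) (.leaf 0xf0b0a0a0004)))) (.node 46608 (.node 46606 (.leaf 0xb60c00b60b) (.node 46607 (.leaf 0xd0b0002) (.leaf 0x0))) (.node 46609 (.leaf 0xa0f0b0b0004) (.node 46610 (.leaf 0x0) (.leaf 0x0))))))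

def argWS_4131 : Store := (.node 46622 (.node 46616 (.node 46613 (.node 46612 (.leaf 0xe0a0a0003) (.leaf 0xf0b0a0a0004)) (.node 46614 (.leaf 0x4080703040103000a) (.node 46615 (.leaf 0x0) (.leaf 0xa0f0b0003)))) (.node 46619 (.node 46617 (.leaf 0x0) (.node 46618 (.leaf 0xb618005973) (.leaf 0xf0b0a0003))) (.node 46620 (.leaf 0x0) (.node 46621 (.leaf 0xb0f0a0a0004) (.leaf 0x0))))) (.node 46628 (.node 46625 (.node 46623 (.leaf 0x0) (.node 46624 (.leaf 0xe0a0002) (.leaf 0xe0a0002))) (.node 46626 (.leaf 0x90002000003010802040105000c) (.node 46627 (.leaf 0x0) (.leaf 0x0)))) (.node 46631 (.node 46629 (.leaf 0xb62300b620) (.node 46630 (.leaf 0xa0001) (.leaf 0x0))) (.node 46632 (.leaf 0xb0b0002) (.node 46633 (.leaf 0x0) (.leaf 0x0))))))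

def argWS_4132 : Store := (.node 46611 argWS_4130 argWS_4131)

def argWS_4133 : Store := (.node 46589 argWS_4129 argWS_4132)

def argWS_4134 : Store := (.node 46645 (.node 46639 (.node 46636 (.node 46635 (.leaf 0x907000400050802040105000b) (.leaf 0x0)) (.node 46637 (.leaf 0xb0f0a0a0004) (.node 46638 (.leaf 0x0) (.leaf 0x103010901090202000701000b)))) (.node 46642 (.node 46640 (.leaf 0x0) (.node 46641 (.leaf 0xf0a0a0003) (.leaf 0x0))) (.node 46643 (.leaf 0xf0001) (.node 46644 (.leaf 0xb63200b631) (.leaf 0xf0b0a0a0004))))) (.node 46650 (.node 46647 (.node 46646 (.leaf 0x0) (.leaf 0x400020703000703040103000b)) (.node 46648 (.leaf 0x0) (.node 46649 (.leaf 0xf0b0b0a0a0005) (.leaf 0xb0f0a0a0004)))) (.node 46653 (.node 46651 (.leaf 0xe0a0002) (.node 46652 (.leaf 0xd0b0b0003) (.leaf 0xb63b00b63a))) (.node 46654 (.leaf 0xd0b0b0003) (.node 46655 (.leaf 0x0) (.leaf 0xf0a0002))))))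

def argWS_4135 : Store := (.node 46667 (.node 46661 (.node 46658 (.node 46657 (.leaf 0x0) (.leaf 0x0)) (.node 46659 (.leaf 0xb0a0f0003) (.node 46660 (.leaf 0x2ae9) (.leaf 0xf0001)))) (.node 46664 (.node 46662 (.leaf 0x0) (.node 46663 (.leaf 0xf0b0b0003) (.leaf 0x0))) (.node 46665 (.leaf 0x0) (.node 46666 (.leaf 0xf0b0b0003) (.leaf 0x2010309080600000703040103000d))))) (.node 46673 (.node 46670 (.node 46668 (.leaf 0x0) (.node 46669 (.leaf 0xb0a0f0003) (.leaf 0x0))) (.node 46671 (.leaf 0xb64d) (.node 46672 (.leaf 0xf0b0b0a0a0005) (.leaf 0x0)))) (.node 46676 (.node 46674 (.leaf 0xf0b0b0a0004) (.node 46675 (.leaf 0x0) (.leaf 0x0))) (.node 46677 (.leaf 0x90104000408010802040105000c) (.node 46678 (.leaf 0x0) (.leaf 0xb0f0002))))))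

def argWS_4136 : Store := (.node 46656 argWS_4134 argWS_4135)

def argWS_4137 : Store := (.node 46690 (.node 46684 (.node 46681 (.node 46680 (.leaf 0x0) (.leaf 0xb0a0a0003)) (.node 46682 (.leaf 0xa0f0b0003) (.node 46683 (.leaf 0xb65900b658) (.leaf 0xb0a0002)))) (.node 46687 (.node 46685 (.leaf 0x0) (.node 46686 (.leaf 0x1040006030500040008) (.leaf 0x0))) (.node 46688 (.leaf 0xf0b0b0003) (.node 46689 (.leaf 0x204030900090802040105000b) (.leaf 0x0))))) (.node 46695 (.node 46692 (.node 46691 (.leaf 0xf0001) (.leaf 0x0)) (.node 46693 (.leaf 0xe0a0a0003) (.node 46694 (.leaf 0xf0b0002) (.leaf 0xb66500b664)))) (.node 46698 (.node 46696 (.leaf 0xf0b0b0003) (.node 46697 (.leaf 0x0) (.leaf 0xd0001))) (.node 46699 (.leaf 0x0) (.node 46700 (.leaf 0x0) (.leaf 0xf0b0b0003))))))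

def argWS_4138 : Store := (.node 46712 (.node 46706 (.node 46703 (.node 46702 (.leaf 0x6020904020202000701000a) (.leaf 0x0)) (.node 46704 (.leaf 0xb0f0a0a0004) (.node 46705 (.leaf 0x0) (.leaf 0xb670)))) (.node 46709 (.node 46707 (.leaf 0x0) (.node 46708 (.leaf 0xb0001) (.leaf 0x0))) (.node 46710 (.leaf 0x0) (.node 46711 (.leaf 0xb0a0002) (.leaf 0xa0001))))) (.node 46718 (.node 46715 (.node 46713 (.leaf 0x907070306000703040103000b) (.node 46714 (.leaf 0x0) (.leaf 0xd0001))) (.node 46716 (.leaf 0x0) (.node 46717 (.leaf 0xb67b00b677) (.leaf 0xd0b0b0003)))) (.node 46721 (.node 46719 (.leaf 0x0) (.node 46720 (.leaf 0xa0f0b0b0004) (.leaf 0x0))) (.node 46722 (.leaf 0x0) (.node 46723 (.leaf 0xd0001) (.leaf 0x7000000030306040008))))))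

def argWS_4139 : Store := (.node 46701 argWS_4137 argWS_4138)

def argWS_4140 : Store := (.node 46679 argWS_4136 argWS_4139)

def argWS_4141 : Store := (.node 46634 argWS_4133 argWS_4140)

def argWS_4142 : Store := (.node 46735 (.node 46729 (.node 46726 (.node 46725 (.leaf 0x0) (.leaf 0xf0a0002)) (.node 46727 (.leaf 0x0) (.node 46728 (.leaf 0xb686) (.leaf 0xf0b0002)))) (.node 46732 (.node 46730 (.leaf 0x0) (.node 46731 (.leaf 0xb0f0a0a0004) (.leaf 0x0))) (.node 46733 (.leaf 0x0) (.node 46734 (.leaf 0xd0001) (.leaf 0xb64e))))) (.node 46740 (.node 46737 (.node 46736 (.leaf 0xd0b0002) (.leaf 0x0)) (.node 46738 (.leaf 0x9020804000202000701000a) (.node 46739 (.leaf 0x0) (.leaf 0xb0f0a0a0004)))) (.node 46743 (.node 46741 (.leaf 0xe0001) (.node 46742 (.leaf 0x40003080004) (.leaf 0x0))) (.node 46744 (.leaf 0xa0001) (.node 46745 (.leaf 0x0) (.leaf 0xa0001))))))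

def argWS_4143 : Store := (.node 46757 (.node 46751 (.node 46748 (.node 46747 (.leaf 0xb69900b698) (.leaf 0x3050206040202000701000b)) (.node 46749 (.leaf 0x0) (.node 46750 (.leaf 0xb0f0002) (.leaf 0x0)))) (.node 46754 (.node 46752 (.leaf 0xe0001) (.node 46753 (.leaf 0x0) (.leaf 0x0))) (.node 46755 (.leaf 0x80300070206000802040105000c) (.node 46756 (.leaf 0x0) (.leaf 0xf0a0002))))) (.node 46763 (.node 46760 (.node 46758 (.leaf 0x0) (.node 46759 (.leaf 0x10301020901060802040105000c) (.leaf 0x0))) (.node 46761 (.leaf 0xb0f0a0a0004) (.node 46762 (.leaf 0x0) (.leaf 0xb0b0002)))) (.node 46766 (.node 46764 (.leaf 0xb6aa00b6a9) (.node 46765 (.leaf 0xb0a0002) (.leaf 0x0))) (.node 46767 (.leaf 0x903000400050006) (.node 46768 (.leaf 0x0) (.leaf 0xa0a0002))))))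

def argWS_4144 : Store := (.node 46746 argWS_4142 argWS_4143)

def argWS_4145 : Store := (.node 46780 (.node 46774 (.node 46771 (.node 46770 (.leaf 0x50201010908050802040105000c) (.leaf 0x0)) (.node 46772 (.leaf 0xf0a0a0003) (.node 46773 (.leaf 0x0) (.leaf 0xb6b4)))) (.node 46777 (.node 46775 (.leaf 0x503070209020202000701000b) (.node 46776 (.leaf 0x0) (.leaf 0xf0b0b0a0a0005))) (.node 46778 (.leaf 0x0) (.node 46779 (.leaf 0xa0001) (.leaf 0x0))))) (.node 46785 (.node 46782 (.node 46781 (.leaf 0x0) (.leaf 0xd0b0002)) (.node 46783 (.leaf 0x40300020703000703040103000c) (.node 46784 (.leaf 0x0) (.leaf 0xa0a0002)))) (.node 46788 (.node 46786 (.leaf 0x0) (.node 46787 (.leaf 0x90201070206000202000701000c) (.leaf 0x0))) (.node 46789 (.leaf 0xf0b0b0a0a0005) (.node 46790 (.leaf 0x0) (.leaf 0xb6c500b6c1))))))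

def argWS_4146 : Store := (.node 46802 (.node 46796 (.node 46793 (.node 46792 (.leaf 0xf0b0b0003) (.leaf 0x0)) (.node 46794 (.leaf 0x0) (.node 46795 (.leaf 0xa0f0b0003) (.leaf 0xb0b0a0a0004)))) (.node 46799 (.node 46797 (.leaf 0xf0b0b0a0a0005) (.node 46798 (.leaf 0x90401070306000703040103000c) (.leaf 0x0))) (.node 46800 (.leaf 0xd0b0b0003) (.node 46801 (.leaf 0x0) (.leaf 0x8000406010500020202000701000d))))) (.node 46808 (.node 46805 (.node 46803 (.leaf 0x0) (.node 46804 (.leaf 0xf0b0a0003) (.leaf 0x0))) (.node 46806 (.leaf 0xb6d400b6d0) (.node 46807 (.leaf 0x9030006030500040202000701000d) (.leaf 0x0)))) (.node 46811 (.node 46809 (.leaf 0xf0b0a0003) (.node 46810 (.leaf 0x0) (.leaf 0xf0001))) (.node 46812 (.leaf 0x0) (.node 46813 (.leaf 0x0) (.leaf 0x20206010500020202000701000c))))))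

def argWS_4147 : Store := (.node 46791 argWS_4145 argWS_4146)

def argWS_4148 : Store := (.node 46769 argWS_4144 argWS_4147)

def argWS_4149 : Store := (.node 46825 (.node 46819 (.node 46816 (.node 46815 (.leaf 0x0) (.leaf 0xa0a0002)) (.node 46817 (.leaf 0x0) (.node 46818 (.leaf 0xb6e0002bad) (.leaf 0xe0d0002)))) (.node 46822 (.node 46820 (.leaf 0x0) (.node 46821 (.leaf 0xd0b0b0003) (.leaf 0x0))) (.node 46823 (.leaf 0x0) (.node 46824 (.leaf 0xb0001) (.leaf 0xb0001))))) (.node 46830 (.node 46827 (.node 46826 (.leaf 0xb6e8) (.leaf 0xa0f0002)) (.node 46828 (.leaf 0x0) (.node 46829 (.leaf 0x705020202010802040105000b) (.leaf 0x0)))) (.node 46833 (.node 46831 (.leaf 0xb0b0a0003) (.node 46832 (.leaf 0x1090309080600000703040103000d) (.leaf 0x0))) (.node 46834 (.leaf 0xe0d0002) (.node 46835 (.leaf 0x0) (.leaf 0x2010901060802040105000a))))))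

def argWS_4150 : Store := (.node 46847 (.node 46841 (.node 46838 (.node 46837 (.leaf 0x0) (.leaf 0xa0a0002)) (.node 46839 (.leaf 0x0) (.node 46840 (.leaf 0xf0a0a0003) (.leaf 0xb6f700b6f6)))) (.node 46844 (.node 46842 (.leaf 0xb0f0002) (.node 46843 (.leaf 0x0) (.leaf 0xb0b0a0003))) (.node 46845 (.leaf 0x0) (.node 46846 (.leaf 0x0) (.leaf 0xf0b0002))))) (.node 46853 (.node 46850 (.node 46848 (.leaf 0xe0001) (.node 46849 (.leaf 0x201070306000703040103000b) (.leaf 0x0))) (.node 46851 (.leaf 0xb0001) (.node 46852 (.leaf 0x0) (.leaf 0xb703)))) (.node 46856 (.node 46854 (.leaf 0xf0b0002) (.node 46855 (.leaf 0x0) (.leaf 0xa0f0b0003))) (.node 46857 (.leaf 0x0) (.node 46858 (.leaf 0x0) (.leaf 0xd0b0b0003))))))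

def argWS_4151 : Store := (.node 46836 argWS_4149 argWS_4150)

def argWS_4152 : Store := (.node 46870 (.node 46864 (.node 46861 (.node 46860 (.leaf 0xb0a0a0003) (.leaf 0xf0a0a0003)) (.node 46862 (.leaf 0xb70c00b70b) (.node 46863 (.leaf 0xa0a0002) (.leaf 0x0)))) (.node 46867 (.node 46865 (.leaf 0x50300020804000202000701000d) (.node 46866 (.leaf 0x0) (.leaf 0xb0a0002))) (.node 46868 (.leaf 0xd0001) (.node 46869 (.leaf 0xf0b0a0003) (.leaf 0xb0a0002))))) (.node 46876 (.node 46873 (.node 46871 (.leaf 0xb715004dbb) (.node 46872 (.leaf 0xb0b0a0003) (.leaf 0x0))) (.node 46874 (.leaf 0xb0a0f0003) (.node 46875 (.leaf 0x0) (.leaf 0x0)))) (.node 46879 (.node 46877 (.leaf 0xf0a0a0003) (.node 46878 (.leaf 0x60002) (.leaf 0x0))) (.node 46880 (.leaf 0xb0a0f0003) (.node 46881 (.leaf 0x0) (.leaf 0xb0b0a0003))))))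

def argWS_4153 : Store := (.node 46893 (.node 46887 (.node 46884 (.node 46883 (.leaf 0xb72100b720) (.leaf 0xb0b0a0003)) (.node 46885 (.leaf 0x0) (.node 46886 (.leaf 0x0) (.leaf 0x1090206020802040105000a)))) (.node 46890 (.node 46888 (.leaf 0x0) (.node 46889 (.leaf 0xe0d0002) (.leaf 0x0))) (.node 46891 (.leaf 0xa0f0b0003) (.node 46892 (.leaf 0xa0001) (.leaf 0xb72b))))) (.node 46899 (.node 46896 (.node 46894 (.leaf 0x602050206040006) (.node 46895 (.leaf 0x0) (.leaf 0xb0001))) (.node 46897 (.leaf 0x0) (.node 46898 (.leaf 0xd0001) (.leaf 0x0)))) (.node 46902 (.node 46900 (.leaf 0x0) (.node 46901 (.leaf 0x305000408010006) (.leaf 0x0))) (.node 46903 (.leaf 0xf0b0a0a0004) (.node 46904 (.leaf 0x0) (.leaf 0x80004020106060802040105000c))))))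

def argWS_4154 : Store := (.node 46882 argWS_4152 argWS_4153)

def argWS_4155 : Store := (.node 46859 argWS_4151 argWS_4154)

def argWS_4156 : Store := (.node 46814 argWS_4148 argWS_4155)

def argWS_4157 : Store := (.node 46724 argWS_4141 argWS_4156)

def argWS_4158 : Store := (.node 46544 argWS_4126 argWS_4157)

def argWS_4159 : Store := (.node 46916 (.node 46910 (.node 46907 (.node 46906 (.leaf 0x0) (.leaf 0xe0a0002)) (.node 46908 (.leaf 0x0) (.node 46909 (.leaf 0xb73b) (.leaf 0xe0001)))) (.node 46913 (.node 46911 (.leaf 0x0) (.node 46912 (.leaf 0xb0001) (.leaf 0x0))) (.node 46914 (.leaf 0xb0b0a0003) (.node 46915 (.leaf 0xb0f0002) (.leaf 0xb74200b741))))) (.node 46921 (.node 46918 (.node 46917 (.leaf 0xf0b0a0003) (.leaf 0x0)) (.node 46919 (.leaf 0xb0001) (.node 46920 (.leaf 0x0) (.leaf 0x0)))) (.node 46924 (.node 46922 (.leaf 0x10700090206020802040105000c) (.node 46923 (.leaf 0x0) (.leaf 0xb0b0a0003))) (.node 46925 (.leaf 0x0) (.node 46926 (.leaf 0xb74c)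 (.leaf 0xf0b0a0003))))))

def argWS_4160 : Store := (.node 46938 (.node 46932 (.node 46929 (.node 46928 (.leaf 0x0) (.leaf 0xb0f0a0003)) (.node 46930 (.leaf 0x0) (.node 46931 (.leaf 0x0) (.leaf 0xb0f0002)))) (.node 46935 (.node 46933 (.leaf 0x9000408010202000701000a) (.node 46934 (.leaf 0x0) (.leaf 0xe0a0002))) (.node 46936 (.leaf 0x0) (.node 46937 (.leaf 0x36ef00b757) (.leaf 0xf0001))))) (.node 46944 (.node 46941 (.node 46939 (.leaf 0x0) (.node 46940 (.leaf 0xf0001) (.leaf 0x0))) (.node 46942 (.leaf 0xe0001) (.node 46943 (.leaf 0xe0001) (.leaf 0x0)))) (.node 46947 (.node 46945 (.leaf 0xb0b0a0a0004) (.node 46946 (.leaf 0xb76000b75f) (.leaf 0xe0a0a0003))) (.node 46948 (.leaf 0x0) (.node 46949 (.leaf 0xe0d0002) (.leaf 0x0))))))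

def argWS_4161 : Store := (.node 46927 argWS_4159 argWS_4160)

def argWS_4162 : Store := (.node 46961 (.node 46955 (.node 46952 (.node 46951 (.leaf 0x0) (.leaf 0x4030703060005)) (.node 46953 (.leaf 0x0) (.node 46954 (.leaf 0xe0d0002) (.leaf 0x0)))) (.node 46958 (.node 46956 (.leaf 0x10205020202010202000701000c) (.node 46957 (.leaf 0x0) (.leaf 0xd0b0002))) (.node 46959 (.leaf 0x0) (.node 46960 (.leaf 0xf0b0a0003) (.leaf 0xb76f00b76e))))) (.node 46966 (.node 46963 (.node 46962 (.leaf 0xb0f0a0003) (.leaf 0x0)) (.node 46964 (.leaf 0x8090805000703040103000b) (.node 46965 (.leaf 0x0) (.leaf 0xd0001)))) (.node 46969 (.node 46967 (.leaf 0xe0001) (.node 46968 (.leaf 0xa0a0002) (.leaf 0x809080502020007010009))) (.node 46970 (.leaf 0x0) (.node 46971 (.leaf 0xa0a0002) (.leaf 0x0))))))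

def argWS_4163 : Store := (.node 46983 (.node 46977 (.node 46974 (.node 46973 (.leaf 0xb77b00b777) (.leaf 0x2050000030000000703040103000d)) (.node 46975 (.leaf 0x0) (.node 46976 (.leaf 0xe0a0002) (.leaf 0x0)))) (.node 46980 (.node 46978 (.leaf 0xe0d0002) (.node 46979 (.leaf 0x0) (.leaf 0x0))) (.node 46981 (.leaf 0xd0001) (.node 46982 (.leaf 0xa0001) (.leaf 0xb785))))) (.node 46989 (.node 46986 (.node 46984 (.leaf 0xb0f0002) (.node 46985 (.leaf 0x0) (.leaf 0x503090806000802040105000c))) (.node 46987 (.leaf 0x0) (.node 46988 (.leaf 0xf0b0a0a0004) (.leaf 0x20407030401030007)))) (.node 46992 (.node 46990 (.leaf 0x0) (.node 46991 (.leaf 0xa0f0002) (.leaf 0x0))) (.node 46993 (.leaf 0x502010900090202000701000b) (.node 46994 (.leaf 0x0) (.leaf 0xa0001))))))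

def argWS_4164 : Store := (.node 46972 argWS_4162 argWS_4163)

def argWS_4165 : Store := (.node 46950 argWS_4161 argWS_4164)

def argWS_4166 : Store := (.node 47006 (.node 47000 (.node 46997 (.node 46996 (.leaf 0x0) (.leaf 0xb0a0a0003)) (.node 46998 (.leaf 0xb79400b793) (.node 46999 (.leaf 0xb0b0002) (.leaf 0x0)))) (.node 47003 (.node 47001 (.leaf 0xf0a0002) (.node 47002 (.leaf 0x0) (.leaf 0x0))) (.node 47004 (.leaf 0xb0a0f0003) (.node 47005 (.leaf 0xa0001) (.leaf 0xb0f0002))))) (.node 47011 (.node 47008 (.node 47007 (.leaf 0xb79d) (.leaf 0x3040102020007010008)) (.node 47009 (.leaf 0x0) (.node 47010 (.leaf 0xd0b0b0003) (.leaf 0x0)))) (.node 47014 (.node 47012 (.leaf 0xb0f0a0a0004) (.node 47013 (.leaf 0x0) (.leaf 0x0))) (.node 47015 (.leaf 0xa0f0002) (.node 47016 (.leaf 0xb0a0f0003) (.leaf 0xf0b0b0a0a0005))))))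

def argWS_4167 : Store := (.node 47028 (.node 47022 (.node 47019 (.node 47018 (.leaf 0xb7a800b7a7) (.leaf 0xd0001)) (.node 47020 (.leaf 0x0) (.node 47021 (.leaf 0xb0a0002) (.leaf 0x0)))) (.node 47025 (.node 47023 (.leaf 0x0) (.node 47024 (.leaf 0xa0f0002) (.leaf 0x9020702010005))) (.node 47026 (.leaf 0x0) (.node 47027 (.leaf 0xb0b0a0003) (.leaf 0x0))))) (.node 47034 (.node 47031 (.node 47029 (.leaf 0xb0b0002) (.node 47030 (.leaf 0xb7b400b7b3) (.leaf 0x30403010102000802040105000c))) (.node 47032 (.leaf 0x0) (.node 47033 (.leaf 0xa0f0002) (.leaf 0x0)))) (.node 47037 (.node 47035 (.leaf 0xf0a0002) (.node 47036 (.leaf 0x0) (.leaf 0x0))) (.node 47038 (.leaf 0xb0b0002) (.node 47039 (.leaf 0xa0a0002) (.leaf 0x2090107020600000703040103000d))))))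

def argWS_4168 : Store := (.node 47017 argWS_4166 argWS_4167)

def argWS_4169 : Store := (.node 47051 (.node 47045 (.node 47042 (.node 47041 (.leaf 0x0) (.leaf 0xf0a0a0003)) (.node 47043 (.leaf 0x0) (.node 47044 (.leaf 0xe0a0a0003) (.leaf 0xb7c300b7c2)))) (.node 47048 (.node 47046 (.leaf 0x809040202020007010009) (.node 47047 (.leaf 0x0) (.leaf 0xb0f0002))) (.node 47049 (.leaf 0x0) (.node 47050 (.leaf 0xb0a0002) (.leaf 0x0))))) (.node 47056 (.node 47053 (.node 47052 (.leaf 0x0) (.leaf 0x303000408010802040105000b)) (.node 47054 (.leaf 0x0) (.node 47055 (.leaf 0xd0001) (.leaf 0x0)))) (.node 47059 (.node 47057 (.leaf 0x20103090806000802040105000c) (.node 47058 (.leaf 0x0) (.leaf 0xb0a0002))) (.node 47060 (.leaf 0x0) (.node 47061 (.leaf 0xe0a0002) (.leaf 0xb7d4))))))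

def argWS_4170 : Store := (.node 47073 (.node 47067 (.node 47064 (.node 47063 (.leaf 0xe0a0a0003) (.leaf 0x0)) (.node 47065 (.leaf 0xe0001) (.node 47066 (.leaf 0x0) (.leaf 0x0)))) (.node 47070 (.node 47068 (.leaf 0xd0001) (.node 47069 (.leaf 0xd0b0b0003) (.leaf 0x6000002020900000008))) (.node 47071 (.leaf 0x0) (.node 47072 (.leaf 0xe0a0a0003) (.leaf 0x0))))) (.node 47079 (.node 47076 (.node 47074 (.leaf 0xb7e0) (.node 47075 (.leaf 0xb0001) (.leaf 0x0))) (.node 47077 (.leaf 0xd0b0b0003) (.node 47078 (.leaf 0x0) (.leaf 0x0)))) (.node 47082 (.node 47080 (.leaf 0xf0b0002) (.node 47081 (.leaf 0xf0b0002) (.leaf 0xb0a0f0003))) (.node 47083 (.leaf 0xb7e900b7e8) (.node 47084 (.leaf 0x50201020901060007) (.leaf 0x0))))))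

def argWS_4171 : Store := (.node 47062 argWS_4169 argWS_4170)

def argWS_4172 : Store := (.node 47040 argWS_4168 argWS_4171)

def argWS_4173 : Store := (.node 46995 argWS_4165 argWS_4172)

def argWS_4174 : Store := (.node 47096 (.node 47090 (.node 47087 (.node 47086 (.leaf 0xb0b0002) (.leaf 0x0)) (.node 47088 (.leaf 0xa0f0b0003) (.node 47089 (.leaf 0x0) (.leaf 0x0)))) (.node 47093 (.node 47091 (.leaf 0xb0b0a0a0004) (.node 47092 (.leaf 0x6010900090802040105000a) (.leaf 0x0))) (.node 47094 (.leaf 0x0) (.node 47095 (.leaf 0x98d700b7f5) (.leaf 0x8010102020900000008))))) (.node 47101 (.node 47098 (.node 47097 (.leaf 0x0) (.leaf 0xf0b0002)) (.node 47099 (.leaf 0x0) (.node 47100 (.leaf 0xa0f0b0003) (.leaf 0x0)))) (.node 47104 (.node 47102 (.leaf 0x0) (.node 47103 (.leaf 0x9030002020900000008) (.leaf 0x0))) (.node 47105 (.leaf 0x0) (.node 47106 (.leaf 0xd0b0002) (.leaf 0x10109000009000703040103000c))))))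

def argWS_4175 : Store := (.node 47118 (.node 47112 (.node 47109 (.node 47108 (.leaf 0x0) (.leaf 0xf0b0a0a0004)) (.node 47110 (.leaf 0x0) (.node 47111 (.leaf 0x15b500b805) (.leaf 0x50105020202010202000701000c)))) (.node 47115 (.node 47113 (.leaf 0x0) (.node 47114 (.leaf 0xf0a0a0003) (.leaf 0x0))) (.node 47116 (.leaf 0xa0f0b0003) (.node 47117 (.leaf 0x0) (.leaf 0x0))))) (.node 47124 (.node 47121 (.node 47119 (.leaf 0x906030500040006) (.node 47120 (.leaf 0x0) (.leaf 0xe0a0a0003))) (.node 47122 (.leaf 0x0) (.node 47123 (.leaf 0x90105020202010007) (.leaf 0x0)))) (.node 47127 (.node 47125 (.leaf 0xb0b0a0a0004) (.node 47126 (.leaf 0x0) (.leaf 0xb81500b811))) (.node 47128 (.leaf 0xe0001) (.node 47129 (.leaf 0x0) (.leaf 0xd0b0002))))))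

def argWS_4176 : Store := (.node 47107 argWS_4174 argWS_4175)

def argWS_4177 : Store := (.node 47141 (.node 47135 (.node 47132 (.node 47131 (.leaf 0x0) (.leaf 0x0)) (.node 47133 (.leaf 0xf0b0002) (.node 47134 (.leaf 0xa0f0b0003) (.leaf 0xb81d0012dc)))) (.node 47138 (.node 47136 (.leaf 0x6020105020202010008) (.node 47137 (.leaf 0x0) (.leaf 0xa0f0b0003))) (.node 47139 (.leaf 0x0) (.node 47140 (.leaf 0xa0a0002) (.leaf 0x0))))) (.node 47146 (.node 47143 (.node 47142 (.leaf 0x0) (.leaf 0xf0b0a0003)) (.node 47144 (.leaf 0xd0b0b0003) (.node 47145 (.leaf 0x40000090206020202000701000c) (.leaf 0x0)))) (.node 47149 (.node 47147 (.leaf 0xf0b0b0a0a0005) (.node 47148 (.leaf 0x0) (.leaf 0xb0f0a0a0004))) (.node 47150 (.leaf 0xb82c00b82b) (.node 47151 (.leaf 0xa0001) (.leaf 0x0))))))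

def argWS_4178 : Store := (.node 47163 (.node 47157 (.node 47154 (.node 47153 (.leaf 0x8000400050802040105000a) (.leaf 0x0)) (.node 47155 (.leaf 0xa0f0b0b0004) (.node 47156 (.leaf 0x9070002020007010008) (.leaf 0x0)))) (.node 47160 (.node 47158 (.leaf 0xb0a0a0003) (.node 47159 (.leaf 0x0) (.leaf 0xb836))) (.node 47161 (.leaf 0x2010306020702010008) (.node 47162 (.leaf 0x0) (.leaf 0xf0b0002))))) (.node 47169 (.node 47166 (.node 47164 (.leaf 0x0) (.node 47165 (.leaf 0xd0b0b0003) (.leaf 0x0))) (.node 47167 (.leaf 0x0) (.node 47168 (.leaf 0xe0001) (.leaf 0xf0b0b0a0004)))) (.node 47172 (.node 47170 (.leaf 0xd0b0002) (.node 47171 (.leaf 0xb84100b840) (.leaf 0xf0001))) (.node 47173 (.leaf 0x0) (.node 47174 (.leaf 0xa0f0b0003) (.leaf 0x0))))))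

def argWS_4179 : Store := (.node 47152 argWS_4177 argWS_4178)

def argWS_4180 : Store := (.node 47130 argWS_4176 argWS_4179)

def argWS_4181 : Store := (.node 47186 (.node 47180 (.node 47177 (.node 47176 (.leaf 0x0) (.leaf 0xa0a0002)) (.node 47178 (.leaf 0xb0b0002) (.node 47179 (.leaf 0xb84900a5cd) (.leaf 0xf0b0b0003)))) (.node 47183 (.node 47181 (.leaf 0x0) (.node 47182 (.leaf 0x9000601050002000703040103000e) (.leaf 0x0))) (.node 47184 (.leaf 0xf0b0a0a0004) (.node 47185 (.leaf 0xb0a0002) (.leaf 0xa0f0002))))) (.node 47191 (.node 47188 (.node 47187 (.leaf 0xb851) (.leaf 0x700090000090202000701000b)) (.node 47189 (.leaf 0x0) (.node 47190 (.leaf 0xb0a0002) (.leaf 0x0)))) (.node 47194 (.node 47192 (.leaf 0xb0b0a0003) (.node 47193 (.leaf 0x0) (.leaf 0x0))) (.node 47195 (.leaf 0xf0b0a0a0004) (.node 47196 (.leaf 0xe0a0002) (.leaf 0xa0f0b0b0004))))))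

def argWS_4182 : Store := (.node 47208 (.node 47202 (.node 47199 (.node 47198 (.leaf 0xb85c00b85b) (.leaf 0x0)) (.node 47200 (.leaf 0xe0001) (.node 47201 (.leaf 0x0) (.leaf 0x0)))) (.node 47205 (.node 47203 (.leaf 0xf0b0b0a0004) (.node 47204 (.leaf 0x901010908050802040105000b) (.leaf 0x0))) (.node 47206 (.leaf 0xe0a0002) (.node 47207 (.leaf 0x0) (.leaf 0x667e00b866))))) (.node 47214 (.node 47211 (.node 47209 (.leaf 0x907050206040802040105000b) (.node 47210 (.leaf 0x0) (.leaf 0xf0b0b0a0004))) (.node 47212 (.leaf 0x0) (.node 47213 (.leaf 0xd0b0b0003) (.leaf 0x0)))) (.node 47217 (.node 47215 (.leaf 0x0) (.node 47216 (.leaf 0xb0001) (.leaf 0xb0a0f0003))) (.node 47218 (.leaf 0x906010904020006) (.node 47219 (.leaf 0x0) (.leaf 0xb0001))))))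

def argWS_4183 : Store := (.node 47197 argWS_4181 argWS_4182)

def argWS_4184 : Store := (.node 47231 (.node 47225 (.node 47222 (.node 47221 (.leaf 0x0) (.leaf 0xb87400b870)) (.node 47223 (.leaf 0x40205070009030802040105000c) (.node 47224 (.leaf 0x0) (.leaf 0xe0001)))) (.node 47228 (.node 47226 (.leaf 0x0) (.node 47227 (.leaf 0xd0b0b0003) (.leaf 0x0))) (.node 47229 (.leaf 0x0) (.node 47230 (.leaf 0xf0001) (.leaf 0xd0b0b0003))))) (.node 47237 (.node 47234 (.node 47232 (.leaf 0x84db00b87e) (.node 47233 (.leaf 0xf0b0b0a0004) (.leaf 0x0))) (.node 47235 (.leaf 0xf0b0a0003) (.node 47236 (.leaf 0x0) (.leaf 0x0)))) (.node 47240 (.node 47238 (.leaf 0xb0f0002) (.node 47239 (.leaf 0xb0f0a0003) (.leaf 0xb0f0a0a0004))) (.node 47241 (.leaf 0xb88700b886) (.node 47242 (.leaf 0x8020002020007010008) (.leaf 0x0))))))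

def argWS_4185 : Store := (.node 47254 (.node 47248 (.node 47245 (.node 47244 (.leaf 0xa0f0b0b0004) (.leaf 0x0)) (.node 47246 (.leaf 0xb0f0a0a0004) (.node 47247 (.leaf 0x0) (.leaf 0x0)))) (.node 47251 (.node 47249 (.leaf 0xa0f0002) (.node 47250 (.leaf 0xe0a0a0003) (.leaf 0xb891))) (.node 47252 (.leaf 0xa0a0002) (.node 47253 (.leaf 0x0) (.leaf 0xa0f0b0003))))) (.node 47260 (.node 47257 (.node 47255 (.leaf 0x0) (.node 47256 (.leaf 0x0) (.leaf 0xb0f0002))) (.node 47258 (.leaf 0x5030507000902000701000a) (.node 47259 (.leaf 0x0) (.leaf 0x0)))) (.node 47263 (.node 47261 (.leaf 0xb89b) (.node 47262 (.leaf 0x206020804000006) (.leaf 0x0))) (.node 47264 (.leaf 0x0) (.node 47265 (.leaf 0xf0b0b0a0a0005) (.leaf 0x0))))))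

def argWS_4186 : Store := (.node 47243 argWS_4184 argWS_4185)

def argWS_4187 : Store := (.node 47220 argWS_4183 argWS_4186)

def argWS_4188 : Store := (.node 47175 argWS_4180 argWS_4187)

def argWS_4189 : Store := (.node 47085 argWS_4173 argWS_4188)

def argWS_4190 : Store := (.node 47277 (.node 47271 (.node 47268 (.node 47267 (.leaf 0x0) (.leaf 0xf0a0a0003)) (.node 47269 (.leaf 0x90006030500040008) (.node 47270 (.leaf 0x0) (.leaf 0x0)))) (.node 47274 (.node 47272 (.leaf 0xe0a0a0003) (.node 47273 (.leaf 0xb8a700b8a6) (.leaf 0xb0f0a0a0004))) (.node 47275 (.leaf 0x0) (.node 47276 (.leaf 0xf0b0b0a0004) (.leaf 0x0))))) (.node 47282 (.node 47279 (.node 47278 (.leaf 0x0) (.leaf 0xf0a0a0003)) (.node 47280 (.leaf 0xf0b0b0003) (.node 47281 (.leaf 0xb8af00b8ae) (.leaf 0x9020902000703040103000a)))) (.node 47285 (.node 47283 (.leaf 0x0) (.node 47284 (.leaf 0xf0a0002) (.leaf 0x0))) (.node 47286 (.leaf 0xb0a0f0003) (.node 47287 (.leaf 0x0) (.leaf 0xf0b0a0a0004))))))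

def argWS_4191 : Store := (.node 47299 (.node 47293 (.node 47290 (.node 47289 (.leaf 0x20103090806000007) (.leaf 0x0)) (.node 47291 (.leaf 0xf0b0b0a0004) (.node 47292 (.leaf 0x0) (.leaf 0x803000900090202000701000b)))) (.node 47296 (.node 47294 (.leaf 0x0) (.node 47295 (.leaf 0x0) (.leaf 0xb8be00b8bb))) (.node 47297 (.leaf 0xf0b0b0a0004) (.node 47298 (.leaf 0x0) (.leaf 0x20005020202010202000701000d))))) (.node 47305 (.node 47302 (.node 47300 (.leaf 0x0) (.node 47301 (.leaf 0xf0001) (.leaf 0xd0001))) (.node 47303 (.leaf 0xf0001) (.node 47304 (.leaf 0xd0001) (.leaf 0x202020900000007)))) (.node 47308 (.node 47306 (.leaf 0x0) (.node 47307 (.leaf 0x0) (.leaf 0xb8ca00b8c7))) (.node 47309 (.leaf 0xb0f0a0003) (.node 47310 (.leaf 0x0) (.leaf 0xe0a0002))))))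

def argWS_4192 : Store := (.node 47288 argWS_4190 argWS_4191)

def argWS_4193 : Store := (.node 47322 (.node 47316 (.node 47313 (.node 47312 (.leaf 0x0) (.leaf 0x0)) (.node 47314 (.leaf 0x70206010500020202000701000c) (.node 47315 (.leaf 0x0) (.leaf 0xd0b0b0003)))) (.node 47319 (.node 47317 (.leaf 0x0) (.node 47318 (.leaf 0xe0001) (.leaf 0xb8d5))) (.node 47320 (.leaf 0xb0f0a0003) (.node 47321 (.leaf 0x0) (.leaf 0xf0b0a0a0004))))) (.node 47327 (.node 47324 (.node 47323 (.leaf 0x0) (.leaf 0x0)) (.node 47325 (.leaf 0xf0a0002) (.node 47326 (.leaf 0x1030000090206020802040105000d) (.leaf 0x0)))) (.node 47330 (.node 47328 (.leaf 0xf0a0a0003) (.node 47329 (.leaf 0x0) (.leaf 0xb8e0))) (.node 47331 (.leaf 0xe0a0a0003) (.node 47332 (.leaf 0x0) (.leaf 0x1020900090802040105000a))))))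

def argWS_4194 : Store := (.node 47344 (.node 47338 (.node 47335 (.node 47334 (.leaf 0x0) (.leaf 0xf0001)) (.node 47336 (.leaf 0x201090109000703040103000b) (.node 47337 (.leaf 0x0) (.leaf 0xf0b0a0a0004)))) (.node 47341 (.node 47339 (.leaf 0x0) (.node 47340 (.leaf 0xa0f0b0b0004) (.leaf 0xb8eb00b8ea))) (.node 47342 (.leaf 0xb0f0a0003) (.node 47343 (.leaf 0x0) (.leaf 0xf0a0002))))) (.node 47350 (.node 47347 (.node 47345 (.leaf 0x0) (.node 47346 (.leaf 0x0) (.leaf 0xa0a0002))) (.node 47348 (.leaf 0xa0001) (.node 47349 (.leaf 0xb8f3) (.leaf 0xa0001)))) (.node 47353 (.node 47351 (.leaf 0x0) (.node 47352 (.leaf 0xe0a0002) (.leaf 0x0))) (.node 47354 (.leaf 0x0) (.node 47355 (.leaf 0x80502020007010008) (.leaf 0x0))))))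

def argWS_4195 : Store := (.node 47333 argWS_4193 argWS_4194)

def argWS_4196 : Store := (.node 47311 argWS_4192 argWS_4195)

def argWS_4197 : Store := (.node 47367 (.node 47361 (.node 47358 (.node 47357 (.leaf 0xe0001) (.leaf 0x0)) (.node 47359 (.leaf 0xac0100b8fd) (.node 47360 (.leaf 0xb0a0002) (.leaf 0x0)))) (.node 47364 (.node 47362 (.leaf 0xf0b0b0a0004) (.node 47363 (.leaf 0x0) (.leaf 0x0))) (.node 47365 (.leaf 0xf0a0002) (.node 47366 (.leaf 0xe0d0002) (.leaf 0xf0a0a0003))))) (.node 47372 (.node 47369 (.node 47368 (.leaf 0xb90600b905) (.leaf 0xf0b0a0a0004)) (.node 47370 (.leaf 0x0) (.node 47371 (.leaf 0xf0b0b0a0a0005) (.leaf 0x0)))) (.node 47375 (.node 47373 (.leaf 0x0) (.node 47374 (.leaf 0xf0001) (.leaf 0x60000020000030703040103000c))) (.node 47376 (.leaf 0x0) (.node 47377 (.leaf 0xf0a0a0003) (.leaf 0x0))))))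

def argWS_4198 : Store := (.node 47389 (.node 47383 (.node 47380 (.node 47379 (.leaf 0xb911) (.leaf 0x0)) (.node 47381 (.leaf 0xa0a0002) (.node 47382 (.leaf 0x0) (.leaf 0x0)))) (.node 47386 (.node 47384 (.leaf 0xa0a0002) (.node 47385 (.leaf 0xd0b0b0003) (.leaf 0xf0a0a0003))) (.node 47387 (.leaf 0xb91900b918) (.node 47388 (.leaf 0xb0f0002) (.leaf 0x0))))) (.node 47395 (.node 47392 (.node 47390 (.leaf 0x0) (.node 47391 (.leaf 0xf0b0002) (.leaf 0xb0f0a0a0004))) (.node 47393 (.leaf 0xb91f) (.node 47394 (.leaf 0x3040106060202000701000a) (.leaf 0x0)))) (.node 47398 (.node 47396 (.leaf 0xf0b0002) (.node 47397 (.leaf 0x0) (.leaf 0xe0d0002))) (.node 47399 (.leaf 0x0) (.node 47400 (.leaf 0x0) (.leaf 0xb0b0002))))))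

def argWS_4199 : Store := (.node 47378 argWS_4197 argWS_4198)

def argWS_4200 : Store := (.node 47412 (.node 47406 (.node 47403 (.node 47402 (.leaf 0x9010401050005) (.leaf 0x0)) (.node 47404 (.leaf 0xb0a0002) (.node 47405 (.leaf 0x0) (.leaf 0x942b00b92c)))) (.node 47409 (.node 47407 (.leaf 0x60201090000090202000701000c) (.node 47408 (.leaf 0x0) (.leaf 0xf0b0b0003))) (.node 47410 (.leaf 0x0) (.node 47411 (.leaf 0xa0f0002) (.leaf 0x0))))) (.node 47417 (.node 47414 (.node 47413 (.leaf 0x0) (.leaf 0x601020102090106000703040103000e)) (.node 47415 (.leaf 0x0) (.node 47416 (.leaf 0xd0b0002) (.leaf 0x0)))) (.node 47420 (.node 47418 (.leaf 0xf0a0a0003) (.node 47419 (.leaf 0xb939) (.leaf 0xb0b0a0003))) (.node 47421 (.leaf 0x0) (.node 47422 (.leaf 0x1070006010500020802040105000d) (.leaf 0x0))))))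

def argWS_4201 : Store := (.node 47434 (.node 47428 (.node 47425 (.node 47424 (.leaf 0xd0b0002) (.leaf 0xf0b0b0a0a0005)) (.node 47426 (.leaf 0xf0b0a0003) (.node 47427 (.leaf 0x605020703000703040103000b) (.leaf 0x0)))) (.node 47431 (.node 47429 (.leaf 0xa0f0b0b0004) (.node 47430 (.leaf 0x0) (.leaf 0xb94500b941))) (.node 47432 (.leaf 0xe0a0002) (.node 47433 (.leaf 0x0) (.leaf 0xb0a0f0003))))) (.node 47440 (.node 47437 (.node 47435 (.leaf 0x0) (.node 47436 (.leaf 0x0) (.leaf 0x105020601050002000703040103000e))) (.node 47438 (.leaf 0x0) (.node 47439 (.leaf 0xb0f0002) (.leaf 0x0)))) (.node 47443 (.node 47441 (.leaf 0xb0001) (.node 47442 (.leaf 0xb95000b94f) (.leaf 0x80200020901060007))) (.node 47444 (.leaf 0x0) (.node 47445 (.leaf 0xf0b0002) (.leaf 0x0))))))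

def argWS_4202 : Store := (.node 47423 argWS_4200 argWS_4201)

def argWS_4203 : Store := (.node 47401 argWS_4199 argWS_4202)

def argWS_4204 : Store := (.node 47356 argWS_4196 argWS_4203)

def argWS_4205 : Store := (.node 47457 (.node 47451 (.node 47448 (.node 47447 (.leaf 0xf0b0b0a0004) (.leaf 0x0)) (.node 47449 (.leaf 0x0) (.node 47450 (.leaf 0xb0f0a0003) (.leaf 0x305070206000006)))) (.node 47454 (.node 47452 (.leaf 0x0) (.node 47453 (.leaf 0xf0a0a0003) (.leaf 0x0))) (.node 47455 (.leaf 0xb95d) (.node 47456 (.leaf 0xf0001) (.leaf 0x0))))) (.node 47462 (.node 47459 (.node 47458 (.leaf 0xa0001) (.leaf 0x0)) (.node 47460 (.leaf 0x0) (.node 47461 (.leaf 0xd0b0b0003) (.leaf 0x20201070306000703040103000c)))) (.node 47465 (.node 47463 (.leaf 0x0) (.node 47464 (.leaf 0xb0b0a0003) (.leaf 0x0))) (.node 47466 (.leaf 0xb968) (.node 47467 (.leaf 0xb0b0a0a0004) (.leaf 0x0))))))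

def argWS_4206 : Store := (.node 47479 (.node 47473 (.node 47470 (.node 47469 (.leaf 0x104010904020802040105000b) (.leaf 0x0)) (.node 47471 (.leaf 0xa0f0b0003) (.node 47472 (.leaf 0xb0a0f0003) (.leaf 0xb0f0002)))) (.node 47476 (.node 47474 (.leaf 0xe0a0a0003) (.node 47475 (.leaf 0xb97100b970) (.leaf 0x400090206020202000701000b))) (.node 47477 (.leaf 0x0) (.node 47478 (.leaf 0xd0b0b0003) (.leaf 0x0))))) (.node 47485 (.node 47482 (.node 47480 (.leaf 0xf0b0b0003) (.node 47481 (.leaf 0x0) (.leaf 0x0))) (.node 47483 (.leaf 0xa0f0b0003) (.node 47484 (.leaf 0xb0f0a0a0004) (.leaf 0x90006030500040802040105000d)))) (.node 47488 (.node 47486 (.leaf 0x0) (.node 47487 (.leaf 0xf0a0a0003) (.leaf 0x0))) (.node 47489 (.leaf 0xb97f00b97b) (.node 47490 (.leaf 0xf0b0a0003) (.leaf 0x0))))))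

def argWS_4207 : Store := (.node 47468 argWS_4205 argWS_4206)

def argWS_4208 : Store := (.node 47502 (.node 47496 (.node 47493 (.node 47492 (.leaf 0x70501070306000703040103000c) (.leaf 0x0)) (.node 47494 (.leaf 0xe0001) (.node 47495 (.leaf 0xf0b0b0003) (.leaf 0x1030009000009000703040103000d)))) (.node 47499 (.node 47497 (.leaf 0x0) (.node 47498 (.leaf 0xb0b0002) (.leaf 0x0))) (.node 47500 (.leaf 0xb98a) (.node 47501 (.leaf 0x90400030306040202000701000c) (.leaf 0x0))))) (.node 47507 (.node 47504 (.node 47503 (.leaf 0xf0001) (.leaf 0x0)) (.node 47505 (.leaf 0xd0001) (.node 47506 (.leaf 0x0) (.leaf 0x0)))) (.node 47510 (.node 47508 (.leaf 0x205020202090000000703040103000e) (.node 47509 (.leaf 0x0) (.leaf 0xb0f0a0003))) (.node 47511 (.leaf 0x0) (.node 47512 (.leaf 0x8030904020802040105000a) (.leaf 0x0))))))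

def argWS_4209 : Store := (.node 47524 (.node 47518 (.node 47515 (.node 47514 (.leaf 0xf0a0a0003) (.leaf 0x0)) (.node 47516 (.leaf 0xf0b0b0a0004) (.node 47517 (.leaf 0xb99b00b99a) (.leaf 0xb0001)))) (.node 47521 (.node 47519 (.leaf 0x0) (.node 47520 (.leaf 0x20105020604000703040103000c) (.leaf 0x0))) (.node 47522 (.leaf 0xf0b0b0a0a0005) (.node 47523 (.leaf 0xb0a0a0003) (.leaf 0xb0001))))) (.node 47530 (.node 47527 (.node 47525 (.leaf 0x60005020202010802040105000c) (.node 47526 (.leaf 0x0) (.leaf 0xa0f0002))) (.node 47528 (.leaf 0x0) (.node 47529 (.leaf 0xb9a700b9a3) (.leaf 0xf0b0a0a0004)))) (.node 47533 (.node 47531 (.leaf 0x0) (.node 47532 (.leaf 0xf0b0b0a0004) (.leaf 0x0))) (.node 47534 (.leaf 0x0) (.node 47535 (.leaf 0xf0b0b0a0004) (.leaf 0x30500000300000007))))))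

def argWS_4210 : Store := (.node 47513 argWS_4208 argWS_4209)

def argWS_4211 : Store := (.node 47491 argWS_4207 argWS_4210)

def argWS_4212 : Store := (.node 47547 (.node 47541 (.node 47538 (.node 47537 (.leaf 0x0) (.leaf 0xb0a0f0003)) (.node 47539 (.leaf 0x0) (.node 47540 (.leaf 0xb9b2) (.leaf 0xb0001)))) (.node 47544 (.node 47542 (.leaf 0x0) (.node 47543 (.leaf 0xa0f0002) (.leaf 0x0))) (.node 47545 (.leaf 0x0) (.node 47546 (.leaf 0xf0b0a0a0004) (.leaf 0xf0a0a0003))))) (.node 47552 (.node 47549 (.node 47548 (.leaf 0x61f800b9ba) (.leaf 0x6020007010005)) (.node 47550 (.leaf 0x0) (.node 47551 (.leaf 0xe0a0a0003) (.leaf 0x0)))) (.node 47555 (.node 47553 (.leaf 0xa0f0b0003) (.node 47554 (.leaf 0x0) (.leaf 0x0))) (.node 47556 (.leaf 0xd0b0002) (.node 47557 (.leaf 0x7000408010802040105000a) (.leaf 0x0))))))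

def argWS_4213 : Store := (.node 47569 (.node 47563 (.node 47560 (.node 47559 (.leaf 0xa0f0002) (.leaf 0x0)) (.node 47561 (.leaf 0xa0f0b0003) (.node 47562 (.leaf 0xb9c800b9c7) (.leaf 0x205020900090006)))) (.node 47566 (.node 47564 (.leaf 0x0) (.node 47565 (.leaf 0xb0a0002) (.leaf 0x0))) (.node 47567 (.leaf 0xa0f0b0b0004) (.node 47568 (.leaf 0x0) (.leaf 0x0))))) (.node 47575 (.node 47572 (.node 47570 (.leaf 0xb0f0002) (.node 47571 (.leaf 0xb9d1) (.leaf 0xf0b0a0a0004))) (.node 47573 (.leaf 0x0) (.node 47574 (.leaf 0xb0b0a0003) (.leaf 0x0)))) (.node 47578 (.node 47576 (.leaf 0x0) (.node 47577 (.leaf 0xb0a0002) (.leaf 0x50301050004))) (.node 47579 (.leaf 0x0) (.node 47580 (.leaf 0xa0a0002) (.leaf 0x0))))))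

def argWS_4214 : Store := (.node 47558 argWS_4212 argWS_4213)

def argWS_4215 : Store := (.node 47592 (.node 47586 (.node 47583 (.node 47582 (.leaf 0xb9dc) (.leaf 0xf0b0b0003)) (.node 47584 (.leaf 0x0) (.node 47585 (.leaf 0xe0a0002) (.leaf 0x0)))) (.node 47589 (.node 47587 (.leaf 0x0) (.node 47588 (.leaf 0xa0f0b0b0004) (.leaf 0xb9e3))) (.node 47590 (.leaf 0xa0001) (.node 47591 (.leaf 0x0) (.leaf 0xf0b0a0003))))) (.node 47598 (.node 47595 (.node 47593 (.leaf 0x0) (.node 47594 (.leaf 0x0) (.leaf 0xb0a0002))) (.node 47596 (.leaf 0x404010904020006) (.node 47597 (.leaf 0x0) (.leaf 0xa0f0002)))) (.node 47601 (.node 47599 (.leaf 0x0) (.node 47600 (.leaf 0x5000000090206020202000701000d) (.leaf 0x0))) (.node 47602 (.leaf 0xb0b0002) (.node 47603 (.leaf 0x0) (.leaf 0xb9f200b9ee))))))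

def argWS_4216 : Store := (.node 47615 (.node 47609 (.node 47606 (.node 47605 (.leaf 0xe0a0002) (.leaf 0x0)) (.node 47607 (.leaf 0x1040002000003010802040105000d) (.node 47608 (.leaf 0x0) (.leaf 0xe0001)))) (.node 47612 (.node 47610 (.leaf 0xb0001) (.node 47611 (.leaf 0xf0a0a0003) (.leaf 0xb9fa00b9f9))) (.node 47613 (.leaf 0x400040400050802040105000b) (.node 47614 (.leaf 0x0) (.leaf 0xa0a0002))))) (.node 47621 (.node 47618 (.node 47616 (.leaf 0x0) (.node 47617 (.leaf 0xd0b0b0003) (.leaf 0x0))) (.node 47619 (.leaf 0x0) (.node 47620 (.leaf 0xf0a0002) (.leaf 0xb0a0f0003)))) (.node 47624 (.node 47622 (.leaf 0xba04) (.node 47623 (.leaf 0x50200090000090202000701000c) (.leaf 0x0))) (.node 47625 (.leaf 0xb0b0a0a0004) (.node 47626 (.leaf 0x0) (.leaf 0xa0001))))))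

def argWS_4217 : Store := (.node 47604 argWS_4215 argWS_4216)

def argWS_4218 : Store := (.node 47581 argWS_4214 argWS_4217)

def argWS_4219 : Store := (.node 47536 argWS_4211 argWS_4218)

def argWS_4220 : Store := (.node 47446 argWS_4204 argWS_4219)

def argWS_4221 : Store := (.node 47266 argWS_4189 argWS_4220)

def argWS_4222 : Store := (.node 46905 argWS_4158 argWS_4221)

def argWS_4223 : Store := (.node 47638 (.node 47632 (.node 47629 (.node 47628 (.leaf 0x0) (.leaf 0x0)) (.node 47630 (.leaf 0xa0a0002) (.node 47631 (.leaf 0xe0d0002) (.leaf 0xe0a0002)))) (.node 47635 (.node 47633 (.leaf 0xba0f00ba0e) (.node 47634 (.leaf 0x9010400030306040802040105000d) (.leaf 0x0))) (.node 47636 (.leaf 0xb0b0002) (.node 47637 (.leaf 0x0) (.leaf 0xf0b0a0003))))) (.node 47643 (.node 47640 (.node 47639 (.leaf 0x0) (.leaf 0x0)) (.node 47641 (.leaf 0xa0f0b0003) (.node 47642 (.leaf 0xb0f0a0a0004) (.leaf 0x506030500040006)))) (.node 47646 (.node 47644 (.leaf 0x0) (.node 47645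 (.leaf 0x0) (.leaf 0xba1c00ba19))) (.node 47647 (.leaf 0x1020102020900000008) (.node 47648 (.leaf 0x0) (.leaf 0xf0a0a0003))))))

def argWS_4224 : Store := (.node 47660 (.node 47654 (.node 47651 (.node 47650 (.leaf 0x0) (.leaf 0xe0d0002)) (.node 47652 (.leaf 0x0) (.node 47653 (.leaf 0x0) (.leaf 0xb56f)))) (.node 47657 (.node 47655 (.leaf 0xd0b0b0003) (.node 47656 (.leaf 0x0) (.leaf 0xd0b0b0003))) (.node 47658 (.leaf 0x0) (.node 47659 (.leaf 0x0) (.leaf 0x20502010703060202000701000c))))) (.node 47666 (.node 47663 (.node 47661 (.leaf 0x0) (.node 47662 (.leaf 0xd0001) (.leaf 0x0))) (.node 47664 (.leaf 0xf0a0a0003) (.node 47665 (.leaf 0xd0b0b0003) (.leaf 0xba3000ba2f)))) (.node 47669 (.node 47667 (.leaf 0xb0b0a0a0004) (.node 47668 (.leaf 0x0) (.leaf 0x80006030500040202000701000c))) (.node 47670 (.leaf 0x0) (.node 47671 (.leaf 0xb0f0a0003) (.leaf 0x304010703060006))))))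

def argWS_4225 : Store := (.node 47649 argWS_4223 argWS_4224)

def argWS_4226 : Store := (.node 47683 (.node 47677 (.node 47674 (.node 47673 (.leaf 0x0) (.leaf 0xe0a0a0003)) (.node 47675 (.leaf 0x0) (.node 47676 (.leaf 0x301020106060202000701000b) (.leaf 0x0)))) (.node 47680 (.node 47678 (.leaf 0xb0f0a0003) (.node 47679 (.leaf 0x0) (.leaf 0xba3e))) (.node 47681 (.leaf 0xe0d0002) (.node 47682 (.leaf 0x0) (.leaf 0x80703060005))))) (.node 47688 (.node 47685 (.node 47684 (.leaf 0x0) (.leaf 0xa0a0002)) (.node 47686 (.leaf 0xb0b0a0a0004) (.node 47687 (.leaf 0x0) (.leaf 0xf0b0a0a0004)))) (.node 47691 (.node 47689 (.leaf 0x600050206040802040105000c) (.node 47690 (.leaf 0x0) (.leaf 0xf0b0002))) (.node 47692 (.leaf 0x0) (.node 47693 (.leaf 0xd0001) (.leaf 0xba4c00ba4b))))))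

def argWS_4227 : Store := (.node 47705 (.node 47699 (.node 47696 (.node 47695 (.leaf 0x901060602020007010009) (.leaf 0x0)) (.node 47697 (.leaf 0xf0001) (.node 47698 (.leaf 0x0) (.leaf 0xb0001)))) (.node 47702 (.node 47700 (.leaf 0x0) (.node 47701 (.leaf 0x0) (.leaf 0x700090206020802040105000b))) (.node 47703 (.leaf 0x0) (.node 47704 (.leaf 0xe0001) (.leaf 0x0))))) (.node 47711 (.node 47708 (.node 47706 (.leaf 0xf0b0b0003) (.node 47707 (.leaf 0xba5900ba58) (.leaf 0x4030900090005))) (.node 47709 (.leaf 0x0) (.node 47710 (.leaf 0xd0b0002) (.leaf 0x0)))) (.node 47714 (.node 47712 (.leaf 0xd0b0b0003) (.node 47713 (.leaf 0x0) (.leaf 0xf0b0a0003))) (.node 47715 (.leaf 0x202020108020401050009) (.node 47716 (.leaf 0x0) (.leaf 0xa0f0b0b0004))))))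

def argWS_4228 : Store := (.node 47694 argWS_4226 argWS_4227)

def argWS_4229 : Store := (.node 47672 argWS_4225 argWS_4228)

def argWS_4230 : Store := (.node 47728 (.node 47722 (.node 47719 (.node 47718 (.leaf 0x0) (.leaf 0x101070209020006)) (.node 47720 (.leaf 0x0) (.node 47721 (.leaf 0xa0f0b0b0004) (.leaf 0x0)))) (.node 47725 (.node 47723 (.leaf 0xba6900ba65) (.node 47724 (.leaf 0xf0b0b0a0a0005) (.leaf 0x0))) (.node 47726 (.leaf 0xf0b0002) (.node 47727 (.leaf 0x0) (.leaf 0x0))))) (.node 47733 (.node 47730 (.node 47729 (.leaf 0xb0b0a0003) (.leaf 0x202020901060202000701000b)) (.node 47731 (.leaf 0x0) (.node 47732 (.leaf 0xa0f0b0003) (.leaf 0x0)))) (.node 47736 (.node 47734 (.leaf 0xf0b0b0003) (.node 47735 (.leaf 0xba7500ba74) (.leaf 0x30106010500020007))) (.node 47737 (.leaf 0x0) (.node 47738 (.leaf 0xb0f0002) (.leaf 0x0))))))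

def argWS_4231 : Store := (.node 47750 (.node 47744 (.node 47741 (.node 47740 (.leaf 0xb0b0a0003) (.leaf 0x0)) (.node 47742 (.leaf 0x0) (.node 47743 (.leaf 0x609040208020401050009) (.leaf 0x0)))) (.node 47747 (.node 47745 (.leaf 0x0) (.node 47746 (.leaf 0xba80) (.leaf 0x40306020702010802040105000c))) (.node 47748 (.leaf 0x0) (.node 47749 (.leaf 0xf0b0a0003) (.leaf 0x0))))) (.node 47756 (.node 47753 (.node 47751 (.leaf 0xe0d0002) (.node 47752 (.leaf 0x0) (.leaf 0x0))) (.node 47754 (.leaf 0x204020900000202000701000b) (.node 47755 (.leaf 0x0) (.leaf 0xa0f0002)))) (.node 47759 (.node 47757 (.leaf 0x0) (.node 47758 (.leaf 0xf0a0002) (.leaf 0xf0b0a0003))) (.node 47760 (.leaf 0xba8e00ba8d) (.node 47761 (.leaf 0xa0a0002) (.leaf 0x0))))))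

def argWS_4232 : Store := (.node 47739 argWS_4230 argWS_4231)

def argWS_4233 : Store := (.node 47773 (.node 47767 (.node 47764 (.node 47763 (.leaf 0x10300050206040202000701000c) (.leaf 0x0)) (.node 47765 (.leaf 0xe0d0002) (.node 47766 (.leaf 0x401090000090802040105000b) (.leaf 0x0)))) (.node 47770 (.node 47768 (.leaf 0xb0a0a0003) (.node 47769 (.leaf 0x0) (.leaf 0x6020009080600000703040103000d))) (.node 47771 (.leaf 0x0) (.node 47772 (.leaf 0x0) (.leaf 0x2000200090206020202000701000d))))) (.node 47778 (.node 47775 (.node 47774 (.leaf 0x0) (.leaf 0x0)) (.node 47776 (.leaf 0xba9e00ba9b) (.node 47777 (.leaf 0xb0f0002) (.leaf 0x0)))) (.node 47781 (.node 47779 (.leaf 0x7000006030500040008) (.node 47780 (.leaf 0x0) (.leaf 0xa0a0002))) (.node 47782 (.leaf 0x50006030500040007) (.node 47783 (.leaf 0x0) (.leaf 0xf0b0b0003))))))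

def argWS_4234 : Store := (.node 47795 (.node 47789 (.node 47786 (.node 47785 (.leaf 0x0) (.leaf 0xb0a0a0003)) (.node 47787 (.leaf 0xd0b0002) (.node 47788 (.leaf 0x0) (.leaf 0xbaab)))) (.node 47792 (.node 47790 (.leaf 0x701010901090202000701000b) (.node 47791 (.leaf 0x0) (.leaf 0xb0a0a0003))) (.node 47793 (.leaf 0x0) (.node 47794 (.leaf 0xb0a0a0003) (.leaf 0x0))))) (.node 47801 (.node 47798 (.node 47796 (.leaf 0xb0b0002) (.node 47797 (.leaf 0x101060602020007010009) (.leaf 0x0))) (.node 47799 (.leaf 0xf0b0a0003) (.node 47800 (.leaf 0x0) (.leaf 0xbab70095a5)))) (.node 47804 (.node 47802 (.leaf 0xb0f0a0a0004) (.node 47803 (.leaf 0x0) (.leaf 0x103000401050006))) (.node 47805 (.leaf 0x0) (.node 47806 (.leaf 0xd0b0b0003) (.leaf 0x3060007030401030008))))))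

def argWS_4235 : Store := (.node 47784 argWS_4233 argWS_4234)

def argWS_4236 : Store := (.node 47762 argWS_4232 argWS_4235)

def argWS_4237 : Store := (.node 47717 argWS_4229 argWS_4236)

def argWS_4238 : Store := (.node 47818 (.node 47812 (.node 47809 (.node 47808 (.leaf 0x0) (.leaf 0xf0b0a0003)) (.node 47810 (.leaf 0x0) (.node 47811 (.leaf 0x0) (.leaf 0xbac2)))) (.node 47815 (.node 47813 (.leaf 0xb0a0002) (.node 47814 (.leaf 0x0) (.leaf 0x305070009030006))) (.node 47816 (.leaf 0x0) (.node 47817 (.leaf 0xb0001) (.leaf 0xb0a0002))))) (.node 47823 (.node 47820 (.node 47819 (.leaf 0x609040202020007010009) (.leaf 0x0)) (.node 47821 (.leaf 0xf0b0a0003) (.node 47822 (.leaf 0x0) (.leaf 0xbacd)))) (.node 47826 (.node 47824 (.leaf 0xa0f0b0003) (.node 47825 (.leaf 0x0) (.leaf 0xa0f0b0003))) (.node 47827 (.leaf 0x0) (.node 47828 (.leaf 0x0) (.leaf 0xb0f0a0003))))))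

def argWS_4239 : Store := (.node 47840 (.node 47834 (.node 47831 (.node 47830 (.leaf 0x702020106060006) (.leaf 0x0)) (.node 47832 (.leaf 0xf0b0b0a0a0005) (.node 47833 (.leaf 0x0) (.leaf 0xe0001)))) (.node 47837 (.node 47835 (.leaf 0xbad900bad8) (.node 47836 (.leaf 0xa0f0002) (.leaf 0x0))) (.node 47838 (.leaf 0xf0a0002) (.node 47839 (.leaf 0x0) (.leaf 0x0))))) (.node 47846 (.node 47843 (.node 47841 (.leaf 0xb0b0a0a0004) (.node 47842 (.leaf 0x207000408010006) (.leaf 0x0))) (.node 47844 (.leaf 0xb0f0a0003) (.node 47845 (.leaf 0x0) (.leaf 0xe0a0002)))) (.node 47849 (.node 47847 (.leaf 0xbae500bae4) (.node 47848 (.leaf 0xf0b0b0003) (.leaf 0x0))) (.node 47850 (.leaf 0xb0b0a0a0004) (.node 47851 (.leaf 0x0) (.leaf 0x0))))))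

def argWS_4240 : Store := (.node 47829 argWS_4238 argWS_4239)

def argWS_4241 : Store := (.node 47863 (.node 47857 (.node 47854 (.node 47853 (.leaf 0x400040005000703040103000b) (.leaf 0x0)) (.node 47855 (.leaf 0x0) (.node 47856 (.leaf 0xd0b0b0003) (.leaf 0xbaef)))) (.node 47860 (.node 47858 (.leaf 0xd0b0b0003) (.node 47859 (.leaf 0x0) (.leaf 0x8050008020401050008))) (.node 47861 (.leaf 0x0) (.node 47862 (.leaf 0xf0b0002) (.leaf 0x1010901090202000701000a))))) (.node 47868 (.node 47865 (.node 47864 (.leaf 0x0) (.leaf 0x0)) (.node 47866 (.leaf 0x2050202000003010802040105000d) (.node 47867 (.leaf 0x0) (.leaf 0xe0d0002)))) (.node 47871 (.node 47869 (.leaf 0x0) (.node 47870 (.leaf 0xbafc00baf8) (.leaf 0xa0001))) (.node 47872 (.leaf 0x0) (.node 47873 (.leaf 0xd0b0002) (.leaf 0x0))))))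

def argWS_4242 : Store := (.node 47885 (.node 47879 (.node 47876 (.node 47875 (.leaf 0x0) (.leaf 0xb0b0002)) (.node 47877 (.leaf 0x20601020703000703040103000c) (.node 47878 (.leaf 0x0) (.leaf 0xb0a0002)))) (.node 47882 (.node 47880 (.leaf 0x0) (.node 47881 (.leaf 0xbb07) (.leaf 0xd0001))) (.node 47883 (.leaf 0x0) (.node 47884 (.leaf 0xb0b0a0a0004) (.leaf 0x0))))) (.node 47891 (.node 47888 (.node 47886 (.leaf 0x0) (.node 47887 (.leaf 0xb0001) (.leaf 0xe0d0002))) (.node 47889 (.leaf 0xb0a0a0003) (.node 47890 (.leaf 0xbb1000bb0f) (.leaf 0xb0a0a0003)))) (.node 47894 (.node 47892 (.leaf 0x0) (.node 47893 (.leaf 0xb0a0a0003) (.leaf 0x0))) (.node 47895 (.leaf 0xa0f0b0003) (.node 47896 (.leaf 0x1020206020702010802040105000d) (.leaf 0x0))))))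

def argWS_4243 : Store := (.node 47874 argWS_4241 argWS_4242)

def argWS_4244 : Store := (.node 47852 argWS_4240 argWS_4243)

def argWS_4245 : Store := (.node 47908 (.node 47902 (.node 47899 (.node 47898 (.leaf 0xb0f0a0a0004) (.leaf 0x0)) (.node 47900 (.leaf 0xbb1a) (.node 47901 (.leaf 0xf0a0a0003) (.leaf 0x0)))) (.node 47905 (.node 47903 (.leaf 0xb0b0a0003) (.node 47904 (.leaf 0x0) (.leaf 0x0))) (.node 47906 (.leaf 0xa0f0b0003) (.node 47907 (.leaf 0xb0f0a0003) (.leaf 0xbb22))))) (.node 47913 (.node 47910 (.node 47909 (.leaf 0xe0a0002) (.leaf 0x0)) (.node 47911 (.leaf 0xb0f0a0003) (.node 47912 (.leaf 0x0) (.leaf 0x0)))) (.node 47916 (.node 47914 (.leaf 0xe0001) (.node 47915 (.leaf 0x5020207030802040105000a) (.leaf 0x0))) (.node 47917 (.leaf 0x0) (.node 47918 (.leaf 0xbb2c) (.leaf 0x5030005000703040103000a))))))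

def argWS_4246 : Store := (.node 47930 (.node 47924 (.node 47921 (.node 47920 (.leaf 0x0) (.leaf 0xa0f0002)) (.node 47922 (.leaf 0x0) (.node 47923 (.leaf 0xa0001) (.leaf 0x0)))) (.node 47927 (.node 47925 (.leaf 0x0) (.node 47926 (.leaf 0xa0f0b0b0004) (.leaf 0xa0f0b0b0004))) (.node 47928 (.leaf 0xbb3600bb35) (.node 47929 (.leaf 0xd0b0b0003) (.leaf 0x0))))) (.node 47936 (.node 47933 (.node 47931 (.leaf 0xa0f0b0b0004) (.node 47932 (.leaf 0x0) (.leaf 0x0))) (.node 47934 (.leaf 0xa0001) (.node 47935 (.leaf 0x30500000300000802040105000c) (.leaf 0x0)))) (.node 47939 (.node 47937 (.leaf 0xb0f0a0003) (.node 47938 (.leaf 0x0) (.leaf 0xb0f0002))) (.node 47940 (.leaf 0xbb4200bb41) (.node 47941 (.leaf 0xe0001) (.leaf 0x0))))))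

def argWS_4247 : Store := (.node 47919 argWS_4245 argWS_4246)

def argWS_4248 : Store := (.node 47953 (.node 47947 (.node 47944 (.node 47943 (.leaf 0xf0b0b0a0a0005) (.leaf 0x0)) (.node 47945 (.leaf 0x0) (.node 47946 (.leaf 0x201090007030401030009) (.leaf 0x0)))) (.node 47950 (.node 47948 (.leaf 0x0) (.node 47949 (.leaf 0xbb4b) (.leaf 0xd0001))) (.node 47951 (.leaf 0x0) (.node 47952 (.leaf 0xa0f0b0b0004) (.leaf 0x0))))) (.node 47958 (.node 47955 (.node 47954 (.leaf 0x0) (.leaf 0xb0b0a0003)) (.node 47956 (.leaf 0x30401010703060202000701000c) (.node 47957 (.leaf 0x0) (.leaf 0xf0b0a0003)))) (.node 47961 (.node 47959 (.leaf 0x0) (.node 47960 (.leaf 0x209030901090202000701000b) (.leaf 0x0))) (.node 47962 (.leaf 0xf0001) (.node 47963 (.leaf 0x0) (.leaf 0xbb5a00bb56))))))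

def argWS_4249 : Store := (.node 47975 (.node 47969 (.node 47966 (.node 47965 (.leaf 0xa0f0002) (.leaf 0x0)) (.node 47967 (.leaf 0xa0f0b0b0004) (.node 47968 (.leaf 0x0) (.leaf 0x0)))) (.node 47972 (.node 47970 (.leaf 0xf0b0a0003) (.node 47971 (.leaf 0xb0a0a0003) (.leaf 0x103000408010006))) (.node 47973 (.leaf 0x0) (.node 47974 (.leaf 0xf0b0002) (.leaf 0x0))))) (.node 47981 (.node 47978 (.node 47976 (.leaf 0xbb6600bb62) (.node 47977 (.leaf 0xb0f0a0a0004) (.leaf 0x0))) (.node 47979 (.leaf 0xb0a0f0003) (.node 47980 (.leaf 0x0) (.leaf 0x0)))) (.node 47984 (.node 47982 (.leaf 0xb0b0002) (.node 47983 (.leaf 0x206000004) (.leaf 0x0))) (.node 47985 (.leaf 0x0) (.node 47986 (.leaf 0xbb70) (.leaf 0x40004090000090202000701000c))))))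

def argWS_4250 : Store := (.node 47964 argWS_4248 argWS_4249)

def argWS_4251 : Store := (.node 47942 argWS_4247 argWS_4250)

def argWS_4252 : Store := (.node 47897 argWS_4244 argWS_4251)

def argWS_4253 : Store := (.node 47807 argWS_4237 argWS_4252)

def argWS_4254 : Store := (.node 47998 (.node 47992 (.node 47989 (.node 47988 (.leaf 0x0) (.leaf 0xe0a0a0003)) (.node 47990 (.leaf 0x0) (.node 47991 (.leaf 0xb0a0002) (.leaf 0x0)))) (.node 47995 (.node 47993 (.leaf 0x0) (.node 47994 (.leaf 0x4020000030703040103000b) (.leaf 0x0))) (.node 47996 (.leaf 0xa0f0b0b0004) (.node 47997 (.leaf 0x0) (.leaf 0x201090106000703040103000b))))) (.node 48003 (.node 48000 (.node 47999 (.leaf 0x0) (.leaf 0xd0b0b0003)) (.node 48001 (.leaf 0x0) (.node 48002 (.leaf 0x7030401030007) (.leaf 0x0)))) (.node 48006 (.node 48004 (.leaf 0xb0a0f0003) (.node 48005 (.leaf 0x0) (.leaf 0xbb8400bb80))) (.node 48007 (.leaf 0xb0f0a0a0004) (.node 48008 (.leaf 0x0) (.leaf 0xb0a0a0003))))))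

def argWS_4255 : Store := (.node 48020 (.node 48014 (.node 48011 (.node 48010 (.leaf 0x0) (.leaf 0x0)) (.node 48012 (.leaf 0xb0b0002) (.node 48013 (.leaf 0xbb8b) (.leaf 0xf0b0b0003)))) (.node 48017 (.node 48015 (.leaf 0x0) (.node 48016 (.leaf 0xe0a0a0003) (.leaf 0x0))) (.node 48018 (.leaf 0x0) (.node 48019 (.leaf 0x4000402020007010008) (.leaf 0x0))))) (.node 48026 (.node 48023 (.node 48021 (.leaf 0xf0b0a0a0004) (.node 48022 (.leaf 0x0) (.leaf 0x40004010908050802040105000c))) (.node 48024 (.leaf 0x0) (.node 48025 (.leaf 0xa0a0002) (.leaf 0x0)))) (.node 48029 (.node 48027 (.leaf 0xb60e00bb99) (.node 48028 (.leaf 0xb0a0002) (.leaf 0x0))) (.node 48030 (.leaf 0x5000207030005) (.node 48031 (.leaf 0x0) (.leaf 0xf0b0b0a0004))))))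

def argWS_4256 : Store := (.node 48009 argWS_4254 argWS_4255)

def argWS_4257 : Store := (.node 48043 (.node 48037 (.node 48034 (.node 48033 (.leaf 0xb0f0002) (.leaf 0xb0a0002)) (.node 48035 (.leaf 0xbba100b36f) (.node 48036 (.leaf 0x605070209020202000701000b) (.leaf 0x0)))) (.node 48040 (.node 48038 (.leaf 0xa0001) (.node 48039 (.leaf 0x0) (.leaf 0xb0a0002))) (.node 48041 (.leaf 0x0) (.node 48042 (.leaf 0x60102010400050007) (.leaf 0x0))))) (.node 48048 (.node 48045 (.node 48044 (.leaf 0xf0b0a0a0004) (.leaf 0x0)) (.node 48046 (.leaf 0xf0001) (.node 48047 (.leaf 0x2060102010606000703040103000d) (.leaf 0x0)))) (.node 48051 (.node 48049 (.leaf 0xb0b0a0a0004) (.node 48050 (.leaf 0x0) (.leaf 0xbbb100bbad))) (.node 48052 (.leaf 0xd0b0002) (.node 48053 (.leaf 0x0) (.leaf 0xa0f0b0b0004))))))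

def argWS_4258 : Store := (.node 48065 (.node 48059 (.node 48056 (.node 48055 (.leaf 0x0) (.leaf 0x0)) (.node 48057 (.leaf 0xb0a0002) (.node 48058 (.leaf 0x604000603050004000703040103000e) (.leaf 0x0)))) (.node 48062 (.node 48060 (.leaf 0xf0001) (.node 48061 (.leaf 0x0) (.leaf 0xbbbc))) (.node 48063 (.leaf 0xd0b0b0003) (.node 48064 (.leaf 0x0) (.leaf 0xf0a0002))))) (.node 48071 (.node 48068 (.node 48066 (.leaf 0x0) (.node 48067 (.leaf 0x0) (.leaf 0xd0b0002))) (.node 48069 (.leaf 0x5020103010102000202000701000d) (.node 48070 (.leaf 0x0) (.leaf 0xf0a0a0003)))) (.node 48074 (.node 48072 (.leaf 0x0) (.node 48073 (.leaf 0xbbc7) (.leaf 0xf0b0b0a0a0005))) (.node 48075 (.leaf 0x0) (.node 48076 (.leaf 0x2040900090802040105000a) (.leaf 0x0))))))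

def argWS_4259 : Store := (.node 48054 argWS_4257 argWS_4258)

def argWS_4260 : Store := (.node 48032 argWS_4256 argWS_4259)

def argWS_4261 : Store := (.node 48088 (.node 48082 (.node 48079 (.node 48078 (.leaf 0xa0f0b0003) (.leaf 0xb0f0002)) (.node 48080 (.leaf 0xb0001) (.node 48081 (.leaf 0x201020007010006) (.leaf 0x0)))) (.node 48085 (.node 48083 (.leaf 0xe0a0a0003) (.node 48084 (.leaf 0x0) (.leaf 0xbbd300bbcf))) (.node 48086 (.leaf 0xb0a0a0003) (.node 48087 (.leaf 0x0) (.leaf 0xf0b0a0a0004))))) (.node 48093 (.node 48090 (.node 48089 (.leaf 0x0) (.leaf 0x0)) (.node 48091 (.leaf 0xf0b0b0a0a0005) (.node 48092 (.leaf 0x802000202090000000703040103000e) (.leaf 0x0)))) (.node 48096 (.node 48094 (.leaf 0xa0f0b0b0004) (.node 48095 (.leaf 0x0) (.leaf 0x7bdf00bbde))) (.node 48097 (.leaf 0xf0b0b0003) (.node 48098 (.leaf 0x0) (.leaf 0xb0b0a0a0004))))))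

def argWS_4262 : Store := (.node 48110 (.node 48104 (.node 48101 (.node 48100 (.leaf 0x0) (.leaf 0x0)) (.node 48102 (.leaf 0xb0001) (.node 48103 (.leaf 0x1010102000005) (.leaf 0x0)))) (.node 48107 (.node 48105 (.leaf 0xb0f0002) (.node 48106 (.leaf 0x0) (.leaf 0xb76200bbe9))) (.node 48108 (.leaf 0xe0a0a0003) (.node 48109 (.leaf 0x0) (.leaf 0xa0001))))) (.node 48116 (.node 48113 (.node 48111 (.leaf 0x0) (.node 48112 (.leaf 0x0) (.leaf 0x60000070206000202000701000c))) (.node 48114 (.leaf 0x0) (.node 48115 (.leaf 0xd0b0b0003) (.leaf 0x0)))) (.node 48119 (.node 48117 (.leaf 0x40000020804000202000701000d) (.node 48118 (.leaf 0x0) (.leaf 0xb0f0a0003))) (.node 48120 (.leaf 0x0) (.node 48121 (.leaf 0xbbf7009151) (.leaf 0xa0f0002))))))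

def argWS_4263 : Store := (.node 48099 argWS_4261 argWS_4262)

def argWS_4264 : Store := (.node 48133 (.node 48127 (.node 48124 (.node 48123 (.leaf 0x0) (.leaf 0x60207030401030007)) (.node 48125 (.leaf 0x0) (.node 48126 (.leaf 0xa0f0b0003) (.leaf 0xb0001)))) (.node 48130 (.node 48128 (.leaf 0x307000206020007010009) (.node 48129 (.leaf 0x0) (.leaf 0xf0b0b0a0a0005))) (.node 48131 (.leaf 0x0) (.node 48132 (.leaf 0xbc02) (.leaf 0xf0001))))) (.node 48138 (.node 48135 (.node 48134 (.leaf 0x0) (.leaf 0xb0b0a0a0004)) (.node 48136 (.leaf 0x0) (.node 48137 (.leaf 0x0) (.leaf 0xf0b0b0a0a0005)))) (.node 48141 (.node 48139 (.leaf 0xb9f7) (.node 48140 (.leaf 0xa0f0002) (.leaf 0x0))) (.node 48142 (.leaf 0x308000703040103000a) (.node 48143 (.leaf 0x0) (.leaf 0xe0001))))))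

def argWS_4265 : Store := (.node 48155 (.node 48149 (.node 48146 (.node 48145 (.leaf 0x307000603050004000703040103000e) (.leaf 0x0)) (.node 48147 (.leaf 0xd0001) (.node 48148 (.leaf 0x0) (.leaf 0x701020804000006)))) (.node 48152 (.node 48150 (.leaf 0x0) (.node 48151 (.leaf 0xd0b0b0003) (.leaf 0x0))) (.node 48153 (.leaf 0x906020702010802040105000b) (.node 48154 (.leaf 0x0) (.leaf 0xf0b0b0003))))) (.node 48161 (.node 48158 (.node 48156 (.leaf 0x0) (.node 48157 (.leaf 0xbc1b00bc17) (.leaf 0xf0b0a0003))) (.node 48159 (.leaf 0x0) (.node 48160 (.leaf 0x6030102020900000202000701000d) (.leaf 0x0)))) (.node 48164 (.node 48162 (.leaf 0xf0b0a0003) (.node 48163 (.leaf 0xf0b0a0a0004) (.leaf 0x5e700b2c5))) (.node 48165 (.leaf 0x80300070206000007) (.node 48166 (.leaf 0x0) (.leaf 0xf0b0b0a0a0005))))))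

def argWS_4266 : Store := (.node 48144 argWS_4264 argWS_4265)

def argWS_4267 : Store := (.node 48122 argWS_4263 argWS_4266)

def argWS_4268 : Store := (.node 48077 argWS_4260 argWS_4267)

def argWS_4269 : Store := (.node 48178 (.node 48172 (.node 48169 (.node 48168 (.leaf 0x0) (.leaf 0xb0f0002)) (.node 48170 (.leaf 0x0) (.node 48171 (.leaf 0x0) (.leaf 0x503060402020007010009)))) (.node 48175 (.node 48173 (.leaf 0x0) (.node 48174 (.leaf 0xa0f0002) (.leaf 0x0))) (.node 48176 (.leaf 0xa0f0b0003) (.node 48177 (.leaf 0x2050202020900000802040105000d) (.leaf 0x0))))) (.node 48183 (.node 48180 (.node 48179 (.leaf 0xb0b0a0a0004) (.leaf 0x0)) (.node 48181 (.leaf 0xbc3300bc2f) (.node 48182 (.leaf 0xf0001) (.leaf 0x0)))) (.node 48186 (.node 48184 (.leaf 0x2000408010006) (.node 48185 (.leaf 0x0) (.leaf 0xf0b0002))) (.node 48187 (.leaf 0xf0b0a0003) (.node 48188 (.leaf 0x80000020000030703040103000c) (.leaf 0x0))))))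

def argWS_4270 : Store := (.node 48200 (.node 48194 (.node 48191 (.node 48190 (.leaf 0xb0a0a0003) (.leaf 0x0)) (.node 48192 (.leaf 0xbc3e) (.node 48193 (.leaf 0xf0b0002) (.leaf 0x0)))) (.node 48197 (.node 48195 (.leaf 0xa0f0b0003) (.node 48196 (.leaf 0x0) (.leaf 0x0))) (.node 48198 (.leaf 0x600090206020202000701000b) (.node 48199 (.leaf 0x0) (.leaf 0xe0001))))) (.node 48206 (.node 48203 (.node 48201 (.leaf 0x0) (.node 48202 (.leaf 0x205020901060202000701000b) (.leaf 0x0))) (.node 48204 (.leaf 0xb0f0002) (.node 48205 (.leaf 0x0) (.leaf 0xba4600bc4c)))) (.node 48209 (.node 48207 (.leaf 0xf0b0a0003) (.node 48208 (.leaf 0x0) (.leaf 0xf0b0002))) (.node 48210 (.leaf 0x0) (.node 48211 (.leaf 0x0) (.leaf 0x204010901090006))))))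

def argWS_4271 : Store := (.node 48189 argWS_4269 argWS_4270)

def argWS_4272 : Store := (.node 48223 (.node 48217 (.node 48214 (.node 48213 (.leaf 0x0) (.leaf 0xb0b0a0a0004)) (.node 48215 (.leaf 0x0) (.node 48216 (.leaf 0xb0f0a0a0004) (.leaf 0xbc57)))) (.node 48220 (.node 48218 (.leaf 0xa0f0b0b0004) (.node 48219 (.leaf 0x0) (.leaf 0x103070206000802040105000b))) (.node 48221 (.leaf 0x0) (.node 48222 (.leaf 0xb0b0002) (.leaf 0xe0a0002))))) (.node 48228 (.node 48225 (.node 48224 (.leaf 0x3070904020202000701000a) (.leaf 0x0)) (.node 48226 (.leaf 0xe0a0002) (.node 48227 (.leaf 0x0) (.leaf 0xbc62)))) (.node 48231 (.node 48229 (.leaf 0xa0f0b0b0004) (.node 48230 (.leaf 0x0) (.leaf 0x200020703000703040103000b))) (.node 48232 (.leaf 0x0) (.node 48233 (.leaf 0xf0b0002) (.leaf 0x802000901090802040105000b))))))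

def argWS_4273 : Store := (.node 48245 (.node 48239 (.node 48236 (.node 48235 (.leaf 0x0) (.leaf 0xb0a0f0003)) (.node 48237 (.leaf 0x0) (.node 48238 (.leaf 0x605010703060006) (.leaf 0x0)))) (.node 48242 (.node 48240 (.leaf 0xf0b0b0003) (.node 48241 (.leaf 0x0) (.leaf 0xa0a0002))) (.node 48243 (.leaf 0xbc7100bc70) (.node 48244 (.leaf 0xf0b0b0a0004) (.leaf 0x0))))) (.node 48251 (.node 48248 (.node 48246 (.leaf 0x2020901060802040105000a) (.node 48247 (.leaf 0x0) (.leaf 0xe0d0002))) (.node 48249 (.leaf 0xe0a0a0003) (.node 48250 (.leaf 0x605010908050802040105000b) (.leaf 0x0)))) (.node 48254 (.node 48252 (.leaf 0xd0b0b0003) (.node 48253 (.leaf 0x0) (.leaf 0x8090805000703040103000b))) (.node 48255 (.leaf 0x0) (.node 48256 (.leaf 0xa0001) (.leaf 0x0))))))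

def argWS_4274 : Store := (.node 48234 argWS_4272 argWS_4273)

def argWS_4275 : Store := (.node 48212 argWS_4271 argWS_4274)

def argWS_4276 : Store := (.node 48268 (.node 48262 (.node 48259 (.node 48258 (.leaf 0xbc8000bc7c) (.leaf 0xe0a0002)) (.node 48260 (.leaf 0x0) (.node 48261 (.leaf 0xb0f0a0a0004) (.leaf 0x0)))) (.node 48265 (.node 48263 (.leaf 0x0) (.node 48264 (.leaf 0xf0a0a0003) (.leaf 0xa0f0002))) (.node 48266 (.leaf 0xbc88) (.node 48267 (.leaf 0xd0001) (.leaf 0x0))))) (.node 48273 (.node 48270 (.node 48269 (.leaf 0x104000900090802040105000b) (.leaf 0x0)) (.node 48271 (.leaf 0xd0001) (.node 48272 (.leaf 0xf0b0b0a0a0005) (.leaf 0xf0a0a0003)))) (.node 48276 (.node 48274 (.leaf 0xace800bc90) (.node 48275 (.leaf 0xa0f0002) (.leaf 0x0))) (.node 48277 (.leaf 0x8000904020802040105000a) (.node 48278 (.leaf 0x0) (.leaf 0xf0a0002))))))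

def argWS_4277 : Store := (.node 48290 (.node 48284 (.node 48281 (.node 48280 (.leaf 0xf0b0b0003) (.leaf 0xd0001)) (.node 48282 (.leaf 0xb0a0002) (.node 48283 (.leaf 0xbc9900bc98) (.leaf 0x0)))) (.node 48287 (.node 48285 (.leaf 0xb0f0a0003) (.node 48286 (.leaf 0x0) (.leaf 0x0))) (.node 48288 (.leaf 0xb0b0a0a0004) (.node 48289 (.leaf 0x7000006020702010802040105000d) (.leaf 0x0))))) (.node 48296 (.node 48293 (.node 48291 (.leaf 0x0) (.node 48292 (.leaf 0xbca2) (.leaf 0xb0a0f0003))) (.node 48294 (.leaf 0x0) (.node 48295 (.leaf 0x1030108020401050008) (.leaf 0x0)))) (.node 48299 (.node 48297 (.leaf 0xb0a0002) (.node 48298 (.leaf 0xb0b0002) (.leaf 0xb0b0002))) (.node 48300 (.leaf 0xbcaa) (.node 48301 (.leaf 0xb0b0a0a0004) (.leaf 0x0))))))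

def argWS_4278 : Store := (.node 48279 argWS_4276 argWS_4277)

def argWS_4279 : Store := (.node 48313 (.node 48307 (.node 48304 (.node 48303 (.leaf 0xb0b0002) (.leaf 0x0)) (.node 48305 (.leaf 0x0) (.node 48306 (.leaf 0x400030000030000000703040103000e) (.leaf 0x0)))) (.node 48310 (.node 48308 (.leaf 0xf0b0b0003) (.node 48309 (.leaf 0x0) (.leaf 0x5030502000003010008))) (.node 48311 (.leaf 0x0) (.node 48312 (.leaf 0xf0b0a0a0004) (.leaf 0x0))))) (.node 48319 (.node 48316 (.node 48314 (.leaf 0xbcb8) (.node 48315 (.leaf 0x1010908050005) (.leaf 0x0))) (.node 48317 (.leaf 0xf0b0b0003) (.node 48318 (.leaf 0x0) (.leaf 0x0)))) (.node 48322 (.node 48320 (.leaf 0xe0a0a0003) (.node 48321 (.leaf 0xd0b0b0003) (.leaf 0xb0b0a0a0004))) (.node 48323 (.leaf 0xbcc1) (.node 48324 (.leaf 0x9030007000903000703040103000d) (.leaf 0x0))))))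

def argWS_4280 : Store := (.node 48336 (.node 48330 (.node 48327 (.node 48326 (.leaf 0xe0a0002) (.leaf 0x0)) (.node 48328 (.leaf 0xf0b0002) (.node 48329 (.leaf 0x0) (.leaf 0x0)))) (.node 48333 (.node 48331 (.leaf 0xf0b0a0a0004) (.node 48332 (.leaf 0x6010703060802040105000b) (.leaf 0x0))) (.node 48334 (.leaf 0xf0b0b0003) (.node 48335 (.leaf 0x0) (.leaf 0xb0b0a0a0004))))) (.node 48342 (.node 48339 (.node 48337 (.leaf 0xbccf00bcce) (.node 48338 (.leaf 0x605020106060006) (.leaf 0x0))) (.node 48340 (.leaf 0xd0b0002) (.node 48341 (.leaf 0x0) (.leaf 0xf0001)))) (.node 48345 (.node 48343 (.leaf 0x0) (.node 48344 (.leaf 0x0) (.leaf 0x30306010500020007))) (.node 48346 (.leaf 0x0) (.node 48347 (.leaf 0x0) (.leaf 0x300020106060802040105000b))))))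

def argWS_4281 : Store := (.node 48325 argWS_4279 argWS_4280)

def argWS_4282 : Store := (.node 48302 argWS_4278 argWS_4281)

def argWS_4283 : Store := (.node 48257 argWS_4275 argWS_4282)

def argWS_4284 : Store := (.node 48167 argWS_4268 argWS_4283)

def argWS_4285 : Store := (.node 47987 argWS_4253 argWS_4284)

def argWS_4286 : Store := (.node 48359 (.node 48353 (.node 48350 (.node 48349 (.leaf 0x0) (.leaf 0xf0b0b0003)) (.node 48351 (.leaf 0x0) (.node 48352 (.leaf 0x60400050206040802040105000c) (.leaf 0x0)))) (.node 48356 (.node 48354 (.leaf 0xe0001) (.node 48355 (.leaf 0x0) (.leaf 0xbce200bcde))) (.node 48357 (.leaf 0xd0b0b0003) (.node 48358 (.leaf 0x0) (.leaf 0xb0a0a0003))))) (.node 48364 (.node 48361 (.node 48360 (.leaf 0x0) (.leaf 0x0)) (.node 48362 (.leaf 0xb0b0002) (.node 48363 (.leaf 0xf0b0a0003) (.leaf 0xd0001)))) (.node 48367 (.node 48365 (.leaf 0xbceb00bcea) (.node 48366 (.leaf 0x5030502020900000802040105000d) (.leaf 0x0))) (.node 48368 (.leaf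 0xe0a0a0003) (.node 48369 (.leaf 0x0) (.leaf 0xb0b0a0003))))))

def argWS_4287 : Store := (.node 48381 (.node 48375 (.node 48372 (.node 48371 (.leaf 0x0) (.leaf 0x0)) (.node 48373 (.leaf 0x1020900090202000701000a) (.node 48374 (.leaf 0x0) (.leaf 0xb0f0a0003)))) (.node 48378 (.node 48376 (.leaf 0x0) (.node 48377 (.leaf 0x1040006010500020202000701000d) (.leaf 0x0))) (.node 48379 (.leaf 0xd0b0002) (.node 48380 (.leaf 0x0) (.leaf 0xbcfb00bcf7))))) (.node 48387 (.node 48384 (.node 48382 (.leaf 0xf0b0002) (.node 48383 (.leaf 0x0) (.leaf 0x60005020202010008))) (.node 48385 (.leaf 0x0) (.node 48386 (.leaf 0xa0001) (.leaf 0xf0b0b0a0a0005)))) (.node 48390 (.node 48388 (.leaf 0xf0b0a0003) (.node 48389 (.leaf 0xbd0300bd02) (.leaf 0xe0001))) (.node 48391 (.leaf 0x0) (.node 48392 (.leaf 0x0) (.leaf 0xa0f0b0b0004))))))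

def argWS_4288 : Store := (.node 48370 argWS_4286 argWS_4287)

def argWS_4289 : Store := (.node 48404 (.node 48398 (.node 48395 (.node 48394 (.leaf 0x9010409080600000703040103000d) (.leaf 0x0)) (.node 48396 (.leaf 0x0) (.node 48397 (.leaf 0x30401010904020007) (.leaf 0x0)))) (.node 48401 (.node 48399 (.leaf 0xf0b0a0a0004) (.node 48400 (.leaf 0x0) (.leaf 0xbd0f00bd0b))) (.node 48402 (.leaf 0xb0f0a0003) (.node 48403 (.leaf 0x0) (.leaf 0xb0a0f0003))))) (.node 48409 (.node 48406 (.node 48405 (.leaf 0x0) (.leaf 0x0)) (.node 48407 (.leaf 0xa0f0b0003) (.node 48408 (.leaf 0xd0b0b0003) (.leaf 0xbd17)))) (.node 48412 (.node 48410 (.leaf 0xb0a0f0003) (.node 48411 (.leaf 0x0) (.leaf 0xd0001))) (.node 48413 (.leaf 0x0) (.node 48414 (.leaf 0x0) (.leaf 0xb0f0a0a0004))))))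

def argWS_4290 : Store := (.node 48426 (.node 48420 (.node 48417 (.node 48416 (.leaf 0x500090000090802040105000b) (.leaf 0x0)) (.node 48418 (.leaf 0xd0b0002) (.node 48419 (.leaf 0x0) (.leaf 0xf0b0b0a0a0005)))) (.node 48423 (.node 48421 (.leaf 0xbd2300bd22) (.node 48422 (.leaf 0x602020901060802040105000b) (.leaf 0x0))) (.node 48424 (.leaf 0xd0b0b0003) (.node 48425 (.leaf 0x0) (.leaf 0x0))))) (.node 48432 (.node 48429 (.node 48427 (.leaf 0xf0001) (.node 48428 (.leaf 0x1050202020900000802040105000d) (.leaf 0x0))) (.node 48430 (.leaf 0x0) (.node 48431 (.leaf 0xe0a0002) (.leaf 0xbd2e00bd2d)))) (.node 48435 (.node 48433 (.leaf 0xe0a0a0003) (.node 48434 (.leaf 0x0) (.leaf 0xb0f0a0a0004))) (.node 48436 (.leaf 0x0) (.node 48437 (.leaf 0x0) (.leaf 0xd0001))))))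

def argWS_4291 : Store := (.node 48415 argWS_4289 argWS_4290)

def argWS_4292 : Store := (.node 48393 argWS_4288 argWS_4291)

def argWS_4293 : Store := (.node 48449 (.node 48443 (.node 48440 (.node 48439 (.leaf 0xd0b0002) (.leaf 0x60301040005000703040103000c)) (.node 48441 (.leaf 0x0) (.node 48442 (.leaf 0xe0a0002) (.leaf 0x0)))) (.node 48446 (.node 48444 (.leaf 0xbd3a00bd36) (.node 48445 (.leaf 0x9030007000903000703040103000d) (.leaf 0x0))) (.node 48447 (.leaf 0xe0a0002) (.node 48448 (.leaf 0x0) (.leaf 0xb0f0002))))) (.node 48454 (.node 48451 (.node 48450 (.leaf 0x0) (.leaf 0x0)) (.node 48452 (.leaf 0xa0f0b0b0004) (.node 48453 (.leaf 0xb0b0a0a0004) (.leaf 0x9000308000703040103000a)))) (.node 48457 (.node 48455 (.leaf 0x0) (.node 48456 (.leaf 0x0) (.leaf 0xbd4700bd44))) (.node 48458 (.leaf 0xe0001) (.node 48459 (.leaf 0x0) (.leaf 0x0))))))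

def argWS_4294 : Store := (.node 48471 (.node 48465 (.node 48462 (.node 48461 (.leaf 0xf0001) (.leaf 0x0)) (.node 48463 (.leaf 0xb0b0a0a0004) (.node 48464 (.leaf 0xbd4e00bd4d) (.leaf 0xd0b0002)))) (.node 48468 (.node 48466 (.leaf 0x0) (.node 48467 (.leaf 0xf0a0a0003) (.leaf 0x0))) (.node 48469 (.leaf 0x0) (.node 48470 (.leaf 0xa0001) (.leaf 0x2010606000703040103000a))))) (.node 48477 (.node 48474 (.node 48472 (.leaf 0x0) (.node 48473 (.leaf 0xb0b0a0a0004) (.leaf 0x0))) (.node 48475 (.leaf 0xbd5900bd55) (.node 48476 (.leaf 0xa0f0b0003) (.leaf 0x0)))) (.node 48480 (.node 48478 (.leaf 0x2010300020804000802040105000d) (.node 48479 (.leaf 0x0) (.leaf 0xb0f0a0003))) (.node 48481 (.leaf 0x60509000009000703040103000c) (.node 48482 (.leaf 0x0) (.leaf 0xf0b0b0003))))))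

def argWS_4295 : Store := (.node 48460 argWS_4293 argWS_4294)

def argWS_4296 : Store := (.node 48494 (.node 48488 (.node 48485 (.node 48484 (.leaf 0x0) (.leaf 0x1090603000703040103000a)) (.node 48486 (.leaf 0x0) (.node 48487 (.leaf 0xa0f0002) (.leaf 0x0)))) (.node 48491 (.node 48489 (.leaf 0xf0b0b0003) (.node 48490 (.leaf 0x0) (.leaf 0xbd6900bd67))) (.node 48492 (.leaf 0xd0b0002) (.node 48493 (.leaf 0x0) (.leaf 0x204030601050002000703040103000e))))) (.node 48499 (.node 48496 (.node 48495 (.leaf 0x0) (.leaf 0xd0b0002)) (.node 48497 (.leaf 0xb0b0a0003) (.node 48498 (.leaf 0xf0a0002) (.leaf 0x8825)))) (.node 48502 (.node 48500 (.leaf 0x206040005000703040103000b) (.node 48501 (.leaf 0x0) (.leaf 0xb0b0002))) (.node 48503 (.leaf 0x0) (.node 48504 (.leaf 0xb0f0002) (.leaf 0x0))))))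

def argWS_4297 : Store := (.node 48516 (.node 48510 (.node 48507 (.node 48506 (.leaf 0x0) (.leaf 0xf0a0a0003)) (.node 48508 (.leaf 0x60000050206040202000701000c) (.node 48509 (.leaf 0x0) (.leaf 0xb0b0002)))) (.node 48513 (.node 48511 (.leaf 0x0) (.node 48512 (.leaf 0x202020901060202000701000b) (.leaf 0x0))) (.node 48514 (.leaf 0xa0f0b0003) (.node 48515 (.leaf 0x0) (.leaf 0xbd8200bd7e))))) (.node 48522 (.node 48519 (.node 48517 (.leaf 0xd0b0b0003) (.node 48518 (.leaf 0x0) (.leaf 0x4000703000703040103000a))) (.node 48520 (.leaf 0x0) (.node 48521 (.leaf 0xe0001) (.leaf 0xf0001)))) (.node 48525 (.node 48523 (.leaf 0x2000603050004000703040103000d) (.node 48524 (.leaf 0x0) (.leaf 0xa0f0002))) (.node 48526 (.leaf 0x0) (.node 48527 (.leaf 0xa0f0002) (.leaf 0xbd8e00bd8d))))))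

def argWS_4298 : Store := (.node 48505 argWS_4296 argWS_4297)

def argWS_4299 : Store := (.node 48483 argWS_4295 argWS_4298)

def argWS_4300 : Store := (.node 48438 argWS_4292 argWS_4299)

def argWS_4301 : Store := (.node 48539 (.node 48533 (.node 48530 (.node 48529 (.leaf 0x903010904020802040105000b) (.leaf 0x0)) (.node 48531 (.leaf 0xe0a0a0003) (.node 48532 (.leaf 0x0) (.leaf 0xa0f0b0b0004)))) (.node 48536 (.node 48534 (.leaf 0x0) (.node 48535 (.leaf 0x0) (.leaf 0xf0a0a0003))) (.node 48537 (.leaf 0xa0a0002) (.node 48538 (.leaf 0x10201020901060202000701000c) (.leaf 0x0))))) (.node 48544 (.node 48541 (.node 48540 (.leaf 0xe0a0a0003) (.leaf 0x0)) (.node 48542 (.leaf 0xbd9c00bd98) (.node 48543 (.leaf 0xb0f0002) (.leaf 0x0)))) (.node 48547 (.node 48545 (.leaf 0xf0a0a0003) (.node 48546 (.leaf 0x0) (.leaf 0x0))) (.node 48548 (.leaf 0xd0001) (.node 48549 (.leaf 0xb0001) (.leaf 0xb0a0002))))))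

def argWS_4302 : Store := (.node 48561 (.node 48555 (.node 48552 (.node 48551 (.leaf 0xbda500bda4) (.leaf 0xf0b0b0003)) (.node 48553 (.leaf 0x0) (.node 48554 (.leaf 0xb0a0002) (.leaf 0x0)))) (.node 48558 (.node 48556 (.leaf 0x0) (.node 48557 (.leaf 0xb0a0f0003) (.leaf 0xe0d0002))) (.node 48559 (.leaf 0xd0b0b0003) (.node 48560 (.leaf 0xbdae00bdad) (.leaf 0x600090206020802040105000b))))) (.node 48567 (.node 48564 (.node 48562 (.leaf 0x0) (.node 48563 (.leaf 0xd0001) (.leaf 0x0))) (.node 48565 (.leaf 0xe0001) (.node 48566 (.leaf 0x0) (.leaf 0x0)))) (.node 48570 (.node 48568 (.leaf 0xb0b0a0003) (.node 48569 (.leaf 0x8000908050802040105000a) (.leaf 0x0))) (.node 48571 (.leaf 0xf0001) (.node 48572 (.leaf 0x0) (.leaf 0xa0a0002))))))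

def argWS_4303 : Store := (.node 48550 argWS_4301 argWS_4302)

def argWS_4304 : Store := (.node 48584 (.node 48578 (.node 48575 (.node 48574 (.leaf 0xbdbc00bdbb) (.leaf 0xf0a0002)) (.node 48576 (.leaf 0x0) (.node 48577 (.leaf 0xf0b0b0a0004) (.leaf 0x0)))) (.node 48581 (.node 48579 (.leaf 0x0) (.node 48580 (.leaf 0xe0a0a0003) (.leaf 0xf0b0002))) (.node 48582 (.leaf 0x80101090009000703040103000c) (.node 48583 (.leaf 0x0) (.leaf 0xa0001))))) (.node 48589 (.node 48586 (.node 48585 (.leaf 0x0) (.leaf 0xbdc800bdc4)) (.node 48587 (.leaf 0xd0b0002) (.node 48588 (.leaf 0x0) (.leaf 0x30501090805000703040103000c)))) (.node 48592 (.node 48590 (.leaf 0x0) (.node 48591 (.leaf 0xf0a0a0003) (.leaf 0xd0001))) (.node 48593 (.leaf 0xbad200bdcf) (.node 48594 (.leaf 0xe0001) (.leaf 0x0))))))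

def argWS_4305 : Store := (.node 48606 (.node 48600 (.node 48597 (.node 48596 (.leaf 0x4030406030500040008) (.leaf 0x0)) (.node 48598 (.leaf 0xd0b0002) (.node 48599 (.leaf 0x8030003080202000701000a) (.leaf 0x0)))) (.node 48603 (.node 48601 (.leaf 0xf0a0002) (.node 48602 (.leaf 0x0) (.leaf 0xbdd9))) (.node 48604 (.leaf 0x20601070209020007) (.node 48605 (.leaf 0x0) (.leaf 0xd0001))))) (.node 48612 (.node 48609 (.node 48607 (.leaf 0x0) (.node 48608 (.leaf 0xe0001) (.leaf 0x0))) (.node 48610 (.leaf 0x0) (.node 48611 (.leaf 0xb0f0a0a0004) (.leaf 0xb0b0a0a0004)))) (.node 48615 (.node 48613 (.leaf 0xbde300bde2) (.node 48614 (.leaf 0x0) (.leaf 0x90105020202010007))) (.node 48616 (.leaf 0x0) (.node 48617 (.leaf 0xb0b0a0a0004) (.leaf 0x702020106060006))))))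

def argWS_4306 : Store := (.node 48595 argWS_4304 argWS_4305)

def argWS_4307 : Store := (.node 48573 argWS_4303 argWS_4306)

def argWS_4308 : Store := (.node 48629 (.node 48623 (.node 48620 (.node 48619 (.leaf 0x0) (.leaf 0xf0b0b0a0a0005)) (.node 48621 (.leaf 0x0) (.node 48622 (.leaf 0xd0b0002) (.leaf 0xf0b0b0a0004)))) (.node 48626 (.node 48624 (.leaf 0xbdee00bded) (.node 48625 (.leaf 0xf0a0a0003) (.leaf 0x0))) (.node 48627 (.leaf 0xd0b0002) (.node 48628 (.leaf 0x0) (.leaf 0x0))))) (.node 48634 (.node 48631 (.node 48630 (.leaf 0xb0b0a0003) (.leaf 0xb0b0002)) (.node 48632 (.leaf 0xb0a0002) (.node 48633 (.leaf 0xbdf700bdf6) (.leaf 0xa0a0002)))) (.node 48637 (.node 48635 (.leaf 0x0) (.node 48636 (.leaf 0x2070306000703040103000a) (.leaf 0x0))) (.node 48638 (.leaf 0xf0a0002) (.node 48639 (.leaf 0xb0f0002) (.leaf 0x206010904020006))))))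

def argWS_4309 : Store := (.node 48651 (.node 48645 (.node 48642 (.node 48641 (.leaf 0x0) (.leaf 0xf0001)) (.node 48643 (.leaf 0x0) (.node 48644 (.leaf 0xd0b0b0003) (.leaf 0xbe0300be02)))) (.node 48648 (.node 48646 (.leaf 0x50307000902000701000a) (.node 48647 (.leaf 0x0) (.leaf 0xf0b0a0003))) (.node 48649 (.leaf 0x0) (.node 48650 (.leaf 0xb0f0002) (.leaf 0x0))))) (.node 48657 (.node 48654 (.node 48652 (.leaf 0x0) (.node 48653 (.leaf 0xf0b0b0003) (.leaf 0x7030500090206020802040105000d))) (.node 48655 (.leaf 0x0) (.node 48656 (.leaf 0xf0a0002) (.leaf 0x0)))) (.node 48660 (.node 48658 (.leaf 0xf0b0b0a0004) (.node 48659 (.leaf 0xbe1100be10) (.leaf 0x9000207020007010009))) (.node 48661 (.leaf 0x0) (.node 48662 (.leaf 0xa0f0b0003) (.leaf 0x0))))))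

def argWS_4310 : Store := (.node 48640 argWS_4308 argWS_4309)

def argWS_4311 : Store := (.node 48674 (.node 48668 (.node 48665 (.node 48664 (.leaf 0xd0b0002) (.leaf 0x0)) (.node 48666 (.leaf 0x0) (.node 48667 (.leaf 0x30300090206020802040105000c) (.leaf 0x0)))) (.node 48671 (.node 48669 (.leaf 0x0) (.node 48670 (.leaf 0x2020002020007010008) (.leaf 0x0))) (.node 48672 (.leaf 0xb0b0a0003) (.node 48673 (.leaf 0x0) (.leaf 0xbe20))))) (.node 48680 (.node 48677 (.node 48675 (.leaf 0xa0f0b0b0004) (.node 48676 (.leaf 0x0) (.leaf 0x8030008020401050008))) (.node 48678 (.leaf 0x0) (.node 48679 (.leaf 0xb0b0002) (.leaf 0xb0001)))) (.node 48683 (.node 48681 (.leaf 0x0) (.node 48682 (.leaf 0x10903000408010802040105000c) (.leaf 0x0))) (.node 48684 (.leaf 0xd0b0b0003) (.node 48685 (.leaf 0x0) (.leaf 0x2050202000003010802040105000d))))))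

def argWS_4312 : Store := (.node 48697 (.node 48691 (.node 48688 (.node 48687 (.leaf 0x0) (.leaf 0xe0d0002)) (.node 48689 (.leaf 0x0) (.node 48690 (.leaf 0xbe3000be2c) (.leaf 0xd0001)))) (.node 48694 (.node 48692 (.leaf 0x0) (.node 48693 (.leaf 0xa0f0b0b0004) (.leaf 0x0))) (.node 48695 (.leaf 0x0) (.node 48696 (.leaf 0xb0a0a0003) (.leaf 0x10702010606000703040103000c))))) (.node 48703 (.node 48700 (.node 48698 (.leaf 0x0) (.node 48699 (.leaf 0xd0001) (.leaf 0x0))) (.node 48701 (.leaf 0xbe3b) (.node 48702 (.leaf 0xf0b0b0a0a0005) (.leaf 0x0)))) (.node 48706 (.node 48704 (.leaf 0xf0b0a0003) (.node 48705 (.leaf 0x0) (.leaf 0x0))) (.node 48707 (.leaf 0xa0f0b0b0004) (.node 48708 (.leaf 0x907050202020703040103000b) (.leaf 0x0))))))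

def argWS_4313 : Store := (.node 48686 argWS_4311 argWS_4312)

def argWS_4314 : Store := (.node 48663 argWS_4310 argWS_4313)

def argWS_4315 : Store := (.node 48618 argWS_4307 argWS_4314)

def argWS_4316 : Store := (.node 48528 argWS_4300 argWS_4315)

def argWS_4317 : Store := (.node 48720 (.node 48714 (.node 48711 (.node 48710 (.leaf 0xb0001) (.leaf 0x0)) (.node 48712 (.leaf 0xb0a0f0003) (.node 48713 (.leaf 0xbe4700be46) (.leaf 0xf0b0a0003)))) (.node 48717 (.node 48715 (.leaf 0x0) (.node 48716 (.leaf 0x7040003030604000703040103000d) (.leaf 0x0))) (.node 48718 (.leaf 0xb0b0002) (.node 48719 (.leaf 0x404070206000802040105000b) (.leaf 0x0))))) (.node 48725 (.node 48722 (.node 48721 (.leaf 0xb0001) (.leaf 0x0)) (.node 48723 (.leaf 0xf0b0b0a0a0005) (.node 48724 (.leaf 0xe0a0a0003) (.leaf 0xbe5300be52)))) (.node 48728 (.node 48726 (.leaf 0xe0a0a0003) (.node 48727 (.leaf 0x0) (.leaf 0x4000901090005))) (.node 48729 (.leaf 0x0) (.node 48730 (.leaf 0xf0a0a0003)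 (.leaf 0x20002090806000202000701000c))))))

def argWS_4318 : Store := (.node 48742 (.node 48736 (.node 48733 (.node 48732 (.leaf 0x0) (.leaf 0xa0001)) (.node 48734 (.leaf 0x0) (.node 48735 (.leaf 0xe0001) (.leaf 0x2020207020007010008)))) (.node 48739 (.node 48737 (.leaf 0x0) (.node 48738 (.leaf 0xa0f0b0003) (.leaf 0x0))) (.node 48740 (.leaf 0xbe6200be5e) (.node 48741 (.leaf 0xd0001) (.leaf 0x0))))) (.node 48748 (.node 48745 (.node 48743 (.leaf 0xa0f0b0003) (.node 48744 (.leaf 0x0) (.leaf 0x0))) (.node 48746 (.leaf 0xb0b0a0003) (.node 48747 (.leaf 0xe0d0002) (.leaf 0xbe6a)))) (.node 48751 (.node 48749 (.leaf 0xa0f0002) (.node 48750 (.leaf 0x0) (.leaf 0xf0a0a0003))) (.node 48752 (.leaf 0x0) (.node 48753 (.leaf 0x0) (.leaf 0x40004090806000007))))))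

def argWS_4319 : Store := (.node 48731 argWS_4317 argWS_4318)

def argWS_4320 : Store := (.node 48765 (.node 48759 (.node 48756 (.node 48755 (.leaf 0x0) (.leaf 0xf0a0a0003)) (.node 48757 (.leaf 0x0) (.node 48758 (.leaf 0x2090102020900000008) (.leaf 0x0)))) (.node 48762 (.node 48760 (.leaf 0xb0b0a0a0004) (.node 48761 (.leaf 0x0) (.leaf 0xbe7800be74))) (.node 48763 (.leaf 0xb0a0a0003) (.node 48764 (.leaf 0x0) (.leaf 0xd0b0b0003))))) (.node 48770 (.node 48767 (.node 48766 (.leaf 0x0) (.leaf 0x0)) (.node 48768 (.leaf 0x20403010102000202000701000c) (.node 48769 (.leaf 0x0) (.leaf 0xb0a0f0003)))) (.node 48773 (.node 48771 (.leaf 0x0) (.node 48772 (.leaf 0xb0a0f0003) (.leaf 0xbe83))) (.node 48774 (.leaf 0xa0001) (.node 48775 (.leaf 0x0) (.leaf 0x60105020202010802040105000c))))))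

def argWS_4321 : Store := (.node 48787 (.node 48781 (.node 48778 (.node 48777 (.leaf 0x0) (.leaf 0xa0a0002)) (.node 48779 (.leaf 0x40407000903000703040103000c) (.node 48780 (.leaf 0x0) (.leaf 0xb0b0002)))) (.node 48784 (.node 48782 (.leaf 0x0) (.node 48783 (.leaf 0xe0a0002) (.leaf 0xf0b0a0003))) (.node 48785 (.leaf 0xbe8f00be8e) (.node 48786 (.leaf 0xf0b0b0a0004) (.leaf 0x0))))) (.node 48793 (.node 48790 (.node 48788 (.leaf 0xe0a0a0003) (.node 48789 (.leaf 0x0) (.leaf 0x0))) (.node 48791 (.leaf 0x40004020703000703040103000c) (.node 48792 (.leaf 0x0) (.leaf 0xb0a0f0003)))) (.node 48796 (.node 48794 (.leaf 0x0) (.node 48795 (.leaf 0xe0a0002) (.leaf 0x80007000903000703040103000c))) (.node 48797 (.leaf 0x0) (.node 48798 (.leaf 0x0) (.leaf 0xbe9d00be9a))))))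

def argWS_4322 : Store := (.node 48776 argWS_4320 argWS_4321)

def argWS_4323 : Store := (.node 48754 argWS_4319 argWS_4322)

def argWS_4324 : Store := (.node 48810 (.node 48804 (.node 48801 (.node 48800 (.leaf 0x0) (.leaf 0x4030409080600000703040103000d)) (.node 48802 (.leaf 0x0) (.node 48803 (.leaf 0xa0f0002) (.leaf 0xb0001)))) (.node 48807 (.node 48805 (.leaf 0xb0a0002) (.node 48806 (.leaf 0x20103070209020202000701000c) (.leaf 0x0))) (.node 48808 (.leaf 0xf0b0002) (.node 48809 (.leaf 0x0) (.leaf 0xbea800bea4))))) (.node 48815 (.node 48812 (.node 48811 (.leaf 0x107010703060802040105000b) (.leaf 0x0)) (.node 48813 (.leaf 0xf0b0b0a0004) (.node 48814 (.leaf 0x0) (.leaf 0xb0f0a0003)))) (.node 48818 (.node 48816 (.leaf 0x0) (.node 48817 (.leaf 0x0) (.leaf 0xa0f0002))) (.node 48819 (.leaf 0x6000908050202000701000a) (.node 48820 (.leaf 0x0) (.leaf 0xe0a0002))))))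

def argWS_4325 : Store := (.node 48832 (.node 48826 (.node 48823 (.node 48822 (.leaf 0x0) (.leaf 0x30500000300000007)) (.node 48824 (.leaf 0x0) (.node 48825 (.leaf 0xb0a0f0003) (.leaf 0x0)))) (.node 48829 (.node 48827 (.leaf 0xbeb900beb5) (.node 48828 (.leaf 0x9040208020401050009) (.leaf 0x0))) (.node 48830 (.leaf 0xd0001) (.node 48831 (.leaf 0x0) (.leaf 0xf0a0002))))) (.node 48838 (.node 48835 (.node 48833 (.leaf 0x0) (.node 48834 (.leaf 0x0) (.leaf 0xb0a0002))) (.node 48836 (.leaf 0xb1a100bec2) (.node 48837 (.leaf 0xe0001) (.leaf 0x0)))) (.node 48841 (.node 48839 (.leaf 0xb0a0002) (.node 48840 (.leaf 0x0) (.leaf 0x0))) (.node 48842 (.leaf 0x200020901060802040105000b) (.node 48843 (.leaf 0x0) (.leaf 0x0))))))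

def argWS_4326 : Store := (.node 48821 argWS_4324 argWS_4325)

def argWS_4327 : Store := (.node 48855 (.node 48849 (.node 48846 (.node 48845 (.leaf 0xd0b0b0003) (.leaf 0x400090206020802040105000b)) (.node 48847 (.leaf 0x0) (.node 48848 (.leaf 0xe0a0a0003) (.leaf 0x0)))) (.node 48852 (.node 48850 (.leaf 0xbed000becc) (.node 48851 (.leaf 0xb0f0a0a0004) (.leaf 0x0))) (.node 48853 (.leaf 0x10306020702010202000701000c) (.node 48854 (.leaf 0x0) (.leaf 0xa0f0002))))) (.node 48860 (.node 48857 (.node 48856 (.leaf 0xe0a0a0003) (.leaf 0xa4c9)) (.node 48858 (.leaf 0x20206030500040202000701000c) (.node 48859 (.leaf 0x0) (.leaf 0xf0a0a0003)))) (.node 48863 (.node 48861 (.leaf 0x0) (.node 48862 (.leaf 0xf0b0b0a0a0005) (.leaf 0x0))) (.node 48864 (.leaf 0xbd4d) (.node 48865 (.leaf 0xb0001) (.leaf 0x0))))))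

def argWS_4328 : Store := (.node 48877 (.node 48871 (.node 48868 (.node 48867 (.leaf 0xd0001) (.leaf 0x0)) (.node 48869 (.leaf 0x0) (.node 48870 (.leaf 0x7020007010005) (.leaf 0x0)))) (.node 48874 (.node 48872 (.leaf 0x0) (.node 48873 (.leaf 0x30306030500040007) (.leaf 0x0))) (.node 48875 (.leaf 0xf0a0a0003) (.node 48876 (.leaf 0x0) (.leaf 0x70500090206020007))))) (.node 48883 (.node 48880 (.node 48878 (.leaf 0x0) (.node 48879 (.leaf 0xe0a0002) (.leaf 0x0))) (.node 48881 (.leaf 0xbeef00beeb) (.node 48882 (.leaf 0xb0f0a0a0004) (.leaf 0x0)))) (.node 48886 (.node 48884 (.leaf 0x60002020900000802040105000d) (.node 48885 (.leaf 0x0) (.leaf 0xa0f0002))) (.node 48887 (.leaf 0xe0a0002) (.node 48888 (.leaf 0x50201060207020703040103000c) (.leaf 0x0))))))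

def argWS_4329 : Store := (.node 48866 argWS_4327 argWS_4328)

def argWS_4330 : Store := (.node 48844 argWS_4326 argWS_4329)

def argWS_4331 : Store := (.node 48799 argWS_4323 argWS_4330)

def argWS_4332 : Store := (.node 48900 (.node 48894 (.node 48891 (.node 48890 (.leaf 0xf0b0b0a0a0005) (.leaf 0x0)) (.node 48892 (.leaf 0xbefa) (.node 48893 (.leaf 0x60500020804000802040105000c) (.leaf 0x0)))) (.node 48897 (.node 48895 (.leaf 0xa0f0002) (.node 48896 (.leaf 0x0) (.leaf 0xe0a0a0003))) (.node 48898 (.leaf 0x0) (.node 48899 (.leaf 0x0) (.leaf 0xf0001))))) (.node 48905 (.node 48902 (.node 48901 (.leaf 0x50306020702010007) (.leaf 0x0)) (.node 48903 (.leaf 0xa0f0002) (.node 48904 (.leaf 0x0) (.leaf 0xa0a0002)))) (.node 48908 (.node 48906 (.leaf 0xbf0800bf07) (.node 48907 (.leaf 0x9000603050004000703040103000d) (.leaf 0x0))) (.node 48909 (.leaf 0xd0b0b0003) (.node 48910 (.leaf 0x0) (.leaf 0xd0001))))))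

def argWS_4333 : Store := (.node 48922 (.node 48916 (.node 48913 (.node 48912 (.leaf 0x0) (.leaf 0x0)) (.node 48914 (.leaf 0xd0001) (.node 48915 (.leaf 0xb0f0a0a0004) (.leaf 0x70206020702010007)))) (.node 48919 (.node 48917 (.leaf 0x0) (.node 48918 (.leaf 0xf0a0a0003) (.leaf 0x0))) (.node 48920 (.leaf 0xbf1600bf12) (.node 48921 (.leaf 0xf0b0002) (.leaf 0x0))))) (.node 48928 (.node 48925 (.node 48923 (.leaf 0xf0001) (.node 48924 (.leaf 0x0) (.leaf 0x0))) (.node 48926 (.leaf 0xe0a0002) (.node 48927 (.leaf 0x60201090806000202000701000c) (.leaf 0x0)))) (.node 48931 (.node 48929 (.leaf 0xa0f0002) (.node 48930 (.leaf 0x0) (.leaf 0x200020400050006))) (.node 48932 (.leaf 0x0) (.node 48933 (.leaf 0xb0a0a0003) (.leaf 0x0))))))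

def argWS_4334 : Store := (.node 48911 argWS_4332 argWS_4333)

def argWS_4335 : Store := (.node 48945 (.node 48939 (.node 48936 (.node 48935 (.leaf 0xbf2500bf21) (.leaf 0x0)) (.node 48937 (.leaf 0x0) (.node 48938 (.leaf 0x30403070009030007) (.leaf 0x0)))) (.node 48942 (.node 48940 (.leaf 0xb0f0a0003) (.node 48941 (.leaf 0x0) (.leaf 0xb0f0a0a0004))) (.node 48943 (.leaf 0x102020900090006) (.node 48944 (.leaf 0x0) (.leaf 0x0))))) (.node 48950 (.node 48947 (.node 48946 (.leaf 0xbf3000bf2d) (.leaf 0xf0b0b0a0a0005)) (.node 48948 (.leaf 0x0) (.node 48949 (.leaf 0x400040002080400000703040103000e) (.leaf 0x0)))) (.node 48953 (.node 48951 (.leaf 0xf0b0002) (.node 48952 (.leaf 0x307010703060006) (.leaf 0x0))) (.node 48954 (.leaf 0xf0b0b0a0a0005) (.node 48955 (.leaf 0x0) (.leaf 0xd0b0002))))))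

def argWS_4336 : Store := (.node 48967 (.node 48961 (.node 48958 (.node 48957 (.leaf 0xbe0a00bf3b) (.leaf 0xe0d0002)) (.node 48959 (.leaf 0x0) (.node 48960 (.leaf 0x2020005020604000703040103000d) (.leaf 0x0)))) (.node 48964 (.node 48962 (.leaf 0xd0001) (.node 48963 (.leaf 0xb0f0002) (.leaf 0xb0a0002))) (.node 48965 (.leaf 0xb0a0002) (.node 48966 (.leaf 0x0) (.leaf 0xbf4500bf43))))) (.node 48973 (.node 48970 (.node 48968 (.leaf 0xd0b0b0003) (.node 48969 (.leaf 0x0) (.leaf 0x0))) (.node 48971 (.leaf 0xf0b0a0003) (.node 48972 (.leaf 0x40205010908050802040105000c) (.leaf 0x0)))) (.node 48976 (.node 48974 (.leaf 0xe0001) (.node 48975 (.leaf 0x0) (.leaf 0x406030500040802040105000c))) (.node 48977 (.leaf 0x0) (.node 48978 (.leaf 0xf0a0002) (.leaf 0x0))))))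

def argWS_4337 : Store := (.node 48956 argWS_4335 argWS_4336)

def argWS_4338 : Store := (.node 48934 argWS_4334 argWS_4337)

def argWS_4339 : Store := (.node 48990 (.node 48984 (.node 48981 (.node 48980 (.leaf 0xbf5200bf4e) (.leaf 0xa0f0b0b0004)) (.node 48982 (.leaf 0x0) (.node 48983 (.leaf 0x7000908050202000701000a) (.leaf 0x0)))) (.node 48987 (.node 48985 (.leaf 0xa0f0002) (.node 48986 (.leaf 0xf0b0b0003) (.leaf 0x303090009000703040103000b))) (.node 48988 (.leaf 0x0) (.node 48989 (.leaf 0x0) (.leaf 0x5020901060802040105000a))))) (.node 48995 (.node 48992 (.node 48991 (.leaf 0x0) (.leaf 0xf0b0b0003)) (.node 48993 (.leaf 0x0) (.node 48994 (.leaf 0xbf6000bf5c) (.leaf 0x10202040005000703040103000c)))) (.node 48998 (.node 48996 (.leaf 0x0) (.node 48997 (.leaf 0x0) (.leaf 0xa0a0002))) (.node 48999 (.leaf 0x0) (.node 49000 (.leaf 0x0) (.leaf 0xb0b0002))))))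

def argWS_4340 : Store := (.node 49012 (.node 49006 (.node 49003 (.node 49002 (.leaf 0x206010400050202000701000b) (.leaf 0x0)) (.node 49004 (.leaf 0xd0b0b0003) (.node 49005 (.leaf 0x0) (.leaf 0xbf6c)))) (.node 49009 (.node 49007 (.leaf 0x60501010908050802040105000c) (.node 49008 (.leaf 0x0) (.leaf 0xb0a0f0003))) (.node 49010 (.leaf 0x0) (.node 49011 (.leaf 0xb0b0a0003) (.leaf 0x0))))) (.node 49018 (.node 49015 (.node 49013 (.leaf 0x0) (.node 49014 (.leaf 0xb0a0002) (.leaf 0x3070009030006))) (.node 49016 (.leaf 0x0) (.node 49017 (.leaf 0xb0b0a0a0004) (.leaf 0x0)))) (.node 49021 (.node 49019 (.leaf 0xbf79) (.node 49020 (.leaf 0xf0b0a0a0004) (.leaf 0x0))) (.node 49022 (.leaf 0xb0b0a0003) (.node 49023 (.leaf 0x0) (.leaf 0x0))))))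

def argWS_4341 : Store := (.node 49001 argWS_4339 argWS_4340)

def argWS_4342 : Store := (.node 49035 (.node 49029 (.node 49026 (.node 49025 (.leaf 0x107030401030006) (.leaf 0x0)) (.node 49027 (.leaf 0xf0a0002) (.node 49028 (.leaf 0x0) (.leaf 0x604000002080400000703040103000e)))) (.node 49032 (.node 49030 (.leaf 0x0) (.node 49031 (.leaf 0xb0b0002) (.leaf 0x0))) (.node 49033 (.leaf 0x2060004080703040103000a) (.node 49034 (.leaf 0x0) (.leaf 0xe0001))))) (.node 49041 (.node 49038 (.node 49036 (.leaf 0x0) (.node 49037 (.leaf 0xbf8b00bf87) (.leaf 0xb0f0002))) (.node 49039 (.leaf 0x0) (.node 49040 (.leaf 0x7010908050202000701000a) (.leaf 0x0)))) (.node 49044 (.node 49042 (.leaf 0xe0d0002) (.node 49043 (.leaf 0xb0b0a0a0004) (.leaf 0x901040007030401030009))) (.node 49045 (.leaf 0x0) (.node 49046 (.leaf 0xd0001) (.leaf 0x0))))))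

def argWS_4343 : Store := (.node 49058 (.node 49052 (.node 49049 (.node 49048 (.leaf 0xbf96) (.leaf 0xf0b0b0003)) (.node 49050 (.leaf 0x0) (.node 49051 (.leaf 0x80002) (.leaf 0x0)))) (.node 49055 (.node 49053 (.leaf 0xf0b0b0a0004) (.node 49054 (.leaf 0xf0a0002) (.leaf 0xbf9d))) (.node 49056 (.leaf 0xe0001) (.node 49057 (.leaf 0x0) (.leaf 0xb0f0002))))) (.node 49064 (.node 49061 (.node 49059 (.leaf 0x0) (.node 49060 (.leaf 0x0) (.leaf 0xf0b0b0a0004))) (.node 49062 (.leaf 0xb0f0002) (.node 49063 (.leaf 0x10300090206020802040105000c) (.leaf 0x0)))) (.node 49067 (.node 49065 (.leaf 0xa0a0002) (.node 49066 (.leaf 0x0) (.leaf 0xbfa900bfa5))) (.node 49068 (.leaf 0xd0b0b0003) (.node 49069 (.leaf 0x0) (.leaf 0x10202050206040802040105000c))))))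

def argWS_4344 : Store := (.node 49047 argWS_4342 argWS_4343)

def argWS_4345 : Store := (.node 49024 argWS_4341 argWS_4344)

def argWS_4346 : Store := (.node 48979 argWS_4338 argWS_4345)

def argWS_4347 : Store := (.node 48889 argWS_4331 argWS_4346)

def argWS_4348 : Store := (.node 48709 argWS_4316 argWS_4347)

def argWS_4349 : Store := (.node 48348 argWS_4285 argWS_4348)

def argWS_4350 : Store := (.node 47627 argWS_4222 argWS_4349)

def argWS_4351 : Store := (.node 49081 (.node 49075 (.node 49072 (.node 49071 (.leaf 0x0) (.leaf 0xe0a0002)) (.node 49073 (.leaf 0xf0b0b0a0a0005) (.node 49074 (.leaf 0x2090102000003010802040105000d) (.leaf 0x0)))) (.node 49078 (.node 49076 (.leaf 0xf0b0b0a0a0005) (.node 49077 (.leaf 0x0) (.leaf 0xb0a0a0003))) (.node 49079 (.leaf 0xbfb500bfb4) (.node 49080 (.leaf 0xa0001) (.leaf 0x0))))) (.node 49086 (.node 49083 (.node 49082 (.leaf 0x1020008020401050008) (.leaf 0x0)) (.node 49084 (.leaf 0xb0b0002) (.node 49085 (.leaf 0x20200000408010802040105000c)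 (.leaf 0x0)))) (.node 49089 (.node 49087 (.leaf 0xb0a0f0003) (.node 49088 (.leaf 0x0) (.leaf 0xd0001))) (.node 49090 (.leaf 0xbfc000bfbf) (.node 49091 (.leaf 0x50106060004) (.leaf 0x0))))))

def argWS_4352 : Store := (.node 49103 (.node 49097 (.node 49094 (.node 49093 (.leaf 0xd0b0b0003) (.leaf 0x0)) (.node 49095 (.leaf 0xf0b0a0a0004) (.node 49096 (.leaf 0x0) (.leaf 0x0)))) (.node 49100 (.node 49098 (.leaf 0xb0f0a0003) (.node 49099 (.leaf 0xf0001) (.leaf 0xbfca))) (.node 49101 (.leaf 0xe0001) (.node 49102 (.leaf 0x0) (.leaf 0xd0b0b0003))))) (.node 49109 (.node 49106 (.node 49104 (.leaf 0x0) (.node 49105 (.leaf 0x0) (.leaf 0x8050005020202010802040105000d))) (.node 49107 (.leaf 0x0) (.node 49108 (.leaf 0xb0001) (.leaf 0x0)))) (.node 49112 (.node 49110 (.leaf 0x10903090000090007) (.node 49111 (.leaf 0x0) (.leaf 0x0))) (.node 49113 (.leaf 0xbfd7) (.node 49114 (.leaf 0xb0f0a0003) (.leaf 0x0))))))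

def argWS_4353 : Store := (.node 49092 argWS_4351 argWS_4352)

def argWS_4354 : Store := (.node 49126 (.node 49120 (.node 49117 (.node 49116 (.leaf 0xf0b0b0a0004) (.leaf 0x0)) (.node 49118 (.leaf 0x0) (.node 49119 (.leaf 0xb0f0002) (.leaf 0x300000300000006)))) (.node 49123 (.node 49121 (.leaf 0x0) (.node 49122 (.leaf 0xf0b0b0a0004) (.leaf 0x0))) (.node 49124 (.leaf 0xbfe2) (.node 49125 (.leaf 0xb0f0a0003) (.leaf 0x0))))) (.node 49131 (.node 49128 (.node 49127 (.leaf 0xa0a0002) (.leaf 0x0)) (.node 49129 (.leaf 0x0) (.node 49130 (.leaf 0xb0a0f0003) (.leaf 0x800000003030604000703040103000e)))) (.node 49134 (.node 49132 (.leaf 0x0) (.node 49133 (.leaf 0xf0b0a0003) (.leaf 0x0))) (.node 49135 (.leaf 0xbfed) (.node 49136 (.leaf 0xe0d0002) (.leaf 0x0))))))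

def argWS_4355 : Store := (.node 49148 (.node 49142 (.node 49139 (.node 49138 (.leaf 0xa0f0002) (.leaf 0x0)) (.node 49140 (.leaf 0x0) (.node 49141 (.leaf 0x90104010904020802040105000c) (.leaf 0x0)))) (.node 49145 (.node 49143 (.leaf 0xa0f0b0003) (.node 49144 (.leaf 0x0) (.leaf 0xb0a0f0003))) (.node 49146 (.leaf 0xbff800bff7) (.node 49147 (.leaf 0xf0b0b0a0a0005) (.leaf 0x0))))) (.node 49154 (.node 49151 (.node 49149 (.leaf 0xf0a0a0003) (.node 49150 (.leaf 0x0) (.leaf 0xb0a0f0003))) (.node 49152 (.leaf 0xf0b0b0003) (.node 49153 (.leaf 0x50003010102000007) (.leaf 0x0)))) (.node 49157 (.node 49155 (.leaf 0xf0a0a0003) (.node 49156 (.leaf 0x0) (.leaf 0xc00300bfff))) (.node 49158 (.leaf 0x503010703060006) (.node 49159 (.leaf 0x0) (.leaf 0xb0a0002))))))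

def argWS_4356 : Store := (.node 49137 argWS_4354 argWS_4355)

def argWS_4357 : Store := (.node 49115 argWS_4353 argWS_4356)

def argWS_4358 : Store := (.node 49171 (.node 49165 (.node 49162 (.node 49161 (.leaf 0x0) (.leaf 0xb0a0002)) (.node 49163 (.leaf 0x0) (.node 49164 (.leaf 0x0) (.leaf 0x102010904020202000701000b)))) (.node 49168 (.node 49166 (.leaf 0x0) (.node 49167 (.leaf 0xb0f0a0a0004) (.leaf 0x0))) (.node 49169 (.leaf 0xc00f) (.node 49170 (.leaf 0xd0b0002) (.leaf 0x0))))) (.node 49176 (.node 49173 (.node 49172 (.leaf 0x900090806000007) (.leaf 0x0)) (.node 49174 (.leaf 0xa0f0b0003) (.node 49175 (.leaf 0x101070206000202000701000b) (.leaf 0x0)))) (.node 49179 (.node 49177 (.leaf 0xb0001) (.node 49178 (.leaf 0x0) (.leaf 0xb0b0a0003))) (.node 49180 (.leaf 0xc01a009245) (.node 49181 (.leaf 0xb0b0a0003) (.leaf 0x0))))))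

def argWS_4359 : Store := (.node 49193 (.node 49187 (.node 49184 (.node 49183 (.leaf 0xf0b0b0003) (.leaf 0x0)) (.node 49185 (.leaf 0x0) (.node 49186 (.leaf 0x70503010102000802040105000c) (.leaf 0x0)))) (.node 49190 (.node 49188 (.leaf 0xa0f0b0003) (.node 49189 (.leaf 0x0) (.leaf 0x9030306040802040105000a))) (.node 49191 (.leaf 0x0) (.node 49192 (.leaf 0xe0a0002) (.leaf 0x0))))) (.node 49199 (.node 49196 (.node 49194 (.leaf 0x102010207030006) (.node 49195 (.leaf 0x0) (.leaf 0xd0001))) (.node 49197 (.leaf 0x0) (.node 49198 (.leaf 0xc02c00c028) (.leaf 0xb0b0002)))) (.node 49202 (.node 49200 (.leaf 0x0) (.node 49201 (.leaf 0xa0f0002) (.leaf 0x0))) (.node 49203 (.leaf 0x0) (.node 49204 (.leaf 0xf0b0b0a0a0005) (.leaf 0xb0a0a0003))))))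

def argWS_4360 : Store := (.node 49182 argWS_4358 argWS_4359)

def argWS_4361 : Store := (.node 49216 (.node 49210 (.node 49207 (.node 49206 (.leaf 0x3070000090206020202000701000d) (.leaf 0x0)) (.node 49208 (.leaf 0xa0f0b0b0004) (.node 49209 (.leaf 0x0) (.leaf 0xc03800c034)))) (.node 49213 (.node 49211 (.leaf 0xb0f0a0a0004) (.node 49212 (.leaf 0x0) (.leaf 0xb0f0002))) (.node 49214 (.leaf 0x0) (.node 49215 (.leaf 0x0) (.leaf 0xf0b0002))))) (.node 49221 (.node 49218 (.node 49217 (.leaf 0x400020804000802040105000c) (.leaf 0x0)) (.node 49219 (.leaf 0xf0b0a0003) (.node 49220 (.leaf 0x0) (.leaf 0xe0001)))) (.node 49224 (.node 49222 (.leaf 0xc04400c043) (.node 49223 (.leaf 0x202010703060802040105000b) (.leaf 0x0))) (.node 49225 (.leaf 0xf0001) (.node 49226 (.leaf 0x0) (.leaf 0x0))))))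

def argWS_4362 : Store := (.node 49238 (.node 49232 (.node 49229 (.node 49228 (.leaf 0xf0001) (.leaf 0x60609020602000703040103000c)) (.node 49230 (.leaf 0x0) (.node 49231 (.leaf 0x0) (.leaf 0xd0b0002)))) (.node 49235 (.node 49233 (.leaf 0xc04f00c04e) (.node 49234 (.leaf 0xb0001) (.leaf 0x0))) (.node 49236 (.leaf 0xb0a0a0003) (.node 49237 (.leaf 0x0) (.leaf 0x0))))) (.node 49244 (.node 49241 (.node 49239 (.leaf 0x606010500020007) (.node 49240 (.leaf 0x0) (.leaf 0xb0b0a0003))) (.node 49242 (.leaf 0x0) (.node 49243 (.leaf 0x70101050206040202000701000c) (.leaf 0x0)))) (.node 49247 (.node 49245 (.leaf 0xd0b0002) (.node 49246 (.leaf 0x0) (.leaf 0xc05d))) (.node 49248 (.leaf 0xb0b0002) (.node 49249 (.leaf 0x0) (.leaf 0x600020901060007))))))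

def argWS_4363 : Store := (.node 49227 argWS_4361 argWS_4362)

def argWS_4364 : Store := (.node 49205 argWS_4360 argWS_4363)

def argWS_4365 : Store := (.node 49160 argWS_4357 argWS_4364)

def argWS_4366 : Store := (.node 49261 (.node 49255 (.node 49252 (.node 49251 (.leaf 0x0) (.leaf 0xf0b0b0003)) (.node 49253 (.leaf 0xb0a0a0003) (.node 49254 (.leaf 0x2000202090000000703040103000d) (.leaf 0x0)))) (.node 49258 (.node 49256 (.leaf 0xd0b0b0003) (.node 49257 (.leaf 0x0) (.leaf 0xc068))) (.node 49259 (.leaf 0x40000020804000202000701000c) (.node 49260 (.leaf 0x0) (.leaf 0xf0a0a0003))))) (.node 49266 (.node 49263 (.node 49262 (.leaf 0x0) (.leaf 0xe0a0002)) (.node 49264 (.leaf 0x0) (.node 49265 (.leaf 0x0) (.leaf 0xe0001)))) (.node 49269 (.node 49267 (.leaf 0x20106020007010007) (.node 49268 (.leaf 0x0) (.leaf 0xd0b0b0003))) (.node 49270 (.leaf 0x0) (.node 49271 (.leaf 0xc075) (.leaf 0xf0b0a0a0004))))))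

def argWS_4367 : Store := (.node 49283 (.node 49277 (.node 49274 (.node 49273 (.leaf 0x0) (.leaf 0xb0f0002)) (.node 49275 (.leaf 0x0) (.node 49276 (.leaf 0x0) (.leaf 0xb0a0a0003)))) (.node 49280 (.node 49278 (.leaf 0xa0001) (.node 49279 (.leaf 0x9020602000703040103000c) (.leaf 0x0))) (.node 49281 (.leaf 0xe0a0a0003) (.node 49282 (.leaf 0x0) (.leaf 0xc08100c07d))))) (.node 49289 (.node 49286 (.node 49284 (.leaf 0xf0b0a0003) (.node 49285 (.leaf 0x0) (.leaf 0xe0001))) (.node 49287 (.leaf 0x0) (.node 49288 (.leaf 0x0) (.leaf 0xf0b0b0a0a0005)))) (.node 49292 (.node 49290 (.leaf 0xb0f0a0a0004) (.node 49291 (.leaf 0x8030904020802040105000a) (.leaf 0x0))) (.node 49293 (.leaf 0x0) (.node 49294 (.leaf 0xc08c00c089) (.leaf 0xb0b0002))))))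

def argWS_4368 : Store := (.node 49272 argWS_4366 argWS_4367)

def argWS_4369 : Store := (.node 49306 (.node 49300 (.node 49297 (.node 49296 (.leaf 0x0) (.leaf 0xb0a0002)) (.node 49298 (.leaf 0x0) (.node 49299 (.leaf 0x0) (.leaf 0x603030306040802040105000b)))) (.node 49303 (.node 49301 (.leaf 0x0) (.node 49302 (.leaf 0xf0b0b0a0a0005) (.leaf 0x0))) (.node 49304 (.leaf 0xb0b0a0003) (.node 49305 (.leaf 0xa0a0002) (.leaf 0xc09800c097))))) (.node 49311 (.node 49308 (.node 49307 (.leaf 0xf0b0b0a0004) (.leaf 0x0)) (.node 49309 (.leaf 0x4030306040005) (.node 49310 (.leaf 0x0) (.leaf 0xe0001)))) (.node 49314 (.node 49312 (.leaf 0x20903070206000802040105000c) (.node 49313 (.leaf 0x0) (.leaf 0xd0b0b0003))) (.node 49315 (.leaf 0x0) (.node 49316 (.leaf 0x202020007010007) (.leaf 0x0))))))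

def argWS_4370 : Store := (.node 49328 (.node 49322 (.node 49319 (.node 49318 (.leaf 0xf0b0b0003) (.leaf 0x0)) (.node 49320 (.leaf 0xbdf700c0a6) (.node 49321 (.leaf 0xb0b0a0a0004) (.leaf 0x0)))) (.node 49325 (.node 49323 (.leaf 0x40003010703060007) (.node 49324 (.leaf 0x0) (.leaf 0xf0b0b0a0a0005))) (.node 49326 (.leaf 0xf0b0b0a0004) (.node 49327 (.leaf 0x9050106060202000701000a) (.leaf 0x0))))) (.node 49334 (.node 49331 (.node 49329 (.leaf 0x0) (.node 49330 (.leaf 0x4030904020802040105000a) (.leaf 0x0))) (.node 49332 (.leaf 0xd0001) (.node 49333 (.leaf 0x0) (.leaf 0xc0b400c0b0)))) (.node 49337 (.node 49335 (.leaf 0xa0f0b0b0004) (.node 49336 (.leaf 0x0) (.leaf 0xf0b0a0003))) (.node 49338 (.leaf 0x0) (.node 49339 (.leaf 0x0) (.leaf 0xd0b0002))))))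

def argWS_4371 : Store := (.node 49317 argWS_4369 argWS_4370)

def argWS_4372 : Store := (.node 49295 argWS_4368 argWS_4371)

def argWS_4373 : Store := (.node 49351 (.node 49345 (.node 49342 (.node 49341 (.leaf 0xb0a0002) (.leaf 0xa0001)) (.node 49343 (.leaf 0xc0bd00c0bc) (.node 49344 (.leaf 0xe0a0a0003) (.leaf 0x0)))) (.node 49348 (.node 49346 (.leaf 0xa0001) (.node 49347 (.leaf 0x0) (.leaf 0x0))) (.node 49349 (.leaf 0xb0a0f0003) (.node 49350 (.leaf 0xb0b0a0003) (.leaf 0xc0c5))))) (.node 49356 (.node 49353 (.node 49352 (.leaf 0xb0b0002) (.leaf 0x0)) (.node 49354 (.leaf 0xa0f0b0b0004) (.node 49355 (.leaf 0x0) (.leaf 0x0)))) (.node 49359 (.node 49357 (.leaf 0x601050002000703040103000b) (.node 49358 (.leaf 0x0) (.leaf 0xb0a0a0003))) (.node 49360 (.leaf 0x0) (.node 49361 (.leaf 0xf0b0a0a0004) (.leaf 0xf0b0a0003))))))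

def argWS_4374 : Store := (.node 49373 (.node 49367 (.node 49364 (.node 49363 (.leaf 0xc0d100c0d0) (.leaf 0xb0f0a0a0004)) (.node 49365 (.leaf 0x0) (.node 49366 (.leaf 0xf0001) (.leaf 0x0)))) (.node 49370 (.node 49368 (.leaf 0x0) (.node 49369 (.leaf 0x307000207030802040105000b) (.leaf 0x0))) (.node 49371 (.leaf 0xb0f0a0003) (.node 49372 (.leaf 0x0) (.leaf 0xf0a0a0003))))) (.node 49379 (.node 49376 (.node 49374 (.leaf 0xc0dc00c0db) (.node 49375 (.leaf 0x907070209020006) (.leaf 0x0))) (.node 49377 (.leaf 0xa0f0002) (.node 49378 (.leaf 0x0) (.leaf 0xd0b0b0003)))) (.node 49382 (.node 49380 (.leaf 0x0) (.node 49381 (.leaf 0x0) (.leaf 0xb0a0002))) (.node 49383 (.leaf 0x9070400050202000701000a) (.node 49384 (.leaf 0x0) (.leaf 0xb0b0a0a0004))))))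

def argWS_4375 : Store := (.node 49362 argWS_4373 argWS_4374)

def argWS_4376 : Store := (.node 49396 (.node 49390 (.node 49387 (.node 49386 (.leaf 0x0) (.leaf 0xc0e900177d)) (.node 49388 (.leaf 0xb0f0002) (.node 49389 (.leaf 0x0) (.leaf 0xa0f0b0b0004)))) (.node 49393 (.node 49391 (.leaf 0x0) (.node 49392 (.leaf 0x0) (.leaf 0x600020901060802040105000b))) (.node 49394 (.leaf 0x0) (.node 49395 (.leaf 0xb0a0f0003) (.leaf 0x0))))) (.node 49401 (.node 49398 (.node 49397 (.leaf 0xc0f3) (.leaf 0xd0b0002)) (.node 49399 (.leaf 0x0) (.node 49400 (.leaf 0xf0b0a0003) (.leaf 0x0)))) (.node 49404 (.node 49402 (.leaf 0x0) (.node 49403 (.leaf 0xb0a0f0003) (.leaf 0xe0d0002))) (.node 49405 (.leaf 0x60005020202010802040105000c) (.node 49406 (.leaf 0x0) (.leaf 0xa0f0002))))))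

def argWS_4377 : Store := (.node 49418 (.node 49412 (.node 49409 (.node 49408 (.leaf 0x0) (.leaf 0xc0ff00c0fb)) (.node 49410 (.leaf 0xf0b0b0003) (.node 49411 (.leaf 0x0) (.leaf 0xf0b0a0a0004)))) (.node 49415 (.node 49413 (.leaf 0x0) (.node 49414 (.leaf 0x0) (.leaf 0x2080600000703040103000a))) (.node 49416 (.leaf 0x0) (.node 49417 (.leaf 0xa0f0b0b0004) (.leaf 0x0))))) (.node 49424 (.node 49421 (.node 49419 (.leaf 0xf0b0a0a0004) (.node 49420 (.leaf 0xb0f0a0003) (.leaf 0xc10b00c10a))) (.node 49422 (.leaf 0xb0a0002) (.node 49423 (.leaf 0x0) (.leaf 0xb0f0a0003)))) (.node 49427 (.node 49425 (.leaf 0x0) (.node 49426 (.leaf 0x0) (.leaf 0xd0b0002))) (.node 49428 (.leaf 0x0) (.node 49429 (.leaf 0x4000003010202000701000a) (.leaf 0x0))))))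

def argWS_4378 : Store := (.node 49407 argWS_4376 argWS_4377)

def argWS_4379 : Store := (.node 49385 argWS_4375 argWS_4378)

def argWS_4380 : Store := (.node 49340 argWS_4372 argWS_4379)

def argWS_4381 : Store := (.node 49250 argWS_4365 argWS_4380)

def argWS_4382 : Store := (.node 49441 (.node 49435 (.node 49432 (.node 49431 (.leaf 0xd0b0002) (.leaf 0x0)) (.node 49433 (.leaf 0xc117) (.node 49434 (.leaf 0xe0a0a0003) (.leaf 0x0)))) (.node 49438 (.node 49436 (.leaf 0xb0a0a0003) (.node 49437 (.leaf 0x0) (.leaf 0x0))) (.node 49439 (.leaf 0xf0b0a0a0004) (.node 49440 (.leaf 0xa0f0b0003) (.leaf 0x20002090009000703040103000c))))) (.node 49446 (.node 49443 (.node 49442 (.leaf 0x0) (.leaf 0xb0f0a0a0004)) (.node 49444 (.leaf 0x0) (.node 49445 (.leaf 0xc12300c11f) (.leaf 0x9070206030802040105000a)))) (.node 49449 (.node 49447 (.leaf 0x0) (.node 49448 (.leaf 0xa0a0002) (.leaf 0x0))) (.node 49450 (.leaf 0xd0b0002) (.node 49451 (.leaf 0x0) (.leaf 0x0))))))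

def argWS_4383 : Store := (.node 49463 (.node 49457 (.node 49454 (.node 49453 (.leaf 0xe0d0002) (.leaf 0xf0b0002)) (.node 49455 (.leaf 0xc12d) (.node 49456 (.leaf 0xf0a0a0003) (.leaf 0x0)))) (.node 49460 (.node 49458 (.leaf 0xf0b0002) (.node 49459 (.leaf 0x0) (.leaf 0x0))) (.node 49461 (.leaf 0x601020206030006) (.node 49462 (.leaf 0x0) (.leaf 0xe0d0002))))) (.node 49469 (.node 49466 (.node 49464 (.leaf 0x0) (.node 49465 (.leaf 0x207070206000006) (.leaf 0x0))) (.node 49467 (.leaf 0xa0f0b0003) (.node 49468 (.leaf 0x0) (.leaf 0xc13b)))) (.node 49472 (.node 49470 (.leaf 0xf0b0a0003) (.node 49471 (.leaf 0x0) (.leaf 0x20502020603000703040103000c))) (.node 49473 (.leaf 0x0) (.node 49474 (.leaf 0xe0001) (.leaf 0xe0001))))))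

def argWS_4384 : Store := (.node 49452 argWS_4382 argWS_4383)

def argWS_4385 : Store := (.node 49486 (.node 49480 (.node 49477 (.node 49476 (.leaf 0x0) (.leaf 0xb0a0f0003)) (.node 49478 (.leaf 0xf0b0b0003) (.node 49479 (.leaf 0xc145) (.leaf 0xa0a0002)))) (.node 49483 (.node 49481 (.leaf 0x0) (.node 49482 (.leaf 0x209030900090202000701000b) (.leaf 0x0))) (.node 49484 (.leaf 0xb0a0f0003) (.node 49485 (.leaf 0x10207020902000703040103000c) (.leaf 0x0))))) (.node 49491 (.node 49488 (.node 49487 (.leaf 0xf0b0b0003) (.leaf 0x0)) (.node 49489 (.leaf 0xc14f) (.node 49490 (.leaf 0xa0a0002) (.leaf 0x0)))) (.node 49494 (.node 49492 (.leaf 0x0) (.node 49493 (.leaf 0x605010703060202000701000b) (.leaf 0x0))) (.node 49495 (.leaf 0xa0f0b0003) (.node 49496 (.leaf 0x0) (.leaf 0x6020105020202010802040105000d))))))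

def argWS_4386 : Store := (.node 49508 (.node 49502 (.node 49499 (.node 49498 (.leaf 0x0) (.leaf 0xb0b0a0a0004)) (.node 49500 (.leaf 0x0) (.node 49501 (.leaf 0xc15b007645) (.leaf 0xf0001)))) (.node 49505 (.node 49503 (.leaf 0x0) (.node 49504 (.leaf 0xe0a0002) (.leaf 0x0))) (.node 49506 (.leaf 0x0) (.node 49507 (.leaf 0xb0b0a0a0004) (.leaf 0x2000006030500040202000701000d))))) (.node 49514 (.node 49511 (.node 49509 (.leaf 0x0) (.node 49510 (.leaf 0xb0a0002) (.leaf 0x0))) (.node 49512 (.leaf 0x4000502020007010009) (.node 49513 (.leaf 0x0) (.leaf 0xb0001)))) (.node 49517 (.node 49515 (.leaf 0x0) (.node 49516 (.leaf 0xc16a00c166) (.leaf 0xb0b0a0a0004))) (.node 49518 (.leaf 0x0) (.node 49519 (.leaf 0xb0b0a0a0004) (.leaf 0x0))))))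

def argWS_4387 : Store := (.node 49497 argWS_4385 argWS_4386)

def argWS_4388 : Store := (.node 49475 argWS_4384 argWS_4387)

def argWS_4389 : Store := (.node 49531 (.node 49525 (.node 49522 (.node 49521 (.leaf 0x0) (.leaf 0x50101090805000703040103000c)) (.node 49523 (.leaf 0x0) (.node 49524 (.leaf 0xb0f0a0a0004) (.leaf 0x0)))) (.node 49528 (.node 49526 (.leaf 0x7000000030000000703040103000d) (.node 49527 (.leaf 0x0) (.leaf 0xb0001))) (.node 49529 (.leaf 0x0) (.node 49530 (.leaf 0xc178) (.leaf 0xb0b0a0a0004))))) (.node 49536 (.node 49533 (.node 49532 (.leaf 0x0) (.leaf 0xf0b0a0003)) (.node 49534 (.leaf 0x0) (.node 49535 (.leaf 0x0) (.leaf 0x6010201020703000703040103000d)))) (.node 49539 (.node 49537 (.leaf 0x0) (.node 49538 (.leaf 0xb0a0a0003) (.leaf 0x0))) (.node 49540 (.leaf 0xa0f0002) (.node 49541 (.leaf 0x2010901090202000701000a) (.leaf 0x0))))))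

def argWS_4390 : Store := (.node 49553 (.node 49547 (.node 49544 (.node 49543 (.leaf 0xf0a0a0003) (.leaf 0x0)) (.node 49545 (.leaf 0xc18700c183) (.node 49546 (.leaf 0xb0a0a0003) (.leaf 0x0)))) (.node 49550 (.node 49548 (.leaf 0x9030007000902000701000a) (.node 49549 (.leaf 0x0) (.leaf 0xa0f0b0003))) (.node 49551 (.leaf 0xa0a0002) (.node 49552 (.leaf 0xa0f0002) (.leaf 0x0))))) (.node 49559 (.node 49556 (.node 49554 (.leaf 0xb0a0a0003) (.node 49555 (.leaf 0xc19100c190) (.leaf 0xf0b0a0003))) (.node 49557 (.leaf 0x0) (.node 49558 (.leaf 0xf0b0002) (.leaf 0x0)))) (.node 49562 (.node 49560 (.leaf 0x0) (.node 49561 (.leaf 0x70002020007010007) (.leaf 0x0))) (.node 49563 (.leaf 0xb0001) (.node 49564 (.leaf 0x0) (.leaf 0xa0001))))))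

def argWS_4391 : Store := (.node 49542 argWS_4389 argWS_4390)

def argWS_4392 : Store := (.node 49576 (.node 49570 (.node 49567 (.node 49566 (.leaf 0xc19c00c19b) (.leaf 0x40004000408010202000701000c)) (.node 49568 (.leaf 0x0) (.node 49569 (.leaf 0xb0f0a0a0004) (.leaf 0x0)))) (.node 49573 (.node 49571 (.leaf 0xb0b0a0003) (.node 49572 (.leaf 0x0) (.leaf 0x0))) (.node 49574 (.leaf 0x50200050206040802040105000c) (.node 49575 (.leaf 0x0) (.leaf 0xb0f0a0a0004))))) (.node 49581 (.node 49578 (.node 49577 (.leaf 0x0) (.leaf 0x2000002000003010202000701000d)) (.node 49579 (.leaf 0x0) (.node 49580 (.leaf 0xf0b0b0a0a0005) (.leaf 0x0)))) (.node 49584 (.node 49582 (.leaf 0xb0f0002) (.node 49583 (.leaf 0xc1ad00c1ac) (.leaf 0xe0a0a0003))) (.node 49585 (.leaf 0x0) (.node 49586 (.leaf 0x7000308000703040103000a) (.leaf 0x0))))))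

def argWS_4393 : Store := (.node 49598 (.node 49592 (.node 49589 (.node 49588 (.leaf 0xf0001) (.leaf 0xf0a0002)) (.node 49590 (.leaf 0xa0001) (.node 49591 (.leaf 0x102010703060006) (.leaf 0x0)))) (.node 49595 (.node 49593 (.leaf 0xe0a0002) (.node 49594 (.leaf 0x0) (.leaf 0xc1b900c1b5))) (.node 49596 (.leaf 0xf0b0b0003) (.node 49597 (.leaf 0x0) (.leaf 0xb0001))))) (.node 49604 (.node 49601 (.node 49599 (.leaf 0x0) (.node 49600 (.leaf 0x0) (.leaf 0xf0b0a0a0004))) (.node 49602 (.leaf 0x70003010102000802040105000c) (.node 49603 (.leaf 0x0) (.leaf 0xb0001)))) (.node 49607 (.node 49605 (.leaf 0x0) (.node 49606 (.leaf 0x502020901060802040105000b) (.leaf 0x0))) (.node 49608 (.leaf 0xe0a0a0003) (.node 49609 (.leaf 0x0) (.leaf 0xc1c800c1c4))))))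

def argWS_4394 : Store := (.node 49587 argWS_4392 argWS_4393)

def argWS_4395 : Store := (.node 49565 argWS_4391 argWS_4394)

def argWS_4396 : Store := (.node 49520 argWS_4388 argWS_4395)

def argWS_4397 : Store := (.node 49621 (.node 49615 (.node 49612 (.node 49611 (.leaf 0x20703060802040105000a) (.leaf 0x0)) (.node 49613 (.leaf 0xb0f0a0003) (.node 49614 (.leaf 0x0) (.leaf 0xa0f0b0003)))) (.node 49618 (.node 49616 (.leaf 0x0) (.node 49617 (.leaf 0x0) (.leaf 0xf0b0a0a0004))) (.node 49619 (.leaf 0x400050206040007) (.node 49620 (.leaf 0x0) (.leaf 0xf0b0a0a0004))))) (.node 49626 (.node 49623 (.node 49622 (.leaf 0x0) (.leaf 0xc1d5)) (.node 49624 (.leaf 0x9020106020702010202000701000d) (.node 49625 (.leaf 0x0) (.leaf 0xd0b0b0003)))) (.node 49629 (.node 49627 (.leaf 0x0) (.node 49628 (.leaf 0xf0a0a0003) (.leaf 0x0))) (.node 49630 (.leaf 0x0) (.node 49631 (.leaf 0x8020002020007010008) (.leaf 0x0))))))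

def argWS_4398 : Store := (.node 49643 (.node 49637 (.node 49634 (.node 49633 (.leaf 0xa0f0b0b0004) (.leaf 0x0)) (.node 49635 (.leaf 0x601020900090802040105000b) (.node 49636 (.leaf 0x0) (.leaf 0xb0f0002)))) (.node 49640 (.node 49638 (.leaf 0x0) (.node 49639 (.leaf 0xa0f0002) (.leaf 0xc1e600c1e5))) (.node 49641 (.leaf 0xa0f0b0003) (.node 49642 (.leaf 0x0) (.leaf 0x60500090206020202000701000c))))) (.node 49649 (.node 49646 (.node 49644 (.leaf 0x0) (.node 49645 (.leaf 0xb0a0002) (.leaf 0x800090000090202000701000b))) (.node 49647 (.leaf 0x0) (.node 49648 (.leaf 0x0) (.leaf 0xd0b0b0003)))) (.node 49652 (.node 49650 (.leaf 0xc1f000c1ef) (.node 49651 (.leaf 0xb0f0a0a0004) (.leaf 0x0))) (.node 49653 (.leaf 0xb0a0a0003) (.node 49654 (.leaf 0x0) (.leaf 0x0))))))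

def argWS_4399 : Store := (.node 49632 argWS_4397 argWS_4398)

def argWS_4400 : Store := (.node 49666 (.node 49660 (.node 49657 (.node 49656 (.leaf 0xb0b0a0003) (.leaf 0xb0a0a0003)) (.node 49658 (.leaf 0x30403090000090202000701000c) (.node 49659 (.leaf 0x0) (.leaf 0xb0f0a0003)))) (.node 49663 (.node 49661 (.leaf 0x0) (.node 49662 (.leaf 0xc1fc00c1f8) (.leaf 0x102020804000202000701000b))) (.node 49664 (.leaf 0x0) (.node 49665 (.leaf 0xf0b0a0003) (.leaf 0x0))))) (.node 49671 (.node 49668 (.node 49667 (.leaf 0xf0001) (.leaf 0x0)) (.node 49669 (.leaf 0x0) (.node 49670 (.leaf 0x902070207030401030009) (.leaf 0x0)))) (.node 49674 (.node 49672 (.leaf 0xa0f0b0003) (.node 49673 (.leaf 0x0) (.leaf 0xc208))) (.node 49675 (.leaf 0xb0f0002) (.node 49676 (.leaf 0x0) (.leaf 0x1030105020202010802040105000d))))))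

def argWS_4401 : Store := (.node 49688 (.node 49682 (.node 49679 (.node 49678 (.leaf 0x0) (.leaf 0xb0f0a0003)) (.node 49680 (.leaf 0xa0f0b0b0004) (.node 49681 (.leaf 0xf0b0a0a0004) (.leaf 0x200030306040007)))) (.node 49685 (.node 49683 (.leaf 0x0) (.node 49684 (.leaf 0xf0b0b0a0a0005) (.leaf 0x0))) (.node 49686 (.leaf 0x200020901060802040105000b) (.node 49687 (.leaf 0x0) (.leaf 0xe0001))))) (.node 49694 (.node 49691 (.node 49689 (.leaf 0x0) (.node 49690 (.leaf 0xc21800c214) (.leaf 0xf0b0b0003))) (.node 49692 (.leaf 0x0) (.node 49693 (.leaf 0xd0001) (.leaf 0x0)))) (.node 49697 (.node 49695 (.leaf 0x0) (.node 49696 (.leaf 0xd0b0002) (.leaf 0xf0a0a0003))) (.node 49698 (.leaf 0xa0f0002) (.node 49699 (.leaf 0xc22100c220) (.leaf 0x10406010500020802040105000c))))))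

def argWS_4402 : Store := (.node 49677 argWS_4400 argWS_4401)

def argWS_4403 : Store := (.node 49655 argWS_4399 argWS_4402)

def argWS_4404 : Store := (.node 49711 (.node 49705 (.node 49702 (.node 49701 (.leaf 0x0) (.leaf 0xa0a0002)) (.node 49703 (.leaf 0x0) (.node 49704 (.leaf 0xf0b0b0a0004) (.leaf 0x0)))) (.node 49708 (.node 49706 (.leaf 0x0) (.node 49707 (.leaf 0x20202020900000007) (.leaf 0x0))) (.node 49709 (.leaf 0xd0b0b0003) (.node 49710 (.leaf 0x0) (.leaf 0x90300090109000703040103000c))))) (.node 49716 (.node 49713 (.node 49712 (.leaf 0x0) (.leaf 0xa0a0002)) (.node 49714 (.leaf 0x0) (.node 49715 (.leaf 0x8000207020007010009) (.leaf 0x0)))) (.node 49719 (.node 49717 (.leaf 0xe0a0002) (.node 49718 (.leaf 0x0) (.leaf 0xc23500c231))) (.node 49720 (.leaf 0xb0b0a0003) (.node 49721 (.leaf 0x0) (.leaf 0xb0f0a0003))))))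

def argWS_4405 : Store := (.node 49733 (.node 49727 (.node 49724 (.node 49723 (.leaf 0x0) (.leaf 0x0)) (.node 49725 (.leaf 0xbe6c) (.node 49726 (.leaf 0xe0001) (.leaf 0x0)))) (.node 49730 (.node 49728 (.leaf 0xb0a0f0003) (.node 49729 (.leaf 0x0) (.leaf 0x0))) (.node 49731 (.leaf 0x4030006020702010202000701000d) (.node 49732 (.leaf 0x0) (.leaf 0xf0b0a0003))))) (.node 49739 (.node 49736 (.node 49734 (.leaf 0x0) (.node 49735 (.leaf 0x60002020007010007) (.leaf 0x0))) (.node 49737 (.leaf 0xf0001) (.node 49738 (.leaf 0x0) (.leaf 0xc249)))) (.node 49742 (.node 49740 (.leaf 0xb0a0002) (.node 49741 (.leaf 0x0) (.leaf 0xf0b0002))) (.node 49743 (.leaf 0x0) (.node 49744 (.leaf 0x0) (.leaf 0x6020106060006))))))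

def argWS_4406 : Store := (.node 49722 argWS_4404 argWS_4405)

def argWS_4407 : Store := (.node 49756 (.node 49750 (.node 49747 (.node 49746 (.leaf 0x0) (.leaf 0xb0f0002)) (.node 49748 (.leaf 0x0) (.node 49749 (.leaf 0xa0f0002) (.leaf 0xb7cf00c254)))) (.node 49753 (.node 49751 (.leaf 0xa0a0002) (.node 49752 (.leaf 0x0) (.leaf 0xe0001))) (.node 49754 (.leaf 0x0) (.node 49755 (.leaf 0x0) (.leaf 0x8020006020702010008))))) (.node 49762 (.node 49759 (.node 49757 (.leaf 0x0) (.node 49758 (.leaf 0xb0a0a0003) (.leaf 0x0))) (.node 49760 (.leaf 0x904000408010006) (.node 49761 (.leaf 0x0) (.leaf 0xb0f0a0003)))) (.node 49765 (.node 49763 (.leaf 0x0) (.node 49764 (.leaf 0xc262006f44) (.leaf 0xf0a0a0003))) (.node 49766 (.leaf 0x0) (.node 49767 (.leaf 0xf0a0a0003) (.leaf 0x0))))))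

def argWS_4408 : Store := (.node 49779 (.node 49773 (.node 49770 (.node 49769 (.leaf 0x0) (.leaf 0x502090000000703040103000c)) (.node 49771 (.leaf 0x0) (.node 49772 (.leaf 0xb0f0a0a0004) (.leaf 0x0)))) (.node 49776 (.node 49774 (.leaf 0x4030006010500020008) (.node 49775 (.leaf 0x0) (.leaf 0xb0a0002))) (.node 49777 (.leaf 0x0) (.node 49778 (.leaf 0x403070009030006) (.leaf 0x0))))) (.node 49785 (.node 49782 (.node 49780 (.leaf 0xe0d0002) (.node 49781 (.leaf 0x0) (.leaf 0xc27400c270))) (.node 49783 (.leaf 0xe0d0002) (.node 49784 (.leaf 0x0) (.leaf 0xf0b0a0003)))) (.node 49788 (.node 49786 (.leaf 0x0) (.node 49787 (.leaf 0x0) (.leaf 0xf0b0b0003))) (.node 49789 (.leaf 0xb0b0002) (.node 49790 (.leaf 0xc27c) (.leaf 0x603010207030006))))))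

def argWS_4409 : Store := (.node 49768 argWS_4407 argWS_4408)

def argWS_4410 : Store := (.node 49745 argWS_4406 argWS_4409)

def argWS_4411 : Store := (.node 49700 argWS_4403 argWS_4410)

def argWS_4412 : Store := (.node 49610 argWS_4396 argWS_4411)

def argWS_4413 : Store := (.node 49430 argWS_4381 argWS_4412)

def argWS_4414 : Store := (.node 49802 (.node 49796 (.node 49793 (.node 49792 (.leaf 0x0) (.leaf 0xb0f0002)) (.node 49794 (.leaf 0x0) (.node 49795 (.leaf 0xe0a0a0003) (.leaf 0x0)))) (.node 49799 (.node 49797 (.leaf 0x0) (.node 49798 (.leaf 0xa0a0002) (.leaf 0x306030007030401030009))) (.node 49800 (.leaf 0x0) (.node 49801 (.leaf 0xb0b0a0a0004) (.leaf 0x0))))) (.node 49807 (.node 49804 (.node 49803 (.leaf 0xc28900c285) (.leaf 0x7010908050006)) (.node 49805 (.leaf 0x0) (.node 49806 (.leaf 0xa0a0002) (.leaf 0x0)))) (.node 49810 (.node 49808 (.leaf 0xe0001) (.node 49809 (.leaf 0x0) (.leaf 0x0))) (.node 49811 (.leaf 0x701010904020202000701000b) (.node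 49812 (.leaf 0x0) (.leaf 0xb0f0a0a0004))))))

def argWS_4415 : Store := (.node 49824 (.node 49818 (.node 49815 (.node 49814 (.leaf 0x0) (.leaf 0x802000900090006)) (.node 49816 (.leaf 0x0) (.node 49817 (.leaf 0x0) (.leaf 0x8050000020804000802040105000d)))) (.node 49821 (.node 49819 (.leaf 0x0) (.node 49820 (.leaf 0xa0001) (.leaf 0x0))) (.node 49822 (.leaf 0xc29c00c298) (.node 49823 (.leaf 0xd0b0b0003) (.leaf 0x0))))) (.node 49830 (.node 49827 (.node 49825 (.leaf 0x5000009080600000703040103000d) (.node 49826 (.leaf 0x0) (.leaf 0xb0b0a0003))) (.node 49828 (.leaf 0xb0b0a0a0004) (.node 49829 (.leaf 0x40400050202000701000a) (.leaf 0x0)))) (.node 49833 (.node 49831 (.leaf 0xb0a0002) (.node 49832 (.leaf 0x0) (.leaf 0xd0001))) (.node 49834 (.leaf 0xc2a800c2a7) (.node 49835 (.leaf 0x9000002020007010008) (.leaf 0x0))))))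

def argWS_4416 : Store := (.node 49813 argWS_4414 argWS_4415)

def argWS_4417 : Store := (.node 49847 (.node 49841 (.node 49838 (.node 49837 (.leaf 0xb0b0002) (.leaf 0x0)) (.node 49839 (.leaf 0xe0001) (.node 49840 (.leaf 0x0) (.leaf 0x0)))) (.node 49844 (.node 49842 (.leaf 0xb0a0a0003) (.node 49843 (.leaf 0x400050206040802040105000b) (.leaf 0x0))) (.node 49845 (.leaf 0x0) (.node 49846 (.leaf 0x4030407020600000703040103000d) (.leaf 0x0))))) (.node 49852 (.node 49849 (.node 49848 (.leaf 0xb0f0a0a0004) (.leaf 0x0)) (.node 49850 (.leaf 0xc2b800c2b4) (.node 49851 (.leaf 0xb0f0002) (.leaf 0x0)))) (.node 49855 (.node 49853 (.leaf 0xb0b0002) (.node 49854 (.leaf 0x0) (.leaf 0x0))) (.node 49856 (.leaf 0x104000004080703040103000b) (.node 49857 (.leaf 0x0) (.leaf 0xb0b0002))))))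

def argWS_4418 : Store := (.node 49869 (.node 49863 (.node 49860 (.node 49859 (.leaf 0x0) (.leaf 0xe0a0002)) (.node 49861 (.leaf 0xc2c300c2c2) (.node 49862 (.leaf 0x30306040006) (.leaf 0x0)))) (.node 49866 (.node 49864 (.leaf 0xe0001) (.node 49865 (.leaf 0x0) (.leaf 0xf0a0a0003))) (.node 49867 (.leaf 0x0) (.node 49868 (.leaf 0x0) (.leaf 0xe0001))))) (.node 49875 (.node 49872 (.node 49870 (.leaf 0x402010606000703040103000b) (.node 49871 (.leaf 0x0) (.leaf 0xd0b0b0003))) (.node 49873 (.leaf 0x0) (.node 49874 (.leaf 0xc2d0) (.leaf 0xa0001)))) (.node 49878 (.node 49876 (.leaf 0x0) (.node 49877 (.leaf 0x9050303010102000008) (.leaf 0x0))) (.node 49879 (.leaf 0xf0b0b0a0004) (.node 49880 (.leaf 0xe0001) (.leaf 0xd0001))))))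

def argWS_4419 : Store := (.node 49858 argWS_4417 argWS_4418)

def argWS_4420 : Store := (.node 49836 argWS_4416 argWS_4419)

def argWS_4421 : Store := (.node 49892 (.node 49886 (.node 49883 (.node 49882 (.leaf 0xb0f0002) (.leaf 0xc2d900c2d8)) (.node 49884 (.leaf 0xa0001) (.node 49885 (.leaf 0x0) (.leaf 0x201010904020802040105000b)))) (.node 49889 (.node 49887 (.leaf 0x0) (.node 49888 (.leaf 0xa0a0002) (.leaf 0xf0001))) (.node 49890 (.leaf 0x601010703060006) (.node 49891 (.leaf 0x0) (.leaf 0x0))))) (.node 49897 (.node 49894 (.node 49893 (.leaf 0xc2e3) (.leaf 0xd0001)) (.node 49895 (.leaf 0x0) (.node 49896 (.leaf 0xb0b0a0003) (.leaf 0x0)))) (.node 49900 (.node 49898 (.leaf 0x0) (.node 49899 (.leaf 0xb0a0a0003) (.leaf 0x30701090805000703040103000c))) (.node 49901 (.leaf 0x0) (.node 49902 (.leaf 0xb0b0002) (.leaf 0x0))))))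

def argWS_4422 : Store := (.node 49914 (.node 49908 (.node 49905 (.node 49904 (.leaf 0x8000002080400000703040103000d) (.leaf 0x0)) (.node 49906 (.leaf 0xa0f0b0003) (.node 49907 (.leaf 0x0) (.leaf 0xc2f200c2ee)))) (.node 49911 (.node 49909 (.leaf 0xf0b0002) (.node 49910 (.leaf 0x0) (.leaf 0xf0001))) (.node 49912 (.leaf 0x0) (.node 49913 (.leaf 0x0) (.leaf 0xf0b0a0003))))) (.node 49920 (.node 49917 (.node 49915 (.leaf 0x600000301010200000703040103000e) (.node 49916 (.leaf 0x0) (.leaf 0xd0b0002))) (.node 49918 (.leaf 0x0) (.node 49919 (.leaf 0xd0001) (.leaf 0xc2fe00c2fd)))) (.node 49923 (.node 49921 (.leaf 0xb0f0a0a0004) (.node 49922 (.leaf 0x0) (.leaf 0xb0a0002))) (.node 49924 (.leaf 0x0) (.node 49925 (.leaf 0x0) (.leaf 0xb0b0a0a0004))))))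

def argWS_4423 : Store := (.node 49903 argWS_4421 argWS_4422)

def argWS_4424 : Store := (.node 49937 (.node 49931 (.node 49928 (.node 49927 (.leaf 0xf0b0a0003) (.leaf 0xc306)) (.node 49929 (.leaf 0xd0b0002) (.node 49930 (.leaf 0x0) (.leaf 0xb0001)))) (.node 49934 (.node 49932 (.leaf 0x0) (.node 49933 (.leaf 0x0) (.leaf 0xe0001))) (.node 49935 (.leaf 0x802000003030604000703040103000e) (.node 49936 (.leaf 0x0) (.leaf 0xf0b0b0a0004))))) (.node 49942 (.node 49939 (.node 49938 (.leaf 0x0) (.leaf 0x304020106060802040105000b)) (.node 49940 (.leaf 0x0) (.node 49941 (.leaf 0xb0a0f0003) (.leaf 0x0)))) (.node 49945 (.node 49943 (.leaf 0xc31500c311) (.node 49944 (.leaf 0xa0f0002) (.leaf 0x0))) (.node 49946 (.leaf 0xa0001) (.node 49947 (.leaf 0x0) (.leaf 0x0))))))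

def argWS_4425 : Store := (.node 49959 (.node 49953 (.node 49950 (.node 49949 (.leaf 0x7050901090005) (.leaf 0x0)) (.node 49951 (.leaf 0xd0b0002) (.node 49952 (.leaf 0x0) (.leaf 0x4000401050005)))) (.node 49956 (.node 49954 (.leaf 0x0) (.node 49955 (.leaf 0xf0b0a0a0004) (.leaf 0x0))) (.node 49957 (.leaf 0xd0001) (.node 49958 (.leaf 0xc32400c323) (.leaf 0xe0d0002))))) (.node 49965 (.node 49962 (.node 49960 (.leaf 0x0) (.node 49961 (.leaf 0x80002000003010008) (.leaf 0x0))) (.node 49963 (.leaf 0xa0f0b0003) (.node 49964 (.leaf 0xb0b0a0003) (.leaf 0xa0a0002)))) (.node 49968 (.node 49966 (.leaf 0xe0d0002) (.node 49967 (.leaf 0x0) (.leaf 0xc32e00c32c))) (.node 49969 (.leaf 0xa0f0002) (.node 49970 (.leaf 0x0) (.leaf 0xb0f0a0a0004))))))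

def argWS_4426 : Store := (.node 49948 argWS_4424 argWS_4425)

def argWS_4427 : Store := (.node 49926 argWS_4423 argWS_4426)

def argWS_4428 : Store := (.node 49881 argWS_4420 argWS_4427)

def argWS_4429 : Store := (.node 49982 (.node 49976 (.node 49973 (.node 49972 (.leaf 0x0) (.leaf 0x0)) (.node 49974 (.leaf 0xb0001) (.node 49975 (.leaf 0xf0b0a0003) (.leaf 0xc336)))) (.node 49979 (.node 49977 (.leaf 0x702090000090202000701000b) (.node 49978 (.leaf 0x0) (.leaf 0xb0a0a0003))) (.node 49980 (.leaf 0x0) (.node 49981 (.leaf 0xd0001) (.leaf 0x0))))) (.node 49987 (.node 49984 (.node 49983 (.leaf 0x0) (.leaf 0xf0b0a0a0004)) (.node 49985 (.leaf 0xf0b0b0a0004) (.node 49986 (.leaf 0xd0b0002) (.leaf 0xc34100c340)))) (.node 49990 (.node 49988 (.leaf 0xe0d0002) (.node 49989 (.leaf 0x0) (.leaf 0xf0a0a0003))) (.node 49991 (.leaf 0x0) (.node 49992 (.leaf 0x0) (.leaf 0xb0001))))))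

def argWS_4430 : Store := (.node 50004 (.node 49998 (.node 49995 (.node 49994 (.leaf 0x602000207030006) (.leaf 0x0)) (.node 49996 (.leaf 0xe0d0002) (.node 49997 (.leaf 0x0) (.leaf 0xc34c004b51)))) (.node 50001 (.node 49999 (.leaf 0xf0b0b0003) (.node 50000 (.leaf 0x0) (.leaf 0xe0a0002))) (.node 50002 (.leaf 0x0) (.node 50003 (.leaf 0x0) (.leaf 0x2040107000902000701000a))))) (.node 50010 (.node 50007 (.node 50005 (.leaf 0x0) (.node 50006 (.leaf 0xb0f0a0003) (.leaf 0x0))) (.node 50008 (.leaf 0x8030703060005) (.node 50009 (.leaf 0x0) (.leaf 0xb0f0a0a0004)))) (.node 50013 (.node 50011 (.leaf 0x0) (.node 50012 (.leaf 0x2020202010802040105000a) (.leaf 0x0))) (.node 50014 (.leaf 0xf0b0a0003) (.node 50015 (.leaf 0x0) (.leaf 0xc35e00c35a))))))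

def argWS_4431 : Store := (.node 49993 argWS_4429 argWS_4430)

def argWS_4432 : Store := (.node 50027 (.node 50021 (.node 50018 (.node 50017 (.leaf 0xb0001) (.leaf 0x0)) (.node 50019 (.leaf 0x90006010500020802040105000c) (.node 50020 (.leaf 0x0) (.leaf 0xa0f0002)))) (.node 50024 (.node 50022 (.leaf 0xa0f0b0003) (.node 50023 (.leaf 0xf0b0b0a0004) (.leaf 0x8af800c366))) (.node 50025 (.leaf 0xa0f0b0b0004) (.node 50026 (.leaf 0x0) (.leaf 0xa0a0002))))) (.node 50032 (.node 50029 (.node 50028 (.leaf 0x0) (.leaf 0x0)) (.node 50030 (.leaf 0xf0b0a0003) (.node 50031 (.leaf 0x105020003030604000703040103000e) (.leaf 0x0)))) (.node 50035 (.node 50033 (.leaf 0xb0b0a0003) (.node 50034 (.leaf 0x0) (.leaf 0x207030007030401030009))) (.node 50036 (.leaf 0x0) (.node 50037 (.leaf 0xf0b0002) (.leaf 0x0))))))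

def argWS_4433 : Store := (.node 50049 (.node 50043 (.node 50040 (.node 50039 (.leaf 0xc37500c371) (.leaf 0xe0a0a0003)) (.node 50041 (.leaf 0x0) (.node 50042 (.leaf 0xb0f0a0a0004) (.leaf 0x0)))) (.node 50046 (.node 50044 (.leaf 0x0) (.node 50045 (.leaf 0xf0001) (.leaf 0xe0a0002))) (.node 50047 (.leaf 0x10202010606000703040103000c) (.node 50048 (.leaf 0x0) (.leaf 0xf0b0b0a0a0005))))) (.node 50055 (.node 50052 (.node 50050 (.leaf 0x0) (.node 50051 (.leaf 0xc38100c37d) (.leaf 0xb0a0f0003))) (.node 50053 (.leaf 0x0) (.node 50054 (.leaf 0x4020603000703040103000a) (.leaf 0x0)))) (.node 50058 (.node 50056 (.leaf 0xe0a0002) (.node 50057 (.leaf 0xf0b0b0003) (.leaf 0xb0b0a0003))) (.node 50059 (.leaf 0xc389) (.node 50060 (.leaf 0x60007020902000703040103000c) (.leaf 0x0))))))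

def argWS_4434 : Store := (.node 50038 argWS_4432 argWS_4433)

def argWS_4435 : Store := (.node 50016 argWS_4431 argWS_4434)

def argWS_4436 : Store := (.node 50072 (.node 50066 (.node 50063 (.node 50062 (.leaf 0xa0f0b0003) (.leaf 0x0)) (.node 50064 (.leaf 0xe0001) (.node 50065 (.leaf 0x0) (.leaf 0x0)))) (.node 50069 (.node 50067 (.leaf 0xe0001) (.node 50068 (.leaf 0x800050206040006) (.leaf 0x0))) (.node 50070 (.leaf 0xf0b0b0a0a0005) (.node 50071 (.leaf 0x0) (.leaf 0xd0b0002))))) (.node 50077 (.node 50074 (.node 50073 (.leaf 0xc39700c396) (.leaf 0xb0a0002)) (.node 50075 (.leaf 0x0) (.node 50076 (.leaf 0x1030106010500020008) (.leaf 0x0)))) (.node 50080 (.node 50078 (.leaf 0x10201090009000703040103000c) (.node 50079 (.leaf 0x0) (.leaf 0xa0f0b0003))) (.node 50081 (.leaf 0x0) (.node 50082 (.leaf 0xc3a0003685) (.leaf 0xb0001))))))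

def argWS_4437 : Store := (.node 50094 (.node 50088 (.node 50085 (.node 50084 (.leaf 0x0) (.leaf 0xa0f0002)) (.node 50086 (.leaf 0x0) (.node 50087 (.leaf 0x0) (.leaf 0xb0b0a0003)))) (.node 50091 (.node 50089 (.leaf 0xc3a1) (.node 50090 (.leaf 0xd0b0b0003) (.leaf 0x0))) (.node 50092 (.leaf 0xa0f0b0b0004) (.node 50093 (.leaf 0x0) (.leaf 0x0))))) (.node 50100 (.node 50097 (.node 50095 (.leaf 0xe0a0002) (.node 50096 (.leaf 0xd0001) (.leaf 0xf0a0002))) (.node 50098 (.leaf 0xc3b000c3af) (.node 50099 (.leaf 0x30700090009000703040103000c) (.leaf 0x0)))) (.node 50103 (.node 50101 (.leaf 0xb0001) (.node 50102 (.leaf 0x0) (.leaf 0xb0b0a0003))) (.node 50104 (.leaf 0x0) (.node 50105 (.leaf 0x0) (.leaf 0xd0001))))))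

def argWS_4438 : Store := (.node 50083 argWS_4436 argWS_4437)

def argWS_4439 : Store := (.node 50117 (.node 50111 (.node 50108 (.node 50107 (.leaf 0xe0001) (.leaf 0xb52a00c3ba)) (.node 50109 (.leaf 0xb0f0a0003) (.node 50110 (.leaf 0x0) (.leaf 0xa0f0b0b0004)))) (.node 50114 (.node 50112 (.leaf 0x0) (.node 50113 (.leaf 0xb0f0002) (.leaf 0x7590))) (.node 50115 (.leaf 0xb0b0a0003) (.node 50116 (.leaf 0x0) (.leaf 0xb0b0a0a0004))))) (.node 50123 (.node 50120 (.node 50118 (.leaf 0x0) (.node 50119 (.leaf 0x0) (.leaf 0xe0a0a0003))) (.node 50121 (.leaf 0x505020202010006) (.node 50122 (.leaf 0x0) (.leaf 0xa0f0002)))) (.node 50126 (.node 50124 (.leaf 0x0) (.node 50125 (.leaf 0xc3cb) (.leaf 0xd0001))) (.node 50127 (.leaf 0x0) (.node 50128 (.leaf 0x50200090000090007) (.leaf 0x0))))))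

def argWS_4440 : Store := (.node 50140 (.node 50134 (.node 50131 (.node 50130 (.leaf 0xa0a0002) (.leaf 0xa0f0002)) (.node 50132 (.leaf 0xb0a0a0003) (.node 50133 (.leaf 0x500050206040202000701000b) (.leaf 0x0)))) (.node 50137 (.node 50135 (.leaf 0xf0b0a0003) (.node 50136 (.leaf 0x0) (.leaf 0xc3d700c3d3))) (.node 50138 (.leaf 0x4040308000703040103000a) (.node 50139 (.leaf 0x0) (.leaf 0xb0f0a0003))))) (.node 50146 (.node 50143 (.node 50141 (.leaf 0x0) (.node 50142 (.leaf 0xa0f0b0b0004) (.leaf 0x0))) (.node 50144 (.leaf 0x50106010500020802040105000c) (.node 50145 (.leaf 0x0) (.leaf 0xf0b0b0a0a0005)))) (.node 50149 (.node 50147 (.leaf 0x0) (.node 50148 (.leaf 0xc3e2003f56) (.leaf 0xf0b0b0003))) (.node 50150 (.leaf 0x0) (.node 50151 (.leaf 0xb0a0a0003) (.leaf 0x0))))))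

def argWS_4441 : Store := (.node 50129 argWS_4439 argWS_4440)

def argWS_4442 : Store := (.node 50106 argWS_4438 argWS_4441)

def argWS_4443 : Store := (.node 50061 argWS_4435 argWS_4442)

def argWS_4444 : Store := (.node 49971 argWS_4428 argWS_4443)

def argWS_4445 : Store := (.node 50163 (.node 50157 (.node 50154 (.node 50153 (.leaf 0x0) (.leaf 0xd0b0002)) (.node 50155 (.leaf 0xad0100847c) (.node 50156 (.leaf 0xd0b0002) (.leaf 0x0)))) (.node 50160 (.node 50158 (.leaf 0x300000408010006) (.node 50159 (.leaf 0x0) (.leaf 0xe0001))) (.node 50161 (.leaf 0xb0a0002) (.node 50162 (.leaf 0xb0b0002) (.leaf 0xa0f0002))))) (.node 50168 (.node 50165 (.node 50164 (.leaf 0xc3f200c3f1) (.leaf 0x1040908050005)) (.node 50166 (.leaf 0x0) (.node 50167 (.leaf 0xb0a0f0003) (.leaf 0x0)))) (.node 50171 (.node 50169 (.leaf 0xe0d0002) (.node 50170 (.leaf 0x0) (.leaf 0x0))) (.node 50172 (.leaf 0xb0b0a0a0004) (.node 50173 (.leaf 0x0) (.leaf 0xc3fc))))))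

def argWS_4446 : Store := (.node 50185 (.node 50179 (.node 50176 (.node 50175 (.leaf 0xb0f0002) (.leaf 0x0)) (.node 50177 (.leaf 0xa0f0b0b0004) (.node 50178 (.leaf 0x0) (.leaf 0x0)))) (.node 50182 (.node 50180 (.leaf 0xb0b0a0003) (.node 50181 (.leaf 0xc403) (.leaf 0x207020901060802040105000b))) (.node 50183 (.leaf 0x0) (.node 50184 (.leaf 0xa0a0002) (.leaf 0x0))))) (.node 50191 (.node 50188 (.node 50186 (.leaf 0xb0a0002) (.node 50187 (.leaf 0x0) (.leaf 0x0))) (.node 50189 (.leaf 0xb0a0f0003) (.node 50190 (.leaf 0x80008020401050007) (.leaf 0x0)))) (.node 50194 (.node 50192 (.leaf 0xb0b0a0a0004) (.node 50193 (.leaf 0x0) (.leaf 0xb7db00c410))) (.node 50195 (.leaf 0xd0b0002) (.node 50196 (.leaf 0x0) (.leaf 0x606010500020007))))))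

def argWS_4447 : Store := (.node 50174 argWS_4445 argWS_4446)

def argWS_4448 : Store := (.node 50208 (.node 50202 (.node 50199 (.node 50198 (.leaf 0x0) (.leaf 0xd0b0b0003)) (.node 50200 (.leaf 0x1040000000300000802040105000d) (.node 50201 (.leaf 0x0) (.leaf 0xa0001)))) (.node 50205 (.node 50203 (.leaf 0x0) (.node 50204 (.leaf 0x400040601050002000703040103000e) (.leaf 0x0))) (.node 50206 (.leaf 0xf0b0a0a0004) (.node 50207 (.leaf 0x0) (.leaf 0xf0b0b0003))))) (.node 50213 (.node 50210 (.node 50209 (.leaf 0xc41f00c41e) (.leaf 0xf0b0a0003)) (.node 50211 (.leaf 0x0) (.node 50212 (.leaf 0xa0f0b0003) (.leaf 0x0)))) (.node 50216 (.node 50214 (.leaf 0x0) (.node 50215 (.leaf 0xf0a0002) (.leaf 0x60201090000090202000701000c))) (.node 50217 (.leaf 0x0) (.node 50218 (.leaf 0xd0b0002) (.leaf 0x0))))))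

def argWS_4449 : Store := (.node 50230 (.node 50224 (.node 50221 (.node 50220 (.leaf 0xc42a008f2b) (.leaf 0xb0b0a0003)) (.node 50222 (.leaf 0x0) (.node 50223 (.leaf 0xf0b0b0a0a0005) (.leaf 0x0)))) (.node 50227 (.node 50225 (.leaf 0x0) (.node 50226 (.leaf 0xb0b0002) (.leaf 0x6000400050802040105000a))) (.node 50228 (.leaf 0x0) (.node 50229 (.leaf 0xe0d0002) (.leaf 0x0))))) (.node 50236 (.node 50233 (.node 50231 (.leaf 0xf0a0002) (.node 50232 (.leaf 0xc43600c435) (.leaf 0xd0b0002))) (.node 50234 (.leaf 0x0) (.node 50235 (.leaf 0xe0001) (.leaf 0x0)))) (.node 50239 (.node 50237 (.leaf 0x0) (.node 50238 (.leaf 0xb0f0a0003) (.leaf 0x6010703060005))) (.node 50240 (.leaf 0x0) (.node 50241 (.leaf 0x0) (.leaf 0x9000009000703040103000b))))))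

def argWS_4450 : Store := (.node 50219 argWS_4448 argWS_4449)

def argWS_4451 : Store := (.node 50197 argWS_4447 argWS_4450)

def argWS_4452 : Store := (.node 50253 (.node 50247 (.node 50244 (.node 50243 (.leaf 0x0) (.leaf 0xa0001)) (.node 50245 (.leaf 0x0) (.node 50246 (.leaf 0xc44400c440) (.leaf 0xa0001)))) (.node 50250 (.node 50248 (.leaf 0x0) (.node 50249 (.leaf 0x0) (.leaf 0xe0001))) (.node 50251 (.leaf 0xe0001) (.node 50252 (.leaf 0x3040101070306000703040103000d) (.leaf 0x0))))) (.node 50258 (.node 50255 (.node 50254 (.leaf 0xe0001) (.leaf 0x0)) (.node 50256 (.leaf 0xc44e) (.node 50257 (.leaf 0xb0f0a0003) (.leaf 0x0)))) (.node 50261 (.node 50259 (.leaf 0x60202010606000703040103000c) (.node 50260 (.leaf 0x0) (.leaf 0xb0a0a0003))) (.node 50262 (.leaf 0xa0a0002) (.node 50263 (.leaf 0xa0f0002) (.leaf 0x7030507020902000703040103000d))))))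

def argWS_4453 : Store := (.node 50275 (.node 50269 (.node 50266 (.node 50265 (.leaf 0x0) (.leaf 0xf0b0002)) (.node 50267 (.leaf 0x0) (.node 50268 (.leaf 0xc45a00c456) (.leaf 0xb0b0002)))) (.node 50272 (.node 50270 (.leaf 0x0) (.node 50271 (.leaf 0xe0001) (.leaf 0x0))) (.node 50273 (.leaf 0x0) (.node 50274 (.leaf 0xe0a0a0003) (.leaf 0xc461))))) (.node 50281 (.node 50278 (.node 50276 (.leaf 0xe0001) (.node 50277 (.leaf 0x0) (.leaf 0xa0f0b0003))) (.node 50279 (.leaf 0x0) (.node 50280 (.leaf 0x0) (.leaf 0x9030703060802040105000a)))) (.node 50284 (.node 50282 (.leaf 0x0) (.node 50283 (.leaf 0xb0a0002) (.leaf 0x0))) (.node 50285 (.leaf 0x101010904020802040105000b) (.node 50286 (.leaf 0x0) (.leaf 0xb0a0f0003))))))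

def argWS_4454 : Store := (.node 50264 argWS_4452 argWS_4453)

def argWS_4455 : Store := (.node 50298 (.node 50292 (.node 50289 (.node 50288 (.leaf 0x0) (.leaf 0xc46f00c46b)) (.node 50290 (.leaf 0x205070009030006) (.node 50291 (.leaf 0x0) (.leaf 0xd0001)))) (.node 50295 (.node 50293 (.leaf 0x0) (.node 50294 (.leaf 0xb0b0a0003) (.leaf 0x0))) (.node 50296 (.leaf 0x0) (.node 50297 (.leaf 0xa0f0002) (.leaf 0xd0b0b0003))))) (.node 50303 (.node 50300 (.node 50299 (.leaf 0xc479) (.leaf 0xb0a0002)) (.node 50301 (.leaf 0x0) (.node 50302 (.leaf 0xd0b0b0003) (.leaf 0x0)))) (.node 50306 (.node 50304 (.leaf 0x0) (.node 50305 (.leaf 0xb0a0a0003) (.leaf 0xa0f0002))) (.node 50307 (.leaf 0x104070209020006) (.node 50308 (.leaf 0x0) (.leaf 0xf0a0002))))))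

def argWS_4456 : Store := (.node 50320 (.node 50314 (.node 50311 (.node 50310 (.leaf 0x0) (.leaf 0xc48500c481)) (.node 50312 (.leaf 0xe0a0a0003) (.node 50313 (.leaf 0x0) (.leaf 0xb0b0a0a0004)))) (.node 50317 (.node 50315 (.leaf 0x0) (.node 50316 (.leaf 0x0) (.leaf 0xd0001))) (.node 50318 (.leaf 0xb0b0a0a0004) (.node 50319 (.leaf 0xc48d) (.leaf 0xf0a0002))))) (.node 50326 (.node 50323 (.node 50321 (.leaf 0x0) (.node 50322 (.leaf 0xf0a0002) (.leaf 0x0))) (.node 50324 (.leaf 0x0) (.node 50325 (.leaf 0xf0b0a0a0004) (.leaf 0x303080004)))) (.node 50329 (.node 50327 (.leaf 0x0) (.node 50328 (.leaf 0xb0f0002) (.leaf 0x0))) (.node 50330 (.leaf 0xc498) (.node 50331 (.leaf 0xf0b0002) (.leaf 0x0))))))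

def argWS_4457 : Store := (.node 50309 argWS_4455 argWS_4456)

def argWS_4458 : Store := (.node 50287 argWS_4454 argWS_4457)

def argWS_4459 : Store := (.node 50242 argWS_4451 argWS_4458)

def argWS_4460 : Store := (.node 50343 (.node 50337 (.node 50334 (.node 50333 (.leaf 0x20000020106060802040105000c) (.leaf 0x0)) (.node 50335 (.leaf 0xe0d0002) (.node 50336 (.leaf 0xb0f0a0003) (.leaf 0x407030007030401030009)))) (.node 50340 (.node 50338 (.leaf 0x0) (.node 50339 (.leaf 0xe0001) (.leaf 0x0))) (.node 50341 (.leaf 0xd0b0b0003) (.node 50342 (.leaf 0xc4a400c4a3) (.leaf 0xa0f0b0003))))) (.node 50348 (.node 50345 (.node 50344 (.leaf 0x0) (.leaf 0xe0d0002)) (.node 50346 (.leaf 0x0) (.node 50347 (.leaf 0x0) (.leaf 0x200040005000703040103000b)))) (.node 50351 (.node 50349 (.leaf 0x0) (.node 50350 (.leaf 0xa0f0b0b0004) (.leaf 0x0))) (.node 50352 (.leaf 0x1030000090206020008) (.node 50353 (.leaf 0x0) (.leaf 0xb0f0a0003))))))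

def argWS_4461 : Store := (.node 50365 (.node 50359 (.node 50356 (.node 50355 (.leaf 0x0) (.leaf 0xf0a0a0003)) (.node 50357 (.leaf 0xc4b300c4b2) (.node 50358 (.leaf 0xb0b0a0a0004) (.leaf 0x0)))) (.node 50362 (.node 50360 (.leaf 0x6020105020202010802040105000d) (.node 50361 (.leaf 0x0) (.leaf 0xf0001))) (.node 50363 (.leaf 0xf0001) (.node 50364 (.leaf 0x0) (.leaf 0xf0b0b0003))))) (.node 50371 (.node 50368 (.node 50366 (.leaf 0xb0a0a0003) (.node 50367 (.leaf 0x903010102000802040105000b) (.leaf 0x0))) (.node 50369 (.leaf 0x0) (.node 50370 (.leaf 0xc4c000c4bd) (.leaf 0xb0b0a0003)))) (.node 50374 (.node 50372 (.leaf 0x0) (.node 50373 (.leaf 0xe0001) (.leaf 0x0))) (.node 50375 (.leaf 0x0) (.node 50376 (.leaf 0xf0b0b0003) (.leaf 0xf0b0a0003))))))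

def argWS_4462 : Store := (.node 50354 argWS_4460 argWS_4461)

def argWS_4463 : Store := (.node 50388 (.node 50382 (.node 50379 (.node 50378 (.leaf 0x700020804000802040105000b) (.leaf 0x0)) (.node 50380 (.leaf 0xd0b0002) (.node 50381 (.leaf 0x0) (.leaf 0xc4cc00c4c8)))) (.node 50385 (.node 50383 (.leaf 0x600000002080400000703040103000e) (.node 50384 (.leaf 0x0) (.leaf 0xb0b0a0a0004))) (.node 50386 (.leaf 0x0) (.node 50387 (.leaf 0xe0a0002) (.leaf 0x0))))) (.node 50393 (.node 50390 (.node 50389 (.leaf 0x0) (.leaf 0x60901090005)) (.node 50391 (.leaf 0x0) (.node 50392 (.leaf 0xd0b0002) (.leaf 0x0)))) (.node 50396 (.node 50394 (.leaf 0xc4d8001c32) (.node 50395 (.leaf 0xd0b0002) (.leaf 0x0))) (.node 50397 (.leaf 0xb0f0002) (.node 50398 (.leaf 0x0) (.leaf 0x0))))))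

def argWS_4464 : Store := (.node 50410 (.node 50404 (.node 50401 (.node 50400 (.leaf 0xf0a0002) (.leaf 0xf0001)) (.node 50402 (.leaf 0xc4e0) (.node 50403 (.leaf 0xb0f0a0a0004) (.leaf 0x0)))) (.node 50407 (.node 50405 (.leaf 0xa0f0002) (.node 50406 (.leaf 0x0) (.leaf 0x0))) (.node 50408 (.leaf 0xa0f0b0003) (.node 50409 (.leaf 0xa0f0002) (.leaf 0xb0a0002))))) (.node 50416 (.node 50413 (.node 50411 (.leaf 0xc4e900c4e8) (.node 50412 (.leaf 0xf0b0a0003) (.leaf 0x0))) (.node 50414 (.leaf 0xb0b0a0003) (.node 50415 (.leaf 0x0) (.leaf 0x0)))) (.node 50419 (.node 50417 (.leaf 0x90201010703060202000701000c) (.node 50418 (.leaf 0x0) (.leaf 0xf0a0a0003))) (.node 50420 (.leaf 0x0) (.node 50421 (.leaf 0xd0b0b0003) (.leaf 0xc4f4))))))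

def argWS_4465 : Store := (.node 50399 argWS_4463 argWS_4464)

def argWS_4466 : Store := (.node 50377 argWS_4462 argWS_4465)

def argWS_4467 : Store := (.node 50433 (.node 50427 (.node 50424 (.node 50423 (.leaf 0xf0b0a0a0004) (.leaf 0x0)) (.node 50425 (.leaf 0xe0d0002) (.node 50426 (.leaf 0x0) (.leaf 0x0)))) (.node 50430 (.node 50428 (.leaf 0xb0a0f0003) (.node 50429 (.leaf 0x5000300000202000701000a) (.leaf 0x0))) (.node 50431 (.leaf 0xb0001) (.node 50432 (.leaf 0x0) (.leaf 0x70000030306040007))))) (.node 50438 (.node 50435 (.node 50434 (.leaf 0x0) (.leaf 0x0)) (.node 50436 (.leaf 0xc50200c4ff) (.node 50437 (.leaf 0xb0b0a0a0004) (.leaf 0x0)))) (.node 50441 (.node 50439 (.leaf 0x0) (.node 50440 (.leaf 0x2020900000006) (.leaf 0x0))) (.node 50442 (.leaf 0xb0b0a0a0004) (.node 50443 (.leaf 0x0) (.leaf 0x70901090004))))))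

def argWS_4468 : Store := (.node 50455 (.node 50449 (.node 50446 (.node 50445 (.leaf 0x0) (.leaf 0xb0001)) (.node 50447 (.leaf 0x0) (.node 50448 (.leaf 0xc50e00c50a) (.leaf 0x0)))) (.node 50452 (.node 50450 (.leaf 0xa0001) (.node 50451 (.leaf 0x0) (.leaf 0x0))) (.node 50453 (.leaf 0xb0b0a0a0004) (.node 50454 (.leaf 0x902020900000202000701000b) (.leaf 0x0))))) (.node 50461 (.node 50458 (.node 50456 (.leaf 0xf0b0a0003) (.node 50457 (.leaf 0x0) (.leaf 0x2000400050202000701000a))) (.node 50459 (.leaf 0x0) (.node 50460 (.leaf 0x0) (.leaf 0xc51b00c518)))) (.node 50464 (.node 50462 (.leaf 0xb0b0a0003) (.node 50463 (.leaf 0x0) (.leaf 0xf0b0b0003))) (.node 50465 (.leaf 0x0) (.node 50466 (.leaf 0x0) (.leaf 0x507020007010007))))))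

def argWS_4469 : Store := (.node 50444 argWS_4467 argWS_4468)

def argWS_4470 : Store := (.node 50478 (.node 50472 (.node 50469 (.node 50468 (.leaf 0x0) (.leaf 0xe0a0a0003)) (.node 50470 (.leaf 0x0) (.node 50471 (.leaf 0xe0d0002) (.leaf 0x90403010102000802040105000c)))) (.node 50475 (.node 50473 (.leaf 0x0) (.node 50474 (.leaf 0xb0f0002) (.leaf 0x0))) (.node 50476 (.leaf 0xc52a00c526) (.node 50477 (.leaf 0xb0a0a0003) (.leaf 0x0))))) (.node 50484 (.node 50481 (.node 50479 (.leaf 0xb0b0002) (.node 50480 (.leaf 0x0) (.leaf 0x0))) (.node 50482 (.leaf 0x4020804000005) (.node 50483 (.leaf 0x0) (.leaf 0xf0a0a0003)))) (.node 50487 (.node 50485 (.leaf 0x0) (.node 50486 (.leaf 0x102010703060006) (.leaf 0x0))) (.node 50488 (.leaf 0xf0a0002) (.node 50489 (.leaf 0x0) (.leaf 0xc538))))))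

def argWS_4471 : Store := (.node 50501 (.node 50495 (.node 50492 (.node 50491 (.leaf 0xb0f0a0a0004) (.leaf 0x0)) (.node 50493 (.leaf 0x40402020900000802040105000c) (.node 50494 (.leaf 0x0) (.leaf 0xd0b0b0003)))) (.node 50498 (.node 50496 (.leaf 0x20601090000090007) (.node 50497 (.leaf 0x0) (.leaf 0xe0a0002))) (.node 50499 (.leaf 0x0) (.node 50500 (.leaf 0x6000006020702010802040105000d) (.leaf 0x0))))) (.node 50507 (.node 50504 (.node 50502 (.leaf 0xf0b0b0a0004) (.node 50503 (.leaf 0x0) (.leaf 0x60501010908050202000701000c))) (.node 50505 (.leaf 0x0) (.node 50506 (.leaf 0xd0b0b0003) (.leaf 0x0)))) (.node 50510 (.node 50508 (.leaf 0xc54a00c546) (.node 50509 (.leaf 0xf0b0002) (.leaf 0x0))) (.node 50511 (.leaf 0x800050206040006) (.node 50512 (.leaf 0x0) (.leaf 0xa0a0002))))))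

def argWS_4472 : Store := (.node 50490 argWS_4470 argWS_4471)

def argWS_4473 : Store := (.node 50467 argWS_4469 argWS_4472)

def argWS_4474 : Store := (.node 50422 argWS_4466 argWS_4473)

def argWS_4475 : Store := (.node 50332 argWS_4459 argWS_4474)

def argWS_4476 : Store := (.node 50152 argWS_4444 argWS_4475)

def argWS_4477 : Store := (.node 49791 argWS_4413 argWS_4476)

def argWS_4478 : Store := (.node 50524 (.node 50518 (.node 50515 (.node 50514 (.leaf 0xf0a0a0003) (.leaf 0xb12d)) (.node 50516 (.leaf 0xd0b0002) (.node 50517 (.leaf 0x0) (.leaf 0x4000300000300000202000701000d)))) (.node 50521 (.node 50519 (.leaf 0x0) (.node 50520 (.leaf 0xb0f0a0003) (.leaf 0x702070209020006))) (.node 50522 (.leaf 0x0) (.node 50523 (.leaf 0xa0f0002) (.leaf 0x0))))) (.node 50529 (.node 50526 (.node 50525 (.leaf 0x202070209020802040105000b) (.leaf 0x0)) (.node 50527 (.leaf 0xf0001) (.node 50528 (.leaf 0x0) (.leaf 0xc55f)))) (.node 50532 (.node 50530 (.leaf 0xa0a0002)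 (.node 50531 (.leaf 0x0) (.leaf 0x3010102000006))) (.node 50533 (.leaf 0x0) (.node 50534 (.leaf 0xf0a0002) (.leaf 0xd0001))))))

def argWS_4479 : Store := (.node 50546 (.node 50540 (.node 50537 (.node 50536 (.leaf 0x80004070209020007) (.leaf 0x0)) (.node 50538 (.leaf 0xf0b0002) (.node 50539 (.leaf 0x0) (.leaf 0xf0b0b0a0a0005)))) (.node 50543 (.node 50541 (.leaf 0xc56b00c56a) (.node 50542 (.leaf 0xf0b0b0a0a0005) (.leaf 0x0))) (.node 50544 (.leaf 0xb0a0a0003) (.node 50545 (.leaf 0x0) (.leaf 0x0))))) (.node 50552 (.node 50549 (.node 50547 (.leaf 0xb0f0a0a0004) (.node 50548 (.leaf 0x6040005000703040103000b) (.leaf 0x0))) (.node 50550 (.leaf 0xb0a0a0003) (.node 50551 (.leaf 0x0) (.leaf 0x201030003030604000703040103000e)))) (.node 50555 (.node 50553 (.leaf 0x0) (.node 50554 (.leaf 0xe0001) (.leaf 0x0))) (.node 50556 (.leaf 0xc57a00c576) (.node 50557 (.leaf 0xf0b0b0a0004) (.leaf 0x0))))))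

def argWS_4480 : Store := (.node 50535 argWS_4478 argWS_4479)

def argWS_4481 : Store := (.node 50569 (.node 50563 (.node 50560 (.node 50559 (.leaf 0x403040004080703040103000b) (.leaf 0x0)) (.node 50561 (.leaf 0xb0001) (.node 50562 (.leaf 0xe0001) (.leaf 0xd0b0b0003)))) (.node 50566 (.node 50564 (.leaf 0xc582) (.node 50565 (.leaf 0x1020105020202010802040105000d) (.leaf 0x0))) (.node 50567 (.leaf 0xe0d0002) (.node 50568 (.leaf 0x0) (.leaf 0xd0b0002))))) (.node 50574 (.node 50571 (.node 50570 (.leaf 0x0) (.leaf 0x0)) (.node 50572 (.leaf 0x2050200090206020202000701000d) (.node 50573 (.leaf 0x0) (.leaf 0xa0f0002)))) (.node 50577 (.node 50575 (.leaf 0x0) (.node 50576 (.leaf 0xa0001) (.leaf 0xf0b0b0003))) (.node 50578 (.leaf 0xc59000c58f) (.node 50579 (.leaf 0xb0b0a0003) (.leaf 0x0))))))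

def argWS_4482 : Store := (.node 50591 (.node 50585 (.node 50582 (.node 50581 (.leaf 0xd0b0b0003) (.leaf 0x0)) (.node 50583 (.leaf 0x0) (.node 50584 (.leaf 0xd0b0b0003) (.leaf 0xc597)))) (.node 50588 (.node 50586 (.leaf 0xb0b0a0a0004) (.node 50587 (.leaf 0x0) (.leaf 0x9070308020401050008))) (.node 50589 (.leaf 0x0) (.node 50590 (.leaf 0xf0a0a0003) (.leaf 0x201070306000703040103000b))))) (.node 50597 (.node 50594 (.node 50592 (.leaf 0x0) (.node 50593 (.leaf 0xf0a0002) (.leaf 0x0))) (.node 50595 (.leaf 0xe0d0002) (.node 50596 (.leaf 0xc5a200c5a1) (.leaf 0xb0b0a0003)))) (.node 50600 (.node 50598 (.leaf 0x0) (.node 50599 (.leaf 0x0) (.leaf 0xf0b0a0003))) (.node 50601 (.leaf 0xa0f0002) (.node 50602 (.leaf 0xc24800c5a8) (.leaf 0xf0b0a0a0004))))))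

def argWS_4483 : Store := (.node 50580 argWS_4481 argWS_4482)

def argWS_4484 : Store := (.node 50558 argWS_4480 argWS_4483)

def argWS_4485 : Store := (.node 50614 (.node 50608 (.node 50605 (.node 50604 (.leaf 0x0) (.leaf 0x6000006020702010802040105000d)) (.node 50606 (.leaf 0x0) (.node 50607 (.leaf 0xf0b0b0a0004) (.leaf 0xa0f0b0003)))) (.node 50611 (.node 50609 (.leaf 0xb0f0a0a0004) (.node 50610 (.leaf 0x30402090106000703040103000c) (.leaf 0x0))) (.node 50612 (.leaf 0xa0001) (.node 50613 (.leaf 0x0) (.leaf 0xb17b00c5b4))))) (.node 50619 (.node 50616 (.node 50615 (.leaf 0xa0a0002) (.leaf 0x0)) (.node 50617 (.leaf 0x800040900090802040105000b) (.node 50618 (.leaf 0x0) (.leaf 0xb0f0002)))) (.node 50622 (.node 50620 (.leaf 0x0) (.node 50621 (.leaf 0x30000030306040007) (.leaf 0x0))) (.node 50623 (.leaf 0xb0a0002) (.node 50624 (.leaf 0x0) (.leaf 0xc5bf00c5bb))))))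

def argWS_4486 : Store := (.node 50636 (.node 50630 (.node 50627 (.node 50626 (.leaf 0x30003030604000703040103000c) (.leaf 0x0)) (.node 50628 (.leaf 0xb0f0a0003) (.node 50629 (.leaf 0x0) (.leaf 0xf0b0a0003)))) (.node 50633 (.node 50631 (.leaf 0x0) (.node 50632 (.leaf 0x0) (.leaf 0xa0f0002))) (.node 50634 (.leaf 0xb0001) (.node 50635 (.leaf 0x8050904020802040105000a) (.leaf 0x0))))) (.node 50642 (.node 50639 (.node 50637 (.leaf 0xa0001) (.node 50638 (.leaf 0x0) (.leaf 0xc5cd00c5c9))) (.node 50640 (.leaf 0x402000003010802040105000b) (.node 50641 (.leaf 0x0) (.leaf 0xd0001)))) (.node 50645 (.node 50643 (.leaf 0x0) (.node 50644 (.leaf 0xf0b0a0003) (.leaf 0x0))) (.node 50646 (.leaf 0x0) (.node 50647 (.leaf 0xb0a0002) (.leaf 0x4020703000703040103000b))))))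

def argWS_4487 : Store := (.node 50625 argWS_4485 argWS_4486)

def argWS_4488 : Store := (.node 50659 (.node 50653 (.node 50650 (.node 50649 (.leaf 0x0) (.leaf 0xb0f0002)) (.node 50651 (.leaf 0x0) (.node 50652 (.leaf 0x102020207030401030009) (.leaf 0x0)))) (.node 50656 (.node 50654 (.leaf 0xe0a0a0003) (.node 50655 (.leaf 0x0) (.leaf 0xc5de00c5da))) (.node 50657 (.leaf 0xb0b0002) (.node 50658 (.leaf 0x0) (.leaf 0xf0b0b0a0a0005))))) (.node 50664 (.node 50661 (.node 50660 (.leaf 0x0) (.leaf 0x0)) (.node 50662 (.leaf 0x0) (.node 50663 (.leaf 0x90600020804000007) (.leaf 0x0)))) (.node 50667 (.node 50665 (.leaf 0xf0a0a0003) (.node 50666 (.leaf 0x0) (.leaf 0x20000020901060202000701000c))) (.node 50668 (.leaf 0x0) (.node 50669 (.leaf 0xe0a0a0003) (.leaf 0x0))))))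

def argWS_4489 : Store := (.node 50681 (.node 50675 (.node 50672 (.node 50671 (.leaf 0xc5ed00c5e9) (.leaf 0xb0f0a0003)) (.node 50673 (.leaf 0x0) (.node 50674 (.leaf 0x7020206020007010008) (.leaf 0x0)))) (.node 50678 (.node 50676 (.leaf 0xb0f0002) (.node 50677 (.leaf 0x1030408010005) (.leaf 0x0))) (.node 50679 (.leaf 0xa0001) (.node 50680 (.leaf 0x0) (.leaf 0x4090805000703040103000a))))) (.node 50687 (.node 50684 (.node 50682 (.leaf 0x0) (.node 50683 (.leaf 0xb0f0a0a0004) (.leaf 0x0))) (.node 50685 (.leaf 0xf0b0b0003) (.node 50686 (.leaf 0xc5fc00c5fb) (.leaf 0xf0b0b0a0a0005)))) (.node 50690 (.node 50688 (.leaf 0x0) (.node 50689 (.leaf 0xb0b0a0a0004) (.leaf 0x0))) (.node 50691 (.leaf 0x0) (.node 50692 (.leaf 0x3070002020900000802040105000d) (.leaf 0x0))))))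

def argWS_4490 : Store := (.node 50670 argWS_4488 argWS_4489)

def argWS_4491 : Store := (.node 50648 argWS_4487 argWS_4490)

def argWS_4492 : Store := (.node 50603 argWS_4484 argWS_4491)

def argWS_4493 : Store := (.node 50704 (.node 50698 (.node 50695 (.node 50694 (.leaf 0xf0b0b0a0a0005) (.leaf 0x0)) (.node 50696 (.leaf 0xc606) (.node 50697 (.leaf 0xf0b0b0003) (.leaf 0x0)))) (.node 50701 (.node 50699 (.leaf 0x8010107000902000701000a) (.node 50700 (.leaf 0x0) (.leaf 0xb0f0a0a0004))) (.node 50702 (.leaf 0xb0f0a0a0004) (.node 50703 (.leaf 0xc60d) (.leaf 0x60000070009030007))))) (.node 50709 (.node 50706 (.node 50705 (.leaf 0x0) (.leaf 0xf0b0b0a0a0005)) (.node 50707 (.leaf 0x0) (.node 50708 (.leaf 0xa0f0002) (.leaf 0x0)))) (.node 50712 (.node 50710 (.leaf 0x0) (.node 50711 (.leaf 0x202050206040802040105000b) (.leaf 0x0))) (.node 50713 (.leaf 0xf0b0b0a0a0005) (.node 50714 (.leaf 0x0) (.leaf 0xb0a0002))))))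

def argWS_4494 : Store := (.node 50726 (.node 50720 (.node 50717 (.node 50716 (.leaf 0x8000007000902000701000a) (.leaf 0x0)) (.node 50718 (.leaf 0xd0001) (.node 50719 (.leaf 0x0) (.leaf 0xc61e00c61a)))) (.node 50723 (.node 50721 (.leaf 0xb0b0002) (.node 50722 (.leaf 0x0) (.leaf 0xa0f0b0b0004))) (.node 50724 (.leaf 0x0) (.node 50725 (.leaf 0x0) (.leaf 0xb0f0a0003))))) (.node 50732 (.node 50729 (.node 50727 (.leaf 0xa0f0b0003) (.node 50728 (.leaf 0x40304000408010007) (.leaf 0x0))) (.node 50730 (.leaf 0xe0001) (.node 50731 (.leaf 0x0) (.leaf 0xc62a00c626)))) (.node 50735 (.node 50733 (.leaf 0xa0f0b0b0004) (.node 50734 (.leaf 0x0) (.leaf 0x700090206020802040105000b))) (.node 50736 (.leaf 0x0) (.node 50737 (.leaf 0xb0001) (.leaf 0xf0b0b0a0a0005))))))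

def argWS_4495 : Store := (.node 50715 argWS_4493 argWS_4494)

def argWS_4496 : Store := (.node 50749 (.node 50743 (.node 50740 (.node 50739 (.leaf 0x40205010908050007) (.leaf 0x0)) (.node 50741 (.leaf 0xa0f0002) (.node 50742 (.leaf 0x0) (.leaf 0xc635)))) (.node 50746 (.node 50744 (.leaf 0xf0b0b0003) (.node 50745 (.leaf 0x0) (.leaf 0x0))) (.node 50747 (.leaf 0xb0f0002) (.node 50748 (.leaf 0x701030306040202000701000b) (.leaf 0x0))))) (.node 50754 (.node 50751 (.node 50750 (.leaf 0xa0a0002) (.leaf 0x0)) (.node 50752 (.leaf 0xa0f0b0b0004) (.node 50753 (.leaf 0xc63f00c63e) (.leaf 0x2000408010802040105000a)))) (.node 50757 (.node 50755 (.leaf 0x0) (.node 50756 (.leaf 0xa0f0b0b0004) (.leaf 0x0))) (.node 50758 (.leaf 0xa0f0b0003) (.node 50759 (.leaf 0x0) (.leaf 0x0))))))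

def argWS_4497 : Store := (.node 50771 (.node 50765 (.node 50762 (.node 50761 (.leaf 0x9050307000903000703040103000d) (.leaf 0x0)) (.node 50763 (.leaf 0x0) (.node 50764 (.leaf 0x202060207020703040103000b) (.leaf 0x0)))) (.node 50768 (.node 50766 (.leaf 0xb0b0a0a0004) (.node 50767 (.leaf 0x0) (.leaf 0xc64e))) (.node 50769 (.leaf 0xa0001) (.node 50770 (.leaf 0x0) (.leaf 0x502090000000703040103000b))))) (.node 50777 (.node 50774 (.node 50772 (.leaf 0x0) (.node 50773 (.leaf 0xb0f0a0a0004) (.leaf 0xf0b0b0003))) (.node 50775 (.leaf 0x20901090005) (.node 50776 (.leaf 0x0) (.leaf 0xb0a0002)))) (.node 50780 (.node 50778 (.leaf 0x0) (.node 50779 (.leaf 0xf0b0a0003) (.leaf 0xc65a00c659))) (.node 50781 (.leaf 0xb0b0a0a0004) (.node 50782 (.leaf 0x0) (.leaf 0x305030802020007010009))))))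

def argWS_4498 : Store := (.node 50760 argWS_4496 argWS_4497)

def argWS_4499 : Store := (.node 50738 argWS_4495 argWS_4498)

def argWS_4500 : Store := (.node 50794 (.node 50788 (.node 50785 (.node 50784 (.leaf 0x0) (.leaf 0xe0a0a0003)) (.node 50786 (.leaf 0x80002020900000007) (.node 50787 (.leaf 0x0) (.leaf 0xb0b0a0a0004)))) (.node 50791 (.node 50789 (.leaf 0x0) (.node 50790 (.leaf 0x5020007010005) (.leaf 0x0))) (.node 50792 (.leaf 0xd0001) (.node 50793 (.leaf 0x0) (.leaf 0xe0001))))) (.node 50799 (.node 50796 (.node 50795 (.leaf 0xc66900c668) (.leaf 0xd0b0002)) (.node 50797 (.leaf 0x0) (.node 50798 (.leaf 0x9000009000703040103000a) (.leaf 0x0)))) (.node 50802 (.node 50800 (.leaf 0xa0f0b0b0004) (.node 50801 (.leaf 0xb0f0002) (.leaf 0xa0f0b0b0004))) (.node 50803 (.leaf 0xf0a0a0003) (.node 50804 (.leaf 0xc67200c671) (.leaf 0xd0b0b0003))))))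

def argWS_4501 : Store := (.node 50816 (.node 50810 (.node 50807 (.node 50806 (.leaf 0x0) (.leaf 0xf0b0b0003)) (.node 50808 (.leaf 0x0) (.node 50809 (.leaf 0x0) (.leaf 0xf0b0a0003)))) (.node 50813 (.node 50811 (.leaf 0xd0b0002) (.node 50812 (.leaf 0xc67a00c679) (.leaf 0xe0a0a0003))) (.node 50814 (.leaf 0x0) (.node 50815 (.leaf 0xb0b0002) (.leaf 0x0))))) (.node 50822 (.node 50819 (.node 50817 (.leaf 0x0) (.node 50818 (.leaf 0xf0a0a0003) (.leaf 0x304070206000802040105000b))) (.node 50820 (.leaf 0x0) (.node 50821 (.leaf 0xe0001) (.leaf 0x0)))) (.node 50825 (.node 50823 (.leaf 0xc685) (.node 50824 (.leaf 0xb0f0a0a0004) (.leaf 0x0))) (.node 50826 (.leaf 0xd0001) (.node 50827 (.leaf 0x0) (.leaf 0x0))))))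

def argWS_4502 : Store := (.node 50805 argWS_4500 argWS_4501)

def argWS_4503 : Store := (.node 50839 (.node 50833 (.node 50830 (.node 50829 (.leaf 0xa0f0b0003) (.leaf 0x20000030306040202000701000d)) (.node 50831 (.leaf 0x0) (.node 50832 (.leaf 0xb0f0a0003) (.leaf 0x0)))) (.node 50836 (.node 50834 (.leaf 0xc45300c690) (.node 50835 (.leaf 0xf0b0b0a0004) (.leaf 0x0))) (.node 50837 (.leaf 0x702020901060006) (.node 50838 (.leaf 0x0) (.leaf 0xb0a0a0003))))) (.node 50845 (.node 50842 (.node 50840 (.leaf 0xa0a0002) (.node 50841 (.leaf 0xa0001) (.leaf 0xc69800c697))) (.node 50843 (.leaf 0xa0f0b0003) (.node 50844 (.leaf 0x0) (.leaf 0xb0a0a0003)))) (.node 50848 (.node 50846 (.leaf 0x0) (.node 50847 (.leaf 0x0) (.leaf 0xf0b0b0003))) (.node 50849 (.leaf 0x800020106060202000701000c) (.node 50850 (.leaf 0x0) (.leaf 0xb0f0002))))))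

def argWS_4504 : Store := (.node 50862 (.node 50856 (.node 50853 (.node 50852 (.leaf 0x0) (.leaf 0xbe6f00c6a3)) (.node 50854 (.leaf 0xf0a0a0003) (.node 50855 (.leaf 0x0) (.leaf 0xf0b0b0a0a0005)))) (.node 50859 (.node 50857 (.leaf 0x0) (.node 50858 (.leaf 0xe0a0a0003) (.leaf 0xe0a0002))) (.node 50860 (.leaf 0xaa1300c6aa) (.node 50861 (.leaf 0xb0b0a0003) (.leaf 0x0))))) (.node 50868 (.node 50865 (.node 50863 (.leaf 0xb0b0a0a0004) (.node 50864 (.leaf 0x0) (.leaf 0x0))) (.node 50866 (.leaf 0x40003000408010202000701000c) (.node 50867 (.leaf 0x0) (.leaf 0xd0b0002)))) (.node 50871 (.node 50869 (.leaf 0x0) (.node 50870 (.leaf 0xc6b4) (.leaf 0xf0b0a0003))) (.node 50872 (.leaf 0x0) (.node 50873 (.leaf 0xf0b0a0a0004) (.leaf 0x0))))))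

def argWS_4505 : Store := (.node 50851 argWS_4503 argWS_4504)

def argWS_4506 : Store := (.node 50828 argWS_4502 argWS_4505)

def argWS_4507 : Store := (.node 50783 argWS_4499 argWS_4506)

def argWS_4508 : Store := (.node 50693 argWS_4492 argWS_4507)

def argWS_4509 : Store := (.node 50885 (.node 50879 (.node 50876 (.node 50875 (.leaf 0x0) (.leaf 0xd0001)) (.node 50877 (.leaf 0x1050205020604000703040103000d) (.node 50878 (.leaf 0x0) (.leaf 0xb0b0a0a0004)))) (.node 50882 (.node 50880 (.leaf 0x0) (.node 50881 (.leaf 0xd0b0b0003) (.leaf 0xc6c000c6bf))) (.node 50883 (.leaf 0xb0f0002) (.node 50884 (.leaf 0x0) (.leaf 0xd0b0002))))) (.node 50890 (.node 50887 (.node 50886 (.leaf 0x0) (.leaf 0x0)) (.node 50888 (.leaf 0x90700020804000007) (.node 50889 (.leaf 0x0) (.leaf 0xf0001)))) (.node 50893 (.node 50891 (.leaf 0x0) (.node 50892 (.leaf 0x7020002080400000703040103000d) (.leaf 0x0))) (.node 50894 (.leaf 0xf0001) (.node 50895 (.leaf 0x0) (.leaf 0xf0b0b0003))))))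

def argWS_4510 : Store := (.node 50907 (.node 50901 (.node 50898 (.node 50897 (.leaf 0xc6cf00c6ce) (.leaf 0xb0a0f0003)) (.node 50899 (.leaf 0x0) (.node 50900 (.leaf 0x5000401050005) (.leaf 0x0)))) (.node 50904 (.node 50902 (.leaf 0xd0b0b0003) (.node 50903 (.leaf 0xf0b0b0003) (.leaf 0xd0b0b0003))) (.node 50905 (.leaf 0x2020200030306040202000701000d) (.node 50906 (.leaf 0x0) (.leaf 0xa0a0002))))) (.node 50913 (.node 50910 (.node 50908 (.leaf 0x0) (.node 50909 (.leaf 0xc6db00c6d7) (.leaf 0xa0001))) (.node 50911 (.leaf 0x0) (.node 50912 (.leaf 0xd0b0002) (.leaf 0x0)))) (.node 50916 (.node 50914 (.leaf 0x0) (.node 50915 (.leaf 0xf0001) (.leaf 0x404010703060006))) (.node 50917 (.leaf 0x0) (.node 50918 (.leaf 0xb0f0a0003) (.leaf 0x0))))))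

def argWS_4511 : Store := (.node 50896 argWS_4509 argWS_4510)

def argWS_4512 : Store := (.node 50930 (.node 50924 (.node 50921 (.node 50920 (.leaf 0xc6e6) (.leaf 0xf0b0b0a0a0005)) (.node 50922 (.leaf 0x0) (.node 50923 (.leaf 0xb0a0f0003) (.leaf 0x0)))) (.node 50927 (.node 50925 (.leaf 0x0) (.node 50926 (.leaf 0xb0b0002) (.leaf 0xb0a0a0003))) (.node 50928 (.leaf 0xc6ee) (.node 50929 (.leaf 0xa0a0002) (.leaf 0x0))))) (.node 50935 (.node 50932 (.node 50931 (.leaf 0xf0b0b0003) (.leaf 0x0)) (.node 50933 (.leaf 0x0) (.node 50934 (.leaf 0xb0f0a0a0004) (.leaf 0x2020007000903000703040103000d)))) (.node 50938 (.node 50936 (.leaf 0x0) (.node 50937 (.leaf 0xb0a0a0003) (.leaf 0x0))) (.node 50939 (.leaf 0xb0b0a0a0004) (.node 50940 (.leaf 0xc6fa00c6f9) (.leaf 0xd0001))))))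

def argWS_4513 : Store := (.node 50952 (.node 50946 (.node 50943 (.node 50942 (.leaf 0x0) (.leaf 0xe0d0002)) (.node 50944 (.leaf 0x0) (.node 50945 (.leaf 0xf0b0002) (.leaf 0x805000308000703040103000b)))) (.node 50949 (.node 50947 (.leaf 0x0) (.node 50948 (.leaf 0xe0a0002) (.leaf 0x0))) (.node 50950 (.leaf 0xc704) (.node 50951 (.leaf 0xd0001) (.leaf 0x0))))) (.node 50958 (.node 50955 (.node 50953 (.leaf 0x200090206020802040105000c) (.node 50954 (.leaf 0x0) (.leaf 0xd0001))) (.node 50956 (.leaf 0xd0b0b0003) (.node 50957 (.leaf 0xe0d0002) (.leaf 0xc70c)))) (.node 50961 (.node 50959 (.leaf 0xa0a0002) (.node 50960 (.leaf 0x0) (.leaf 0xf0a0a0003))) (.node 50962 (.leaf 0x0) (.node 50963 (.leaf 0x0) (.leaf 0xb0a0a0003))))))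

def argWS_4514 : Store := (.node 50941 argWS_4512 argWS_4513)

def argWS_4515 : Store := (.node 50919 argWS_4511 argWS_4514)

def argWS_4516 : Store := (.node 50975 (.node 50969 (.node 50966 (.node 50965 (.leaf 0xb0a0002) (.leaf 0xe0001)) (.node 50967 (.leaf 0xc71500c714) (.node 50968 (.leaf 0x102020900000202000701000b) (.leaf 0x0)))) (.node 50972 (.node 50970 (.leaf 0xb0a0002) (.node 50971 (.leaf 0x0) (.leaf 0xe0d0002))) (.node 50973 (.leaf 0x0) (.node 50974 (.leaf 0x0) (.leaf 0xa0a0002))))) (.node 50980 (.node 50977 (.node 50976 (.leaf 0xf0b0a0003) (.leaf 0xc71f00c71e)) (.node 50978 (.leaf 0xb0f0a0a0004) (.node 50979 (.leaf 0x0) (.leaf 0xf0a0a0003)))) (.node 50983 (.node 50981 (.leaf 0x0) (.node 50982 (.leaf 0x0) (.leaf 0x204010904020006))) (.node 50984 (.leaf 0x0) (.node 50985 (.leaf 0xf0001) (.leaf 0x0))))))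

def argWS_4517 : Store := (.node 50997 (.node 50991 (.node 50988 (.node 50987 (.leaf 0x7020206020007010008) (.leaf 0x0)) (.node 50989 (.leaf 0xb0a0a0003) (.node 50990 (.leaf 0x0) (.leaf 0x60501070009030007)))) (.node 50994 (.node 50992 (.leaf 0x0) (.node 50993 (.leaf 0xa0f0b0b0004) (.leaf 0x0))) (.node 50995 (.leaf 0xc73100c72d) (.node 50996 (.leaf 0xf0b0b0a0004) (.leaf 0x0))))) (.node 51003 (.node 51000 (.node 50998 (.leaf 0x6060105020202010202000701000d) (.node 50999 (.leaf 0x0) (.leaf 0xf0b0b0a0004))) (.node 51001 (.leaf 0xa0001) (.node 51002 (.leaf 0x207020106060802040105000b) (.leaf 0x0)))) (.node 51006 (.node 51004 (.leaf 0xf0b0b0003) (.node 51005 (.leaf 0x0) (.leaf 0xf0b0a0a0004))) (.node 51007 (.leaf 0xc73d00c73c) (.node 51008 (.leaf 0xa0f0b0b0004) (.leaf 0x0))))))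

def argWS_4518 : Store := (.node 50986 argWS_4516 argWS_4517)

def argWS_4519 : Store := (.node 51020 (.node 51014 (.node 51011 (.node 51010 (.leaf 0xf0001) (.leaf 0x0)) (.node 51012 (.leaf 0x0) (.node 51013 (.leaf 0x20600020804000007) (.leaf 0x0)))) (.node 51017 (.node 51015 (.leaf 0xb0f0002) (.node 51016 (.leaf 0x0) (.leaf 0x5020400050802040105000a))) (.node 51018 (.leaf 0x0) (.node 51019 (.leaf 0xd0b0b0003) (.leaf 0x0))))) (.node 51025 (.node 51022 (.node 51021 (.leaf 0x209070206000006) (.leaf 0x0)) (.node 51023 (.leaf 0xd0b0002) (.node 51024 (.leaf 0x0) (.leaf 0xc74f00c74b)))) (.node 51028 (.node 51026 (.leaf 0xa0f0002) (.node 51027 (.leaf 0x0) (.leaf 0x3070900090802040105000a))) (.node 51029 (.leaf 0x0) (.node 51030 (.leaf 0xe0001) (.leaf 0xd0b0002))))))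

def argWS_4520 : Store := (.node 51042 (.node 51036 (.node 51033 (.node 51032 (.leaf 0xb0b0a0003) (.leaf 0x60102010703060007)) (.node 51034 (.leaf 0x0) (.node 51035 (.leaf 0xb0f0a0003) (.leaf 0x0)))) (.node 51039 (.node 51037 (.leaf 0xc75b00c757) (.node 51038 (.leaf 0xb0a0a0003) (.leaf 0x0))) (.node 51040 (.leaf 0xa0f0b0003) (.node 51041 (.leaf 0x0) (.leaf 0x0))))) (.node 51048 (.node 51045 (.node 51043 (.leaf 0xd0b0002) (.node 51044 (.leaf 0xb0b0a0003) (.leaf 0xc763))) (.node 51046 (.leaf 0xa0f0b0003) (.node 51047 (.leaf 0x0) (.leaf 0xb0f0a0a0004)))) (.node 51051 (.node 51049 (.leaf 0x0) (.node 51050 (.leaf 0x0) (.leaf 0x20206030500040202000701000c))) (.node 51052 (.leaf 0x0) (.node 51053 (.leaf 0xf0a0a0003) (.leaf 0x0))))))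

def argWS_4521 : Store := (.node 51031 argWS_4519 argWS_4520)

def argWS_4522 : Store := (.node 51009 argWS_4518 argWS_4521)

def argWS_4523 : Store := (.node 50964 argWS_4515 argWS_4522)

def argWS_4524 : Store := (.node 51065 (.node 51059 (.node 51056 (.node 51055 (.leaf 0x60102010904020202000701000c) (.leaf 0x0)) (.node 51057 (.leaf 0xf0b0b0a0a0005) (.node 51058 (.leaf 0x0) (.leaf 0xc77100c76d)))) (.node 51062 (.node 51060 (.leaf 0xe0a0002) (.node 51061 (.leaf 0x0) (.leaf 0xf0001))) (.node 51063 (.leaf 0x0) (.node 51064 (.leaf 0x0) (.leaf 0xb0a0f0003))))) (.node 51070 (.node 51067 (.node 51066 (.leaf 0x402060408020401050009) (.leaf 0x0)) (.node 51068 (.leaf 0xb0a0002) (.node 51069 (.leaf 0x0) (.leaf 0xc77c)))) (.node 51073 (.node 51071 (.leaf 0xd0b0b0003) (.node 51072 (.leaf 0x0) (.leaf 0x0))) (.node 51074 (.leaf 0xf0a0a0003) (.node 51075 (.leaf 0xb0f0a0a0004) (.leaf 0xf0b0a0003))))))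

def argWS_4525 : Store := (.node 51087 (.node 51081 (.node 51078 (.node 51077 (.leaf 0x0) (.leaf 0xc78400c782)) (.node 51079 (.leaf 0xf0b0b0a0a0005) (.node 51080 (.leaf 0x0) (.leaf 0x0)))) (.node 51084 (.node 51082 (.leaf 0xd0b0002) (.node 51083 (.leaf 0x5000003010102000202000701000d) (.leaf 0x0))) (.node 51085 (.leaf 0xb0a0002) (.node 51086 (.leaf 0x0) (.leaf 0xf0b0a0003))))) (.node 51093 (.node 51090 (.node 51088 (.leaf 0xc78e00c78d) (.node 51089 (.leaf 0xb0b0a0a0004) (.leaf 0x0))) (.node 51091 (.leaf 0x2020901060202000701000a) (.node 51092 (.leaf 0x0) (.leaf 0xb0b0a0003)))) (.node 51096 (.node 51094 (.leaf 0x60501010703060007) (.node 51095 (.leaf 0x0) (.leaf 0xe0001))) (.node 51097 (.leaf 0x0) (.node 51098 (.leaf 0x5020002080400000703040103000d) (.leaf 0x0))))))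

def argWS_4526 : Store := (.node 51076 argWS_4524 argWS_4525)

def argWS_4527 : Store := (.node 51110 (.node 51104 (.node 51101 (.node 51100 (.leaf 0xb0b0a0a0004) (.leaf 0x0)) (.node 51102 (.leaf 0xc79c0011e1) (.node 51103 (.leaf 0xf0a0002) (.leaf 0x0)))) (.node 51107 (.node 51105 (.leaf 0xb0f0002) (.node 51106 (.leaf 0x0) (.leaf 0x0))) (.node 51108 (.leaf 0x601020206020007010009) (.node 51109 (.leaf 0x0) (.leaf 0xe0a0a0003))))) (.node 51115 (.node 51112 (.node 51111 (.leaf 0x0) (.leaf 0xb0b0a0003)) (.node 51113 (.leaf 0xc7a7) (.node 51114 (.leaf 0xd0001) (.leaf 0x0)))) (.node 51118 (.node 51116 (.leaf 0xb0f0a0003) (.node 51117 (.leaf 0x0) (.leaf 0x0))) (.node 51119 (.leaf 0x9000601050002000703040103000d) (.node 51120 (.leaf 0x0) (.leaf 0xd0b0b0003))))))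

def argWS_4528 : Store := (.node 51132 (.node 51126 (.node 51123 (.node 51122 (.leaf 0x0) (.leaf 0xa0f0b0003)) (.node 51124 (.leaf 0xc7b200c7b1) (.node 51125 (.leaf 0xf0a0002) (.leaf 0x0)))) (.node 51129 (.node 51127 (.leaf 0xf0b0002) (.node 51128 (.leaf 0x0) (.leaf 0x0))) (.node 51130 (.leaf 0xf0b0b0a0004) (.node 51131 (.leaf 0xf0a0002) (.leaf 0xd0b0b0003))))) (.node 51138 (.node 51135 (.node 51133 (.leaf 0xc7bb00c7ba) (.node 51134 (.leaf 0x10502000408010202000701000c) (.leaf 0x0))) (.node 51136 (.leaf 0xf0b0a0003) (.node 51137 (.leaf 0x0) (.leaf 0xa0f0b0b0004)))) (.node 51141 (.node 51139 (.leaf 0x0) (.node 51140 (.leaf 0x0) (.leaf 0x602000401050006))) (.node 51142 (.leaf 0x0) (.node 51143 (.leaf 0xb0b0002) (.leaf 0x0))))))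

def argWS_4529 : Store := (.node 51121 argWS_4527 argWS_4528)

def argWS_4530 : Store := (.node 51099 argWS_4526 argWS_4529)

def argWS_4531 : Store := (.node 51155 (.node 51149 (.node 51146 (.node 51145 (.leaf 0x10106020702010802040105000c) (.leaf 0x0)) (.node 51147 (.leaf 0xf0b0b0a0004) (.node 51148 (.leaf 0x0) (.leaf 0x60007000903000703040103000c)))) (.node 51152 (.node 51150 (.leaf 0x0) (.node 51151 (.leaf 0xd0001) (.leaf 0x0))) (.node 51153 (.leaf 0xc7cf00c7cb) (.node 51154 (.leaf 0xb0f0a0a0004) (.leaf 0x0))))) (.node 51160 (.node 51157 (.node 51156 (.leaf 0x2090305020202010008) (.leaf 0x0)) (.node 51158 (.leaf 0xf0b0b0003) (.node 51159 (.leaf 0x2000003010102000202000701000d) (.leaf 0x0)))) (.node 51163 (.node 51161 (.leaf 0xa0f0b0003) (.node 51162 (.leaf 0x0) (.leaf 0x20000030000000703040103000d))) (.node 51164 (.leaf 0x0) (.node 51165 (.leaf 0xf0b0a0a0004) (.leaf 0x0))))))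

def argWS_4532 : Store := (.node 51177 (.node 51171 (.node 51168 (.node 51167 (.leaf 0xc7dd) (.leaf 0xb0f0a0003)) (.node 51169 (.leaf 0x0) (.node 51170 (.leaf 0xf0b0b0003) (.leaf 0x0)))) (.node 51174 (.node 51172 (.leaf 0x0) (.node 51173 (.leaf 0xf0b0a0003) (.leaf 0x2090300020804000202000701000d))) (.node 51175 (.leaf 0x0) (.node 51176 (.leaf 0x0) (.leaf 0xb0f0a0a0004))))) (.node 51183 (.node 51180 (.node 51178 (.leaf 0xc7e800c7e7) (.node 51179 (.leaf 0x7020604000703040103000a) (.leaf 0x0))) (.node 51181 (.leaf 0xf0b0b0003) (.node 51182 (.leaf 0x0) (.leaf 0xf0b0b0a0a0005)))) (.node 51186 (.node 51184 (.leaf 0x0) (.node 51185 (.leaf 0x0) (.leaf 0xa0001))) (.node 51187 (.leaf 0xf0b0002) (.node 51188 (.leaf 0xc7f2) (.leaf 0xb0f0002))))))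

def argWS_4533 : Store := (.node 51166 argWS_4531 argWS_4532)

def argWS_4534 : Store := (.node 51200 (.node 51194 (.node 51191 (.node 51190 (.leaf 0x0) (.leaf 0xe0a0a0003)) (.node 51192 (.leaf 0x0) (.node 51193 (.leaf 0x0) (.leaf 0xa0001)))) (.node 51197 (.node 51195 (.leaf 0x70506020702010802040105000c) (.node 51196 (.leaf 0x0) (.leaf 0xb0a0a0003))) (.node 51198 (.leaf 0x0) (.node 51199 (.leaf 0xf0a0002) (.leaf 0xc7fe00c7fd))))) (.node 51206 (.node 51203 (.node 51201 (.leaf 0x60301010904020007) (.node 51202 (.leaf 0x0) (.leaf 0xa0f0b0b0004))) (.node 51204 (.leaf 0x0) (.node 51205 (.leaf 0xf0b0a0003) (.leaf 0x0)))) (.node 51209 (.node 51207 (.leaf 0x0) (.node 51208 (.leaf 0x60000020901060802040105000c) (.leaf 0x0))) (.node 51210 (.leaf 0xe0a0002) (.node 51211 (.leaf 0x0) (.leaf 0xc71f))))))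

def argWS_4535 : Store := (.node 51223 (.node 51217 (.node 51214 (.node 51213 (.leaf 0xf0b0b0a0a0005) (.leaf 0x0)) (.node 51215 (.leaf 0xf0b0b0a0a0005) (.node 51216 (.leaf 0x0) (.leaf 0x0)))) (.node 51220 (.node 51218 (.leaf 0xe0a0002) (.node 51219 (.leaf 0xc811) (.leaf 0xe0a0a0003))) (.node 51221 (.leaf 0x0) (.node 51222 (.leaf 0xe0a0a0003) (.leaf 0x0))))) (.node 51229 (.node 51226 (.node 51224 (.leaf 0xb0a0002) (.node 51225 (.leaf 0x605010904020006) (.leaf 0x0))) (.node 51227 (.leaf 0xf0b0b0a0a0005) (.node 51228 (.leaf 0x0) (.leaf 0x30305020604000703040103000c)))) (.node 51232 (.node 51230 (.leaf 0x0) (.node 51231 (.leaf 0xf0001) (.leaf 0x0))) (.node 51233 (.leaf 0xc81f00c81b) (.node 51234 (.leaf 0x30401010703060007) (.leaf 0x0))))))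

def argWS_4536 : Store := (.node 51212 argWS_4534 argWS_4535)

def argWS_4537 : Store := (.node 51189 argWS_4533 argWS_4536)

def argWS_4538 : Store := (.node 51144 argWS_4530 argWS_4537)

def argWS_4539 : Store := (.node 51054 argWS_4523 argWS_4538)

def argWS_4540 : Store := (.node 50874 argWS_4508 argWS_4539)

def argWS_4541 : Store := (.node 51246 (.node 51240 (.node 51237 (.node 51236 (.leaf 0xd0b0002) (.leaf 0x0)) (.node 51238 (.leaf 0xb0a0a0003) (.node 51239 (.leaf 0x0) (.leaf 0x0)))) (.node 51243 (.node 51241 (.leaf 0x20200000300000802040105000c) (.node 51242 (.leaf 0x0) (.leaf 0xb0b0002))) (.node 51244 (.leaf 0x0) (.node 51245 (.leaf 0xa0001) (.leaf 0xb63500c82c))))) (.node 51251 (.node 51248 (.node 51247 (.leaf 0xd0b0b0003) (.leaf 0x0)) (.node 51249 (.leaf 0xa0f0b0b0004) (.node 51250 (.leaf 0x0) (.leaf 0x0)))) (.node 51254 (.node 51252 (.leaf 0xf0a0a0003) (.node 51253 (.leaf 0x202050202020703040103000b) (.leaf 0x0))) (.node 51255 (.leaf 0xe0a0002)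 (.node 51256 (.leaf 0x0) (.leaf 0x30506030500040202000701000c))))))

def argWS_4542 : Store := (.node 51268 (.node 51262 (.node 51259 (.node 51258 (.leaf 0x0) (.leaf 0xb0a0002)) (.node 51260 (.leaf 0x0) (.node 51261 (.leaf 0xc83b00c837) (.leaf 0xa0a0002)))) (.node 51265 (.node 51263 (.leaf 0x0) (.node 51264 (.leaf 0x1020200000300000802040105000d) (.leaf 0x0))) (.node 51266 (.leaf 0xf0b0b0a0004) (.node 51267 (.leaf 0xf0b0a0003) (.leaf 0x4030003010102000008))))) (.node 51274 (.node 51271 (.node 51269 (.leaf 0x0) (.node 51270 (.leaf 0xa0f0b0b0004) (.leaf 0x0))) (.node 51272 (.leaf 0xe0d0002) (.node 51273 (.leaf 0xc84700c846) (.leaf 0x5000009080600000703040103000d)))) (.node 51277 (.node 51275 (.leaf 0x0) (.node 51276 (.leaf 0xb0b0a0003) (.leaf 0x0))) (.node 51278 (.leaf 0xf0001) (.node 51279 (.leaf 0x0) (.leaf 0x0))))))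

def argWS_4543 : Store := (.node 51257 argWS_4541 argWS_4542)

def argWS_4544 : Store := (.node 51291 (.node 51285 (.node 51282 (.node 51281 (.leaf 0xe0a0002) (.leaf 0xa0001)) (.node 51283 (.leaf 0x700000004080703040103000b) (.node 51284 (.leaf 0x0) (.leaf 0xe0a0a0003)))) (.node 51288 (.node 51286 (.leaf 0x0) (.node 51287 (.leaf 0xc85500c851) (.leaf 0xa0f0b0003))) (.node 51289 (.leaf 0x0) (.node 51290 (.leaf 0xb0b0a0003) (.leaf 0x0))))) (.node 51296 (.node 51293 (.node 51292 (.leaf 0x0) (.leaf 0x50301090402000703040103000d)) (.node 51294 (.leaf 0x0) (.node 51295 (.leaf 0xb0a0f0003) (.leaf 0x0)))) (.node 51299 (.node 51297 (.leaf 0xa0001) (.node 51298 (.leaf 0x3000601050002000703040103000d) (.leaf 0x0))) (.node 51300 (.leaf 0xa0001) (.node 51301 (.leaf 0x0) (.leaf 0xc86400c860))))))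

def argWS_4545 : Store := (.node 51313 (.node 51307 (.node 51304 (.node 51303 (.leaf 0xa0f0002) (.leaf 0x0)) (.node 51305 (.leaf 0xf0a0002) (.node 51306 (.leaf 0x0) (.leaf 0x0)))) (.node 51310 (.node 51308 (.leaf 0x40003090806000202000701000c) (.node 51309 (.leaf 0x0) (.leaf 0xa0f0b0b0004))) (.node 51311 (.leaf 0x0) (.node 51312 (.leaf 0xf0a0002) (.leaf 0xb0001))))) (.node 51319 (.node 51316 (.node 51314 (.leaf 0xc87000c86f) (.node 51315 (.leaf 0xb0a0002) (.leaf 0x0))) (.node 51317 (.leaf 0x1070006020702010202000701000d) (.node 51318 (.leaf 0x0) (.leaf 0xa0a0002)))) (.node 51322 (.node 51320 (.leaf 0x0) (.node 51321 (.leaf 0x0) (.leaf 0x0))) (.node 51323 (.leaf 0xb0001) (.node 51324 (.leaf 0xb0f0a0a0004) (.leaf 0xe0001))))))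

def argWS_4546 : Store := (.node 51302 argWS_4544 argWS_4545)

def argWS_4547 : Store := (.node 51280 argWS_4543 argWS_4546)

def argWS_4548 : Store := (.node 51336 (.node 51330 (.node 51327 (.node 51326 (.leaf 0x70000020901060802040105000c) (.leaf 0x0)) (.node 51328 (.leaf 0xb0a0002) (.node 51329 (.leaf 0x0) (.leaf 0xe0d0002)))) (.node 51333 (.node 51331 (.leaf 0xc88100c880) (.node 51332 (.leaf 0xf0001) (.leaf 0x0))) (.node 51334 (.leaf 0xb0b0a0a0004) (.node 51335 (.leaf 0x0) (.leaf 0x0))))) (.node 51341 (.node 51338 (.node 51337 (.leaf 0xe0a0a0003) (.leaf 0xa0f0b0003)) (.node 51339 (.leaf 0x901070206000202000701000b) (.node 51340 (.leaf 0x0) (.leaf 0xb0a0002)))) (.node 51344 (.node 51342 (.leaf 0x0) (.node 51343 (.leaf 0x20901020603000703040103000c) (.leaf 0x0))) (.node 51345 (.leaf 0xe0a0a0003) (.node 51346 (.leaf 0x0) (.leaf 0xc89100c88d))))))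

def argWS_4549 : Store := (.node 51358 (.node 51352 (.node 51349 (.node 51348 (.leaf 0xa0f0b0003) (.leaf 0x0)) (.node 51350 (.leaf 0xa0f0b0003) (.node 51351 (.leaf 0x0) (.leaf 0x0)))) (.node 51355 (.node 51353 (.leaf 0x60200030306040202000701000c) (.node 51354 (.leaf 0x0) (.leaf 0xd0b0002))) (.node 51356 (.leaf 0x0) (.node 51357 (.leaf 0xd0b0002) (.leaf 0xc89c00c89b))))) (.node 51364 (.node 51361 (.node 51359 (.leaf 0x60206020702010007) (.node 51360 (.leaf 0x0) (.leaf 0xd0001))) (.node 51362 (.leaf 0x0) (.node 51363 (.leaf 0xe0d0002) (.leaf 0x0)))) (.node 51367 (.node 51365 (.leaf 0xb0f0002) (.node 51366 (.leaf 0xa0f0b0b0004) (.leaf 0x1010904020802040105000a))) (.node 51368 (.leaf 0x0) (.node 51369 (.leaf 0x0) (.leaf 0xb0a0f0003))))))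

def argWS_4550 : Store := (.node 51347 argWS_4548 argWS_4549)

def argWS_4551 : Store := (.node 51381 (.node 51375 (.node 51372 (.node 51371 (.leaf 0xc8a900c8a8) (.leaf 0xe0d0002)) (.node 51373 (.leaf 0x0) (.node 51374 (.leaf 0xb0f0002) (.leaf 0x0)))) (.node 51378 (.node 51376 (.leaf 0x0) (.node 51377 (.leaf 0xd0b0002) (.leaf 0xb0a0f0003))) (.node 51379 (.leaf 0xaca1) (.node 51380 (.leaf 0xe0a0002) (.leaf 0x0))))) (.node 51386 (.node 51383 (.node 51382 (.leaf 0xe0d0002) (.leaf 0x0)) (.node 51384 (.leaf 0x0) (.node 51385 (.leaf 0xf0a0002) (.leaf 0xf0b0a0003)))) (.node 51389 (.node 51387 (.leaf 0x604000009020602000703040103000e) (.node 51388 (.leaf 0x0) (.leaf 0xb0a0f0003))) (.node 51390 (.leaf 0x0) (.node 51391 (.leaf 0xa0f0002) (.leaf 0xc8be00c8bd))))))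

def argWS_4552 : Store := (.node 51403 (.node 51397 (.node 51394 (.node 51393 (.leaf 0xf0a0002) (.leaf 0x0)) (.node 51395 (.leaf 0x0) (.node 51396 (.leaf 0xf0001) (.leaf 0x10400000300000202000701000c)))) (.node 51400 (.node 51398 (.leaf 0x0) (.node 51399 (.leaf 0xe0001) (.leaf 0x0))) (.node 51401 (.leaf 0xc8c7) (.node 51402 (.leaf 0x604000603050004000703040103000e) (.leaf 0x0))))) (.node 51409 (.node 51406 (.node 51404 (.leaf 0xf0001) (.node 51405 (.leaf 0x0) (.leaf 0xe0a0002))) (.node 51407 (.leaf 0x0) (.node 51408 (.leaf 0x0) (.leaf 0xf0b0002)))) (.node 51412 (.node 51410 (.leaf 0xd0b0002) (.node 51411 (.leaf 0x8020003010102000202000701000d) (.leaf 0x0))) (.node 51413 (.leaf 0xa0f0002) (.node 51414 (.leaf 0x0) (.leaf 0xc8d500c8d1))))))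

def argWS_4553 : Store := (.node 51392 argWS_4551 argWS_4552)

def argWS_4554 : Store := (.node 51370 argWS_4550 argWS_4553)

def argWS_4555 : Store := (.node 51325 argWS_4547 argWS_4554)

def argWS_4556 : Store := (.node 51426 (.node 51420 (.node 51417 (.node 51416 (.leaf 0x50205020202010202000701000c) (.leaf 0x0)) (.node 51418 (.leaf 0xb0b0a0a0004) (.node 51419 (.leaf 0x0) (.leaf 0xe0d0002)))) (.node 51423 (.node 51421 (.leaf 0x0) (.node 51422 (.leaf 0x0) (.leaf 0xf0b0b0a0a0005))) (.node 51424 (.leaf 0x3040308020401050008) (.node 51425 (.leaf 0x0) (.leaf 0x0))))) (.node 51431 (.node 51428 (.node 51427 (.leaf 0x900030306040202000701000b) (.leaf 0x0)) (.node 51429 (.leaf 0x0) (.node 51430 (.leaf 0xc8e400c8e1) (.leaf 0x3010207020007010008)))) (.node 51434 (.node 51432 (.leaf 0x0) (.node 51433 (.leaf 0xb0a0f0003) (.leaf 0x0))) (.node 51435 (.leaf 0xa0f0002) (.node 51436 (.leaf 0x0) (.leaf 0x0))))))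

def argWS_4557 : Store := (.node 51448 (.node 51442 (.node 51439 (.node 51438 (.leaf 0xf0a0a0003) (.leaf 0x2020703000703040103000b)) (.node 51440 (.leaf 0x0) (.node 51441 (.leaf 0xf0a0a0003) (.leaf 0x0)))) (.node 51445 (.node 51443 (.leaf 0xc8f1004004) (.node 51444 (.leaf 0xf0a0a0003) (.leaf 0x0))) (.node 51446 (.leaf 0xa0f0002) (.node 51447 (.leaf 0x0) (.leaf 0x0))))) (.node 51454 (.node 51451 (.node 51449 (.leaf 0xf0b0a0a0004) (.node 51450 (.leaf 0xf0a0a0003) (.leaf 0x9a8400c8f9))) (.node 51452 (.leaf 0x704090000090006) (.node 51453 (.leaf 0x0) (.leaf 0xa0001)))) (.node 51457 (.node 51455 (.leaf 0x0) (.node 51456 (.leaf 0xb0a0002) (.leaf 0x0))) (.node 51458 (.leaf 0xa0001) (.node 51459 (.leaf 0xd0b0002) (.leaf 0xb0001))))))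

def argWS_4558 : Store := (.node 51437 argWS_4556 argWS_4557)

def argWS_4559 : Store := (.node 51471 (.node 51465 (.node 51462 (.node 51461 (.leaf 0xc90300c902) (.leaf 0x80101070206000202000701000c)) (.node 51463 (.leaf 0x0) (.node 51464 (.leaf 0xe0001) (.leaf 0x0)))) (.node 51468 (.node 51466 (.leaf 0x0) (.node 51467 (.leaf 0xb0f0a0003) (.leaf 0x2000003010005))) (.node 51469 (.leaf 0x0) (.node 51470 (.leaf 0xa0f0002) (.leaf 0x0))))) (.node 51476 (.node 51473 (.node 51472 (.leaf 0x70305090806000202000701000c) (.leaf 0x0)) (.node 51474 (.leaf 0xa0f0002) (.node 51475 (.leaf 0x0) (.leaf 0xc91200c90e)))) (.node 51479 (.node 51477 (.leaf 0x90406020702010007) (.node 51478 (.leaf 0x0) (.leaf 0xd0b0b0003))) (.node 51480 (.leaf 0x0) (.node 51481 (.leaf 0xa0f0b0003) (.leaf 0x0))))))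

def argWS_4560 : Store := (.node 51493 (.node 51487 (.node 51484 (.node 51483 (.leaf 0x0) (.leaf 0xb0a0a0003)) (.node 51485 (.leaf 0xa0001) (.node 51486 (.leaf 0xf0b0002) (.leaf 0x604000300000202000701000b)))) (.node 51490 (.node 51488 (.leaf 0x0) (.node 51489 (.leaf 0xf0b0b0003) (.leaf 0x0))) (.node 51491 (.leaf 0x8030002010606000703040103000d) (.node 51492 (.leaf 0x0) (.leaf 0xa0f0002))))) (.node 51499 (.node 51496 (.node 51494 (.leaf 0x0) (.node 51495 (.leaf 0xc92500c921) (.leaf 0xf0a0002))) (.node 51497 (.leaf 0x0) (.node 51498 (.leaf 0xa0f0002) (.leaf 0x0)))) (.node 51502 (.node 51500 (.leaf 0x0) (.node 51501 (.leaf 0xa0a0002) (.leaf 0x500020007030401030009))) (.node 51503 (.leaf 0x0) (.node 51504 (.leaf 0x0) (.leaf 0xc92f))))))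

def argWS_4561 : Store := (.node 51482 argWS_4559 argWS_4560)

def argWS_4562 : Store := (.node 51460 argWS_4558 argWS_4561)

def argWS_4563 : Store := (.node 51516 (.node 51510 (.node 51507 (.node 51506 (.leaf 0xa0f0b0003) (.leaf 0x0)) (.node 51508 (.leaf 0x70200000300000802040105000c) (.node 51509 (.leaf 0x0) (.leaf 0xb0a0a0003)))) (.node 51513 (.node 51511 (.leaf 0xf0001) (.node 51512 (.leaf 0x6000002020900000802040105000d) (.leaf 0x0))) (.node 51514 (.leaf 0xb0b0a0003) (.node 51515 (.leaf 0x0) (.leaf 0xe0d0002))))) (.node 51521 (.node 51518 (.node 51517 (.leaf 0xc93b00c93a) (.leaf 0xf0b0b0a0004)) (.node 51519 (.leaf 0x0) (.node 51520 (.leaf 0xb0a0f0003) (.leaf 0x0)))) (.node 51524 (.node 51522 (.leaf 0x0) (.node 51523 (.leaf 0xe0a0002) (.leaf 0xf0001))) (.node 51525 (.leaf 0xb0a0a0003) (.node 51526 (.leaf 0xf0b0a0003) (.leaf 0xb0f0002))))))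

def argWS_4564 : Store := (.node 51538 (.node 51532 (.node 51529 (.node 51528 (.leaf 0xb0f0a0a0004) (.leaf 0xb0a0a0003)) (.node 51530 (.leaf 0xb0f0a0a0004) (.node 51531 (.leaf 0x2040807030401030008) (.leaf 0x0)))) (.node 51535 (.node 51533 (.leaf 0xf0b0002) (.node 51534 (.leaf 0x0) (.leaf 0x80004090806000802040105000c))) (.node 51536 (.leaf 0x0) (.node 51537 (.leaf 0x0) (.leaf 0xc95000c94d))))) (.node 51544 (.node 51541 (.node 51539 (.leaf 0x40409000009000703040103000c) (.node 51540 (.leaf 0x0) (.leaf 0xb0f0a0003))) (.node 51542 (.leaf 0x0) (.node 51543 (.leaf 0xd0b0002) (.leaf 0x0)))) (.node 51547 (.node 51545 (.leaf 0x0) (.node 51546 (.leaf 0xb0f0a0a0004) (.leaf 0xb0f0a0003))) (.node 51548 (.leaf 0xc95a00c959) (.node 51549 (.leaf 0x70209080600000703040103000c) (.leaf 0x0))))))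

def argWS_4565 : Store := (.node 51527 argWS_4563 argWS_4564)

def argWS_4566 : Store := (.node 51561 (.node 51555 (.node 51552 (.node 51551 (.leaf 0x0) (.leaf 0xf0b0b0a0a0005)) (.node 51553 (.leaf 0x0) (.node 51554 (.leaf 0x0) (.leaf 0xc8f9)))) (.node 51558 (.node 51556 (.leaf 0xa0a0002) (.node 51557 (.leaf 0x0) (.leaf 0xf0b0b0a0004))) (.node 51559 (.leaf 0x0) (.node 51560 (.leaf 0x0) (.leaf 0xf0b0b0a0a0005))))) (.node 51567 (.node 51564 (.node 51562 (.leaf 0x705010703060006) (.node 51563 (.leaf 0x0) (.leaf 0xf0001))) (.node 51565 (.leaf 0x0) (.node 51566 (.leaf 0xb0b0002) (.leaf 0xc96d00c96c)))) (.node 51570 (.node 51568 (.leaf 0xa0f0b0003) (.node 51569 (.leaf 0x0) (.leaf 0xd0001))) (.node 51571 (.leaf 0x0) (.node 51572 (.leaf 0x0) (.leaf 0xb0a0f0003))))))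

def argWS_4567 : Store := (.node 51584 (.node 51578 (.node 51575 (.node 51574 (.leaf 0xb0a0f0003) (.leaf 0xb0b0002)) (.node 51576 (.leaf 0x200090000090202000701000b) (.node 51577 (.leaf 0x0) (.leaf 0xa0f0b0b0004)))) (.node 51581 (.node 51579 (.leaf 0x0) (.node 51580 (.leaf 0x6010201020106060202000701000d) (.leaf 0x0))) (.node 51582 (.leaf 0xf0001) (.node 51583 (.leaf 0x0) (.leaf 0xc97e00c97a))))) (.node 51590 (.node 51587 (.node 51585 (.leaf 0xf0b0002) (.node 51586 (.leaf 0x0) (.leaf 0x20200070009030007))) (.node 51588 (.leaf 0x0) (.node 51589 (.leaf 0xa0f0b0b0004) (.leaf 0xb0a0a0003)))) (.node 51593 (.node 51591 (.leaf 0x506030500040006) (.node 51592 (.leaf 0x0) (.leaf 0xf0b0a0003))) (.node 51594 (.leaf 0x0) (.node 51595 (.leaf 0xc989) (.leaf 0xf0b0b0003))))))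

def argWS_4568 : Store := (.node 51573 argWS_4566 argWS_4567)

def argWS_4569 : Store := (.node 51550 argWS_4565 argWS_4568)

def argWS_4570 : Store := (.node 51505 argWS_4562 argWS_4569)

def argWS_4571 : Store := (.node 51415 argWS_4555 argWS_4570)

def argWS_4572 : Store := (.node 51607 (.node 51601 (.node 51598 (.node 51597 (.leaf 0x0) (.leaf 0xf0b0b0a0a0005)) (.node 51599 (.leaf 0x0) (.node 51600 (.leaf 0x0) (.leaf 0xd0001)))) (.node 51604 (.node 51602 (.leaf 0x10701090805000703040103000c) (.node 51603 (.leaf 0x0) (.leaf 0xb0f0a0a0004))) (.node 51605 (.leaf 0x0) (.node 51606 (.leaf 0xc994) (.leaf 0x200040005000703040103000b))))) (.node 51612 (.node 51609 (.node 51608 (.leaf 0x0) (.leaf 0xa0f0b0b0004)) (.node 51610 (.leaf 0x0) (.node 51611 (.leaf 0xf0a0002) (.leaf 0x0)))) (.node 51615 (.node 51613 (.leaf 0x0) (.node 51614 (.leaf 0xd0001) (.leaf 0xe0a0002))) (.node 51616 (.leaf 0x209000908020401050009) (.node 51617 (.leaf 0x0) (.leaf 0xf0001))))))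

def argWS_4573 : Store := (.node 51629 (.node 51623 (.node 51620 (.node 51619 (.leaf 0x0) (.leaf 0xc9a2)) (.node 51621 (.leaf 0xb0a0002) (.node 51622 (.leaf 0x0) (.leaf 0xe0a0a0003)))) (.node 51626 (.node 51624 (.leaf 0x0) (.node 51625 (.leaf 0x0) (.leaf 0xb0a0f0003))) (.node 51627 (.leaf 0xd0b0b0003) (.node 51628 (.leaf 0xc9aa00c9a9) (.leaf 0xf0b0a0a0004))))) (.node 51635 (.node 51632 (.node 51630 (.leaf 0x0) (.node 51631 (.leaf 0xf0b0b0a0a0005) (.leaf 0x0))) (.node 51633 (.leaf 0x0) (.node 51634 (.leaf 0xf0b0b0a0004) (.leaf 0xc9b1)))) (.node 51638 (.node 51636 (.leaf 0x103000207020007010009) (.node 51637 (.leaf 0x0) (.leaf 0xe0d0002))) (.node 51639 (.leaf 0x0) (.node 51640 (.leaf 0xb0f0002) (.leaf 0x0))))))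

def argWS_4574 : Store := (.node 51618 argWS_4572 argWS_4573)

def argWS_4575 : Store := (.node 51652 (.node 51646 (.node 51643 (.node 51642 (.leaf 0x0) (.leaf 0xb0a0f0003)) (.node 51644 (.leaf 0x7010408010802040105000a) (.node 51645 (.leaf 0x0) (.leaf 0xb0f0a0a0004)))) (.node 51649 (.node 51647 (.leaf 0x0) (.node 51648 (.leaf 0x503090000090202000701000c) (.leaf 0x0))) (.node 51650 (.leaf 0xa0f0b0b0004) (.node 51651 (.leaf 0x0) (.leaf 0xc9c200c9be))))) (.node 51657 (.node 51654 (.node 51653 (.leaf 0xd0b0b0003) (.leaf 0x0)) (.node 51655 (.leaf 0xa0a0002) (.node 51656 (.leaf 0x0) (.leaf 0x0)))) (.node 51660 (.node 51658 (.leaf 0xf0b0002) (.node 51659 (.leaf 0xa0f0b0003) (.leaf 0x185e))) (.node 51661 (.leaf 0x602010901090202000701000b) (.node 51662 (.leaf 0x0) (.leaf 0xf0a0a0003))))))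

def argWS_4576 : Store := (.node 51674 (.node 51668 (.node 51665 (.node 51664 (.leaf 0x0) (.leaf 0xe0a0a0003)) (.node 51666 (.leaf 0x0) (.node 51667 (.leaf 0x0) (.leaf 0xb0f0a0003)))) (.node 51671 (.node 51669 (.leaf 0x6b2a) (.node 51670 (.leaf 0xf0b0b0a0a0005) (.leaf 0x0))) (.node 51672 (.leaf 0xb0001) (.node 51673 (.leaf 0x0) (.leaf 0x0))))) (.node 51680 (.node 51677 (.node 51675 (.leaf 0xb0a0a0003) (.node 51676 (.leaf 0xf0001) (.leaf 0xc9db))) (.node 51678 (.leaf 0xb0f0002) (.node 51679 (.leaf 0x0) (.leaf 0xe0a0a0003)))) (.node 51683 (.node 51681 (.leaf 0x0) (.node 51682 (.leaf 0x0) (.leaf 0xd0b0002))) (.node 51684 (.leaf 0xf0a0a0003) (.node 51685 (.leaf 0xf0b0002) (.leaf 0xc9e400c9e3))))))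

def argWS_4577 : Store := (.node 51663 argWS_4575 argWS_4576)

def argWS_4578 : Store := (.node 51641 argWS_4574 argWS_4577)

def argWS_4579 : Store := (.node 51697 (.node 51691 (.node 51688 (.node 51687 (.leaf 0xa0001) (.leaf 0x0)) (.node 51689 (.leaf 0x301020703000703040103000b) (.node 51690 (.leaf 0x0) (.leaf 0xf0b0b0a0a0005)))) (.node 51694 (.node 51692 (.leaf 0xb0a0a0003) (.node 51693 (.leaf 0xa0f0b0b0004) (.leaf 0x5090206020802040105000a))) (.node 51695 (.leaf 0x0) (.node 51696 (.leaf 0xd0b0002) (.leaf 0x0))))) (.node 51702 (.node 51699 (.node 51698 (.leaf 0x2020205020202010202000701000d) (.leaf 0x0)) (.node 51700 (.leaf 0xe0001) (.node 51701 (.leaf 0x0) (.leaf 0xc9f400c9f0)))) (.node 51705 (.node 51703 (.leaf 0xb0b0002) (.node 51704 (.leaf 0x0) (.leaf 0xa0f0002))) (.node 51706 (.leaf 0x0) (.node 51707 (.leaf 0x0) (.leaf 0xa0a0002))))))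

def argWS_4580 : Store := (.node 51719 (.node 51713 (.node 51710 (.node 51709 (.leaf 0x40102000003010802040105000c) (.leaf 0x0)) (.node 51711 (.leaf 0x0) (.node 51712 (.leaf 0x501070009030006) (.leaf 0x0)))) (.node 51716 (.node 51714 (.leaf 0xb0a0f0003) (.node 51715 (.leaf 0x0) (.leaf 0xca02))) (.node 51717 (.leaf 0xe0d0002) (.node 51718 (.leaf 0x0) (.leaf 0xa0f0b0003))))) (.node 51725 (.node 51722 (.node 51720 (.leaf 0x0) (.node 51721 (.leaf 0x0) (.leaf 0xd0b0002))) (.node 51723 (.leaf 0xe0001) (.node 51724 (.leaf 0xd0b0b0003) (.leaf 0xca0b)))) (.node 51728 (.node 51726 (.leaf 0xb0b0002) (.node 51727 (.leaf 0x0) (.leaf 0xb0f0002))) (.node 51729 (.leaf 0x0) (.node 51730 (.leaf 0x0) (.leaf 0xa0001))))))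

def argWS_4581 : Store := (.node 51708 argWS_4579 argWS_4580)

def argWS_4582 : Store := (.node 51742 (.node 51736 (.node 51733 (.node 51732 (.leaf 0x50305050206040802040105000c) (.leaf 0x0)) (.node 51734 (.leaf 0xf0a0a0003) (.node 51735 (.leaf 0x0) (.leaf 0x0)))) (.node 51739 (.node 51737 (.leaf 0xca1700ca16) (.node 51738 (.leaf 0xf0b0b0003) (.leaf 0x0))) (.node 51740 (.leaf 0xf0b0b0a0a0005) (.node 51741 (.leaf 0x0) (.leaf 0x0))))) (.node 51747 (.node 51744 (.node 51743 (.leaf 0x90402020007010007) (.leaf 0x0)) (.node 51745 (.leaf 0xb0b0a0a0004) (.node 51746 (.leaf 0x0) (.leaf 0xb0a0a0003)))) (.node 51750 (.node 51748 (.leaf 0xca22) (.node 51749 (.leaf 0xb0b0a0003) (.leaf 0x0))) (.node 51751 (.leaf 0xe0a0a0003) (.node 51752 (.leaf 0x0) (.leaf 0x0))))))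

def argWS_4583 : Store := (.node 51764 (.node 51758 (.node 51755 (.node 51754 (.leaf 0xb0f0002) (.leaf 0xc942)) (.node 51756 (.leaf 0xb0b0a0003) (.node 51757 (.leaf 0x0) (.leaf 0xa0f0002)))) (.node 51761 (.node 51759 (.leaf 0x0) (.node 51760 (.leaf 0x0) (.leaf 0xf0b0b0a0a0005))) (.node 51762 (.leaf 0x50309000009000703040103000d) (.node 51763 (.leaf 0x0) (.leaf 0xf0b0b0003))))) (.node 51770 (.node 51767 (.node 51765 (.leaf 0x0) (.node 51766 (.leaf 0x90201010904020007) (.leaf 0x0))) (.node 51768 (.leaf 0xf0b0a0003) (.node 51769 (.leaf 0x0) (.leaf 0xca3800ca34)))) (.node 51773 (.node 51771 (.leaf 0xa0f0b0003) (.node 51772 (.leaf 0x0) (.leaf 0xb0b0a0003))) (.node 51774 (.leaf 0x0) (.node 51775 (.leaf 0x0) (.leaf 0x206010904020006))))))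

def argWS_4584 : Store := (.node 51753 argWS_4582 argWS_4583)

def argWS_4585 : Store := (.node 51731 argWS_4581 argWS_4584)

def argWS_4586 : Store := (.node 51686 argWS_4578 argWS_4585)

def argWS_4587 : Store := (.node 51787 (.node 51781 (.node 51778 (.node 51777 (.leaf 0x0) (.leaf 0xf0b0002)) (.node 51779 (.leaf 0x0) (.node 51780 (.leaf 0x606020702010006) (.leaf 0x0)))) (.node 51784 (.node 51782 (.leaf 0xf0b0b0003) (.node 51783 (.leaf 0x0) (.leaf 0xca4600ca42))) (.node 51785 (.leaf 0xb0b0a0a0004) (.node 51786 (.leaf 0x0) (.leaf 0xb0001))))) (.node 51792 (.node 51789 (.node 51788 (.leaf 0x0) (.leaf 0x0)) (.node 51790 (.leaf 0xe0a0a0003) (.node 51791 (.leaf 0x3010004) (.leaf 0x0)))) (.node 51795 (.node 51793 (.leaf 0xe0a0002) (.node 51794 (.leaf 0x0) (.leaf 0xf0b0002))) (.node 51796 (.leaf 0xca5200ca51) (.node 51797 (.leaf 0x202060207020703040103000b) (.leaf 0x0))))))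

def argWS_4588 : Store := (.node 51809 (.node 51803 (.node 51800 (.node 51799 (.leaf 0xf0b0b0a0004) (.leaf 0x0)) (.node 51801 (.leaf 0xf0b0a0003) (.node 51802 (.leaf 0x0) (.leaf 0x0)))) (.node 51806 (.node 51804 (.leaf 0x70202090106000703040103000c) (.node 51805 (.leaf 0x0) (.leaf 0xf0b0a0a0004))) (.node 51807 (.leaf 0x0) (.node 51808 (.leaf 0x9010207030005) (.leaf 0x0))))) (.node 51815 (.node 51812 (.node 51810 (.leaf 0xb0f0a0a0004) (.node 51811 (.leaf 0x0) (.leaf 0xd0b0002))) (.node 51813 (.leaf 0xca6300ca62) (.node 51814 (.leaf 0xb0b0002) (.leaf 0x0)))) (.node 51818 (.node 51816 (.leaf 0xf0b0b0a0a0005) (.node 51817 (.leaf 0x0) (.leaf 0x0))) (.node 51819 (.leaf 0xb0b0a0a0004) (.node 51820 (.leaf 0xca6a) (.leaf 0xe0a0a0003))))))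

def argWS_4589 : Store := (.node 51798 argWS_4587 argWS_4588)

def argWS_4590 : Store := (.node 51832 (.node 51826 (.node 51823 (.node 51822 (.leaf 0x0) (.leaf 0xd0001)) (.node 51824 (.leaf 0x0) (.node 51825 (.leaf 0x0) (.leaf 0xe0a0002)))) (.node 51829 (.node 51827 (.leaf 0xf0b0a0003) (.node 51828 (.leaf 0xf0b0a0a0004) (.leaf 0xca7300ca72))) (.node 51830 (.leaf 0xa0f0002) (.node 51831 (.leaf 0x0) (.leaf 0xd0001))))) (.node 51837 (.node 51834 (.node 51833 (.leaf 0x0) (.leaf 0x0)) (.node 51835 (.leaf 0xd0b0002) (.node 51836 (.leaf 0x4020007010005) (.leaf 0x0)))) (.node 51840 (.node 51838 (.leaf 0xa0001) (.node 51839 (.leaf 0x0) (.leaf 0x20202010202000701000a))) (.node 51841 (.leaf 0x0) (.node 51842 (.leaf 0x0) (.leaf 0xca8100ca7e))))))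

def argWS_4591 : Store := (.node 51854 (.node 51848 (.node 51845 (.node 51844 (.leaf 0xa0f0b0b0004) (.leaf 0x0)) (.node 51846 (.leaf 0xf0001) (.node 51847 (.leaf 0x0) (.leaf 0x0)))) (.node 51851 (.node 51849 (.leaf 0x7030500030306040008) (.node 51850 (.leaf 0x0) (.leaf 0xb0a0a0003))) (.node 51852 (.leaf 0x0) (.node 51853 (.leaf 0xf0b0a0003) (.leaf 0x3070000030306040802040105000d))))) (.node 51860 (.node 51857 (.node 51855 (.leaf 0x0) (.node 51856 (.leaf 0xa0f0b0003) (.leaf 0x0))) (.node 51858 (.leaf 0xca9000ca8c) (.node 51859 (.leaf 0xf0001) (.leaf 0x0)))) (.node 51863 (.node 51861 (.leaf 0x700090109000703040103000b) (.node 51862 (.leaf 0x0) (.leaf 0xb0a0f0003))) (.node 51864 (.leaf 0xb0a0a0003) (.node 51865 (.leaf 0xb0f0002) (.leaf 0xf0b0b0a0004))))))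

def argWS_4592 : Store := (.node 51843 argWS_4590 argWS_4591)

def argWS_4593 : Store := (.node 51821 argWS_4589 argWS_4592)

def argWS_4594 : Store := (.node 51877 (.node 51871 (.node 51868 (.node 51867 (.leaf 0xca9900ca98) (.leaf 0xf0b0a0003)) (.node 51869 (.leaf 0x0) (.node 51870 (.leaf 0xf0001) (.leaf 0x0)))) (.node 51874 (.node 51872 (.leaf 0x0) (.node 51873 (.leaf 0xf0b0a0003) (.leaf 0x20502090806000202000701000c))) (.node 51875 (.leaf 0x0) (.node 51876 (.leaf 0xe0d0002) (.leaf 0x0))))) (.node 51882 (.node 51879 (.node 51878 (.leaf 0xf0b0a0a0004) (.leaf 0xcaa500caa4)) (.node 51880 (.leaf 0xf0a0002) (.node 51881 (.leaf 0x0) (.leaf 0xb0b0a0a0004)))) (.node 51885 (.node 51883 (.leaf 0x0) (.node 51884 (.leaf 0x0) (.leaf 0x2040002080400000703040103000d))) (.node 51886 (.leaf 0x0) (.node 51887 (.leaf 0xa0f0b0b0004) (.leaf 0x0))))))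

def argWS_4595 : Store := (.node 51899 (.node 51893 (.node 51890 (.node 51889 (.leaf 0xb0001) (.leaf 0xb0f0002)) (.node 51891 (.leaf 0xcab100cab0) (.node 51892 (.leaf 0xf0a0002) (.leaf 0x0)))) (.node 51896 (.node 51894 (.leaf 0x104000308000703040103000b) (.node 51895 (.leaf 0x0) (.leaf 0xd0001))) (.node 51897 (.leaf 0x205020900090802040105000b) (.node 51898 (.leaf 0x0) (.leaf 0xd0001))))) (.node 51905 (.node 51902 (.node 51900 (.leaf 0x0) (.node 51901 (.leaf 0xe0a0a0003) (.leaf 0xcabc))) (.node 51903 (.leaf 0xf0b0a0a0004) (.node 51904 (.leaf 0x0) (.leaf 0x20600090206020202000701000c)))) (.node 51908 (.node 51906 (.leaf 0x0) (.node 51907 (.leaf 0xe0a0a0003) (.leaf 0xf0b0a0a0004))) (.node 51909 (.leaf 0x2050207020007010008) (.node 51910 (.leaf 0x0) (.leaf 0xb0f0a0a0004))))))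

def argWS_4596 : Store := (.node 51888 argWS_4594 argWS_4595)

def argWS_4597 : Store := (.node 51922 (.node 51916 (.node 51913 (.node 51912 (.leaf 0x0) (.leaf 0xb0b0002)) (.node 51914 (.leaf 0xcac800cac7) (.node 51915 (.leaf 0x509080502020007010009) (.leaf 0x0)))) (.node 51919 (.node 51917 (.leaf 0xa0f0002) (.node 51918 (.leaf 0x0) (.leaf 0xd0b0b0003))) (.node 51920 (.leaf 0x0) (.node 51921 (.leaf 0x0) (.leaf 0x602010900090202000701000b))))) (.node 51928 (.node 51925 (.node 51923 (.leaf 0x0) (.node 51924 (.leaf 0xb0a0a0003) (.leaf 0x0))) (.node 51926 (.leaf 0xb0f0a0a0004) (.node 51927 (.leaf 0xb0001) (.leaf 0xcad600cad5)))) (.node 51931 (.node 51929 (.leaf 0x0) (.node 51930 (.leaf 0x0) (.leaf 0xb0b0a0003))) (.node 51932 (.leaf 0xf0001) (.node 51933 (.leaf 0xb5ed00c383) (.leaf 0x0))))))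

def argWS_4598 : Store := (.node 51945 (.node 51939 (.node 51936 (.node 51935 (.leaf 0xa0f0002) (.leaf 0x0)) (.node 51937 (.leaf 0x0) (.node 51938 (.leaf 0xf0b0b0a0004) (.leaf 0x50201010904020802040105000c)))) (.node 51942 (.node 51940 (.leaf 0x0) (.node 51941 (.leaf 0xa0001) (.leaf 0x0))) (.node 51943 (.leaf 0xca0900cae5) (.node 51944 (.leaf 0xd0b0002) (.leaf 0x0))))) (.node 51951 (.node 51948 (.node 51946 (.leaf 0xf0b0a0003) (.node 51947 (.leaf 0x0) (.leaf 0x0))) (.node 51949 (.leaf 0xb0a0002) (.node 51950 (.leaf 0xf0a0a0003) (.leaf 0xd0b0b0003)))) (.node 51954 (.node 51952 (.leaf 0xcaee00caed) (.node 51953 (.leaf 0x10201020901060007) (.leaf 0x0))) (.node 51955 (.leaf 0xb0b0a0a0004) (.node 51956 (.leaf 0x0) (.leaf 0xa0f0002))))))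

def argWS_4599 : Store := (.node 51934 argWS_4597 argWS_4598)

def argWS_4600 : Store := (.node 51911 argWS_4596 argWS_4599)

def argWS_4601 : Store := (.node 51866 argWS_4593 argWS_4600)

def argWS_4602 : Store := (.node 51776 argWS_4586 argWS_4601)

def argWS_4603 : Store := (.node 51596 argWS_4571 argWS_4602)

def argWS_4604 : Store := (.node 51235 argWS_4540 argWS_4603)

def argWS_4605 : Store := (.node 50513 argWS_4477 argWS_4604)

def argWS_4606 : Store := (.node 49070 argWS_4350 argWS_4605)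

def argWS_4607 : Store := (.node 51968 (.node 51962 (.node 51959 (.node 51958 (.leaf 0x0) (.leaf 0x0)) (.node 51960 (.leaf 0x5000000030000000703040103000d) (.node 51961 (.leaf 0x0) (.leaf 0xd0b0b0003)))) (.node 51965 (.node 51963 (.leaf 0x0) (.node 51964 (.leaf 0x1030306040005) (.leaf 0x0))) (.node 51966 (.leaf 0xb0a0a0003) (.node 51967 (.leaf 0x0) (.leaf 0xcafe00cafa))))) (.node 51973 (.node 51970 (.node 51969 (.leaf 0x40004020901060007) (.leaf 0x0)) (.node 51971 (.leaf 0xb0b0002) (.node 51972 (.leaf 0x0) (.leaf 0xd0001)))) (.node 51976 (.node 51974 (.leaf 0x0) (.node 51975 (.leaf 0x0) (.leaf 0xa0a0002))) (.node 51977 (.leaf 0xf0a0002) (.node 51978 (.leaf 0xb0f0a0a0004) (.leaf 0xcb0900cb08))))))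

def argWS_4608 : Store := (.node 51990 (.node 51984 (.node 51981 (.node 51980 (.leaf 0xf0b0a0a0004) (.leaf 0x0)) (.node 51982 (.leaf 0xf0001) (.node 51983 (.leaf 0x0) (.leaf 0x0)))) (.node 51987 (.node 51985 (.leaf 0xb0f0002) (.node 51986 (.leaf 0xf0a0a0003) (.leaf 0xd0b0002))) (.node 51988 (.leaf 0xcb1200cb11) (.node 51989 (.leaf 0x60200020901060007) (.leaf 0x0))))) (.node 51996 (.node 51993 (.node 51991 (.leaf 0xb0b0002) (.node 51992 (.leaf 0x0) (.leaf 0xf0a0002))) (.node 51994 (.leaf 0x0) (.node 51995 (.leaf 0x0) (.leaf 0x403070009030802040105000b)))) (.node 51999 (.node 51997 (.leaf 0x0) (.node 51998 (.leaf 0xf0b0002) (.leaf 0x0))) (.node 52000 (.leaf 0x1040000020804000802040105000d) (.node 52001 (.leaf 0x0) (.leaf 0xe0d0002))))))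

def argWS_4609 : Store := (.node 51979 argWS_4607 argWS_4608)

def argWS_4610 : Store := (.node 52013 (.node 52007 (.node 52004 (.node 52003 (.leaf 0x0) (.leaf 0xcb2200cb1e)) (.node 52005 (.leaf 0x600000004080703040103000b) (.node 52006 (.leaf 0x0) (.leaf 0xa0f0002)))) (.node 52010 (.node 52008 (.leaf 0x0) (.node 52009 (.leaf 0xb0a0f0003) (.leaf 0x0))) (.node 52011 (.leaf 0x0) (.node 52012 (.leaf 0x104010908050202000701000b) (.leaf 0x0))))) (.node 52018 (.node 52015 (.node 52014 (.leaf 0xf0001) (.leaf 0x0)) (.node 52016 (.leaf 0x10107000903000703040103000c) (.node 52017 (.leaf 0x0) (.leaf 0xe0a0a0003)))) (.node 52021 (.node 52019 (.leaf 0x0) (.node 52020 (.leaf 0xcaf200cb32) (.leaf 0xf0b0002))) (.node 52022 (.leaf 0x0) (.node 52023 (.leaf 0x0) (.leaf 0xf0b0a0003))))))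

def argWS_4611 : Store := (.node 52035 (.node 52029 (.node 52026 (.node 52025 (.leaf 0x0) (.leaf 0xb0bf00cb38)) (.node 52027 (.leaf 0xa0a0002) (.node 52028 (.leaf 0x0) (.leaf 0xb0001)))) (.node 52032 (.node 52030 (.leaf 0x0) (.node 52031 (.leaf 0x0) (.leaf 0xb0b0a0a0004))) (.node 52033 (.leaf 0x70506010500020202000701000c) (.node 52034 (.leaf 0x0) (.leaf 0x0))))) (.node 52041 (.node 52038 (.node 52036 (.leaf 0xf0b0b0a0004) (.node 52037 (.leaf 0xcb4300cb42) (.leaf 0xd0b0002))) (.node 52039 (.leaf 0x0) (.node 52040 (.leaf 0xb0001) (.leaf 0x0)))) (.node 52044 (.node 52042 (.leaf 0x0) (.node 52043 (.leaf 0xb0f0a0003) (.leaf 0x9010206030802040105000a))) (.node 52045 (.leaf 0x0) (.node 52046 (.leaf 0x0) (.leaf 0xcb4d00cb4a))))))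

def argWS_4612 : Store := (.node 52024 argWS_4610 argWS_4611)

def argWS_4613 : Store := (.node 52002 argWS_4609 argWS_4612)

def argWS_4614 : Store := (.node 52058 (.node 52052 (.node 52049 (.node 52048 (.leaf 0x30407020902000703040103000c) (.leaf 0x0)) (.node 52050 (.leaf 0xe0d0002) (.node 52051 (.leaf 0x0) (.leaf 0xf0a0a0003)))) (.node 52055 (.node 52053 (.leaf 0x0) (.node 52054 (.leaf 0x0) (.leaf 0x50305070206000202000701000c))) (.node 52056 (.leaf 0x0) (.node 52057 (.leaf 0xf0a0a0003) (.leaf 0x0))))) (.node 52063 (.node 52060 (.node 52059 (.leaf 0xcb59) (.leaf 0x7030500090206020202000701000d)) (.node 52061 (.leaf 0x0) (.node 52062 (.leaf 0xd0b0b0003) (.leaf 0x0)))) (.node 52066 (.node 52064 (.leaf 0xf0b0a0003) (.node 52065 (.leaf 0x0) (.leaf 0x0))) (.node 52067 (.leaf 0x703060004) (.node 52068 (.leaf 0x0) (.leaf 0xf0b0a0003))))))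

def argWS_4615 : Store := (.node 52080 (.node 52074 (.node 52071 (.node 52070 (.leaf 0x0) (.leaf 0xd0b0b0003)) (.node 52072 (.leaf 0xc99500cb66) (.node 52073 (.leaf 0xd0001) (.leaf 0x0)))) (.node 52077 (.node 52075 (.leaf 0x309020602000703040103000b) (.node 52076 (.leaf 0x0) (.leaf 0xf0b0b0a0004))) (.node 52078 (.leaf 0xf0a0a0003) (.node 52079 (.leaf 0xf0b0002) (.leaf 0x40003000408010007))))) (.node 52086 (.node 52083 (.node 52081 (.leaf 0x0) (.node 52082 (.leaf 0xb0b0a0a0004) (.leaf 0x0))) (.node 52084 (.leaf 0xcb72000f75) (.node 52085 (.leaf 0x604040807030401030009) (.leaf 0x0)))) (.node 52089 (.node 52087 (.leaf 0xe0001) (.node 52088 (.leaf 0x0) (.leaf 0xf0a0002))) (.node 52090 (.leaf 0x0) (.node 52091 (.leaf 0x0) (.leaf 0xf0b0a0a0004))))))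

def argWS_4616 : Store := (.node 52069 argWS_4614 argWS_4615)

def argWS_4617 : Store := (.node 52103 (.node 52097 (.node 52094 (.node 52093 (.leaf 0x90102020900000202000701000c) (.leaf 0x0)) (.node 52095 (.leaf 0xb0f0002) (.node 52096 (.leaf 0x0) (.leaf 0xcb7f)))) (.node 52100 (.node 52098 (.leaf 0x60000070206000007) (.node 52099 (.leaf 0x0) (.leaf 0xb0f0a0a0004))) (.node 52101 (.leaf 0x0) (.node 52102 (.leaf 0xf0b0002) (.leaf 0x0))))) (.node 52108 (.node 52105 (.node 52104 (.leaf 0x0) (.leaf 0xb0b0a0a0004)) (.node 52106 (.leaf 0x202000003010007) (.node 52107 (.leaf 0x0) (.leaf 0xb0001)))) (.node 52111 (.node 52109 (.leaf 0x0) (.node 52110 (.leaf 0x2040306020702010802040105000d) (.leaf 0x0))) (.node 52112 (.leaf 0xf0a0a0003) (.node 52113 (.leaf 0x0) (.leaf 0xcb9000cb8c))))))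

def argWS_4618 : Store := (.node 52125 (.node 52119 (.node 52116 (.node 52115 (.leaf 0xd0b0002) (.leaf 0x0)) (.node 52117 (.leaf 0xa0001) (.node 52118 (.leaf 0x0) (.leaf 0x0)))) (.node 52122 (.node 52120 (.leaf 0xf0001) (.node 52121 (.leaf 0xb133) (.leaf 0x8000403010102000202000701000d))) (.node 52123 (.leaf 0x0) (.node 52124 (.leaf 0xb0f0a0003) (.leaf 0x0))))) (.node 52131 (.node 52128 (.node 52126 (.leaf 0xb0f0a0a0004) (.node 52127 (.leaf 0x0) (.leaf 0x0))) (.node 52129 (.leaf 0xa0f0002) (.node 52130 (.leaf 0x60005020202010802040105000c) (.leaf 0x0)))) (.node 52134 (.node 52132 (.leaf 0xa0f0002) (.node 52133 (.leaf 0x0) (.leaf 0xcba4))) (.node 52135 (.leaf 0xf0b0002) (.node 52136 (.leaf 0x0) (.leaf 0xb0001))))))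

def argWS_4619 : Store := (.node 52114 argWS_4617 argWS_4618)

def argWS_4620 : Store := (.node 52092 argWS_4616 argWS_4619)

def argWS_4621 : Store := (.node 52047 argWS_4613 argWS_4620)

def argWS_4622 : Store := (.node 52148 (.node 52142 (.node 52139 (.node 52138 (.leaf 0x0) (.leaf 0x0)) (.node 52140 (.leaf 0xb0a0f0003) (.node 52141 (.leaf 0xe0d0002) (.leaf 0xf0b0b0003)))) (.node 52145 (.node 52143 (.leaf 0x503050901090202000701000b) (.node 52144 (.leaf 0x0) (.leaf 0xf0b0b0003))) (.node 52146 (.leaf 0x0) (.node 52147 (.leaf 0xcbb100cbad) (.leaf 0xf0b0a0003))))) (.node 52153 (.node 52150 (.node 52149 (.leaf 0x0) (.leaf 0xf0001)) (.node 52151 (.leaf 0x0) (.node 52152 (.leaf 0x0) (.leaf 0xf0b0a0a0004)))) (.node 52156 (.node 52154 (.leaf 0x700000004080703040103000b) (.node 52155 (.leaf 0x0) (.leaf 0xa0f0b0b0004))) (.node 52157 (.leaf 0x0) (.node 52158 (.leaf 0xcbbc) (.leaf 0xb0f0002))))))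

def argWS_4623 : Store := (.node 52170 (.node 52164 (.node 52161 (.node 52160 (.leaf 0x0) (.leaf 0xd0b0b0003)) (.node 52162 (.leaf 0x0) (.node 52163 (.leaf 0x0) (.leaf 0xb0f0a0a0004)))) (.node 52167 (.node 52165 (.leaf 0x602010904020202000701000b) (.node 52166 (.leaf 0x0) (.leaf 0xe0d0002))) (.node 52168 (.leaf 0x0) (.node 52169 (.leaf 0xe0a0002) (.leaf 0xcbc800cbc7))))) (.node 52176 (.node 52173 (.node 52171 (.leaf 0x20400090206020202000701000c) (.node 52172 (.leaf 0x0) (.leaf 0xe0d0002))) (.node 52174 (.leaf 0x0) (.node 52175 (.leaf 0xb0a0a0003) (.leaf 0x0)))) (.node 52179 (.node 52177 (.leaf 0x0) (.node 52178 (.leaf 0x6010201050206040008) (.leaf 0x0))) (.node 52180 (.leaf 0xb0a0f0003) (.node 52181 (.leaf 0x0) (.leaf 0xf0b0a0a0004))))))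

def argWS_4624 : Store := (.node 52159 argWS_4622 argWS_4623)

def argWS_4625 : Store := (.node 52193 (.node 52187 (.node 52184 (.node 52183 (.leaf 0x30305020202010802040105000c) (.leaf 0x0)) (.node 52185 (.leaf 0xe0001) (.node 52186 (.leaf 0x0) (.leaf 0xcbd900cbd5)))) (.node 52190 (.node 52188 (.leaf 0xa0f0002) (.node 52189 (.leaf 0x0) (.leaf 0xf0b0002))) (.node 52191 (.leaf 0x0) (.node 52192 (.leaf 0x0) (.leaf 0xe0a0002))))) (.node 52198 (.node 52195 (.node 52194 (.leaf 0x90602020900000007) (.leaf 0x0)) (.node 52196 (.leaf 0xe0001) (.node 52197 (.leaf 0x0) (.leaf 0x5020408010802040105000a)))) (.node 52201 (.node 52199 (.leaf 0x0) (.node 52200 (.leaf 0xb0f0002) (.leaf 0x0))) (.node 52202 (.leaf 0xcbe800cbe4) (.node 52203 (.leaf 0x5000006010500020202000701000d) (.leaf 0x0))))))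

def argWS_4626 : Store := (.node 52215 (.node 52209 (.node 52206 (.node 52205 (.leaf 0xf0b0002) (.leaf 0x0)) (.node 52207 (.leaf 0xf0b0b0a0a0005) (.node 52208 (.leaf 0x0) (.leaf 0x0)))) (.node 52212 (.node 52210 (.leaf 0xa0f0002) (.node 52211 (.leaf 0xb0b0002) (.leaf 0xcbf2))) (.node 52213 (.leaf 0x9070904020202000701000a) (.node 52214 (.leaf 0x0) (.leaf 0xd0b0b0003))))) (.node 52221 (.node 52218 (.node 52216 (.leaf 0x0) (.node 52217 (.leaf 0xf0a0002) (.leaf 0x0))) (.node 52219 (.leaf 0x0) (.node 52220 (.leaf 0xa0f0002) (.leaf 0xb0f0a0003)))) (.node 52224 (.node 52222 (.leaf 0xb0a0002) (.node 52223 (.leaf 0xcbfd00cbfc) (.leaf 0xf0001))) (.node 52225 (.leaf 0x0) (.node 52226 (.leaf 0xe0001) (.leaf 0x0))))))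

def argWS_4627 : Store := (.node 52204 argWS_4625 argWS_4626)

def argWS_4628 : Store := (.node 52182 argWS_4624 argWS_4627)

def argWS_4629 : Store := (.node 52238 (.node 52232 (.node 52229 (.node 52228 (.leaf 0x0) (.leaf 0xa0001)) (.node 52230 (.leaf 0x20202020900000802040105000c) (.node 52231 (.leaf 0x0) (.leaf 0x0)))) (.node 52235 (.node 52233 (.leaf 0xa0f0002) (.node 52234 (.leaf 0xcc0800cc07) (.leaf 0xe0001))) (.node 52236 (.leaf 0x0) (.node 52237 (.leaf 0x8030009000009000703040103000d) (.leaf 0x0))))) (.node 52243 (.node 52240 (.node 52239 (.leaf 0xf0b0a0003) (.leaf 0xb0b0002)) (.node 52241 (.leaf 0x309000009000703040103000c) (.node 52242 (.leaf 0x0) (.leaf 0x0)))) (.node 52246 (.node 52244 (.leaf 0xcc12) (.node 52245 (.leaf 0xa0f0002) (.leaf 0x0))) (.node 52247 (.leaf 0xa0f0002) (.node 52248 (.leaf 0x0) (.leaf 0x0))))))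

def argWS_4630 : Store := (.node 52260 (.node 52254 (.node 52251 (.node 52250 (.leaf 0x301020901060202000701000b) (.leaf 0x0)) (.node 52252 (.leaf 0xf0a0002) (.node 52253 (.leaf 0x0) (.leaf 0xa0f0b0003)))) (.node 52257 (.node 52255 (.leaf 0xcc1d00cc1c) (.node 52256 (.leaf 0x307010904020802040105000b) (.leaf 0x0))) (.node 52258 (.leaf 0xb0f0a0a0004) (.node 52259 (.leaf 0x0) (.leaf 0x0))))) (.node 52266 (.node 52263 (.node 52261 (.leaf 0xe0001) (.node 52262 (.leaf 0x9c5f) (.leaf 0x6000007030401030009))) (.node 52264 (.leaf 0x0) (.node 52265 (.leaf 0xf0b0b0003) (.leaf 0x0)))) (.node 52269 (.node 52267 (.leaf 0xf0b0b0a0004) (.node 52268 (.leaf 0x0) (.leaf 0x0))) (.node 52270 (.leaf 0xe0d0002) (.node 52271 (.leaf 0xf0a0a0003) (.leaf 0xcc2e))))))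

def argWS_4631 : Store := (.node 52249 argWS_4629 argWS_4630)

def argWS_4632 : Store := (.node 52283 (.node 52277 (.node 52274 (.node 52273 (.leaf 0xd0b0002) (.leaf 0x0)) (.node 52275 (.leaf 0x0) (.node 52276 (.leaf 0xe0a0002) (.leaf 0x406020702010202000701000b)))) (.node 52280 (.node 52278 (.leaf 0x0) (.node 52279 (.leaf 0x0) (.leaf 0xcc3600cc33))) (.node 52281 (.leaf 0xb0f0002) (.node 52282 (.leaf 0x0) (.leaf 0x0))))) (.node 52288 (.node 52285 (.node 52284 (.leaf 0xa0f0002) (.leaf 0x1070006010500020008)) (.node 52286 (.leaf 0x0) (.node 52287 (.leaf 0xa0f0002) (.leaf 0x0)))) (.node 52291 (.node 52289 (.leaf 0x40403010102000202000701000c) (.node 52290 (.leaf 0x0) (.leaf 0x0))) (.node 52292 (.leaf 0xcc4200cc3f) (.node 52293 (.leaf 0xf0b0b0003) (.leaf 0x0))))))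

def argWS_4633 : Store := (.node 52305 (.node 52299 (.node 52296 (.node 52295 (.leaf 0xf0b0b0003) (.leaf 0x0)) (.node 52297 (.leaf 0xb0a0002) (.node 52298 (.leaf 0x901020603000703040103000b) (.leaf 0x0)))) (.node 52302 (.node 52300 (.leaf 0x0) (.node 52301 (.leaf 0xcc4b001fe8) (.leaf 0xf0b0a0003))) (.node 52303 (.leaf 0x0) (.node 52304 (.leaf 0xa0001) (.leaf 0x0))))) (.node 52311 (.node 52308 (.node 52306 (.leaf 0x0) (.node 52307 (.leaf 0xb0001) (.leaf 0xf0b0002))) (.node 52309 (.leaf 0xf0b0002) (.node 52310 (.leaf 0xcc5400cc53) (.leaf 0xa0f0002)))) (.node 52314 (.node 52312 (.leaf 0x0) (.node 52313 (.leaf 0x20702000003010007) (.leaf 0x0))) (.node 52315 (.leaf 0xd0001) (.node 52316 (.leaf 0xf0a0a0003) (.leaf 0xd0b0002))))))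

def argWS_4634 : Store := (.node 52294 argWS_4632 argWS_4633)

def argWS_4635 : Store := (.node 52272 argWS_4631 argWS_4634)

def argWS_4636 : Store := (.node 52227 argWS_4628 argWS_4635)

def argWS_4637 : Store := (.node 52137 argWS_4621 argWS_4636)

def argWS_4638 : Store := (.node 52328 (.node 52322 (.node 52319 (.node 52318 (.leaf 0xa78e00cc5c) (.leaf 0x902010206030802040105000b)) (.node 52320 (.leaf 0x0) (.node 52321 (.leaf 0xb0f0a0003) (.leaf 0x0)))) (.node 52325 (.node 52323 (.leaf 0xb0b0a0003) (.node 52324 (.leaf 0x0) (.leaf 0x0))) (.node 52326 (.leaf 0xf0b0002) (.node 52327 (.leaf 0x107010908050802040105000b) (.leaf 0x0))))) (.node 52333 (.node 52330 (.node 52329 (.leaf 0x0) (.leaf 0xf0b0b0003)) (.node 52331 (.leaf 0xcc6900cc68) (.node 52332 (.leaf 0x103010901090202000701000b) (.leaf 0x0)))) (.node 52336 (.node 52334 (.leaf 0xf0b0a0a0004) (.node 52335 (.leaf 0x0) (.leaf 0xb0f0a0a0004))) (.node 52337 (.leaf 0x0) (.node 52338 (.leaf 0x2040003030604000703040103000d)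 (.leaf 0x0))))))

def argWS_4639 : Store := (.node 52350 (.node 52344 (.node 52341 (.node 52340 (.leaf 0xf0b0b0a0a0005) (.leaf 0x0)) (.node 52342 (.leaf 0x70308020401050007) (.node 52343 (.leaf 0x0) (.leaf 0xd0b0002)))) (.node 52347 (.node 52345 (.leaf 0x0) (.node 52346 (.leaf 0xcc78) (.leaf 0xb0b0a0a0004))) (.node 52348 (.leaf 0x0) (.node 52349 (.leaf 0x3040102010606000703040103000d) (.leaf 0x0))))) (.node 52356 (.node 52353 (.node 52351 (.leaf 0xf0b0b0003) (.node 52352 (.leaf 0x10202010904020802040105000c) (.leaf 0x0))) (.node 52354 (.leaf 0xe0001) (.node 52355 (.leaf 0x0) (.leaf 0xe0d0002)))) (.node 52359 (.node 52357 (.leaf 0x90305020202010202000701000c) (.node 52358 (.leaf 0x0) (.leaf 0xa0a0002))) (.node 52360 (.leaf 0x0) (.node 52361 (.leaf 0xcc8700cc83) (.leaf 0xb0f0002))))))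

def argWS_4640 : Store := (.node 52339 argWS_4638 argWS_4639)

def argWS_4641 : Store := (.node 52373 (.node 52367 (.node 52364 (.node 52363 (.leaf 0x0) (.leaf 0x90102020900000007)) (.node 52365 (.leaf 0x0) (.node 52366 (.leaf 0xb0a0a0003) (.leaf 0xb0f0a0003)))) (.node 52370 (.node 52368 (.leaf 0xf0b0002) (.node 52369 (.leaf 0xcc8f00cc8e) (.leaf 0xb0f0a0a0004))) (.node 52371 (.leaf 0x0) (.node 52372 (.leaf 0xb0f0002) (.leaf 0x0))))) (.node 52378 (.node 52375 (.node 52374 (.leaf 0x0) (.leaf 0xe0a0a0003)) (.node 52376 (.leaf 0xb0a0f0003) (.node 52377 (.leaf 0x3010401050005) (.leaf 0x0)))) (.node 52381 (.node 52379 (.leaf 0xe0d0002) (.node 52380 (.leaf 0x0) (.leaf 0xcc9b00cc97))) (.node 52382 (.leaf 0xe0d0002) (.node 52383 (.leaf 0x0) (.leaf 0xe0d0002))))))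

def argWS_4642 : Store := (.node 52395 (.node 52389 (.node 52386 (.node 52385 (.leaf 0x0) (.leaf 0x0)) (.node 52387 (.leaf 0xf0a0a0003) (.node 52388 (.leaf 0xe0d0002) (.leaf 0xa0f0002)))) (.node 52392 (.node 52390 (.leaf 0xcca400cca3) (.node 52391 (.leaf 0xa0a0002) (.leaf 0x0))) (.node 52393 (.leaf 0xf0b0b0003) (.node 52394 (.leaf 0x0) (.leaf 0x0))))) (.node 52401 (.node 52398 (.node 52396 (.leaf 0xb0f0a0a0004) (.node 52397 (.leaf 0x4020901060006) (.leaf 0x0))) (.node 52399 (.leaf 0xd0b0b0003) (.node 52400 (.leaf 0x0) (.leaf 0xccaf)))) (.node 52404 (.node 52402 (.leaf 0xf0a0002) (.node 52403 (.leaf 0x0) (.leaf 0xe0a0a0003))) (.node 52405 (.leaf 0x0) (.node 52406 (.leaf 0x0) (.leaf 0xd0001))))))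

def argWS_4643 : Store := (.node 52384 argWS_4641 argWS_4642)

def argWS_4644 : Store := (.node 52362 argWS_4640 argWS_4643)

def argWS_4645 : Store := (.node 52418 (.node 52412 (.node 52409 (.node 52408 (.leaf 0x206030500040007) (.leaf 0x0)) (.node 52410 (.leaf 0xb0f0002) (.node 52411 (.leaf 0x0) (.leaf 0x60205020604000703040103000c)))) (.node 52415 (.node 52413 (.leaf 0x0) (.node 52414 (.leaf 0xe0d0002) (.leaf 0x0))) (.node 52416 (.leaf 0xccbe00ccba) (.node 52417 (.leaf 0xf0b0b0a0a0005) (.leaf 0x0))))) (.node 52423 (.node 52420 (.node 52419 (.leaf 0xb0f0a0a0004) (.leaf 0x0)) (.node 52421 (.leaf 0x0) (.node 52422 (.leaf 0x1020400050202000701000a) (.leaf 0x0)))) (.node 52426 (.node 52424 (.leaf 0xa0001) (.node 52425 (.leaf 0x0) (.leaf 0xf0b0a0a0004))) (.node 52427 (.leaf 0x40102000003010802040105000c) (.node 52428 (.leaf 0x0) (.leaf 0xb0a0f0003))))))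

def argWS_4646 : Store := (.node 52440 (.node 52434 (.node 52431 (.node 52430 (.leaf 0x0) (.leaf 0xcccd00ccc9)) (.node 52432 (.leaf 0xf0b0a0a0004) (.node 52433 (.leaf 0x0) (.leaf 0xf0b0a0a0004)))) (.node 52437 (.node 52435 (.leaf 0x0) (.node 52436 (.leaf 0x0) (.leaf 0x109030000030000000703040103000e))) (.node 52438 (.leaf 0x0) (.node 52439 (.leaf 0x0) (.leaf 0xccd6003d6d))))) (.node 52446 (.node 52443 (.node 52441 (.leaf 0xf0b0b0a0a0005) (.node 52442 (.leaf 0x0) (.leaf 0xb0001))) (.node 52444 (.leaf 0x0) (.node 52445 (.leaf 0x0) (.leaf 0xf0b0b0a0a0005)))) (.node 52449 (.node 52447 (.leaf 0x601020106010500020009) (.node 52448 (.leaf 0x0) (.leaf 0xb0f0002))) (.node 52450 (.leaf 0x0) (.node 52451 (.leaf 0xcce1) (.leaf 0x2040101090402000703040103000d))))))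

def argWS_4647 : Store := (.node 52429 argWS_4645 argWS_4646)

def argWS_4648 : Store := (.node 52463 (.node 52457 (.node 52454 (.node 52453 (.leaf 0x0) (.leaf 0xd0001)) (.node 52455 (.leaf 0x0) (.node 52456 (.leaf 0xf0b0a0003) (.leaf 0x0)))) (.node 52460 (.node 52458 (.leaf 0x0) (.node 52459 (.leaf 0xf0b0b0a0004) (.leaf 0x701020804000202000701000b))) (.node 52461 (.leaf 0x0) (.node 52462 (.leaf 0xf0b0b0a0004) (.leaf 0x0))))) (.node 52468 (.node 52465 (.node 52464 (.leaf 0xb0f0a0a0004) (.leaf 0xccef00ccee)) (.node 52466 (.leaf 0x0) (.node 52467 (.leaf 0x30403080004) (.leaf 0x0)))) (.node 52471 (.node 52469 (.leaf 0xa0f0b0003) (.node 52470 (.leaf 0xf0a0002) (.leaf 0x104010904020006))) (.node 52472 (.leaf 0x0) (.node 52473 (.leaf 0x0) (.leaf 0xd0b0b0003))))))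

def argWS_4649 : Store := (.node 52485 (.node 52479 (.node 52476 (.node 52475 (.leaf 0xccf900ccf8) (.leaf 0x2000205020202010008)) (.node 52477 (.leaf 0x0) (.node 52478 (.leaf 0xf0b0a0a0004) (.leaf 0x0)))) (.node 52482 (.node 52480 (.leaf 0xf0a0a0003) (.node 52481 (.leaf 0x0) (.leaf 0x0))) (.node 52483 (.leaf 0xe0a0002) (.node 52484 (.leaf 0x901010908050006) (.leaf 0x0))))) (.node 52491 (.node 52488 (.node 52486 (.leaf 0x0) (.node 52487 (.leaf 0x605000408010802040105000b) (.leaf 0x0))) (.node 52489 (.leaf 0xa0a0002) (.node 52490 (.leaf 0x0) (.leaf 0xcd0900cd05)))) (.node 52494 (.node 52492 (.leaf 0x4000206040802040105000a) (.node 52493 (.leaf 0x0) (.leaf 0xf0b0a0003))) (.node 52495 (.leaf 0x0) (.node 52496 (.leaf 0xb0a0002) (.leaf 0x0))))))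

def argWS_4650 : Store := (.node 52474 argWS_4648 argWS_4649)

def argWS_4651 : Store := (.node 52452 argWS_4647 argWS_4650)

def argWS_4652 : Store := (.node 52407 argWS_4644 argWS_4651)

def argWS_4653 : Store := (.node 52508 (.node 52502 (.node 52499 (.node 52498 (.leaf 0x0) (.leaf 0xa0a0002)) (.node 52500 (.leaf 0x0) (.node 52501 (.leaf 0x200050202020703040103000b) (.leaf 0x0)))) (.node 52505 (.node 52503 (.leaf 0xa0f0b0003) (.node 52504 (.leaf 0x0) (.leaf 0xcd1700cd13))) (.node 52506 (.leaf 0xf0a0002) (.node 52507 (.leaf 0x0) (.leaf 0xb0f0a0a0004))))) (.node 52513 (.node 52510 (.node 52509 (.leaf 0x0) (.leaf 0x0)) (.node 52511 (.leaf 0xa0f0b0003) (.node 52512 (.leaf 0xf0b0b0003) (.leaf 0xcd1f)))) (.node 52516 (.node 52514 (.leaf 0xe0a0a0003) (.node 52515 (.leaf 0x0) (.leaf 0xf0b0a0a0004))) (.node 52517 (.leaf 0x0) (.node 52518 (.leaf 0x0) (.leaf 0xf0b0a0003))))))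

def argWS_4654 : Store := (.node 52530 (.node 52524 (.node 52521 (.node 52520 (.leaf 0xe0a0002) (.leaf 0xcd27)) (.node 52522 (.leaf 0x4000207030802040105000b) (.node 52523 (.leaf 0x0) (.leaf 0xe0a0002)))) (.node 52527 (.node 52525 (.leaf 0x0) (.node 52526 (.leaf 0xf0b0002) (.leaf 0x0))) (.node 52528 (.leaf 0x0) (.node 52529 (.leaf 0xa0a0002) (.leaf 0xcd3000c10f))))) (.node 52536 (.node 52533 (.node 52531 (.leaf 0xf0b0002) (.node 52532 (.leaf 0x0) (.leaf 0xf0a0a0003))) (.node 52534 (.leaf 0x0) (.node 52535 (.leaf 0x0) (.leaf 0xb0a0002)))) (.node 52539 (.node 52537 (.leaf 0x70101020603000703040103000c) (.node 52538 (.leaf 0x0) (.leaf 0xf0b0a0a0004))) (.node 52540 (.leaf 0x0) (.node 52541 (.leaf 0xbda000cd3b) (.leaf 0xb0f0a0003))))))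

def argWS_4655 : Store := (.node 52519 argWS_4653 argWS_4654)

def argWS_4656 : Store := (.node 52553 (.node 52547 (.node 52544 (.node 52543 (.leaf 0x0) (.leaf 0xb0b0a0003)) (.node 52545 (.leaf 0x0) (.node 52546 (.leaf 0x0) (.leaf 0xf0a0002)))) (.node 52550 (.node 52548 (.leaf 0x0) (.node 52549 (.leaf 0xcd43) (.leaf 0x7000000090206020008))) (.node 52551 (.leaf 0x0) (.node 52552 (.leaf 0xe0d0002) (.leaf 0x0))))) (.node 52558 (.node 52555 (.node 52554 (.leaf 0xa0a0002) (.leaf 0x0)) (.node 52556 (.leaf 0x0) (.node 52557 (.leaf 0xb0b0002) (.leaf 0x70ef0075ad)))) (.node 52561 (.node 52559 (.leaf 0xf0b0002) (.node 52560 (.leaf 0x0) (.leaf 0xb0b0a0a0004))) (.node 52562 (.leaf 0x0) (.node 52563 (.leaf 0x0) (.leaf 0xf0b0b0003))))))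

def argWS_4657 : Store := (.node 52575 (.node 52569 (.node 52566 (.node 52565 (.leaf 0x20208020401050007) (.leaf 0x0)) (.node 52567 (.leaf 0xb0001) (.node 52568 (.leaf 0x0) (.leaf 0xf0b0a0a0004)))) (.node 52572 (.node 52570 (.leaf 0xcd5800cd57) (.node 52571 (.leaf 0xb0f0002) (.leaf 0x0))) (.node 52573 (.leaf 0xe0a0002) (.node 52574 (.leaf 0x0) (.leaf 0x0))))) (.node 52581 (.node 52578 (.node 52576 (.leaf 0xf0a0a0003) (.node 52577 (.leaf 0x60000020804000202000701000d) (.leaf 0x0))) (.node 52579 (.leaf 0xd0b0002) (.node 52580 (.leaf 0x0) (.leaf 0x50301090805000703040103000c)))) (.node 52584 (.node 52582 (.leaf 0x0) (.node 52583 (.leaf 0xb0b0a0a0004) (.leaf 0x0))) (.node 52585 (.leaf 0xcd6700cd63) (.node 52586 (.leaf 0xb0001) (.leaf 0x0))))))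

def argWS_4658 : Store := (.node 52564 argWS_4656 argWS_4657)

def argWS_4659 : Store := (.node 52542 argWS_4655 argWS_4658)

def argWS_4660 : Store := (.node 52598 (.node 52592 (.node 52589 (.node 52588 (.leaf 0xf0b0b0003) (.leaf 0x0)) (.node 52590 (.leaf 0x0) (.node 52591 (.leaf 0xb0b0002) (.leaf 0xe0001)))) (.node 52595 (.node 52593 (.leaf 0x209020106060006) (.node 52594 (.leaf 0x0) (.leaf 0xf0b0002))) (.node 52596 (.leaf 0x0) (.node 52597 (.leaf 0xcd7300cd6f) (.leaf 0xb0b0a0a0004))))) (.node 52603 (.node 52600 (.node 52599 (.leaf 0x0) (.leaf 0xa0f0b0003)) (.node 52601 (.leaf 0x0) (.node 52602 (.leaf 0x0) (.leaf 0xe0d0002)))) (.node 52606 (.node 52604 (.leaf 0x70202020007010007) (.node 52605 (.leaf 0x0) (.leaf 0x0))) (.node 52607 (.leaf 0xcd7d) (.node 52608 (.leaf 0xb0001) (.leaf 0x0))))))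

def argWS_4661 : Store := (.node 52620 (.node 52614 (.node 52611 (.node 52610 (.leaf 0x0) (.leaf 0x6000408010802040105000a)) (.node 52612 (.leaf 0x0) (.node 52613 (.leaf 0xb0001) (.leaf 0x0)))) (.node 52617 (.node 52615 (.leaf 0xb0f0002) (.node 52616 (.leaf 0xcd8600cd85) (.leaf 0x4040400050802040105000a))) (.node 52618 (.leaf 0x0) (.node 52619 (.leaf 0xb0a0f0003) (.leaf 0x0))))) (.node 52626 (.node 52623 (.node 52621 (.leaf 0xa0001) (.node 52622 (.leaf 0x0) (.leaf 0x0))) (.node 52624 (.leaf 0xd0b0002) (.node 52625 (.leaf 0xf0b0002) (.leaf 0xd0b0b0003)))) (.node 52629 (.node 52627 (.leaf 0xcd9100cd90) (.node 52628 (.leaf 0xf0a0a0003) (.leaf 0x0))) (.node 52630 (.leaf 0xb0001) (.node 52631 (.leaf 0x0) (.leaf 0x0))))))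

def argWS_4662 : Store := (.node 52609 argWS_4660 argWS_4661)

def argWS_4663 : Store := (.node 52643 (.node 52637 (.node 52634 (.node 52633 (.leaf 0x6050004080703040103000a) (.leaf 0x0)) (.node 52635 (.leaf 0xf0001) (.node 52636 (.leaf 0x0) (.leaf 0xf0a0002)))) (.node 52640 (.node 52638 (.leaf 0x1040308000703040103000a) (.node 52639 (.leaf 0x0) (.leaf 0xd0b0002))) (.node 52641 (.leaf 0x0) (.node 52642 (.leaf 0xcda000cd9c) (.leaf 0xf0b0a0a0004))))) (.node 52649 (.node 52646 (.node 52644 (.leaf 0x0) (.node 52645 (.leaf 0xb0f0002) (.leaf 0x0))) (.node 52647 (.leaf 0x0) (.node 52648 (.leaf 0xb0a0002) (.leaf 0x5010703060802040105000a)))) (.node 52652 (.node 52650 (.leaf 0x0) (.node 52651 (.leaf 0xb0f0a0a0004) (.leaf 0x0))) (.node 52653 (.leaf 0xcdab) (.node 52654 (.leaf 0xd0b0b0003) (.leaf 0x0))))))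

def argWS_4664 : Store := (.node 52666 (.node 52660 (.node 52657 (.node 52656 (.leaf 0xb0b0002) (.leaf 0x0)) (.node 52658 (.leaf 0x0) (.node 52659 (.leaf 0xb57b) (.leaf 0x60000020901060802040105000c)))) (.node 52663 (.node 52661 (.leaf 0x0) (.node 52662 (.leaf 0xd0b0002) (.leaf 0x0))) (.node 52664 (.leaf 0xf0a0a0003) (.node 52665 (.leaf 0x0) (.leaf 0x0))))) (.node 52672 (.node 52669 (.node 52667 (.leaf 0xb0001) (.node 52668 (.leaf 0xf0b0a0a0004) (.leaf 0xf0b0a0003))) (.node 52670 (.leaf 0xcdbc00cdbb) (.node 52671 (.leaf 0x80004020901060007) (.leaf 0x0)))) (.node 52675 (.node 52673 (.leaf 0xa0f0b0b0004) (.node 52674 (.leaf 0x0) (.leaf 0xf0a0a0003))) (.node 52676 (.leaf 0x0) (.node 52677 (.leaf 0x0) (.leaf 0x6020703000703040103000a))))))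

def argWS_4665 : Store := (.node 52655 argWS_4663 argWS_4664)

def argWS_4666 : Store := (.node 52632 argWS_4662 argWS_4665)

def argWS_4667 : Store := (.node 52587 argWS_4659 argWS_4666)

def argWS_4668 : Store := (.node 52497 argWS_4652 argWS_4667)

def argWS_4669 : Store := (.node 52317 argWS_4637 argWS_4668)

def argWS_4670 : Store := (.node 52689 (.node 52683 (.node 52680 (.node 52679 (.leaf 0x0) (.leaf 0xf0001)) (.node 52681 (.leaf 0x0) (.node 52682 (.leaf 0xb4bd) (.leaf 0xd0001)))) (.node 52686 (.node 52684 (.leaf 0x0) (.node 52685 (.leaf 0xf0b0a0a0004) (.leaf 0x0))) (.node 52687 (.leaf 0x0) (.node 52688 (.leaf 0xb0001) (.leaf 0xb0b0a0003))))) (.node 52694 (.node 52691 (.node 52690 (.leaf 0xcdd0) (.leaf 0xe0d0002)) (.node 52692 (.leaf 0x0) (.node 52693 (.leaf 0xb0b0a0a0004) (.leaf 0x0)))) (.node 52697 (.node 52695 (.leaf 0x0) (.node 52696 (.leaf 0x204010901090802040105000b) (.leaf 0x0))) (.node 52698 (.leaf 0xb0f0a0003) (.node 52699 (.leaf 0x0)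 (.leaf 0xb0a0002))))))

def argWS_4671 : Store := (.node 52711 (.node 52705 (.node 52702 (.node 52701 (.leaf 0xcddb) (.leaf 0xe0a0a0003)) (.node 52703 (.leaf 0x0) (.node 52704 (.leaf 0x102010601050002000703040103000e) (.leaf 0x0)))) (.node 52708 (.node 52706 (.leaf 0xa0f0b0b0004) (.node 52707 (.leaf 0xd0001) (.leaf 0x206030802020007010009))) (.node 52709 (.leaf 0x0) (.node 52710 (.leaf 0xf0b0a0003) (.leaf 0x0))))) (.node 52717 (.node 52714 (.node 52712 (.leaf 0xe0a0a0003) (.node 52713 (.leaf 0xcde700cde6) (.leaf 0x907000401050006))) (.node 52715 (.leaf 0x0) (.node 52716 (.leaf 0xf0a0a0003) (.leaf 0x0)))) (.node 52720 (.node 52718 (.leaf 0xb0a0002) (.node 52719 (.leaf 0x0) (.leaf 0x0))) (.node 52721 (.leaf 0x103000206030006) (.node 52722 (.leaf 0x0) (.leaf 0xf0001))))))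

def argWS_4672 : Store := (.node 52700 argWS_4670 argWS_4671)

def argWS_4673 : Store := (.node 52734 (.node 52728 (.node 52725 (.node 52724 (.leaf 0x0) (.leaf 0x6060102020900000802040105000d)) (.node 52726 (.leaf 0x0) (.node 52727 (.leaf 0xb0b0a0003) (.leaf 0x0)))) (.node 52731 (.node 52729 (.leaf 0xcdf700cdf3) (.node 52730 (.leaf 0xd0b0b0003) (.leaf 0x0))) (.node 52732 (.leaf 0xf0b0b0a0a0005) (.node 52733 (.leaf 0x0) (.leaf 0x0))))) (.node 52739 (.node 52736 (.node 52735 (.leaf 0xf0a0a0003) (.leaf 0x10700020901060802040105000c)) (.node 52737 (.leaf 0x0) (.node 52738 (.leaf 0xf0b0a0003) (.leaf 0x0)))) (.node 52742 (.node 52740 (.leaf 0xce0200a138) (.node 52741 (.leaf 0xd0b0002) (.leaf 0x0))) (.node 52743 (.leaf 0xf0b0b0a0a0005) (.node 52744 (.leaf 0x0) (.leaf 0x0))))))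

def argWS_4674 : Store := (.node 52756 (.node 52750 (.node 52747 (.node 52746 (.leaf 0x603050004000703040103000c) (.leaf 0x0)) (.node 52748 (.leaf 0xf0b0a0003) (.node 52749 (.leaf 0x0) (.leaf 0xf0001)))) (.node 52753 (.node 52751 (.leaf 0xce0d) (.node 52752 (.leaf 0xa0001) (.leaf 0x0))) (.node 52754 (.leaf 0x200000900090802040105000b) (.node 52755 (.leaf 0x0) (.leaf 0xf0b0002))))) (.node 52762 (.node 52759 (.node 52757 (.leaf 0xf0b0b0003) (.node 52758 (.leaf 0xb0a0a0003) (.leaf 0xce15))) (.node 52760 (.leaf 0xa0f0002) (.node 52761 (.leaf 0x0) (.leaf 0xe0a0002)))) (.node 52765 (.node 52763 (.leaf 0x0) (.node 52764 (.leaf 0x0) (.leaf 0xf0a0a0003))) (.node 52766 (.leaf 0x503070206000202000701000b) (.node 52767 (.leaf 0x0) (.leaf 0xf0b0002))))))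

def argWS_4675 : Store := (.node 52745 argWS_4673 argWS_4674)

def argWS_4676 : Store := (.node 52723 argWS_4672 argWS_4675)

def argWS_4677 : Store := (.node 52779 (.node 52773 (.node 52770 (.node 52769 (.leaf 0x0) (.leaf 0x20903090806000007)) (.node 52771 (.leaf 0x0) (.node 52772 (.leaf 0x0) (.leaf 0xce2300ce20)))) (.node 52776 (.node 52774 (.leaf 0xe0a0002) (.node 52775 (.leaf 0x0) (.leaf 0xd0001))) (.node 52777 (.leaf 0x0) (.node 52778 (.leaf 0x0) (.leaf 0x2010703060802040105000b))))) (.node 52784 (.node 52781 (.node 52780 (.leaf 0x0) (.leaf 0xb0f0002)) (.node 52782 (.leaf 0x0) (.node 52783 (.leaf 0xb0a0002) (.leaf 0xce2e)))) (.node 52787 (.node 52785 (.leaf 0xb0001) (.node 52786 (.leaf 0x0) (.leaf 0x0))) (.node 52788 (.leaf 0xf0b0002) (.node 52789 (.leaf 0xb0b0a0003) (.leaf 0x1020102000003010008))))))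

def argWS_4678 : Store := (.node 52801 (.node 52795 (.node 52792 (.node 52791 (.leaf 0x0) (.leaf 0xb0a0a0003)) (.node 52793 (.leaf 0x0) (.node 52794 (.leaf 0xd0b0b0003) (.leaf 0xce3900ce38)))) (.node 52798 (.node 52796 (.leaf 0xf0b0b0003) (.node 52797 (.leaf 0x0) (.leaf 0xf0b0b0003))) (.node 52799 (.leaf 0x0) (.node 52800 (.leaf 0x6020106020702010008) (.leaf 0x0))))) (.node 52807 (.node 52804 (.node 52802 (.leaf 0xd0b0002) (.node 52803 (.leaf 0x0) (.leaf 0xb0a0f0003))) (.node 52805 (.leaf 0x905030900090006) (.node 52806 (.leaf 0x0) (.leaf 0xe0a0a0003)))) (.node 52810 (.node 52808 (.leaf 0x0) (.node 52809 (.leaf 0xce4700ce43) (.leaf 0xd0b0002))) (.node 52811 (.leaf 0x0) (.node 52812 (.leaf 0xa0f0002) (.leaf 0x0))))))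

def argWS_4679 : Store := (.node 52790 argWS_4677 argWS_4678)

def argWS_4680 : Store := (.node 52824 (.node 52818 (.node 52815 (.node 52814 (.leaf 0x0) (.leaf 0x4090206020202000701000a)) (.node 52816 (.leaf 0x0) (.node 52817 (.leaf 0xa0a0002) (.leaf 0x0)))) (.node 52821 (.node 52819 (.leaf 0xb0b0a0a0004) (.node 52820 (.leaf 0xb0f0a0a0004) (.leaf 0xce5300ce52))) (.node 52822 (.leaf 0xa0f0b0b0004) (.node 52823 (.leaf 0x0) (.leaf 0x50209000009000703040103000c))))) (.node 52829 (.node 52826 (.node 52825 (.leaf 0x0) (.leaf 0xb0a0002)) (.node 52827 (.leaf 0x400030603050004000703040103000e) (.node 52828 (.leaf 0x0) (.leaf 0xf0b0002)))) (.node 52832 (.node 52830 (.leaf 0x0) (.node 52831 (.leaf 0x702060207020703040103000b) (.leaf 0x0))) (.node 52833 (.leaf 0xb0a0a0003) (.node 52834 (.leaf 0x0) (.leaf 0x9020102000003010802040105000d))))))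

def argWS_4681 : Store := (.node 52846 (.node 52840 (.node 52837 (.node 52836 (.leaf 0x0) (.leaf 0xf0b0002)) (.node 52838 (.leaf 0x0) (.node 52839 (.leaf 0xce6500ce61) (.leaf 0xb0f0a0a0004)))) (.node 52843 (.node 52841 (.leaf 0x0) (.node 52842 (.leaf 0x1070003010102000202000701000d) (.leaf 0x0))) (.node 52844 (.leaf 0xa0001) (.node 52845 (.leaf 0xf0b0a0a0004) (.leaf 0x7070209020202000701000b))))) (.node 52852 (.node 52849 (.node 52847 (.leaf 0x0) (.node 52848 (.leaf 0xb0f0002) (.leaf 0x0))) (.node 52850 (.leaf 0x50201070209020802040105000c) (.node 52851 (.leaf 0x0) (.leaf 0xb0b0002)))) (.node 52855 (.node 52853 (.leaf 0x0) (.node 52854 (.leaf 0xce7400ce70) (.leaf 0x70506030500040802040105000c))) (.node 52856 (.leaf 0x0) (.node 52857 (.leaf 0xf0b0b0003) (.leaf 0x0))))))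

def argWS_4682 : Store := (.node 52835 argWS_4680 argWS_4681)

def argWS_4683 : Store := (.node 52813 argWS_4679 argWS_4682)

def argWS_4684 : Store := (.node 52768 argWS_4676 argWS_4683)

def argWS_4685 : Store := (.node 52869 (.node 52863 (.node 52860 (.node 52859 (.leaf 0xe0d0002) (.leaf 0x0)) (.node 52861 (.leaf 0x0) (.node 52862 (.leaf 0xe0a0002) (.leaf 0xf0a0002)))) (.node 52866 (.node 52864 (.leaf 0xce7e) (.node 52865 (.leaf 0xa0001) (.leaf 0x0))) (.node 52867 (.leaf 0xd0001) (.node 52868 (.leaf 0x0) (.leaf 0x0))))) (.node 52874 (.node 52871 (.node 52870 (.leaf 0xa0001) (.leaf 0x60000020703000703040103000c)) (.node 52872 (.leaf 0x0) (.node 52873 (.leaf 0xf0b0b0a0004) (.leaf 0x0)))) (.node 52877 (.node 52875 (.leaf 0xce89) (.node 52876 (.leaf 0xe0001) (.leaf 0x0))) (.node 52878 (.leaf 0x8030003010102000008) (.node 52879 (.leaf 0x0) (.leaf 0xf0b0002))))))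

def argWS_4686 : Store := (.node 52891 (.node 52885 (.node 52882 (.node 52881 (.leaf 0xd0b0002) (.leaf 0x9ded00ce90)) (.node 52883 (.leaf 0xa0f0b0003) (.node 52884 (.leaf 0x0) (.leaf 0xd0b0002)))) (.node 52888 (.node 52886 (.leaf 0x0) (.node 52887 (.leaf 0x0) (.leaf 0xb0a0a0003))) (.node 52889 (.leaf 0xb0f0a0003) (.node 52890 (.leaf 0xce98) (.leaf 0xa0f0002))))) (.node 52897 (.node 52894 (.node 52892 (.leaf 0x0) (.node 52893 (.leaf 0xf0a0002) (.leaf 0x0))) (.node 52895 (.leaf 0x0) (.node 52896 (.leaf 0x207090009000703040103000b) (.leaf 0x0)))) (.node 52900 (.node 52898 (.leaf 0xf0b0b0a0a0005) (.node 52899 (.leaf 0x0) (.leaf 0x7040202090000000703040103000d))) (.node 52901 (.leaf 0x0) (.node 52902 (.leaf 0xa0f0b0b0004) (.leaf 0x0))))))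

def argWS_4687 : Store := (.node 52880 argWS_4685 argWS_4686)

def argWS_4688 : Store := (.node 52914 (.node 52908 (.node 52905 (.node 52904 (.leaf 0x503030604000703040103000b) (.leaf 0x0)) (.node 52906 (.leaf 0xf0b0b0003) (.node 52907 (.leaf 0x0) (.leaf 0xceaa00cea6)))) (.node 52911 (.node 52909 (.leaf 0xb0a0002) (.node 52910 (.leaf 0x0) (.leaf 0x6010904020802040105000a))) (.node 52912 (.leaf 0x0) (.node 52913 (.leaf 0xb0f0a0a0004) (.leaf 0x8000000090206020202000701000d))))) (.node 52919 (.node 52916 (.node 52915 (.leaf 0x0) (.leaf 0xf0b0b0a0004)) (.node 52917 (.leaf 0x0) (.node 52918 (.leaf 0x2040005000703040103000a) (.leaf 0x0)))) (.node 52922 (.node 52920 (.leaf 0xb0001) (.node 52921 (.leaf 0x0) (.leaf 0xceb8004be0))) (.node 52923 (.leaf 0xf0b0002) (.node 52924 (.leaf 0x0) (.leaf 0x1040006030500040202000701000d))))))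

def argWS_4689 : Store := (.node 52936 (.node 52930 (.node 52927 (.node 52926 (.leaf 0x0) (.leaf 0xa0f0b0003)) (.node 52928 (.leaf 0xb0b0002) (.node 52929 (.leaf 0x5020000000300000802040105000d) (.leaf 0x0)))) (.node 52933 (.node 52931 (.leaf 0xb0f0002) (.node 52932 (.leaf 0x0) (.leaf 0x503000502020007010009))) (.node 52934 (.leaf 0x0) (.node 52935 (.leaf 0xb0f0a0a0004) (.leaf 0x0))))) (.node 52942 (.node 52939 (.node 52937 (.leaf 0xcec700cec3) (.node 52938 (.leaf 0x1030002080400000703040103000d) (.leaf 0x0))) (.node 52940 (.leaf 0xa0f0002) (.node 52941 (.leaf 0x0) (.leaf 0xf0b0b0a0004)))) (.node 52945 (.node 52943 (.leaf 0x0) (.node 52944 (.leaf 0x0) (.leaf 0xa0a0002))) (.node 52946 (.leaf 0xf0b0a0a0004) (.node 52947 (.leaf 0xf0b0002) (.leaf 0xced200ced1))))))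

def argWS_4690 : Store := (.node 52925 argWS_4688 argWS_4689)

def argWS_4691 : Store := (.node 52903 argWS_4687 argWS_4690)

def argWS_4692 : Store := (.node 52959 (.node 52953 (.node 52950 (.node 52949 (.leaf 0xe0a0a0003) (.leaf 0x0)) (.node 52951 (.leaf 0xd0b0002) (.node 52952 (.leaf 0x0) (.leaf 0x0)))) (.node 52956 (.node 52954 (.leaf 0xb0b0a0a0004) (.node 52955 (.leaf 0xa0001) (.leaf 0xceda))) (.node 52957 (.leaf 0x0) (.node 52958 (.leaf 0xa0f0b0b0004) (.leaf 0x0))))) (.node 52964 (.node 52961 (.node 52960 (.leaf 0x0) (.leaf 0xf0b0b0003)) (.node 52962 (.leaf 0x70509000009000703040103000c) (.node 52963 (.leaf 0x0) (.leaf 0xa0a0002)))) (.node 52967 (.node 52965 (.leaf 0x0) (.node 52966 (.leaf 0x2020207020902000703040103000d) (.leaf 0x0))) (.node 52968 (.leaf 0x0) (.node 52969 (.leaf 0xcee700cee4) (.leaf 0xe0a0002))))))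

def argWS_4693 : Store := (.node 52981 (.node 52975 (.node 52972 (.node 52971 (.leaf 0x0) (.leaf 0xf0a0002)) (.node 52973 (.leaf 0x0) (.node 52974 (.leaf 0x0) (.leaf 0xf0b0a0a0004)))) (.node 52978 (.node 52976 (.leaf 0x70506020702010802040105000c) (.node 52977 (.leaf 0x0) (.leaf 0xb0f0a0a0004))) (.node 52979 (.leaf 0x0) (.node 52980 (.leaf 0xcef2) (.leaf 0x0))))) (.node 52987 (.node 52984 (.node 52982 (.leaf 0xd0b0002) (.node 52983 (.leaf 0x0) (.leaf 0x0))) (.node 52985 (.leaf 0xb0f0a0003) (.node 52986 (.leaf 0xb0f0a0003) (.leaf 0x900090806000802040105000c)))) (.node 52990 (.node 52988 (.leaf 0x0) (.node 52989 (.leaf 0xd0b0002) (.leaf 0x0))) (.node 52991 (.leaf 0xcefd00cef9) (.node 52992 (.leaf 0xf0b0002) (.leaf 0x0))))))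

def argWS_4694 : Store := (.node 52970 argWS_4692 argWS_4693)

def argWS_4695 : Store := (.node 53004 (.node 52998 (.node 52995 (.node 52994 (.leaf 0xf0b0a0003) (.leaf 0x0)) (.node 52996 (.leaf 0x0) (.node 52997 (.leaf 0xb0a0f0003) (.leaf 0x2020202000003010202000701000d)))) (.node 53001 (.node 52999 (.leaf 0x0) (.node 53000 (.leaf 0xf0b0b0a0a0005) (.leaf 0x0))) (.node 53002 (.leaf 0xe0a0a0003) (.node 53003 (.leaf 0xcf0900cf08) (.leaf 0x90300070209020802040105000c))))) (.node 53010 (.node 53007 (.node 53005 (.leaf 0x0) (.node 53006 (.leaf 0xb0b0a0a0004) (.leaf 0x0))) (.node 53008 (.leaf 0xb0b0a0a0004) (.node 53009 (.leaf 0x0) (.leaf 0x0)))) (.node 53013 (.node 53011 (.leaf 0x5020006020702010008) (.node 53012 (.leaf 0x0) (.leaf 0xa0f0b0003))) (.node 53014 (.leaf 0x0) (.node 53015 (.leaf 0xa0001) (.leaf 0xf0001))))))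

def argWS_4696 : Store := (.node 53027 (.node 53021 (.node 53018 (.node 53017 (.leaf 0xcf1700cf16) (.leaf 0xd0b0002)) (.node 53019 (.leaf 0x0) (.node 53020 (.leaf 0x30901090202000701000a) (.leaf 0x0)))) (.node 53024 (.node 53022 (.leaf 0xb0001) (.node 53023 (.leaf 0xb0f0a0003) (.leaf 0x105020601050002000703040103000e))) (.node 53025 (.leaf 0x0) (.node 53026 (.leaf 0xf0b0b0a0004) (.leaf 0x0))))) (.node 53033 (.node 53030 (.node 53028 (.leaf 0xf0001) (.node 53029 (.leaf 0xcf2300cf22) (.leaf 0xa0f0b0003))) (.node 53031 (.leaf 0x0) (.node 53032 (.leaf 0xb0001) (.leaf 0x0)))) (.node 53036 (.node 53034 (.leaf 0x0) (.node 53035 (.leaf 0xb0f0a0a0004) (.leaf 0x2010306020702010802040105000d))) (.node 53037 (.leaf 0x0) (.node 53038 (.leaf 0xb0a0002) (.leaf 0x0))))))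

def argWS_4697 : Store := (.node 53016 argWS_4695 argWS_4696)

def argWS_4698 : Store := (.node 52993 argWS_4694 argWS_4697)

def argWS_4699 : Store := (.node 52948 argWS_4691 argWS_4698)

def argWS_4700 : Store := (.node 52858 argWS_4684 argWS_4699)

def argWS_4701 : Store := (.node 53050 (.node 53044 (.node 53041 (.node 53040 (.leaf 0xb0f0002) (.leaf 0xcf2f00cf2e)) (.node 53042 (.leaf 0x800070206000006) (.node 53043 (.leaf 0x0) (.leaf 0xa0a0002)))) (.node 53047 (.node 53045 (.leaf 0x0) (.node 53046 (.leaf 0xb0f0a0003) (.leaf 0x0))) (.node 53048 (.leaf 0x0) (.node 53049 (.leaf 0xf0b0b0a0004) (.leaf 0x903070009030802040105000b))))) (.node 53055 (.node 53052 (.node 53051 (.leaf 0x0) (.leaf 0xb0a0f0003)) (.node 53053 (.leaf 0x0) (.node 53054 (.leaf 0xcf3c003198) (.leaf 0xb0f0a0a0004)))) (.node 53058 (.node 53056 (.leaf 0x0) (.node 53057 (.leaf 0xe0a0a0003) (.leaf 0x0))) (.node 53059 (.leaf 0x0) (.node 53060 (.leaf 0xa0f0b0003) (.leaf 0xb0f0a0a0004))))))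

def argWS_4702 : Store := (.node 53072 (.node 53066 (.node 53063 (.node 53062 (.leaf 0xcf44) (.leaf 0xf0b0b0a0a0005)) (.node 53064 (.leaf 0x0) (.node 53065 (.leaf 0x20206030004) (.leaf 0x0)))) (.node 53069 (.node 53067 (.leaf 0xb0001) (.node 53068 (.leaf 0x104090000090202000701000b) (.leaf 0x0))) (.node 53070 (.leaf 0xf0b0002) (.node 53071 (.leaf 0x0) (.leaf 0x80006020702010802040105000c))))) (.node 53078 (.node 53075 (.node 53073 (.leaf 0x0) (.node 53074 (.leaf 0xb0a0f0003) (.leaf 0x0))) (.node 53076 (.leaf 0xcf52) (.node 53077 (.leaf 0xf0a0a0003) (.leaf 0x0)))) (.node 53081 (.node 53079 (.leaf 0xf0b0b0003) (.node 53080 (.leaf 0x0) (.leaf 0x0))) (.node 53082 (.leaf 0xb0f0a0a0004) (.node 53083 (.leaf 0xa0f0b0b0004) (.leaf 0xcf5a))))))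

def argWS_4703 : Store := (.node 53061 argWS_4701 argWS_4702)

def argWS_4704 : Store := (.node 53095 (.node 53089 (.node 53086 (.node 53085 (.leaf 0xf0b0b0a0a0005) (.leaf 0x0)) (.node 53087 (.leaf 0xb0b0a0003) (.node 53088 (.leaf 0x0) (.leaf 0x0)))) (.node 53092 (.node 53090 (.leaf 0x20103010703060007) (.node 53091 (.leaf 0x0) (.leaf 0x0))) (.node 53093 (.leaf 0x307000003030604000703040103000e) (.node 53094 (.leaf 0x0) (.leaf 0xf0b0002))))) (.node 53100 (.node 53097 (.node 53096 (.leaf 0x0) (.leaf 0xcf6700cf63)) (.node 53098 (.leaf 0x10201010703060202000701000c) (.node 53099 (.leaf 0x0) (.leaf 0xa0f0b0003)))) (.node 53103 (.node 53101 (.leaf 0x0) (.node 53102 (.leaf 0xf0b0b0003) (.leaf 0x0))) (.node 53104 (.leaf 0x0) (.node 53105 (.leaf 0xb0f0a0003) (.leaf 0x30301090402000703040103000c))))))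

def argWS_4705 : Store := (.node 53117 (.node 53111 (.node 53108 (.node 53107 (.leaf 0x0) (.leaf 0xa0001)) (.node 53109 (.leaf 0x0) (.node 53110 (.leaf 0x908e00cf74) (.leaf 0x20901050206040007)))) (.node 53114 (.node 53112 (.leaf 0x0) (.node 53113 (.leaf 0xb0a0002) (.leaf 0x0))) (.node 53115 (.leaf 0xa0001) (.node 53116 (.leaf 0x0) (.leaf 0xb0001))))) (.node 53123 (.node 53120 (.node 53118 (.leaf 0xe0d0002) (.node 53119 (.leaf 0x90104070009030802040105000c) (.leaf 0x0))) (.node 53121 (.leaf 0xb0a0a0003) (.node 53122 (.leaf 0x0) (.leaf 0xcf8100cf7d)))) (.node 53126 (.node 53124 (.leaf 0xf0b0a0a0004) (.node 53125 (.leaf 0x0) (.leaf 0xb0a0f0003))) (.node 53127 (.leaf 0x0) (.node 53128 (.leaf 0x0) (.leaf 0xf0b0a0a0004))))))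

def argWS_4706 : Store := (.node 53106 argWS_4704 argWS_4705)

def argWS_4707 : Store := (.node 53084 argWS_4703 argWS_4706)

def argWS_4708 : Store := (.node 53140 (.node 53134 (.node 53131 (.node 53130 (.leaf 0xb0f0a0a0004) (.leaf 0x904090806000202000701000b)) (.node 53132 (.leaf 0x0) (.node 53133 (.leaf 0xf0001) (.leaf 0x0)))) (.node 53137 (.node 53135 (.leaf 0xcf8d00cf89) (.node 53136 (.leaf 0xe0a0002) (.leaf 0x0))) (.node 53138 (.leaf 0x80500090806000007) (.node 53139 (.leaf 0x0) (.leaf 0xa0a0002))))) (.node 53145 (.node 53142 (.node 53141 (.leaf 0xf0001) (.leaf 0xa0f0b0003)) (.node 53143 (.leaf 0xb0a0002) (.node 53144 (.leaf 0xcf9600cf95) (.leaf 0xe0a0002)))) (.node 53148 (.node 53146 (.leaf 0x0) (.node 53147 (.leaf 0xe0a0002) (.leaf 0x0))) (.node 53149 (.leaf 0x0) (.node 53150 (.leaf 0xe0a0a0003) (.leaf 0xf0b0b0a0a0005))))))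

def argWS_4709 : Store := (.node 53162 (.node 53156 (.node 53153 (.node 53152 (.leaf 0x905030900090802040105000b) (.leaf 0x0)) (.node 53154 (.leaf 0xb0f0002) (.node 53155 (.leaf 0x0) (.leaf 0xcfa200cf9e)))) (.node 53159 (.node 53157 (.leaf 0xb0a0002) (.node 53158 (.leaf 0x0) (.leaf 0xb0f0a0a0004))) (.node 53160 (.leaf 0x0) (.node 53161 (.leaf 0x0) (.leaf 0x30306030500040202000701000c))))) (.node 53168 (.node 53165 (.node 53163 (.leaf 0x0) (.node 53164 (.leaf 0xd0b0b0003) (.leaf 0x0))) (.node 53166 (.leaf 0xd0b0002) (.node 53167 (.leaf 0xcfad00cfac) (.leaf 0xa0f0b0003)))) (.node 53171 (.node 53169 (.leaf 0x0) (.node 53170 (.leaf 0xb0f0002) (.leaf 0x0))) (.node 53172 (.leaf 0x0) (.node 53173 (.leaf 0xe0d0002) (.leaf 0x6060106030500040008))))))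

def argWS_4710 : Store := (.node 53151 argWS_4708 argWS_4709)

def argWS_4711 : Store := (.node 53185 (.node 53179 (.node 53176 (.node 53175 (.leaf 0x0) (.leaf 0x0)) (.node 53177 (.leaf 0xb0a0002) (.node 53178 (.leaf 0xcfb800cfb7) (.leaf 0xb0f0002)))) (.node 53182 (.node 53180 (.leaf 0x0) (.node 53181 (.leaf 0x4030402020900000802040105000d) (.leaf 0x0))) (.node 53183 (.leaf 0xf0b0a0a0004) (.node 53184 (.leaf 0x600020703000703040103000c) (.leaf 0x0))))) (.node 53190 (.node 53187 (.node 53186 (.leaf 0xb0b0002) (.leaf 0x0)) (.node 53188 (.leaf 0xf0b0a0003) (.node 53189 (.leaf 0xa0f0002) (.leaf 0xcfc400cfc3)))) (.node 53193 (.node 53191 (.leaf 0xf0001) (.node 53192 (.leaf 0x0) (.leaf 0xb0b0002))) (.node 53194 (.leaf 0x0) (.node 53195 (.leaf 0x0) (.leaf 0xf0b0b0a0004))))))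

def argWS_4712 : Store := (.node 53207 (.node 53201 (.node 53198 (.node 53197 (.leaf 0x103010207030802040105000b) (.leaf 0x0)) (.node 53199 (.leaf 0xd0001) (.node 53200 (.leaf 0x0) (.leaf 0xcfcf)))) (.node 53204 (.node 53202 (.leaf 0x90101090805000703040103000c) (.node 53203 (.leaf 0x0) (.leaf 0xf0001))) (.node 53205 (.leaf 0x0) (.node 53206 (.leaf 0xb0b0002) (.leaf 0x0))))) (.node 53213 (.node 53210 (.node 53208 (.leaf 0x0) (.node 53209 (.leaf 0xb0001) (.leaf 0x6090806000202000701000b))) (.node 53211 (.leaf 0x0) (.node 53212 (.leaf 0xa0f0b0b0004) (.leaf 0x0)))) (.node 53216 (.node 53214 (.leaf 0x904020703000703040103000b) (.node 53215 (.leaf 0x0) (.leaf 0xf0b0a0a0004))) (.node 53217 (.leaf 0x0) (.node 53218 (.leaf 0xcfe000cfdc) (.leaf 0xf0b0b0003))))))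

def argWS_4713 : Store := (.node 53196 argWS_4711 argWS_4712)

def argWS_4714 : Store := (.node 53174 argWS_4710 argWS_4713)

def argWS_4715 : Store := (.node 53129 argWS_4707 argWS_4714)

def argWS_4716 : Store := (.node 53230 (.node 53224 (.node 53221 (.node 53220 (.leaf 0x0) (.leaf 0x50105020202010202000701000c)) (.node 53222 (.leaf 0x0) (.node 53223 (.leaf 0xf0a0a0003) (.leaf 0xd0001)))) (.node 53227 (.node 53225 (.leaf 0xf0b0b0a0a0005) (.node 53226 (.leaf 0xcfe8009e09) (.leaf 0xf0a0a0003))) (.node 53228 (.leaf 0x0) (.node 53229 (.leaf 0x7050603050004000703040103000d) (.leaf 0x0))))) (.node 53235 (.node 53232 (.node 53231 (.leaf 0x10903010904020007) (.leaf 0x0)) (.node 53233 (.leaf 0xe0001) (.node 53234 (.leaf 0x0) (.leaf 0xb0001)))) (.node 53238 (.node 53236 (.leaf 0xf0001) (.node 53237 (.leaf 0xcff300cff2) (.leaf 0xe0d0002))) (.node 53239 (.leaf 0x0) (.node 53240 (.leaf 0x901070009030006) (.leaf 0x0))))))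

def argWS_4717 : Store := (.node 53252 (.node 53246 (.node 53243 (.node 53242 (.leaf 0xb0f0a0a0004) (.leaf 0x103070209020202000701000b)) (.node 53244 (.leaf 0x0) (.node 53245 (.leaf 0xf0b0002) (.leaf 0x0)))) (.node 53249 (.node 53247 (.leaf 0xcffd) (.node 53248 (.leaf 0xf0b0b0a0004) (.leaf 0x0))) (.node 53250 (.leaf 0x205070209020006) (.node 53251 (.leaf 0x0) (.leaf 0xd0b0b0003))))) (.node 53258 (.node 53255 (.node 53253 (.leaf 0xb0f0002) (.node 53254 (.leaf 0x105000208020401050009) (.leaf 0x0))) (.node 53256 (.leaf 0xe0a0002) (.node 53257 (.leaf 0x0) (.leaf 0xb0f0002)))) (.node 53261 (.node 53259 (.leaf 0xd00900d008) (.node 53260 (.leaf 0xb0b0a0a0004) (.leaf 0x0))) (.node 53262 (.leaf 0x102010206030006) (.node 53263 (.leaf 0x0) (.leaf 0xd0b0002))))))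

def argWS_4718 : Store := (.node 53241 argWS_4716 argWS_4717)

def argWS_4719 : Store := (.node 53275 (.node 53269 (.node 53266 (.node 53265 (.leaf 0xe0001) (.leaf 0xd0b0002)) (.node 53267 (.leaf 0xd011) (.node 53268 (.leaf 0x401040005000703040103000b) (.leaf 0x0)))) (.node 53272 (.node 53270 (.leaf 0xb0a0a0003) (.node 53271 (.leaf 0x0) (.leaf 0xf0b0a0003))) (.node 53273 (.leaf 0x0) (.node 53274 (.leaf 0x0) (.leaf 0xb0f0a0a0004))))) (.node 53280 (.node 53277 (.node 53276 (.leaf 0xe0a0a0003) (.leaf 0xd01b)) (.node 53278 (.leaf 0xb0a0f0003) (.node 53279 (.leaf 0x0) (.leaf 0xa0f0b0b0004)))) (.node 53283 (.node 53281 (.leaf 0x0) (.node 53282 (.leaf 0x0) (.leaf 0xf0b0002))) (.node 53284 (.leaf 0x9030007000902000701000a) (.node 53285 (.leaf 0x0) (.leaf 0xa0f0b0003))))))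

def argWS_4720 : Store := (.node 53297 (.node 53291 (.node 53288 (.node 53287 (.leaf 0x0) (.leaf 0xd02600d022)) (.node 53289 (.leaf 0xb0a0002) (.node 53290 (.leaf 0x0) (.leaf 0xd0b0002)))) (.node 53294 (.node 53292 (.leaf 0x0) (.node 53293 (.leaf 0x0) (.leaf 0xb0f0a0a0004))) (.node 53295 (.leaf 0xb0b0002) (.node 53296 (.leaf 0xf0a0002) (.leaf 0xd02f00d02e))))) (.node 53303 (.node 53300 (.node 53298 (.leaf 0xb0a0a0003) (.node 53299 (.leaf 0x0) (.leaf 0xf0a0002))) (.node 53301 (.leaf 0x0) (.node 53302 (.leaf 0x0) (.leaf 0xd0b0002)))) (.node 53306 (.node 53304 (.leaf 0xd0b0b0003) (.node 53305 (.leaf 0xb0b0a0003) (.leaf 0xd03800d037))) (.node 53307 (.leaf 0x0) (.node 53308 (.leaf 0x3040007030401030008) (.leaf 0x0))))))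

def argWS_4721 : Store := (.node 53286 argWS_4719 argWS_4720)

def argWS_4722 : Store := (.node 53264 argWS_4718 argWS_4721)

def argWS_4723 : Store := (.node 53320 (.node 53314 (.node 53311 (.node 53310 (.leaf 0xb0f0002) (.leaf 0xe0001)) (.node 53312 (.leaf 0x1050209080600000703040103000d) (.node 53313 (.leaf 0x0) (.leaf 0xb0f0a0a0004)))) (.node 53317 (.node 53315 (.leaf 0x0) (.node 53316 (.leaf 0xd042) (.leaf 0x90700070206000202000701000c))) (.node 53318 (.leaf 0x0) (.node 53319 (.leaf 0xe0d0002) (.leaf 0x0))))) (.node 53325 (.node 53322 (.node 53321 (.leaf 0xb0b0a0a0004) (.leaf 0x0)) (.node 53323 (.leaf 0x0) (.node 53324 (.leaf 0xd0b0002) (.leaf 0xb0f0002)))) (.node 53328 (.node 53326 (.leaf 0xd04c) (.node 53327 (.leaf 0xa0f0b0b0004) (.leaf 0x0))) (.node 53329 (.leaf 0xb0a0a0003) (.node 53330 (.leaf 0x0) (.leaf 0x0))))))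

def argWS_4724 : Store := (.node 53342 (.node 53336 (.node 53333 (.node 53332 (.leaf 0xf0001) (.leaf 0x0)) (.node 53334 (.leaf 0x40205060207020703040103000c) (.node 53335 (.leaf 0x0) (.leaf 0xf0b0b0a0a0005)))) (.node 53339 (.node 53337 (.leaf 0x0) (.node 53338 (.leaf 0xd05800d054) (.leaf 0xb0b0a0a0004))) (.node 53340 (.leaf 0x0) (.node 53341 (.leaf 0xf0a0a0003) (.leaf 0x0))))) (.node 53348 (.node 53345 (.node 53343 (.leaf 0x0) (.node 53344 (.leaf 0xb0f0a0003) (.leaf 0xa0a0002))) (.node 53346 (.leaf 0xd060) (.node 53347 (.leaf 0xa0a0002) (.leaf 0x0)))) (.node 53351 (.node 53349 (.leaf 0xb0a0f0003) (.node 53350 (.leaf 0x0) (.leaf 0x0))) (.node 53352 (.leaf 0xa0a0002) (.node 53353 (.leaf 0x50305020703000703040103000c) (.leaf 0x0))))))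

def argWS_4725 : Store := (.node 53331 argWS_4723 argWS_4724)

def argWS_4726 : Store := (.node 53365 (.node 53359 (.node 53356 (.node 53355 (.leaf 0xe0a0a0003) (.leaf 0x0)) (.node 53357 (.leaf 0xd06b00c87a) (.node 53358 (.leaf 0xb0f0a0a0004) (.leaf 0x0)))) (.node 53362 (.node 53360 (.leaf 0xb0a0002) (.node 53361 (.leaf 0x0) (.leaf 0x0))) (.node 53363 (.leaf 0x402060408020401050009) (.node 53364 (.leaf 0x0) (.leaf 0xe0d0002))))) (.node 53371 (.node 53368 (.node 53366 (.leaf 0x0) (.node 53367 (.leaf 0x2090400050005) (.leaf 0x0))) (.node 53369 (.leaf 0xf0a0a0003) (.node 53370 (.leaf 0x0) (.leaf 0xf0b0b0a0004)))) (.node 53374 (.node 53372 (.leaf 0xd07a00d079) (.node 53373 (.leaf 0xb0a0f0003) (.leaf 0x0))) (.node 53375 (.leaf 0xe0a0002) (.node 53376 (.leaf 0x0) (.leaf 0x0))))))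

def argWS_4727 : Store := (.node 53388 (.node 53382 (.node 53379 (.node 53378 (.leaf 0xa0a0002) (.leaf 0xf0b0002)) (.node 53380 (.leaf 0xd082) (.node 53381 (.leaf 0xf0b0b0a0004) (.leaf 0x0)))) (.node 53385 (.node 53383 (.leaf 0xa0001) (.node 53384 (.leaf 0x0) (.leaf 0x0))) (.node 53386 (.leaf 0xf0b0b0a0a0005) (.node 53387 (.leaf 0xa0001) (.leaf 0x90104070206000802040105000c))))) (.node 53394 (.node 53391 (.node 53389 (.leaf 0x0) (.node 53390 (.leaf 0xb0001) (.leaf 0x0))) (.node 53392 (.leaf 0xd08e00d08a) (.node 53393 (.leaf 0xe0001) (.leaf 0x0)))) (.node 53397 (.node 53395 (.leaf 0x20702020900000007) (.node 53396 (.leaf 0x0) (.leaf 0xf0a0002))) (.node 53398 (.leaf 0x20201090402000703040103000c) (.node 53399 (.leaf 0x0) (.leaf 0xd0b0b0003))))))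

def argWS_4728 : Store := (.node 53377 argWS_4726 argWS_4727)

def argWS_4729 : Store := (.node 53354 argWS_4725 argWS_4728)

def argWS_4730 : Store := (.node 53309 argWS_4722 argWS_4729)

def argWS_4731 : Store := (.node 53219 argWS_4715 argWS_4730)

def argWS_4732 : Store := (.node 53039 argWS_4700 argWS_4731)

def argWS_4733 : Store := (.node 52678 argWS_4669 argWS_4732)

def argWS_4734 : Store := (.node 53411 (.node 53405 (.node 53402 (.node 53401 (.leaf 0x0) (.leaf 0xb0f0a0003)) (.node 53403 (.leaf 0xd0001) (.node 53404 (.leaf 0xd09a00d099) (.leaf 0xf0b0a0003)))) (.node 53408 (.node 53406 (.leaf 0x0) (.node 53407 (.leaf 0x30401050004) (.leaf 0x0))) (.node 53409 (.leaf 0xb0a0002) (.node 53410 (.leaf 0xd0b0002) (.leaf 0xb0b0a0a0004))))) (.node 53416 (.node 53413 (.node 53412 (.leaf 0x0) (.leaf 0xd0a3)) (.node 53414 (.leaf 0xf0a0a0003) (.node 53415 (.leaf 0x0) (.leaf 0xe0d0002)))) (.node 53419 (.node 53417 (.leaf 0x0) (.node 53418 (.leaf 0x0) (.leaf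 0xb0f0a0003))) (.node 53420 (.leaf 0x805000207020007010009) (.node 53421 (.leaf 0x0) (.leaf 0x0))))))

def argWS_4735 : Store := (.node 53433 (.node 53427 (.node 53424 (.node 53423 (.leaf 0xd0ad00d0aa) (.leaf 0x0)) (.node 53425 (.leaf 0xd0b0002) (.node 53426 (.leaf 0x0) (.leaf 0x0)))) (.node 53430 (.node 53428 (.leaf 0xb0a0002) (.node 53429 (.leaf 0x30401020901060802040105000c) (.leaf 0x0))) (.node 53431 (.leaf 0xa0001) (.node 53432 (.leaf 0x0) (.leaf 0xb0f0002))))) (.node 53439 (.node 53436 (.node 53434 (.leaf 0xd0b800d0b7) (.node 53435 (.leaf 0xb0b0002) (.leaf 0x0))) (.node 53437 (.leaf 0xf0b0b0a0a0005) (.node 53438 (.leaf 0x0) (.leaf 0x0)))) (.node 53442 (.node 53440 (.leaf 0xf0b0a0003) (.node 53441 (.leaf 0x40106030500040202000701000c) (.leaf 0x0))) (.node 53443 (.leaf 0xf0b0a0003) (.node 53444 (.leaf 0x0) (.leaf 0xe0a0a0003))))))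

def argWS_4736 : Store := (.node 53422 argWS_4734 argWS_4735)

def argWS_4737 : Store := (.node 53456 (.node 53450 (.node 53447 (.node 53446 (.leaf 0xd0c400d0c3) (.leaf 0xe0a0a0003)) (.node 53448 (.leaf 0x0) (.node 53449 (.leaf 0xd0b0b0003) (.leaf 0x0)))) (.node 53453 (.node 53451 (.leaf 0x0) (.node 53452 (.leaf 0xd0b0b0003) (.leaf 0x10201010703060202000701000c))) (.node 53454 (.leaf 0x0) (.node 53455 (.leaf 0xa0f0b0003) (.leaf 0x0))))) (.node 53461 (.node 53458 (.node 53457 (.leaf 0xf0b0a0a0004) (.leaf 0xd0d000d0cf)) (.node 53459 (.leaf 0x10502090000090202000701000c) (.node 53460 (.leaf 0x0) (.leaf 0xb0b0a0a0004)))) (.node 53464 (.node 53462 (.leaf 0x0) (.node 53463 (.leaf 0xd0001) (.leaf 0x0))) (.node 53465 (.leaf 0x0) (.node 53466 (.leaf 0xf0001) (.leaf 0x60207020007010008))))))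

def argWS_4738 : Store := (.node 53478 (.node 53472 (.node 53469 (.node 53468 (.leaf 0x0) (.leaf 0xf0b0a0a0004)) (.node 53470 (.leaf 0x0) (.node 53471 (.leaf 0xe0d0002) (.leaf 0xd0de00d0dd)))) (.node 53475 (.node 53473 (.leaf 0x20903010908050007) (.node 53474 (.leaf 0x0) (.leaf 0xa0f0b0b0004))) (.node 53476 (.leaf 0x0) (.node 53477 (.leaf 0x0) (.leaf 0x3040102020900000008))))) (.node 53484 (.node 53481 (.node 53479 (.leaf 0x0) (.node 53480 (.leaf 0xf0a0a0003) (.leaf 0x0))) (.node 53482 (.leaf 0x20406030500040202000701000c) (.node 53483 (.leaf 0x0) (.leaf 0xb0b0002)))) (.node 53487 (.node 53485 (.leaf 0x0) (.node 53486 (.leaf 0xd0ec) (.leaf 0xa0a0002))) (.node 53488 (.leaf 0x0) (.node 53489 (.leaf 0x601070306000703040103000b) (.leaf 0x0))))))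

def argWS_4739 : Store := (.node 53467 argWS_4737 argWS_4738)

def argWS_4740 : Store := (.node 53445 argWS_4736 argWS_4739)

def argWS_4741 : Store := (.node 53501 (.node 53495 (.node 53492 (.node 53491 (.leaf 0xa0f0b0003) (.leaf 0x309040208020401050009)) (.node 53493 (.leaf 0x0) (.node 53494 (.leaf 0xa0a0002) (.leaf 0x0)))) (.node 53498 (.node 53496 (.leaf 0x409080600000703040103000b) (.node 53497 (.leaf 0x0) (.leaf 0xa0f0002))) (.node 53499 (.leaf 0x0) (.node 53500 (.leaf 0x20006020702010202000701000c) (.leaf 0x0))))) (.node 53506 (.node 53503 (.node 53502 (.leaf 0xd0b0b0003) (.leaf 0x0)) (.node 53504 (.leaf 0xd0fe00d0fa) (.node 53505 (.leaf 0xf0b0b0003) (.leaf 0x0)))) (.node 53509 (.node 53507 (.leaf 0x20000020804000802040105000d) (.node 53508 (.leaf 0x0) (.leaf 0xf0001))) (.node 53510 (.leaf 0x0) (.node 53511 (.leaf 0x0) (.leaf 0x0))))))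

def argWS_4742 : Store := (.node 53523 (.node 53517 (.node 53514 (.node 53513 (.leaf 0xe0d0002) (.leaf 0xa0a0002)) (.node 53515 (.leaf 0xb0f0a0a0004) (.node 53516 (.leaf 0x2040307020902000703040103000d) (.leaf 0x0)))) (.node 53520 (.node 53518 (.leaf 0xf0b0b0003) (.node 53519 (.leaf 0x0) (.leaf 0xb0b0a0003))) (.node 53521 (.leaf 0xd10f00d10e) (.node 53522 (.leaf 0xa0f0002) (.leaf 0x0))))) (.node 53529 (.node 53526 (.node 53524 (.leaf 0x805000308000703040103000b) (.node 53525 (.leaf 0x0) (.leaf 0xd0b0002))) (.node 53527 (.leaf 0x50206010500020802040105000c) (.node 53528 (.leaf 0x0) (.leaf 0xa0a0002)))) (.node 53532 (.node 53530 (.leaf 0x0) (.node 53531 (.leaf 0x800090806000202000701000b) (.leaf 0x0))) (.node 53533 (.leaf 0xd0b0002) (.node 53534 (.leaf 0x0) (.leaf 0xd11d0085c0))))))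

def argWS_4743 : Store := (.node 53512 argWS_4741 argWS_4742)

def argWS_4744 : Store := (.node 53546 (.node 53540 (.node 53537 (.node 53536 (.leaf 0xb0f0002) (.leaf 0x0)) (.node 53538 (.leaf 0x60103010102000202000701000c) (.node 53539 (.leaf 0x0) (.leaf 0xb0b0002)))) (.node 53543 (.node 53541 (.leaf 0xe0a0002) (.node 53542 (.leaf 0x20000050206040802040105000c) (.leaf 0x0))) (.node 53544 (.leaf 0x0) (.node 53545 (.leaf 0xd127) (.leaf 0xf0a0a0003))))) (.node 53551 (.node 53548 (.node 53547 (.leaf 0x0) (.leaf 0xa0f0b0b0004)) (.node 53549 (.leaf 0x0) (.node 53550 (.leaf 0x0) (.leaf 0x30503080004)))) (.node 53554 (.node 53552 (.leaf 0x0) (.node 53553 (.leaf 0xa0f0002) (.leaf 0x0))) (.node 53555 (.leaf 0xd131) (.node 53556 (.leaf 0xb0a0f0003) (.leaf 0x0))))))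

def argWS_4745 : Store := (.node 53568 (.node 53562 (.node 53559 (.node 53558 (.leaf 0xe0001) (.leaf 0x0)) (.node 53560 (.leaf 0x0) (.node 53561 (.leaf 0x30700000300000802040105000c) (.leaf 0x0)))) (.node 53565 (.node 53563 (.leaf 0xa0a0002) (.node 53564 (.leaf 0x0) (.leaf 0xa0001))) (.node 53566 (.leaf 0x4070209020802040105000a) (.node 53567 (.leaf 0x0) (.leaf 0xf0b0b0a0a0005))))) (.node 53574 (.node 53571 (.node 53569 (.leaf 0x0) (.node 53570 (.leaf 0xd14000d13c) (.leaf 0xa0f0002))) (.node 53572 (.leaf 0x0) (.node 53573 (.leaf 0x9020602000703040103000b) (.leaf 0x0)))) (.node 53577 (.node 53575 (.leaf 0xf0a0002) (.node 53576 (.leaf 0xf0a0a0003) (.leaf 0xf0b0b0a0004))) (.node 53578 (.leaf 0xd148) (.node 53579 (.leaf 0x9070003010102000202000701000d) (.leaf 0x0))))))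

def argWS_4746 : Store := (.node 53557 argWS_4744 argWS_4745)

def argWS_4747 : Store := (.node 53535 argWS_4743 argWS_4746)

def argWS_4748 : Store := (.node 53490 argWS_4740 argWS_4747)

def argWS_4749 : Store := (.node 53591 (.node 53585 (.node 53582 (.node 53581 (.leaf 0xf0b0b0a0004) (.leaf 0x0)) (.node 53583 (.leaf 0xb0a0a0003) (.node 53584 (.leaf 0x0) (.leaf 0x0)))) (.node 53588 (.node 53586 (.leaf 0xb0b0002) (.node 53587 (.leaf 0xf0a0002) (.leaf 0x402080400000703040103000b))) (.node 53589 (.leaf 0x0) (.node 53590 (.leaf 0xb0a0002) (.leaf 0x0))))) (.node 53596 (.node 53593 (.node 53592 (.leaf 0x70009000009000703040103000c) (.leaf 0x0)) (.node 53594 (.leaf 0xa0f0002) (.node 53595 (.leaf 0x0) (.leaf 0xd15a00d156)))) (.node 53599 (.node 53597 (.leaf 0xf0b0b0003) (.node 53598 (.leaf 0x0) (.leaf 0xf0b0b0a0004))) (.node 53600 (.leaf 0x0) (.node 53601 (.leaf 0x0) (.leaf 0xe0d0002))))))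

def argWS_4750 : Store := (.node 53613 (.node 53607 (.node 53604 (.node 53603 (.leaf 0xd0b0002) (.leaf 0xd162)) (.node 53605 (.leaf 0xa0a0002) (.node 53606 (.leaf 0x0) (.leaf 0xe0a0002)))) (.node 53610 (.node 53608 (.leaf 0x0) (.node 53609 (.leaf 0x0) (.leaf 0xf0a0a0003))) (.node 53611 (.leaf 0x9080600000703040103000c) (.node 53612 (.leaf 0x0) (.leaf 0xb0a0002))))) (.node 53619 (.node 53616 (.node 53614 (.leaf 0x0) (.node 53615 (.leaf 0x60601090000090007) (.leaf 0x0))) (.node 53617 (.leaf 0xb0f0002) (.node 53618 (.leaf 0x0) (.leaf 0xd17100d16d)))) (.node 53622 (.node 53620 (.leaf 0xf0b0b0a0004) (.node 53621 (.leaf 0x0) (.leaf 0xb0a0002))) (.node 53623 (.leaf 0x0) (.node 53624 (.leaf 0x0) (.leaf 0xf0b0b0a0a0005))))))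

def argWS_4751 : Store := (.node 53602 argWS_4749 argWS_4750)

def argWS_4752 : Store := (.node 53636 (.node 53630 (.node 53627 (.node 53626 (.leaf 0xd178) (.leaf 0xe0001)) (.node 53628 (.leaf 0x0) (.node 53629 (.leaf 0xe0001) (.leaf 0x0)))) (.node 53633 (.node 53631 (.leaf 0x0) (.node 53632 (.leaf 0xe0a0a0003) (.leaf 0x6020005020202010008))) (.node 53634 (.leaf 0x0) (.node 53635 (.leaf 0xb0b0a0003) (.leaf 0x0))))) (.node 53641 (.node 53638 (.node 53637 (.leaf 0x4010904020005) (.leaf 0x0)) (.node 53639 (.leaf 0xf0001) (.node 53640 (.leaf 0x0) (.leaf 0xd18700d183)))) (.node 53644 (.node 53642 (.leaf 0xb0f0a0003) (.node 53643 (.leaf 0x0) (.leaf 0x101020703000703040103000b))) (.node 53645 (.leaf 0x0) (.node 53646 (.leaf 0xe0001) (.leaf 0xf0b0b0a0a0005))))))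

def argWS_4753 : Store := (.node 53658 (.node 53652 (.node 53649 (.node 53648 (.leaf 0x30306020702010007) (.leaf 0x0)) (.node 53650 (.leaf 0xb0b0a0a0004) (.node 53651 (.leaf 0x0) (.leaf 0xd19200d18e)))) (.node 53655 (.node 53653 (.leaf 0x2010908050005) (.node 53654 (.leaf 0x0) (.leaf 0xf0b0b0a0a0005))) (.node 53656 (.leaf 0x0) (.node 53657 (.leaf 0xa0001) (.leaf 0x0))))) (.node 53664 (.node 53661 (.node 53659 (.leaf 0x0) (.node 53660 (.leaf 0xf0b0a0a0004) (.leaf 0xb0f0a0a0004))) (.node 53662 (.leaf 0xd19c) (.node 53663 (.leaf 0xf0b0b0a0004) (.leaf 0x0)))) (.node 53667 (.node 53665 (.leaf 0xf0b0a0a0004) (.node 53666 (.leaf 0x0) (.leaf 0x0))) (.node 53668 (.leaf 0xf0b0b0003) (.node 53669 (.leaf 0x40300090000090802040105000c) (.leaf 0x0))))))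

def argWS_4754 : Store := (.node 53647 argWS_4752 argWS_4753)

def argWS_4755 : Store := (.node 53625 argWS_4751 argWS_4754)

def argWS_4756 : Store := (.node 53681 (.node 53675 (.node 53672 (.node 53671 (.leaf 0xb0f0002) (.leaf 0x0)) (.node 53673 (.leaf 0x400040206030802040105000b) (.node 53674 (.leaf 0x0) (.leaf 0xb0f0a0a0004)))) (.node 53678 (.node 53676 (.leaf 0x0) (.node 53677 (.leaf 0xd1ab00d1a7) (.leaf 0xf0b0a0003))) (.node 53679 (.leaf 0x0) (.node 53680 (.leaf 0xf0b0a0a0004) (.leaf 0x0))))) (.node 53686 (.node 53683 (.node 53682 (.leaf 0x0) (.leaf 0xf0a0a0003)) (.node 53684 (.leaf 0xa0f0002) (.node 53685 (.leaf 0xd1b300d1b2) (.leaf 0xe0a0002)))) (.node 53689 (.node 53687 (.leaf 0x0) (.node 53688 (.leaf 0xa0a0002) (.leaf 0x0))) (.node 53690 (.leaf 0x0) (.node 53691 (.leaf 0xa0f0002) (.leaf 0xb0b0a0a0004))))))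

def argWS_4757 : Store := (.node 53703 (.node 53697 (.node 53694 (.node 53693 (.leaf 0xd1bb) (.leaf 0xb0a0002)) (.node 53695 (.leaf 0x0) (.node 53696 (.leaf 0xe0a0a0003) (.leaf 0x0)))) (.node 53700 (.node 53698 (.leaf 0x0) (.node 53699 (.leaf 0xf0a0a0003) (.leaf 0xa0f0002))) (.node 53701 (.leaf 0xf0a0a0003) (.node 53702 (.leaf 0xe0001) (.leaf 0xe0a0a0003))))) (.node 53709 (.node 53706 (.node 53704 (.leaf 0xd1c600d1c5) (.node 53705 (.leaf 0xa0f0002) (.leaf 0x0))) (.node 53707 (.leaf 0xb0001) (.node 53708 (.leaf 0x0) (.leaf 0x0)))) (.node 53712 (.node 53710 (.leaf 0xb0a0f0003) (.node 53711 (.leaf 0x6000408010202000701000a) (.leaf 0x0))) (.node 53713 (.leaf 0x0) (.node 53714 (.leaf 0xd0001) (.leaf 0xd1d1))))))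

def argWS_4758 : Store := (.node 53692 argWS_4756 argWS_4757)

def argWS_4759 : Store := (.node 53726 (.node 53720 (.node 53717 (.node 53716 (.leaf 0xe0d0002) (.leaf 0x0)) (.node 53718 (.leaf 0x8000006020702010202000701000d) (.node 53719 (.leaf 0x0) (.leaf 0xf0b0a0003)))) (.node 53723 (.node 53721 (.leaf 0xe0a0002) (.node 53722 (.leaf 0x7040207020007010008) (.leaf 0x0))) (.node 53724 (.leaf 0x0) (.node 53725 (.leaf 0xa0f0002) (.leaf 0xd1dc00d1db))))) (.node 53731 (.node 53728 (.node 53727 (.leaf 0xf0001) (.leaf 0x0)) (.node 53729 (.leaf 0x30004080703040103000a) (.node 53730 (.leaf 0x0) (.leaf 0xb0f0a0a0004)))) (.node 53734 (.node 53732 (.leaf 0xf0a0a0003) (.node 53733 (.leaf 0xe0d0002) (.leaf 0x9030900090005))) (.node 53735 (.leaf 0x0) (.node 53736 (.leaf 0xa0f0b0003) (.leaf 0x0))))))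

def argWS_4760 : Store := (.node 53748 (.node 53742 (.node 53739 (.node 53738 (.leaf 0xd1e800d1e4) (.leaf 0xb0b0a0003)) (.node 53740 (.leaf 0x0) (.node 53741 (.leaf 0xa0a0002) (.leaf 0x0)))) (.node 53745 (.node 53743 (.leaf 0x0) (.node 53744 (.leaf 0xf0b0b0a0004) (.leaf 0xf0b0b0a0004))) (.node 53746 (.leaf 0xf0b0a0a0004) (.node 53747 (.leaf 0xa0f0b0003) (.leaf 0xf0b0b0a0004))))) (.node 53754 (.node 53751 (.node 53749 (.leaf 0x50305090806000802040105000c) (.node 53750 (.leaf 0x0) (.leaf 0x0))) (.node 53752 (.leaf 0x40603050004000703040103000c) (.node 53753 (.leaf 0x0) (.leaf 0xf0b0b0a0004)))) (.node 53757 (.node 53755 (.leaf 0x0) (.node 53756 (.leaf 0xd1fa00d1f6) (.leaf 0x202020007010006))) (.node 53758 (.leaf 0x0) (.node 53759 (.leaf 0xe0001) (.leaf 0x0))))))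

def argWS_4761 : Store := (.node 53737 argWS_4759 argWS_4760)

def argWS_4762 : Store := (.node 53715 argWS_4758 argWS_4761)

def argWS_4763 : Store := (.node 53670 argWS_4755 argWS_4762)

def argWS_4764 : Store := (.node 53580 argWS_4748 argWS_4763)

def argWS_4765 : Store := (.node 53771 (.node 53765 (.node 53762 (.node 53761 (.leaf 0xf0001) (.leaf 0x0)) (.node 53763 (.leaf 0x0) (.node 53764 (.leaf 0xf0b0b0a0004) (.leaf 0x107050206040006)))) (.node 53768 (.node 53766 (.leaf 0x0) (.node 53767 (.leaf 0xf0b0a0003) (.leaf 0x0))) (.node 53769 (.leaf 0xd207) (.node 53770 (.leaf 0xa0a0002) (.leaf 0x0))))) (.node 53776 (.node 53773 (.node 53772 (.leaf 0xe0a0002) (.leaf 0x0)) (.node 53774 (.leaf 0x0) (.node 53775 (.leaf 0x6040106030500040202000701000d) (.leaf 0x0)))) (.node 53779 (.node 53777 (.leaf 0x0) (.node 53778 (.leaf 0xe0a0002) (.leaf 0xd21100d210))) (.node 53780 (.leaf 0x3030604000703040103000b) (.node 53781 (.leaf 0x0) (.leaf 0xb0a0002))))))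

def argWS_4766 : Store := (.node 53793 (.node 53787 (.node 53784 (.node 53783 (.leaf 0x0) (.leaf 0xe0d0002)) (.node 53785 (.leaf 0x0) (.node 53786 (.leaf 0x0) (.leaf 0xf0001)))) (.node 53790 (.node 53788 (.leaf 0x2070009030006) (.node 53789 (.leaf 0x0) (.leaf 0xa0f0b0b0004))) (.node 53791 (.leaf 0x0) (.node 53792 (.leaf 0x20009080600000703040103000d) (.leaf 0x0))))) (.node 53799 (.node 53796 (.node 53794 (.leaf 0xf0b0b0003) (.node 53795 (.leaf 0x0) (.leaf 0xd22200d21e))) (.node 53797 (.leaf 0xf0a0a0003) (.node 53798 (.leaf 0x0) (.leaf 0x502000400050802040105000b)))) (.node 53802 (.node 53800 (.leaf 0x0) (.node 53801 (.leaf 0xd0b0b0003) (.leaf 0xb0b0002))) (.node 53803 (.leaf 0xd0b0002) (.node 53804 (.leaf 0xb0f0002) (.leaf 0xd22b))))))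

def argWS_4767 : Store := (.node 53782 argWS_4765 argWS_4766)

def argWS_4768 : Store := (.node 53816 (.node 53810 (.node 53807 (.node 53806 (.leaf 0xf0b0a0a0004) (.leaf 0x0)) (.node 53808 (.leaf 0xa0f0b0b0004) (.node 53809 (.leaf 0x0) (.leaf 0x0)))) (.node 53813 (.node 53811 (.leaf 0xb0b0a0003) (.node 53812 (.leaf 0xb0b0a0003) (.leaf 0xd233))) (.node 53814 (.leaf 0xd0001) (.node 53815 (.leaf 0x0) (.leaf 0xd0b0b0003))))) (.node 53821 (.node 53818 (.node 53817 (.leaf 0x0) (.leaf 0x0)) (.node 53819 (.leaf 0xa0f0b0003) (.node 53820 (.leaf 0x6030107020902000703040103000d) (.leaf 0x0)))) (.node 53824 (.node 53822 (.leaf 0xa0f0002) (.node 53823 (.leaf 0x0) (.leaf 0x9010400020804000802040105000d))) (.node 53825 (.leaf 0x0) (.node 53826 (.leaf 0xf0b0b0a0004) (.leaf 0x0))))))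

def argWS_4769 : Store := (.node 53838 (.node 53832 (.node 53829 (.node 53828 (.leaf 0xd24200d23e) (.leaf 0x50006010500020202000701000c)) (.node 53830 (.leaf 0x0) (.node 53831 (.leaf 0xd0b0002) (.leaf 0x0)))) (.node 53835 (.node 53833 (.leaf 0xb0001) (.node 53834 (.leaf 0x0) (.leaf 0x0))) (.node 53836 (.leaf 0xb0f0a0a0004) (.node 53837 (.leaf 0xf0b0b0a0004) (.leaf 0x40004090009000703040103000c))))) (.node 53844 (.node 53841 (.node 53839 (.leaf 0x0) (.node 53840 (.leaf 0xa0f0002) (.leaf 0x0))) (.node 53842 (.leaf 0x7070206000202000701000b) (.node 53843 (.leaf 0x0) (.leaf 0xa0f0b0003)))) (.node 53847 (.node 53845 (.leaf 0x0) (.node 53846 (.leaf 0xd25400d250) (.leaf 0xa0f0b0b0004))) (.node 53848 (.leaf 0x0) (.node 53849 (.leaf 0x0) (.leaf 0xe0001))))))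

def argWS_4770 : Store := (.node 53827 argWS_4768 argWS_4769)

def argWS_4771 : Store := (.node 53805 argWS_4767 argWS_4770)

def argWS_4772 : Store := (.node 53861 (.node 53855 (.node 53852 (.node 53851 (.leaf 0x6000900090202000701000a) (.leaf 0x0)) (.node 53853 (.leaf 0xe0d0002) (.node 53854 (.leaf 0x0) (.leaf 0xd25d)))) (.node 53858 (.node 53856 (.leaf 0x2060009020602000703040103000d) (.node 53857 (.leaf 0x0) (.leaf 0xd0b0002))) (.node 53859 (.leaf 0x0) (.node 53860 (.leaf 0xf0001) (.leaf 0x0))))) (.node 53866 (.node 53863 (.node 53862 (.leaf 0x0) (.leaf 0xf0a0a0003)) (.node 53864 (.leaf 0xb0a0f0003) (.node 53865 (.leaf 0xf0a0a0003) (.leaf 0xd26800d267)))) (.node 53869 (.node 53867 (.leaf 0xf0001) (.node 53868 (.leaf 0x0) (.leaf 0xe0a0002))) (.node 53870 (.leaf 0x0) (.node 53871 (.leaf 0x0) (.leaf 0x200000207030006))))))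

def argWS_4773 : Store := (.node 53883 (.node 53877 (.node 53874 (.node 53873 (.leaf 0x0) (.leaf 0xf0b0b0003)) (.node 53875 (.leaf 0x0) (.node 53876 (.leaf 0x5000000030306040008) (.leaf 0x0)))) (.node 53880 (.node 53878 (.leaf 0x0) (.node 53879 (.leaf 0xf0a0a0003) (.leaf 0xd27600d275))) (.node 53881 (.leaf 0xf0b0a0a0004) (.node 53882 (.leaf 0x0) (.leaf 0x907020901060006))))) (.node 53889 (.node 53886 (.node 53884 (.leaf 0x0) (.node 53885 (.leaf 0xb0f0a0a0004) (.leaf 0xd0b0b0003))) (.node 53887 (.leaf 0xe0a0002) (.node 53888 (.leaf 0xf0001) (.leaf 0x104000000030000000703040103000e)))) (.node 53892 (.node 53890 (.leaf 0x0) (.node 53891 (.leaf 0xe0001) (.leaf 0x0))) (.node 53893 (.leaf 0xd08300d283) (.node 53894 (.leaf 0xb0a0f0003) (.leaf 0x0))))))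

def argWS_4774 : Store := (.node 53872 argWS_4772 argWS_4773)

def argWS_4775 : Store := (.node 53906 (.node 53900 (.node 53897 (.node 53896 (.leaf 0x2040009020602000703040103000d) (.leaf 0x0)) (.node 53898 (.leaf 0xd0b0002) (.node 53899 (.leaf 0xe0a0002) (.leaf 0x50005020202010202000701000c)))) (.node 53903 (.node 53901 (.leaf 0x0) (.node 53902 (.leaf 0xb0b0a0a0004) (.leaf 0x0))) (.node 53904 (.leaf 0x6e0400d28e) (.node 53905 (.leaf 0x102020000030703040103000b) (.leaf 0x0))))) (.node 53911 (.node 53908 (.node 53907 (.leaf 0xf0a0a0003) (.leaf 0x0)) (.node 53909 (.leaf 0xa0001) (.node 53910 (.leaf 0x0) (.leaf 0x0)))) (.node 53914 (.node 53912 (.leaf 0xf0b0002) (.node 53913 (.leaf 0xe0001) (.leaf 0x601090000090006))) (.node 53915 (.leaf 0x0) (.node 53916 (.leaf 0xf0001) (.leaf 0x0))))))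

def argWS_4776 : Store := (.node 53928 (.node 53922 (.node 53919 (.node 53918 (.leaf 0xd29c00d298) (.leaf 0x3050900090802040105000a)) (.node 53920 (.leaf 0x0) (.node 53921 (.leaf 0xe0001) (.leaf 0x0)))) (.node 53925 (.node 53923 (.leaf 0xd0b0002) (.node 53924 (.leaf 0x0) (.leaf 0x0))) (.node 53926 (.leaf 0xf0b0a0a0004) (.node 53927 (.leaf 0x600020106060006) (.leaf 0x0))))) (.node 53934 (.node 53931 (.node 53929 (.leaf 0xe0a0a0003) (.node 53930 (.leaf 0x0) (.leaf 0xf0b0b0a0004))) (.node 53932 (.leaf 0xd2aa00d2a9) (.node 53933 (.leaf 0x105020401050006) (.leaf 0x0)))) (.node 53937 (.node 53935 (.leaf 0xb0b0002) (.node 53936 (.leaf 0x0) (.leaf 0xb0f0002))) (.node 53938 (.leaf 0x0) (.node 53939 (.leaf 0x0) (.leaf 0xe0a0002))))))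

def argWS_4777 : Store := (.node 53917 argWS_4775 argWS_4776)

def argWS_4778 : Store := (.node 53895 argWS_4774 argWS_4777)

def argWS_4779 : Store := (.node 53850 argWS_4771 argWS_4778)

def argWS_4780 : Store := (.node 53951 (.node 53945 (.node 53942 (.node 53941 (.leaf 0xf0a0a0003) (.leaf 0xf0b0b0a0004)) (.node 53943 (.leaf 0xd2b500d2b4) (.node 53944 (.leaf 0xf0a0002) (.leaf 0x0)))) (.node 53948 (.node 53946 (.leaf 0xa0a0002) (.node 53947 (.leaf 0x0) (.leaf 0x0))) (.node 53949 (.leaf 0xf0b0b0a0004) (.node 53950 (.leaf 0x80200020901060007) (.leaf 0x0))))) (.node 53956 (.node 53953 (.node 53952 (.leaf 0xd0b0b0003) (.leaf 0x0)) (.node 53954 (.leaf 0x30401010703060007) (.node 53955 (.leaf 0x0) (.leaf 0xb0b0a0003)))) (.node 53959 (.node 53957 (.leaf 0x0) (.node 53958 (.leaf 0xd2c400d2c0) (.leaf 0x10700090109000703040103000c))) (.node 53960 (.leaf 0x0) (.node 53961 (.leaf 0xa0f0b0003) (.leaf 0x0))))))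

def argWS_4781 : Store := (.node 53973 (.node 53967 (.node 53964 (.node 53963 (.leaf 0xa0f0002) (.leaf 0x0)) (.node 53965 (.leaf 0x0) (.node 53966 (.leaf 0xb0001) (.leaf 0x6000004080703040103000b)))) (.node 53970 (.node 53968 (.leaf 0x0) (.node 53969 (.leaf 0xf0a0002) (.leaf 0x0))) (.node 53971 (.leaf 0xd2d100d2cd) (.node 53972 (.leaf 0x80002000003010008) (.leaf 0x0))))) (.node 53979 (.node 53976 (.node 53974 (.leaf 0xb0f0a0003) (.node 53975 (.leaf 0x0) (.leaf 0xb0a0a0003))) (.node 53977 (.leaf 0x0) (.node 53978 (.leaf 0x0) (.leaf 0xd0b0002)))) (.node 53982 (.node 53980 (.leaf 0xb0f0002) (.node 53981 (.leaf 0xd0001) (.leaf 0xd2dc))) (.node 53983 (.leaf 0x20205020202010802040105000c) (.node 53984 (.leaf 0x0) (.leaf 0xb0f0002))))))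

def argWS_4782 : Store := (.node 53962 argWS_4780 argWS_4781)

def argWS_4783 : Store := (.node 53996 (.node 53990 (.node 53987 (.node 53986 (.leaf 0x0) (.leaf 0xf0a0002)) (.node 53988 (.leaf 0x0) (.node 53989 (.leaf 0x0) (.leaf 0xb0f0002)))) (.node 53993 (.node 53991 (.leaf 0xb0a0002) (.node 53992 (.leaf 0xb0f0a0003) (.leaf 0xe0001))) (.node 53994 (.leaf 0xf0b0a0003) (.node 53995 (.leaf 0xe0a0a0003) (.leaf 0xd2ea00d2e9))))) (.node 54001 (.node 53998 (.node 53997 (.leaf 0xe0001) (.leaf 0x0)) (.node 53999 (.leaf 0xb0b0a0a0004) (.node 54000 (.leaf 0x0) (.leaf 0x0)))) (.node 54004 (.node 54002 (.leaf 0x5000207030005) (.node 54003 (.leaf 0x0) (.leaf 0x0))) (.node 54005 (.leaf 0x3040807030401030008) (.node 54006 (.leaf 0x0) (.leaf 0xe0d0002))))))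

def argWS_4784 : Store := (.node 54018 (.node 54012 (.node 54009 (.node 54008 (.leaf 0x0) (.leaf 0xd2f700acba)) (.node 54010 (.leaf 0xd0b0002) (.node 54011 (.leaf 0x0) (.leaf 0xe0a0a0003)))) (.node 54015 (.node 54013 (.leaf 0x0) (.node 54014 (.leaf 0x0) (.leaf 0x802000207030802040105000b))) (.node 54016 (.leaf 0x0) (.node 54017 (.leaf 0xb0f0a0a0004) (.leaf 0x0))))) (.node 54024 (.node 54021 (.node 54019 (.leaf 0xd301) (.node 54020 (.leaf 0x9020106060202000701000a) (.leaf 0x0))) (.node 54022 (.leaf 0xd0b0b0003) (.node 54023 (.leaf 0x0) (.leaf 0xe0d0002)))) (.node 54027 (.node 54025 (.leaf 0x0) (.node 54026 (.leaf 0x0) (.leaf 0xf0b0b0003))) (.node 54028 (.leaf 0x1040000000300000802040105000d) (.node 54029 (.leaf 0x0) (.leaf 0xa0f0002))))))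

def argWS_4785 : Store := (.node 54007 argWS_4783 argWS_4784)

def argWS_4786 : Store := (.node 53985 argWS_4782 argWS_4785)

def argWS_4787 : Store := (.node 54041 (.node 54035 (.node 54032 (.node 54031 (.leaf 0x0) (.leaf 0xd30e00c30a)) (.node 54033 (.leaf 0xf0b0a0003) (.node 54034 (.leaf 0x0) (.leaf 0xb0b0002)))) (.node 54038 (.node 54036 (.leaf 0x0) (.node 54037 (.leaf 0x0) (.leaf 0xb0001))) (.node 54039 (.leaf 0xb0b0a0003) (.node 54040 (.leaf 0xd31600d315) (.leaf 0x107020603000703040103000b))))) (.node 54046 (.node 54043 (.node 54042 (.leaf 0x0) (.leaf 0xe0a0002)) (.node 54044 (.leaf 0x0) (.node 54045 (.leaf 0xa0a0002) (.leaf 0x0)))) (.node 54049 (.node 54047 (.leaf 0x0) (.node 54048 (.leaf 0xb0b0002) (.leaf 0x60500090206020802040105000c))) (.node 54050 (.leaf 0x0) (.node 54051 (.leaf 0xd0b0002) (.leaf 0x0))))))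

def argWS_4788 : Store := (.node 54063 (.node 54057 (.node 54054 (.node 54053 (.leaf 0xd323) (.leaf 0xf0a0a0003)) (.node 54055 (.leaf 0x0) (.node 54056 (.leaf 0xd0b0002) (.leaf 0x0)))) (.node 54060 (.node 54058 (.leaf 0x0) (.node 54059 (.leaf 0xf0b0b0003) (.leaf 0xf0b0a0003))) (.node 54061 (.leaf 0x30000090206020202000701000c) (.node 54062 (.leaf 0x0) (.leaf 0xb0f0a0a0004))))) (.node 54069 (.node 54066 (.node 54064 (.leaf 0x0) (.node 54065 (.leaf 0xd32f009c5d) (.leaf 0xb0f0002))) (.node 54067 (.leaf 0x0) (.node 54068 (.leaf 0x307000301010200000703040103000e) (.leaf 0x0)))) (.node 54072 (.node 54070 (.leaf 0xe0d0002) (.node 54071 (.leaf 0xe0d0002) (.leaf 0x702050202020703040103000b))) (.node 54073 (.leaf 0x0) (.node 54074 (.leaf 0xf0001) (.leaf 0x0))))))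

def argWS_4789 : Store := (.node 54052 argWS_4787 argWS_4788)

def argWS_4790 : Store := (.node 54086 (.node 54080 (.node 54077 (.node 54076 (.leaf 0x201090806000202000701000b) (.leaf 0x0)) (.node 54078 (.leaf 0xb0b0a0a0004) (.node 54079 (.leaf 0x0) (.leaf 0xd33e00d33a)))) (.node 54083 (.node 54081 (.leaf 0xa0a0002) (.node 54082 (.leaf 0x0) (.leaf 0x4000400020804000008))) (.node 54084 (.leaf 0x0) (.node 54085 (.leaf 0xf0b0b0a0a0005) (.leaf 0xa0f0002))))) (.node 54092 (.node 54089 (.node 54087 (.leaf 0x4020509080600000703040103000d) (.node 54088 (.leaf 0x0) (.leaf 0xf0a0a0003))) (.node 54090 (.leaf 0x0) (.node 54091 (.leaf 0xd349002c53) (.leaf 0xb0b0a0003)))) (.node 54095 (.node 54093 (.leaf 0x0) (.node 54094 (.leaf 0xf0b0002) (.leaf 0x0))) (.node 54096 (.leaf 0x0) (.node 54097 (.leaf 0xe0d0002) (.leaf 0xb0f0a0003))))))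

def argWS_4791 : Store := (.node 54109 (.node 54103 (.node 54100 (.node 54099 (.leaf 0x81c500d351) (.leaf 0x800000003030604000703040103000e)) (.node 54101 (.leaf 0x0) (.node 54102 (.leaf 0x0) (.leaf 0xb0001)))) (.node 54106 (.node 54104 (.leaf 0x0) (.node 54105 (.leaf 0x0) (.leaf 0xb0a0a0003))) (.node 54107 (.leaf 0xb0f0002) (.node 54108 (.leaf 0xd35a) (.leaf 0x601020101090805000703040103000e))))) (.node 54115 (.node 54112 (.node 54110 (.leaf 0x0) (.node 54111 (.leaf 0xf0a0a0003) (.leaf 0x0))) (.node 54113 (.leaf 0xf0b0b0a0004) (.node 54114 (.leaf 0x0) (.leaf 0x0)))) (.node 54118 (.node 54116 (.leaf 0xe0001) (.node 54117 (.leaf 0x80003010102000008) (.leaf 0x0))) (.node 54119 (.leaf 0x0) (.node 54120 (.leaf 0xd36600d363) (.leaf 0xf0b0a0003))))))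

def argWS_4792 : Store := (.node 54098 argWS_4790 argWS_4791)

def argWS_4793 : Store := (.node 54075 argWS_4789 argWS_4792)

def argWS_4794 : Store := (.node 54030 argWS_4786 argWS_4793)

def argWS_4795 : Store := (.node 53940 argWS_4779 argWS_4794)

def argWS_4796 : Store := (.node 53760 argWS_4764 argWS_4795)

def argWS_4797 : Store := (.node 54132 (.node 54126 (.node 54123 (.node 54122 (.leaf 0x0) (.leaf 0xf0b0b0a0004)) (.node 54124 (.leaf 0x0) (.node 54125 (.leaf 0x0) (.leaf 0xe0d0002)))) (.node 54129 (.node 54127 (.leaf 0xb0f0a0a0004) (.node 54128 (.leaf 0x400090000090802040105000c) (.leaf 0x0))) (.node 54130 (.leaf 0xf0b0a0a0004) (.node 54131 (.leaf 0x0) (.leaf 0xd0b0002))))) (.node 54137 (.node 54134 (.node 54133 (.leaf 0xd37300d372) (.leaf 0x20200000408010202000701000c)) (.node 54135 (.leaf 0x0) (.node 54136 (.leaf 0xa0f0b0003) (.leaf 0x0)))) (.node 54140 (.node 54138 (.leaf 0xe0d0002) (.node 54139 (.leaf 0x0) (.leaf 0x0))) (.node 54141 (.leaf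 0xf0b0002) (.node 54142 (.leaf 0x65d0) (.leaf 0xf0b0a0003))))))

def argWS_4798 : Store := (.node 54154 (.node 54148 (.node 54145 (.node 54144 (.leaf 0x0) (.leaf 0xb0b0a0003)) (.node 54146 (.leaf 0x0) (.node 54147 (.leaf 0x0) (.leaf 0x2020003010102000802040105000d)))) (.node 54151 (.node 54149 (.leaf 0x0) (.node 54150 (.leaf 0xe0a0002) (.leaf 0x0))) (.node 54152 (.leaf 0x60007030401030007) (.node 54153 (.leaf 0x0) (.leaf 0xb0f0a0a0004))))) (.node 54160 (.node 54157 (.node 54155 (.leaf 0x0) (.node 54156 (.leaf 0xb0f0a0003) (.leaf 0xd38b00d38a))) (.node 54158 (.leaf 0x0) (.node 54159 (.leaf 0xf0b0a0003) (.leaf 0x0)))) (.node 54163 (.node 54161 (.leaf 0x0) (.node 54162 (.leaf 0x20002010908050802040105000c) (.leaf 0x0))) (.node 54164 (.leaf 0xb0f0002) (.node 54165 (.leaf 0x0) (.leaf 0xe0a0002))))))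

def argWS_4799 : Store := (.node 54143 argWS_4797 argWS_4798)

def argWS_4800 : Store := (.node 54177 (.node 54171 (.node 54168 (.node 54167 (.leaf 0x0) (.leaf 0xc97500d396)) (.node 54169 (.leaf 0xf0b0002) (.node 54170 (.leaf 0x0) (.leaf 0xa0f0b0b0004)))) (.node 54174 (.node 54172 (.leaf 0x0) (.node 54173 (.leaf 0x0) (.leaf 0xb0b0a0a0004))) (.node 54175 (.leaf 0x4000603050004000703040103000d) (.node 54176 (.leaf 0x0) (.leaf 0xf0b0002))))) (.node 54182 (.node 54179 (.node 54178 (.leaf 0x0) (.leaf 0x10502010703060202000701000c)) (.node 54180 (.leaf 0x0) (.node 54181 (.leaf 0xb0b0a0003) (.leaf 0x0)))) (.node 54185 (.node 54183 (.leaf 0xd3a500d3a1) (.node 54184 (.leaf 0x40300090206020802040105000c) (.leaf 0x0))) (.node 54186 (.leaf 0xf0b0002) (.node 54187 (.leaf 0x0) (.leaf 0xa0f0b0003))))))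

def argWS_4801 : Store := (.node 54199 (.node 54193 (.node 54190 (.node 54189 (.leaf 0x0) (.leaf 0x0)) (.node 54191 (.leaf 0xf0b0a0a0004) (.node 54192 (.leaf 0xf0b0b0003) (.leaf 0xe0001)))) (.node 54196 (.node 54194 (.leaf 0xd3b000d3af) (.node 54195 (.leaf 0x50306020702010802040105000d) (.leaf 0x0))) (.node 54197 (.leaf 0xd0001) (.node 54198 (.leaf 0x0) (.leaf 0xb0b0a0a0004))))) (.node 54205 (.node 54202 (.node 54200 (.leaf 0x0) (.node 54201 (.leaf 0x0) (.leaf 0xf0b0a0003))) (.node 54203 (.leaf 0x5030501090402000703040103000d) (.node 54204 (.leaf 0x0) (.leaf 0x0)))) (.node 54208 (.node 54206 (.leaf 0xd3bc) (.node 54207 (.leaf 0xb0f0002) (.leaf 0x0))) (.node 54209 (.leaf 0x0) (.node 54210 (.leaf 0xd0001) (.leaf 0xb0001))))))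

def argWS_4802 : Store := (.node 54188 argWS_4800 argWS_4801)

def argWS_4803 : Store := (.node 54166 argWS_4799 argWS_4802)

def argWS_4804 : Store := (.node 54222 (.node 54216 (.node 54213 (.node 54212 (.leaf 0xf0a0002) (.leaf 0xcda00d3c3)) (.node 54214 (.leaf 0xb0001) (.node 54215 (.leaf 0x0) (.leaf 0xa0001)))) (.node 54219 (.node 54217 (.leaf 0x0) (.node 54218 (.leaf 0x0) (.leaf 0xb0a0a0003))) (.node 54220 (.leaf 0xb0b0002) (.node 54221 (.leaf 0x0) (.leaf 0xd3cc))))) (.node 54227 (.node 54224 (.node 54223 (.leaf 0xb0a0a0003) (.leaf 0x0)) (.node 54225 (.leaf 0xb0001) (.node 54226 (.leaf 0x0) (.leaf 0x0)))) (.node 54230 (.node 54228 (.leaf 0xf0b0002) (.node 54229 (.leaf 0x4030901090202000701000a) (.leaf 0x0))) (.node 54231 (.leaf 0xe0d0002) (.node 54232 (.leaf 0x0) (.leaf 0xd3d7))))))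

def argWS_4805 : Store := (.node 54244 (.node 54238 (.node 54235 (.node 54234 (.leaf 0xf0b0a0a0004) (.leaf 0x0)) (.node 54236 (.leaf 0xf0b0b0a0004) (.node 54237 (.leaf 0x0) (.leaf 0x0)))) (.node 54241 (.node 54239 (.leaf 0xa0f0b0b0004) (.node 54240 (.leaf 0xb0b0a0003) (.leaf 0xd3df00802f))) (.node 54242 (.leaf 0xf0a0a0003) (.node 54243 (.leaf 0x0) (.leaf 0xf0b0a0003))))) (.node 54250 (.node 54247 (.node 54245 (.leaf 0x0) (.node 54246 (.leaf 0x0) (.leaf 0xb0f0002))) (.node 54248 (.leaf 0xd0001) (.node 54249 (.leaf 0xa0f0b0b0004) (.leaf 0xd3e800d3e7)))) (.node 54253 (.node 54251 (.leaf 0x2090300000300000008) (.node 54252 (.leaf 0x0) (.leaf 0xe0d0002))) (.node 54254 (.leaf 0x0) (.node 54255 (.leaf 0xb0a0f0003) (.leaf 0x0))))))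

def argWS_4806 : Store := (.node 54233 argWS_4804 argWS_4805)

def argWS_4807 : Store := (.node 54267 (.node 54261 (.node 54258 (.node 54257 (.leaf 0x0) (.leaf 0xb0a0002)) (.node 54259 (.leaf 0xb0b0a0a0004) (.node 54260 (.leaf 0xd3f2) (.leaf 0xe0a0002)))) (.node 54264 (.node 54262 (.leaf 0x0) (.node 54263 (.leaf 0x0) (.leaf 0xf0b0a0a0004))) (.node 54265 (.leaf 0x900090000090202000701000c) (.node 54266 (.leaf 0x0) (.leaf 0xa0f0b0003))))) (.node 54272 (.node 54269 (.node 54268 (.leaf 0x0) (.leaf 0xd3fb)) (.node 54270 (.leaf 0x80006010500020802040105000d) (.node 54271 (.leaf 0x0) (.leaf 0xb0a0f0003)))) (.node 54275 (.node 54273 (.leaf 0x0) (.node 54274 (.leaf 0xf0b0b0a0a0005) (.leaf 0x0))) (.node 54276 (.leaf 0x0) (.node 54277 (.leaf 0x2020002020900000202000701000d) (.leaf 0x0))))))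

def argWS_4808 : Store := (.node 54289 (.node 54283 (.node 54280 (.node 54279 (.leaf 0xe0d0002) (.leaf 0x0)) (.node 54281 (.leaf 0x400050206040007) (.node 54282 (.leaf 0x0) (.leaf 0xf0b0a0a0004)))) (.node 54286 (.node 54284 (.leaf 0x0) (.node 54285 (.leaf 0xd40b00d407) (.leaf 0xb0b0a0003))) (.node 54287 (.leaf 0x0) (.node 54288 (.leaf 0xb0a0a0003) (.leaf 0x0))))) (.node 54295 (.node 54292 (.node 54290 (.leaf 0x0) (.node 54291 (.leaf 0x303090806000802040105000b) (.leaf 0x0))) (.node 54293 (.leaf 0xe0d0002) (.node 54294 (.leaf 0x0) (.leaf 0xe0001)))) (.node 54298 (.node 54296 (.leaf 0xd416) (.node 54297 (.leaf 0xb0f0002) (.leaf 0x0))) (.node 54299 (.leaf 0xf0b0a0a0004) (.node 54300 (.leaf 0x0) (.leaf 0x0))))))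

def argWS_4809 : Store := (.node 54278 argWS_4807 argWS_4808)

def argWS_4810 : Store := (.node 54256 argWS_4806 argWS_4809)

def argWS_4811 : Store := (.node 54211 argWS_4803 argWS_4810)

def argWS_4812 : Store := (.node 54312 (.node 54306 (.node 54303 (.node 54302 (.leaf 0xf0a0002) (.leaf 0x2020009020602000703040103000d)) (.node 54304 (.leaf 0x0) (.node 54305 (.leaf 0xb0b0002) (.leaf 0x0)))) (.node 54309 (.node 54307 (.leaf 0x10201010703060007) (.node 54308 (.leaf 0x0) (.leaf 0xe0a0002))) (.node 54310 (.leaf 0x0) (.node 54311 (.leaf 0xd42500d421) (.leaf 0x2070206030005))))) (.node 54317 (.node 54314 (.node 54313 (.leaf 0x0) (.leaf 0xa0f0b0003)) (.node 54315 (.leaf 0x0) (.node 54316 (.leaf 0xe0a0002) (.leaf 0x0)))) (.node 54320 (.node 54318 (.leaf 0x0) (.node 54319 (.leaf 0xe0a0a0003) (.leaf 0x6030102090106000703040103000d))) (.node 54321 (.leaf 0x0) (.node 54322 (.leaf 0xb0a0a0003) (.leaf 0x0))))))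

def argWS_4813 : Store := (.node 54334 (.node 54328 (.node 54325 (.node 54324 (.leaf 0xd432000ab2) (.leaf 0xb0a0002)) (.node 54326 (.leaf 0x0) (.node 54327 (.leaf 0xe0001) (.leaf 0x0)))) (.node 54331 (.node 54329 (.leaf 0x0) (.node 54330 (.leaf 0xb0b0a0a0004) (.leaf 0x200000000030000000703040103000e))) (.node 54332 (.leaf 0x0) (.node 54333 (.leaf 0xa0f0b0b0004) (.leaf 0x0))))) (.node 54340 (.node 54337 (.node 54335 (.leaf 0x60000030306040802040105000c) (.node 54336 (.leaf 0x0) (.leaf 0xe0a0a0003))) (.node 54338 (.leaf 0x0) (.node 54339 (.leaf 0x8000000020804000802040105000d) (.leaf 0x0)))) (.node 54343 (.node 54341 (.leaf 0xb0f0a0a0004) (.node 54342 (.leaf 0x0) (.leaf 0xd44500d441))) (.node 54344 (.leaf 0xe0001) (.node 54345 (.leaf 0x0) (.leaf 0x60400090806000202000701000c))))))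

def argWS_4814 : Store := (.node 54323 argWS_4812 argWS_4813)

def argWS_4815 : Store := (.node 54357 (.node 54351 (.node 54348 (.node 54347 (.leaf 0x0) (.leaf 0xf0a0a0003)) (.node 54349 (.leaf 0xf0b0002) (.node 54350 (.leaf 0xb0f0a0003) (.leaf 0x602020900000007)))) (.node 54354 (.node 54352 (.leaf 0x0) (.node 54353 (.leaf 0xf0b0b0a0a0005) (.leaf 0x0))) (.node 54355 (.leaf 0xd45100d44d) (.node 54356 (.leaf 0xa0a0002) (.leaf 0x0))))) (.node 54362 (.node 54359 (.node 54358 (.leaf 0xb0001) (.leaf 0x0)) (.node 54360 (.leaf 0x0) (.node 54361 (.leaf 0xe0d0002) (.leaf 0xf0b0b0a0004)))) (.node 54365 (.node 54363 (.leaf 0xd45900c570) (.node 54364 (.leaf 0x201030601050002000703040103000e) (.leaf 0x0))) (.node 54366 (.leaf 0xa0f0b0003) (.node 54367 (.leaf 0x0) (.leaf 0xf0b0b0a0a0005))))))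

def argWS_4816 : Store := (.node 54379 (.node 54373 (.node 54370 (.node 54369 (.leaf 0x0) (.leaf 0x0)) (.node 54371 (.leaf 0x8010102000003010202000701000d) (.node 54372 (.leaf 0x0) (.leaf 0xe0a0a0003)))) (.node 54376 (.node 54374 (.leaf 0x0) (.node 54375 (.leaf 0x20901020106060802040105000c) (.leaf 0x0))) (.node 54377 (.leaf 0xa0f0002) (.node 54378 (.leaf 0x0) (.leaf 0xd27e00d469))))) (.node 54385 (.node 54382 (.node 54380 (.leaf 0xd0001) (.node 54381 (.leaf 0x0) (.leaf 0xa0a0002))) (.node 54383 (.leaf 0x0) (.node 54384 (.leaf 0x0) (.leaf 0xf0a0a0003)))) (.node 54388 (.node 54386 (.leaf 0x0) (.node 54387 (.leaf 0xb0a0f0003) (.leaf 0xd47200d471))) (.node 54389 (.leaf 0xa0001) (.node 54390 (.leaf 0x0) (.leaf 0xf0001))))))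

def argWS_4817 : Store := (.node 54368 argWS_4815 argWS_4816)

def argWS_4818 : Store := (.node 54346 argWS_4814 argWS_4817)

def argWS_4819 : Store := (.node 54402 (.node 54396 (.node 54393 (.node 54392 (.leaf 0x0) (.leaf 0x0)) (.node 54394 (.leaf 0xb0f0002) (.node 54395 (.leaf 0xb0b0002) (.leaf 0xd47a000cf3)))) (.node 54399 (.node 54397 (.leaf 0xb0b0002) (.node 54398 (.leaf 0x0) (.leaf 0xd0001))) (.node 54400 (.leaf 0x0) (.node 54401 (.leaf 0x0) (.leaf 0xa0f0b0003))))) (.node 54407 (.node 54404 (.node 54403 (.leaf 0xf0b0a0a0004) (.leaf 0xd482)) (.node 54405 (.leaf 0xd0b0b0003) (.node 54406 (.leaf 0x0) (.leaf 0xf0a0a0003)))) (.node 54410 (.node 54408 (.leaf 0x0) (.node 54409 (.leaf 0x0) (.leaf 0x1010301010200000703040103000d))) (.node 54411 (.leaf 0x0) (.node 54412 (.leaf 0xa0f0b0003) (.leaf 0x0))))))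

def argWS_4820 : Store := (.node 54424 (.node 54418 (.node 54415 (.node 54414 (.leaf 0xb0f0a0003) (.leaf 0xd48d00d48c)) (.node 54416 (.leaf 0xf0b0a0003) (.node 54417 (.leaf 0x0) (.leaf 0xb0a0a0003)))) (.node 54421 (.node 54419 (.leaf 0x0) (.node 54420 (.leaf 0x0) (.leaf 0xf0b0a0003))) (.node 54422 (.leaf 0x8030000000703040103000a) (.node 54423 (.leaf 0x0) (.leaf 0xf0a0a0003))))) (.node 54430 (.node 54427 (.node 54425 (.leaf 0x0) (.node 54426 (.leaf 0xd498) (.leaf 0xf0b0002))) (.node 54428 (.leaf 0x0) (.node 54429 (.leaf 0xb0f0a0a0004) (.leaf 0x0)))) (.node 54433 (.node 54431 (.leaf 0x0) (.node 54432 (.leaf 0x3040102020900000008) (.leaf 0x0))) (.node 54434 (.leaf 0xb0f0002) (.node 54435 (.leaf 0x0) (.leaf 0xe0a0a0003))))))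

def argWS_4821 : Store := (.node 54413 argWS_4819 argWS_4820)

def argWS_4822 : Store := (.node 54447 (.node 54441 (.node 54438 (.node 54437 (.leaf 0xd4a3) (.leaf 0xa0f0002)) (.node 54439 (.leaf 0x0) (.node 54440 (.leaf 0xe0001) (.leaf 0x0)))) (.node 54444 (.node 54442 (.leaf 0x0) (.node 54443 (.leaf 0xe0a0002) (.leaf 0x20206000004))) (.node 54445 (.leaf 0x0) (.node 54446 (.leaf 0xa0f0b0003) (.leaf 0x0))))) (.node 54453 (.node 54450 (.node 54448 (.leaf 0xd4ae) (.node 54449 (.leaf 0x20002020106060802040105000c) (.leaf 0x0))) (.node 54451 (.leaf 0xf0001) (.node 54452 (.leaf 0x0) (.leaf 0xf0b0002)))) (.node 54456 (.node 54454 (.leaf 0x0) (.node 54455 (.leaf 0x0) (.leaf 0xb0f0a0003))) (.node 54457 (.leaf 0xe0001) (.node 54458 (.leaf 0xd4b8) (.leaf 0x200070206000006))))))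

def argWS_4823 : Store := (.node 54470 (.node 54464 (.node 54461 (.node 54460 (.leaf 0x0) (.leaf 0xd0001)) (.node 54462 (.leaf 0x0) (.node 54463 (.leaf 0x0) (.leaf 0x20006030500040802040105000c)))) (.node 54467 (.node 54465 (.leaf 0x0) (.node 54466 (.leaf 0x0) (.leaf 0x1020200000300000202000701000d))) (.node 54468 (.leaf 0x0) (.node 54469 (.leaf 0xf0b0b0003) (.leaf 0x0))))) (.node 54476 (.node 54473 (.node 54471 (.leaf 0xf0b0a0a0004) (.node 54472 (.leaf 0xd4c600d4c5) (.leaf 0xe0d0002))) (.node 54474 (.leaf 0x0) (.node 54475 (.leaf 0x500000408010802040105000b) (.leaf 0x0)))) (.node 54479 (.node 54477 (.leaf 0xe0a0a0003) (.node 54478 (.leaf 0x105020003030604000703040103000e) (.leaf 0x0))) (.node 54480 (.leaf 0xb0b0a0003) (.node 54481 (.leaf 0x0) (.leaf 0x3070206000006))))))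

def argWS_4824 : Store := (.node 54459 argWS_4822 argWS_4823)

def argWS_4825 : Store := (.node 54436 argWS_4821 argWS_4824)

def argWS_4826 : Store := (.node 54391 argWS_4818 argWS_4825)

def argWS_4827 : Store := (.node 54301 argWS_4811 argWS_4826)

def argWS_4828 : Store := (.node 54493 (.node 54487 (.node 54484 (.node 54483 (.leaf 0x0) (.leaf 0xd0b0002)) (.node 54485 (.leaf 0x0) (.node 54486 (.leaf 0xd4d4) (.leaf 0xf0a0002)))) (.node 54490 (.node 54488 (.leaf 0x0) (.node 54489 (.leaf 0x70305070206000007) (.leaf 0x0))) (.node 54491 (.leaf 0xf0b0a0a0004) (.node 54492 (.leaf 0xd0b0002) (.leaf 0x205050206040006))))) (.node 54498 (.node 54495 (.node 54494 (.leaf 0x0) (.leaf 0xb0a0002)) (.node 54496 (.leaf 0x0) (.node 54497 (.leaf 0xd4df) (.leaf 0xd0b0002)))) (.node 54501 (.node 54499 (.leaf 0x0) (.node 54500 (.leaf 0xb0a0a0003) (.leaf 0x0))) (.node 54502 (.leaf 0x0) (.node 54503 (.leaf 0x906020703000703040103000b) (.leaf 0x0))))))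

def argWS_4829 : Store := (.node 54515 (.node 54509 (.node 54506 (.node 54505 (.leaf 0x0) (.leaf 0xd3a6)) (.node 54507 (.leaf 0xf0b0b0a0004) (.node 54508 (.leaf 0x0) (.leaf 0xf0001)))) (.node 54512 (.node 54510 (.leaf 0x0) (.node 54511 (.leaf 0x0) (.leaf 0xf0b0a0003))) (.node 54513 (.leaf 0xf0b0b0003) (.node 54514 (.leaf 0xd4f000d4ef) (.leaf 0xf0a0a0003))))) (.node 54521 (.node 54518 (.node 54516 (.leaf 0x0) (.node 54517 (.leaf 0xf0b0b0a0a0005) (.leaf 0x0))) (.node 54519 (.leaf 0x601050002000703040103000d) (.node 54520 (.leaf 0x0) (.leaf 0xf0b0b0a0004)))) (.node 54524 (.node 54522 (.leaf 0x0) (.node 54523 (.leaf 0xd0e1) (.leaf 0xb0f0a0003))) (.node 54525 (.leaf 0x0) (.node 54526 (.leaf 0xf0001) (.leaf 0x0))))))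

def argWS_4830 : Store := (.node 54504 argWS_4828 argWS_4829)

def argWS_4831 : Store := (.node 54538 (.node 54532 (.node 54529 (.node 54528 (.leaf 0x0) (.leaf 0xb0b0a0003)) (.node 54530 (.leaf 0xb0f0a0003) (.node 54531 (.leaf 0xf0a0002) (.leaf 0xd50200d501)))) (.node 54535 (.node 54533 (.leaf 0xf0b0a0a0004) (.node 54534 (.leaf 0x0) (.leaf 0xb0a0a0003))) (.node 54536 (.leaf 0x0) (.node 54537 (.leaf 0x0) (.leaf 0x70703060004))))) (.node 54543 (.node 54540 (.node 54539 (.leaf 0x0) (.leaf 0xa0a0002)) (.node 54541 (.leaf 0x0) (.node 54542 (.leaf 0x20409000009000703040103000c) (.leaf 0x0)))) (.node 54546 (.node 54544 (.leaf 0xb0a0f0003) (.node 54545 (.leaf 0x0) (.leaf 0xd510))) (.node 54547 (.leaf 0xf0b0002) (.node 54548 (.leaf 0x0) (.leaf 0x0))))))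

def argWS_4832 : Store := (.node 54560 (.node 54554 (.node 54551 (.node 54550 (.leaf 0xb0f0a0a0004) (.leaf 0xe0a0a0003)) (.node 54552 (.leaf 0x4000206040005) (.node 54553 (.leaf 0x0) (.leaf 0xf0b0002)))) (.node 54557 (.node 54555 (.leaf 0x0) (.node 54556 (.leaf 0xca4d00d51a) (.leaf 0xe0d0002))) (.node 54558 (.leaf 0x0) (.node 54559 (.leaf 0xe0a0a0003) (.leaf 0x0))))) (.node 54566 (.node 54563 (.node 54561 (.leaf 0x0) (.node 54562 (.leaf 0xd0b0002) (.leaf 0x9030006030500040802040105000d))) (.node 54564 (.leaf 0x0) (.node 54565 (.leaf 0xf0a0a0003) (.leaf 0x0)))) (.node 54569 (.node 54567 (.leaf 0xd525) (.node 54568 (.leaf 0xe0a0a0003) (.leaf 0x0))) (.node 54570 (.leaf 0xe0a0002) (.node 54571 (.leaf 0x0) (.leaf 0x0))))))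

def argWS_4833 : Store := (.node 54549 argWS_4831 argWS_4832)

def argWS_4834 : Store := (.node 54527 argWS_4830 argWS_4833)

def argWS_4835 : Store := (.node 54583 (.node 54577 (.node 54574 (.node 54573 (.leaf 0xb0f0002) (.leaf 0x705050202020703040103000b)) (.node 54575 (.leaf 0x0) (.node 54576 (.leaf 0xf0b0a0a0004) (.leaf 0x0)))) (.node 54580 (.node 54578 (.leaf 0x40004020901060802040105000c) (.node 54579 (.leaf 0x0) (.leaf 0x0))) (.node 54581 (.leaf 0xd53300d530) (.node 54582 (.leaf 0xe0a0002) (.leaf 0x0))))) (.node 54588 (.node 54585 (.node 54584 (.leaf 0xb0b0a0a0004) (.leaf 0x0)) (.node 54586 (.leaf 0x0) (.node 54587 (.leaf 0xd0b0b0003) (.leaf 0xa0a0002)))) (.node 54591 (.node 54589 (.leaf 0x5030506010500020008) (.node 54590 (.leaf 0x0) (.leaf 0xf0a0a0003))) (.node 54592 (.leaf 0x0) (.node 54593 (.leaf 0xd53f00d53b) (.leaf 0x102040807030401030009))))))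

def argWS_4836 : Store := (.node 54605 (.node 54599 (.node 54596 (.node 54595 (.leaf 0x0) (.leaf 0xf0a0a0003)) (.node 54597 (.leaf 0x0) (.node 54598 (.leaf 0xd0b0002) (.leaf 0x0)))) (.node 54602 (.node 54600 (.leaf 0x0) (.node 54601 (.leaf 0xd0b0b0003) (.leaf 0x103000202090000000703040103000e))) (.node 54603 (.leaf 0x0) (.node 54604 (.leaf 0xf0b0a0003) (.leaf 0x0))))) (.node 54611 (.node 54608 (.node 54606 (.leaf 0xd54c00144c) (.node 54607 (.leaf 0xb0b0a0003) (.leaf 0x0))) (.node 54609 (.leaf 0xf0b0b0a0004) (.node 54610 (.leaf 0x0) (.leaf 0x0)))) (.node 54614 (.node 54612 (.leaf 0xd0b0b0003) (.node 54613 (.leaf 0xe0d0002) (.leaf 0x0))) (.node 54615 (.leaf 0xa0a0002) (.node 54616 (.leaf 0xd55600d555) (.leaf 0xd0b0b0003))))))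

def argWS_4837 : Store := (.node 54594 argWS_4835 argWS_4836)

def argWS_4838 : Store := (.node 54628 (.node 54622 (.node 54619 (.node 54618 (.leaf 0x0) (.leaf 0x300090806000202000701000b)) (.node 54620 (.leaf 0x0) (.node 54621 (.leaf 0xe0d0002) (.leaf 0xb0b0a0003)))) (.node 54625 (.node 54623 (.leaf 0x6020101090402000703040103000d) (.node 54624 (.leaf 0x0) (.leaf 0xb0b0a0003))) (.node 54626 (.leaf 0x0) (.node 54627 (.leaf 0x853300d561) (.leaf 0xf0b0b0a0004))))) (.node 54633 (.node 54630 (.node 54629 (.leaf 0x0) (.leaf 0xf0001)) (.node 54631 (.leaf 0x0) (.node 54632 (.leaf 0x0) (.leaf 0xe0001)))) (.node 54636 (.node 54634 (.leaf 0x603010207030802040105000b) (.node 54635 (.leaf 0x0) (.leaf 0xf0001))) (.node 54637 (.leaf 0x0) (.node 54638 (.leaf 0xd56c00d568) (.leaf 0xa0f0b0003))))))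

def argWS_4839 : Store := (.node 54650 (.node 54644 (.node 54641 (.node 54640 (.leaf 0x0) (.leaf 0x30106020702010802040105000c)) (.node 54642 (.leaf 0x0) (.node 54643 (.leaf 0xb0001) (.leaf 0x4070009020007010009)))) (.node 54647 (.node 54645 (.leaf 0x0) (.node 54646 (.leaf 0xf0a0a0003) (.leaf 0x0))) (.node 54648 (.leaf 0xa0a0002) (.node 54649 (.leaf 0x80004070209020202000701000c) (.leaf 0x0))))) (.node 54656 (.node 54653 (.node 54651 (.leaf 0xe0d0002) (.node 54652 (.leaf 0x0) (.leaf 0xd57b00d577))) (.node 54654 (.leaf 0xf0b0b0003) (.node 54655 (.leaf 0x0) (.leaf 0xa0f0002)))) (.node 54659 (.node 54657 (.leaf 0x0) (.node 54658 (.leaf 0x0) (.leaf 0x8020000020804000202000701000d))) (.node 54660 (.leaf 0x0) (.node 54661 (.leaf 0xd0b0b0003) (.leaf 0x0))))))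

def argWS_4840 : Store := (.node 54639 argWS_4838 argWS_4839)

def argWS_4841 : Store := (.node 54617 argWS_4837 argWS_4840)

def argWS_4842 : Store := (.node 54572 argWS_4834 argWS_4841)

def argWS_4843 : Store := (.node 54673 (.node 54667 (.node 54664 (.node 54663 (.leaf 0xe0a0a0003) (.leaf 0xd0b0b0003)) (.node 54665 (.leaf 0xd58700d586) (.node 54666 (.leaf 0xf0b0b0a0004) (.leaf 0x0)))) (.node 54670 (.node 54668 (.leaf 0xf0a0002) (.node 54669 (.leaf 0x0) (.leaf 0x0))) (.node 54671 (.leaf 0xb0f0002) (.node 54672 (.leaf 0xd0001) (.leaf 0x905000003010202000701000b))))) (.node 54678 (.node 54675 (.node 54674 (.leaf 0x0) (.leaf 0xe0d0002)) (.node 54676 (.leaf 0x0) (.node 54677 (.leaf 0xd59300d58f) (.leaf 0x304010908050006)))) (.node 54681 (.node 54679 (.leaf 0x0) (.node 54680 (.leaf 0xb0a0f0003) (.leaf 0x0))) (.node 54682 (.leaf 0xa0f0002) (.node 54683 (.leaf 0x0) (.leaf 0x0))))))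

def argWS_4844 : Store := (.node 54695 (.node 54689 (.node 54686 (.node 54685 (.leaf 0xd0001) (.leaf 0x800020202010802040105000b)) (.node 54687 (.leaf 0x0) (.node 54688 (.leaf 0xf0b0a0a0004) (.leaf 0x0)))) (.node 54692 (.node 54690 (.leaf 0x9070000000300000202000701000d) (.node 54691 (.leaf 0x0) (.leaf 0xf0b0a0a0004))) (.node 54693 (.leaf 0x0) (.node 54694 (.leaf 0xd5a400d5a0) (.leaf 0xd0001))))) (.node 54701 (.node 54698 (.node 54696 (.leaf 0x0) (.node 54697 (.leaf 0xf0b0a0a0004) (.leaf 0x0))) (.node 54699 (.leaf 0x0) (.node 54700 (.leaf 0xf0001) (.leaf 0x8010101090402000703040103000d)))) (.node 54704 (.node 54702 (.leaf 0x0) (.node 54703 (.leaf 0xb0f0a0003) (.leaf 0x0))) (.node 54705 (.leaf 0xa0001) (.node 54706 (.leaf 0xd5b000d5af) (.leaf 0x907000603050004000703040103000e))))))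

def argWS_4845 : Store := (.node 54684 argWS_4843 argWS_4844)

def argWS_4846 : Store := (.node 54718 (.node 54712 (.node 54709 (.node 54708 (.leaf 0x0) (.leaf 0x0)) (.node 54710 (.leaf 0xb0b0a0003) (.node 54711 (.leaf 0x0) (.leaf 0x0)))) (.node 54715 (.node 54713 (.leaf 0x903010102000802040105000b) (.node 54714 (.leaf 0x0) (.leaf 0xb0a0a0003))) (.node 54716 (.leaf 0x0) (.node 54717 (.leaf 0xa0f0002) (.leaf 0xd0001))))) (.node 54723 (.node 54720 (.node 54719 (.leaf 0xd5bd00d5bc) (.leaf 0xf0b0a0003)) (.node 54721 (.leaf 0x0) (.node 54722 (.leaf 0x301050202020703040103000b) (.leaf 0x0)))) (.node 54726 (.node 54724 (.leaf 0xd0b0002) (.node 54725 (.leaf 0xb0f0a0003) (.leaf 0x60201020000030703040103000c))) (.node 54727 (.leaf 0x0) (.node 54728 (.leaf 0x0) (.leaf 0xd5c7))))))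

def argWS_4847 : Store := (.node 54740 (.node 54734 (.node 54731 (.node 54730 (.leaf 0xe0a0002) (.leaf 0x0)) (.node 54732 (.leaf 0xa0f0b0b0004) (.node 54733 (.leaf 0x0) (.leaf 0x0)))) (.node 54737 (.node 54735 (.leaf 0xa0f0b0b0004) (.node 54736 (.leaf 0xe0a0002) (.leaf 0xd5cf))) (.node 54738 (.leaf 0x301090009000703040103000b) (.node 54739 (.leaf 0x0) (.leaf 0xa0f0b0003))))) (.node 54746 (.node 54743 (.node 54741 (.leaf 0x0) (.node 54742 (.leaf 0xf0a0a0003) (.leaf 0x0))) (.node 54744 (.leaf 0x0) (.node 54745 (.leaf 0x4060207020703040103000b) (.leaf 0x0)))) (.node 54749 (.node 54747 (.leaf 0xf0b0b0a0004) (.node 54748 (.leaf 0x0) (.leaf 0x9000207030802040105000b))) (.node 54750 (.leaf 0x0) (.node 54751 (.leaf 0xe0a0002) (.leaf 0x0))))))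

def argWS_4848 : Store := (.node 54729 argWS_4846 argWS_4847)

def argWS_4849 : Store := (.node 54707 argWS_4845 argWS_4848)

def argWS_4850 : Store := (.node 54763 (.node 54757 (.node 54754 (.node 54753 (.leaf 0xf0b0002) (.leaf 0xd5e000d5df)) (.node 54755 (.leaf 0xb0b0a0a0004) (.node 54756 (.leaf 0x0) (.leaf 0x80004090806000007)))) (.node 54760 (.node 54758 (.leaf 0x0) (.node 54759 (.leaf 0xf0a0a0003) (.leaf 0x2040300000300000008))) (.node 54761 (.leaf 0x0) (.node 54762 (.leaf 0xd0b0002) (.leaf 0x0))))) (.node 54768 (.node 54765 (.node 54764 (.leaf 0x708020401050007) (.leaf 0x0)) (.node 54766 (.leaf 0xb0f0a0003) (.node 54767 (.leaf 0x0) (.leaf 0xd5ee00d5ea)))) (.node 54771 (.node 54769 (.leaf 0xa0a0002) (.node 54770 (.leaf 0x0) (.leaf 0xb0a0a0003))) (.node 54772 (.leaf 0x0) (.node 54773 (.leaf 0x0) (.leaf 0x600000301010200000703040103000e))))))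

def argWS_4851 : Store := (.node 54785 (.node 54779 (.node 54776 (.node 54775 (.leaf 0x0) (.leaf 0xb0b0a0a0004)) (.node 54777 (.leaf 0x0) (.node 54778 (.leaf 0x7e2100d5f8) (.leaf 0x50209020602000703040103000c)))) (.node 54782 (.node 54780 (.leaf 0x0) (.node 54781 (.leaf 0xe0a0002) (.leaf 0x0))) (.node 54783 (.leaf 0xb0a0f0003) (.node 54784 (.leaf 0x0) (.leaf 0x0))))) (.node 54791 (.node 54788 (.node 54786 (.leaf 0xa0001) (.node 54787 (.leaf 0x1010206020007010008) (.leaf 0x0))) (.node 54789 (.leaf 0xa0f0b0b0004) (.node 54790 (.leaf 0x0) (.leaf 0x7c7100d605)))) (.node 54794 (.node 54792 (.leaf 0xe0a0a0003) (.node 54793 (.leaf 0x0) (.leaf 0xa0001))) (.node 54795 (.leaf 0x0) (.node 54796 (.leaf 0x0) (.leaf 0xf0001))))))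

def argWS_4852 : Store := (.node 54774 argWS_4850 argWS_4851)

def argWS_4853 : Store := (.node 54808 (.node 54802 (.node 54799 (.node 54798 (.leaf 0xe0001) (.leaf 0xd60d00d60c)) (.node 54800 (.leaf 0xb0b0a0003) (.node 54801 (.leaf 0x0) (.leaf 0xe0d0002)))) (.node 54805 (.node 54803 (.leaf 0x0) (.node 54804 (.leaf 0x0) (.leaf 0xf0b0b0a0a0005))) (.node 54806 (.leaf 0xd51500564c) (.node 54807 (.leaf 0xf0a0002) (.leaf 0x0))))) (.node 54814 (.node 54811 (.node 54809 (.leaf 0xb0f0002) (.node 54810 (.leaf 0x0) (.leaf 0x0))) (.node 54812 (.leaf 0xe0001) (.node 54813 (.leaf 0xa0f0b0b0004) (.leaf 0xb0a0002)))) (.node 54817 (.node 54815 (.leaf 0xd61d00d61c) (.node 54816 (.leaf 0x700000003030604000703040103000e) (.leaf 0x0))) (.node 54818 (.leaf 0xb0f0a0a0004) (.node 54819 (.leaf 0x0) (.leaf 0xa0f0002))))))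

def argWS_4854 : Store := (.node 54831 (.node 54825 (.node 54822 (.node 54821 (.leaf 0x0) (.leaf 0x0)) (.node 54823 (.leaf 0xb0a0f0003) (.node 54824 (.leaf 0x104020703000703040103000b) (.leaf 0x0)))) (.node 54828 (.node 54826 (.leaf 0xa0001) (.node 54827 (.leaf 0x0) (.leaf 0xd62a))) (.node 54829 (.leaf 0xa0f0002) (.node 54830 (.leaf 0x0) (.leaf 0xe0a0a0003))))) (.node 54837 (.node 54834 (.node 54832 (.leaf 0x0) (.node 54833 (.leaf 0x0) (.leaf 0x60400090806000007))) (.node 54835 (.leaf 0x0) (.node 54836 (.leaf 0xb0f0002) (.leaf 0x0)))) (.node 54840 (.node 54838 (.leaf 0xd634) (.node 54839 (.leaf 0xb0b0a0003) (.leaf 0x0))) (.node 54841 (.leaf 0x0) (.node 54842 (.leaf 0x3000508020401050008) (.leaf 0x0))))))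

def argWS_4855 : Store := (.node 54820 argWS_4853 argWS_4854)

def argWS_4856 : Store := (.node 54797 argWS_4852 argWS_4855)

def argWS_4857 : Store := (.node 54752 argWS_4849 argWS_4856)

def argWS_4858 : Store := (.node 54662 argWS_4842 argWS_4857)

def argWS_4859 : Store := (.node 54482 argWS_4827 argWS_4858)

def argWS_4860 : Store := (.node 54121 argWS_4796 argWS_4859)

def argWS_4861 : Store := (.node 53400 argWS_4733 argWS_4860)

def argWS_4862 : Store := (.node 54854 (.node 54848 (.node 54845 (.node 54844 (.leaf 0xa0a0002) (.leaf 0x0)) (.node 54846 (.leaf 0xd63c) (.node 54847 (.leaf 0xa0001) (.leaf 0x0)))) (.node 54851 (.node 54849 (.leaf 0xf0b0b0a0a0005) (.node 54850 (.leaf 0x0) (.leaf 0x0))) (.node 54852 (.leaf 0x9000207030802040105000a) (.node 54853 (.leaf 0x0) (.leaf 0xb0f0a0003))))) (.node 54859 (.node 54856 (.node 54855 (.leaf 0x0) (.leaf 0xa0f0002)) (.node 54857 (.leaf 0xd647) (.node 54858 (.leaf 0xa0f0b0003) (.leaf 0x0)))) (.node 54862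 (.node 54860 (.leaf 0xb0001) (.node 54861 (.leaf 0x0) (.leaf 0x0))) (.node 54863 (.leaf 0xa0f0002) (.node 54864 (.leaf 0xd0001) (.leaf 0xd64f))))))

def argWS_4863 : Store := (.node 54876 (.node 54870 (.node 54867 (.node 54866 (.leaf 0xf0b0b0a0a0005) (.leaf 0x0)) (.node 54868 (.leaf 0xb0a0a0003) (.node 54869 (.leaf 0x0) (.leaf 0x0)))) (.node 54873 (.node 54871 (.leaf 0xb0b0a0003) (.node 54872 (.leaf 0x900020804000802040105000b) (.leaf 0x0))) (.node 54874 (.leaf 0xd0001) (.node 54875 (.leaf 0x0) (.leaf 0x60205020604000703040103000c))))) (.node 54882 (.node 54879 (.node 54877 (.leaf 0x0) (.node 54878 (.leaf 0xe0d0002) (.leaf 0x0))) (.node 54880 (.leaf 0xd65e00d65a) (.node 54881 (.leaf 0xb0a0a0003) (.leaf 0x0)))) (.node 54885 (.node 54883 (.leaf 0xd0b0002) (.node 54884 (.leaf 0x0) (.leaf 0x0))) (.node 54886 (.leaf 0xb0b0a0003) (.node 54887 (.leaf 0xf0a0002) (.leaf 0xe0a0a0003))))))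

def argWS_4864 : Store := (.node 54865 argWS_4862 argWS_4863)

def argWS_4865 : Store := (.node 54899 (.node 54893 (.node 54890 (.node 54889 (.leaf 0xd667) (.leaf 0xb0a0a0003)) (.node 54891 (.leaf 0x0) (.node 54892 (.leaf 0xb0b0002) (.leaf 0x0)))) (.node 54896 (.node 54894 (.leaf 0x0) (.node 54895 (.leaf 0xd0001) (.leaf 0xe0a0a0003))) (.node 54897 (.leaf 0xd66f000d71) (.node 54898 (.leaf 0xa0f0b0003) (.leaf 0x0))))) (.node 54904 (.node 54901 (.node 54900 (.leaf 0x0) (.leaf 0xf0001)) (.node 54902 (.leaf 0xf0b0002) (.node 54903 (.leaf 0xf0001) (.leaf 0xd676)))) (.node 54907 (.node 54905 (.leaf 0xb0a0f0003) (.node 54906 (.leaf 0x0) (.leaf 0xb0a0002))) (.node 54908 (.leaf 0x0) (.node 54909 (.leaf 0x0) (.leaf 0xb0a0002))))))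

def argWS_4866 : Store := (.node 54921 (.node 54915 (.node 54912 (.node 54911 (.leaf 0x40003030604000703040103000d) (.leaf 0x0)) (.node 54913 (.leaf 0xb0001) (.node 54914 (.leaf 0x0) (.leaf 0xd51e00d681)))) (.node 54918 (.node 54916 (.leaf 0xf0b0b0003) (.node 54917 (.leaf 0x0) (.leaf 0xb0a0a0003))) (.node 54919 (.leaf 0x0) (.node 54920 (.leaf 0x0) (.leaf 0xb0a0f0003))))) (.node 54927 (.node 54924 (.node 54922 (.leaf 0x602060207020703040103000b) (.node 54923 (.leaf 0x0) (.leaf 0xe0a0a0003))) (.node 54925 (.leaf 0x0) (.node 54926 (.leaf 0xb0a0002) (.leaf 0xd68d00d68c)))) (.node 54930 (.node 54928 (.leaf 0xa0001) (.node 54929 (.leaf 0x0) (.leaf 0xd0b0b0003))) (.node 54931 (.leaf 0x0) (.node 54932 (.leaf 0x0) (.leaf 0xd0b0002))))))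

def argWS_4867 : Store := (.node 54910 argWS_4865 argWS_4866)

def argWS_4868 : Store := (.node 54888 argWS_4864 argWS_4867)

def argWS_4869 : Store := (.node 54944 (.node 54938 (.node 54935 (.node 54934 (.leaf 0x4030406030500040202000701000d) (.leaf 0x0)) (.node 54936 (.leaf 0xa0f0b0b0004) (.node 54937 (.leaf 0x0) (.leaf 0x20500090206020802040105000c)))) (.node 54941 (.node 54939 (.leaf 0x0) (.node 54940 (.leaf 0xd0001) (.leaf 0x0))) (.node 54942 (.leaf 0xd69c00d698) (.node 54943 (.leaf 0xb0b0a0a0004) (.leaf 0x0))))) (.node 54949 (.node 54946 (.node 54945 (.leaf 0xe0d0002) (.leaf 0x0)) (.node 54947 (.leaf 0x0) (.node 54948 (.leaf 0xf0b0b0003) (.leaf 0x701010901090802040105000b)))) (.node 54952 (.node 54950 (.leaf 0x0) (.node 54951 (.leaf 0xe0d0002) (.leaf 0x0))) (.node 54953 (.leaf 0x6010200030306040008) (.node 54954 (.leaf 0x0) (.leaf 0xe0a0a0003))))))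

def argWS_4870 : Store := (.node 54966 (.node 54960 (.node 54957 (.node 54956 (.leaf 0x0) (.leaf 0xd6ab00d6a7)) (.node 54958 (.leaf 0xf0001) (.node 54959 (.leaf 0x0) (.leaf 0xb0001)))) (.node 54963 (.node 54961 (.leaf 0x0) (.node 54962 (.leaf 0x0) (.leaf 0xb0a0f0003))) (.node 54964 (.leaf 0x4000300000202000701000a) (.node 54965 (.leaf 0x0) (.leaf 0xf0b0002))))) (.node 54972 (.node 54969 (.node 54967 (.leaf 0x0) (.node 54968 (.leaf 0xd6b6) (.leaf 0x80000090000090802040105000c))) (.node 54970 (.leaf 0x0) (.node 54971 (.leaf 0xa0f0002) (.leaf 0x0)))) (.node 54975 (.node 54973 (.leaf 0xf0a0a0003) (.node 54974 (.leaf 0x0) (.leaf 0x0))) (.node 54976 (.leaf 0xa0f0002) (.node 54977 (.leaf 0xe0a0a0003) (.leaf 0x10903060207020703040103000c))))))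

def argWS_4871 : Store := (.node 54955 argWS_4869 argWS_4870)

def argWS_4872 : Store := (.node 54989 (.node 54983 (.node 54980 (.node 54979 (.leaf 0x0) (.leaf 0xf0a0002)) (.node 54981 (.leaf 0x0) (.node 54982 (.leaf 0xd6c400d6c0) (.leaf 0xe0001)))) (.node 54986 (.node 54984 (.leaf 0x0) (.node 54985 (.leaf 0x3040103080005) (.leaf 0x0))) (.node 54987 (.leaf 0xb0f0a0a0004) (.node 54988 (.leaf 0xf0b0b0003) (.leaf 0xe0a0002))))) (.node 54994 (.node 54991 (.node 54990 (.leaf 0x90300090806000007) (.leaf 0x0)) (.node 54992 (.leaf 0xa0f0002) (.node 54993 (.leaf 0x0) (.leaf 0xd6d000d6cc)))) (.node 54997 (.node 54995 (.leaf 0xb0a0f0003) (.node 54996 (.leaf 0x0) (.leaf 0xd0001))) (.node 54998 (.leaf 0x0) (.node 54999 (.leaf 0x0) (.leaf 0x20901010908050802040105000c))))))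

def argWS_4873 : Store := (.node 55011 (.node 55005 (.node 55002 (.node 55001 (.leaf 0x0) (.leaf 0x0)) (.node 55003 (.leaf 0x802000400050802040105000b) (.node 55004 (.leaf 0x0) (.leaf 0xf0b0b0a0a0005)))) (.node 55008 (.node 55006 (.leaf 0x0) (.node 55007 (.leaf 0xd6dd) (.leaf 0xb0f0a0a0004))) (.node 55009 (.leaf 0x0) (.node 55010 (.leaf 0xb0a0a0003) (.leaf 0x0))))) (.node 55017 (.node 55014 (.node 55012 (.leaf 0x0) (.node 55013 (.leaf 0xe0001) (.leaf 0x9030901090202000701000a))) (.node 55015 (.leaf 0x0) (.node 55016 (.leaf 0xb0f0002) (.leaf 0x0)))) (.node 55020 (.node 55018 (.leaf 0xb0f0a0a0004) (.node 55019 (.leaf 0xd6e900d6e8) (.leaf 0x200000004080703040103000b))) (.node 55021 (.leaf 0x0) (.node 55022 (.leaf 0xe0001) (.leaf 0x0))))))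

def argWS_4874 : Store := (.node 55000 argWS_4872 argWS_4873)

def argWS_4875 : Store := (.node 54978 argWS_4871 argWS_4874)

def argWS_4876 : Store := (.node 54933 argWS_4868 argWS_4875)

def argWS_4877 : Store := (.node 55034 (.node 55028 (.node 55025 (.node 55024 (.leaf 0xf0a0002) (.leaf 0x0)) (.node 55026 (.leaf 0x0) (.node 55027 (.leaf 0x4020505020202010202000701000d) (.leaf 0x0)))) (.node 55031 (.node 55029 (.leaf 0xe0001) (.node 55030 (.leaf 0x0) (.leaf 0xf0b0b0003))) (.node 55032 (.leaf 0x407000903000703040103000c) (.node 55033 (.leaf 0x0) (.leaf 0xa0f0002))))) (.node 55039 (.node 55036 (.node 55035 (.leaf 0x0) (.leaf 0xd6fa00d6f6)) (.node 55037 (.leaf 0xf0b0b0a0a0005) (.node 55038 (.leaf 0x0) (.leaf 0x206090000090802040105000b)))) (.node 55042 (.node 55040 (.leaf 0x0) (.node 55041 (.leaf 0xa0f0002) (.leaf 0xb0b0002))) (.node 55043 (.leaf 0x90700050206040202000701000c) (.node 55044 (.leaf 0x0) (.leaf 0xb0b0a0003))))))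

def argWS_4878 : Store := (.node 55056 (.node 55050 (.node 55047 (.node 55046 (.leaf 0x0) (.leaf 0xd705)) (.node 55048 (.leaf 0x0) (.node 55049 (.leaf 0xf0b0b0a0004) (.leaf 0x0)))) (.node 55053 (.node 55051 (.leaf 0x0) (.node 55052 (.leaf 0xe0001) (.leaf 0xe0d0002))) (.node 55054 (.leaf 0xa0f0b0b0004) (.node 55055 (.leaf 0xd70d00d70c) (.leaf 0xb0a0a0003))))) (.node 55062 (.node 55059 (.node 55057 (.leaf 0x0) (.node 55058 (.leaf 0xf0a0002) (.leaf 0x0))) (.node 55060 (.leaf 0x0) (.node 55061 (.leaf 0xe0a0a0003) (.leaf 0xb0a0002)))) (.node 55065 (.node 55063 (.leaf 0xd715) (.node 55064 (.leaf 0xb0b0002) (.leaf 0x0))) (.node 55066 (.leaf 0xa0f0002) (.node 55067 (.leaf 0x0) (.leaf 0x0))))))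

def argWS_4879 : Store := (.node 55045 argWS_4877 argWS_4878)

def argWS_4880 : Store := (.node 55079 (.node 55073 (.node 55070 (.node 55069 (.leaf 0x702020900000802040105000c) (.leaf 0x0)) (.node 55071 (.leaf 0xd0001) (.node 55072 (.leaf 0x0) (.leaf 0xd71f)))) (.node 55076 (.node 55074 (.leaf 0xf0b0b0003) (.node 55075 (.leaf 0x0) (.leaf 0x80200070009030802040105000c))) (.node 55077 (.leaf 0x0) (.node 55078 (.leaf 0xf0a0002) (.leaf 0xe0a0a0003))))) (.node 55084 (.node 55081 (.node 55080 (.leaf 0x604000603050004000703040103000e) (.leaf 0x0)) (.node 55082 (.leaf 0xf0001) (.node 55083 (.leaf 0x0) (.leaf 0xe0a0002)))) (.node 55087 (.node 55085 (.leaf 0xd72b00d72a) (.node 55086 (.leaf 0x507030007030401030009) (.leaf 0x0))) (.node 55088 (.leaf 0xe0001) (.node 55089 (.leaf 0x0) (.leaf 0xd0001))))))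

def argWS_4881 : Store := (.node 55101 (.node 55095 (.node 55092 (.node 55091 (.leaf 0x0) (.leaf 0x0)) (.node 55093 (.leaf 0xa0a0002) (.node 55094 (.leaf 0xe0001) (.leaf 0xd735)))) (.node 55098 (.node 55096 (.leaf 0xa0a0002) (.node 55097 (.leaf 0x0) (.leaf 0xe0d0002))) (.node 55099 (.leaf 0x0) (.node 55100 (.leaf 0x0) (.leaf 0xb0b0a0a0004))))) (.node 55107 (.node 55104 (.node 55102 (.leaf 0x1090306010500020802040105000d) (.node 55103 (.leaf 0x0) (.leaf 0xa0f0002))) (.node 55105 (.leaf 0x0) (.node 55106 (.leaf 0x2050206030802040105000a) (.leaf 0x0)))) (.node 55110 (.node 55108 (.leaf 0xf0b0b0a0a0005) (.node 55109 (.leaf 0x0) (.leaf 0xd74400d740))) (.node 55111 (.leaf 0x8000006030500040202000701000d) (.node 55112 (.leaf 0x0) (.leaf 0xf0a0002))))))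

def argWS_4882 : Store := (.node 55090 argWS_4880 argWS_4881)

def argWS_4883 : Store := (.node 55068 argWS_4879 argWS_4882)

def argWS_4884 : Store := (.node 55124 (.node 55118 (.node 55115 (.node 55114 (.leaf 0x0) (.leaf 0xb0a0f0003)) (.node 55116 (.leaf 0x0) (.node 55117 (.leaf 0xf0001) (.leaf 0x40004090806000802040105000c)))) (.node 55121 (.node 55119 (.leaf 0x0) (.node 55120 (.leaf 0xa0f0002) (.leaf 0x0))) (.node 55122 (.leaf 0xb0f0a0003) (.node 55123 (.leaf 0xd75100d750) (.leaf 0xb0b0a0003))))) (.node 55129 (.node 55126 (.node 55125 (.leaf 0x0) (.leaf 0xb0a0a0003)) (.node 55127 (.leaf 0x0) (.node 55128 (.leaf 0x0) (.leaf 0xd0001)))) (.node 55132 (.node 55130 (.leaf 0x1020107000903000703040103000d) (.node 55131 (.leaf 0x0) (.leaf 0xb0b0a0a0004))) (.node 55133 (.leaf 0x0) (.node 55134 (.leaf 0xe0a0a0003) (.leaf 0xd75d00d75c))))))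

def argWS_4885 : Store := (.node 55146 (.node 55140 (.node 55137 (.node 55136 (.leaf 0x103000000030000000703040103000e) (.leaf 0x0)) (.node 55138 (.leaf 0xd0b0002) (.node 55139 (.leaf 0x0) (.leaf 0xb0f0a0003)))) (.node 55143 (.node 55141 (.leaf 0x0) (.node 55142 (.leaf 0x0) (.leaf 0xf0b0a0003))) (.node 55144 (.leaf 0x502010703060202000701000b) (.node 55145 (.leaf 0x0) (.leaf 0xb0b0002))))) (.node 55152 (.node 55149 (.node 55147 (.leaf 0x0) (.node 55148 (.leaf 0x600000206020007010009) (.leaf 0x0))) (.node 55150 (.leaf 0xf0a0002) (.node 55151 (.leaf 0x0) (.leaf 0xd76e00d76a)))) (.node 55155 (.node 55153 (.leaf 0x2040007030401030008) (.node 55154 (.leaf 0x0) (.leaf 0xf0001))) (.node 55156 (.leaf 0x0) (.node 55157 (.leaf 0x0) (.leaf 0xa0a0002))))))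

def argWS_4886 : Store := (.node 55135 argWS_4884 argWS_4885)

def argWS_4887 : Store := (.node 55169 (.node 55163 (.node 55160 (.node 55159 (.leaf 0x60400000408010007) (.leaf 0x0)) (.node 55161 (.leaf 0xb0f0a0003) (.node 55162 (.leaf 0x0) (.leaf 0xd77900240f)))) (.node 55166 (.node 55164 (.leaf 0xe0d0002) (.node 55165 (.leaf 0x0) (.leaf 0x90201090109000703040103000c))) (.node 55167 (.leaf 0x0) (.node 55168 (.leaf 0xf0a0a0003) (.leaf 0x2000202090000000703040103000d))))) (.node 55174 (.node 55171 (.node 55170 (.leaf 0x0) (.leaf 0xd0b0b0003)) (.node 55172 (.leaf 0x0) (.node 55173 (.leaf 0x20003080202000701000a) (.leaf 0x0)))) (.node 55177 (.node 55175 (.leaf 0xe0a0a0003) (.node 55176 (.leaf 0x0) (.leaf 0x304020900000006))) (.node 55178 (.leaf 0x0) (.node 55179 (.leaf 0xb0f0a0a0004) (.leaf 0x0))))))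

def argWS_4888 : Store := (.node 55191 (.node 55185 (.node 55182 (.node 55181 (.leaf 0xd78b00d787) (.leaf 0xa0001)) (.node 55183 (.leaf 0x0) (.node 55184 (.leaf 0x0) (.leaf 0xb0a0002)))) (.node 55188 (.node 55186 (.leaf 0xf0b0a0003) (.node 55187 (.leaf 0x10700020804000007) (.leaf 0x0))) (.node 55189 (.leaf 0xf0b0b0a0004) (.node 55190 (.leaf 0x0) (.leaf 0x60007020600000703040103000d))))) (.node 55197 (.node 55194 (.node 55192 (.leaf 0x0) (.node 55193 (.leaf 0xf0b0a0a0004) (.leaf 0x0))) (.node 55195 (.leaf 0xd79900d795) (.node 55196 (.leaf 0x10102020900000007) (.leaf 0x0)))) (.node 55200 (.node 55198 (.leaf 0xb0001) (.node 55199 (.leaf 0x0) (.leaf 0xf0b0b0a0004))) (.node 55201 (.leaf 0x0) (.node 55202 (.leaf 0x0) (.leaf 0xb0f0a0a0004))))))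

def argWS_4889 : Store := (.node 55180 argWS_4887 argWS_4888)

def argWS_4890 : Store := (.node 55158 argWS_4886 argWS_4889)

def argWS_4891 : Store := (.node 55113 argWS_4883 argWS_4890)

def argWS_4892 : Store := (.node 55023 argWS_4876 argWS_4891)

def argWS_4893 : Store := (.node 55214 (.node 55208 (.node 55205 (.node 55204 (.leaf 0xf0b0a0003) (.leaf 0x4030901090202000701000a)) (.node 55206 (.leaf 0x0) (.node 55207 (.leaf 0x0) (.leaf 0xd7a600d7a3)))) (.node 55211 (.node 55209 (.leaf 0x0) (.node 55210 (.leaf 0xb0b0a0a0004) (.leaf 0x0))) (.node 55212 (.leaf 0xb0b0a0003) (.node 55213 (.leaf 0x0) (.leaf 0x0))))) (.node 55219 (.node 55216 (.node 55215 (.leaf 0xb0a0002) (.leaf 0xb0001)) (.node 55217 (.leaf 0x2080400000703040103000a) (.node 55218 (.leaf 0x0) (.leaf 0xb0001)))) (.node 55222 (.node 55220 (.leaf 0x0) (.node 55221 (.leaf 0xd7b300d7af) (.leaf 0xb0001))) (.node 55223 (.leaf 0x0) (.node 55224 (.leaf 0xf0b0a0a0004) (.leaf 0x0))))))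

def argWS_4894 : Store := (.node 55236 (.node 55230 (.node 55227 (.node 55226 (.leaf 0x0) (.leaf 0xf0b0a0a0004)) (.node 55228 (.leaf 0xb0001) (.node 55229 (.leaf 0xd7bb) (.leaf 0x406040007030401030009)))) (.node 55233 (.node 55231 (.leaf 0x0) (.node 55232 (.leaf 0xb0b0a0a0004) (.leaf 0x0))) (.node 55234 (.leaf 0xb0f0a0003) (.node 55235 (.leaf 0x0) (.leaf 0x0))))) (.node 55242 (.node 55239 (.node 55237 (.leaf 0x90006010500020202000701000c) (.node 55238 (.leaf 0x0) (.leaf 0xb0b0a0003))) (.node 55240 (.leaf 0x0) (.node 55241 (.leaf 0xb0001) (.leaf 0x400020901060802040105000c)))) (.node 55245 (.node 55243 (.leaf 0x0) (.node 55244 (.leaf 0xb0a0002) (.leaf 0x0))) (.node 55246 (.leaf 0xd7cc00d7c8) (.node 55247 (.leaf 0xa0f0b0b0004) (.leaf 0x0))))))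

def argWS_4895 : Store := (.node 55225 argWS_4893 argWS_4894)

def argWS_4896 : Store := (.node 55259 (.node 55253 (.node 55250 (.node 55249 (.leaf 0xe0d0002) (.leaf 0x0)) (.node 55251 (.leaf 0x0) (.node 55252 (.leaf 0xf0b0a0a0004) (.leaf 0x20905020202010007)))) (.node 55256 (.node 55254 (.leaf 0x0) (.node 55255 (.leaf 0xb0b0002) (.leaf 0x0))) (.node 55257 (.leaf 0xd7d7) (.node 55258 (.leaf 0xa0f0b0003) (.leaf 0x0))))) (.node 55264 (.node 55261 (.node 55260 (.leaf 0xa0f0002) (.leaf 0x0)) (.node 55262 (.leaf 0x0) (.node 55263 (.leaf 0xa0001) (.leaf 0xf0b0002)))) (.node 55267 (.node 55265 (.leaf 0xd7df) (.node 55266 (.leaf 0xf0a0a0003) (.leaf 0x0))) (.node 55268 (.leaf 0xf0b0002) (.node 55269 (.leaf 0x0) (.leaf 0x0))))))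

def argWS_4897 : Store := (.node 55281 (.node 55275 (.node 55272 (.node 55271 (.leaf 0xb0001) (.leaf 0xb0b0a0003)) (.node 55273 (.leaf 0xd0001) (.node 55274 (.leaf 0xd7e800d7e7) (.leaf 0xf0b0a0003)))) (.node 55278 (.node 55276 (.leaf 0x0) (.node 55277 (.leaf 0xf0b0a0003) (.leaf 0x0))) (.node 55279 (.leaf 0x0) (.node 55280 (.leaf 0xf0a0a0003) (.leaf 0xf0a0002))))) (.node 55287 (.node 55284 (.node 55282 (.leaf 0xb0001) (.node 55283 (.leaf 0xd7f100d7f0) (.leaf 0xb0f0002))) (.node 55285 (.leaf 0x0) (.node 55286 (.leaf 0xf0a0a0003) (.leaf 0x0)))) (.node 55290 (.node 55288 (.leaf 0x0) (.node 55289 (.leaf 0xa0f0b0b0004) (.leaf 0x7090000090006))) (.node 55291 (.leaf 0x0) (.node 55292 (.leaf 0x0) (.leaf 0xd7fb001537))))))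

def argWS_4898 : Store := (.node 55270 argWS_4896 argWS_4897)

def argWS_4899 : Store := (.node 55248 argWS_4895 argWS_4898)

def argWS_4900 : Store := (.node 55304 (.node 55298 (.node 55295 (.node 55294 (.leaf 0xa0f0b0b0004) (.leaf 0x0)) (.node 55296 (.leaf 0xf0b0002) (.node 55297 (.leaf 0x0) (.leaf 0x0)))) (.node 55301 (.node 55299 (.leaf 0xf0b0b0a0a0005) (.node 55300 (.leaf 0xb0b0a0a0004) (.leaf 0xe0a0a0003))) (.node 55302 (.leaf 0xd80400d803) (.node 55303 (.leaf 0xf0b0a0003) (.leaf 0x0))))) (.node 55309 (.node 55306 (.node 55305 (.leaf 0xe0a0002) (.leaf 0x0)) (.node 55307 (.leaf 0x0) (.node 55308 (.leaf 0xe0a0002) (.leaf 0xb0b0a0a0004)))) (.node 55312 (.node 55310 (.leaf 0xd80c) (.node 55311 (.leaf 0xb0b0a0003) (.leaf 0x0))) (.node 55313 (.leaf 0xa0001) (.node 55314 (.leaf 0x0) (.leaf 0x0))))))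

def argWS_4901 : Store := (.node 55326 (.node 55320 (.node 55317 (.node 55316 (.leaf 0xf0b0b0a0004) (.leaf 0xd0b0002)) (.node 55318 (.leaf 0xb0b0a0a0004) (.node 55319 (.leaf 0xd81500d814) (.leaf 0xb0a0f0003)))) (.node 55323 (.node 55321 (.leaf 0x0) (.node 55322 (.leaf 0xb0f0a0003) (.leaf 0x0))) (.node 55324 (.leaf 0x0) (.node 55325 (.leaf 0x309010908020401050009) (.leaf 0x0))))) (.node 55332 (.node 55329 (.node 55327 (.leaf 0x0) (.node 55328 (.leaf 0x4000603050004000703040103000d) (.leaf 0x0))) (.node 55330 (.leaf 0xf0b0002) (.node 55331 (.leaf 0x0) (.leaf 0x902000300000006)))) (.node 55335 (.node 55333 (.leaf 0x0) (.node 55334 (.leaf 0xb0a0a0003) (.leaf 0x0))) (.node 55336 (.leaf 0xd82600d822) (.node 55337 (.leaf 0xd0b0b0003) (.leaf 0x0))))))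

def argWS_4902 : Store := (.node 55315 argWS_4900 argWS_4901)

def argWS_4903 : Store := (.node 55349 (.node 55343 (.node 55340 (.node 55339 (.leaf 0x801010901090202000701000b) (.leaf 0x0)) (.node 55341 (.leaf 0xb0b0a0a0004) (.node 55342 (.leaf 0x701010901090802040105000b) (.leaf 0x0)))) (.node 55346 (.node 55344 (.leaf 0xb0a0002) (.node 55345 (.leaf 0x0) (.leaf 0xd3c100d830))) (.node 55347 (.leaf 0xe0001) (.node 55348 (.leaf 0x0) (.leaf 0xf0a0a0003))))) (.node 55354 (.node 55351 (.node 55350 (.leaf 0x0) (.leaf 0x0)) (.node 55352 (.leaf 0xf0001) (.node 55353 (.leaf 0xb0f0002) (.leaf 0x2000002000003010802040105000d)))) (.node 55357 (.node 55355 (.leaf 0x0) (.node 55356 (.leaf 0xe0a0a0003) (.leaf 0x0))) (.node 55358 (.leaf 0xd83c00d838) (.node 55359 (.leaf 0xf0b0a0003) (.leaf 0x0))))))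

def argWS_4904 : Store := (.node 55371 (.node 55365 (.node 55362 (.node 55361 (.leaf 0x40003010102000202000701000d) (.leaf 0x0)) (.node 55363 (.leaf 0xa0a0002) (.node 55364 (.leaf 0xd0b0b0003) (.leaf 0xf0b0b0a0a0005)))) (.node 55368 (.node 55366 (.leaf 0xf0a0002) (.node 55367 (.leaf 0xd84500d844) (.leaf 0xa0f0b0b0004))) (.node 55369 (.leaf 0x0) (.node 55370 (.leaf 0xb0b0002) (.leaf 0x0))))) (.node 55377 (.node 55374 (.node 55372 (.leaf 0x0) (.node 55373 (.leaf 0xf0b0b0a0a0005) (.leaf 0x803000901090006))) (.node 55375 (.leaf 0x0) (.node 55376 (.leaf 0xb0f0a0a0004) (.leaf 0x0)))) (.node 55380 (.node 55378 (.leaf 0xd850) (.node 55379 (.leaf 0xf0b0b0a0a0005) (.leaf 0x0))) (.node 55381 (.leaf 0xd0b0b0003) (.node 55382 (.leaf 0x0) (.leaf 0x0))))))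

def argWS_4905 : Store := (.node 55360 argWS_4903 argWS_4904)

def argWS_4906 : Store := (.node 55338 argWS_4902 argWS_4905)

def argWS_4907 : Store := (.node 55293 argWS_4899 argWS_4906)

def argWS_4908 : Store := (.node 55394 (.node 55388 (.node 55385 (.node 55384 (.leaf 0xf0b0b0a0a0005) (.leaf 0xb0a0f0003)) (.node 55386 (.leaf 0xd858) (.node 55387 (.leaf 0x304060207020703040103000b) (.leaf 0x0)))) (.node 55391 (.node 55389 (.leaf 0xd0b0b0003) (.node 55390 (.leaf 0x0) (.leaf 0xf0001))) (.node 55392 (.leaf 0x0) (.node 55393 (.leaf 0x0) (.leaf 0xf0a0a0003))))) (.node 55399 (.node 55396 (.node 55395 (.leaf 0xe0a0a0003) (.leaf 0x403090000090202000701000b)) (.node 55397 (.leaf 0x0) (.node 55398 (.leaf 0xb0001) (.leaf 0x0)))) (.node 55402 (.node 55400 (.leaf 0xd86600d862) (.node 55401 (.leaf 0xe0d0002) (.leaf 0x0))) (.node 55403 (.leaf 0xa0a0002) (.node 55404 (.leaf 0x0) (.leaf 0x0))))))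

def argWS_4909 : Store := (.node 55416 (.node 55410 (.node 55407 (.node 55406 (.leaf 0xe0001) (.leaf 0x606030306040202000701000b)) (.node 55408 (.leaf 0x0) (.node 55409 (.leaf 0xf0001) (.leaf 0x0)))) (.node 55413 (.node 55411 (.leaf 0x103000207030006) (.node 55412 (.leaf 0x0) (.leaf 0xf0a0002))) (.node 55414 (.leaf 0x0) (.node 55415 (.leaf 0xd87500d871) (.leaf 0x7010703060202000701000a))))) (.node 55422 (.node 55419 (.node 55417 (.leaf 0x0) (.node 55418 (.leaf 0xf0b0002) (.leaf 0x0))) (.node 55420 (.leaf 0xb0f0a0a0004) (.node 55421 (.leaf 0x0) (.leaf 0x0)))) (.node 55425 (.node 55423 (.leaf 0xe0a0002) (.node 55424 (.leaf 0xb0b0a0a0004) (.leaf 0xd87f))) (.node 55426 (.leaf 0x9030901090005) (.node 55427 (.leaf 0x0) (.leaf 0xa0f0b0003))))))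

def argWS_4910 : Store := (.node 55405 argWS_4908 argWS_4909)

def argWS_4911 : Store := (.node 55439 (.node 55433 (.node 55430 (.node 55429 (.leaf 0x0) (.leaf 0xf0a0a0003)) (.node 55431 (.leaf 0x0) (.node 55432 (.leaf 0x0) (.leaf 0xf0a0002)))) (.node 55436 (.node 55434 (.leaf 0xb0b0a0a0004) (.node 55435 (.leaf 0xd889) (.leaf 0x50703060004))) (.node 55437 (.leaf 0x0) (.node 55438 (.leaf 0xe0d0002) (.leaf 0x0))))) (.node 55444 (.node 55441 (.node 55440 (.leaf 0xf0a0a0003) (.leaf 0x0)) (.node 55442 (.leaf 0x0) (.node 55443 (.leaf 0x502010901090802040105000b) (.leaf 0x0)))) (.node 55447 (.node 55445 (.leaf 0xd0b0002) (.node 55446 (.leaf 0x0) (.leaf 0xf0b0b0a0004))) (.node 55448 (.leaf 0xd896) (.node 55449 (.leaf 0xf0b0a0a0004) (.leaf 0x0))))))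

def argWS_4912 : Store := (.node 55461 (.node 55455 (.node 55452 (.node 55451 (.leaf 0x906090806000202000701000b) (.leaf 0x0)) (.node 55453 (.leaf 0xd0b0b0003) (.node 55454 (.leaf 0xe0a0a0003) (.leaf 0xf0a0a0003)))) (.node 55458 (.node 55456 (.leaf 0xf0a0002) (.node 55457 (.leaf 0xd89f00d89e) (.leaf 0x0))) (.node 55459 (.leaf 0xb0b0a0a0004) (.node 55460 (.leaf 0x0) (.leaf 0x0))))) (.node 55467 (.node 55464 (.node 55462 (.leaf 0xb0a0a0003) (.node 55463 (.leaf 0xb0a0a0003) (.leaf 0xd8a6))) (.node 55465 (.leaf 0xe0d0002) (.node 55466 (.leaf 0x0) (.leaf 0xf0a0002)))) (.node 55470 (.node 55468 (.leaf 0x0) (.node 55469 (.leaf 0x0) (.leaf 0x60901090802040105000a))) (.node 55471 (.leaf 0x0) (.node 55472 (.leaf 0xa0f0b0003) (.leaf 0x0))))))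

def argWS_4913 : Store := (.node 55450 argWS_4911 argWS_4912)

def argWS_4914 : Store := (.node 55428 argWS_4910 argWS_4913)

def argWS_4915 : Store := (.node 55484 (.node 55478 (.node 55475 (.node 55474 (.leaf 0xd0b0b0003) (.leaf 0x902010401050006)) (.node 55476 (.leaf 0x0) (.node 55477 (.leaf 0xe0a0a0003) (.leaf 0x0)))) (.node 55481 (.node 55479 (.leaf 0xd8b500d8b1) (.node 55480 (.leaf 0xb0b0a0003) (.leaf 0x0))) (.node 55482 (.leaf 0x5020207030005) (.node 55483 (.leaf 0x0) (.leaf 0xb0b0a0003))))) (.node 55489 (.node 55486 (.node 55485 (.leaf 0xd0001) (.leaf 0xf0b0b0003)) (.node 55487 (.leaf 0xb0001) (.node 55488 (.leaf 0xd8be00d8bd) (.leaf 0x8000207030802040105000a)))) (.node 55492 (.node 55490 (.leaf 0x0) (.node 55491 (.leaf 0xd0b0002) (.leaf 0x0))) (.node 55493 (.leaf 0xb0001) (.node 55494 (.leaf 0x0) (.leaf 0x0))))))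

def argWS_4916 : Store := (.node 55506 (.node 55500 (.node 55497 (.node 55496 (.leaf 0xb0a0a0003) (.leaf 0x4090000090005)) (.node 55498 (.leaf 0x0) (.node 55499 (.leaf 0x0) (.leaf 0xf0a0a0003)))) (.node 55503 (.node 55501 (.leaf 0xd8cb00d8ca) (.node 55502 (.leaf 0xf0b0a0003) (.leaf 0x0))) (.node 55504 (.leaf 0x0) (.node 55505 (.leaf 0xf0a0a0003) (.leaf 0xf0b0a0a0004))))) (.node 55512 (.node 55509 (.node 55507 (.leaf 0x90000030000000703040103000c) (.node 55508 (.leaf 0x0) (.leaf 0x0))) (.node 55510 (.leaf 0xd8d400d8d1) (.node 55511 (.leaf 0xb0f0002) (.leaf 0x0)))) (.node 55515 (.node 55513 (.leaf 0xe0a0002) (.node 55514 (.leaf 0x0) (.leaf 0x0))) (.node 55516 (.leaf 0xb0a0002) (.node 55517 (.leaf 0xa0f0b0003) (.leaf 0x60002000003010202000701000c))))))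

def argWS_4917 : Store := (.node 55495 argWS_4915 argWS_4916)

def argWS_4918 : Store := (.node 55529 (.node 55523 (.node 55520 (.node 55519 (.leaf 0x0) (.leaf 0xb0a0f0003)) (.node 55521 (.leaf 0x0) (.node 55522 (.leaf 0xd8e000d8dc) (.leaf 0xf0b0b0a0a0005)))) (.node 55526 (.node 55524 (.leaf 0x0) (.node 55525 (.leaf 0xb0f0a0003) (.leaf 0x0))) (.node 55527 (.leaf 0x0) (.node 55528 (.leaf 0xb0b0a0a0004) (.leaf 0x606030306040006))))) (.node 55535 (.node 55532 (.node 55530 (.leaf 0x0) (.node 55531 (.leaf 0xf0b0b0003) (.leaf 0x0))) (.node 55533 (.leaf 0xd8eb009662) (.node 55534 (.leaf 0xa0f0b0003) (.leaf 0x0)))) (.node 55538 (.node 55536 (.leaf 0xd0b0002) (.node 55537 (.leaf 0x0) (.leaf 0x0))) (.node 55539 (.leaf 0xe0001) (.node 55540 (.leaf 0x2000200030306040008) (.leaf 0x0))))))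

def argWS_4919 : Store := (.node 55552 (.node 55546 (.node 55543 (.node 55542 (.leaf 0xb0f0002) (.leaf 0x0)) (.node 55544 (.leaf 0x60102020106060202000701000c) (.node 55545 (.leaf 0x0) (.leaf 0xd0b0b0003)))) (.node 55549 (.node 55547 (.leaf 0x0) (.node 55548 (.leaf 0xd8fa00d8f6) (.leaf 0xb0b0002))) (.node 55550 (.leaf 0x0) (.node 55551 (.leaf 0xe0001) (.leaf 0x0))))) (.node 55558 (.node 55555 (.node 55553 (.leaf 0x0) (.node 55554 (.leaf 0x8000400050006) (.leaf 0x0))) (.node 55556 (.leaf 0xa0001) (.node 55557 (.leaf 0x0) (.leaf 0x6040003010102000008)))) (.node 55561 (.node 55559 (.leaf 0x0) (.node 55560 (.leaf 0xd0b0b0003) (.leaf 0x0))) (.node 55562 (.leaf 0x60500090206020202000701000c) (.node 55563 (.leaf 0x0) (.leaf 0xe0d0002))))))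

def argWS_4920 : Store := (.node 55541 argWS_4918 argWS_4919)

def argWS_4921 : Store := (.node 55518 argWS_4917 argWS_4920)

def argWS_4922 : Store := (.node 55473 argWS_4914 argWS_4921)

def argWS_4923 : Store := (.node 55383 argWS_4907 argWS_4922)

def argWS_4924 : Store := (.node 55203 argWS_4892 argWS_4923)

def argWS_4925 : Store := (.node 55575 (.node 55569 (.node 55566 (.node 55565 (.leaf 0x0) (.leaf 0xd90c00d908)) (.node 55567 (.leaf 0xb0b0a0003) (.node 55568 (.leaf 0x0) (.leaf 0xa0a0002)))) (.node 55572 (.node 55570 (.leaf 0x0) (.node 55571 (.leaf 0x0) (.leaf 0x30107020600000703040103000c))) (.node 55573 (.leaf 0x0) (.node 55574 (.leaf 0x0) (.leaf 0xd0001))))) (.node 55580 (.node 55577 (.node 55576 (.leaf 0xd916009854) (.leaf 0xa0f0b0003)) (.node 55578 (.leaf 0x0) (.node 55579 (.leaf 0xb0b0a0003) (.leaf 0x0)))) (.node 55583 (.node 55581 (.leaf 0x0) (.node 55582 (.leaf 0xd0001) (.leaf 0xb0b0002))) (.node 55584 (.leaf 0xd91e0028c1) (.node 55585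 (.leaf 0xb0f0a0a0004) (.leaf 0x0))))))

def argWS_4926 : Store := (.node 55597 (.node 55591 (.node 55588 (.node 55587 (.leaf 0x201030003030604000703040103000e) (.leaf 0x0)) (.node 55589 (.leaf 0xf0b0002) (.node 55590 (.leaf 0x20206010500020202000701000c) (.leaf 0x0)))) (.node 55594 (.node 55592 (.leaf 0xb0a0a0003) (.node 55593 (.leaf 0x0) (.leaf 0xe0a0002))) (.node 55595 (.leaf 0xb0a0002) (.node 55596 (.leaf 0xd92a00d929) (.leaf 0xb0a0a0003))))) (.node 55603 (.node 55600 (.node 55598 (.leaf 0x0) (.node 55599 (.leaf 0x5030301010200000703040103000d) (.leaf 0x0))) (.node 55601 (.leaf 0xf0b0b0a0004) (.node 55602 (.leaf 0xa0f0b0003) (.leaf 0x9000206020007010008)))) (.node 55606 (.node 55604 (.leaf 0x0) (.node 55605 (.leaf 0xd0b0002) (.leaf 0x0))) (.node 55607 (.leaf 0xa0f0002) (.node 55608 (.leaf 0xd88300d936) (.leaf 0xb0a0a0003))))))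

def argWS_4927 : Store := (.node 55586 argWS_4925 argWS_4926)

def argWS_4928 : Store := (.node 55620 (.node 55614 (.node 55611 (.node 55610 (.leaf 0x0) (.leaf 0xa0f0b0003)) (.node 55612 (.leaf 0x0) (.node 55613 (.leaf 0x0) (.leaf 0xf0a0002)))) (.node 55617 (.node 55615 (.leaf 0x2040105020202010008) (.node 55616 (.leaf 0x0) (.leaf 0xf0b0002))) (.node 55618 (.leaf 0x0) (.node 55619 (.leaf 0xd9410029f3) (.leaf 0xf0a0002))))) (.node 55625 (.node 55622 (.node 55621 (.leaf 0x0) (.leaf 0xb0b0a0a0004)) (.node 55623 (.leaf 0x0) (.node 55624 (.leaf 0x0) (.leaf 0xb0001)))) (.node 55628 (.node 55626 (.leaf 0x8030003010102000008) (.node 55627 (.leaf 0x0) (.leaf 0xf0b0002))) (.node 55629 (.leaf 0x0) (.node 55630 (.leaf 0x8030005020202010202000701000d) (.leaf 0x0))))))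

def argWS_4929 : Store := (.node 55642 (.node 55636 (.node 55633 (.node 55632 (.leaf 0xf0b0b0a0004) (.leaf 0x0)) (.node 55634 (.leaf 0xd95000d94c) (.node 55635 (.leaf 0xf0a0002) (.leaf 0x0)))) (.node 55639 (.node 55637 (.leaf 0xb0f0a0a0004) (.node 55638 (.leaf 0x0) (.leaf 0x0))) (.node 55640 (.leaf 0x6020105020202010802040105000d) (.node 55641 (.leaf 0x0) (.leaf 0xf0001))))) (.node 55648 (.node 55645 (.node 55643 (.leaf 0x0) (.node 55644 (.leaf 0xd95a) (.leaf 0xf0a0002))) (.node 55646 (.leaf 0x0) (.node 55647 (.leaf 0xe0001) (.leaf 0x0)))) (.node 55651 (.node 55649 (.leaf 0x0) (.node 55650 (.leaf 0x1040901090802040105000a) (.leaf 0x0))) (.node 55652 (.leaf 0xb0b0002) (.node 55653 (.leaf 0x0) (.leaf 0xf0b0a0a0004))))))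

def argWS_4930 : Store := (.node 55631 argWS_4928 argWS_4929)

def argWS_4931 : Store := (.node 55609 argWS_4927 argWS_4930)

def argWS_4932 : Store := (.node 55665 (.node 55659 (.node 55656 (.node 55655 (.leaf 0xb0f0a0a0004) (.leaf 0xd96600d965)) (.node 55657 (.leaf 0xb0f0a0003) (.node 55658 (.leaf 0x0) (.leaf 0xb0a0a0003)))) (.node 55662 (.node 55660 (.leaf 0x0) (.node 55661 (.leaf 0x0) (.leaf 0xa0f0b0b0004))) (.node 55663 (.leaf 0xf0b0002) (.node 55664 (.leaf 0x0) (.leaf 0xd96f00d96d))))) (.node 55670 (.node 55667 (.node 55666 (.leaf 0x3050206040202000701000a) (.leaf 0x0)) (.node 55668 (.leaf 0xb0a0002) (.node 55669 (.leaf 0x0) (.leaf 0xf0b0a0003)))) (.node 55673 (.node 55671 (.leaf 0x0) (.node 55672 (.leaf 0x0) (.leaf 0xd0b0b0003))) (.node 55674 (.leaf 0xb0001) (.node 55675 (.leaf 0xb0001) (.leaf 0xd97a00d979))))))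

def argWS_4933 : Store := (.node 55687 (.node 55681 (.node 55678 (.node 55677 (.leaf 0xf0b0b0a0004) (.leaf 0x0)) (.node 55679 (.leaf 0xa0f0b0003) (.node 55680 (.leaf 0x0) (.leaf 0xf0b0b0a0a0005)))) (.node 55684 (.node 55682 (.leaf 0xf0a0002) (.node 55683 (.leaf 0xd981) (.leaf 0x0))) (.node 55685 (.leaf 0x20403070206000007) (.node 55686 (.leaf 0x0) (.leaf 0xa0f0b0003))))) (.node 55693 (.node 55690 (.node 55688 (.leaf 0xf0b0b0a0004) (.node 55689 (.leaf 0x0) (.leaf 0xa0f0b0b0004))) (.node 55691 (.leaf 0x401070009020007010009) (.node 55692 (.leaf 0x0) (.leaf 0xe0d0002)))) (.node 55696 (.node 55694 (.leaf 0x0) (.node 55695 (.leaf 0x200050202020703040103000b) (.leaf 0x0))) (.node 55697 (.leaf 0xa0f0b0003) (.node 55698 (.leaf 0x0) (.leaf 0xd99100d98d))))))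

def argWS_4934 : Store := (.node 55676 argWS_4932 argWS_4933)

def argWS_4935 : Store := (.node 55710 (.node 55704 (.node 55701 (.node 55700 (.leaf 0xb0b0002) (.leaf 0x0)) (.node 55702 (.leaf 0xe0a0a0003) (.node 55703 (.leaf 0x0) (.leaf 0x0)))) (.node 55707 (.node 55705 (.leaf 0xe0001) (.node 55706 (.leaf 0xf0001) (.leaf 0xa0f0002))) (.node 55708 (.leaf 0xd99a00d999) (.node 55709 (.leaf 0xb0f0a0a0004) (.leaf 0x0))))) (.node 55715 (.node 55712 (.node 55711 (.leaf 0x0) (.leaf 0xb0a0002)) (.node 55713 (.leaf 0x105020004080703040103000b) (.node 55714 (.leaf 0x0) (.leaf 0x0)))) (.node 55718 (.node 55716 (.leaf 0x7000000030306040008) (.node 55717 (.leaf 0x0) (.leaf 0xb0f0a0003))) (.node 55719 (.leaf 0x0) (.node 55720 (.leaf 0xd9a600d9a2) (.leaf 0xb0f0a0a0004))))))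

def argWS_4936 : Store := (.node 55732 (.node 55726 (.node 55723 (.node 55722 (.leaf 0x0) (.leaf 0xd0b0002)) (.node 55724 (.leaf 0x0) (.node 55725 (.leaf 0x0) (.leaf 0xf0a0a0003)))) (.node 55729 (.node 55727 (.leaf 0xe0d0002) (.node 55728 (.leaf 0x5020000000300000802040105000d) (.leaf 0x0))) (.node 55730 (.leaf 0xb0f0002) (.node 55731 (.leaf 0x0) (.leaf 0xd9b200d9ae))))) (.node 55738 (.node 55735 (.node 55733 (.leaf 0xb0001) (.node 55734 (.leaf 0x0) (.leaf 0xb0f0a0a0004))) (.node 55736 (.leaf 0x0) (.node 55737 (.leaf 0x0) (.leaf 0x403010703060006)))) (.node 55741 (.node 55739 (.leaf 0x0) (.node 55740 (.leaf 0xb0b0a0a0004) (.leaf 0x0))) (.node 55742 (.leaf 0xa0f0b0003) (.node 55743 (.leaf 0xd9bd) (.leaf 0xb0a0002))))))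

def argWS_4937 : Store := (.node 55721 argWS_4935 argWS_4936)

def argWS_4938 : Store := (.node 55699 argWS_4934 argWS_4937)

def argWS_4939 : Store := (.node 55654 argWS_4931 argWS_4938)

def argWS_4940 : Store := (.node 55755 (.node 55749 (.node 55746 (.node 55745 (.leaf 0x0) (.leaf 0xb0a0a0003)) (.node 55747 (.leaf 0x0) (.node 55748 (.leaf 0x0) (.leaf 0x20103010904020202000701000c)))) (.node 55752 (.node 55750 (.leaf 0x0) (.node 55751 (.leaf 0xb0001) (.leaf 0x0))) (.node 55753 (.leaf 0xb0b0a0a0004) (.node 55754 (.leaf 0x404070206000202000701000b) (.leaf 0x0))))) (.node 55760 (.node 55757 (.node 55756 (.leaf 0xa0a0002) (.leaf 0x0)) (.node 55758 (.leaf 0xd9cc00d9c8) (.node 55759 (.leaf 0xa0f0b0003) (.leaf 0x0)))) (.node 55763 (.node 55761 (.leaf 0x603010401050006) (.node 55762 (.leaf 0x0) (.leaf 0xf0b0b0a0a0005))) (.node 55764 (.leaf 0xa0f0b0b0004) (.node 55765 (.leaf 0xd0001) (.leaf 0x1020102010606000703040103000d))))))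

def argWS_4941 : Store := (.node 55777 (.node 55771 (.node 55768 (.node 55767 (.leaf 0x0) (.leaf 0xd0001)) (.node 55769 (.leaf 0x0) (.node 55770 (.leaf 0xd9d800d9d4) (.leaf 0x307000206020007010009)))) (.node 55774 (.node 55772 (.leaf 0x0) (.node 55773 (.leaf 0xb0b0a0a0004) (.leaf 0x0))) (.node 55775 (.leaf 0xd0b0002) (.node 55776 (.leaf 0x0) (.leaf 0x0))))) (.node 55783 (.node 55780 (.node 55778 (.leaf 0xb0001) (.node 55779 (.leaf 0xd0001) (.leaf 0xb0b0a0003))) (.node 55781 (.leaf 0xd9e300d9e2) (.node 55782 (.leaf 0x80300000408010202000701000c) (.leaf 0x0)))) (.node 55786 (.node 55784 (.leaf 0xa0f0002) (.node 55785 (.leaf 0x0) (.leaf 0xa0f0b0003))) (.node 55787 (.leaf 0x0) (.node 55788 (.leaf 0x0) (.leaf 0x6090000090202000701000a))))))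

def argWS_4942 : Store := (.node 55766 argWS_4940 argWS_4941)

def argWS_4943 : Store := (.node 55800 (.node 55794 (.node 55791 (.node 55790 (.leaf 0x0) (.leaf 0xe0001)) (.node 55792 (.leaf 0x0) (.node 55793 (.leaf 0x9040900090202000701000a) (.leaf 0x0)))) (.node 55797 (.node 55795 (.leaf 0xb0b0a0003) (.node 55796 (.leaf 0x0) (.leaf 0xd9f300d9ef))) (.node 55798 (.leaf 0x40205010904020202000701000c) (.node 55799 (.leaf 0x0) (.leaf 0xb0f0a0003))))) (.node 55805 (.node 55802 (.node 55801 (.leaf 0x0) (.leaf 0xf0a0002)) (.node 55803 (.leaf 0x0) (.node 55804 (.leaf 0x0) (.leaf 0xb0b0a0003)))) (.node 55808 (.node 55806 (.leaf 0x503010908050202000701000c) (.node 55807 (.leaf 0x0) (.leaf 0xa0a0002))) (.node 55809 (.leaf 0x0) (.node 55810 (.leaf 0xa0f0002) (.leaf 0xda0100da00))))))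

def argWS_4944 : Store := (.node 55822 (.node 55816 (.node 55813 (.node 55812 (.leaf 0xd0b0002) (.leaf 0x0)) (.node 55814 (.leaf 0xf0b0b0a0a0005) (.node 55815 (.leaf 0x0) (.leaf 0x0)))) (.node 55819 (.node 55817 (.leaf 0xb0a0002) (.node 55818 (.leaf 0xf0001) (.leaf 0xf0b0a0003))) (.node 55820 (.leaf 0xda0a00da09) (.node 55821 (.leaf 0xb0a0002) (.leaf 0x0))))) (.node 55828 (.node 55825 (.node 55823 (.leaf 0x905030901090006) (.node 55824 (.leaf 0x0) (.leaf 0xa0f0002))) (.node 55826 (.leaf 0xb0f0a0003) (.node 55827 (.leaf 0x4010703060802040105000a) (.leaf 0x0)))) (.node 55831 (.node 55829 (.leaf 0xd0b0002) (.node 55830 (.leaf 0x0) (.leaf 0xda15))) (.node 55832 (.leaf 0x60501070209020802040105000c) (.node 55833 (.leaf 0x0) (.leaf 0xf0b0002))))))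

def argWS_4945 : Store := (.node 55811 argWS_4943 argWS_4944)

def argWS_4946 : Store := (.node 55789 argWS_4942 argWS_4945)

def argWS_4947 : Store := (.node 55845 (.node 55839 (.node 55836 (.node 55835 (.leaf 0x0) (.leaf 0xd0b0b0003)) (.node 55837 (.leaf 0x0) (.node 55838 (.leaf 0x0) (.leaf 0xa0f0b0b0004)))) (.node 55842 (.node 55840 (.leaf 0x4000406010500020802040105000d) (.node 55841 (.leaf 0x0) (.leaf 0xe0d0002))) (.node 55843 (.leaf 0x0) (.node 55844 (.leaf 0xda22) (.leaf 0xf0a0a0003))))) (.node 55850 (.node 55847 (.node 55846 (.leaf 0x0) (.leaf 0xd0001)) (.node 55848 (.leaf 0x0) (.node 55849 (.leaf 0x0) (.leaf 0x9010606000703040103000a)))) (.node 55853 (.node 55851 (.leaf 0x0) (.node 55852 (.leaf 0xa0f0b0b0004) (.leaf 0x0))) (.node 55854 (.leaf 0xf0b0a0a0004) (.node 55855 (.leaf 0xda2d00da2c) (.leaf 0xf0b0b0a0a0005))))))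

def argWS_4948 : Store := (.node 55867 (.node 55861 (.node 55858 (.node 55857 (.leaf 0x0) (.leaf 0xd0b0002)) (.node 55859 (.leaf 0x0) (.node 55860 (.leaf 0x0) (.leaf 0xf0a0a0003)))) (.node 55864 (.node 55862 (.leaf 0x50200070209020202000701000c) (.node 55863 (.leaf 0x0) (.leaf 0xf0001))) (.node 55865 (.leaf 0x0) (.node 55866 (.leaf 0xda38) (.leaf 0xd0001))))) (.node 55873 (.node 55870 (.node 55868 (.leaf 0x0) (.node 55869 (.leaf 0xa0a0002) (.leaf 0x0))) (.node 55871 (.leaf 0x0) (.node 55872 (.leaf 0x2010908050802040105000b) (.leaf 0x0)))) (.node 55876 (.node 55874 (.leaf 0xa0a0002) (.node 55875 (.leaf 0x0) (.leaf 0x10106020702010802040105000c))) (.node 55877 (.leaf 0x0) (.node 55878 (.leaf 0xb0a0a0003) (.leaf 0x0))))))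

def argWS_4949 : Store := (.node 55856 argWS_4947 argWS_4948)

def argWS_4950 : Store := (.node 55890 (.node 55884 (.node 55881 (.node 55880 (.leaf 0xd8cb00da46) (.leaf 0xb0b0002)) (.node 55882 (.leaf 0x0) (.node 55883 (.leaf 0x0) (.leaf 0xe0a0a0003)))) (.node 55887 (.node 55885 (.leaf 0x9000009000703040103000b) (.node 55886 (.leaf 0x0) (.leaf 0xe0a0a0003))) (.node 55888 (.leaf 0x0) (.node 55889 (.leaf 0x8030006020702010008) (.leaf 0x0))))) (.node 55896 (.node 55893 (.node 55891 (.leaf 0x0) (.node 55892 (.leaf 0xda5200da4f) (.leaf 0xf0b0a0003))) (.node 55894 (.leaf 0x0) (.node 55895 (.leaf 0x2040005000703040103000b) (.leaf 0x0)))) (.node 55899 (.node 55897 (.leaf 0xe0d0002) (.node 55898 (.leaf 0xb0a0f0003) (.leaf 0x90006020702010008))) (.node 55900 (.leaf 0x0) (.node 55901 (.leaf 0xa0a0002) (.leaf 0x0))))))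

def argWS_4951 : Store := (.node 55913 (.node 55907 (.node 55904 (.node 55903 (.leaf 0xda5d000344) (.leaf 0x5020900000202000701000b)) (.node 55905 (.leaf 0x0) (.node 55906 (.leaf 0xa0f0b0003) (.leaf 0x0)))) (.node 55910 (.node 55908 (.leaf 0x0) (.node 55909 (.leaf 0xb0f0a0003) (.leaf 0x30402000003010802040105000c))) (.node 55911 (.leaf 0x0) (.node 55912 (.leaf 0xe0001) (.leaf 0x0))))) (.node 55919 (.node 55916 (.node 55914 (.leaf 0x801030306040202000701000b) (.node 55915 (.leaf 0x0) (.leaf 0xf0b0a0a0004))) (.node 55917 (.leaf 0x0) (.node 55918 (.leaf 0xda6c00da68) (.leaf 0x20906010500020802040105000c)))) (.node 55922 (.node 55920 (.leaf 0x0) (.node 55921 (.leaf 0xf0001) (.leaf 0x0))) (.node 55923 (.leaf 0xb0a0f0003) (.node 55924 (.leaf 0x0) (.leaf 0x0))))))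

def argWS_4952 : Store := (.node 55902 argWS_4950 argWS_4951)

def argWS_4953 : Store := (.node 55879 argWS_4949 argWS_4952)

def argWS_4954 : Store := (.node 55834 argWS_4946 argWS_4953)

def argWS_4955 : Store := (.node 55744 argWS_4939 argWS_4954)

def argWS_4956 : Store := (.node 55936 (.node 55930 (.node 55927 (.node 55926 (.leaf 0xf0b0002) (.leaf 0x502050206040006)) (.node 55928 (.leaf 0x0) (.node 55929 (.leaf 0xd0b0b0003) (.leaf 0x0)))) (.node 55933 (.node 55931 (.leaf 0xf0a0a0003) (.node 55932 (.leaf 0xda7a00da79) (.leaf 0xe0a0a0003))) (.node 55934 (.leaf 0x0) (.node 55935 (.leaf 0xf0b0b0a0a0005) (.leaf 0x0))))) (.node 55941 (.node 55938 (.node 55937 (.leaf 0x0) (.leaf 0xe0a0a0003)) (.node 55939 (.leaf 0xf0001) (.node 55940 (.leaf 0xf0001) (.leaf 0xda8300da82)))) (.node 55944 (.node 55942 (.leaf 0xf0a0002) (.node 55943 (.leaf 0x0) (.leaf 0xd0b0b0003))) (.node 55945 (.leaf 0x0) (.node 55946 (.leaf 0x0) (.leaf 0xa0a0002))))))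

def argWS_4957 : Store := (.node 55958 (.node 55952 (.node 55949 (.node 55948 (.leaf 0xf0b0b0a0004) (.leaf 0xda8b)) (.node 55950 (.leaf 0xd0b0b0003) (.node 55951 (.leaf 0x0) (.leaf 0xe0d0002)))) (.node 55955 (.node 55953 (.leaf 0x0) (.node 55954 (.leaf 0x0) (.leaf 0xf0a0a0003))) (.node 55956 (.leaf 0xb0b0a0a0004) (.node 55957 (.leaf 0x9ac400da93) (.leaf 0x20502090806000007))))) (.node 55964 (.node 55961 (.node 55959 (.leaf 0x0) (.node 55960 (.leaf 0xa0f0b0b0004) (.leaf 0x0))) (.node 55962 (.leaf 0xe0001) (.node 55963 (.leaf 0x0) (.leaf 0x0)))) (.node 55967 (.node 55965 (.leaf 0xf0b0002) (.node 55966 (.leaf 0x4010900090005) (.leaf 0x0))) (.node 55968 (.leaf 0x0) (.node 55969 (.leaf 0xb0f0a0003) (.leaf 0xdaa000da9f))))))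

def argWS_4958 : Store := (.node 55947 argWS_4956 argWS_4957)

def argWS_4959 : Store := (.node 55981 (.node 55975 (.node 55972 (.node 55971 (.leaf 0xf0b0a0a0004) (.leaf 0x0)) (.node 55973 (.leaf 0xb0a0a0003) (.node 55974 (.leaf 0x0) (.leaf 0x0)))) (.node 55978 (.node 55976 (.leaf 0x20702020900000802040105000c) (.node 55977 (.leaf 0x0) (.leaf 0xe0001))) (.node 55979 (.leaf 0x0) (.node 55980 (.leaf 0xf0b0a0003) (.leaf 0xb0001))))) (.node 55986 (.node 55983 (.node 55982 (.leaf 0xdaac00daab) (.leaf 0xb0b0a0a0004)) (.node 55984 (.leaf 0x0) (.node 55985 (.leaf 0xb0b0a0a0004) (.leaf 0x0)))) (.node 55989 (.node 55987 (.leaf 0x0) (.node 55988 (.leaf 0x90601090805000703040103000c) (.leaf 0x0))) (.node 55990 (.leaf 0xe0001) (.node 55991 (.leaf 0x0) (.leaf 0xf0b0a0003))))))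

def argWS_4960 : Store := (.node 56003 (.node 55997 (.node 55994 (.node 55993 (.leaf 0xcedb00dab7) (.leaf 0xb0f0002)) (.node 55995 (.leaf 0x0) (.node 55996 (.leaf 0x9010400030306040202000701000d) (.leaf 0x0)))) (.node 56000 (.node 55998 (.leaf 0xa0001) (.node 55999 (.leaf 0x1020200000300000202000701000d) (.leaf 0x0))) (.node 56001 (.leaf 0xf0b0b0a0a0005) (.node 56002 (.leaf 0x0) (.leaf 0x3070003030604000703040103000d))))) (.node 56009 (.node 56006 (.node 56004 (.leaf 0x0) (.node 56005 (.leaf 0xb0f0a0003) (.leaf 0x0))) (.node 56007 (.leaf 0xdac5) (.node 56008 (.leaf 0xf0a0a0003) (.leaf 0x0)))) (.node 56012 (.node 56010 (.leaf 0xb0b0002) (.node 56011 (.leaf 0x0) (.leaf 0x0))) (.node 56013 (.leaf 0xe0001) (.node 56014 (.leaf 0xf0b0a0003) (.leaf 0xb0a0f0003))))))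

def argWS_4961 : Store := (.node 55992 argWS_4959 argWS_4960)

def argWS_4962 : Store := (.node 55970 argWS_4958 argWS_4961)

def argWS_4963 : Store := (.node 56026 (.node 56020 (.node 56017 (.node 56016 (.leaf 0xdace00dacd) (.leaf 0xf0b0002)) (.node 56018 (.leaf 0x0) (.node 56019 (.leaf 0xe0a0a0003) (.leaf 0x0)))) (.node 56023 (.node 56021 (.leaf 0x0) (.node 56022 (.leaf 0xb0f0002) (.leaf 0xf0001))) (.node 56024 (.leaf 0xdad600a9f2) (.node 56025 (.leaf 0x0) (.leaf 0x602010606000703040103000c))))) (.node 56031 (.node 56028 (.node 56027 (.leaf 0x0) (.leaf 0xe0a0a0003)) (.node 56029 (.leaf 0xb0b0a0a0004) (.node 56030 (.leaf 0x80101020106060007) (.leaf 0x0)))) (.node 56034 (.node 56032 (.leaf 0xd0001) (.node 56033 (.leaf 0x0) (.leaf 0x40006030004))) (.node 56035 (.leaf 0x0) (.node 56036 (.leaf 0x0) (.leaf 0xdae300dae0))))))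

def argWS_4964 : Store := (.node 56048 (.node 56042 (.node 56039 (.node 56038 (.leaf 0xb0a0a0003) (.leaf 0x0)) (.node 56040 (.leaf 0x705070209020802040105000b) (.node 56041 (.leaf 0x0) (.leaf 0xf0b0a0a0004)))) (.node 56045 (.node 56043 (.leaf 0xb0f0a0a0004) (.node 56044 (.leaf 0x0) (.leaf 0x2070207020007010008))) (.node 56046 (.leaf 0x0) (.node 56047 (.leaf 0xb0f0a0a0004) (.leaf 0x0))))) (.node 56054 (.node 56051 (.node 56049 (.leaf 0xe0d0002) (.node 56050 (.leaf 0xdaf0) (.leaf 0xf0b0b0003))) (.node 56052 (.leaf 0x0) (.node 56053 (.leaf 0x204030306040202000701000b) (.leaf 0x0)))) (.node 56057 (.node 56055 (.leaf 0xa0f0002) (.node 56056 (.leaf 0x304090806000006) (.leaf 0x0))) (.node 56058 (.leaf 0xf0a0a0003) (.node 56059 (.leaf 0x0) (.leaf 0x704020000030703040103000b))))))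

def argWS_4965 : Store := (.node 56037 argWS_4963 argWS_4964)

def argWS_4966 : Store := (.node 56071 (.node 56065 (.node 56062 (.node 56061 (.leaf 0x0) (.leaf 0xf0b0a0a0004)) (.node 56063 (.leaf 0x0) (.node 56064 (.leaf 0xdafe009d70) (.leaf 0xb0f0002)))) (.node 56068 (.node 56066 (.leaf 0x0) (.node 56067 (.leaf 0x40000090206020802040105000c) (.leaf 0x0))) (.node 56069 (.leaf 0xb0001) (.node 56070 (.leaf 0xb0a0a0003) (.leaf 0x400020804000802040105000c))))) (.node 56076 (.node 56073 (.node 56072 (.leaf 0x0) (.leaf 0xf0b0a0003)) (.node 56074 (.leaf 0x0) (.node 56075 (.leaf 0xf0b0a0a0004) (.leaf 0xdb0a00db09)))) (.node 56079 (.node 56077 (.leaf 0x1050206030500040008) (.node 56078 (.leaf 0x0) (.leaf 0xd0001))) (.node 56080 (.leaf 0x0) (.node 56081 (.leaf 0xb0f0a0003) (.leaf 0x0))))))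

def argWS_4967 : Store := (.node 56093 (.node 56087 (.node 56084 (.node 56083 (.leaf 0x0) (.leaf 0xe0a0a0003)) (.node 56085 (.leaf 0x500020106060006) (.node 56086 (.leaf 0x0) (.leaf 0xb0b0a0003)))) (.node 56090 (.node 56088 (.leaf 0x0) (.node 56089 (.leaf 0x400020804000202000701000c) (.leaf 0x0))) (.node 56091 (.leaf 0xa0f0b0b0004) (.node 56092 (.leaf 0x0) (.leaf 0xdb1b00db17))))) (.node 56099 (.node 56096 (.node 56094 (.leaf 0xf0b0002) (.node 56095 (.leaf 0x0) (.leaf 0xa0a0002))) (.node 56097 (.leaf 0x0) (.node 56098 (.leaf 0x0) (.leaf 0xb0b0002)))) (.node 56102 (.node 56100 (.leaf 0x40106020702010007) (.node 56101 (.leaf 0x0) (.leaf 0xb0f0002))) (.node 56103 (.leaf 0x0) (.node 56104 (.leaf 0x800000004080703040103000b) (.leaf 0x0))))))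

def argWS_4968 : Store := (.node 56082 argWS_4966 argWS_4967)

def argWS_4969 : Store := (.node 56060 argWS_4965 argWS_4968)

def argWS_4970 : Store := (.node 56015 argWS_4962 argWS_4969)

def argWS_4971 : Store := (.node 56116 (.node 56110 (.node 56107 (.node 56106 (.leaf 0xe0001) (.leaf 0x0)) (.node 56108 (.leaf 0xdb2a00db26) (.node 56109 (.leaf 0x7090206020005) (.leaf 0x0)))) (.node 56113 (.node 56111 (.leaf 0xf0b0b0003) (.node 56112 (.leaf 0x0) (.leaf 0xf0b0b0a0a0005))) (.node 56114 (.leaf 0x0) (.node 56115 (.leaf 0x0) (.leaf 0xf0b0a0a0004))))) (.node 56121 (.node 56118 (.node 56117 (.leaf 0x3040106010500020802040105000d) (.leaf 0x0)) (.node 56119 (.leaf 0xb0a0a0003) (.node 56120 (.leaf 0x0) (.leaf 0xdb37)))) (.node 56124 (.node 56122 (.leaf 0xe0a0a0003) (.node 56123 (.leaf 0x0) (.leaf 0x400070009030006))) (.node 56125 (.leaf 0x0) (.node 56126 (.leaf 0xf0b0b0a0004) (.leaf 0xf0b0b0003))))))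

def argWS_4972 : Store := (.node 56138 (.node 56132 (.node 56129 (.node 56128 (.leaf 0x906050206040006) (.leaf 0x0)) (.node 56130 (.leaf 0xa0a0002) (.node 56131 (.leaf 0x0) (.leaf 0xdb42)))) (.node 56135 (.node 56133 (.leaf 0x4030703060802040105000a) (.node 56134 (.leaf 0x0) (.leaf 0xa0f0b0b0004))) (.node 56136 (.leaf 0x0) (.node 56137 (.leaf 0xb0a0a0003) (.leaf 0x0))))) (.node 56144 (.node 56141 (.node 56139 (.leaf 0x0) (.node 56140 (.leaf 0xa0001) (.leaf 0xb0a0f0003))) (.node 56142 (.leaf 0x403070206000202000701000b) (.node 56143 (.leaf 0x0) (.leaf 0xa0f0002)))) (.node 56147 (.node 56145 (.leaf 0x0) (.node 56146 (.leaf 0xdb5000db4c) (.leaf 0xa0f0002))) (.node 56148 (.leaf 0x0) (.node 56149 (.leaf 0xe0a0a0003) (.leaf 0x0))))))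

def argWS_4973 : Store := (.node 56127 argWS_4971 argWS_4972)

def argWS_4974 : Store := (.node 56161 (.node 56155 (.node 56152 (.node 56151 (.leaf 0x0) (.leaf 0xa0001)) (.node 56153 (.leaf 0xa0f0002) (.node 56154 (.leaf 0xb0f0a0003) (.leaf 0xdb5900db58)))) (.node 56158 (.node 56156 (.leaf 0xe0d0002) (.node 56157 (.leaf 0x0) (.leaf 0xf0b0002))) (.node 56159 (.leaf 0x0) (.node 56160 (.leaf 0x0) (.leaf 0x10703060004))))) (.node 56166 (.node 56163 (.node 56162 (.leaf 0x0) (.leaf 0xd0b0002)) (.node 56164 (.leaf 0x0) (.node 56165 (.leaf 0xa0f0b0003) (.leaf 0xdb64)))) (.node 56169 (.node 56167 (.leaf 0xd0b0002) (.node 56168 (.leaf 0x0) (.leaf 0x60206020702010802040105000c))) (.node 56170 (.leaf 0x0) (.node 56171 (.leaf 0xe0d0002) (.leaf 0xb0f0a0003))))))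

def argWS_4975 : Store := (.node 56183 (.node 56177 (.node 56174 (.node 56173 (.leaf 0x102020106060802040105000b) (.leaf 0x0)) (.node 56175 (.leaf 0xe0a0002) (.node 56176 (.leaf 0x0) (.leaf 0xdb6f008009)))) (.node 56180 (.node 56178 (.leaf 0xb0a0002) (.node 56179 (.leaf 0x0) (.leaf 0xf0b0b0a0a0005))) (.node 56181 (.leaf 0x0) (.node 56182 (.leaf 0x0) (.leaf 0xb0f0002))))) (.node 56189 (.node 56186 (.node 56184 (.leaf 0x5020804000202000701000a) (.node 56185 (.leaf 0x0) (.leaf 0xd0b0002))) (.node 56187 (.leaf 0x0) (.node 56188 (.leaf 0xf0001) (.leaf 0xdb7b00db7a)))) (.node 56192 (.node 56190 (.leaf 0xf0001) (.node 56191 (.leaf 0x0) (.leaf 0xd0b0b0003))) (.node 56193 (.leaf 0x0) (.node 56194 (.leaf 0x0) (.leaf 0xb0a0f0003))))))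

def argWS_4976 : Store := (.node 56172 argWS_4974 argWS_4975)

def argWS_4977 : Store := (.node 56150 argWS_4973 argWS_4976)

def argWS_4978 : Store := (.node 56206 (.node 56200 (.node 56197 (.node 56196 (.leaf 0x6020102020900000802040105000d) (.leaf 0x0)) (.node 56198 (.leaf 0xf0b0b0a0004) (.node 56199 (.leaf 0x0) (.leaf 0x20502010908050007)))) (.node 56203 (.node 56201 (.leaf 0x0) (.node 56202 (.leaf 0xa0001) (.leaf 0x0))) (.node 56204 (.leaf 0xdb8a00db86) (.node 56205 (.leaf 0x2010300090206020802040105000d) (.leaf 0x0))))) (.node 56211 (.node 56208 (.node 56207 (.leaf 0xb0a0002) (.leaf 0x0)) (.node 56209 (.leaf 0xb0b0002) (.node 56210 (.leaf 0x0) (.leaf 0x0)))) (.node 56214 (.node 56212 (.leaf 0xb0a0a0003) (.node 56213 (.leaf 0xf0b0b0a0004) (.leaf 0x50009020602000703040103000c))) (.node 56215 (.leaf 0x0) (.node 56216 (.leaf 0xf0a0a0003) (.leaf 0x0))))))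

def argWS_4979 : Store := (.node 56228 (.node 56222 (.node 56219 (.node 56218 (.leaf 0xdb9800db94) (.leaf 0xd0b0b0003)) (.node 56220 (.leaf 0x0) (.node 56221 (.leaf 0x301020703000703040103000b) (.leaf 0x0)))) (.node 56225 (.node 56223 (.leaf 0xf0b0a0003) (.node 56224 (.leaf 0xa0001) (.leaf 0x50201010904020202000701000c))) (.node 56226 (.leaf 0x0) (.node 56227 (.leaf 0xb0f0002) (.leaf 0x0))))) (.node 56234 (.node 56231 (.node 56229 (.leaf 0xdba3) (.node 56230 (.leaf 0xb0a0f0003) (.leaf 0x0))) (.node 56232 (.leaf 0xe0a0a0003) (.node 56233 (.leaf 0x0) (.leaf 0x0)))) (.node 56237 (.node 56235 (.leaf 0xb0a0a0003) (.node 56236 (.leaf 0x307070206000006) (.leaf 0x0))) (.node 56238 (.leaf 0x0) (.node 56239 (.leaf 0xdbad) (.leaf 0x40004090000090802040105000c))))))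

def argWS_4980 : Store := (.node 56217 argWS_4978 argWS_4979)

def argWS_4981 : Store := (.node 56251 (.node 56245 (.node 56242 (.node 56241 (.leaf 0x0) (.leaf 0xa0a0002)) (.node 56243 (.leaf 0x0) (.node 56244 (.leaf 0xd0001) (.leaf 0x0)))) (.node 56248 (.node 56246 (.leaf 0x0) (.node 56247 (.leaf 0x503000408010007) (.leaf 0x0))) (.node 56249 (.leaf 0xe0001) (.node 56250 (.leaf 0x0) (.leaf 0x901050206040802040105000b))))) (.node 56257 (.node 56254 (.node 56252 (.leaf 0x0) (.node 56253 (.leaf 0xa0001) (.leaf 0x0))) (.node 56255 (.leaf 0xe0a0002) (.node 56256 (.leaf 0xdbbe00dbbd) (.leaf 0xf0b0b0a0a0005)))) (.node 56260 (.node 56258 (.leaf 0x0) (.node 56259 (.leaf 0x6010201070206000802040105000d) (.leaf 0x0))) (.node 56261 (.leaf 0xf0b0a0a0004) (.node 56262 (.leaf 0xb0f0002) (.leaf 0x20107020007010007))))))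

def argWS_4982 : Store := (.node 56274 (.node 56268 (.node 56265 (.node 56264 (.leaf 0x0) (.leaf 0xd0b0002)) (.node 56266 (.leaf 0x0) (.node 56267 (.leaf 0xa0f0b0b0004) (.leaf 0xdbca00dbc9)))) (.node 56271 (.node 56269 (.leaf 0x20200030306040802040105000c) (.node 56270 (.leaf 0x0) (.leaf 0xe0d0002))) (.node 56272 (.leaf 0x0) (.node 56273 (.leaf 0xf0b0002) (.leaf 0x0))))) (.node 56280 (.node 56277 (.node 56275 (.leaf 0x0) (.node 56276 (.leaf 0xb0001) (.leaf 0x3010904020202000701000a))) (.node 56278 (.leaf 0x0) (.node 56279 (.leaf 0x0) (.leaf 0xdbd600dbd3)))) (.node 56283 (.node 56281 (.leaf 0xb0b0a0003) (.node 56282 (.leaf 0x0) (.leaf 0xe0001))) (.node 56284 (.leaf 0x0) (.node 56285 (.leaf 0x0) (.leaf 0x600020901060007))))))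

def argWS_4983 : Store := (.node 56263 argWS_4981 argWS_4982)

def argWS_4984 : Store := (.node 56240 argWS_4980 argWS_4983)

def argWS_4985 : Store := (.node 56195 argWS_4977 argWS_4984)

def argWS_4986 : Store := (.node 56105 argWS_4970 argWS_4985)

def argWS_4987 : Store := (.node 55925 argWS_4955 argWS_4986)

def argWS_4988 : Store := (.node 55564 argWS_4924 argWS_4987)

def argWS_4989 : Store := (.node 56297 (.node 56291 (.node 56288 (.node 56287 (.leaf 0x0) (.leaf 0xb0001)) (.node 56289 (.leaf 0x0) (.node 56290 (.leaf 0x80500060207020703040103000c) (.leaf 0x0)))) (.node 56294 (.node 56292 (.leaf 0x0) (.node 56293 (.leaf 0xda8c00dbe3) (.leaf 0xd0b0b0003))) (.node 56295 (.leaf 0x0) (.node 56296 (.leaf 0x502020106060202000701000b) (.leaf 0x0))))) (.node 56302 (.node 56299 (.node 56298 (.leaf 0xb0b0a0003) (.leaf 0xb0b0a0a0004)) (.node 56300 (.leaf 0xa0f0b0003) (.node 56301 (.leaf 0xd0b0b0003) (.leaf 0xdbec00dbeb)))) (.node 56305 (.node 56303 (.leaf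 0x209070206000006) (.node 56304 (.leaf 0x0) (.leaf 0xe0a0002))) (.node 56306 (.leaf 0x0) (.node 56307 (.leaf 0xf0b0b0003) (.leaf 0x0))))))

def argWS_4990 : Store := (.node 56319 (.node 56313 (.node 56310 (.node 56309 (.leaf 0x0) (.leaf 0xf0a0a0003)) (.node 56311 (.leaf 0x1070003030604000703040103000d) (.node 56312 (.leaf 0x0) (.leaf 0xf0a0002)))) (.node 56316 (.node 56314 (.leaf 0x0) (.node 56315 (.leaf 0xdbf9) (.leaf 0x40107020902000703040103000c))) (.node 56317 (.leaf 0x0) (.node 56318 (.leaf 0xa0f0b0003) (.leaf 0x0))))) (.node 56325 (.node 56322 (.node 56320 (.leaf 0xb0a0a0003) (.node 56321 (.leaf 0x0) (.leaf 0x0))) (.node 56323 (.leaf 0xf0b0a0003) (.node 56324 (.leaf 0x2040108020401050008) (.leaf 0x0)))) (.node 56328 (.node 56326 (.leaf 0xf0b0b0a0a0005) (.node 56327 (.leaf 0x0) (.leaf 0xf0b0b0a0004))) (.node 56329 (.leaf 0xdc0700dc06) (.node 56330 (.leaf 0xf0b0a0003) (.leaf 0x0))))))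

def argWS_4991 : Store := (.node 56308 argWS_4989 argWS_4990)

def argWS_4992 : Store := (.node 56342 (.node 56336 (.node 56333 (.node 56332 (.leaf 0xb0a0f0003) (.leaf 0x0)) (.node 56334 (.leaf 0x0) (.node 56335 (.leaf 0x1090402000703040103000a) (.leaf 0x0)))) (.node 56339 (.node 56337 (.leaf 0xe0d0002) (.node 56338 (.leaf 0x0) (.leaf 0xb0a0a0003))) (.node 56340 (.leaf 0xdc1200dc11) (.node 56341 (.leaf 0xf0001) (.leaf 0x0))))) (.node 56347 (.node 56344 (.node 56343 (.leaf 0xe0a0a0003) (.leaf 0x0)) (.node 56345 (.leaf 0x0) (.node 56346 (.leaf 0x104010908050006) (.leaf 0x0)))) (.node 56350 (.node 56348 (.leaf 0xe0d0002) (.node 56349 (.leaf 0x0) (.leaf 0xf0a0002))) (.node 56351 (.leaf 0xdc1d) (.node 56352 (.leaf 0xb0a0f0003) (.leaf 0x0))))))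

def argWS_4993 : Store := (.node 56364 (.node 56358 (.node 56355 (.node 56354 (.leaf 0x20403070209020007) (.leaf 0x0)) (.node 56356 (.leaf 0xa0f0b0b0004) (.node 56357 (.leaf 0xf0001) (.leaf 0xe0a0002)))) (.node 56361 (.node 56359 (.leaf 0xdc25) (.node 56360 (.leaf 0x8020000020804000008) (.leaf 0x0))) (.node 56362 (.leaf 0xf0a0002) (.node 56363 (.leaf 0x0) (.leaf 0xa0f0b0b0004))))) (.node 56370 (.node 56367 (.node 56365 (.leaf 0x0) (.node 56366 (.leaf 0x0) (.leaf 0xf0001))) (.node 56368 (.leaf 0x2040408010202000701000a) (.node 56369 (.leaf 0x0) (.leaf 0xf0a0002)))) (.node 56373 (.node 56371 (.leaf 0x0) (.node 56372 (.leaf 0x70009030006) (.leaf 0x0))) (.node 56374 (.leaf 0xe0d0002) (.node 56375 (.leaf 0x0) (.leaf 0xdc3600dc32))))))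

def argWS_4994 : Store := (.node 56353 argWS_4992 argWS_4993)

def argWS_4995 : Store := (.node 56331 argWS_4991 argWS_4994)

def argWS_4996 : Store := (.node 56387 (.node 56381 (.node 56378 (.node 56377 (.leaf 0x70103080004) (.leaf 0x0)) (.node 56379 (.leaf 0xe0a0a0003) (.node 56380 (.leaf 0x0) (.leaf 0xf0b0a0a0004)))) (.node 56384 (.node 56382 (.leaf 0x0) (.node 56383 (.leaf 0x0) (.leaf 0xe0d0002))) (.node 56385 (.leaf 0xf0b0002) (.node 56386 (.leaf 0xdc40) (.leaf 0xa0f0b0003))))) (.node 56392 (.node 56389 (.node 56388 (.leaf 0x0) (.leaf 0xb0b0a0a0004)) (.node 56390 (.leaf 0x0) (.node 56391 (.leaf 0x0) (.leaf 0xe0a0a0003)))) (.node 56395 (.node 56393 (.leaf 0x2040307020600000703040103000d) (.node 56394 (.leaf 0x0) (.leaf 0xe0a0002))) (.node 56396 (.leaf 0x0) (.node 56397 (.leaf 0xdc4b) (.leaf 0xf0001))))))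

def argWS_4997 : Store := (.node 56409 (.node 56403 (.node 56400 (.node 56399 (.leaf 0x0) (.leaf 0xb0b0a0a0004)) (.node 56401 (.leaf 0x0) (.node 56402 (.leaf 0x0) (.leaf 0x8000000020804000202000701000d)))) (.node 56406 (.node 56404 (.leaf 0x0) (.node 56405 (.leaf 0xd0b0b0003) (.leaf 0x0))) (.node 56407 (.leaf 0xd0b0b0003) (.node 56408 (.leaf 0xdc56) (.leaf 0xe0a0a0003))))) (.node 56415 (.node 56412 (.node 56410 (.leaf 0x0) (.node 56411 (.leaf 0x2000002020900000008) (.leaf 0x0))) (.node 56413 (.leaf 0x4020508020401050008) (.node 56414 (.leaf 0x0) (.leaf 0xb0a0002)))) (.node 56418 (.node 56416 (.leaf 0x0) (.node 56417 (.leaf 0x90402000003010802040105000c) (.leaf 0x0))) (.node 56419 (.leaf 0xa0f0b0003) (.node 56420 (.leaf 0x0) (.leaf 0xb0f0a0003))))))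

def argWS_4998 : Store := (.node 56398 argWS_4996 argWS_4997)

def argWS_4999 : Store := (.node 56432 (.node 56426 (.node 56423 (.node 56422 (.leaf 0xdc6400dc63) (.leaf 0xe0d0002)) (.node 56424 (.leaf 0x0) (.node 56425 (.leaf 0x0) (.leaf 0x40002000003010802040105000d)))) (.node 56429 (.node 56427 (.leaf 0x0) (.node 56428 (.leaf 0xd0001) (.leaf 0x0))) (.node 56430 (.leaf 0xf0b0a0003) (.node 56431 (.leaf 0xd0b0b0003) (.leaf 0xdc6e00dc6d))))) (.node 56437 (.node 56434 (.node 56433 (.leaf 0xb0b0a0a0004) (.leaf 0x0)) (.node 56435 (.leaf 0xa0a0002) (.node 56436 (.leaf 0x0) (.leaf 0xf0001)))) (.node 56440 (.node 56438 (.leaf 0xb0001) (.node 56439 (.leaf 0xa0f0b0b0004) (.leaf 0xdc7600dc75))) (.node 56441 (.leaf 0xb0b0a0a0004) (.node 56442 (.leaf 0x0) (.leaf 0x5020207030005))))))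

def argWS_5000 : Store := (.node 56454 (.node 56448 (.node 56445 (.node 56444 (.leaf 0x0) (.leaf 0xf0a0002)) (.node 56446 (.leaf 0x8010103080202000701000a) (.node 56447 (.leaf 0x0) (.leaf 0xf0b0b0a0004)))) (.node 56451 (.node 56449 (.leaf 0x0) (.node 56450 (.leaf 0x2000202000003010202000701000d) (.leaf 0x0))) (.node 56452 (.leaf 0xf0b0b0a0a0005) (.node 56453 (.leaf 0x0) (.leaf 0xdc8400dc80))))) (.node 56460 (.node 56457 (.node 56455 (.leaf 0x0) (.node 56456 (.leaf 0xa0001) (.leaf 0x0))) (.node 56458 (.leaf 0xe0001) (.node 56459 (.leaf 0x0) (.leaf 0x0)))) (.node 56463 (.node 56461 (.leaf 0x90702000003010802040105000c) (.node 56462 (.leaf 0x0) (.leaf 0xd0b0002))) (.node 56464 (.leaf 0x0) (.node 56465 (.leaf 0xd0b0002) (.leaf 0xdc9000dc8f))))))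

def argWS_5001 : Store := (.node 56443 argWS_4999 argWS_5000)

def argWS_5002 : Store := (.node 56421 argWS_4998 argWS_5001)

def argWS_5003 : Store := (.node 56376 argWS_4995 argWS_5002)

def argWS_5004 : Store := (.node 56477 (.node 56471 (.node 56468 (.node 56467 (.leaf 0xb0a0f0003) (.leaf 0x0)) (.node 56469 (.leaf 0xd0b0b0003) (.node 56470 (.leaf 0x0) (.leaf 0x0)))) (.node 56474 (.node 56472 (.leaf 0xb0f0a0003) (.node 56473 (.leaf 0xa0f0b0003) (.leaf 0xdc9800adff))) (.node 56475 (.leaf 0xf0b0b0a0a0005) (.node 56476 (.leaf 0x0) (.leaf 0xf0a0002))))) (.node 56482 (.node 56479 (.node 56478 (.leaf 0x0) (.leaf 0x0)) (.node 56480 (.leaf 0x60201010908050202000701000c) (.node 56481 (.leaf 0x0) (.leaf 0xa0001)))) (.node 56485 (.node 56483 (.leaf 0x0) (.node 56484 (.leaf 0x1090007030401030008) (.leaf 0x0))) (.node 56486 (.leaf 0xf0a0a0003) (.node 56487 (.leaf 0x0) (.leaf 0x60601050002000703040103000d))))))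

def argWS_5005 : Store := (.node 56499 (.node 56493 (.node 56490 (.node 56489 (.leaf 0x0) (.leaf 0xa0a0002)) (.node 56491 (.leaf 0x0) (.node 56492 (.leaf 0xdcaa00dca6) (.leaf 0xf0a0002)))) (.node 56496 (.node 56494 (.leaf 0x0) (.node 56495 (.leaf 0x201090007030401030009) (.leaf 0x0))) (.node 56497 (.leaf 0xb0001) (.node 56498 (.leaf 0xb0b0002) (.leaf 0xa0f0002))))) (.node 56505 (.node 56502 (.node 56500 (.leaf 0xdcb2) (.node 56501 (.leaf 0xb0b0002) (.leaf 0x0))) (.node 56503 (.leaf 0xa0f0b0b0004) (.node 56504 (.leaf 0x0) (.leaf 0x0)))) (.node 56508 (.node 56506 (.leaf 0xf0b0a0a0004) (.node 56507 (.leaf 0xb0a0f0003) (.leaf 0xe0a0002))) (.node 56509 (.leaf 0xdcbb00dcba) (.node 56510 (.leaf 0x9020106020702010008) (.leaf 0x0))))))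

def argWS_5006 : Store := (.node 56488 argWS_5004 argWS_5005)

def argWS_5007 : Store := (.node 56522 (.node 56516 (.node 56513 (.node 56512 (.leaf 0xe0d0002) (.leaf 0x0)) (.node 56514 (.leaf 0xe0001) (.node 56515 (.leaf 0x0) (.leaf 0x0)))) (.node 56519 (.node 56517 (.leaf 0xe0d0002) (.node 56518 (.leaf 0xc5c5) (.leaf 0x20202090806000007))) (.node 56520 (.leaf 0x0) (.node 56521 (.leaf 0xb0a0a0003) (.leaf 0x0))))) (.node 56527 (.node 56524 (.node 56523 (.leaf 0xb0a0f0003) (.leaf 0x0)) (.node 56525 (.leaf 0x0) (.node 56526 (.leaf 0xf0b0a0a0004) (.leaf 0xdccd)))) (.node 56530 (.node 56528 (.leaf 0x901050002000703040103000b) (.node 56529 (.leaf 0x0) (.leaf 0xb0b0002))) (.node 56531 (.leaf 0x0) (.node 56532 (.leaf 0xb0b0002) (.leaf 0x0))))))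

def argWS_5008 : Store := (.node 56544 (.node 56538 (.node 56535 (.node 56534 (.leaf 0xb0f0002) (.leaf 0x20902000003010802040105000c)) (.node 56536 (.leaf 0x0) (.node 56537 (.leaf 0x0) (.leaf 0x7000601050002000703040103000d)))) (.node 56541 (.node 56539 (.leaf 0x0) (.node 56540 (.leaf 0xa0f0002) (.leaf 0x0))) (.node 56542 (.leaf 0xdcdc00dcd8) (.node 56543 (.leaf 0x201070306000703040103000b) (.leaf 0x0))))) (.node 56550 (.node 56547 (.node 56545 (.leaf 0xe0001) (.node 56546 (.leaf 0x0) (.leaf 0xa0f0002))) (.node 56548 (.leaf 0x0) (.node 56549 (.leaf 0x0) (.leaf 0xb0b0a0a0004)))) (.node 56553 (.node 56551 (.leaf 0xd0001) (.node 56552 (.leaf 0xdce6) (.leaf 0xe0a0002))) (.node 56554 (.leaf 0x0) (.node 56555 (.leaf 0xd0b0b0003) (.leaf 0x0))))))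

def argWS_5009 : Store := (.node 56533 argWS_5007 argWS_5008)

def argWS_5010 : Store := (.node 56511 argWS_5006 argWS_5009)

def argWS_5011 : Store := (.node 56567 (.node 56561 (.node 56558 (.node 56557 (.leaf 0x0) (.leaf 0xb0a0002)) (.node 56559 (.leaf 0x602010908050202000701000b) (.node 56560 (.leaf 0x0) (.leaf 0xb0001)))) (.node 56564 (.node 56562 (.leaf 0x0) (.node 56563 (.leaf 0xdcf1) (.leaf 0xe0001))) (.node 56565 (.leaf 0x0) (.node 56566 (.leaf 0xf0b0a0a0004) (.leaf 0x0))))) (.node 56572 (.node 56569 (.node 56568 (.leaf 0x0) (.leaf 0xa0f0b0003)) (.node 56570 (.leaf 0x4df3) (.node 56571 (.leaf 0xb0f0002) (.leaf 0x0)))) (.node 56575 (.node 56573 (.leaf 0xb0a0002) (.node 56574 (.leaf 0x0) (.leaf 0x0))) (.node 56576 (.leaf 0x204010603050004000703040103000e) (.node 56577 (.leaf 0x0) (.leaf 0xd0b0b0003))))))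

def argWS_5012 : Store := (.node 56589 (.node 56583 (.node 56580 (.node 56579 (.leaf 0x0) (.leaf 0xf0b0002)) (.node 56581 (.leaf 0x0) (.node 56582 (.leaf 0xdd04) (.leaf 0xb0f0a0003)))) (.node 56586 (.node 56584 (.leaf 0x0) (.node 56585 (.leaf 0x4020502020900000802040105000d) (.leaf 0x0))) (.node 56587 (.leaf 0xa0f0b0b0004) (.node 56588 (.leaf 0xb0a0f0003) (.leaf 0xd0b0002))))) (.node 56595 (.node 56592 (.node 56590 (.leaf 0xa0f0b0003) (.node 56591 (.leaf 0xdd0d00dd0c) (.leaf 0xb0a0f0003))) (.node 56593 (.leaf 0x0) (.node 56594 (.leaf 0x4000508020401050008) (.leaf 0x0)))) (.node 56598 (.node 56596 (.leaf 0xe0001) (.node 56597 (.leaf 0xf0a0a0003) (.leaf 0x30500040802040105000a))) (.node 56599 (.leaf 0x0) (.node 56600 (.leaf 0xe0a0a0003) (.leaf 0x0))))))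

def argWS_5013 : Store := (.node 56578 argWS_5011 argWS_5012)

def argWS_5014 : Store := (.node 56612 (.node 56606 (.node 56603 (.node 56602 (.leaf 0xdd18) (.leaf 0xb0f0002)) (.node 56604 (.leaf 0x0) (.node 56605 (.leaf 0xf0b0b0003) (.leaf 0x0)))) (.node 56609 (.node 56607 (.leaf 0x0) (.node 56608 (.leaf 0xa0a0002) (.leaf 0x2010902020007010008))) (.node 56610 (.leaf 0x0) (.node 56611 (.leaf 0x0) (.leaf 0x6020702010202000701000a))))) (.node 56618 (.node 56615 (.node 56613 (.leaf 0x0) (.node 56614 (.leaf 0x0) (.leaf 0xdd2500dd22))) (.node 56616 (.leaf 0x209020900000802040105000b) (.node 56617 (.leaf 0x0) (.leaf 0xa0001)))) (.node 56621 (.node 56619 (.leaf 0x0) (.node 56620 (.leaf 0xa0f0b0003) (.leaf 0x0))) (.node 56622 (.leaf 0x0) (.node 56623 (.leaf 0x20403010102000802040105000c) (.leaf 0x0))))))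

def argWS_5015 : Store := (.node 56635 (.node 56629 (.node 56626 (.node 56625 (.leaf 0xe0a0a0003) (.leaf 0x0)) (.node 56627 (.leaf 0xa0001) (.node 56628 (.leaf 0x102010308000703040103000b) (.leaf 0x0)))) (.node 56632 (.node 56630 (.leaf 0xd0b0002) (.node 56631 (.leaf 0x0) (.leaf 0xdd3600dd32))) (.node 56633 (.leaf 0xd0001) (.node 56634 (.leaf 0x0) (.leaf 0xb0b0002))))) (.node 56641 (.node 56638 (.node 56636 (.leaf 0x0) (.node 56637 (.leaf 0x0) (.leaf 0xb0b0a0003))) (.node 56639 (.leaf 0xf0a0002) (.node 56640 (.leaf 0xb0b0002) (.leaf 0xdd3f00dd3e)))) (.node 56644 (.node 56642 (.leaf 0xf0a0a0003) (.node 56643 (.leaf 0x0) (.leaf 0xf0a0002))) (.node 56645 (.leaf 0x0) (.node 56646 (.leaf 0x0) (.leaf 0xb0001))))))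

def argWS_5016 : Store := (.node 56624 argWS_5014 argWS_5015)

def argWS_5017 : Store := (.node 56601 argWS_5013 argWS_5016)

def argWS_5018 : Store := (.node 56556 argWS_5010 argWS_5017)

def argWS_5019 : Store := (.node 56466 argWS_5003 argWS_5018)

def argWS_5020 : Store := (.node 56658 (.node 56652 (.node 56649 (.node 56648 (.leaf 0xb0f0a0003) (.leaf 0xd0001)) (.node 56650 (.leaf 0xdd4800dd47) (.node 56651 (.leaf 0xb0a0a0003) (.leaf 0x0)))) (.node 56655 (.node 56653 (.leaf 0xe0a0002) (.node 56654 (.leaf 0x0) (.leaf 0x0))) (.node 56656 (.leaf 0x2020007000902000701000a) (.node 56657 (.leaf 0x0) (.leaf 0xb0b0a0a0004))))) (.node 56663 (.node 56660 (.node 56659 (.leaf 0x0) (.leaf 0x503070206000006)) (.node 56661 (.leaf 0x0) (.node 56662 (.leaf 0xd0001) (.leaf 0x0)))) (.node 56666 (.node 56664 (.leaf 0xdd56) (.node 56665 (.leaf 0xe0001) (.leaf 0x0))) (.node 56667 (.leaf 0x20702010005) (.node 56668 (.leaf 0x0) (.leaf 0xa0f0b0b0004))))))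

def argWS_5021 : Store := (.node 56680 (.node 56674 (.node 56671 (.node 56670 (.leaf 0xd0b0002) (.leaf 0xa0f0b0003)) (.node 56672 (.leaf 0xe0d0002) (.node 56673 (.leaf 0xdd5f00dd5e) (.leaf 0xb0b0a0a0004)))) (.node 56677 (.node 56675 (.leaf 0x0) (.node 56676 (.leaf 0xb0a0002) (.leaf 0x0))) (.node 56678 (.leaf 0x0) (.node 56679 (.leaf 0xa0f0b0b0004) (.leaf 0xd0b0002))))) (.node 56686 (.node 56683 (.node 56681 (.leaf 0x400030901090202000701000b) (.node 56682 (.leaf 0x0) (.leaf 0xb0b0a0003))) (.node 56684 (.leaf 0x0) (.node 56685 (.leaf 0xdd6b00dd67) (.leaf 0xb0a0a0003)))) (.node 56689 (.node 56687 (.leaf 0x0) (.node 56688 (.leaf 0xf0b0b0a0004) (.leaf 0x0))) (.node 56690 (.leaf 0x0) (.node 56691 (.leaf 0xb0b0a0003) (.leaf 0x70000030306040202000701000c))))))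

def argWS_5022 : Store := (.node 56669 argWS_5020 argWS_5021)

def argWS_5023 : Store := (.node 56703 (.node 56697 (.node 56694 (.node 56693 (.leaf 0x0) (.leaf 0xb0b0a0003)) (.node 56695 (.leaf 0x0) (.node 56696 (.leaf 0xa0f0b0003) (.leaf 0xdd7700dd76)))) (.node 56700 (.node 56698 (.leaf 0x503050308000703040103000b) (.node 56699 (.leaf 0x0) (.leaf 0xb0f0a0a0004))) (.node 56701 (.leaf 0x0) (.node 56702 (.leaf 0xa0f0b0003) (.leaf 0x0))))) (.node 56708 (.node 56705 (.node 56704 (.leaf 0x0) (.leaf 0xf0b0a0a0004)) (.node 56706 (.leaf 0x20401020106060007) (.node 56707 (.leaf 0x0) (.leaf 0xb0a0a0003)))) (.node 56711 (.node 56709 (.leaf 0x0) (.node 56710 (.leaf 0xdd84) (.leaf 0xf0b0b0003))) (.node 56712 (.leaf 0x0) (.node 56713 (.leaf 0xb0a0002) (.leaf 0x0))))))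

def argWS_5024 : Store := (.node 56725 (.node 56719 (.node 56716 (.node 56715 (.leaf 0x0) (.leaf 0xb0a0f0003)) (.node 56717 (.leaf 0xd0001) (.node 56718 (.leaf 0xdd8c) (.leaf 0xe0a0a0003)))) (.node 56722 (.node 56720 (.leaf 0x0) (.node 56721 (.leaf 0xa0f0b0b0004) (.leaf 0x0))) (.node 56723 (.leaf 0x0) (.node 56724 (.leaf 0x20005020202010008) (.leaf 0x0))))) (.node 56731 (.node 56728 (.node 56726 (.leaf 0xe0a0002) (.node 56727 (.leaf 0x0) (.leaf 0xb0f0a0003))) (.node 56729 (.leaf 0xdd9700dd96) (.node 56730 (.leaf 0xe0a0002) (.leaf 0x0)))) (.node 56734 (.node 56732 (.leaf 0x5010703060802040105000a) (.node 56733 (.leaf 0x0) (.leaf 0xe0d0002))) (.node 56735 (.leaf 0xa0001) (.node 56736 (.leaf 0xb0a0002) (.leaf 0xb0001))))))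

def argWS_5025 : Store := (.node 56714 argWS_5023 argWS_5024)

def argWS_5026 : Store := (.node 56692 argWS_5022 argWS_5025)

def argWS_5027 : Store := (.node 56748 (.node 56742 (.node 56739 (.node 56738 (.leaf 0x509080508020401050009) (.leaf 0x0)) (.node 56740 (.leaf 0xd0001) (.node 56741 (.leaf 0x0) (.leaf 0xdda400dda0)))) (.node 56745 (.node 56743 (.leaf 0x30700060207020703040103000c) (.node 56744 (.leaf 0x0) (.leaf 0xf0b0b0003))) (.node 56746 (.leaf 0x0) (.node 56747 (.leaf 0xf0b0a0003) (.leaf 0x0))))) (.node 56753 (.node 56750 (.node 56749 (.leaf 0x0) (.leaf 0xf0a0a0003)) (.node 56751 (.leaf 0xb0a0f0003) (.node 56752 (.leaf 0xa0a0002) (.leaf 0xddaf00ddae)))) (.node 56756 (.node 56754 (.leaf 0xb0b0002) (.node 56755 (.leaf 0x0) (.leaf 0xb0b0a0003))) (.node 56757 (.leaf 0x0) (.node 56758 (.leaf 0x0) (.leaf 0x3070206000005))))))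

def argWS_5028 : Store := (.node 56770 (.node 56764 (.node 56761 (.node 56760 (.leaf 0x0) (.leaf 0x0)) (.node 56762 (.leaf 0xddb8) (.node 56763 (.leaf 0xd0b0002) (.leaf 0x0)))) (.node 56767 (.node 56765 (.leaf 0x0) (.node 56766 (.leaf 0xe0a0a0003) (.leaf 0xb0f0a0003))) (.node 56768 (.leaf 0x0) (.node 56769 (.leaf 0xd0b0b0003) (.leaf 0xddc000ddbf))))) (.node 56776 (.node 56773 (.node 56771 (.leaf 0xf0a0a0003) (.node 56772 (.leaf 0x0) (.leaf 0x8000407020902000703040103000d))) (.node 56774 (.leaf 0x0) (.node 56775 (.leaf 0xa0001) (.leaf 0xb0a0f0003)))) (.node 56779 (.node 56777 (.leaf 0xa0a0002) (.node 56778 (.leaf 0x90602020007010007) (.leaf 0x0))) (.node 56780 (.leaf 0xe0a0002) (.node 56781 (.leaf 0x0) (.leaf 0xddcc00ddc8))))))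

def argWS_5029 : Store := (.node 56759 argWS_5027 argWS_5028)

def argWS_5030 : Store := (.node 56793 (.node 56787 (.node 56784 (.node 56783 (.leaf 0x60200050206040202000701000c) (.leaf 0x0)) (.node 56785 (.leaf 0xa0f0b0b0004) (.node 56786 (.leaf 0x0) (.leaf 0xe0001)))) (.node 56790 (.node 56788 (.leaf 0x0) (.node 56789 (.leaf 0x0) (.leaf 0xf0b0a0003))) (.node 56791 (.leaf 0x600070206000802040105000b) (.node 56792 (.leaf 0x0) (.leaf 0xb0b0a0003))))) (.node 56798 (.node 56795 (.node 56794 (.leaf 0x0) (.leaf 0x8000207030802040105000a)) (.node 56796 (.leaf 0x0) (.node 56797 (.leaf 0xd0b0002) (.leaf 0x0)))) (.node 56801 (.node 56799 (.leaf 0xdddd00ddd9) (.node 56800 (.leaf 0xa0f0b0003) (.leaf 0x0))) (.node 56802 (.leaf 0xa0001) (.node 56803 (.leaf 0x0) (.leaf 0x0))))))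

def argWS_5031 : Store := (.node 56815 (.node 56809 (.node 56806 (.node 56805 (.leaf 0xf0b0a0003) (.leaf 0x602010904020202000701000b)) (.node 56807 (.leaf 0x0) (.node 56808 (.leaf 0xb0001) (.leaf 0x0)))) (.node 56812 (.node 56810 (.leaf 0xdde800118a) (.node 56811 (.leaf 0xa0f0b0003) (.leaf 0x0))) (.node 56813 (.leaf 0xb0b0a0a0004) (.node 56814 (.leaf 0x0) (.leaf 0x0))))) (.node 56821 (.node 56818 (.node 56816 (.leaf 0xb0b0002) (.node 56817 (.leaf 0xf0001) (.leaf 0xa0f0b0b0004))) (.node 56819 (.leaf 0xddf100ddf0) (.node 56820 (.leaf 0xb0b0a0003) (.leaf 0x0)))) (.node 56824 (.node 56822 (.leaf 0xd0b0b0003) (.node 56823 (.leaf 0x0) (.leaf 0x0))) (.node 56825 (.leaf 0xf0a0002) (.node 56826 (.leaf 0x70502090106000703040103000c) (.leaf 0x0))))))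

def argWS_5032 : Store := (.node 56804 argWS_5030 argWS_5031)

def argWS_5033 : Store := (.node 56782 argWS_5029 argWS_5032)

def argWS_5034 : Store := (.node 56737 argWS_5026 argWS_5033)

def argWS_5035 : Store := (.node 56838 (.node 56832 (.node 56829 (.node 56828 (.leaf 0xb0001) (.leaf 0x0)) (.node 56830 (.leaf 0xddfc007c5d) (.node 56831 (.leaf 0xf0b0b0a0a0005) (.leaf 0x0)))) (.node 56835 (.node 56833 (.leaf 0xf0b0a0003) (.node 56834 (.leaf 0x0) (.leaf 0x0))) (.node 56836 (.leaf 0xa0f0b0b0004) (.node 56837 (.leaf 0x701010904020802040105000b) (.leaf 0x0))))) (.node 56843 (.node 56840 (.node 56839 (.leaf 0xf0b0a0a0004) (.leaf 0x0)) (.node 56841 (.leaf 0x70401050005) (.node 56842 (.leaf 0x0) (.leaf 0xa0f0002)))) (.node 56846 (.node 56844 (.leaf 0x0) (.node 56845 (.leaf 0xde0b00de07) (.leaf 0xf0b0002))) (.node 56847 (.leaf 0x0) (.node 56848 (.leaf 0xd0b0002) (.leaf 0x0))))))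

def argWS_5036 : Store := (.node 56860 (.node 56854 (.node 56851 (.node 56850 (.leaf 0x0) (.leaf 0xf0b0002)) (.node 56852 (.leaf 0xe0001) (.node 56853 (.leaf 0x906000408010202000701000b) (.leaf 0x0)))) (.node 56857 (.node 56855 (.leaf 0xf0b0b0003) (.node 56856 (.leaf 0x0) (.leaf 0xde1700de13))) (.node 56858 (.leaf 0xa0a0002) (.node 56859 (.leaf 0x0) (.leaf 0xe0a0002))))) (.node 56866 (.node 56863 (.node 56861 (.leaf 0x0) (.node 56862 (.leaf 0x0) (.leaf 0xf0a0002))) (.node 56864 (.leaf 0x9020106060005) (.node 56865 (.leaf 0x0) (.leaf 0xb0f0a0a0004)))) (.node 56869 (.node 56867 (.leaf 0x0) (.node 56868 (.leaf 0xf0b0a0a0004) (.leaf 0xde2300de22))) (.node 56870 (.leaf 0xf0b0a0a0004) (.node 56871 (.leaf 0x0) (.leaf 0xd0b0002))))))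

def argWS_5037 : Store := (.node 56849 argWS_5035 argWS_5036)

def argWS_5038 : Store := (.node 56883 (.node 56877 (.node 56874 (.node 56873 (.leaf 0x0) (.leaf 0x0)) (.node 56875 (.leaf 0x600060207020703040103000c) (.node 56876 (.leaf 0x0) (.leaf 0xf0b0b0003)))) (.node 56880 (.node 56878 (.leaf 0x0) (.node 56879 (.leaf 0x8000000030306040008) (.leaf 0x0))) (.node 56881 (.leaf 0x0) (.node 56882 (.leaf 0xb0f0a0003) (.leaf 0xde3100de30))))) (.node 56888 (.node 56885 (.node 56884 (.leaf 0xe0a0002) (.leaf 0x0)) (.node 56886 (.leaf 0x0) (.node 56887 (.leaf 0x107000900090202000701000b) (.leaf 0x0)))) (.node 56891 (.node 56889 (.leaf 0xb0b0002) (.node 56890 (.leaf 0x0) (.leaf 0xf0b0a0a0004))) (.node 56892 (.leaf 0xa0001) (.node 56893 (.leaf 0xde3b00de3a) (.leaf 0xb0b0002))))))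

def argWS_5039 : Store := (.node 56905 (.node 56899 (.node 56896 (.node 56895 (.leaf 0x0) (.leaf 0x6010201020901060008)) (.node 56897 (.leaf 0x0) (.node 56898 (.leaf 0xb0a0a0003) (.leaf 0xb0b0a0003)))) (.node 56902 (.node 56900 (.leaf 0xd0b0b0003) (.node 56901 (.leaf 0xde4300de42) (.leaf 0xf0b0a0a0004))) (.node 56903 (.leaf 0x0) (.node 56904 (.leaf 0xd0001) (.leaf 0x0))))) (.node 56911 (.node 56908 (.node 56906 (.leaf 0x0) (.node 56907 (.leaf 0x602010904020202000701000b) (.leaf 0x0))) (.node 56909 (.leaf 0xb0a0002) (.node 56910 (.leaf 0x0) (.leaf 0xde4d)))) (.node 56914 (.node 56912 (.leaf 0xb0b0a0003) (.node 56913 (.leaf 0x0) (.leaf 0x200020901060202000701000c))) (.node 56915 (.leaf 0x0) (.node 56916 (.leaf 0xb0a0002) (.leaf 0x502010908050202000701000b))))))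

def argWS_5040 : Store := (.node 56894 argWS_5038 argWS_5039)

def argWS_5041 : Store := (.node 56872 argWS_5037 argWS_5040)

def argWS_5042 : Store := (.node 56928 (.node 56922 (.node 56919 (.node 56918 (.leaf 0x0) (.leaf 0xd0001)) (.node 56920 (.leaf 0x0) (.node 56921 (.leaf 0xb0f0002) (.leaf 0xd63600de58)))) (.node 56925 (.node 56923 (.leaf 0xf0b0b0003) (.node 56924 (.leaf 0x0) (.leaf 0xf0a0002))) (.node 56926 (.leaf 0x0) (.node 56927 (.leaf 0x0) (.leaf 0xf0b0a0003))))) (.node 56933 (.node 56930 (.node 56929 (.leaf 0x50202020007010007) (.leaf 0x0)) (.node 56931 (.leaf 0xf0a0a0003) (.node 56932 (.leaf 0x0) (.leaf 0xde63)))) (.node 56936 (.node 56934 (.leaf 0x404010908050202000701000b) (.node 56935 (.leaf 0x0) (.leaf 0xa0a0002))) (.node 56937 (.leaf 0x0) (.node 56938 (.leaf 0x0) (.leaf 0xe0a0a0003))))))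

def argWS_5043 : Store := (.node 56950 (.node 56944 (.node 56941 (.node 56940 (.leaf 0xb0a0f0003) (.leaf 0xde6b)) (.node 56942 (.leaf 0xa0f0002) (.node 56943 (.leaf 0x0) (.leaf 0x0)))) (.node 56947 (.node 56945 (.leaf 0x9010406030500040008) (.node 56946 (.leaf 0x0) (.leaf 0xa0f0b0b0004))) (.node 56948 (.leaf 0x0) (.node 56949 (.leaf 0x9060000030000000703040103000d) (.leaf 0x0))))) (.node 56956 (.node 56953 (.node 56951 (.leaf 0x0) (.node 56952 (.leaf 0xde76) (.leaf 0xf0b0b0003))) (.node 56954 (.leaf 0x0) (.node 56955 (.leaf 0x304090206020202000701000b) (.leaf 0x0)))) (.node 56959 (.node 56957 (.leaf 0xe0a0002) (.node 56958 (.leaf 0xb0f0a0a0004) (.leaf 0xd0b0002))) (.node 56960 (.leaf 0xde7e00d515) (.node 56961 (.leaf 0xa0001) (.leaf 0x0))))))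

def argWS_5044 : Store := (.node 56939 argWS_5042 argWS_5043)

def argWS_5045 : Store := (.node 56973 (.node 56967 (.node 56964 (.node 56963 (.leaf 0xf0a0002) (.leaf 0x0)) (.node 56965 (.leaf 0x0) (.node 56966 (.leaf 0xb0b0002) (.leaf 0x6010201010703060008)))) (.node 56970 (.node 56968 (.leaf 0x0) (.node 56969 (.leaf 0xa0001) (.leaf 0x0))) (.node 56971 (.leaf 0xde8900448a) (.node 56972 (.leaf 0xb0a0f0003) (.leaf 0x0))))) (.node 56979 (.node 56976 (.node 56974 (.leaf 0xb0001) (.node 56975 (.leaf 0x0) (.leaf 0x0))) (.node 56977 (.leaf 0xa0f0b0b0004) (.node 56978 (.leaf 0x102010703060802040105000b) (.leaf 0x0)))) (.node 56982 (.node 56980 (.leaf 0xb0f0a0003) (.node 56981 (.leaf 0x0) (.leaf 0x47f800de94))) (.node 56983 (.leaf 0x60102090109000703040103000c) (.node 56984 (.leaf 0x0) (.leaf 0xf0a0002))))))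

def argWS_5046 : Store := (.node 56996 (.node 56990 (.node 56987 (.node 56986 (.leaf 0x0) (.leaf 0xb0b0a0a0004)) (.node 56988 (.leaf 0x0) (.node 56989 (.leaf 0x0) (.leaf 0xa0a0002)))) (.node 56993 (.node 56991 (.leaf 0x1090301090805000703040103000d) (.node 56992 (.leaf 0x0) (.leaf 0xe0a0002))) (.node 56994 (.leaf 0x0) (.node 56995 (.leaf 0xdea100c91b) (.leaf 0xf0001))))) (.node 57002 (.node 56999 (.node 56997 (.leaf 0x0) (.node 56998 (.leaf 0x2090303010102000202000701000d) (.leaf 0x0))) (.node 57000 (.leaf 0xb0001) (.node 57001 (.leaf 0xa0f0b0b0004) (.leaf 0x600020603000703040103000b)))) (.node 57005 (.node 57003 (.leaf 0x0) (.node 57004 (.leaf 0x0) (.leaf 0xdeab00dea8))) (.node 57006 (.leaf 0x0) (.node 57007 (.leaf 0x60006020702010802040105000d) (.leaf 0x0))))))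

def argWS_5047 : Store := (.node 56985 argWS_5045 argWS_5046)

def argWS_5048 : Store := (.node 56962 argWS_5044 argWS_5047)

def argWS_5049 : Store := (.node 56917 argWS_5041 argWS_5048)

def argWS_5050 : Store := (.node 56827 argWS_5034 argWS_5049)

def argWS_5051 : Store := (.node 56647 argWS_5019 argWS_5050)

def argWS_5052 : Store := (.node 57019 (.node 57013 (.node 57010 (.node 57009 (.leaf 0xb0f0a0a0004) (.leaf 0xa0f0b0b0004)) (.node 57011 (.leaf 0xb0b0002) (.node 57012 (.leaf 0x200000002080400000703040103000e) (.leaf 0x0)))) (.node 57016 (.node 57014 (.leaf 0xe0a0a0003) (.node 57015 (.leaf 0x0) (.leaf 0xdeb600deb2))) (.node 57017 (.leaf 0x90600000300000802040105000c) (.node 57018 (.leaf 0x0) (.leaf 0xe0a0002))))) (.node 57024 (.node 57021 (.node 57020 (.leaf 0x0) (.leaf 0xf0001)) (.node 57022 (.leaf 0x0) (.node 57023 (.leaf 0x0) (.leaf 0xb0b0a0003)))) (.node 57027 (.node 57025 (.leaf 0x2090408010202000701000a) (.node 57026 (.leaf 0x0) (.leaf 0xa0f0b0003)))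 (.node 57028 (.leaf 0x0) (.node 57029 (.leaf 0x303090806000802040105000b) (.leaf 0x0))))))

def argWS_5053 : Store := (.node 57041 (.node 57035 (.node 57032 (.node 57031 (.leaf 0xf0b0a0003) (.leaf 0x0)) (.node 57033 (.leaf 0xdec700dec3) (.node 57034 (.leaf 0xd0001) (.leaf 0x0)))) (.node 57038 (.node 57036 (.leaf 0xa0f0b0b0004) (.node 57037 (.leaf 0x0) (.leaf 0x0))) (.node 57039 (.leaf 0xf0001) (.node 57040 (.leaf 0xa60e) (.leaf 0x10402000003010202000701000c))))) (.node 57047 (.node 57044 (.node 57042 (.leaf 0x0) (.node 57043 (.leaf 0xf0b0b0003) (.leaf 0x0))) (.node 57045 (.leaf 0xf0b0002) (.node 57046 (.leaf 0x0) (.leaf 0x0)))) (.node 57050 (.node 57048 (.leaf 0x20505020604000703040103000c) (.node 57049 (.leaf 0x0) (.leaf 0xe0001))) (.node 57051 (.leaf 0x0) (.node 57052 (.leaf 0xb0001) (.leaf 0xa0a0002))))))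

def argWS_5054 : Store := (.node 57030 argWS_5052 argWS_5053)

def argWS_5055 : Store := (.node 57064 (.node 57058 (.node 57055 (.node 57054 (.leaf 0xdedc00dedb) (.leaf 0xb0f0a0a0004)) (.node 57056 (.leaf 0x0) (.node 57057 (.leaf 0xb0a0002) (.leaf 0x0)))) (.node 57061 (.node 57059 (.leaf 0x0) (.node 57060 (.leaf 0xb0f0a0a0004) (.leaf 0x80004090000090802040105000c))) (.node 57062 (.leaf 0x0) (.node 57063 (.leaf 0xf0a0002) (.leaf 0x0))))) (.node 57069 (.node 57066 (.node 57065 (.leaf 0xdee7) (.leaf 0xf0a0002)) (.node 57067 (.leaf 0x0) (.node 57068 (.leaf 0xf0b0002) (.leaf 0x0)))) (.node 57072 (.node 57070 (.leaf 0x0) (.node 57071 (.leaf 0xa0f0002) (.leaf 0x7030500030306040008))) (.node 57073 (.leaf 0x0) (.node 57074 (.leaf 0x0) (.leaf 0x3000207030005))))))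

def argWS_5056 : Store := (.node 57086 (.node 57080 (.node 57077 (.node 57076 (.leaf 0x0) (.leaf 0xb0001)) (.node 57078 (.leaf 0x0) (.node 57079 (.leaf 0xdef500def1) (.leaf 0xb0b0a0003)))) (.node 57083 (.node 57081 (.leaf 0x0) (.node 57082 (.leaf 0xe0a0002) (.leaf 0x0))) (.node 57084 (.leaf 0xd0b0b0003) (.node 57085 (.leaf 0xb0a0f0003) (.leaf 0x101010703060202000701000b))))) (.node 57092 (.node 57089 (.node 57087 (.leaf 0x0) (.node 57088 (.leaf 0xb0001) (.leaf 0x0))) (.node 57090 (.leaf 0xdf0000defc) (.node 57091 (.leaf 0xe0d0002) (.leaf 0x0)))) (.node 57095 (.node 57093 (.leaf 0xf0b0a0003) (.node 57094 (.leaf 0x0) (.leaf 0x0))) (.node 57096 (.leaf 0xe0d0002) (.node 57097 (.leaf 0x70003030604000703040103000c) (.leaf 0x0))))))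

def argWS_5057 : Store := (.node 57075 argWS_5055 argWS_5056)

def argWS_5058 : Store := (.node 57053 argWS_5054 argWS_5057)

def argWS_5059 : Store := (.node 57109 (.node 57103 (.node 57100 (.node 57099 (.leaf 0xd0b0b0003) (.leaf 0x0)) (.node 57101 (.leaf 0xdf0b008a3b) (.node 57102 (.leaf 0x903010904020006) (.leaf 0x0)))) (.node 57106 (.node 57104 (.leaf 0xf0a0002) (.node 57105 (.leaf 0x0) (.leaf 0xb0b0a0a0004))) (.node 57107 (.leaf 0x0) (.node 57108 (.leaf 0x0) (.leaf 0xb0001))))) (.node 57114 (.node 57111 (.node 57110 (.leaf 0x20601010703060202000701000c) (.leaf 0x0)) (.node 57112 (.leaf 0xb0a0002) (.node 57113 (.leaf 0x0) (.leaf 0xdf18)))) (.node 57117 (.node 57115 (.leaf 0xf0001) (.node 57116 (.leaf 0x0) (.leaf 0x309080600000703040103000b))) (.node 57118 (.leaf 0x0) (.node 57119 (.leaf 0xf0001) (.leaf 0xa0f0b0003))))))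

def argWS_5060 : Store := (.node 57131 (.node 57125 (.node 57122 (.node 57121 (.leaf 0x30401020703000703040103000c) (.leaf 0x0)) (.node 57123 (.leaf 0xd0b0b0003) (.node 57124 (.leaf 0x0) (.leaf 0xdf2300df1f)))) (.node 57128 (.node 57126 (.leaf 0xd0b0002) (.node 57127 (.leaf 0x0) (.leaf 0x109070308020401050009))) (.node 57129 (.leaf 0x0) (.node 57130 (.leaf 0xa0001) (.leaf 0x20002020106060007))))) (.node 57137 (.node 57134 (.node 57132 (.leaf 0x0) (.node 57133 (.leaf 0xf0a0002) (.leaf 0x0))) (.node 57135 (.leaf 0x50205020604000703040103000c) (.node 57136 (.leaf 0x0) (.leaf 0xb0b0a0a0004)))) (.node 57140 (.node 57138 (.leaf 0x0) (.node 57139 (.leaf 0xb0a0a0003) (.leaf 0xdf3200df31))) (.node 57141 (.leaf 0xa0001) (.node 57142 (.leaf 0x0) (.leaf 0xd0b0002))))))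

def argWS_5061 : Store := (.node 57120 argWS_5059 argWS_5060)

def argWS_5062 : Store := (.node 57154 (.node 57148 (.node 57145 (.node 57144 (.leaf 0x0) (.leaf 0x0)) (.node 57146 (.leaf 0xf0001) (.node 57147 (.leaf 0x1090306010500020802040105000d) (.leaf 0x0)))) (.node 57151 (.node 57149 (.leaf 0xe0001) (.node 57150 (.leaf 0x0) (.leaf 0x102070207030401030009))) (.node 57152 (.leaf 0x0) (.node 57153 (.leaf 0xd0001) (.leaf 0x0))))) (.node 57159 (.node 57156 (.node 57155 (.leaf 0xdf4100df3d) (.leaf 0x907030007030401030009)) (.node 57157 (.leaf 0x0) (.node 57158 (.leaf 0xe0001) (.leaf 0x0)))) (.node 57162 (.node 57160 (.leaf 0xb0f0a0003) (.node 57161 (.leaf 0x0) (.leaf 0x0))) (.node 57163 (.leaf 0xf0001) (.node 57164 (.leaf 0x300030306040802040105000c) (.leaf 0x0))))))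

def argWS_5063 : Store := (.node 57176 (.node 57170 (.node 57167 (.node 57166 (.leaf 0xb0f0002) (.leaf 0x0)) (.node 57168 (.leaf 0xdf4e0092ff) (.node 57169 (.leaf 0xe0d0002) (.leaf 0x0)))) (.node 57173 (.node 57171 (.leaf 0xb0f0002) (.node 57172 (.leaf 0x0) (.leaf 0x0))) (.node 57174 (.leaf 0x5020603050004000703040103000d) (.node 57175 (.leaf 0x0) (.leaf 0xd0b0002))))) (.node 57182 (.node 57179 (.node 57177 (.leaf 0x0) (.node 57178 (.leaf 0x30401070009030007) (.leaf 0x0))) (.node 57180 (.leaf 0xb0f0002) (.node 57181 (.leaf 0x0) (.leaf 0xdf5c00df58)))) (.node 57185 (.node 57183 (.leaf 0xb0b0a0003) (.node 57184 (.leaf 0x0) (.leaf 0x0))) (.node 57186 (.leaf 0xa0f0b0b0004) (.node 57187 (.leaf 0xdf61) (.leaf 0xf0b0002))))))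

def argWS_5064 : Store := (.node 57165 argWS_5062 argWS_5063)

def argWS_5065 : Store := (.node 57143 argWS_5061 argWS_5064)

def argWS_5066 : Store := (.node 57098 argWS_5058 argWS_5065)

def argWS_5067 : Store := (.node 57199 (.node 57193 (.node 57190 (.node 57189 (.leaf 0x0) (.leaf 0x0)) (.node 57191 (.leaf 0xb0a0a0003) (.node 57192 (.leaf 0xb0f0002) (.leaf 0xb0f0002)))) (.node 57196 (.node 57194 (.leaf 0x7040206020007010008) (.node 57195 (.leaf 0x0) (.leaf 0xa0f0b0003))) (.node 57197 (.leaf 0x0) (.node 57198 (.leaf 0xdf6c00df68) (.leaf 0xa0f0b0003))))) (.node 57204 (.node 57201 (.node 57200 (.leaf 0x0) (.leaf 0x4030003030604000703040103000d)) (.node 57202 (.leaf 0x0) (.node 57203 (.leaf 0xa0001) (.leaf 0x4000401070306000703040103000d)))) (.node 57207 (.node 57205 (.leaf 0x0) (.node 57206 (.leaf 0xd0b0b0003) (.leaf 0x0))) (.node 57208 (.leaf 0x4030002090106000703040103000d) (.node 57209 (.leaf 0x0) (.leaf 0xd0b0002))))))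

def argWS_5068 : Store := (.node 57221 (.node 57215 (.node 57212 (.node 57211 (.leaf 0x0) (.leaf 0x40304070206000202000701000c)) (.node 57213 (.leaf 0x0) (.node 57214 (.leaf 0xe0001) (.leaf 0x0)))) (.node 57218 (.node 57216 (.leaf 0xdf7e00df7a) (.node 57217 (.leaf 0xa0f0b0003) (.leaf 0x0))) (.node 57219 (.leaf 0x8020904020005) (.node 57220 (.leaf 0x0) (.leaf 0xb0001))))) (.node 57227 (.node 57224 (.node 57222 (.leaf 0x604000308000703040103000b) (.node 57223 (.leaf 0x0) (.leaf 0xf0b0b0a0a0005))) (.node 57225 (.leaf 0x0) (.node 57226 (.leaf 0xe0a0a0003) (.leaf 0xdf89)))) (.node 57230 (.node 57228 (.leaf 0xb0a0002) (.node 57229 (.leaf 0x0) (.leaf 0x60506020702010007))) (.node 57231 (.leaf 0x0) (.node 57232 (.leaf 0xe0a0a0003) (.leaf 0xf0a0a0003))))))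

def argWS_5069 : Store := (.node 57210 argWS_5067 argWS_5068)

def argWS_5070 : Store := (.node 57244 (.node 57238 (.node 57235 (.node 57234 (.leaf 0xf0b0002) (.leaf 0xdf91)) (.node 57236 (.leaf 0xd0001) (.node 57237 (.leaf 0x0) (.leaf 0x204000300000202000701000b)))) (.node 57241 (.node 57239 (.leaf 0x0) (.node 57240 (.leaf 0xf0b0002) (.leaf 0x600090806000006))) (.node 57242 (.leaf 0x0) (.node 57243 (.leaf 0xb0f0a0003) (.leaf 0x0))))) (.node 57249 (.node 57246 (.node 57245 (.leaf 0x9070005020202010202000701000d) (.leaf 0x0)) (.node 57247 (.leaf 0xf0a0a0003) (.node 57248 (.leaf 0x0) (.leaf 0x30102020007010008)))) (.node 57252 (.node 57250 (.leaf 0x0) (.node 57251 (.leaf 0xa0a0002) (.leaf 0x0))) (.node 57253 (.leaf 0xdfa300df9f) (.node 57254 (.leaf 0xb0b0002) (.leaf 0x0))))))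

def argWS_5071 : Store := (.node 57266 (.node 57260 (.node 57257 (.node 57256 (.leaf 0xb0001) (.leaf 0x0)) (.node 57258 (.leaf 0x0) (.node 57259 (.leaf 0x701070206000802040105000b) (.leaf 0x0)))) (.node 57263 (.node 57261 (.leaf 0xb0b0a0003) (.node 57262 (.leaf 0x0) (.leaf 0xd0b0002))) (.node 57264 (.leaf 0xe0d0002) (.node 57265 (.leaf 0xdfaf00dfae) (.leaf 0xb0f0002))))) (.node 57272 (.node 57269 (.node 57267 (.leaf 0x0) (.node 57268 (.leaf 0x4090206020202000701000a) (.leaf 0x0))) (.node 57270 (.leaf 0xb0b0002) (.node 57271 (.leaf 0xe0a0002) (.leaf 0xe0a0a0003)))) (.node 57275 (.node 57273 (.leaf 0xdfb7) (.node 57274 (.leaf 0xb0001) (.leaf 0x0))) (.node 57276 (.leaf 0xb0b0a0003) (.node 57277 (.leaf 0x0) (.leaf 0x0))))))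

def argWS_5072 : Store := (.node 57255 argWS_5070 argWS_5071)

def argWS_5073 : Store := (.node 57233 argWS_5069 argWS_5072)

def argWS_5074 : Store := (.node 57289 (.node 57283 (.node 57280 (.node 57279 (.leaf 0xd0b0002) (.leaf 0xd0b0002)) (.node 57281 (.leaf 0xdfbf) (.node 57282 (.leaf 0xf0001) (.leaf 0x0)))) (.node 57286 (.node 57284 (.leaf 0x1020200020804000802040105000d) (.node 57285 (.leaf 0x0) (.leaf 0xa0f0b0b0004))) (.node 57287 (.leaf 0xa0f0002) (.node 57288 (.leaf 0x404020703000703040103000b) (.leaf 0x0))))) (.node 57294 (.node 57291 (.node 57290 (.leaf 0xf0b0a0a0004) (.leaf 0x0)) (.node 57292 (.leaf 0x4030005020202010202000701000d) (.node 57293 (.leaf 0x0) (.leaf 0xb0a0a0003)))) (.node 57297 (.node 57295 (.leaf 0x0) (.node 57296 (.leaf 0xdfce00dfca) (.leaf 0x904020703000703040103000b))) (.node 57298 (.leaf 0x0) (.node 57299 (.leaf 0xd0b0002) (.leaf 0x0))))))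

def argWS_5075 : Store := (.node 57311 (.node 57305 (.node 57302 (.node 57301 (.leaf 0x0) (.leaf 0xa0a0002)) (.node 57303 (.leaf 0xb0b0a0003) (.node 57304 (.leaf 0xdfd6) (.leaf 0xf0b0002)))) (.node 57308 (.node 57306 (.leaf 0x0) (.node 57307 (.leaf 0xd0b0002) (.leaf 0x0))) (.node 57309 (.leaf 0x0) (.node 57310 (.leaf 0xa0001) (.leaf 0xf0a0a0003))))) (.node 57317 (.node 57314 (.node 57312 (.leaf 0xb0f0a0a0004) (.node 57313 (.leaf 0xdfdf00dfde) (.leaf 0xd0001))) (.node 57315 (.leaf 0x0) (.node 57316 (.leaf 0x5020106030500040202000701000d) (.leaf 0x0)))) (.node 57320 (.node 57318 (.leaf 0xe0d0002) (.node 57319 (.leaf 0x80200050202020703040103000c) (.leaf 0x0))) (.node 57321 (.leaf 0xe0d0002) (.node 57322 (.leaf 0x0) (.leaf 0x3090000090802040105000a))))))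

def argWS_5076 : Store := (.node 57300 argWS_5074 argWS_5075)

def argWS_5077 : Store := (.node 57334 (.node 57328 (.node 57325 (.node 57324 (.leaf 0x0) (.leaf 0xb0f0a0003)) (.node 57326 (.leaf 0x0) (.node 57327 (.leaf 0xb0f0a0003) (.leaf 0xdfee00dfed)))) (.node 57331 (.node 57329 (.leaf 0xb0a0f0003) (.node 57330 (.leaf 0x0) (.leaf 0x201030900090802040105000b))) (.node 57332 (.leaf 0x0) (.node 57333 (.leaf 0xa0f0b0003) (.leaf 0x307090000090006))))) (.node 57340 (.node 57337 (.node 57335 (.leaf 0x0) (.node 57336 (.leaf 0xb0f0a0a0004) (.leaf 0x0))) (.node 57338 (.leaf 0x401070206000006) (.node 57339 (.leaf 0x0) (.leaf 0xe0a0a0003)))) (.node 57343 (.node 57341 (.leaf 0x0) (.node 57342 (.leaf 0xd0b0b0003) (.leaf 0xdffd00dffc))) (.node 57344 (.leaf 0xe0d0002) (.node 57345 (.leaf 0x0) (.leaf 0x60201070206000802040105000c))))))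

def argWS_5078 : Store := (.node 57357 (.node 57351 (.node 57348 (.node 57347 (.leaf 0x0) (.leaf 0xb0f0a0003)) (.node 57349 (.leaf 0xd0001) (.node 57350 (.leaf 0xb0f0a0a0004) (.leaf 0xe005)))) (.node 57354 (.node 57352 (.leaf 0xb0a0f0003) (.node 57353 (.leaf 0x0) (.leaf 0xb0f0a0a0004))) (.node 57355 (.leaf 0x0) (.node 57356 (.leaf 0x0) (.leaf 0xa0a0002))))) (.node 57363 (.node 57360 (.node 57358 (.leaf 0x6020000090206020202000701000d) (.node 57359 (.leaf 0x0) (.leaf 0xf0b0a0003))) (.node 57361 (.leaf 0x0) (.node 57362 (.leaf 0x5020103080005) (.leaf 0x0)))) (.node 57366 (.node 57364 (.leaf 0xf0b0b0a0a0005) (.node 57365 (.leaf 0x0) (.leaf 0xe01400e010))) (.node 57367 (.leaf 0xf0a0002) (.node 57368 (.leaf 0x0) (.leaf 0xf0b0b0003))))))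

def argWS_5079 : Store := (.node 57346 argWS_5077 argWS_5078)

def argWS_5080 : Store := (.node 57323 argWS_5076 argWS_5079)

def argWS_5081 : Store := (.node 57278 argWS_5073 argWS_5080)

def argWS_5082 : Store := (.node 57188 argWS_5066 argWS_5081)

def argWS_5083 : Store := (.node 57380 (.node 57374 (.node 57371 (.node 57370 (.leaf 0x0) (.leaf 0x0)) (.node 57372 (.leaf 0xb0b0a0003) (.node 57373 (.leaf 0x30403000408010007) (.leaf 0x0)))) (.node 57377 (.node 57375 (.leaf 0xb0b0002) (.node 57376 (.leaf 0x0) (.leaf 0xd0b0002))) (.node 57378 (.leaf 0xe02000e01f) (.node 57379 (.leaf 0x0) (.leaf 0xe0001))))) (.node 57385 (.node 57382 (.node 57381 (.leaf 0x0) (.leaf 0x0)) (.node 57383 (.leaf 0x8000400000300000008) (.node 57384 (.leaf 0x0) (.leaf 0xf0b0a0a0004)))) (.node 57388 (.node 57386 (.leaf 0x0) (.node 57387 (.leaf 0xe0290095f6) (.leaf 0xa0a0002))) (.node 57389 (.leaf 0x0) (.node 57390 (.leaf 0xf0b0b0a0004) (.leaf 0x0))))))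

def argWS_5084 : Store := (.node 57402 (.node 57396 (.node 57393 (.node 57392 (.leaf 0x0) (.leaf 0xb0a0a0003)) (.node 57394 (.leaf 0xb0f0002) (.node 57395 (.leaf 0xf0b0b0a0004) (.leaf 0xe03200e031)))) (.node 57399 (.node 57397 (.leaf 0xb0b0002) (.node 57398 (.leaf 0x0) (.leaf 0xf0b0b0a0004))) (.node 57400 (.leaf 0x0) (.node 57401 (.leaf 0x0) (.leaf 0x80006010500020007))))) (.node 57408 (.node 57405 (.node 57403 (.leaf 0x0) (.node 57404 (.leaf 0xd0b0002) (.leaf 0x0))) (.node 57406 (.leaf 0x3000900090005) (.node 57407 (.leaf 0x0) (.leaf 0xd0b0b0003)))) (.node 57411 (.node 57409 (.leaf 0x0) (.node 57410 (.leaf 0xe04000e03c) (.leaf 0xf0b0a0003))) (.node 57412 (.leaf 0x0) (.node 57413 (.leaf 0x0) (.leaf 0xb0b0a0a0004))))))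

def argWS_5085 : Store := (.node 57391 argWS_5083 argWS_5084)

def argWS_5086 : Store := (.node 57425 (.node 57419 (.node 57416 (.node 57415 (.leaf 0x40300090806000007) (.leaf 0x0)) (.node 57417 (.leaf 0xa0f0b0b0004) (.node 57418 (.leaf 0x0) (.leaf 0x4020500000300000202000701000d)))) (.node 57422 (.node 57420 (.leaf 0x0) (.node 57421 (.leaf 0xa0f0b0b0004) (.leaf 0x0))) (.node 57423 (.leaf 0xe04d00e049) (.node 57424 (.leaf 0xa0f0b0b0004) (.leaf 0x0))))) (.node 57430 (.node 57427 (.node 57426 (.leaf 0xb0f0a0003) (.leaf 0x0)) (.node 57428 (.leaf 0xb0a0f0003) (.node 57429 (.leaf 0x301020106060802040105000b) (.leaf 0x0)))) (.node 57433 (.node 57431 (.leaf 0xf0b0a0003) (.node 57432 (.leaf 0x0) (.leaf 0xe057))) (.node 57434 (.leaf 0xb0f0002) (.node 57435 (.leaf 0x0) (.leaf 0x90104090000090202000701000c))))))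

def argWS_5087 : Store := (.node 57447 (.node 57441 (.node 57438 (.node 57437 (.leaf 0x0) (.leaf 0xf0b0a0a0004)) (.node 57439 (.leaf 0xf0b0002) (.node 57440 (.leaf 0xf0b0b0a0004) (.leaf 0xe05f00e05e)))) (.node 57444 (.node 57442 (.leaf 0x4020505020604000703040103000d) (.node 57443 (.leaf 0x0) (.leaf 0xd0b0002))) (.node 57445 (.leaf 0x0) (.node 57446 (.leaf 0xb0a0a0003) (.leaf 0x0))))) (.node 57453 (.node 57450 (.node 57448 (.leaf 0x0) (.node 57449 (.leaf 0x200000000030000000703040103000e) (.leaf 0x0))) (.node 57451 (.leaf 0xa0f0b0b0004) (.node 57452 (.leaf 0x0) (.leaf 0xb0b0002)))) (.node 57456 (.node 57454 (.leaf 0x6040109080600000703040103000d) (.node 57455 (.leaf 0x0) (.leaf 0xa0f0002))) (.node 57457 (.leaf 0x0) (.node 57458 (.leaf 0xe07000e06c) (.leaf 0xb0f0a0003))))))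

def argWS_5088 : Store := (.node 57436 argWS_5086 argWS_5087)

def argWS_5089 : Store := (.node 57414 argWS_5085 argWS_5088)

def argWS_5090 : Store := (.node 57470 (.node 57464 (.node 57461 (.node 57460 (.leaf 0x0) (.leaf 0xf0b0a0a0004)) (.node 57462 (.leaf 0x0) (.node 57463 (.leaf 0x0) (.leaf 0xb0b0a0003)))) (.node 57467 (.node 57465 (.leaf 0xdb1d) (.node 57466 (.leaf 0xb0f0002) (.leaf 0x0))) (.node 57468 (.leaf 0x60401070209020802040105000c) (.node 57469 (.leaf 0x0) (.leaf 0xf0b0a0a0004))))) (.node 57475 (.node 57472 (.node 57471 (.leaf 0xf0a0002) (.leaf 0x1030900090802040105000a)) (.node 57473 (.leaf 0x0) (.node 57474 (.leaf 0x0) (.leaf 0xe081)))) (.node 57478 (.node 57476 (.leaf 0x60401050206040202000701000c) (.node 57477 (.leaf 0x0) (.leaf 0xb0f0002))) (.node 57479 (.leaf 0x0) (.node 57480 (.leaf 0xe0d0002) (.leaf 0x0))))))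

def argWS_5091 : Store := (.node 57492 (.node 57486 (.node 57483 (.node 57482 (.leaf 0x0) (.leaf 0xa0a0002)) (.node 57484 (.leaf 0xb0f0a0003) (.node 57485 (.leaf 0xf0a0002) (.leaf 0xe08c00e08b)))) (.node 57489 (.node 57487 (.leaf 0xb0001) (.node 57488 (.leaf 0x0) (.leaf 0xf0b0a0a0004))) (.node 57490 (.leaf 0x0) (.node 57491 (.leaf 0x0) (.leaf 0x206030500040202000701000b))))) (.node 57498 (.node 57495 (.node 57493 (.leaf 0x0) (.node 57494 (.leaf 0xf0b0002) (.leaf 0x0))) (.node 57496 (.leaf 0x10701090805000703040103000c) (.node 57497 (.leaf 0x0) (.leaf 0xb0f0a0a0004)))) (.node 57501 (.node 57499 (.leaf 0x0) (.node 57500 (.leaf 0xe0d0002) (.leaf 0xe09b00e09a))) (.node 57502 (.leaf 0x0) (.node 57503 (.leaf 0x0) (.leaf 0x10202090806000007))))))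

def argWS_5092 : Store := (.node 57481 argWS_5090 argWS_5091)

def argWS_5093 : Store := (.node 57515 (.node 57509 (.node 57506 (.node 57505 (.leaf 0x0) (.leaf 0xb0f0a0a0004)) (.node 57507 (.leaf 0x0) (.node 57508 (.leaf 0xb0f0002) (.leaf 0xb0001)))) (.node 57512 (.node 57510 (.leaf 0xe0a400e0a3) (.node 57511 (.leaf 0xd0b0002) (.leaf 0x0))) (.node 57513 (.leaf 0x70101020703000703040103000c) (.node 57514 (.leaf 0x0) (.leaf 0xd0b0002))))) (.node 57520 (.node 57517 (.node 57516 (.leaf 0xb0b0a0003) (.leaf 0x0)) (.node 57518 (.leaf 0xd0001) (.node 57519 (.leaf 0x502050206040202000701000b) (.leaf 0x0)))) (.node 57523 (.node 57521 (.leaf 0xf0b0b0a0a0005) (.node 57522 (.leaf 0x0) (.leaf 0x204030003030604000703040103000e))) (.node 57524 (.leaf 0x0) (.node 57525 (.leaf 0xd0b0002) (.leaf 0x0))))))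

def argWS_5094 : Store := (.node 57537 (.node 57531 (.node 57528 (.node 57527 (.leaf 0xe0b500e0b1) (.leaf 0xf0b0002)) (.node 57529 (.leaf 0x0) (.node 57530 (.leaf 0xe0a0002) (.leaf 0x0)))) (.node 57534 (.node 57532 (.leaf 0x0) (.node 57533 (.leaf 0xb0f0a0a0004) (.leaf 0x901030802020007010009))) (.node 57535 (.leaf 0x0) (.node 57536 (.leaf 0xb0b0a0a0004) (.leaf 0x0))))) (.node 57543 (.node 57540 (.node 57538 (.leaf 0xb0a0a0003) (.node 57539 (.leaf 0xe0c100e0c0) (.leaf 0xf0a0002))) (.node 57541 (.leaf 0x0) (.node 57542 (.leaf 0xb0b0a0003) (.leaf 0x0)))) (.node 57546 (.node 57544 (.leaf 0x0) (.node 57545 (.leaf 0xa0001) (.leaf 0xe0c8))) (.node 57547 (.leaf 0xb0b0002) (.node 57548 (.leaf 0x0) (.leaf 0x708020401050007))))))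

def argWS_5095 : Store := (.node 57526 argWS_5093 argWS_5094)

def argWS_5096 : Store := (.node 57504 argWS_5092 argWS_5095)

def argWS_5097 : Store := (.node 57459 argWS_5089 argWS_5096)

def argWS_5098 : Store := (.node 57560 (.node 57554 (.node 57551 (.node 57550 (.leaf 0x0) (.leaf 0xb0f0a0003)) (.node 57552 (.leaf 0xb0a0002) (.node 57553 (.leaf 0x70007000903000703040103000c) (.leaf 0x0)))) (.node 57557 (.node 57555 (.leaf 0xf0b0002) (.node 57556 (.leaf 0x0) (.leaf 0xf0b0002))) (.node 57558 (.leaf 0xe0d400e0d3) (.node 57559 (.leaf 0xf0a0002) (.leaf 0x0))))) (.node 57565 (.node 57562 (.node 57561 (.leaf 0xf0001) (.leaf 0x0)) (.node 57563 (.leaf 0x0) (.node 57564 (.leaf 0xf0a0002) (.leaf 0x400090806000006)))) (.node 57568 (.node 57566 (.leaf 0x0) (.node 57567 (.leaf 0xf0001) (.leaf 0x0))) (.node 57569 (.leaf 0xaa8300e0df) (.node 57570 (.leaf 0x2070209020005) (.leaf 0x0))))))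

def argWS_5099 : Store := (.node 57582 (.node 57576 (.node 57573 (.node 57572 (.leaf 0xb0a0f0003) (.leaf 0x0)) (.node 57574 (.leaf 0xf0b0b0a0a0005) (.node 57575 (.leaf 0x0) (.leaf 0x0)))) (.node 57579 (.node 57577 (.leaf 0x10205020604000703040103000c) (.node 57578 (.leaf 0x0) (.leaf 0xa0f0b0b0004))) (.node 57580 (.leaf 0x0) (.node 57581 (.leaf 0xb0f0002) (.leaf 0xd78e00e0ec))))) (.node 57588 (.node 57585 (.node 57583 (.leaf 0xf0b0002) (.node 57584 (.leaf 0x0) (.leaf 0x1010904020202000701000a))) (.node 57586 (.leaf 0x0) (.node 57587 (.leaf 0xf0b0b0a0a0005) (.leaf 0xa0f0b0003)))) (.node 57591 (.node 57589 (.leaf 0x907000903000703040103000b) (.node 57590 (.leaf 0x0) (.leaf 0xf0b0b0003))) (.node 57592 (.leaf 0x0) (.node 57593 (.leaf 0x307070206000802040105000b) (.leaf 0x0))))))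

def argWS_5100 : Store := (.node 57571 argWS_5098 argWS_5099)

def argWS_5101 : Store := (.node 57605 (.node 57599 (.node 57596 (.node 57595 (.leaf 0x0) (.leaf 0xe0fa00e0f7)) (.node 57597 (.leaf 0x20401050206040802040105000c) (.node 57598 (.leaf 0x0) (.leaf 0xe0a0a0003)))) (.node 57602 (.node 57600 (.leaf 0x0) (.node 57601 (.leaf 0x0) (.leaf 0xe0a0002))) (.node 57603 (.leaf 0x90700090206020007) (.node 57604 (.leaf 0x0) (.leaf 0xd0b0002))))) (.node 57610 (.node 57607 (.node 57606 (.leaf 0x0) (.leaf 0xf0b0002)) (.node 57608 (.leaf 0xe10600e105) (.node 57609 (.leaf 0xb0a0002) (.leaf 0x0)))) (.node 57613 (.node 57611 (.leaf 0xb0a0a0003) (.node 57612 (.leaf 0x0) (.leaf 0x0))) (.node 57614 (.leaf 0xb0001) (.node 57615 (.leaf 0x1070007000902000701000a) (.leaf 0x0))))))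

def argWS_5102 : Store := (.node 57627 (.node 57621 (.node 57618 (.node 57617 (.leaf 0xa0f0002) (.leaf 0x0)) (.node 57619 (.leaf 0xe111) (.node 57620 (.leaf 0xa0a0002) (.leaf 0x0)))) (.node 57624 (.node 57622 (.leaf 0xf0a0002) (.node 57623 (.leaf 0x0) (.leaf 0x0))) (.node 57625 (.leaf 0xa0f0b0b0004) (.node 57626 (.leaf 0xb0f0a0a0004) (.leaf 0xf0b0a0a0004))))) (.node 57633 (.node 57630 (.node 57628 (.leaf 0xe11a00e119) (.node 57629 (.leaf 0xb0f0a0003) (.leaf 0x0))) (.node 57631 (.leaf 0x0) (.node 57632 (.leaf 0x2040102020900000008) (.leaf 0x0)))) (.node 57636 (.node 57634 (.leaf 0xb0a0f0003) (.node 57635 (.leaf 0x0) (.leaf 0xe12200a600))) (.node 57637 (.leaf 0xd0001) (.node 57638 (.leaf 0x0) (.leaf 0xb0b0002))))))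

def argWS_5103 : Store := (.node 57616 argWS_5101 argWS_5102)

def argWS_5104 : Store := (.node 57594 argWS_5100 argWS_5103)

def argWS_5105 : Store := (.node 57650 (.node 57644 (.node 57641 (.node 57640 (.leaf 0x0) (.leaf 0x0)) (.node 57642 (.leaf 0xb0001) (.node 57643 (.leaf 0xe129) (.leaf 0xd0b0002)))) (.node 57647 (.node 57645 (.leaf 0x0) (.node 57646 (.leaf 0xe0d0002) (.leaf 0x0))) (.node 57648 (.leaf 0x0) (.node 57649 (.leaf 0xf0b0b0a0004) (.leaf 0xb0a0002))))) (.node 57655 (.node 57652 (.node 57651 (.leaf 0xe13100b66c) (.leaf 0xa0f0b0b0004)) (.node 57653 (.leaf 0x0) (.node 57654 (.leaf 0xe0a0a0003) (.leaf 0x0)))) (.node 57658 (.node 57656 (.leaf 0x0) (.node 57657 (.leaf 0xf0b0a0003) (.leaf 0x0))) (.node 57659 (.leaf 0xf0a0a0003) (.node 57660 (.leaf 0xe13a00e139) (.leaf 0xa0a0002))))))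

def argWS_5106 : Store := (.node 57672 (.node 57666 (.node 57663 (.node 57662 (.leaf 0x0) (.leaf 0xa0f0b0b0004)) (.node 57664 (.leaf 0x0) (.node 57665 (.leaf 0x0) (.leaf 0x704070206000202000701000b)))) (.node 57669 (.node 57667 (.leaf 0x0) (.node 57668 (.leaf 0xe0a0002) (.leaf 0x0))) (.node 57670 (.leaf 0x6040102010606000703040103000d) (.node 57671 (.leaf 0x0) (.leaf 0xf0a0002))))) (.node 57678 (.node 57675 (.node 57673 (.leaf 0x0) (.node 57674 (.leaf 0xe148) (.leaf 0xf0a0a0003))) (.node 57676 (.leaf 0x0) (.node 57677 (.leaf 0xb0f0a0a0004) (.leaf 0x0)))) (.node 57681 (.node 57679 (.leaf 0x0) (.node 57680 (.leaf 0xb0a0002) (.leaf 0x2050200000300000008))) (.node 57682 (.leaf 0x0) (.node 57683 (.leaf 0xd0b0002) (.leaf 0x0))))))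

def argWS_5107 : Store := (.node 57661 argWS_5105 argWS_5106)

def argWS_5108 : Store := (.node 57695 (.node 57689 (.node 57686 (.node 57685 (.leaf 0xa0f0b0003) (.leaf 0xe15400e153)) (.node 57687 (.leaf 0xf0a0002) (.node 57688 (.leaf 0x0) (.leaf 0xd0b0002)))) (.node 57692 (.node 57690 (.leaf 0x0) (.node 57691 (.leaf 0x0) (.leaf 0xe0d0002))) (.node 57693 (.leaf 0xf0b0b0a0004) (.node 57694 (.leaf 0xd48f00e15c) (.leaf 0xf0b0a0003))))) (.node 57701 (.node 57698 (.node 57696 (.leaf 0x0) (.node 57697 (.leaf 0xe0d0002) (.leaf 0x0))) (.node 57699 (.leaf 0x0) (.node 57700 (.leaf 0xf0a0a0003) (.leaf 0xf0b0a0a0004)))) (.node 57704 (.node 57702 (.leaf 0x401010908050802040105000b) (.node 57703 (.leaf 0x0) (.leaf 0xf0a0002))) (.node 57705 (.leaf 0x0) (.node 57706 (.leaf 0xe16800e164) (.leaf 0xb0f0002))))))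

def argWS_5109 : Store := (.node 57718 (.node 57712 (.node 57709 (.node 57708 (.leaf 0x0) (.leaf 0x6020901090005)) (.node 57710 (.leaf 0x0) (.node 57711 (.leaf 0xe0a0a0003) (.leaf 0xf0001)))) (.node 57715 (.node 57713 (.leaf 0xd0b0b0003) (.node 57714 (.leaf 0xe170) (.leaf 0xe0a0a0003))) (.node 57716 (.leaf 0x0) (.node 57717 (.leaf 0xf0b0a0a0004) (.leaf 0x0))))) (.node 57724 (.node 57721 (.node 57719 (.leaf 0x0) (.node 57720 (.leaf 0x604000601050002000703040103000e) (.leaf 0x0))) (.node 57722 (.leaf 0x0) (.node 57723 (.leaf 0x906020106060006) (.leaf 0x0)))) (.node 57727 (.node 57725 (.leaf 0xb0a0f0003) (.node 57726 (.leaf 0x0) (.leaf 0xd2e600e17d))) (.node 57728 (.leaf 0xb0a0f0003) (.node 57729 (.leaf 0x0) (.leaf 0x1020102020900000802040105000d))))))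

def argWS_5110 : Store := (.node 57707 argWS_5108 argWS_5109)

def argWS_5111 : Store := (.node 57684 argWS_5107 argWS_5110)

def argWS_5112 : Store := (.node 57639 argWS_5104 argWS_5111)

def argWS_5113 : Store := (.node 57549 argWS_5097 argWS_5112)

def argWS_5114 : Store := (.node 57369 argWS_5082 argWS_5113)

def argWS_5115 : Store := (.node 57008 argWS_5051 argWS_5114)

def argWS_5116 : Store := (.node 56286 argWS_4988 argWS_5115)

def argWS_5117 : Store := (.node 54843 argWS_4861 argWS_5116)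

def argWS_5118 : Store := (.node 51957 argWS_4606 argWS_5117)

def argWS_5119 : Store := (.node 57741 (.node 57735 (.node 57732 (.node 57731 (.leaf 0x0) (.leaf 0xf0b0b0003)) (.node 57733 (.leaf 0xb0b0a0a0004) (.node 57734 (.leaf 0xa0f0b0003) (.leaf 0x904000508020401050009)))) (.node 57738 (.node 57736 (.leaf 0x0) (.node 57737 (.leaf 0xe0d0002) (.leaf 0x0))) (.node 57739 (.leaf 0xe18900e185) (.node 57740 (.leaf 0x2060408010802040105000a) (.leaf 0x0))))) (.node 57746 (.node 57743 (.node 57742 (.leaf 0xd0b0b0003) (.leaf 0x0)) (.node 57744 (.leaf 0xf0001) (.node 57745 (.leaf 0x0) (.leaf 0x0)))) (.node 57749 (.node 57747 (.leaf 0xf0001) (.node 57748 (.leaf 0xb0001) (.leaf 0xe193))) (.node 57750 (.leaf 0x20000000300000202000701000d) (.node 57751 (.leaf 0x0) (.leaf 0x0))))))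

def argWS_5120 : Store := (.node 57763 (.node 57757 (.node 57754 (.node 57753 (.leaf 0xd0001) (.leaf 0x0)) (.node 57755 (.leaf 0x0) (.node 57756 (.leaf 0xb0b0002) (.leaf 0xf0b0b0a0a0005)))) (.node 57760 (.node 57758 (.leaf 0x60102010207030802040105000c) (.node 57759 (.leaf 0x0) (.leaf 0xf0b0a0a0004))) (.node 57761 (.leaf 0x0) (.node 57762 (.leaf 0xe1a000e19c) (.leaf 0xa0f0b0003))))) (.node 57769 (.node 57766 (.node 57764 (.leaf 0x0) (.node 57765 (.leaf 0x4030006020702010802040105000d) (.leaf 0x0))) (.node 57767 (.leaf 0xb0b0a0003) (.node 57768 (.leaf 0x2040301070306000703040103000d) (.leaf 0x0)))) (.node 57772 (.node 57770 (.leaf 0xf0b0b0a0a0005) (.node 57771 (.leaf 0x0) (.leaf 0xd0b0002))) (.node 57773 (.leaf 0xe1ab00e1aa) (.node 57774 (.leaf 0x80004010908050802040105000c) (.leaf 0x0))))))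

def argWS_5121 : Store := (.node 57752 argWS_5119 argWS_5120)

def argWS_5122 : Store := (.node 57786 (.node 57780 (.node 57777 (.node 57776 (.leaf 0xb0a0002) (.leaf 0x0)) (.node 57778 (.leaf 0xf0b0a0003) (.node 57779 (.leaf 0x0) (.leaf 0x0)))) (.node 57783 (.node 57781 (.leaf 0xf0001) (.node 57782 (.leaf 0x40003030604000703040103000c) (.leaf 0x0))) (.node 57784 (.leaf 0xe0001) (.node 57785 (.leaf 0x0) (.leaf 0x2040207030802040105000a))))) (.node 57791 (.node 57788 (.node 57787 (.leaf 0x0) (.leaf 0xf0b0002)) (.node 57789 (.leaf 0x0) (.node 57790 (.leaf 0xe1bc00e1b8) (.leaf 0x704020000030703040103000b)))) (.node 57794 (.node 57792 (.leaf 0x0) (.node 57793 (.leaf 0xb0f0a0003) (.leaf 0x0))) (.node 57795 (.leaf 0xa0f0002) (.node 57796 (.leaf 0x0) (.leaf 0x0))))))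

def argWS_5123 : Store := (.node 57808 (.node 57802 (.node 57799 (.node 57798 (.leaf 0xd0b0002) (.leaf 0x0)) (.node 57800 (.leaf 0xb0f0a0a0004) (.node 57801 (.leaf 0xe1c700261c) (.leaf 0xe0d0002)))) (.node 57805 (.node 57803 (.leaf 0x0) (.node 57804 (.leaf 0xe0a0002) (.leaf 0x0))) (.node 57806 (.leaf 0x0) (.node 57807 (.leaf 0xf0b0b0a0004) (.leaf 0xb0f0a0a0004))))) (.node 57814 (.node 57811 (.node 57809 (.leaf 0x60501060207020703040103000c) (.node 57810 (.leaf 0x0) (.leaf 0xb0b0a0a0004))) (.node 57812 (.leaf 0x0) (.node 57813 (.leaf 0xe1d300e1cf) (.leaf 0xe0a0002)))) (.node 57817 (.node 57815 (.leaf 0x0) (.node 57816 (.leaf 0xf0a0002) (.leaf 0x0))) (.node 57818 (.leaf 0x0) (.node 57819 (.leaf 0xa0f0b0003) (.leaf 0x1050200090206020802040105000d))))))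

def argWS_5124 : Store := (.node 57797 argWS_5122 argWS_5123)

def argWS_5125 : Store := (.node 57775 argWS_5121 argWS_5124)

def argWS_5126 : Store := (.node 57831 (.node 57825 (.node 57822 (.node 57821 (.leaf 0x0) (.leaf 0x0)) (.node 57823 (.leaf 0xb0a0f0003) (.node 57824 (.leaf 0xe1de00e1dd) (.leaf 0xd0b0002)))) (.node 57828 (.node 57826 (.leaf 0x0) (.node 57827 (.leaf 0xb0f0a0003) (.leaf 0x0))) (.node 57829 (.leaf 0x0) (.node 57830 (.leaf 0xb0a0a0003) (.leaf 0x703050900090202000701000b))))) (.node 57836 (.node 57833 (.node 57832 (.leaf 0x0) (.leaf 0xb0001)) (.node 57834 (.leaf 0x0) (.node 57835 (.leaf 0xf0a0a0003) (.leaf 0xe1ea00e1e9)))) (.node 57839 (.node 57837 (.leaf 0xf0001) (.node 57838 (.leaf 0x0) (.leaf 0xb0b0a0003))) (.node 57840 (.leaf 0x0) (.node 57841 (.leaf 0x0) (.leaf 0xb0f0002))))))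

def argWS_5127 : Store := (.node 57853 (.node 57847 (.node 57844 (.node 57843 (.leaf 0xf0b0b0a0a0005) (.leaf 0xe1f2)) (.node 57845 (.leaf 0xf0b0a0003) (.node 57846 (.leaf 0x0) (.leaf 0xd0b0002)))) (.node 57850 (.node 57848 (.leaf 0x0) (.node 57849 (.leaf 0x0) (.leaf 0xf0a0a0003))) (.node 57851 (.leaf 0x20106060802040105000a) (.node 57852 (.leaf 0x0) (.leaf 0xe0d0002))))) (.node 57859 (.node 57856 (.node 57854 (.leaf 0x0) (.node 57855 (.leaf 0xf0b0a0a0004) (.leaf 0xe1fe00e1fd))) (.node 57857 (.leaf 0xd0001) (.node 57858 (.leaf 0x0) (.leaf 0xf0b0b0a0a0005)))) (.node 57862 (.node 57860 (.leaf 0x0) (.node 57861 (.leaf 0x0) (.leaf 0xe0a0a0003))) (.node 57863 (.leaf 0xb0b0a0003) (.node 57864 (.leaf 0xb0f0a0a0004) (.leaf 0xe20700e206))))))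

def argWS_5128 : Store := (.node 57842 argWS_5126 argWS_5127)

def argWS_5129 : Store := (.node 57876 (.node 57870 (.node 57867 (.node 57866 (.leaf 0xa0f0b0b0004) (.leaf 0x0)) (.node 57868 (.leaf 0xf0a0002) (.node 57869 (.leaf 0x0) (.leaf 0x0)))) (.node 57873 (.node 57871 (.leaf 0xe0a0a0003) (.node 57872 (.leaf 0xb0b0a0a0004) (.leaf 0xf0001))) (.node 57874 (.leaf 0xe21000e20f) (.node 57875 (.leaf 0xf0a0002) (.leaf 0x0))))) (.node 57881 (.node 57878 (.node 57877 (.leaf 0xf0001) (.leaf 0x0)) (.node 57879 (.leaf 0x0) (.node 57880 (.leaf 0xe0a0002) (.leaf 0x704070209020802040105000b)))) (.node 57884 (.node 57882 (.leaf 0x0) (.node 57883 (.leaf 0xb0f0a0a0004) (.leaf 0x0))) (.node 57885 (.leaf 0xe21b) (.node 57886 (.leaf 0xf0b0a0003) (.leaf 0x0))))))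

def argWS_5130 : Store := (.node 57898 (.node 57892 (.node 57889 (.node 57888 (.leaf 0x50305010703060802040105000c) (.leaf 0x0)) (.node 57890 (.leaf 0xf0001) (.node 57891 (.leaf 0x901070009020007010009) (.leaf 0x0)))) (.node 57895 (.node 57893 (.leaf 0xa0f0b0003) (.node 57894 (.leaf 0x0) (.leaf 0xb0f0002))) (.node 57896 (.leaf 0xe0a0002) (.node 57897 (.leaf 0xe22700e226) (.leaf 0xd0b0002))))) (.node 57904 (.node 57901 (.node 57899 (.leaf 0x0) (.node 57900 (.leaf 0x907000206030802040105000b) (.leaf 0x0))) (.node 57902 (.leaf 0xb0f0002) (.node 57903 (.leaf 0xf0b0b0a0004) (.leaf 0x907090402000703040103000b)))) (.node 57907 (.node 57905 (.leaf 0x0) (.node 57906 (.leaf 0xf0a0a0003) (.leaf 0x0))) (.node 57908 (.leaf 0xe23200e22e) (.node 57909 (.leaf 0xa0f0b0b0004) (.leaf 0x0))))))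

def argWS_5131 : Store := (.node 57887 argWS_5129 argWS_5130)

def argWS_5132 : Store := (.node 57865 argWS_5128 argWS_5131)

def argWS_5133 : Store := (.node 57820 argWS_5125 argWS_5132)

def argWS_5134 : Store := (.node 57921 (.node 57915 (.node 57912 (.node 57911 (.leaf 0x5020908050202000701000a) (.leaf 0x0)) (.node 57913 (.leaf 0xb0a0a0003) (.node 57914 (.leaf 0x20002020900000202000701000d) (.leaf 0x0)))) (.node 57918 (.node 57916 (.leaf 0xe0d0002) (.node 57917 (.leaf 0x0) (.leaf 0xe23c))) (.node 57919 (.leaf 0xf0a0a0003) (.node 57920 (.leaf 0x0) (.leaf 0xa0001))))) (.node 57926 (.node 57923 (.node 57922 (.leaf 0x0) (.leaf 0x0)) (.node 57924 (.leaf 0xa0001) (.node 57925 (.leaf 0xa0f0b0003) (.leaf 0xb0a0a0003)))) (.node 57929 (.node 57927 (.leaf 0xe24500e244) (.node 57928 (.leaf 0xf0a0a0003) (.leaf 0x0))) (.node 57930 (.leaf 0xd0001) (.node 57931 (.leaf 0x0) (.leaf 0x0))))))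

def argWS_5135 : Store := (.node 57943 (.node 57937 (.node 57934 (.node 57933 (.leaf 0xb0a0f0003) (.leaf 0xb0b0002)) (.node 57935 (.leaf 0xe0a0002) (.node 57936 (.leaf 0x0) (.leaf 0xe24f00e24d)))) (.node 57940 (.node 57938 (.leaf 0xe0d0002) (.node 57939 (.leaf 0x0) (.leaf 0x10300020804000202000701000c))) (.node 57941 (.leaf 0x0) (.node 57942 (.leaf 0xa0f0002) (.leaf 0xf0b0a0a0004))))) (.node 57949 (.node 57946 (.node 57944 (.leaf 0x70209020802040105000b) (.node 57945 (.leaf 0x0) (.leaf 0x0))) (.node 57947 (.leaf 0x20106060802040105000b) (.node 57948 (.leaf 0x0) (.leaf 0xf0a0a0003)))) (.node 57952 (.node 57950 (.leaf 0x0) (.node 57951 (.leaf 0xe25d00e259) (.leaf 0xd0b0002))) (.node 57953 (.leaf 0x0) (.node 57954 (.leaf 0xf0b0b0a0004) (.leaf 0x0))))))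

def argWS_5136 : Store := (.node 57932 argWS_5134 argWS_5135)

def argWS_5137 : Store := (.node 57966 (.node 57960 (.node 57957 (.node 57956 (.leaf 0x0) (.leaf 0x60506010500020007)) (.node 57958 (.leaf 0x0) (.node 57959 (.leaf 0x0) (.leaf 0xe266)))) (.node 57963 (.node 57961 (.leaf 0xb0b0a0a0004) (.node 57962 (.leaf 0x0) (.leaf 0xb0a0f0003))) (.node 57964 (.leaf 0x0) (.node 57965 (.leaf 0x0) (.leaf 0x101090009000703040103000b))))) (.node 57971 (.node 57968 (.node 57967 (.leaf 0x0) (.leaf 0xb0001)) (.node 57969 (.leaf 0x0) (.node 57970 (.leaf 0x20000030306040007) (.leaf 0x0)))) (.node 57974 (.node 57972 (.leaf 0xe0001) (.node 57973 (.leaf 0x0) (.leaf 0x2010307020600000703040103000d))) (.node 57975 (.leaf 0x0) (.node 57976 (.leaf 0xe0001) (.leaf 0x0))))))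

def argWS_5138 : Store := (.node 57988 (.node 57982 (.node 57979 (.node 57978 (.leaf 0xe27800e274) (.leaf 0xb0f0a0003)) (.node 57980 (.leaf 0x0) (.node 57981 (.leaf 0xe0a0002) (.leaf 0x0)))) (.node 57985 (.node 57983 (.leaf 0x0) (.node 57984 (.leaf 0x10700030306040007) (.leaf 0x0))) (.node 57986 (.leaf 0x0) (.node 57987 (.leaf 0xb0b0a0a0004) (.leaf 0xf0b0a0003))))) (.node 57994 (.node 57991 (.node 57989 (.leaf 0xe28300e282) (.node 57990 (.leaf 0xa0f0b0b0004) (.leaf 0x0))) (.node 57992 (.leaf 0x601020401050006) (.node 57993 (.leaf 0x0) (.leaf 0xd0001)))) (.node 57997 (.node 57995 (.leaf 0xb0a0f0003) (.node 57996 (.leaf 0xd0001) (.leaf 0xe28b))) (.node 57998 (.leaf 0x60501010904020802040105000c) (.node 57999 (.leaf 0x0) (.leaf 0xa0f0b0003))))))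

def argWS_5139 : Store := (.node 57977 argWS_5137 argWS_5138)

def argWS_5140 : Store := (.node 57955 argWS_5136 argWS_5139)

def argWS_5141 : Store := (.node 58011 (.node 58005 (.node 58002 (.node 58001 (.leaf 0x0) (.leaf 0xa0f0b0b0004)) (.node 58003 (.leaf 0x0) (.node 58004 (.leaf 0x0) (.leaf 0x2060102000003010802040105000d)))) (.node 58008 (.node 58006 (.leaf 0x0) (.node 58007 (.leaf 0xa0a0002) (.leaf 0x0))) (.node 58009 (.leaf 0x9010207030802040105000a) (.node 58010 (.leaf 0x0) (.leaf 0xf0b0b0a0a0005))))) (.node 58016 (.node 58013 (.node 58012 (.leaf 0x0) (.leaf 0xb0a0f0003)) (.node 58014 (.leaf 0xe29c00e29b) (.node 58015 (.leaf 0xf0b0b0a0004) (.leaf 0x0)))) (.node 58019 (.node 58017 (.leaf 0x10707020902000703040103000c) (.node 58018 (.leaf 0x0) (.leaf 0xb0f0a0003))) (.node 58020 (.leaf 0xb0f0a0003) (.node 58021 (.leaf 0xe2a3000b8f) (.leaf 0xf0001))))))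

def argWS_5142 : Store := (.node 58033 (.node 58027 (.node 58024 (.node 58023 (.leaf 0x0) (.leaf 0xe0a0002)) (.node 58025 (.leaf 0x0) (.node 58026 (.leaf 0x0) (.leaf 0x7030502000003010008)))) (.node 58030 (.node 58028 (.leaf 0x0) (.node 58029 (.leaf 0xe0001) (.leaf 0x0))) (.node 58031 (.leaf 0xe2ad) (.node 58032 (.leaf 0xb0b0a0003) (.leaf 0x0))))) (.node 58039 (.node 58036 (.node 58034 (.leaf 0x305070009030006) (.node 58035 (.leaf 0x0) (.leaf 0xe0a0a0003))) (.node 58037 (.leaf 0xf0a0002) (.node 58038 (.leaf 0xe2b400cd3f) (.leaf 0xa0f0b0b0004)))) (.node 58042 (.node 58040 (.leaf 0x0) (.node 58041 (.leaf 0xe0d0002) (.leaf 0x0))) (.node 58043 (.leaf 0x0) (.node 58044 (.leaf 0xe0a0002) (.leaf 0xf0b0002))))))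

def argWS_5143 : Store := (.node 58022 argWS_5141 argWS_5142)

def argWS_5144 : Store := (.node 58056 (.node 58050 (.node 58047 (.node 58046 (.leaf 0xe2bc) (.leaf 0xb0f0a0003)) (.node 58048 (.leaf 0x0) (.node 58049 (.leaf 0x30002000003010007) (.leaf 0x0)))) (.node 58053 (.node 58051 (.leaf 0xb0a0a0003) (.node 58052 (.leaf 0xe0a0a0003) (.leaf 0x801010900090202000701000b))) (.node 58054 (.leaf 0x0) (.node 58055 (.leaf 0xa0001) (.leaf 0x0))))) (.node 58061 (.node 58058 (.node 58057 (.leaf 0xe0a0002) (.leaf 0xe2c800e2c7)) (.node 58059 (.leaf 0xe0a0002) (.node 58060 (.leaf 0x0) (.leaf 0xd0b0002)))) (.node 58064 (.node 58062 (.leaf 0x0) (.node 58063 (.leaf 0x0) (.leaf 0x80006020702010007))) (.node 58065 (.leaf 0x0) (.node 58066 (.leaf 0xf0b0b0a0a0005) (.leaf 0x0))))))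

def argWS_5145 : Store := (.node 58078 (.node 58072 (.node 58069 (.node 58068 (.leaf 0x80003010102000007) (.leaf 0x0)) (.node 58070 (.leaf 0xa0001) (.node 58071 (.leaf 0x0) (.leaf 0xe2d6)))) (.node 58075 (.node 58073 (.leaf 0xb0b0a0a0004) (.node 58074 (.leaf 0x0) (.leaf 0x401020106060802040105000b))) (.node 58076 (.leaf 0x0) (.node 58077 (.leaf 0xa0a0002) (.leaf 0x0))))) (.node 58084 (.node 58081 (.node 58079 (.leaf 0xf0a0a0003) (.node 58080 (.leaf 0x403010703060006) (.leaf 0x0))) (.node 58082 (.leaf 0xe0a0002) (.node 58083 (.leaf 0x0) (.leaf 0x103030306040802040105000b)))) (.node 58087 (.node 58085 (.leaf 0x0) (.node 58086 (.leaf 0xf0a0002) (.leaf 0x0))) (.node 58088 (.leaf 0xe2e600e2e2) (.node 58089 (.leaf 0xa0f0002) (.leaf 0x0))))))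

def argWS_5146 : Store := (.node 58067 argWS_5144 argWS_5145)

def argWS_5147 : Store := (.node 58045 argWS_5143 argWS_5146)

def argWS_5148 : Store := (.node 58000 argWS_5140 argWS_5147)

def argWS_5149 : Store := (.node 57910 argWS_5133 argWS_5148)

def argWS_5150 : Store := (.node 58101 (.node 58095 (.node 58092 (.node 58091 (.leaf 0xf0a0a0003) (.leaf 0x0)) (.node 58093 (.leaf 0x0) (.node 58094 (.leaf 0x401090806000802040105000b) (.leaf 0x0)))) (.node 58098 (.node 58096 (.leaf 0x0) (.node 58097 (.leaf 0xe0001) (.leaf 0xe2f000e2ef))) (.node 58099 (.leaf 0xb0f0002) (.node 58100 (.leaf 0x0) (.leaf 0x6030102000003010802040105000d))))) (.node 58106 (.node 58103 (.node 58102 (.leaf 0x0) (.leaf 0xb0f0002)) (.node 58104 (.leaf 0xb0a0f0003) (.node 58105 (.leaf 0x305070206000202000701000b) (.leaf 0x0)))) (.node 58109 (.node 58107 (.leaf 0xb0f0a0003) (.node 58108 (.leaf 0x0) (.leaf 0xe2fb))) (.node 58110 (.leaf 0x0) (.node 58111 (.leaf 0x205050202020703040103000b)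 (.leaf 0x0))))))

def argWS_5151 : Store := (.node 58123 (.node 58117 (.node 58114 (.node 58113 (.leaf 0xf0b0002) (.leaf 0xb0b0002)) (.node 58115 (.leaf 0x700020804000802040105000c) (.node 58116 (.leaf 0x0) (.leaf 0xd0b0b0003)))) (.node 58120 (.node 58118 (.leaf 0x0) (.node 58119 (.leaf 0xe305) (.leaf 0xe0d0002))) (.node 58121 (.leaf 0x0) (.node 58122 (.leaf 0xf0a0a0003) (.leaf 0x0))))) (.node 58129 (.node 58126 (.node 58124 (.leaf 0x0) (.node 58125 (.leaf 0xd0b0b0003) (.leaf 0x1020106060005))) (.node 58127 (.leaf 0x0) (.node 58128 (.leaf 0xe0a0a0003) (.leaf 0x0)))) (.node 58132 (.node 58130 (.leaf 0xe310) (.node 58131 (.leaf 0xb0f0a0a0004) (.leaf 0x0))) (.node 58133 (.leaf 0xf0b0b0003) (.node 58134 (.leaf 0x0) (.leaf 0x0))))))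

def argWS_5152 : Store := (.node 58112 argWS_5150 argWS_5151)

def argWS_5153 : Store := (.node 58146 (.node 58140 (.node 58137 (.node 58136 (.leaf 0x20000020901060202000701000c) (.leaf 0x0)) (.node 58138 (.leaf 0xe0a0a0003) (.node 58139 (.leaf 0x0) (.leaf 0xf0a0a0003)))) (.node 58143 (.node 58141 (.leaf 0xe31b) (.node 58142 (.leaf 0xb0a0002) (.leaf 0x0))) (.node 58144 (.leaf 0x104000003030604000703040103000e) (.node 58145 (.leaf 0x0) (.leaf 0xa0f0b0b0004))))) (.node 58151 (.node 58148 (.node 58147 (.leaf 0xe0a0002) (.leaf 0xb0f0002)) (.node 58149 (.leaf 0xe323) (.node 58150 (.leaf 0xf0b0002) (.leaf 0x0)))) (.node 58154 (.node 58152 (.leaf 0xf0b0a0a0004) (.node 58153 (.leaf 0x0) (.leaf 0x0))) (.node 58155 (.leaf 0x20903010908050202000701000c) (.node 58156 (.leaf 0x0) (.leaf 0xf0b0a0a0004))))))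

def argWS_5154 : Store := (.node 58168 (.node 58162 (.node 58159 (.node 58158 (.leaf 0x0) (.leaf 0xb0f0a0003)) (.node 58160 (.leaf 0x205090806000802040105000b) (.node 58161 (.leaf 0x0) (.leaf 0xf0b0002)))) (.node 58165 (.node 58163 (.leaf 0x0) (.node 58164 (.leaf 0xe33200e32e) (.leaf 0xf0a0002))) (.node 58166 (.leaf 0x0) (.node 58167 (.leaf 0x102010703060006) (.leaf 0x0))))) (.node 58174 (.node 58171 (.node 58169 (.leaf 0xf0a0002) (.node 58170 (.leaf 0xe0a0a0003) (.leaf 0xa0f0002))) (.node 58172 (.leaf 0xf0001) (.node 58173 (.leaf 0xe33b00e33a) (.leaf 0xf0a0a0003)))) (.node 58177 (.node 58175 (.leaf 0x0) (.node 58176 (.leaf 0xa0001) (.leaf 0x0))) (.node 58178 (.leaf 0x0) (.node 58179 (.leaf 0x90503090000090007) (.leaf 0x0))))))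

def argWS_5155 : Store := (.node 58157 argWS_5153 argWS_5154)

def argWS_5156 : Store := (.node 58135 argWS_5152 argWS_5155)

def argWS_5157 : Store := (.node 58191 (.node 58185 (.node 58182 (.node 58181 (.leaf 0xe0d0002) (.leaf 0x0)) (.node 58183 (.leaf 0xa0a0002) (.node 58184 (.leaf 0xe346) (.leaf 0xb0a0f0003)))) (.node 58188 (.node 58186 (.leaf 0x0) (.node 58187 (.leaf 0x3010703060005) (.leaf 0x0))) (.node 58189 (.leaf 0xf0b0a0a0004) (.node 58190 (.leaf 0x6000007030401030008) (.leaf 0x0))))) (.node 58196 (.node 58193 (.node 58192 (.leaf 0xb0001) (.leaf 0x0)) (.node 58194 (.leaf 0xb0b0a0a0004) (.node 58195 (.leaf 0xe351) (.leaf 0xb0f0a0a0004)))) (.node 58199 (.node 58197 (.leaf 0x0) (.node 58198 (.leaf 0x7070209020802040105000a) (.leaf 0x0))) (.node 58200 (.leaf 0xb0a0f0003) (.node 58201 (.leaf 0xf0a0002) (.leaf 0x50201010908050802040105000c))))))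

def argWS_5158 : Store := (.node 58213 (.node 58207 (.node 58204 (.node 58203 (.leaf 0x0) (.leaf 0xd0b0002)) (.node 58205 (.leaf 0x0) (.node 58206 (.leaf 0x202000003030604000703040103000e) (.leaf 0x0)))) (.node 58210 (.node 58208 (.leaf 0x0) (.node 58209 (.leaf 0xd98800e35f) (.leaf 0xb0a0f0003))) (.node 58211 (.leaf 0x0) (.node 58212 (.leaf 0xf0b0b0003) (.leaf 0x0))))) (.node 58219 (.node 58216 (.node 58214 (.leaf 0x0) (.node 58215 (.leaf 0xf0a0002) (.leaf 0xa0f0b0b0004))) (.node 58217 (.leaf 0xe36700b713) (.node 58218 (.leaf 0x90009020007010007) (.leaf 0x0)))) (.node 58222 (.node 58220 (.leaf 0xb0f0002) (.node 58221 (.leaf 0x0) (.leaf 0xf0b0a0a0004))) (.node 58223 (.leaf 0x0) (.node 58224 (.leaf 0x0) (.leaf 0xe0001))))))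

def argWS_5159 : Store := (.node 58202 argWS_5157 argWS_5158)

def argWS_5160 : Store := (.node 58236 (.node 58230 (.node 58227 (.node 58226 (.leaf 0x90503090009000703040103000c) (.leaf 0x0)) (.node 58228 (.leaf 0xd0b0b0003) (.node 58229 (.leaf 0x0) (.leaf 0xb0f0002)))) (.node 58233 (.node 58231 (.leaf 0xe37500e374) (.node 58232 (.leaf 0xa0f0002) (.leaf 0x0))) (.node 58234 (.leaf 0xf0a0002) (.node 58235 (.leaf 0x0) (.leaf 0x0))))) (.node 58241 (.node 58238 (.node 58237 (.leaf 0xf0001) (.leaf 0xf0a0a0003)) (.node 58239 (.leaf 0x40300020804000202000701000c) (.node 58240 (.leaf 0x0) (.leaf 0xd0001)))) (.node 58244 (.node 58242 (.leaf 0x0) (.node 58243 (.leaf 0xe38100e37d) (.leaf 0xb0b0002))) (.node 58245 (.leaf 0x0) (.node 58246 (.leaf 0xf0b0b0003) (.leaf 0x0))))))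

def argWS_5161 : Store := (.node 58258 (.node 58252 (.node 58249 (.node 58248 (.leaf 0x0) (.leaf 0xf0b0b0a0004)) (.node 58250 (.leaf 0xb0a0a0003) (.node 58251 (.leaf 0xa0f0b0b0004) (.leaf 0xe38a00e389)))) (.node 58255 (.node 58253 (.leaf 0xe0001) (.node 58254 (.leaf 0x0) (.leaf 0xe0a0002))) (.node 58256 (.leaf 0x0) (.node 58257 (.leaf 0x0) (.leaf 0xb0b0a0a0004))))) (.node 58264 (.node 58261 (.node 58259 (.leaf 0x701010901090802040105000b) (.node 58260 (.leaf 0x0) (.leaf 0xb0a0002))) (.node 58262 (.leaf 0x0) (.node 58263 (.leaf 0xb0001) (.leaf 0xe39600e395)))) (.node 58267 (.node 58265 (.leaf 0xb0f0a0a0004) (.node 58266 (.leaf 0x0) (.leaf 0xe0001))) (.node 58268 (.leaf 0x0) (.node 58269 (.leaf 0x0) (.leaf 0xb0a0002))))))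

def argWS_5162 : Store := (.node 58247 argWS_5160 argWS_5161)

def argWS_5163 : Store := (.node 58225 argWS_5159 argWS_5162)

def argWS_5164 : Store := (.node 58180 argWS_5156 argWS_5163)

def argWS_5165 : Store := (.node 58281 (.node 58275 (.node 58272 (.node 58271 (.leaf 0xf0001) (.leaf 0xe39e00ab77)) (.node 58273 (.leaf 0xd0b0002) (.node 58274 (.leaf 0x0) (.leaf 0xe0a0a0003)))) (.node 58278 (.node 58276 (.leaf 0x0) (.node 58277 (.leaf 0x0) (.leaf 0xb0f0a0003))) (.node 58279 (.leaf 0x602020901060006) (.node 58280 (.leaf 0x0) (.leaf 0xb0a0a0003))))) (.node 58286 (.node 58283 (.node 58282 (.leaf 0x0) (.leaf 0xe3a9)) (.node 58284 (.leaf 0x6090806000802040105000a) (.node 58285 (.leaf 0x0) (.leaf 0xf0b0b0a0a0005)))) (.node 58289 (.node 58287 (.leaf 0x0) (.node 58288 (.leaf 0xb0a0f0003) (.leaf 0x0))) (.node 58290 (.leaf 0x0) (.node 58291 (.leaf 0xb0f0002) (.leaf 0xf0b0002))))))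

def argWS_5166 : Store := (.node 58303 (.node 58297 (.node 58294 (.node 58293 (.leaf 0xd32a00e3b3) (.leaf 0xf0b0b0a0004)) (.node 58295 (.leaf 0x0) (.node 58296 (.leaf 0xf0b0a0003) (.leaf 0x0)))) (.node 58300 (.node 58298 (.leaf 0x0) (.node 58299 (.leaf 0xa0f0002) (.leaf 0x104010908050202000701000b))) (.node 58301 (.leaf 0x0) (.node 58302 (.leaf 0xf0b0b0a0a0005) (.leaf 0x0))))) (.node 58309 (.node 58306 (.node 58304 (.leaf 0xe3be) (.node 58305 (.leaf 0xf0b0a0003) (.leaf 0x0))) (.node 58307 (.leaf 0x20206040004) (.node 58308 (.leaf 0x0) (.leaf 0xe0a0002)))) (.node 58312 (.node 58310 (.leaf 0xf0b0b0a0a0005) (.node 58311 (.leaf 0xf0a0002) (.leaf 0xe3c600e3c5))) (.node 58313 (.leaf 0xa0001) (.node 58314 (.leaf 0x0) (.leaf 0xb0b0a0003))))))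

def argWS_5167 : Store := (.node 58292 argWS_5165 argWS_5166)

def argWS_5168 : Store := (.node 58326 (.node 58320 (.node 58317 (.node 58316 (.leaf 0x0) (.leaf 0x0)) (.node 58318 (.leaf 0x10205020604000703040103000c) (.node 58319 (.leaf 0x0) (.leaf 0x0)))) (.node 58323 (.node 58321 (.leaf 0xf0001) (.node 58322 (.leaf 0xe3d000e3cf) (.leaf 0xe0d0002))) (.node 58324 (.leaf 0x0) (.node 58325 (.leaf 0x907020106060202000701000b) (.leaf 0x0))))) (.node 58331 (.node 58328 (.node 58327 (.leaf 0xf0a0a0003) (.leaf 0xa0a0002)) (.node 58329 (.leaf 0xe0001) (.node 58330 (.leaf 0xa0f0b0b0004) (.leaf 0xe3d900e3d8)))) (.node 58334 (.node 58332 (.leaf 0xf0001) (.node 58333 (.leaf 0x0) (.leaf 0xa0001))) (.node 58335 (.leaf 0x0) (.node 58336 (.leaf 0x0) (.leaf 0xb0f0a0a0004))))))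

def argWS_5169 : Store := (.node 58348 (.node 58342 (.node 58339 (.node 58338 (.leaf 0xe0d0002) (.leaf 0xe3e1)) (.node 58340 (.leaf 0x30703010102000202000701000c) (.node 58341 (.leaf 0x0) (.leaf 0xf0b0b0003)))) (.node 58345 (.node 58343 (.leaf 0x0) (.node 58344 (.leaf 0xb0a0f0003) (.leaf 0x0))) (.node 58346 (.leaf 0x0) (.node 58347 (.leaf 0xb0a0a0003) (.leaf 0x30403090806000802040105000c))))) (.node 58354 (.node 58351 (.node 58349 (.leaf 0x0) (.node 58350 (.leaf 0xf0b0b0a0004) (.leaf 0x0))) (.node 58352 (.leaf 0x10301090109000703040103000c) (.node 58353 (.leaf 0x0) (.leaf 0xd0b0b0003)))) (.node 58357 (.node 58355 (.leaf 0x0) (.node 58356 (.leaf 0xe3f200e3ee) (.leaf 0xf0b0a0003))) (.node 58358 (.leaf 0x0) (.node 58359 (.leaf 0xa0001) (.leaf 0x0))))))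

def argWS_5170 : Store := (.node 58337 argWS_5168 argWS_5169)

def argWS_5171 : Store := (.node 58315 argWS_5167 argWS_5170)

def argWS_5172 : Store := (.node 58371 (.node 58365 (.node 58362 (.node 58361 (.leaf 0x0) (.leaf 0x6000007000902000701000a)) (.node 58363 (.leaf 0x0) (.node 58364 (.leaf 0xb0a0f0003) (.leaf 0x0)))) (.node 58368 (.node 58366 (.leaf 0xb0b0002) (.node 58367 (.leaf 0x1090000090202000701000a) (.leaf 0x0))) (.node 58369 (.leaf 0xa0f0b0003) (.node 58370 (.leaf 0x0) (.leaf 0xe40100e3fd))))) (.node 58376 (.node 58373 (.node 58372 (.leaf 0xb0f0a0003) (.leaf 0x0)) (.node 58374 (.leaf 0x10400000300000202000701000c) (.node 58375 (.leaf 0x0) (.leaf 0xf0b0b0a0004)))) (.node 58379 (.node 58377 (.leaf 0xa0f0b0003) (.node 58378 (.leaf 0x0) (.leaf 0xf0b0b0a0a0005))) (.node 58380 (.leaf 0x8000402020007010008) (.node 58381 (.leaf 0x0) (.leaf 0xd0b0002))))))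

def argWS_5173 : Store := (.node 58393 (.node 58387 (.node 58384 (.node 58383 (.leaf 0x0) (.leaf 0xf0001)) (.node 58385 (.leaf 0xe40f00e40e) (.node 58386 (.leaf 0x0) (.leaf 0xb0b0002)))) (.node 58390 (.node 58388 (.leaf 0x0) (.node 58389 (.leaf 0x0) (.leaf 0x2010400050202000701000a))) (.node 58391 (.leaf 0x0) (.node 58392 (.leaf 0xf0b0002) (.leaf 0x0))))) (.node 58399 (.node 58396 (.node 58394 (.leaf 0xf0b0b0a0004) (.node 58395 (.leaf 0x0) (.leaf 0x304090206020202000701000b))) (.node 58397 (.leaf 0x0) (.node 58398 (.leaf 0xf0a0a0003) (.leaf 0x0)))) (.node 58402 (.node 58400 (.leaf 0xe41e00e41a) (.node 58401 (.leaf 0x0) (.leaf 0xf0b0b0003))) (.node 58403 (.leaf 0x0) (.node 58404 (.leaf 0x0) (.leaf 0xb0001))))))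

def argWS_5174 : Store := (.node 58382 argWS_5172 argWS_5173)

def argWS_5175 : Store := (.node 58416 (.node 58410 (.node 58407 (.node 58406 (.leaf 0xe0d0002) (.leaf 0xf0b0002)) (.node 58408 (.leaf 0xe42600e425) (.node 58409 (.leaf 0xb0f0002) (.leaf 0x0)))) (.node 58413 (.node 58411 (.leaf 0xa0a0002) (.node 58412 (.leaf 0x0) (.leaf 0x0))) (.node 58414 (.leaf 0x9070209020202000701000a) (.node 58415 (.leaf 0x0) (.leaf 0x0))))) (.node 58422 (.node 58419 (.node 58417 (.leaf 0xb0b0a0003) (.node 58418 (.leaf 0x404090806000202000701000b) (.leaf 0x0))) (.node 58420 (.leaf 0xa0f0b0003) (.node 58421 (.leaf 0x0) (.leaf 0xe43400e430)))) (.node 58425 (.node 58423 (.leaf 0xb0a0a0003) (.node 58424 (.leaf 0x0) (.leaf 0xa0001))) (.node 58426 (.leaf 0x0) (.node 58427 (.leaf 0x0) (.leaf 0x306020702010802040105000c))))))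

def argWS_5176 : Store := (.node 58439 (.node 58433 (.node 58430 (.node 58429 (.leaf 0x0) (.leaf 0xa0f0002)) (.node 58431 (.leaf 0x0) (.node 58432 (.leaf 0xe0d0002) (.leaf 0xe43f)))) (.node 58436 (.node 58434 (.leaf 0xf0a0002) (.node 58435 (.leaf 0x0) (.leaf 0x70409080600000703040103000c))) (.node 58437 (.leaf 0x0) (.node 58438 (.leaf 0xa0f0b0003) (.leaf 0xb0f0a0003))))) (.node 58445 (.node 58442 (.node 58440 (.leaf 0xa0a0002) (.node 58441 (.leaf 0x202000002080400000703040103000e) (.leaf 0x0))) (.node 58443 (.leaf 0xf0001) (.node 58444 (.leaf 0x0) (.leaf 0xe44b00e447)))) (.node 58448 (.node 58446 (.leaf 0xd0001) (.node 58447 (.leaf 0x0) (.leaf 0x90103080004))) (.node 58449 (.leaf 0x0) (.node 58450 (.leaf 0xe0a0002) (.leaf 0xf0b0002))))))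

def argWS_5177 : Store := (.node 58428 argWS_5175 argWS_5176)

def argWS_5178 : Store := (.node 58405 argWS_5174 argWS_5177)

def argWS_5179 : Store := (.node 58360 argWS_5171 argWS_5178)

def argWS_5180 : Store := (.node 58270 argWS_5164 argWS_5179)

def argWS_5181 : Store := (.node 58090 argWS_5149 argWS_5180)

def argWS_5182 : Store := (.node 58462 (.node 58456 (.node 58453 (.node 58452 (.leaf 0x307000009020602000703040103000e) (.leaf 0x0)) (.node 58454 (.leaf 0xb0b0a0a0004) (.node 58455 (.leaf 0x0) (.leaf 0xe456)))) (.node 58459 (.node 58457 (.leaf 0xf0a0a0003) (.node 58458 (.leaf 0x0) (.leaf 0x907050202020703040103000b))) (.node 58460 (.leaf 0x0) (.node 58461 (.leaf 0xa0f0b0b0004) (.leaf 0xb0b0a0a0004))))) (.node 58467 (.node 58464 (.node 58463 (.leaf 0x0) (.leaf 0x701020804000006)) (.node 58465 (.leaf 0x0) (.node 58466 (.leaf 0xf0a0a0003) (.leaf 0x0)))) (.node 58470 (.node 58468 (.leaf 0xe46200e45e) (.node 58469 (.leaf 0xb0f0a0003) (.leaf 0x0)))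 (.node 58471 (.leaf 0xf0b0a0003) (.node 58472 (.leaf 0x0) (.leaf 0x0))))))

def argWS_5183 : Store := (.node 58484 (.node 58478 (.node 58475 (.node 58474 (.leaf 0xe0a0002) (.leaf 0x7020207030802040105000a)) (.node 58476 (.leaf 0x0) (.node 58477 (.leaf 0xe0a0002) (.leaf 0x0)))) (.node 58481 (.node 58479 (.leaf 0xe46d) (.node 58480 (.leaf 0xf0b0a0a0004) (.leaf 0x0))) (.node 58482 (.leaf 0xa0a0002) (.node 58483 (.leaf 0x0) (.leaf 0x0))))) (.node 58490 (.node 58487 (.node 58485 (.leaf 0x8000400020804000008) (.node 58486 (.leaf 0x0) (.leaf 0xb0001))) (.node 58488 (.leaf 0x0) (.node 58489 (.leaf 0x109000902020007010009) (.leaf 0x0)))) (.node 58493 (.node 58491 (.leaf 0xd0001) (.node 58492 (.leaf 0x0) (.leaf 0x40003010703060802040105000c))) (.node 58494 (.leaf 0x0) (.node 58495 (.leaf 0xa0f0002) (.leaf 0x0))))))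

def argWS_5184 : Store := (.node 58473 argWS_5182 argWS_5183)

def argWS_5185 : Store := (.node 58507 (.node 58501 (.node 58498 (.node 58497 (.leaf 0xe47f00e47b) (.leaf 0xa0a0002)) (.node 58499 (.leaf 0x0) (.node 58500 (.leaf 0x200000300000802040105000b) (.leaf 0x0)))) (.node 58504 (.node 58502 (.leaf 0xb0b0002) (.node 58503 (.leaf 0xa0f0b0003) (.leaf 0xb0f0002))) (.node 58505 (.leaf 0xe48700636d) (.node 58506 (.leaf 0xa0f0002) (.leaf 0x0))))) (.node 58512 (.node 58509 (.node 58508 (.leaf 0xb0b0a0003) (.leaf 0x0)) (.node 58510 (.leaf 0x0) (.node 58511 (.leaf 0xb0b0a0003) (.leaf 0xa0001)))) (.node 58515 (.node 58513 (.leaf 0x7000000030306040202000701000d) (.node 58514 (.leaf 0x0) (.leaf 0xb0a0a0003))) (.node 58516 (.leaf 0x0) (.node 58517 (.leaf 0xe49300e48f) (.leaf 0x6020702010006))))))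

def argWS_5186 : Store := (.node 58529 (.node 58523 (.node 58520 (.node 58519 (.leaf 0x0) (.leaf 0xb0b0a0a0004)) (.node 58521 (.leaf 0x0) (.node 58522 (.leaf 0xa0f0b0b0004) (.leaf 0x0)))) (.node 58526 (.node 58524 (.leaf 0x0) (.node 58525 (.leaf 0xb0f0a0003) (.leaf 0xf0b0002))) (.node 58527 (.leaf 0xe49d) (.node 58528 (.leaf 0x702090000090006) (.leaf 0x0))))) (.node 58535 (.node 58532 (.node 58530 (.leaf 0xf0a0a0003) (.node 58531 (.leaf 0x0) (.leaf 0xe0d0002))) (.node 58533 (.leaf 0x0) (.node 58534 (.leaf 0x0) (.leaf 0x10102000004)))) (.node 58538 (.node 58536 (.leaf 0x0) (.node 58537 (.leaf 0xb0a0a0003) (.leaf 0x0))) (.node 58539 (.leaf 0x30106030500040007) (.node 58540 (.leaf 0x0) (.leaf 0xf0b0b0003))))))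

def argWS_5187 : Store := (.node 58518 argWS_5185 argWS_5186)

def argWS_5188 : Store := (.node 58496 argWS_5184 argWS_5187)

def argWS_5189 : Store := (.node 58552 (.node 58546 (.node 58543 (.node 58542 (.leaf 0x0) (.leaf 0xe4ad)) (.node 58544 (.leaf 0xb0b0a0a0004) (.node 58545 (.leaf 0x0) (.leaf 0x50200020106060802040105000c)))) (.node 58549 (.node 58547 (.leaf 0x0) (.node 58548 (.leaf 0xf0b0b0a0004) (.leaf 0x501010908050802040105000b))) (.node 58550 (.leaf 0x0) (.node 58551 (.leaf 0xa0f0002) (.leaf 0x0))))) (.node 58557 (.node 58554 (.node 58553 (.leaf 0xe0a0002) (.leaf 0x70000050206040202000701000c)) (.node 58555 (.leaf 0x0) (.node 58556 (.leaf 0xa0a0002) (.leaf 0x0)))) (.node 58560 (.node 58558 (.leaf 0xe4bc00e4b8) (.node 58559 (.leaf 0xa0a0002) (.leaf 0x0))) (.node 58561 (.leaf 0x20002010606000703040103000c) (.node 58562 (.leaf 0x0) (.leaf 0xa0f0b0b0004))))))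

def argWS_5190 : Store := (.node 58574 (.node 58568 (.node 58565 (.node 58564 (.leaf 0xa0f0002) (.leaf 0x2090303010102000008)) (.node 58566 (.leaf 0x0) (.node 58567 (.leaf 0xa0f0b0b0004) (.leaf 0x0)))) (.node 58571 (.node 58569 (.leaf 0x9010904020202000701000a) (.node 58570 (.leaf 0x0) (.leaf 0xb0b0a0a0004))) (.node 58572 (.leaf 0x0) (.node 58573 (.leaf 0xe4cb00e4c7) (.leaf 0xa0f0b0b0004))))) (.node 58580 (.node 58577 (.node 58575 (.leaf 0x0) (.node 58576 (.leaf 0xb0f0a0003) (.leaf 0x0))) (.node 58578 (.leaf 0x2000000030306040802040105000d) (.node 58579 (.leaf 0x0) (.leaf 0xb0f0a0003)))) (.node 58583 (.node 58581 (.leaf 0x0) (.node 58582 (.leaf 0xe0d0002) (.leaf 0xe4d5))) (.node 58584 (.leaf 0xf0001) (.node 58585 (.leaf 0x0) (.leaf 0xb0a0f0003))))))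

def argWS_5191 : Store := (.node 58563 argWS_5189 argWS_5190)

def argWS_5192 : Store := (.node 58597 (.node 58591 (.node 58588 (.node 58587 (.leaf 0x0) (.leaf 0x0)) (.node 58589 (.leaf 0xf0b0a0003) (.node 58590 (.leaf 0x1090301090402000703040103000d) (.leaf 0x0)))) (.node 58594 (.node 58592 (.leaf 0xb0f0a0a0004) (.node 58593 (.leaf 0x0) (.leaf 0x400090000090802040105000b))) (.node 58595 (.leaf 0x0) (.node 58596 (.leaf 0xb0a0002) (.leaf 0x0))))) (.node 58602 (.node 58599 (.node 58598 (.leaf 0xe4e400e4e0) (.leaf 0xd0b0002)) (.node 58600 (.leaf 0x0) (.node 58601 (.leaf 0xa0001) (.leaf 0x0)))) (.node 58605 (.node 58603 (.leaf 0x0) (.node 58604 (.leaf 0xf0a0002) (.leaf 0x502040807030401030009))) (.node 58606 (.leaf 0x0) (.node 58607 (.leaf 0xb0b0a0a0004) (.leaf 0x0))))))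

def argWS_5193 : Store := (.node 58619 (.node 58613 (.node 58610 (.node 58609 (.leaf 0x4e7900e4ef) (.leaf 0x40004010904020802040105000c)) (.node 58611 (.leaf 0x0) (.node 58612 (.leaf 0xf0b0a0003) (.leaf 0x0)))) (.node 58616 (.node 58614 (.leaf 0xb0a0f0003) (.node 58615 (.leaf 0x0) (.leaf 0x0))) (.node 58617 (.leaf 0xa0a0002) (.node 58618 (.leaf 0x7000006030500040008) (.leaf 0x0))))) (.node 58625 (.node 58622 (.node 58620 (.leaf 0xb0a0002) (.node 58621 (.leaf 0x0) (.leaf 0xb0a0a0003))) (.node 58623 (.leaf 0xe4fd00e4fc) (.node 58624 (.leaf 0xf0b0a0a0004) (.leaf 0x0)))) (.node 58628 (.node 58626 (.leaf 0xd0b0b0003) (.node 58627 (.leaf 0x0) (.leaf 0x0))) (.node 58629 (.leaf 0x201010606000703040103000b) (.node 58630 (.leaf 0x0) (.leaf 0xb0b0a0a0004))))))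

def argWS_5194 : Store := (.node 58608 argWS_5192 argWS_5193)

def argWS_5195 : Store := (.node 58586 argWS_5191 argWS_5194)

def argWS_5196 : Store := (.node 58541 argWS_5188 argWS_5195)

def argWS_5197 : Store := (.node 58642 (.node 58636 (.node 58633 (.node 58632 (.leaf 0x0) (.leaf 0xd0b0002)) (.node 58634 (.leaf 0xe0a0a0003) (.node 58635 (.leaf 0xe50900e508) (.leaf 0xb0f0002)))) (.node 58639 (.node 58637 (.leaf 0x0) (.node 58638 (.leaf 0xa0001) (.leaf 0x0))) (.node 58640 (.leaf 0x0) (.node 58641 (.leaf 0xe0d0002) (.leaf 0x70305070009030802040105000c))))) (.node 58647 (.node 58644 (.node 58643 (.leaf 0x0) (.leaf 0xf0b0b0003)) (.node 58645 (.leaf 0x0) (.node 58646 (.leaf 0xb0b0a0a0004) (.leaf 0xe51500e514)))) (.node 58650 (.node 58648 (.leaf 0xd0b0b0003) (.node 58649 (.leaf 0x0) (.leaf 0xf0a0002))) (.node 58651 (.leaf 0x0) (.node 58652 (.leaf 0x0) (.leaf 0xe0d0002))))))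

def argWS_5198 : Store := (.node 58664 (.node 58658 (.node 58655 (.node 58654 (.leaf 0xe0d0002) (.leaf 0x300090000090802040105000b)) (.node 58656 (.leaf 0x0) (.node 58657 (.leaf 0xf0a0002) (.leaf 0x0)))) (.node 58661 (.node 58659 (.leaf 0xe52100e51d) (.node 58660 (.leaf 0xd0001) (.leaf 0x0))) (.node 58662 (.leaf 0xf0b0a0003) (.node 58663 (.leaf 0x0) (.leaf 0x0))))) (.node 58670 (.node 58667 (.node 58665 (.leaf 0xb0a0f0003) (.node 58666 (.leaf 0xf0b0a0003) (.leaf 0xe52900e528))) (.node 58668 (.leaf 0xb0a0002) (.node 58669 (.leaf 0x0) (.leaf 0x20008020401050008)))) (.node 58673 (.node 58671 (.leaf 0x0) (.node 58672 (.leaf 0xa0001) (.leaf 0xb0f0002))) (.node 58674 (.leaf 0xe0a0002) (.node 58675 (.leaf 0x307010904020802040105000b) (.leaf 0x0))))))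

def argWS_5199 : Store := (.node 58653 argWS_5197 argWS_5198)

def argWS_5200 : Store := (.node 58687 (.node 58681 (.node 58678 (.node 58677 (.leaf 0x0) (.leaf 0xe53400e531)) (.node 58679 (.leaf 0xf0b0b0a0004) (.node 58680 (.leaf 0x0) (.leaf 0xb0a0a0003)))) (.node 58684 (.node 58682 (.leaf 0x0) (.node 58683 (.leaf 0x0) (.leaf 0xb0b0a0a0004))) (.node 58685 (.leaf 0xe0a0a0003) (.node 58686 (.leaf 0x1070009000009000703040103000d) (.leaf 0x0))))) (.node 58692 (.node 58689 (.node 58688 (.leaf 0xb0a0a0003) (.leaf 0x0)) (.node 58690 (.leaf 0xe54000e53c) (.node 58691 (.leaf 0x90700020106060802040105000c) (.leaf 0x0)))) (.node 58695 (.node 58693 (.leaf 0xf0b0b0a0a0005) (.node 58694 (.leaf 0x0) (.leaf 0xf0b0a0003))) (.node 58696 (.leaf 0x0) (.node 58697 (.leaf 0x0) (.leaf 0xa0a0002))))))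

def argWS_5201 : Store := (.node 58709 (.node 58703 (.node 58700 (.node 58699 (.leaf 0xf0b0b0a0004) (.leaf 0x207070206000006)) (.node 58701 (.leaf 0x0) (.node 58702 (.leaf 0xa0f0b0003) (.leaf 0x0)))) (.node 58706 (.node 58704 (.leaf 0xe54e00e54a) (.node 58705 (.leaf 0xa0f0b0b0004) (.leaf 0x0))) (.node 58707 (.leaf 0x80500020901060802040105000c) (.node 58708 (.leaf 0x0) (.leaf 0xf0001))))) (.node 58715 (.node 58712 (.node 58710 (.leaf 0xe0a0a0003) (.node 58711 (.leaf 0xe0a0002) (.leaf 0xe55600e555))) (.node 58713 (.leaf 0xf0a0a0003) (.node 58714 (.leaf 0x0) (.leaf 0xf0b0a0a0004)))) (.node 58718 (.node 58716 (.leaf 0x0) (.node 58717 (.leaf 0x0) (.leaf 0xa0a0002))) (.node 58719 (.leaf 0xe0a0002) (.node 58720 (.leaf 0xb0b0002) (.leaf 0xe55f00e55e))))))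

def argWS_5202 : Store := (.node 58698 argWS_5200 argWS_5201)

def argWS_5203 : Store := (.node 58676 argWS_5199 argWS_5202)

def argWS_5204 : Store := (.node 58732 (.node 58726 (.node 58723 (.node 58722 (.leaf 0xf0b0b0a0a0005) (.leaf 0x0)) (.node 58724 (.leaf 0xe0d0002) (.node 58725 (.leaf 0x0) (.leaf 0x0)))) (.node 58729 (.node 58727 (.leaf 0xb0a0f0003) (.node 58728 (.leaf 0xb0b0a0a0004) (.leaf 0xe56700e566))) (.node 58730 (.leaf 0xb0b0a0a0004) (.node 58731 (.leaf 0x0) (.leaf 0xa0f0002))))) (.node 58737 (.node 58734 (.node 58733 (.leaf 0x0) (.leaf 0x0)) (.node 58735 (.leaf 0x30601050002000703040103000d) (.node 58736 (.leaf 0x0) (.leaf 0xb0b0002)))) (.node 58740 (.node 58738 (.leaf 0x0) (.node 58739 (.leaf 0xe571000f70) (.leaf 0xe0a0a0003))) (.node 58741 (.leaf 0x0) (.node 58742 (.leaf 0xb0f0a0003) (.leaf 0x0))))))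

def argWS_5205 : Store := (.node 58754 (.node 58748 (.node 58745 (.node 58744 (.leaf 0x0) (.leaf 0x2000000030306040802040105000d)) (.node 58746 (.leaf 0x0) (.node 58747 (.leaf 0xf0a0a0003) (.leaf 0x0)))) (.node 58751 (.node 58749 (.leaf 0x9010601050002000703040103000d) (.node 58750 (.leaf 0x0) (.leaf 0xa0f0002))) (.node 58752 (.leaf 0x0) (.node 58753 (.leaf 0xe57f) (.leaf 0xf0b0b0a0004))))) (.node 58760 (.node 58757 (.node 58755 (.leaf 0x0) (.node 58756 (.leaf 0x4030400020804000008) (.leaf 0x0))) (.node 58758 (.leaf 0xb0001) (.node 58759 (.leaf 0xf0001) (.leaf 0x204090009000703040103000b)))) (.node 58763 (.node 58761 (.leaf 0x0) (.node 58762 (.leaf 0xf0b0b0003) (.leaf 0x0))) (.node 58764 (.leaf 0x2050209080600000703040103000d) (.node 58765 (.leaf 0x0) (.leaf 0x0))))))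

def argWS_5206 : Store := (.node 58743 argWS_5204 argWS_5205)

def argWS_5207 : Store := (.node 58777 (.node 58771 (.node 58768 (.node 58767 (.leaf 0xe58d00e58a) (.leaf 0x9030007000902000701000a)) (.node 58769 (.leaf 0x0) (.node 58770 (.leaf 0xa0f0b0003) (.leaf 0x0)))) (.node 58774 (.node 58772 (.leaf 0xa0f0002) (.node 58773 (.leaf 0x0) (.leaf 0x0))) (.node 58775 (.leaf 0x104070009030006) (.node 58776 (.leaf 0x0) (.leaf 0xf0a0a0003))))) (.node 58783 (.node 58780 (.node 58778 (.leaf 0x0) (.node 58779 (.leaf 0xf0001) (.leaf 0xe47000e59a))) (.node 58781 (.leaf 0xa0f0b0003) (.node 58782 (.leaf 0x0) (.leaf 0x900090109000703040103000c)))) (.node 58786 (.node 58784 (.leaf 0x0) (.node 58785 (.leaf 0xf0a0002) (.leaf 0x0))) (.node 58787 (.leaf 0x0) (.node 58788 (.leaf 0x0) (.leaf 0xa0001))))))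

def argWS_5208 : Store := (.node 58800 (.node 58794 (.node 58791 (.node 58790 (.leaf 0x907040005000703040103000b) (.leaf 0x0)) (.node 58792 (.leaf 0xf0001) (.node 58793 (.leaf 0x0) (.leaf 0xf0a0002)))) (.node 58797 (.node 58795 (.leaf 0xe5a900e5a8) (.node 58796 (.leaf 0x10301070009030007) (.leaf 0x0))) (.node 58798 (.leaf 0xa0f0b0b0004) (.node 58799 (.leaf 0x0) (.leaf 0xd0b0002))))) (.node 58806 (.node 58803 (.node 58801 (.leaf 0x0) (.node 58802 (.leaf 0x0) (.leaf 0xe0a0002))) (.node 58804 (.leaf 0x5020102020900000202000701000d) (.node 58805 (.leaf 0x0) (.leaf 0xb0f0a0003)))) (.node 58809 (.node 58807 (.leaf 0x0) (.node 58808 (.leaf 0x0) (.leaf 0xe5b700e5b6))) (.node 58810 (.leaf 0xb0b0a0003) (.node 58811 (.leaf 0x0) (.leaf 0x0))))))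

def argWS_5209 : Store := (.node 58789 argWS_5207 argWS_5208)

def argWS_5210 : Store := (.node 58766 argWS_5206 argWS_5209)

def argWS_5211 : Store := (.node 58721 argWS_5203 argWS_5210)

def argWS_5212 : Store := (.node 58631 argWS_5196 argWS_5211)

def argWS_5213 : Store := (.node 58823 (.node 58817 (.node 58814 (.node 58813 (.leaf 0xf0b0a0a0004) (.leaf 0xb0a0a0003)) (.node 58815 (.leaf 0xf0a0a0003) (.node 58816 (.leaf 0xe5be00e5bd) (.leaf 0xf0a0a0003)))) (.node 58820 (.node 58818 (.leaf 0x0) (.node 58819 (.leaf 0xb0f0a0003) (.leaf 0x0))) (.node 58821 (.leaf 0x0) (.node 58822 (.leaf 0xe0d0002) (.leaf 0xb0f0a0003))))) (.node 58828 (.node 58825 (.node 58824 (.leaf 0xd0001) (.leaf 0x103090806000006)) (.node 58826 (.leaf 0x0) (.node 58827 (.leaf 0xb0a0f0003) (.leaf 0x0)))) (.node 58831 (.node 58829 (.leaf 0x1070000020804000202000701000d) (.node 58830 (.leaf 0x0) (.leaf 0xa0f0b0003))) (.node 58832 (.leaf 0x0) (.node 58833 (.leaf 0xe5cf00e5cb) (.leaf 0x2020000000300000802040105000d))))))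

def argWS_5214 : Store := (.node 58845 (.node 58839 (.node 58836 (.node 58835 (.leaf 0x0) (.leaf 0xf0001)) (.node 58837 (.leaf 0x0) (.node 58838 (.leaf 0xb0a0a0003) (.leaf 0x0)))) (.node 58842 (.node 58840 (.leaf 0x0) (.node 58841 (.leaf 0xa0a0002) (.leaf 0xf0b0b0a0004))) (.node 58843 (.leaf 0xf0a0a0003) (.node 58844 (.leaf 0xe5da00e5d9) (.leaf 0xb0b0002))))) (.node 58851 (.node 58848 (.node 58846 (.leaf 0x0) (.node 58847 (.leaf 0xe0a0a0003) (.leaf 0x0))) (.node 58849 (.leaf 0x0) (.node 58850 (.leaf 0xb0001) (.leaf 0xf0b0b0a0a0005)))) (.node 58854 (.node 58852 (.leaf 0xd0b0b0003) (.node 58853 (.leaf 0xe5e3) (.leaf 0xd0b0002))) (.node 58855 (.leaf 0x0) (.node 58856 (.leaf 0xa0001) (.leaf 0x0))))))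

def argWS_5215 : Store := (.node 58834 argWS_5213 argWS_5214)

def argWS_5216 : Store := (.node 58868 (.node 58862 (.node 58859 (.node 58858 (.leaf 0x0) (.leaf 0x10502010904020202000701000c)) (.node 58860 (.leaf 0x0) (.node 58861 (.leaf 0xe0a0a0003) (.leaf 0x0)))) (.node 58865 (.node 58863 (.leaf 0xe0a0002) (.node 58864 (.leaf 0xe5ee00e5ed) (.leaf 0xa0f0b0003))) (.node 58866 (.leaf 0x0) (.node 58867 (.leaf 0xb0f0002) (.leaf 0x0))))) (.node 58873 (.node 58870 (.node 58869 (.leaf 0x0) (.leaf 0xa0f0b0003)) (.node 58871 (.leaf 0x704080102020007010009) (.node 58872 (.leaf 0x0) (.leaf 0xe0001)))) (.node 58876 (.node 58874 (.leaf 0x0) (.node 58875 (.leaf 0xb0b0a0003) (.leaf 0xe5fa00e5f9))) (.node 58877 (.leaf 0x20601050002000703040103000c) (.node 58878 (.leaf 0x0) (.leaf 0x0))))))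

def argWS_5217 : Store := (.node 58890 (.node 58884 (.node 58881 (.node 58880 (.leaf 0xf0b0a0a0004) (.leaf 0x0)) (.node 58882 (.leaf 0x0) (.node 58883 (.leaf 0x103010901090802040105000b) (.leaf 0x0)))) (.node 58887 (.node 58885 (.leaf 0xb0a0a0003) (.node 58886 (.leaf 0x0) (.leaf 0xb0f0a0003))) (.node 58888 (.leaf 0xe60600e605) (.node 58889 (.leaf 0xf0a0002) (.leaf 0x0))))) (.node 58896 (.node 58893 (.node 58891 (.leaf 0xf0b0b0003) (.node 58892 (.leaf 0x0) (.leaf 0x0))) (.node 58894 (.leaf 0xe0a0002) (.node 58895 (.leaf 0xb0f0a0a0004) (.leaf 0xe60e)))) (.node 58899 (.node 58897 (.leaf 0x404010703060006) (.node 58898 (.leaf 0x0) (.leaf 0xb0f0a0003))) (.node 58900 (.leaf 0x0) (.node 58901 (.leaf 0xb0b0a0a0004) (.leaf 0x0))))))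

def argWS_5218 : Store := (.node 58879 argWS_5216 argWS_5217)

def argWS_5219 : Store := (.node 58857 argWS_5215 argWS_5218)

def argWS_5220 : Store := (.node 58913 (.node 58907 (.node 58904 (.node 58903 (.leaf 0x0) (.leaf 0xf0b0a0003)) (.node 58905 (.leaf 0x503070206000202000701000c) (.node 58906 (.leaf 0x0) (.leaf 0xb0b0a0a0004)))) (.node 58910 (.node 58908 (.leaf 0x0) (.node 58909 (.leaf 0xb0001) (.leaf 0xd0b0b0003))) (.node 58911 (.leaf 0xe61d00e61c) (.node 58912 (.leaf 0xf0b0b0a0004) (.leaf 0x0))))) (.node 58918 (.node 58915 (.node 58914 (.leaf 0xa0f0002) (.leaf 0x0)) (.node 58916 (.leaf 0x0) (.node 58917 (.leaf 0xf0b0a0003) (.leaf 0xf0b0b0a0004)))) (.node 58921 (.node 58919 (.leaf 0xf0a0002) (.node 58920 (.leaf 0xb0b0a0003) (.leaf 0xf0b0b0a0a0005))) (.node 58922 (.leaf 0xe62800e627) (.node 58923 (.leaf 0x3030007030401030008) (.leaf 0x0))))))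

def argWS_5221 : Store := (.node 58935 (.node 58929 (.node 58926 (.node 58925 (.leaf 0xf0a0a0003) (.leaf 0x0)) (.node 58927 (.leaf 0xf0a0002) (.node 58928 (.leaf 0x0) (.leaf 0x0)))) (.node 58932 (.node 58930 (.leaf 0xe0a0a0003) (.node 58931 (.leaf 0xe0001) (.leaf 0xa0001))) (.node 58933 (.leaf 0xe633) (.node 58934 (.leaf 0x6030102000003010008) (.leaf 0x0))))) (.node 58941 (.node 58938 (.node 58936 (.leaf 0xa0f0b0003) (.node 58937 (.leaf 0x0) (.leaf 0xb0a0a0003))) (.node 58939 (.leaf 0x0) (.node 58940 (.leaf 0x0) (.leaf 0x80502020007010008)))) (.node 58944 (.node 58942 (.leaf 0x0) (.node 58943 (.leaf 0xf0a0002) (.leaf 0x0))) (.node 58945 (.leaf 0xb0a0002) (.node 58946 (.leaf 0xe64000e63f) (.leaf 0xb0b0002))))))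

def argWS_5222 : Store := (.node 58924 argWS_5220 argWS_5221)

def argWS_5223 : Store := (.node 58958 (.node 58952 (.node 58949 (.node 58948 (.leaf 0x0) (.leaf 0xd0001)) (.node 58950 (.leaf 0x0) (.node 58951 (.leaf 0x0) (.leaf 0xd0b0002)))) (.node 58955 (.node 58953 (.leaf 0xf0b0a0003) (.node 58954 (.leaf 0x107090000090802040105000b) (.leaf 0x0))) (.node 58956 (.leaf 0xd0b0002) (.node 58957 (.leaf 0x0) (.leaf 0xe64c00e648))))) (.node 58963 (.node 58960 (.node 58959 (.leaf 0x60005020604000703040103000c) (.leaf 0x0)) (.node 58961 (.leaf 0xf0b0b0a0004) (.node 58962 (.leaf 0x0) (.leaf 0xa0f0b0003)))) (.node 58966 (.node 58964 (.leaf 0x0) (.node 58965 (.leaf 0xf0b0b0a0004) (.leaf 0xf0b0002))) (.node 58967 (.leaf 0xe655) (.node 58968 (.leaf 0xf0b0b0a0004) (.leaf 0x0))))))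

def argWS_5224 : Store := (.node 58980 (.node 58974 (.node 58971 (.node 58970 (.leaf 0xb0f0002) (.leaf 0x0)) (.node 58972 (.leaf 0x0) (.node 58973 (.leaf 0xf0b0a0003) (.leaf 0xe0a0002)))) (.node 58977 (.node 58975 (.leaf 0xb0b0002) (.node 58976 (.leaf 0xe65e) (.leaf 0xd0001))) (.node 58978 (.leaf 0x0) (.node 58979 (.leaf 0xe0a0002) (.leaf 0x0))))) (.node 58986 (.node 58983 (.node 58981 (.leaf 0x0) (.node 58982 (.leaf 0xb0f0a0a0004) (.leaf 0xd0b0002))) (.node 58984 (.leaf 0x40206040004) (.node 58985 (.leaf 0x0) (.leaf 0xf0b0b0a0004)))) (.node 58989 (.node 58987 (.leaf 0x0) (.node 58988 (.leaf 0xe66a) (.leaf 0x2070009020007010008))) (.node 58990 (.leaf 0x0) (.node 58991 (.leaf 0xa0f0002) (.leaf 0x0))))))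

def argWS_5225 : Store := (.node 58969 argWS_5223 argWS_5224)

def argWS_5226 : Store := (.node 58947 argWS_5222 argWS_5225)

def argWS_5227 : Store := (.node 58902 argWS_5219 argWS_5226)

def argWS_5228 : Store := (.node 59003 (.node 58997 (.node 58994 (.node 58993 (.leaf 0xb0a0002) (.leaf 0x0)) (.node 58995 (.leaf 0x0) (.node 58996 (.leaf 0xb0001) (.leaf 0x8000206040802040105000a)))) (.node 59000 (.node 58998 (.leaf 0x0) (.node 58999 (.leaf 0xb0a0a0003) (.leaf 0x0))) (.node 59001 (.leaf 0xe677009b89) (.node 59002 (.leaf 0x1010602020007010008) (.leaf 0x0))))) (.node 59008 (.node 59005 (.node 59004 (.leaf 0xb0b0a0a0004) (.leaf 0x0)) (.node 59006 (.leaf 0xf0a0002) (.node 59007 (.leaf 0x0) (.leaf 0x0)))) (.node 59011 (.node 59009 (.leaf 0xf0a0a0003) (.node 59010 (.leaf 0x60500000300000007) (.leaf 0x0))) (.node 59012 (.leaf 0xb0b0a0a0004) (.node 59013 (.leaf 0x0) (.leaf 0xe68400a987))))))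

def argWS_5229 : Store := (.node 59025 (.node 59019 (.node 59016 (.node 59015 (.leaf 0x605090806000802040105000b) (.leaf 0x0)) (.node 59017 (.leaf 0xb0a0a0003) (.node 59018 (.leaf 0x0) (.leaf 0xf0b0b0a0a0005)))) (.node 59022 (.node 59020 (.leaf 0x0) (.node 59021 (.leaf 0x0) (.leaf 0xd0b0002))) (.node 59023 (.leaf 0x606020702010007) (.node 59024 (.leaf 0x0) (.leaf 0xe0a0a0003))))) (.node 59031 (.node 59028 (.node 59026 (.leaf 0x0) (.node 59027 (.leaf 0xe691) (.leaf 0xf0b0b0003))) (.node 59029 (.leaf 0x0) (.node 59030 (.leaf 0xf0a0002) (.leaf 0x0)))) (.node 59034 (.node 59032 (.leaf 0x0) (.node 59033 (.leaf 0xb0a0002) (.leaf 0x9010606000703040103000a))) (.node 59035 (.leaf 0x0) (.node 59036 (.leaf 0xb0001) (.leaf 0x0))))))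

def argWS_5230 : Store := (.node 59014 argWS_5228 argWS_5229)

def argWS_5231 : Store := (.node 59048 (.node 59042 (.node 59039 (.node 59038 (.leaf 0xe69c) (.leaf 0xf0b0b0a0004)) (.node 59040 (.leaf 0x0) (.node 59041 (.leaf 0xf0b0002) (.leaf 0x0)))) (.node 59045 (.node 59043 (.leaf 0x0) (.node 59044 (.leaf 0x5000400050005) (.leaf 0x0))) (.node 59046 (.leaf 0xe0d0002) (.node 59047 (.leaf 0x0) (.leaf 0xe0001))))) (.node 59053 (.node 59050 (.node 59049 (.leaf 0xe6a700e6a6) (.leaf 0x10903010703060202000701000c)) (.node 59051 (.leaf 0x0) (.node 59052 (.leaf 0xd0b0b0003) (.leaf 0x0)))) (.node 59056 (.node 59054 (.leaf 0xb0b0002) (.node 59055 (.leaf 0x0) (.leaf 0x0))) (.node 59057 (.leaf 0xa0f0b0b0004) (.node 59058 (.leaf 0xd0b0002) (.leaf 0xd0b0002))))))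

def argWS_5232 : Store := (.node 59070 (.node 59064 (.node 59061 (.node 59060 (.leaf 0xe6b200e6b1) (.leaf 0xe0001)) (.node 59062 (.leaf 0x0) (.node 59063 (.leaf 0xb0b0a0a0004) (.leaf 0x0)))) (.node 59067 (.node 59065 (.leaf 0x0) (.node 59066 (.leaf 0xd0b0002) (.leaf 0x20103000408010202000701000c))) (.node 59068 (.leaf 0x0) (.node 59069 (.leaf 0xa0a0002) (.leaf 0x0))))) (.node 59076 (.node 59073 (.node 59071 (.leaf 0x902020007010006) (.node 59072 (.leaf 0x0) (.leaf 0xe0a0a0003))) (.node 59074 (.leaf 0x0) (.node 59075 (.leaf 0xe6c100e6bd) (.leaf 0xb0a0002)))) (.node 59079 (.node 59077 (.leaf 0x0) (.node 59078 (.leaf 0xd0001) (.leaf 0x0))) (.node 59080 (.leaf 0x0) (.node 59081 (.leaf 0xf0a0002) (.leaf 0xe0a0002))))))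

def argWS_5233 : Store := (.node 59059 argWS_5231 argWS_5232)

def argWS_5234 : Store := (.node 59037 argWS_5230 argWS_5233)

def argWS_5235 : Store := (.node 59093 (.node 59087 (.node 59084 (.node 59083 (.leaf 0x403050206040006) (.leaf 0x0)) (.node 59085 (.leaf 0xb0001) (.node 59086 (.leaf 0x0) (.leaf 0xe6cd)))) (.node 59090 (.node 59088 (.leaf 0xa0f0002) (.node 59089 (.leaf 0x0) (.leaf 0xa0001))) (.node 59091 (.leaf 0x0) (.node 59092 (.leaf 0x0) (.leaf 0x2000005020202010202000701000d))))) (.node 59098 (.node 59095 (.node 59094 (.leaf 0x0) (.leaf 0xe0001)) (.node 59096 (.leaf 0x0) (.node 59097 (.leaf 0xb0001) (.leaf 0x70006020702010007)))) (.node 59101 (.node 59099 (.leaf 0x0) (.node 59100 (.leaf 0xb0a0a0003) (.leaf 0x0))) (.node 59102 (.leaf 0xe6dc00e6d8) (.node 59103 (.leaf 0xf0a0a0003) (.leaf 0x0))))))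

def argWS_5236 : Store := (.node 59115 (.node 59109 (.node 59106 (.node 59105 (.leaf 0xb0a0a0003) (.leaf 0x0)) (.node 59107 (.leaf 0x0) (.node 59108 (.leaf 0xe0a0a0003) (.leaf 0x907000408010006)))) (.node 59112 (.node 59110 (.leaf 0x0) (.node 59111 (.leaf 0xd0001) (.leaf 0x0))) (.node 59113 (.leaf 0x90104010908050007) (.node 59114 (.leaf 0x0) (.leaf 0xb0a0f0003))))) (.node 59121 (.node 59118 (.node 59116 (.leaf 0x0) (.node 59117 (.leaf 0xe6eb00e6e7) (.leaf 0xa0f0002))) (.node 59119 (.leaf 0x0) (.node 59120 (.leaf 0xe0d0002) (.leaf 0x0)))) (.node 59124 (.node 59122 (.leaf 0x0) (.node 59123 (.leaf 0xd0b0002) (.leaf 0xb0a0002))) (.node 59125 (.leaf 0xa0f0b0b0004) (.node 59126 (.leaf 0xf0b0a0a0004) (.leaf 0xe6f500e6f4))))))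

def argWS_5237 : Store := (.node 59104 argWS_5235 argWS_5236)

def argWS_5238 : Store := (.node 59138 (.node 59132 (.node 59129 (.node 59128 (.leaf 0xe0d0002) (.leaf 0x0)) (.node 59130 (.leaf 0xb0a0a0003) (.node 59131 (.leaf 0x0) (.leaf 0x0)))) (.node 59135 (.node 59133 (.leaf 0xa0001) (.node 59134 (.leaf 0xb0a0002) (.leaf 0xe6fd00e6fc))) (.node 59136 (.leaf 0x20703060202000701000a) (.node 59137 (.leaf 0x0) (.leaf 0xb0001))))) (.node 59144 (.node 59141 (.node 59139 (.leaf 0x0) (.node 59140 (.leaf 0xb0f0002) (.leaf 0x0))) (.node 59142 (.leaf 0x0) (.node 59143 (.leaf 0xb0b0002) (.leaf 0x10403010102000802040105000c)))) (.node 59147 (.node 59145 (.leaf 0x0) (.node 59146 (.leaf 0xa0f0b0003) (.leaf 0x0))) (.node 59148 (.leaf 0xe70a008cbe) (.node 59149 (.leaf 0x3000206030005) (.leaf 0x0))))))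

def argWS_5239 : Store := (.node 59161 (.node 59155 (.node 59152 (.node 59151 (.leaf 0xd0001) (.leaf 0x0)) (.node 59153 (.leaf 0xf0b0002) (.node 59154 (.leaf 0x0) (.leaf 0x0)))) (.node 59158 (.node 59156 (.leaf 0xa0001) (.node 59157 (.leaf 0xf0b0a0003) (.leaf 0x700070206000802040105000b))) (.node 59159 (.leaf 0x0) (.node 59160 (.leaf 0xa0001) (.leaf 0x0))))) (.node 59167 (.node 59164 (.node 59162 (.leaf 0xe71800e714) (.node 59163 (.leaf 0xa0f0002) (.leaf 0x0))) (.node 59165 (.leaf 0xb0a0a0003) (.node 59166 (.leaf 0x0) (.leaf 0x0)))) (.node 59170 (.node 59168 (.leaf 0xb0a0002) (.node 59169 (.leaf 0x9030400050005) (.leaf 0x0))) (.node 59171 (.leaf 0xd0b0b0003) (.node 59172 (.leaf 0x0) (.leaf 0xb0a0002))))))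

def argWS_5240 : Store := (.node 59150 argWS_5238 argWS_5239)

def argWS_5241 : Store := (.node 59127 argWS_5237 argWS_5240)

def argWS_5242 : Store := (.node 59082 argWS_5234 argWS_5241)

def argWS_5243 : Store := (.node 58992 argWS_5227 argWS_5242)

def argWS_5244 : Store := (.node 58812 argWS_5212 argWS_5243)

def argWS_5245 : Store := (.node 58451 argWS_5181 argWS_5244)

def argWS_5246 : Store := (.node 59184 (.node 59178 (.node 59175 (.node 59174 (.leaf 0xe72400e723) (.leaf 0xf0b0b0a0a0005)) (.node 59176 (.leaf 0x0) (.node 59177 (.leaf 0x9020408010202000701000a) (.leaf 0x0)))) (.node 59181 (.node 59179 (.leaf 0xd0b0002) (.node 59180 (.leaf 0xd0b0002) (.leaf 0x60202020900000007))) (.node 59182 (.leaf 0x0) (.node 59183 (.leaf 0xf0a0a0003) (.leaf 0x0))))) (.node 59189 (.node 59186 (.node 59185 (.leaf 0xe72f) (.leaf 0xd0b0b0003)) (.node 59187 (.leaf 0x0) (.node 59188 (.leaf 0x0) (.leaf 0xe0a0a0003)))) (.node 59192 (.node 59190 (.leaf 0xf0a0a0003) (.node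 59191 (.leaf 0xf0001) (.leaf 0x900090003))) (.node 59193 (.leaf 0x0) (.node 59194 (.leaf 0x0) (.leaf 0xe73900e736))))))

def argWS_5247 : Store := (.node 59206 (.node 59200 (.node 59197 (.node 59196 (.leaf 0xe0d0002) (.leaf 0x0)) (.node 59198 (.leaf 0xf0b0a0a0004) (.node 59199 (.leaf 0x0) (.leaf 0x0)))) (.node 59203 (.node 59201 (.leaf 0xa0f0002) (.node 59202 (.leaf 0x5060308020401050008) (.leaf 0x0))) (.node 59204 (.leaf 0xf0a0002) (.node 59205 (.leaf 0x0) (.leaf 0x90006010500020008))))) (.node 59212 (.node 59209 (.node 59207 (.leaf 0x0) (.node 59208 (.leaf 0xf0b0a0003) (.leaf 0x0))) (.node 59210 (.leaf 0xe74800e744) (.node 59211 (.leaf 0xa0f0002) (.leaf 0x0)))) (.node 59215 (.node 59213 (.leaf 0xf0b0a0a0004) (.node 59214 (.leaf 0x0) (.leaf 0x0))) (.node 59216 (.leaf 0x902010202090000000703040103000e) (.node 59217 (.leaf 0x0) (.leaf 0xd0b0002))))))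

def argWS_5248 : Store := (.node 59195 argWS_5246 argWS_5247)

def argWS_5249 : Store := (.node 59229 (.node 59223 (.node 59220 (.node 59219 (.leaf 0x0) (.leaf 0xe752009922)) (.node 59221 (.leaf 0xf0b0a0a0004) (.node 59222 (.leaf 0x0) (.leaf 0xf0b0002)))) (.node 59226 (.node 59224 (.leaf 0x0) (.node 59225 (.leaf 0x0) (.leaf 0xf0a0a0003))) (.node 59227 (.leaf 0x20901090806000202000701000c) (.node 59228 (.leaf 0x0) (.leaf 0xb0f0a0a0004))))) (.node 59234 (.node 59231 (.node 59230 (.leaf 0x0) (.leaf 0xe75d00e759)) (.node 59232 (.leaf 0xa0a0002) (.node 59233 (.leaf 0x0) (.leaf 0x0)))) (.node 59237 (.node 59235 (.leaf 0x602000003010802040105000b) (.node 59236 (.leaf 0x0) (.leaf 0xb0001))) (.node 59238 (.leaf 0x0) (.node 59239 (.leaf 0xe0a0a0003) (.leaf 0xa0f0002))))))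

def argWS_5250 : Store := (.node 59251 (.node 59245 (.node 59242 (.node 59241 (.leaf 0xe76700e766) (.leaf 0xa0a0002)) (.node 59243 (.leaf 0x0) (.node 59244 (.leaf 0x70206020702010007) (.leaf 0x0)))) (.node 59248 (.node 59246 (.leaf 0xd0b0b0003) (.node 59247 (.leaf 0xf0b0002) (.leaf 0xd0b0002))) (.node 59249 (.leaf 0x70009020602000703040103000c) (.node 59250 (.leaf 0x0) (.leaf 0xf0b0a0003))))) (.node 59257 (.node 59254 (.node 59252 (.leaf 0x0) (.node 59253 (.leaf 0xe77300e76f) (.leaf 0xf0b0b0a0a0005))) (.node 59255 (.leaf 0x0) (.node 59256 (.leaf 0xf0b0b0a0a0005) (.leaf 0x0)))) (.node 59260 (.node 59258 (.leaf 0x0) (.node 59259 (.leaf 0xa0f0b0b0004) (.leaf 0xa0f0b0b0004))) (.node 59261 (.leaf 0xe0a0002) (.node 59262 (.leaf 0xe77c00e77b) (.leaf 0xb0f0a0a0004))))))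

def argWS_5251 : Store := (.node 59240 argWS_5249 argWS_5250)

def argWS_5252 : Store := (.node 59218 argWS_5248 argWS_5251)

def argWS_5253 : Store := (.node 59274 (.node 59268 (.node 59265 (.node 59264 (.leaf 0x0) (.leaf 0xb0b0a0a0004)) (.node 59266 (.leaf 0x0) (.node 59267 (.leaf 0x0) (.leaf 0xa0f0002)))) (.node 59271 (.node 59269 (.leaf 0xa0f0002) (.node 59270 (.leaf 0xe784) (.leaf 0xb0f0002))) (.node 59272 (.leaf 0x0) (.node 59273 (.leaf 0xf0b0b0003) (.leaf 0x0))))) (.node 59279 (.node 59276 (.node 59275 (.leaf 0x0) (.leaf 0xe0a0002)) (.node 59277 (.leaf 0x40304020703000703040103000c) (.node 59278 (.leaf 0x0) (.leaf 0x0)))) (.node 59282 (.node 59280 (.leaf 0xe78e007b10) (.node 59281 (.leaf 0xd0001) (.leaf 0x0))) (.node 59283 (.leaf 0xa0a0002) (.node 59284 (.leaf 0x0) (.leaf 0x0))))))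

def argWS_5254 : Store := (.node 59296 (.node 59290 (.node 59287 (.node 59286 (.leaf 0xf0b0b0a0a0005) (.leaf 0xa0001)) (.node 59288 (.leaf 0xf0b0b0a0a0005) (.node 59289 (.leaf 0xb0b0a0003) (.leaf 0xe79800e797)))) (.node 59293 (.node 59291 (.leaf 0xb0b0002) (.node 59292 (.leaf 0x0) (.leaf 0xf0a0002))) (.node 59294 (.leaf 0x0) (.node 59295 (.leaf 0x0) (.leaf 0xa0a0002))))) (.node 59302 (.node 59299 (.node 59297 (.leaf 0x201090805000703040103000b) (.node 59298 (.leaf 0x0) (.leaf 0xd0b0b0003))) (.node 59300 (.leaf 0x0) (.node 59301 (.leaf 0xe7a300e79f) (.leaf 0xa0001)))) (.node 59305 (.node 59303 (.leaf 0x0) (.node 59304 (.leaf 0x800040202090000000703040103000e) (.leaf 0x0))) (.node 59306 (.leaf 0xd0b0b0003) (.node 59307 (.leaf 0x503050003) (.leaf 0x0))))))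

def argWS_5255 : Store := (.node 59285 argWS_5253 argWS_5254)

def argWS_5256 : Store := (.node 59319 (.node 59313 (.node 59310 (.node 59309 (.leaf 0xd0001) (.leaf 0x0)) (.node 59311 (.leaf 0xe0001) (.node 59312 (.leaf 0xe7ae00e7ad) (.leaf 0xf0b0b0003)))) (.node 59316 (.node 59314 (.leaf 0x0) (.node 59315 (.leaf 0xb0b0a0003) (.leaf 0x0))) (.node 59317 (.leaf 0x0) (.node 59318 (.leaf 0xb0b0a0003) (.leaf 0x40006010500020007))))) (.node 59324 (.node 59321 (.node 59320 (.leaf 0x0) (.leaf 0xf0a0a0003)) (.node 59322 (.leaf 0x0) (.node 59323 (.leaf 0x2000904020202000701000a) (.leaf 0x0)))) (.node 59327 (.node 59325 (.leaf 0xb0f0002) (.node 59326 (.leaf 0x0) (.leaf 0xe7bd00e7b9))) (.node 59328 (.leaf 0x8030908050005) (.node 59329 (.leaf 0x0) (.leaf 0xb0f0a0003))))))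

def argWS_5257 : Store := (.node 59341 (.node 59335 (.node 59332 (.node 59331 (.leaf 0x0) (.leaf 0xe0001)) (.node 59333 (.leaf 0x0) (.node 59334 (.leaf 0x0) (.leaf 0xe0a0a0003)))) (.node 59338 (.node 59336 (.leaf 0xf0b0a0003) (.node 59337 (.leaf 0xe7c7) (.leaf 0x70101070206000202000701000c))) (.node 59339 (.leaf 0x0) (.node 59340 (.leaf 0xf0a0a0003) (.leaf 0x0))))) (.node 59347 (.node 59344 (.node 59342 (.leaf 0xe0d0002) (.node 59343 (.leaf 0x0) (.leaf 0x0))) (.node 59345 (.leaf 0xf0b0b0a0004) (.node 59346 (.leaf 0xa0a0002) (.leaf 0xe7d1)))) (.node 59350 (.node 59348 (.leaf 0xe0a0002) (.node 59349 (.leaf 0x0) (.leaf 0xa0f0b0003))) (.node 59351 (.leaf 0x0) (.node 59352 (.leaf 0x0) (.leaf 0x7000908050202000701000a))))))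

def argWS_5258 : Store := (.node 59330 argWS_5256 argWS_5257)

def argWS_5259 : Store := (.node 59308 argWS_5255 argWS_5258)

def argWS_5260 : Store := (.node 59263 argWS_5252 argWS_5259)

def argWS_5261 : Store := (.node 59364 (.node 59358 (.node 59355 (.node 59354 (.leaf 0x0) (.leaf 0xa0f0002)) (.node 59356 (.leaf 0x0) (.node 59357 (.leaf 0xe7db) (.leaf 0x501010908050202000701000b)))) (.node 59361 (.node 59359 (.leaf 0x0) (.node 59360 (.leaf 0xe0a0002) (.leaf 0x0))) (.node 59362 (.leaf 0xf0b0a0003) (.node 59363 (.leaf 0x0) (.leaf 0x0))))) (.node 59369 (.node 59366 (.node 59365 (.leaf 0xe0001) (.leaf 0xf0b0a0003)) (.node 59367 (.leaf 0x201030400050006) (.node 59368 (.leaf 0x0) (.leaf 0xd0b0b0003)))) (.node 59372 (.node 59370 (.leaf 0x0) (.node 59371 (.leaf 0xe7e900e7e5) (.leaf 0xe0a0002))) (.node 59373 (.leaf 0x0) (.node 59374 (.leaf 0xe0d0002) (.leaf 0x0))))))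

def argWS_5262 : Store := (.node 59386 (.node 59380 (.node 59377 (.node 59376 (.leaf 0x0) (.leaf 0xb0b0002)) (.node 59378 (.leaf 0xb0001) (.node 59379 (.leaf 0x30601050002000703040103000c) (.leaf 0x0)))) (.node 59383 (.node 59381 (.leaf 0xf0a0a0003) (.node 59382 (.leaf 0x0) (.leaf 0xe7f500e7f1))) (.node 59384 (.leaf 0xa0001) (.node 59385 (.leaf 0x0) (.leaf 0xb0f0002))))) (.node 59392 (.node 59389 (.node 59387 (.leaf 0x0) (.node 59388 (.leaf 0x0) (.leaf 0xa0f0002))) (.node 59390 (.leaf 0xb0f0a0a0004) (.node 59391 (.leaf 0xe126) (.leaf 0xf0b0a0a0004)))) (.node 59395 (.node 59393 (.leaf 0x0) (.node 59394 (.leaf 0xb0a0f0003) (.leaf 0x0))) (.node 59396 (.leaf 0x0) (.node 59397 (.leaf 0xb0f0a0a0004) (.leaf 0xa0f0b0003))))))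

def argWS_5263 : Store := (.node 59375 argWS_5261 argWS_5262)

def argWS_5264 : Store := (.node 59409 (.node 59403 (.node 59400 (.node 59399 (.leaf 0xe80500c47b) (.leaf 0xd0b0b0003)) (.node 59401 (.leaf 0x0) (.node 59402 (.leaf 0x4030901090802040105000a) (.leaf 0x0)))) (.node 59406 (.node 59404 (.leaf 0xf0b0b0a0004) (.node 59405 (.leaf 0xb0001) (.leaf 0x20202060207020703040103000c))) (.node 59407 (.leaf 0x0) (.node 59408 (.leaf 0xe0a0a0003) (.leaf 0x0))))) (.node 59414 (.node 59411 (.node 59410 (.leaf 0x908060002020007010009) (.leaf 0x0)) (.node 59412 (.leaf 0xf0b0a0003) (.node 59413 (.leaf 0x0) (.leaf 0xe814)))) (.node 59417 (.node 59415 (.leaf 0xb0f0002) (.node 59416 (.leaf 0x0) (.leaf 0xb0b0a0003))) (.node 59418 (.leaf 0x0) (.node 59419 (.leaf 0x0) (.leaf 0xb0b0a0a0004))))))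

def argWS_5265 : Store := (.node 59431 (.node 59425 (.node 59422 (.node 59421 (.leaf 0xb0f0a0a0004) (.leaf 0xe81c)) (.node 59423 (.leaf 0xf0b0a0a0004) (.node 59424 (.leaf 0x0) (.leaf 0xe0001)))) (.node 59428 (.node 59426 (.leaf 0x0) (.node 59427 (.leaf 0x0) (.leaf 0xb0b0a0003))) (.node 59429 (.leaf 0xb0a0a0003) (.node 59430 (.leaf 0xf0a0002) (.leaf 0xe82500e824))))) (.node 59437 (.node 59434 (.node 59432 (.leaf 0x9020106060005) (.node 59433 (.leaf 0x0) (.leaf 0xb0f0a0a0004))) (.node 59435 (.leaf 0x0) (.node 59436 (.leaf 0xb0b0a0a0004) (.leaf 0x0)))) (.node 59440 (.node 59438 (.leaf 0x0) (.node 59439 (.leaf 0xb0b0002) (.leaf 0xb0a0f0003))) (.node 59441 (.leaf 0xf0b0b0a0004) (.node 59442 (.leaf 0xe83000e82f) (.leaf 0xb0f0a0a0004))))))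

def argWS_5266 : Store := (.node 59420 argWS_5264 argWS_5265)

def argWS_5267 : Store := (.node 59398 argWS_5263 argWS_5266)

def argWS_5268 : Store := (.node 59454 (.node 59448 (.node 59445 (.node 59444 (.leaf 0x0) (.leaf 0xf0b0a0a0004)) (.node 59446 (.leaf 0x0) (.node 59447 (.leaf 0xb0f0a0003) (.leaf 0xe0001)))) (.node 59451 (.node 59449 (.leaf 0xb0b0a0a0004) (.node 59450 (.leaf 0xe83800e837) (.leaf 0x102020000030703040103000b))) (.node 59452 (.leaf 0x0) (.node 59453 (.leaf 0x0) (.leaf 0xb0a0f0003))))) (.node 59459 (.node 59456 (.node 59455 (.leaf 0x0) (.leaf 0x0)) (.node 59457 (.leaf 0xb0f0a0a0004) (.node 59458 (.leaf 0x1020802020007010008) (.leaf 0x0)))) (.node 59462 (.node 59460 (.leaf 0x0) (.node 59461 (.leaf 0x4000306020702010802040105000d) (.leaf 0x0))) (.node 59463 (.leaf 0xf0b0b0003) (.node 59464 (.leaf 0x0) (.leaf 0xe84700e843))))))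

def argWS_5269 : Store := (.node 59476 (.node 59470 (.node 59467 (.node 59466 (.leaf 0xb0f0a0003) (.leaf 0x0)) (.node 59468 (.leaf 0xb0a0f0003) (.node 59469 (.leaf 0x0) (.leaf 0x0)))) (.node 59473 (.node 59471 (.leaf 0x702000003010802040105000c) (.node 59472 (.leaf 0x0) (.leaf 0x0))) (.node 59474 (.leaf 0xf0b0b0003) (.node 59475 (.leaf 0xe85100e850) (.leaf 0xf0001))))) (.node 59482 (.node 59479 (.node 59477 (.leaf 0x0) (.node 59478 (.leaf 0xe0d0002) (.leaf 0x0))) (.node 59480 (.leaf 0x0) (.node 59481 (.leaf 0xa0f0002) (.leaf 0xb0f0a0a0004)))) (.node 59485 (.node 59483 (.leaf 0xe859006f8a) (.node 59484 (.leaf 0xe0a0002) (.leaf 0x0))) (.node 59486 (.leaf 0xd0001) (.node 59487 (.leaf 0x0) (.leaf 0x0))))))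

def argWS_5270 : Store := (.node 59465 argWS_5268 argWS_5269)

def argWS_5271 : Store := (.node 59499 (.node 59493 (.node 59490 (.node 59489 (.leaf 0xd0b0002) (.leaf 0x20005020202010202000701000c)) (.node 59491 (.leaf 0x0) (.node 59492 (.leaf 0xa0f0b0003) (.leaf 0x0)))) (.node 59496 (.node 59494 (.leaf 0xe8640083a1) (.node 59495 (.leaf 0x20601050202020703040103000c) (.leaf 0x0))) (.node 59497 (.leaf 0xf0b0b0a0a0005) (.node 59498 (.leaf 0x0) (.leaf 0xe0d0002))))) (.node 59504 (.node 59501 (.node 59500 (.leaf 0x0) (.leaf 0x0)) (.node 59502 (.leaf 0xe0a0a0003) (.node 59503 (.leaf 0x2000004080703040103000a) (.leaf 0x0)))) (.node 59507 (.node 59505 (.leaf 0xd0b0b0003) (.node 59506 (.leaf 0x0) (.leaf 0x60509080600000703040103000c))) (.node 59508 (.leaf 0x0) (.node 59509 (.leaf 0xb0f0a0003) (.leaf 0x0))))))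

def argWS_5272 : Store := (.node 59521 (.node 59515 (.node 59512 (.node 59511 (.leaf 0xe87500e871) (.leaf 0x300030306040202000701000b)) (.node 59513 (.leaf 0x0) (.node 59514 (.leaf 0xd0b0b0003) (.leaf 0x0)))) (.node 59518 (.node 59516 (.leaf 0xb0b0002) (.node 59517 (.leaf 0x0) (.leaf 0x0))) (.node 59519 (.leaf 0xb0b0a0a0004) (.node 59520 (.leaf 0x500000603050004000703040103000e) (.leaf 0x0))))) (.node 59527 (.node 59524 (.node 59522 (.leaf 0xa0f0b0003) (.node 59523 (.leaf 0x0) (.leaf 0xf0b0002))) (.node 59525 (.leaf 0xe88300e882) (.node 59526 (.leaf 0xf0b0b0a0004) (.leaf 0x0)))) (.node 59530 (.node 59528 (.leaf 0xf0001) (.node 59529 (.leaf 0x0) (.leaf 0x0))) (.node 59531 (.leaf 0xe0a0002) (.node 59532 (.leaf 0xf0b0b0a0004) (.leaf 0xe88b00e88a))))))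

def argWS_5273 : Store := (.node 59510 argWS_5271 argWS_5272)

def argWS_5274 : Store := (.node 59488 argWS_5270 argWS_5273)

def argWS_5275 : Store := (.node 59443 argWS_5267 argWS_5274)

def argWS_5276 : Store := (.node 59353 argWS_5260 argWS_5275)

def argWS_5277 : Store := (.node 59544 (.node 59538 (.node 59535 (.node 59534 (.leaf 0xa0f0b0003) (.leaf 0x0)) (.node 59536 (.leaf 0x90700020901060007) (.node 59537 (.leaf 0x0) (.leaf 0xe0d0002)))) (.node 59541 (.node 59539 (.leaf 0xf0b0a0a0004) (.node 59540 (.leaf 0xe0a0002) (.leaf 0xe893))) (.node 59542 (.leaf 0xe0a0a0003) (.node 59543 (.leaf 0x0) (.leaf 0xf0a0a0003))))) (.node 59549 (.node 59546 (.node 59545 (.leaf 0x0) (.leaf 0x0)) (.node 59547 (.leaf 0xb0a0f0003) (.node 59548 (.leaf 0x103000900090006) (.leaf 0x0)))) (.node 59552 (.node 59550 (.leaf 0xd0001) (.node 59551 (.leaf 0x0) (.leaf 0xf0001))) (.node 59553 (.leaf 0xe89f00e89e) (.node 59554 (.leaf 0x6020603000703040103000a) (.leaf 0x0))))))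

def argWS_5278 : Store := (.node 59566 (.node 59560 (.node 59557 (.node 59556 (.leaf 0xb0b0a0a0004) (.leaf 0x0)) (.node 59558 (.leaf 0xf0b0a0a0004) (.node 59559 (.leaf 0x0) (.leaf 0x0)))) (.node 59563 (.node 59561 (.leaf 0x1070009020602000703040103000d) (.node 59562 (.leaf 0x0) (.leaf 0xe0d0002))) (.node 59564 (.leaf 0x0) (.node 59565 (.leaf 0x60501020901060802040105000c) (.leaf 0x0))))) (.node 59572 (.node 59569 (.node 59567 (.leaf 0xf0b0a0003) (.node 59568 (.leaf 0x0) (.leaf 0xf0001))) (.node 59570 (.leaf 0xe8b000e8af) (.node 59571 (.leaf 0xb0f0002) (.leaf 0x0)))) (.node 59575 (.node 59573 (.leaf 0x0) (.node 59574 (.leaf 0xa0f0b0003) (.leaf 0xb0b0002))) (.node 59576 (.leaf 0x5020202010802040105000c) (.node 59577 (.leaf 0x0) (.leaf 0xe0a0a0003))))))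

def argWS_5279 : Store := (.node 59555 argWS_5277 argWS_5278)

def argWS_5280 : Store := (.node 59589 (.node 59583 (.node 59580 (.node 59579 (.leaf 0x0) (.leaf 0xe0a0002)) (.node 59581 (.leaf 0xe8bb00e8ba) (.node 59582 (.leaf 0x802000202090000000703040103000e) (.leaf 0x0)))) (.node 59586 (.node 59584 (.leaf 0xa0f0b0b0004) (.node 59585 (.leaf 0x0) (.leaf 0xf0a0a0003))) (.node 59587 (.leaf 0x0) (.node 59588 (.leaf 0x0) (.leaf 0x103000308000703040103000b))))) (.node 59594 (.node 59591 (.node 59590 (.leaf 0x0) (.leaf 0xa0f0002)) (.node 59592 (.leaf 0x0) (.node 59593 (.leaf 0x2020200030306040802040105000d) (.leaf 0x0)))) (.node 59597 (.node 59595 (.leaf 0xb0b0a0a0004) (.node 59596 (.leaf 0x0) (.leaf 0xa0f0b0b0004))) (.node 59598 (.leaf 0xe8cc00e8cb) (.node 59599 (.leaf 0xd0b0002) (.leaf 0x0))))))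

def argWS_5281 : Store := (.node 59611 (.node 59605 (.node 59602 (.node 59601 (.leaf 0x404070206000202000701000b) (.leaf 0x0)) (.node 59603 (.leaf 0xa0a0002) (.node 59604 (.leaf 0xb0001) (.leaf 0x5020900000802040105000a)))) (.node 59608 (.node 59606 (.leaf 0x0) (.node 59607 (.leaf 0xb0f0002) (.leaf 0x0))) (.node 59609 (.leaf 0xe8d7) (.node 59610 (.leaf 0xa0001) (.leaf 0x0))))) (.node 59617 (.node 59614 (.node 59612 (.leaf 0xa0f0b0003) (.node 59613 (.leaf 0x0) (.leaf 0x0))) (.node 59615 (.leaf 0x8010107020902000703040103000d) (.node 59616 (.leaf 0x0) (.leaf 0xd0b0002)))) (.node 59620 (.node 59618 (.leaf 0x0) (.node 59619 (.leaf 0xe8e1) (.leaf 0xf0001))) (.node 59621 (.leaf 0x0) (.node 59622 (.leaf 0xb0f0a0003) (.leaf 0x0))))))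

def argWS_5282 : Store := (.node 59600 argWS_5280 argWS_5281)

def argWS_5283 : Store := (.node 59578 argWS_5279 argWS_5282)

def argWS_5284 : Store := (.node 59634 (.node 59628 (.node 59625 (.node 59624 (.leaf 0x0) (.leaf 0xf0b0b0a0a0005)) (.node 59626 (.leaf 0x0) (.node 59627 (.leaf 0x6020000000300000202000701000d) (.leaf 0x0)))) (.node 59631 (.node 59629 (.leaf 0xe0001) (.node 59630 (.leaf 0x0) (.leaf 0xe8ed00e8e9))) (.node 59632 (.leaf 0xb0b0002) (.node 59633 (.leaf 0x0) (.leaf 0xb0a0f0003))))) (.node 59639 (.node 59636 (.node 59635 (.leaf 0x0) (.leaf 0x0)) (.node 59637 (.leaf 0xa0f0002) (.node 59638 (.leaf 0x90700090109000703040103000c) (.leaf 0x0)))) (.node 59642 (.node 59640 (.leaf 0xb0b0002) (.node 59641 (.leaf 0x0) (.leaf 0xe8f8))) (.node 59643 (.leaf 0xa0f0002) (.node 59644 (.leaf 0x0) (.leaf 0xf0b0a0a0004))))))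

def argWS_5285 : Store := (.node 59656 (.node 59650 (.node 59647 (.node 59646 (.leaf 0x0) (.leaf 0x0)) (.node 59648 (.leaf 0xa0f0b0b0004) (.node 59649 (.leaf 0xd0b0002) (.leaf 0xb0b0a0a0004)))) (.node 59653 (.node 59651 (.leaf 0xe90100e900) (.node 59652 (.leaf 0x403000400050202000701000b) (.leaf 0x0))) (.node 59654 (.leaf 0xf0b0b0a0004) (.node 59655 (.leaf 0x0) (.leaf 0xf0a0a0003))))) (.node 59662 (.node 59659 (.node 59657 (.leaf 0x0) (.node 59658 (.leaf 0x0) (.leaf 0x9010402020007010008))) (.node 59660 (.leaf 0x0) (.node 59661 (.leaf 0xa0f0002) (.leaf 0x0)))) (.node 59665 (.node 59663 (.leaf 0x5030509080600000703040103000d) (.node 59664 (.leaf 0x0) (.leaf 0xb0b0a0a0004))) (.node 59666 (.leaf 0x0) (.node 59667 (.leaf 0x40406030500040802040105000c) (.leaf 0x0))))))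

def argWS_5286 : Store := (.node 59645 argWS_5284 argWS_5285)

def argWS_5287 : Store := (.node 59679 (.node 59673 (.node 59670 (.node 59669 (.leaf 0xf0b0a0003) (.leaf 0x0)) (.node 59671 (.leaf 0xe91500e911) (.node 59672 (.leaf 0xb0a0002) (.leaf 0x0)))) (.node 59676 (.node 59674 (.leaf 0x30707000903000703040103000c) (.node 59675 (.leaf 0x0) (.leaf 0xf0b0a0003))) (.node 59677 (.leaf 0xb0f0a0a0004) (.node 59678 (.leaf 0xa0f0b0003) (.leaf 0xe91d00e91c))))) (.node 59684 (.node 59681 (.node 59680 (.leaf 0xf0b0b0a0004) (.leaf 0x0)) (.node 59682 (.leaf 0xb0001) (.node 59683 (.leaf 0x0) (.leaf 0x0)))) (.node 59687 (.node 59685 (.leaf 0xf0a0002) (.node 59686 (.leaf 0xd0b0002) (.leaf 0xf0b0b0a0004))) (.node 59688 (.leaf 0xe92600e925) (.node 59689 (.leaf 0x400040002080400000703040103000e) (.leaf 0x0))))))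

def argWS_5288 : Store := (.node 59701 (.node 59695 (.node 59692 (.node 59691 (.leaf 0xf0b0b0a0a0005) (.leaf 0x0)) (.node 59693 (.leaf 0xf0b0002) (.node 59694 (.leaf 0x0) (.leaf 0x0)))) (.node 59698 (.node 59696 (.leaf 0xe0a0002) (.node 59697 (.leaf 0xf0b0b0003) (.leaf 0x90700070009030802040105000c))) (.node 59699 (.leaf 0x0) (.node 59700 (.leaf 0x0) (.leaf 0xe93300e930))))) (.node 59707 (.node 59704 (.node 59702 (.leaf 0xb0a0f0003) (.node 59703 (.leaf 0x0) (.leaf 0xd0b0002))) (.node 59705 (.leaf 0x0) (.node 59706 (.leaf 0x0) (.leaf 0xf0a0002)))) (.node 59710 (.node 59708 (.leaf 0x3010703060006) (.node 59709 (.leaf 0x0) (.leaf 0xf0a0a0003))) (.node 59711 (.leaf 0x0) (.node 59712 (.leaf 0xa0f0b0b0004) (.leaf 0xe93f00e93e))))))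

def argWS_5289 : Store := (.node 59690 argWS_5287 argWS_5288)

def argWS_5290 : Store := (.node 59668 argWS_5286 argWS_5289)

def argWS_5291 : Store := (.node 59623 argWS_5283 argWS_5290)

def argWS_5292 : Store := (.node 59724 (.node 59718 (.node 59715 (.node 59714 (.leaf 0xd0b0002) (.leaf 0x0)) (.node 59716 (.leaf 0x6000005020202010202000701000d) (.node 59717 (.leaf 0x0) (.leaf 0xf0001)))) (.node 59721 (.node 59719 (.leaf 0xf0b0002) (.node 59720 (.leaf 0xa0f0002) (.leaf 0xe0a0a0003))) (.node 59722 (.leaf 0xe94800e947) (.node 59723 (.leaf 0xb0b0a0003) (.leaf 0x0))))) (.node 59729 (.node 59726 (.node 59725 (.leaf 0xa0a0002) (.leaf 0x0)) (.node 59727 (.leaf 0x0) (.node 59728 (.leaf 0xb0b0002) (.leaf 0xa0001)))) (.node 59732 (.node 59730 (.leaf 0xe950) (.node 59731 (.leaf 0xb0f0a0003) (.leaf 0x0))) (.node 59733 (.leaf 0xb0a0a0003) (.node 59734 (.leaf 0x0) (.leaf 0x0))))))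

def argWS_5293 : Store := (.node 59746 (.node 59740 (.node 59737 (.node 59736 (.leaf 0xe6e3) (.leaf 0xb0f0002)) (.node 59738 (.leaf 0x0) (.node 59739 (.leaf 0x207030004) (.leaf 0x0)))) (.node 59743 (.node 59741 (.leaf 0xf0b0b0003) (.node 59742 (.leaf 0xb0f0a0a0004) (.leaf 0x20002010703060202000701000c))) (.node 59744 (.leaf 0x0) (.node 59745 (.leaf 0xe0a0a0003) (.leaf 0x0))))) (.node 59752 (.node 59749 (.node 59747 (.leaf 0xe96100619f) (.node 59748 (.leaf 0xb0b0002) (.leaf 0x0))) (.node 59750 (.leaf 0x0) (.node 59751 (.leaf 0xb0a0002) (.leaf 0x9040401050005)))) (.node 59755 (.node 59753 (.leaf 0x0) (.node 59754 (.leaf 0xb0b0a0003) (.leaf 0x0))) (.node 59756 (.leaf 0xb0f0002) (.node 59757 (.leaf 0xe96b00e96a) (.leaf 0xe0a0a0003))))))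

def argWS_5294 : Store := (.node 59735 argWS_5292 argWS_5293)

def argWS_5295 : Store := (.node 59769 (.node 59763 (.node 59760 (.node 59759 (.leaf 0x0) (.leaf 0xb0b0002)) (.node 59761 (.leaf 0x0) (.node 59762 (.leaf 0x0) (.leaf 0xa0a0002)))) (.node 59766 (.node 59764 (.leaf 0xf0b0b0a0a0005) (.node 59765 (.leaf 0xb0a0a0003) (.leaf 0xe0a0a0003))) (.node 59767 (.leaf 0xe97500e974) (.node 59768 (.leaf 0x0) (.leaf 0xf0b0002))))) (.node 59774 (.node 59771 (.node 59770 (.leaf 0x0) (.leaf 0xa0f0002)) (.node 59772 (.leaf 0x0) (.node 59773 (.leaf 0x0) (.leaf 0xb0001)))) (.node 59777 (.node 59775 (.leaf 0xf0b0b0a0a0005) (.node 59776 (.leaf 0xb0001) (.leaf 0xe97f00e97e))) (.node 59778 (.leaf 0xf0a0002) (.node 59779 (.leaf 0x0) (.leaf 0xb0f0a0a0004))))))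

def argWS_5296 : Store := (.node 59791 (.node 59785 (.node 59782 (.node 59781 (.leaf 0x0) (.leaf 0x0)) (.node 59783 (.leaf 0xb0f0a0003) (.node 59784 (.leaf 0xf0b0a0a0004) (.leaf 0x80004090806000007)))) (.node 59788 (.node 59786 (.leaf 0x0) (.node 59787 (.leaf 0xd0001) (.leaf 0x0))) (.node 59789 (.leaf 0xe98b00e987) (.node 59790 (.leaf 0x20403050206040802040105000c) (.leaf 0x0))))) (.node 59797 (.node 59794 (.node 59792 (.leaf 0xf0a0a0003) (.node 59793 (.leaf 0x0) (.leaf 0xb0b0a0003))) (.node 59795 (.leaf 0x0) (.node 59796 (.leaf 0x0) (.leaf 0xd0001)))) (.node 59800 (.node 59798 (.leaf 0x206090000090202000701000b) (.node 59799 (.leaf 0x0) (.leaf 0xb0b0a0a0004))) (.node 59801 (.leaf 0x0) (.node 59802 (.leaf 0x5020002020007010008) (.leaf 0x0))))))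

def argWS_5297 : Store := (.node 59780 argWS_5295 argWS_5296)

def argWS_5298 : Store := (.node 59758 argWS_5294 argWS_5297)

def argWS_5299 : Store := (.node 59814 (.node 59808 (.node 59805 (.node 59804 (.leaf 0x0) (.leaf 0xe99b00e998)) (.node 59806 (.leaf 0x60102010901090202000701000c) (.node 59807 (.leaf 0x0) (.leaf 0xf0b0b0003)))) (.node 59811 (.node 59809 (.leaf 0x0) (.node 59810 (.leaf 0xf0b0b0a0004) (.leaf 0x0))) (.node 59812 (.leaf 0x0) (.node 59813 (.leaf 0xf0b0a0a0004) (.leaf 0xb0a0002))))) (.node 59819 (.node 59816 (.node 59815 (.leaf 0xf0b0b0003) (.leaf 0xe9a600e9a5)) (.node 59817 (.leaf 0xb0001) (.node 59818 (.leaf 0x0) (.leaf 0xf0b0b0a0004)))) (.node 59822 (.node 59820 (.leaf 0x0) (.node 59821 (.leaf 0x0) (.leaf 0xb0f0002))) (.node 59823 (.leaf 0x50102010606000703040103000c) (.node 59824 (.leaf 0x0) (.leaf 0xa0f0b0003))))))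

def argWS_5300 : Store := (.node 59836 (.node 59830 (.node 59827 (.node 59826 (.leaf 0x0) (.leaf 0x8030005020202010008)) (.node 59828 (.leaf 0x0) (.node 59829 (.leaf 0x0) (.leaf 0x60400020703000703040103000c)))) (.node 59833 (.node 59831 (.leaf 0x0) (.node 59832 (.leaf 0xa0f0002) (.leaf 0x0))) (.node 59834 (.leaf 0xe9b800e9b4) (.node 59835 (.leaf 0xf0b0a0003) (.leaf 0x0))))) (.node 59842 (.node 59839 (.node 59837 (.leaf 0xe0001) (.node 59838 (.leaf 0x0) (.leaf 0x0))) (.node 59840 (.leaf 0xf0b0b0a0a0005) (.node 59841 (.leaf 0x90000020804000008) (.leaf 0x0)))) (.node 59845 (.node 59843 (.leaf 0x0) (.node 59844 (.leaf 0xe9c2001fe5) (.leaf 0x8010102010606000703040103000d))) (.node 59846 (.leaf 0x0) (.node 59847 (.leaf 0xf0b0a0a0004) (.leaf 0x0))))))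

def argWS_5301 : Store := (.node 59825 argWS_5299 argWS_5300)

def argWS_5302 : Store := (.node 59859 (.node 59853 (.node 59850 (.node 59849 (.leaf 0xd0b0002) (.leaf 0x0)) (.node 59851 (.leaf 0x0) (.node 59852 (.leaf 0xb0b0002) (.leaf 0x60207020703040103000a)))) (.node 59856 (.node 59854 (.leaf 0x0) (.node 59855 (.leaf 0xb0b0a0a0004) (.leaf 0x0))) (.node 59857 (.leaf 0xf0a0a0003) (.node 59858 (.leaf 0xe9d000e9cf) (.leaf 0xb0b0a0003))))) (.node 59865 (.node 59862 (.node 59860 (.leaf 0x0) (.node 59861 (.leaf 0x902010401050006) (.leaf 0x0))) (.node 59863 (.leaf 0xf0b0b0003) (.node 59864 (.leaf 0xd0b0b0003) (.leaf 0xb0f0a0a0004)))) (.node 59868 (.node 59866 (.leaf 0xd0b0002) (.node 59867 (.leaf 0xe9d900e9d8) (.leaf 0xa0001))) (.node 59869 (.leaf 0x0) (.node 59870 (.leaf 0xb0b0002) (.leaf 0x0))))))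

def argWS_5303 : Store := (.node 59882 (.node 59876 (.node 59873 (.node 59872 (.leaf 0x0) (.leaf 0xb0f0a0003)) (.node 59874 (.leaf 0xa0f0b0b0004) (.node 59875 (.leaf 0xe9e1) (.leaf 0x0)))) (.node 59879 (.node 59877 (.leaf 0xe0d0002) (.node 59878 (.leaf 0x0) (.leaf 0x0))) (.node 59880 (.leaf 0xe0a0a0003) (.node 59881 (.leaf 0xf0b0b0a0004) (.leaf 0x102040807030401030009))))) (.node 59888 (.node 59885 (.node 59883 (.leaf 0x0) (.node 59884 (.leaf 0xf0b0b0003) (.leaf 0x0))) (.node 59886 (.leaf 0xa0f0b0003) (.node 59887 (.leaf 0xe9ed00e9ec) (.leaf 0xb0a0f0003)))) (.node 59891 (.node 59889 (.leaf 0x0) (.node 59890 (.leaf 0xb0b0002) (.leaf 0x0))) (.node 59892 (.leaf 0x0) (.node 59893 (.leaf 0xb0a0a0003) (.leaf 0x20502000003010202000701000c))))))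

def argWS_5304 : Store := (.node 59871 argWS_5302 argWS_5303)

def argWS_5305 : Store := (.node 59848 argWS_5301 argWS_5304)

def argWS_5306 : Store := (.node 59803 argWS_5298 argWS_5305)

def argWS_5307 : Store := (.node 59713 argWS_5291 argWS_5306)

def argWS_5308 : Store := (.node 59533 argWS_5276 argWS_5307)

def argWS_5309 : Store := (.node 59905 (.node 59899 (.node 59896 (.node 59895 (.leaf 0x0) (.leaf 0xf0a0002)) (.node 59897 (.leaf 0x0) (.node 59898 (.leaf 0xb0f0a0a0004) (.leaf 0xe9f900e9f8)))) (.node 59902 (.node 59900 (.leaf 0xd0001) (.node 59901 (.leaf 0x0) (.leaf 0xe0a0002))) (.node 59903 (.leaf 0x0) (.node 59904 (.leaf 0x0) (.leaf 0x6020006030500040008))))) (.node 59910 (.node 59907 (.node 59906 (.leaf 0x0) (.leaf 0xf0b0b0a0004)) (.node 59908 (.leaf 0x0) (.node 59909 (.leaf 0xe9ad) (.leaf 0xb0001)))) (.node 59913 (.node 59911 (.leaf 0x0) (.node 59912 (.leaf 0x90602000003010802040105000c) (.leaf 0x0))) (.node 59914 (.leaf 0xf0a0a0003) (.node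 59915 (.leaf 0xb0b0a0a0004) (.leaf 0x6030103010102000202000701000d))))))

def argWS_5310 : Store := (.node 59927 (.node 59921 (.node 59918 (.node 59917 (.leaf 0x0) (.leaf 0xe0a0a0003)) (.node 59919 (.leaf 0x0) (.node 59920 (.leaf 0xea0e) (.leaf 0x2000200000300000202000701000d)))) (.node 59924 (.node 59922 (.leaf 0x0) (.node 59923 (.leaf 0xb0f0a0a0004) (.leaf 0x0))) (.node 59925 (.leaf 0xd0b0002) (.node 59926 (.leaf 0x0) (.leaf 0x0))))) (.node 59933 (.node 59930 (.node 59928 (.leaf 0x107030007030401030009) (.node 59929 (.leaf 0x0) (.leaf 0xb0f0a0a0004))) (.node 59931 (.leaf 0x0) (.node 59932 (.leaf 0xa0001) (.leaf 0xea1b)))) (.node 59936 (.node 59934 (.leaf 0xb0b0002) (.node 59935 (.leaf 0x0) (.leaf 0x4030802020007010009))) (.node 59937 (.leaf 0x0) (.node 59938 (.leaf 0xb0a0a0003) (.leaf 0x200000901090802040105000b))))))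

def argWS_5311 : Store := (.node 59916 argWS_5309 argWS_5310)

def argWS_5312 : Store := (.node 59950 (.node 59944 (.node 59941 (.node 59940 (.leaf 0x0) (.leaf 0xf0b0b0a0a0005)) (.node 59942 (.leaf 0x0) (.node 59943 (.leaf 0xe0a0002) (.leaf 0x60000070206000007)))) (.node 59947 (.node 59945 (.leaf 0x0) (.node 59946 (.leaf 0xb0b0002) (.leaf 0x0))) (.node 59948 (.leaf 0xea2a00ea26) (.node 59949 (.leaf 0xb0b0a0003) (.leaf 0x0))))) (.node 59955 (.node 59952 (.node 59951 (.leaf 0x2010300020804000802040105000d) (.leaf 0x0)) (.node 59953 (.leaf 0xb0f0a0003) (.node 59954 (.leaf 0xd0001) (.leaf 0xa0f0002)))) (.node 59958 (.node 59956 (.leaf 0xea32) (.node 59957 (.leaf 0xb0b0a0a0004) (.leaf 0x0))) (.node 59959 (.leaf 0x904090806000202000701000b) (.node 59960 (.leaf 0x0) (.leaf 0xe0d0002))))))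

def argWS_5313 : Store := (.node 59972 (.node 59966 (.node 59963 (.node 59962 (.leaf 0xf0b0a0003) (.leaf 0xb0b0a0a0004)) (.node 59964 (.leaf 0xb0f0002) (.node 59965 (.leaf 0xea3b00ea3a) (.leaf 0xb0f0a0003)))) (.node 59969 (.node 59967 (.leaf 0x0) (.node 59968 (.leaf 0xe0a0002) (.leaf 0x0))) (.node 59970 (.leaf 0x0) (.node 59971 (.leaf 0x5000000090206020802040105000d) (.leaf 0x0))))) (.node 59978 (.node 59975 (.node 59973 (.leaf 0xb0a0002) (.node 59974 (.leaf 0x0) (.leaf 0x506020702010202000701000b))) (.node 59976 (.leaf 0x0) (.node 59977 (.leaf 0xb0a0a0003) (.leaf 0x0)))) (.node 59981 (.node 59979 (.leaf 0x8000901090202000701000a) (.node 59980 (.leaf 0x0) (.leaf 0xb0a0f0003))) (.node 59982 (.leaf 0x0) (.node 59983 (.leaf 0xea4d00ea49) (.leaf 0xe0001))))))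

def argWS_5314 : Store := (.node 59961 argWS_5312 argWS_5313)

def argWS_5315 : Store := (.node 59939 argWS_5311 argWS_5314)

def argWS_5316 : Store := (.node 59995 (.node 59989 (.node 59986 (.node 59985 (.leaf 0x0) (.leaf 0xb0b0002)) (.node 59987 (.leaf 0x0) (.node 59988 (.leaf 0x0) (.leaf 0x3060402020007010008)))) (.node 59992 (.node 59990 (.leaf 0x0) (.node 59991 (.leaf 0xf0a0a0003) (.leaf 0x0))) (.node 59993 (.leaf 0xa0f0b0b0004) (.node 59994 (.leaf 0x5030004080703040103000b) (.leaf 0x0))))) (.node 60000 (.node 59997 (.node 59996 (.leaf 0xa0a0002) (.leaf 0x0)) (.node 59998 (.leaf 0xea5c00ea58) (.node 59999 (.leaf 0xb0001) (.leaf 0x0)))) (.node 60003 (.node 60001 (.leaf 0x205020703000703040103000b) (.node 60002 (.leaf 0x0) (.leaf 0xd0b0b0003))) (.node 60004 (.leaf 0xb0b0002) (.node 60005 (.leaf 0xb0a0f0003) (.leaf 0xf0b0a0003))))))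

def argWS_5317 : Store := (.node 60017 (.node 60011 (.node 60008 (.node 60007 (.leaf 0x401040005000703040103000b) (.leaf 0x0)) (.node 60009 (.leaf 0xe0a0a0003) (.node 60010 (.leaf 0x0) (.leaf 0xea6900ea65)))) (.node 60014 (.node 60012 (.leaf 0x2000002010606000703040103000d) (.node 60013 (.leaf 0x0) (.leaf 0x0))) (.node 60015 (.leaf 0xe0a0a0003) (.node 60016 (.leaf 0x0) (.leaf 0x0))))) (.node 60023 (.node 60020 (.node 60018 (.leaf 0xb0a0a0003) (.node 60019 (.leaf 0xe0a0a0003) (.leaf 0xea72))) (.node 60021 (.leaf 0xf0b0002) (.node 60022 (.leaf 0x0) (.leaf 0xd0001)))) (.node 60026 (.node 60024 (.leaf 0x0) (.node 60025 (.leaf 0x0) (.leaf 0xd0001))) (.node 60027 (.leaf 0xb0b0a0a0004) (.node 60028 (.leaf 0xf0b0b0a0004) (.leaf 0xea7b00ea7a))))))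

def argWS_5318 : Store := (.node 60006 argWS_5316 argWS_5317)

def argWS_5319 : Store := (.node 60040 (.node 60034 (.node 60031 (.node 60030 (.leaf 0x101020106060006) (.leaf 0x0)) (.node 60032 (.leaf 0xb0b0a0a0004) (.node 60033 (.leaf 0x0) (.leaf 0xd0b0b0003)))) (.node 60037 (.node 60035 (.leaf 0x0) (.node 60036 (.leaf 0x0) (.leaf 0xd0001))) (.node 60038 (.leaf 0x904010904020802040105000b) (.node 60039 (.leaf 0x0) (.leaf 0x0))))) (.node 60045 (.node 60042 (.node 60041 (.leaf 0xea87) (.leaf 0xb0b0a0a0004)) (.node 60043 (.leaf 0x0) (.node 60044 (.leaf 0x0) (.leaf 0xd0b0b0003)))) (.node 60048 (.node 60046 (.leaf 0x402090106000703040103000b) (.node 60047 (.leaf 0x0) (.leaf 0xb0b0a0a0004))) (.node 60049 (.leaf 0x0) (.node 60050 (.leaf 0xc7fe00ea90) (.leaf 0x304020900000006))))))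

def argWS_5320 : Store := (.node 60062 (.node 60056 (.node 60053 (.node 60052 (.leaf 0x0) (.leaf 0xb0f0a0a0004)) (.node 60054 (.leaf 0x0) (.node 60055 (.leaf 0xf0b0a0003) (.leaf 0x0)))) (.node 60059 (.node 60057 (.leaf 0x0) (.node 60058 (.leaf 0xd0b0002) (.leaf 0x4519))) (.node 60060 (.leaf 0x7020000030703040103000b) (.node 60061 (.leaf 0x0) (.leaf 0xe0001))))) (.node 60068 (.node 60065 (.node 60063 (.leaf 0x0) (.node 60064 (.leaf 0xb0b0a0a0004) (.leaf 0x0))) (.node 60066 (.leaf 0x0) (.node 60067 (.leaf 0xb0001) (.leaf 0xf0a0a0003)))) (.node 60071 (.node 60069 (.leaf 0x0) (.node 60070 (.leaf 0xf0b0b0a0004) (.leaf 0xeaa500eaa4))) (.node 60072 (.leaf 0xe0a0002) (.node 60073 (.leaf 0x0) (.leaf 0xb0a0f0003))))))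

def argWS_5321 : Store := (.node 60051 argWS_5319 argWS_5320)

def argWS_5322 : Store := (.node 60029 argWS_5318 argWS_5321)

def argWS_5323 : Store := (.node 59984 argWS_5315 argWS_5322)

def argWS_5324 : Store := (.node 60085 (.node 60079 (.node 60076 (.node 60075 (.leaf 0x0) (.leaf 0x0)) (.node 60077 (.leaf 0xa0f0b0003) (.node 60078 (.leaf 0xb0f0a0a0004) (.leaf 0xb0b0a0003)))) (.node 60082 (.node 60080 (.leaf 0xeaae00eaad) (.node 60081 (.leaf 0x3030900090802040105000a) (.leaf 0x0))) (.node 60083 (.leaf 0xf0001) (.node 60084 (.leaf 0x0) (.leaf 0xa0a0002))))) (.node 60090 (.node 60087 (.node 60086 (.leaf 0x0) (.leaf 0x0)) (.node 60088 (.leaf 0xe0d0002) (.node 60089 (.leaf 0xa0001) (.leaf 0x9050206040802040105000a)))) (.node 60093 (.node 60091 (.leaf 0x0) (.node 60092 (.leaf 0xf0b0b0a0a0005) (.leaf 0x0))) (.node 60094 (.leaf 0xeabc00eab8) (.node 60095 (.leaf 0x3070206000802040105000b) (.leaf 0x0))))))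

def argWS_5325 : Store := (.node 60107 (.node 60101 (.node 60098 (.node 60097 (.leaf 0xf0a0002) (.leaf 0x0)) (.node 60099 (.leaf 0xf0b0b0003) (.node 60100 (.leaf 0x0) (.leaf 0x0)))) (.node 60104 (.node 60102 (.leaf 0x8000009020602000703040103000d) (.node 60103 (.leaf 0x0) (.leaf 0xb0f0a0a0004))) (.node 60105 (.leaf 0x0) (.node 60106 (.leaf 0xf0b0a0a0004) (.leaf 0x20903070009030007))))) (.node 60113 (.node 60110 (.node 60108 (.leaf 0x0) (.node 60109 (.leaf 0xa0f0b0003) (.leaf 0x0))) (.node 60111 (.leaf 0xeacd00eac9) (.node 60112 (.leaf 0xa0f0b0b0004) (.leaf 0x0)))) (.node 60116 (.node 60114 (.leaf 0xa0001) (.node 60115 (.leaf 0x0) (.leaf 0x0))) (.node 60117 (.leaf 0xa0001) (.node 60118 (.leaf 0xb0a0a0003) (.leaf 0xa89400ead5))))))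

def argWS_5326 : Store := (.node 60096 argWS_5324 argWS_5325)

def argWS_5327 : Store := (.node 60130 (.node 60124 (.node 60121 (.node 60120 (.leaf 0x700000900090802040105000b) (.leaf 0x0)) (.node 60122 (.leaf 0x0) (.node 60123 (.leaf 0xa0f0b0b0004) (.leaf 0x0)))) (.node 60127 (.node 60125 (.leaf 0x0) (.node 60126 (.leaf 0xe0001) (.leaf 0x104000601050002000703040103000e))) (.node 60128 (.leaf 0x0) (.node 60129 (.leaf 0xb0b0002) (.leaf 0x0))))) (.node 60135 (.node 60132 (.node 60131 (.leaf 0xb0b0002) (.leaf 0xeae200eae1)) (.node 60133 (.leaf 0xb0a0f0003) (.node 60134 (.leaf 0x0) (.leaf 0xf0b0b0003)))) (.node 60138 (.node 60136 (.leaf 0x0) (.node 60137 (.leaf 0x0) (.leaf 0xa0f0002))) (.node 60139 (.leaf 0xb0a0f0003) (.node 60140 (.leaf 0xeaea00eae9) (.leaf 0xf0b0002))))))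

def argWS_5328 : Store := (.node 60152 (.node 60146 (.node 60143 (.node 60142 (.leaf 0x0) (.leaf 0x40400020804000802040105000c)) (.node 60144 (.leaf 0x0) (.node 60145 (.leaf 0xd0b0b0003) (.leaf 0xb0b0a0a0004)))) (.node 60149 (.node 60147 (.leaf 0x503090000090007) (.node 60148 (.leaf 0x0) (.leaf 0xa0f0b0b0004))) (.node 60150 (.leaf 0x0) (.node 60151 (.leaf 0xeaf5) (.leaf 0x301070206000202000701000b))))) (.node 60158 (.node 60155 (.node 60153 (.leaf 0x0) (.node 60154 (.leaf 0xd0001) (.leaf 0x0))) (.node 60156 (.leaf 0xf0001) (.node 60157 (.leaf 0x0) (.leaf 0x0)))) (.node 60161 (.node 60159 (.leaf 0x20205020604000703040103000c) (.node 60160 (.leaf 0x0) (.leaf 0xf0a0002))) (.node 60162 (.leaf 0x0) (.node 60163 (.leaf 0xd0b0b0003) (.leaf 0xeb02))))))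

def argWS_5329 : Store := (.node 60141 argWS_5327 argWS_5328)

def argWS_5330 : Store := (.node 60119 argWS_5326 argWS_5329)

def argWS_5331 : Store := (.node 60175 (.node 60169 (.node 60166 (.node 60165 (.leaf 0xf0a0a0003) (.leaf 0x0)) (.node 60167 (.leaf 0x3070009000009000703040103000d) (.node 60168 (.leaf 0x0) (.leaf 0xb0f0002)))) (.node 60172 (.node 60170 (.leaf 0xb0a0a0003) (.node 60171 (.leaf 0xb0001) (.leaf 0xeb0a))) (.node 60173 (.leaf 0xb0a0f0003) (.node 60174 (.leaf 0x0) (.leaf 0xb0f0a0003))))) (.node 60180 (.node 60177 (.node 60176 (.leaf 0x0) (.leaf 0x0)) (.node 60178 (.leaf 0xa0f0002) (.node 60179 (.leaf 0xa0f0002) (.leaf 0xeb1200eb11)))) (.node 60183 (.node 60181 (.leaf 0x40304000408010007) (.node 60182 (.leaf 0x0) (.leaf 0xb0001))) (.node 60184 (.leaf 0x0) (.node 60185 (.leaf 0xf0b0a0a0004) (.leaf 0x0))))))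

def argWS_5332 : Store := (.node 60197 (.node 60191 (.node 60188 (.node 60187 (.leaf 0x0) (.leaf 0xb0f0a0003)) (.node 60189 (.leaf 0xf0b0a0a0004) (.node 60190 (.leaf 0xeb1c) (.leaf 0xa0001)))) (.node 60194 (.node 60192 (.leaf 0x0) (.node 60193 (.leaf 0xd0b0b0003) (.leaf 0x0))) (.node 60195 (.leaf 0x0) (.node 60196 (.leaf 0x209030003030604000703040103000e) (.leaf 0x0))))) (.node 60203 (.node 60200 (.node 60198 (.leaf 0xb0a0002) (.node 60199 (.leaf 0x0) (.leaf 0x7050009020602000703040103000d))) (.node 60201 (.leaf 0x0) (.node 60202 (.leaf 0x0) (.leaf 0xeb2900eb26)))) (.node 60206 (.node 60204 (.leaf 0xb0a0f0003) (.node 60205 (.leaf 0x0) (.leaf 0xf0a0002))) (.node 60207 (.leaf 0x0) (.node 60208 (.leaf 0xf0b0a0a0004) (.leaf 0xb0f0002))))))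

def argWS_5333 : Store := (.node 60186 argWS_5331 argWS_5332)

def argWS_5334 : Store := (.node 60220 (.node 60214 (.node 60211 (.node 60210 (.leaf 0xa0001) (.leaf 0xeb3100eb30)) (.node 60212 (.leaf 0xb0b0002) (.node 60213 (.leaf 0x0) (.leaf 0xf0a0a0003)))) (.node 60217 (.node 60215 (.leaf 0x0) (.node 60216 (.leaf 0x0) (.leaf 0xa0a0002))) (.node 60218 (.leaf 0xf0b0a0a0004) (.node 60219 (.leaf 0xf0b0b0a0004) (.leaf 0xeb3a00eb39))))) (.node 60226 (.node 60223 (.node 60221 (.leaf 0xe0a0a0003) (.node 60222 (.leaf 0x0) (.leaf 0xb0a0002))) (.node 60224 (.leaf 0x0) (.node 60225 (.leaf 0x0) (.leaf 0xe0a0a0003)))) (.node 60229 (.node 60227 (.leaf 0xb0f0002) (.node 60228 (.leaf 0x20003010102000007) (.leaf 0x0))) (.node 60230 (.leaf 0xd0b0002) (.node 60231 (.leaf 0x0) (.leaf 0xeb4600eb42))))))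

def argWS_5335 : Store := (.node 60243 (.node 60237 (.node 60234 (.node 60233 (.leaf 0x6040006010500020008) (.leaf 0x0)) (.node 60235 (.leaf 0xf0b0b0a0a0005) (.node 60236 (.leaf 0x0) (.leaf 0xb0b0002)))) (.node 60240 (.node 60238 (.leaf 0x0) (.node 60239 (.leaf 0x0) (.leaf 0xf0b0b0a0004))) (.node 60241 (.leaf 0x7050206020007010008) (.node 60242 (.leaf 0x0) (.leaf 0xf0b0a0003))))) (.node 60249 (.node 60246 (.node 60244 (.leaf 0x0) (.node 60245 (.leaf 0xeb5300eb4f) (.leaf 0x40305020202010802040105000c))) (.node 60247 (.leaf 0x0) (.node 60248 (.leaf 0xf0b0002) (.leaf 0x0)))) (.node 60252 (.node 60250 (.leaf 0xf0b0a0003) (.node 60251 (.leaf 0x0) (.leaf 0x0))) (.node 60253 (.leaf 0xf0a0a0003) (.node 60254 (.leaf 0xb0a0002) (.leaf 0xeb5d00eb5c))))))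

def argWS_5336 : Store := (.node 60232 argWS_5334 argWS_5335)

def argWS_5337 : Store := (.node 60209 argWS_5333 argWS_5336)

def argWS_5338 : Store := (.node 60164 argWS_5330 argWS_5337)

def argWS_5339 : Store := (.node 60074 argWS_5323 argWS_5338)

def argWS_5340 : Store := (.node 60266 (.node 60260 (.node 60257 (.node 60256 (.leaf 0xb0a0002) (.leaf 0x0)) (.node 60258 (.leaf 0xa0f0b0003) (.node 60259 (.leaf 0x0) (.leaf 0x0)))) (.node 60263 (.node 60261 (.leaf 0xa0f0b0b0004) (.node 60262 (.leaf 0x6040103010102000008) (.leaf 0x0))) (.node 60264 (.leaf 0xe0a0a0003) (.node 60265 (.leaf 0x0) (.leaf 0x500070206000006))))) (.node 60271 (.node 60268 (.node 60267 (.leaf 0x0) (.leaf 0xb0a0a0003)) (.node 60269 (.leaf 0x0) (.node 60270 (.leaf 0xeb6c00eb68) (.leaf 0xf0b0a0003)))) (.node 60274 (.node 60272 (.leaf 0x0) (.node 60273 (.leaf 0xf0b0b0a0a0005) (.leaf 0x0))) (.node 60275 (.leaf 0x0) (.node 60276 (.leaf 0xa0f0002) (.leaf 0xf0b0a0003))))))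

def argWS_5341 : Store := (.node 60288 (.node 60282 (.node 60279 (.node 60278 (.leaf 0xb060) (.leaf 0xe0001)) (.node 60280 (.leaf 0x0) (.node 60281 (.leaf 0xd0b0b0003) (.leaf 0x0)))) (.node 60285 (.node 60283 (.leaf 0x0) (.node 60284 (.leaf 0xf0a0002) (.leaf 0xf0b0b0a0a0005))) (.node 60286 (.leaf 0x5020002010606000703040103000d) (.node 60287 (.leaf 0x0) (.leaf 0xf0b0b0003))))) (.node 60294 (.node 60291 (.node 60289 (.leaf 0x0) (.node 60290 (.leaf 0xeb8000eb7c) (.leaf 0x40003090000090007))) (.node 60292 (.leaf 0x0) (.node 60293 (.leaf 0xa0001) (.leaf 0x0)))) (.node 60297 (.node 60295 (.leaf 0xb0f0002) (.node 60296 (.leaf 0x0) (.leaf 0x0))) (.node 60298 (.leaf 0xd0b0002) (.node 60299 (.leaf 0xd0001) (.leaf 0xb0f0002))))))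

def argWS_5342 : Store := (.node 60277 argWS_5340 argWS_5341)

def argWS_5343 : Store := (.node 60311 (.node 60305 (.node 60302 (.node 60301 (.leaf 0xeb8b00eb8a) (.leaf 0xb0b0a0a0004)) (.node 60303 (.leaf 0x0) (.node 60304 (.leaf 0xa0001) (.leaf 0x0)))) (.node 60308 (.node 60306 (.leaf 0x0) (.node 60307 (.leaf 0x20506020702010202000701000c) (.leaf 0x0))) (.node 60309 (.leaf 0xf0b0a0003) (.node 60310 (.leaf 0x0) (.leaf 0xa0a0002))))) (.node 60316 (.node 60313 (.node 60312 (.leaf 0x103070206000802040105000b) (.leaf 0x0)) (.node 60314 (.leaf 0xb0b0002) (.node 60315 (.leaf 0x0) (.leaf 0xeb9a00eb96)))) (.node 60319 (.node 60317 (.leaf 0xf0b0002) (.node 60318 (.leaf 0x0) (.leaf 0x906060207020703040103000b))) (.node 60320 (.leaf 0x0) (.node 60321 (.leaf 0xb0a0f0003) (.leaf 0x70009030006))))))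

def argWS_5344 : Store := (.node 60333 (.node 60327 (.node 60324 (.node 60323 (.leaf 0x0) (.leaf 0xf0b0b0a0a0005)) (.node 60325 (.leaf 0x0) (.node 60326 (.leaf 0x2000006020702010202000701000d) (.leaf 0x0)))) (.node 60330 (.node 60328 (.leaf 0xf0b0a0003) (.node 60329 (.leaf 0x0) (.leaf 0xb0b0a0a0004))) (.node 60331 (.leaf 0xeba900eba8) (.node 60332 (.leaf 0xf0b0b0003) (.leaf 0x0))))) (.node 60339 (.node 60336 (.node 60334 (.leaf 0xb0a0a0003) (.node 60335 (.leaf 0x0) (.leaf 0x0))) (.node 60337 (.leaf 0xf0b0002) (.node 60338 (.leaf 0xf0b0a0a0004) (.leaf 0xebb1)))) (.node 60342 (.node 60340 (.leaf 0xb0b0a0003) (.node 60341 (.leaf 0x0) (.leaf 0xd0001))) (.node 60343 (.leaf 0x0) (.node 60344 (.leaf 0x0) (.leaf 0xe0a0a0003))))))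

def argWS_5345 : Store := (.node 60322 argWS_5343 argWS_5344)

def argWS_5346 : Store := (.node 60300 argWS_5342 argWS_5345)

def argWS_5347 : Store := (.node 60356 (.node 60350 (.node 60347 (.node 60346 (.leaf 0x702020900000802040105000c) (.leaf 0x0)) (.node 60348 (.leaf 0xd0001) (.node 60349 (.leaf 0x0) (.leaf 0xd5e100ebbc)))) (.node 60353 (.node 60351 (.leaf 0xb0f0a0003) (.node 60352 (.leaf 0x0) (.leaf 0xb0f0a0a0004))) (.node 60354 (.leaf 0x0) (.node 60355 (.leaf 0x0) (.leaf 0x10200000300000007))))) (.node 60361 (.node 60358 (.node 60357 (.leaf 0x0) (.leaf 0xe0d0002)) (.node 60359 (.leaf 0x0) (.node 60360 (.leaf 0x60500020804000802040105000c) (.leaf 0x0)))) (.node 60364 (.node 60362 (.leaf 0xe0a0a0003) (.node 60363 (.leaf 0x0) (.leaf 0xebca008777))) (.node 60365 (.leaf 0xa0f0002) (.node 60366 (.leaf 0x0) (.leaf 0x60401010908050007))))))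

def argWS_5348 : Store := (.node 60378 (.node 60372 (.node 60369 (.node 60368 (.leaf 0x0) (.leaf 0xa0f0b0003)) (.node 60370 (.leaf 0xb0f0a0a0004) (.node 60371 (.leaf 0xf0a0a0003) (.leaf 0x20201070306000703040103000c)))) (.node 60375 (.node 60373 (.leaf 0x0) (.node 60374 (.leaf 0xb0b0a0003) (.leaf 0x0))) (.node 60376 (.leaf 0xebd600ebd2) (.node 60377 (.leaf 0x40000090206020202000701000d) (.leaf 0x0))))) (.node 60384 (.node 60381 (.node 60379 (.leaf 0xe0a0002) (.node 60380 (.leaf 0x0) (.leaf 0xb0b0a0003))) (.node 60382 (.leaf 0x0) (.node 60383 (.leaf 0xd0b0002) (.leaf 0xb0b0a0a0004)))) (.node 60387 (.node 60385 (.leaf 0xebdf) (.node 60386 (.leaf 0x400020804000202000701000b) (.leaf 0x0))) (.node 60388 (.leaf 0xd0b0b0003) (.node 60389 (.leaf 0x0) (.leaf 0xf0b0a0003))))))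

def argWS_5349 : Store := (.node 60367 argWS_5347 argWS_5348)

def argWS_5350 : Store := (.node 60401 (.node 60395 (.node 60392 (.node 60391 (.leaf 0x0) (.leaf 0x0)) (.node 60393 (.leaf 0x70400000300000202000701000c) (.node 60394 (.leaf 0x0) (.leaf 0xd0b0002)))) (.node 60398 (.node 60396 (.leaf 0x0) (.node 60397 (.leaf 0xf0a0a0003) (.leaf 0xebec))) (.node 60399 (.leaf 0xb0001) (.node 60400 (.leaf 0x0) (.leaf 0x8000207020007010009))))) (.node 60406 (.node 60403 (.node 60402 (.leaf 0x0) (.leaf 0xa0f0b0b0004)) (.node 60404 (.leaf 0xa0f0b0003) (.node 60405 (.leaf 0x8000400000300000202000701000d) (.leaf 0x0)))) (.node 60409 (.node 60407 (.leaf 0xb0a0f0003) (.node 60408 (.leaf 0x0) (.leaf 0xebf7))) (.node 60410 (.leaf 0xa0f0002) (.node 60411 (.leaf 0x0) (.leaf 0xb0f0a0003))))))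

def argWS_5351 : Store := (.node 60423 (.node 60417 (.node 60414 (.node 60413 (.leaf 0x0) (.leaf 0x0)) (.node 60415 (.leaf 0xa0f0b0b0004) (.node 60416 (.leaf 0xb0001) (.leaf 0x5020202010802040105000c)))) (.node 60420 (.node 60418 (.leaf 0x0) (.node 60419 (.leaf 0x0) (.leaf 0xec0200ebff))) (.node 60421 (.leaf 0xd0b0b0003) (.node 60422 (.leaf 0x0) (.leaf 0xb0001))))) (.node 60429 (.node 60426 (.node 60424 (.leaf 0x0) (.node 60425 (.leaf 0x0) (.leaf 0xe0001))) (.node 60427 (.leaf 0x102020901090006) (.node 60428 (.leaf 0x0) (.leaf 0xb0f0a0a0004)))) (.node 60432 (.node 60430 (.leaf 0x0) (.node 60431 (.leaf 0xf0b0b0003) (.leaf 0xec0e00ec0d))) (.node 60433 (.leaf 0x204000003010202000701000b) (.node 60434 (.leaf 0x0) (.leaf 0x0))))))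

def argWS_5352 : Store := (.node 60412 argWS_5350 argWS_5351)

def argWS_5353 : Store := (.node 60390 argWS_5349 argWS_5352)

def argWS_5354 : Store := (.node 60345 argWS_5346 argWS_5353)

def argWS_5355 : Store := (.node 60446 (.node 60440 (.node 60437 (.node 60436 (.leaf 0xb0b0a0a0004) (.leaf 0x0)) (.node 60438 (.leaf 0x0) (.node 60439 (.leaf 0x70101010703060802040105000c) (.leaf 0x0)))) (.node 60443 (.node 60441 (.leaf 0x0) (.node 60442 (.leaf 0xf0b0b0a0a0005) (.leaf 0x60006020702010802040105000d))) (.node 60444 (.leaf 0x0) (.node 60445 (.leaf 0xf0b0002) (.leaf 0x0))))) (.node 60451 (.node 60448 (.node 60447 (.leaf 0xec1d00ec19) (.leaf 0xa0a0002)) (.node 60449 (.leaf 0x0) (.node 60450 (.leaf 0x9070008020401050008) (.leaf 0x0)))) (.node 60454 (.node 60452 (.leaf 0xf0b0b0a0004) (.node 60453 (.leaf 0x60206020007010007) (.leaf 0x0))) (.node 60455 (.leaf 0xb0f0002) (.node 60456 (.leaf 0x0) (.leaf 0x20702010004))))))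

def argWS_5356 : Store := (.node 60468 (.node 60462 (.node 60459 (.node 60458 (.leaf 0x0) (.leaf 0x0)) (.node 60460 (.leaf 0xec2a00ec27) (.node 60461 (.leaf 0xf0a0002) (.leaf 0x0)))) (.node 60465 (.node 60463 (.leaf 0xb0a0f0003) (.node 60464 (.leaf 0x0) (.leaf 0xb0001))) (.node 60466 (.leaf 0xe0a0002) (.node 60467 (.leaf 0xec31) (.leaf 0xf0a0a0003))))) (.node 60474 (.node 60471 (.node 60469 (.leaf 0x0) (.node 60470 (.leaf 0xa0f0b0b0004) (.leaf 0x0))) (.node 60472 (.leaf 0x0) (.node 60473 (.leaf 0xe0a0002) (.leaf 0x606010500020006)))) (.node 60477 (.node 60475 (.leaf 0x0) (.node 60476 (.leaf 0xf0b0a0a0004) (.leaf 0x0))) (.node 60478 (.leaf 0xec3c) (.node 60479 (.leaf 0xa0f0b0003) (.leaf 0x0))))))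

def argWS_5357 : Store := (.node 60457 argWS_5355 argWS_5356)

def argWS_5358 : Store := (.node 60491 (.node 60485 (.node 60482 (.node 60481 (.leaf 0xf0a0002) (.leaf 0x0)) (.node 60483 (.leaf 0x0) (.node 60484 (.leaf 0xb0f0a0003) (.leaf 0xf0b0a0a0004)))) (.node 60488 (.node 60486 (.leaf 0xec44) (.node 60487 (.leaf 0x704080102020007010009) (.leaf 0x0))) (.node 60489 (.leaf 0xd0b0b0003) (.node 60490 (.leaf 0x0) (.leaf 0xf0001))))) (.node 60496 (.node 60493 (.node 60492 (.leaf 0x0) (.leaf 0x0)) (.node 60494 (.leaf 0xd0b0002) (.node 60495 (.leaf 0xf0b0a0a0004) (.leaf 0x500070209020202000701000b)))) (.node 60499 (.node 60497 (.leaf 0x0) (.node 60498 (.leaf 0xf0a0a0003) (.leaf 0x0))) (.node 60500 (.leaf 0xec5200ec4e) (.node 60501 (.leaf 0x9070006010500020802040105000d) (.leaf 0x0))))))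

def argWS_5359 : Store := (.node 60513 (.node 60507 (.node 60504 (.node 60503 (.leaf 0xb0f0a0a0004) (.leaf 0x0)) (.node 60505 (.leaf 0xa0f0b0b0004) (.node 60506 (.leaf 0x0) (.leaf 0x0)))) (.node 60510 (.node 60508 (.leaf 0xb0001) (.node 60509 (.leaf 0x1030106010500020202000701000d) (.leaf 0x0))) (.node 60511 (.leaf 0xb0a0f0003) (.node 60512 (.leaf 0x0) (.leaf 0xb0a0002))))) (.node 60519 (.node 60516 (.node 60514 (.leaf 0xec6000ec5f) (.node 60515 (.leaf 0xe0001) (.leaf 0x0))) (.node 60517 (.leaf 0xa0f0b0003) (.node 60518 (.leaf 0x0) (.leaf 0x0)))) (.node 60522 (.node 60520 (.leaf 0xf0b0a0003) (.node 60521 (.leaf 0xb0f0002) (.leaf 0x103090805000703040103000b))) (.node 60523 (.leaf 0x0) (.node 60524 (.leaf 0xe0a0a0003) (.leaf 0x0))))))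

def argWS_5360 : Store := (.node 60502 argWS_5358 argWS_5359)

def argWS_5361 : Store := (.node 60480 argWS_5357 argWS_5360)

def argWS_5362 : Store := (.node 60536 (.node 60530 (.node 60527 (.node 60526 (.leaf 0xec6c00ec68) (.leaf 0xf0b0a0a0004)) (.node 60528 (.leaf 0x0) (.node 60529 (.leaf 0xa0f0b0b0004) (.leaf 0x0)))) (.node 60533 (.node 60531 (.leaf 0x0) (.node 60532 (.leaf 0xd0001) (.leaf 0x20903000408010202000701000c))) (.node 60534 (.leaf 0x0) (.node 60535 (.leaf 0xf0b0a0003) (.leaf 0x0))))) (.node 60541 (.node 60538 (.node 60537 (.leaf 0xa0a0002) (.leaf 0xec7800ec77)) (.node 60539 (.leaf 0xf0b0b0a0a0005) (.node 60540 (.leaf 0x0) (.leaf 0xb0f0a0a0004)))) (.node 60544 (.node 60542 (.leaf 0x0) (.node 60543 (.leaf 0x0) (.leaf 0xd0001))) (.node 60545 (.leaf 0xd0001) (.node 60546 (.leaf 0x6020009000009000703040103000d) (.leaf 0x0))))))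

def argWS_5363 : Store := (.node 60558 (.node 60552 (.node 60549 (.node 60548 (.leaf 0xb0a0a0003) (.leaf 0x0)) (.node 60550 (.leaf 0xec8400ec80) (.node 60551 (.leaf 0xb0f0a0a0004) (.leaf 0x0)))) (.node 60555 (.node 60553 (.leaf 0x202010904020802040105000b) (.node 60554 (.leaf 0x0) (.leaf 0xd0b0b0003))) (.node 60556 (.leaf 0xa0a0002) (.node 60557 (.leaf 0xf0a0002) (.leaf 0xb0001))))) (.node 60564 (.node 60561 (.node 60559 (.leaf 0xec8d00ec8c) (.node 60560 (.leaf 0xa0f0b0003) (.leaf 0x0))) (.node 60562 (.leaf 0xf0b0a0a0004) (.node 60563 (.leaf 0x0) (.leaf 0x0)))) (.node 60567 (.node 60565 (.leaf 0x20003010102000202000701000c) (.node 60566 (.leaf 0x0) (.leaf 0xd0001))) (.node 60568 (.leaf 0x0) (.node 60569 (.leaf 0x200020106060802040105000b) (.leaf 0x0))))))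

def argWS_5364 : Store := (.node 60547 argWS_5362 argWS_5363)

def argWS_5365 : Store := (.node 60581 (.node 60575 (.node 60572 (.node 60571 (.leaf 0xf0b0b0003) (.leaf 0x0)) (.node 60573 (.leaf 0xb0f0a0003) (.node 60574 (.leaf 0xec9c00ec9b) (.leaf 0xb0001)))) (.node 60578 (.node 60576 (.leaf 0x0) (.node 60577 (.leaf 0xf0b0a0a0004) (.leaf 0x0))) (.node 60579 (.leaf 0x0) (.node 60580 (.leaf 0x10502020703000703040103000c) (.leaf 0x0))))) (.node 60587 (.node 60584 (.node 60582 (.leaf 0xf0b0b0a0a0005) (.node 60583 (.leaf 0x0) (.leaf 0xa0f0002))) (.node 60585 (.leaf 0x70006010500020007) (.node 60586 (.leaf 0x0) (.leaf 0xa0f0002)))) (.node 60590 (.node 60588 (.leaf 0x0) (.node 60589 (.leaf 0xecab00eca7) (.leaf 0xa0a0002))) (.node 60591 (.leaf 0x0) (.node 60592 (.leaf 0xf0b0b0a0a0005) (.leaf 0x0))))))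

def argWS_5366 : Store := (.node 60604 (.node 60598 (.node 60595 (.node 60594 (.leaf 0x0) (.leaf 0xb0b0002)) (.node 60596 (.leaf 0xa0f0b0b0004) (.node 60597 (.leaf 0xecb300e409) (.leaf 0x505020604000703040103000b)))) (.node 60601 (.node 60599 (.leaf 0x0) (.node 60600 (.leaf 0xb0b0002) (.leaf 0x0))) (.node 60602 (.leaf 0xb0b0a0a0004) (.node 60603 (.leaf 0x0) (.leaf 0x0))))) (.node 60610 (.node 60607 (.node 60605 (.leaf 0xe0a0002) (.node 60606 (.leaf 0x60000090009000703040103000c) (.leaf 0x0))) (.node 60608 (.leaf 0xf0b0a0003) (.node 60609 (.leaf 0x0) (.leaf 0xb0b0a0003)))) (.node 60613 (.node 60611 (.leaf 0xecc100ecc0) (.node 60612 (.leaf 0xa0001) (.leaf 0x0))) (.node 60614 (.leaf 0xf0b0b0a0004) (.node 60615 (.leaf 0x0) (.leaf 0x0))))))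

def argWS_5367 : Store := (.node 60593 argWS_5365 argWS_5366)

def argWS_5368 : Store := (.node 60570 argWS_5364 argWS_5367)

def argWS_5369 : Store := (.node 60525 argWS_5361 argWS_5368)

def argWS_5370 : Store := (.node 60435 argWS_5354 argWS_5369)

def argWS_5371 : Store := (.node 60255 argWS_5339 argWS_5370)

def argWS_5372 : Store := (.node 59894 argWS_5308 argWS_5371)

def argWS_5373 : Store := (.node 59173 argWS_5245 argWS_5372)

def argWS_5374 : Store := (.node 60627 (.node 60621 (.node 60618 (.node 60617 (.leaf 0xf0001) (.leaf 0xf0b0002)) (.node 60619 (.leaf 0xecc9) (.node 60620 (.leaf 0xa0a0002) (.leaf 0x0)))) (.node 60624 (.node 60622 (.leaf 0xb0b0a0a0004) (.node 60623 (.leaf 0x0) (.leaf 0xb0f0a0a0004))) (.node 60625 (.leaf 0xb0b0a0a0004) (.node 60626 (.leaf 0x3070007000902000701000a) (.leaf 0x0))))) (.node 60632 (.node 60629 (.node 60628 (.leaf 0xb0f0a0003) (.leaf 0x0)) (.node 60630 (.leaf 0xecd400ecd0) (.node 60631 (.leaf 0xa0f0b0b0004) (.leaf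 0x0)))) (.node 60635 (.node 60633 (.leaf 0xd0b0002) (.node 60634 (.leaf 0x0) (.leaf 0x0))) (.node 60636 (.leaf 0x4090106000703040103000a) (.node 60637 (.leaf 0x0) (.leaf 0xb0a0f0003))))))

def argWS_5375 : Store := (.node 60649 (.node 60643 (.node 60640 (.node 60639 (.leaf 0x0) (.leaf 0x3030301010200000703040103000d)) (.node 60641 (.leaf 0x0) (.node 60642 (.leaf 0xe0a0a0003) (.leaf 0x0)))) (.node 60646 (.node 60644 (.leaf 0xf0b0002) (.node 60645 (.leaf 0xece300ece2) (.leaf 0xe0a0a0003))) (.node 60647 (.leaf 0x0) (.node 60648 (.leaf 0x2000408010202000701000b) (.leaf 0x0))))) (.node 60655 (.node 60652 (.node 60650 (.leaf 0xb0b0a0a0004) (.node 60651 (.leaf 0x9070308000703040103000a) (.leaf 0x0))) (.node 60653 (.leaf 0xb0b0002) (.node 60654 (.leaf 0x0) (.leaf 0x40304010904020802040105000c)))) (.node 60658 (.node 60656 (.leaf 0x0) (.node 60657 (.leaf 0xb0001) (.leaf 0x0))) (.node 60659 (.leaf 0xecf100eced) (.node 60660 (.leaf 0xf0b0a0a0004) (.leaf 0x0))))))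

def argWS_5376 : Store := (.node 60638 argWS_5374 argWS_5375)

def argWS_5377 : Store := (.node 60672 (.node 60666 (.node 60663 (.node 60662 (.leaf 0xa0a0002) (.leaf 0x0)) (.node 60664 (.leaf 0x0) (.node 60665 (.leaf 0xe0001) (.leaf 0xa0f0b0b0004)))) (.node 60669 (.node 60667 (.leaf 0xd0001) (.node 60668 (.leaf 0x0) (.leaf 0xecfb00ecf9))) (.node 60670 (.leaf 0xf0b0b0a0a0005) (.node 60671 (.leaf 0x0) (.leaf 0xd0b0002))))) (.node 60677 (.node 60674 (.node 60673 (.leaf 0x0) (.leaf 0x0)) (.node 60675 (.leaf 0xe0001) (.node 60676 (.leaf 0xed02) (.leaf 0xf0b0b0003)))) (.node 60680 (.node 60678 (.leaf 0x0) (.node 60679 (.leaf 0xb0001) (.leaf 0x0))) (.node 60681 (.leaf 0x0) (.node 60682 (.leaf 0xb0f0a0a0004) (.leaf 0x2020000000300000202000701000d))))))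

def argWS_5378 : Store := (.node 60694 (.node 60688 (.node 60685 (.node 60684 (.leaf 0x0) (.leaf 0xf0b0a0a0004)) (.node 60686 (.leaf 0x0) (.node 60687 (.leaf 0xa0f0002) (.leaf 0xed0e00ed0d)))) (.node 60691 (.node 60689 (.leaf 0xe0a0002) (.node 60690 (.leaf 0x0) (.leaf 0xb0b0a0a0004))) (.node 60692 (.leaf 0x0) (.node 60693 (.leaf 0x0) (.leaf 0xe0001))))) (.node 60700 (.node 60697 (.node 60695 (.leaf 0xb0b0a0a0004) (.node 60696 (.leaf 0xd0b0002) (.leaf 0xed1700ed16))) (.node 60698 (.leaf 0x5020603000703040103000a) (.node 60699 (.leaf 0x0) (.leaf 0xb0001)))) (.node 60703 (.node 60701 (.leaf 0x0) (.node 60702 (.leaf 0xb0a0a0003) (.leaf 0x0))) (.node 60704 (.leaf 0x0) (.node 60705 (.leaf 0xa0001) (.leaf 0x10300030306040202000701000c))))))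

def argWS_5379 : Store := (.node 60683 argWS_5377 argWS_5378)

def argWS_5380 : Store := (.node 60661 argWS_5376 argWS_5379)

def argWS_5381 : Store := (.node 60717 (.node 60711 (.node 60708 (.node 60707 (.leaf 0x0) (.leaf 0xf0b0a0003)) (.node 60709 (.leaf 0x0) (.node 60710 (.leaf 0x60400070206000802040105000c) (.leaf 0x0)))) (.node 60714 (.node 60712 (.leaf 0xb0b0a0a0004) (.node 60713 (.leaf 0x0) (.leaf 0xed2800ed24))) (.node 60715 (.leaf 0xb0b0a0a0004) (.node 60716 (.leaf 0x0) (.leaf 0xb0a0a0003))))) (.node 60722 (.node 60719 (.node 60718 (.leaf 0x0) (.leaf 0x0)) (.node 60720 (.leaf 0xe0d0002) (.node 60721 (.leaf 0xf0b0a0a0004) (.leaf 0xed30)))) (.node 60725 (.node 60723 (.leaf 0xa0f0b0b0004) (.node 60724 (.leaf 0x0) (.leaf 0xa0a0002))) (.node 60726 (.leaf 0x0) (.node 60727 (.leaf 0x0) (.leaf 0x40409080600000703040103000c))))))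

def argWS_5382 : Store := (.node 60739 (.node 60733 (.node 60730 (.node 60729 (.leaf 0x0) (.leaf 0xf0a0a0003)) (.node 60731 (.leaf 0x0) (.node 60732 (.leaf 0x205030802020007010009) (.leaf 0x0)))) (.node 60736 (.node 60734 (.leaf 0xf0001) (.node 60735 (.leaf 0x0) (.leaf 0xb0f0a0a0004))) (.node 60737 (.leaf 0xed3f00ed3e) (.node 60738 (.leaf 0xd0001) (.leaf 0x0))))) (.node 60745 (.node 60742 (.node 60740 (.leaf 0x4000403080202000701000a) (.node 60741 (.leaf 0x0) (.leaf 0xb0a0f0003))) (.node 60743 (.leaf 0xf0b0b0a0004) (.node 60744 (.leaf 0x50205020202010202000701000c) (.leaf 0x0)))) (.node 60748 (.node 60746 (.leaf 0xb0b0a0a0004) (.node 60747 (.leaf 0x0) (.leaf 0x2000206020702010008))) (.node 60749 (.leaf 0x0) (.node 60750 (.leaf 0xf0b0a0003) (.leaf 0x0))))))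

def argWS_5383 : Store := (.node 60728 argWS_5381 argWS_5382)

def argWS_5384 : Store := (.node 60762 (.node 60756 (.node 60753 (.node 60752 (.leaf 0xed4e00ed4a) (.leaf 0xb0f0a0003)) (.node 60754 (.leaf 0x0) (.node 60755 (.leaf 0xf0a0002) (.leaf 0x0)))) (.node 60759 (.node 60757 (.leaf 0x0) (.node 60758 (.leaf 0xf0b0002) (.leaf 0xa0001))) (.node 60760 (.leaf 0xe0a0a0003) (.node 60761 (.leaf 0xed5700ed56) (.leaf 0xa0f0002))))) (.node 60767 (.node 60764 (.node 60763 (.leaf 0x0) (.leaf 0xa0f0002)) (.node 60765 (.leaf 0x0) (.node 60766 (.leaf 0x0) (.leaf 0xe0a0002)))) (.node 60770 (.node 60768 (.leaf 0xb0b0a0003) (.node 60769 (.leaf 0xed5f) (.leaf 0xe0d0002))) (.node 60771 (.leaf 0x0) (.node 60772 (.leaf 0xf0b0b0a0a0005) (.leaf 0x0))))))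

def argWS_5385 : Store := (.node 60784 (.node 60778 (.node 60775 (.node 60774 (.leaf 0x0) (.leaf 0x50300020804000008)) (.node 60776 (.leaf 0x0) (.node 60777 (.leaf 0xf0b0a0003) (.leaf 0x0)))) (.node 60781 (.node 60779 (.leaf 0x505020202010802040105000b) (.node 60780 (.leaf 0x0) (.leaf 0xe0a0002))) (.node 60782 (.leaf 0x0) (.node 60783 (.leaf 0x90300070206000802040105000c) (.leaf 0x0))))) (.node 60790 (.node 60787 (.node 60785 (.leaf 0xa0f0b0003) (.node 60786 (.leaf 0x0) (.leaf 0xed7100ed6d))) (.node 60788 (.leaf 0xb0f0a0003) (.node 60789 (.leaf 0x0) (.leaf 0xb0b0a0003)))) (.node 60793 (.node 60791 (.leaf 0x0) (.node 60792 (.leaf 0x0) (.leaf 0x0))) (.node 60794 (.leaf 0x0) (.node 60795 (.leaf 0x0) (.leaf 0xb0b0a0003))))))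

def argWS_5386 : Store := (.node 60773 argWS_5384 argWS_5385)

def argWS_5387 : Store := (.node 60751 argWS_5383 argWS_5386)

def argWS_5388 : Store := (.node 60706 argWS_5380 argWS_5387)

def argWS_5389 : Store := (.node 60807 (.node 60801 (.node 60798 (.node 60797 (.leaf 0xb0a0002) (.leaf 0x20105020202010007)) (.node 60799 (.leaf 0x0) (.node 60800 (.leaf 0x0) (.leaf 0x5030400050005)))) (.node 60804 (.node 60802 (.leaf 0x0) (.node 60803 (.leaf 0xa0a0002) (.leaf 0x0))) (.node 60805 (.leaf 0xed8300ed7f) (.node 60806 (.leaf 0xe0001) (.leaf 0x0))))) (.node 60812 (.node 60809 (.node 60808 (.leaf 0x2090308020401050008) (.leaf 0x0)) (.node 60810 (.leaf 0xe0001) (.node 60811 (.leaf 0xf0a0002) (.leaf 0x60509080600000703040103000c)))) (.node 60815 (.node 60813 (.leaf 0x0) (.node 60814 (.leaf 0xb0f0a0003) (.leaf 0x0))) (.node 60816 (.leaf 0xed8e) (.node 60817 (.leaf 0xd0001) (.leaf 0x0))))))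

def argWS_5390 : Store := (.node 60829 (.node 60823 (.node 60820 (.node 60819 (.leaf 0x0) (.leaf 0xa0f0002)) (.node 60821 (.leaf 0x20106020702010802040105000c) (.node 60822 (.leaf 0x0) (.leaf 0xb0a0f0003)))) (.node 60826 (.node 60824 (.leaf 0x0) (.node 60825 (.leaf 0x60201090805000703040103000c) (.leaf 0x0))) (.node 60827 (.leaf 0xa0f0b0003) (.node 60828 (.leaf 0x0) (.leaf 0xed9b00ed97))))) (.node 60835 (.node 60832 (.node 60830 (.leaf 0x403000900090802040105000b) (.node 60831 (.leaf 0x0) (.leaf 0xf0b0a0a0004))) (.node 60833 (.leaf 0x0) (.node 60834 (.leaf 0xb0b0a0003) (.leaf 0x0)))) (.node 60838 (.node 60836 (.leaf 0x0) (.node 60837 (.leaf 0xa0a0002) (.leaf 0x10205020202010007))) (.node 60839 (.leaf 0x0) (.node 60840 (.leaf 0xf0b0b0a0a0005) (.leaf 0x0))))))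

def argWS_5391 : Store := (.node 60818 argWS_5389 argWS_5390)

def argWS_5392 : Store := (.node 60852 (.node 60846 (.node 60843 (.node 60842 (.leaf 0x6010901090802040105000a) (.leaf 0x0)) (.node 60844 (.leaf 0xb0a0002) (.node 60845 (.leaf 0x0) (.leaf 0xedac00eda8)))) (.node 60849 (.node 60847 (.leaf 0x20603010102000007) (.node 60848 (.leaf 0x0) (.leaf 0xe0a0a0003))) (.node 60850 (.leaf 0x0) (.node 60851 (.leaf 0xe0a0002) (.leaf 0x0))))) (.node 60857 (.node 60854 (.node 60853 (.leaf 0x0) (.leaf 0xf0a0a0003)) (.node 60855 (.leaf 0xf0001) (.node 60856 (.leaf 0xe0001) (.leaf 0x6010207000902000701000a)))) (.node 60860 (.node 60858 (.leaf 0x0) (.node 60859 (.leaf 0xb0b0a0003) (.leaf 0x0))) (.node 60861 (.leaf 0xedbb00edb7) (.node 60862 (.leaf 0xa0a0002) (.leaf 0x0))))))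

def argWS_5393 : Store := (.node 60874 (.node 60868 (.node 60865 (.node 60864 (.leaf 0xf0b0b0003) (.leaf 0x0)) (.node 60866 (.leaf 0x0) (.node 60867 (.leaf 0xf0001) (.leaf 0xb0b0002)))) (.node 60871 (.node 60869 (.leaf 0x9030007000902000701000a) (.node 60870 (.leaf 0x0) (.leaf 0xb0b0002))) (.node 60872 (.leaf 0x0) (.node 60873 (.leaf 0xdebb00edc7) (.leaf 0x70009020007010007))))) (.node 60880 (.node 60877 (.node 60875 (.leaf 0x0) (.node 60876 (.leaf 0xf0a0a0003) (.leaf 0x0))) (.node 60878 (.leaf 0xf0a0002) (.node 60879 (.leaf 0x0) (.leaf 0x0)))) (.node 60883 (.node 60881 (.leaf 0xf0a0002) (.node 60882 (.leaf 0xb0f0002) (.leaf 0xa0f0b0003))) (.node 60884 (.leaf 0x40306030500040202000701000c) (.node 60885 (.leaf 0x0) (.leaf 0x0))))))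

def argWS_5394 : Store := (.node 60863 argWS_5392 argWS_5393)

def argWS_5395 : Store := (.node 60841 argWS_5391 argWS_5394)

def argWS_5396 : Store := (.node 60897 (.node 60891 (.node 60888 (.node 60887 (.leaf 0xa0f0b0003) (.leaf 0xedd600edd5)) (.node 60889 (.leaf 0xb0a0f0003) (.node 60890 (.leaf 0x0) (.leaf 0xe0a0a0003)))) (.node 60894 (.node 60892 (.leaf 0x0) (.node 60893 (.leaf 0x0) (.leaf 0x304010207030006))) (.node 60895 (.leaf 0x0) (.node 60896 (.leaf 0xb0f0002) (.leaf 0x0))))) (.node 60902 (.node 60899 (.node 60898 (.leaf 0xb0a0a0003) (.leaf 0xede1)) (.node 60900 (.leaf 0xb0a0a0003) (.node 60901 (.leaf 0x0) (.leaf 0x404070009030802040105000b)))) (.node 60905 (.node 60903 (.leaf 0x0) (.node 60904 (.leaf 0xe0a0a0003) (.leaf 0xf0b0a0a0004))) (.node 60906 (.leaf 0x1010900090802040105000a) (.node 60907 (.leaf 0x0) (.leaf 0xb0b0a0a0004))))))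

def argWS_5397 : Store := (.node 60919 (.node 60913 (.node 60910 (.node 60909 (.leaf 0x0) (.leaf 0xedec008aea)) (.node 60911 (.leaf 0x307090000090006) (.node 60912 (.leaf 0x0) (.leaf 0xf0a0a0003)))) (.node 60916 (.node 60914 (.leaf 0x0) (.node 60915 (.leaf 0xa0f0b0b0004) (.leaf 0x0))) (.node 60917 (.leaf 0x0) (.node 60918 (.leaf 0xb0b0a0a0004) (.leaf 0xacc00e364))))) (.node 60925 (.node 60922 (.node 60920 (.leaf 0xd0b0b0003) (.node 60921 (.leaf 0x0) (.leaf 0xf0a0002))) (.node 60923 (.leaf 0x0) (.node 60924 (.leaf 0x0) (.leaf 0xf0b0002)))) (.node 60928 (.node 60926 (.leaf 0xf0001) (.node 60927 (.leaf 0x4030401050005) (.leaf 0x0))) (.node 60929 (.leaf 0xa0f0b0003) (.node 60930 (.leaf 0x0) (.leaf 0xee01))))))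

def argWS_5398 : Store := (.node 60908 argWS_5396 argWS_5397)

def argWS_5399 : Store := (.node 60942 (.node 60936 (.node 60933 (.node 60932 (.leaf 0xf0001) (.leaf 0x0)) (.node 60934 (.leaf 0xa0001) (.node 60935 (.leaf 0x0) (.leaf 0x0)))) (.node 60939 (.node 60937 (.leaf 0x90101090402000703040103000c) (.node 60938 (.leaf 0x0) (.leaf 0xb0f0a0a0004))) (.node 60940 (.leaf 0x0) (.node 60941 (.leaf 0xf0b0b0a0004) (.leaf 0x403090000090802040105000b))))) (.node 60947 (.node 60944 (.node 60943 (.leaf 0x0) (.leaf 0xb0f0002)) (.node 60945 (.leaf 0x0) (.node 60946 (.leaf 0xee1000ee0c) (.leaf 0xb0b0a0003)))) (.node 60950 (.node 60948 (.leaf 0x0) (.node 60949 (.leaf 0x4020106060802040105000b) (.leaf 0x0))) (.node 60951 (.leaf 0xa0f0b0003) (.node 60952 (.leaf 0xf0a0002) (.leaf 0x6030105020604000703040103000d))))))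

def argWS_5400 : Store := (.node 60964 (.node 60958 (.node 60955 (.node 60954 (.leaf 0x0) (.leaf 0xb0001)) (.node 60956 (.leaf 0x0) (.node 60957 (.leaf 0xee1b) (.leaf 0xb0b0002)))) (.node 60961 (.node 60959 (.leaf 0x0) (.node 60960 (.leaf 0xf0a0a0003) (.leaf 0x0))) (.node 60962 (.leaf 0x0) (.node 60963 (.leaf 0xf0b0b0a0004) (.leaf 0xa0a0002))))) (.node 60970 (.node 60967 (.node 60965 (.leaf 0x80500070206000007) (.node 60966 (.leaf 0x0) (.leaf 0xf0b0a0a0004))) (.node 60968 (.leaf 0x0) (.node 60969 (.leaf 0xf0b0a0003) (.leaf 0xee2800ee27)))) (.node 60973 (.node 60971 (.leaf 0xf0b0a0a0004) (.node 60972 (.leaf 0x0) (.leaf 0xf0b0002))) (.node 60974 (.leaf 0x0) (.node 60975 (.leaf 0x0) (.leaf 0xa0f0b0003))))))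

def argWS_5401 : Store := (.node 60953 argWS_5399 argWS_5400)

def argWS_5402 : Store := (.node 60931 argWS_5398 argWS_5401)

def argWS_5403 : Store := (.node 60886 argWS_5395 argWS_5402)

def argWS_5404 : Store := (.node 60796 argWS_5388 argWS_5403)

def argWS_5405 : Store := (.node 60987 (.node 60981 (.node 60978 (.node 60977 (.leaf 0xb8ef00ee2f) (.leaf 0x20601070009030802040105000c)) (.node 60979 (.leaf 0x0) (.node 60980 (.leaf 0xe0a0002) (.leaf 0x0)))) (.node 60984 (.node 60982 (.leaf 0xa0f0b0b0004) (.node 60983 (.leaf 0x0) (.leaf 0x0))) (.node 60985 (.leaf 0x4070308020401050008) (.node 60986 (.leaf 0x0) (.leaf 0xb0001))))) (.node 60992 (.node 60989 (.node 60988 (.leaf 0x0) (.leaf 0x60501010904020202000701000c)) (.node 60990 (.leaf 0x0) (.node 60991 (.leaf 0xa0f0b0003) (.leaf 0x0)))) (.node 60995 (.node 60993 (.leaf 0xee3f00ee3b) (.node 60994 (.leaf 0xb0001) (.leaf 0x0))) (.node 60996 (.leaf 0xe0a0002) (.node 60997 (.leaf 0x0) (.leaf 0x0))))))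

def argWS_5406 : Store := (.node 61009 (.node 61003 (.node 61000 (.node 60999 (.leaf 0xb0a0002) (.leaf 0x6020000000300000802040105000d)) (.node 61001 (.leaf 0x0) (.node 61002 (.leaf 0xa0f0b0b0004) (.leaf 0x0)))) (.node 61006 (.node 61004 (.leaf 0xee4a) (.node 61005 (.leaf 0xe0a0a0003) (.leaf 0x0))) (.node 61007 (.leaf 0xb0f0a0a0004) (.node 61008 (.leaf 0x0) (.leaf 0x0))))) (.node 61015 (.node 61012 (.node 61010 (.leaf 0xf0b0a0003) (.node 61011 (.leaf 0xb0a0002) (.leaf 0xee52003d8b))) (.node 61013 (.leaf 0x2000902020007010008) (.node 61014 (.leaf 0x0) (.leaf 0xe0d0002)))) (.node 61018 (.node 61016 (.leaf 0x0) (.node 61017 (.leaf 0xb0001) (.leaf 0x0))) (.node 61019 (.leaf 0x0) (.node 61020 (.leaf 0xf0a0002) (.leaf 0xb0f0a0003))))))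

def argWS_5407 : Store := (.node 60998 argWS_5405 argWS_5406)

def argWS_5408 : Store := (.node 61032 (.node 61026 (.node 61023 (.node 61022 (.leaf 0x10502070209020202000701000c) (.leaf 0x0)) (.node 61024 (.leaf 0x0) (.node 61025 (.leaf 0xf0b0b0003) (.leaf 0xee6000ee5f)))) (.node 61029 (.node 61027 (.leaf 0xb0f0a0a0004) (.node 61028 (.leaf 0x0) (.leaf 0xe0d0002))) (.node 61030 (.leaf 0x0) (.node 61031 (.leaf 0x0) (.leaf 0xd0b0b0003))))) (.node 61037 (.node 61034 (.node 61033 (.leaf 0xa0a0002) (.leaf 0xb0a0002)) (.node 61035 (.leaf 0x0) (.node 61036 (.leaf 0xe27000ee6a) (.leaf 0x207010703060202000701000b)))) (.node 61040 (.node 61038 (.leaf 0x0) (.node 61039 (.leaf 0xf0a0a0003) (.leaf 0x0))) (.node 61041 (.leaf 0xb0a0002) (.node 61042 (.leaf 0x0) (.leaf 0x0))))))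

def argWS_5409 : Store := (.node 61054 (.node 61048 (.node 61045 (.node 61044 (.leaf 0xd0b0b0003) (.leaf 0x3010703060802040105000a)) (.node 61046 (.leaf 0x0) (.node 61047 (.leaf 0xb0f0a0a0004) (.leaf 0x0)))) (.node 61051 (.node 61049 (.leaf 0xb0b0a0003) (.node 61050 (.leaf 0xee7800ee77) (.leaf 0xf0b0b0003))) (.node 61052 (.leaf 0x0) (.node 61053 (.leaf 0xd0b0b0003) (.leaf 0x0))))) (.node 61060 (.node 61057 (.node 61055 (.leaf 0x0) (.node 61056 (.leaf 0xf0b0a0a0004) (.leaf 0xf0a0a0003))) (.node 61058 (.leaf 0xb0f0a0003) (.node 61059 (.leaf 0xee81) (.leaf 0xb0b0002)))) (.node 61063 (.node 61061 (.leaf 0x0) (.node 61062 (.leaf 0xa0f0b0b0004) (.leaf 0x0))) (.node 61064 (.leaf 0x0) (.node 61065 (.leaf 0xd0001) (.leaf 0x902090000000703040103000b))))))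

def argWS_5410 : Store := (.node 61043 argWS_5408 argWS_5409)

def argWS_5411 : Store := (.node 61021 argWS_5407 argWS_5410)

def argWS_5412 : Store := (.node 61077 (.node 61071 (.node 61068 (.node 61067 (.leaf 0x0) (.leaf 0x0)) (.node 61069 (.leaf 0xee8b) (.node 61070 (.leaf 0xe0a0002) (.leaf 0x0)))) (.node 61074 (.node 61072 (.leaf 0xe0a0002) (.node 61073 (.leaf 0x0) (.leaf 0x0))) (.node 61075 (.leaf 0xa0a0002) (.node 61076 (.leaf 0x200020901060802040105000c) (.leaf 0x0))))) (.node 61082 (.node 61079 (.node 61078 (.leaf 0xa0f0b0003) (.leaf 0x0)) (.node 61080 (.leaf 0xb0f0002) (.node 61081 (.leaf 0xee9700ee96) (.leaf 0xa0f0b0b0004)))) (.node 61085 (.node 61083 (.leaf 0x0) (.node 61084 (.leaf 0xe0d0002) (.leaf 0x0))) (.node 61086 (.leaf 0x0) (.node 61087 (.leaf 0xf0b0a0a0004) (.leaf 0x2070002080400000703040103000d))))))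

def argWS_5413 : Store := (.node 61099 (.node 61093 (.node 61090 (.node 61089 (.leaf 0x0) (.leaf 0xa0f0b0003)) (.node 61091 (.leaf 0x0) (.node 61092 (.leaf 0x50901060004) (.leaf 0x0)))) (.node 61096 (.node 61094 (.leaf 0xb0b0a0003) (.node 61095 (.leaf 0x0) (.leaf 0xeea600eea2))) (.node 61097 (.leaf 0xa0f0002) (.node 61098 (.leaf 0x0) (.leaf 0xa0f0b0b0004))))) (.node 61105 (.node 61102 (.node 61100 (.leaf 0x0) (.node 61101 (.leaf 0x0) (.leaf 0xf0b0b0a0004))) (.node 61103 (.leaf 0x5030306040202000701000a) (.node 61104 (.leaf 0x0) (.leaf 0xf0b0b0a0004)))) (.node 61108 (.node 61106 (.leaf 0x0) (.node 61107 (.leaf 0xeeb100eead) (.leaf 0x200000007030401030009))) (.node 61109 (.leaf 0x0) (.node 61110 (.leaf 0xa0f0b0b0004) (.leaf 0x0))))))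

def argWS_5414 : Store := (.node 61088 argWS_5412 argWS_5413)

def argWS_5415 : Store := (.node 61122 (.node 61116 (.node 61113 (.node 61112 (.leaf 0xf0b0b0a0004) (.leaf 0x0)) (.node 61114 (.leaf 0x0) (.node 61115 (.leaf 0x704010904020006) (.leaf 0x0)))) (.node 61119 (.node 61117 (.leaf 0xf0b0002) (.node 61118 (.leaf 0x0) (.leaf 0xf0b0a0a0004))) (.node 61120 (.leaf 0xeebe00eebd) (.node 61121 (.leaf 0xf0b0a0003) (.leaf 0x0))))) (.node 61127 (.node 61124 (.node 61123 (.leaf 0xd0b0002) (.leaf 0x0)) (.node 61125 (.leaf 0x0) (.node 61126 (.leaf 0x307030003) (.leaf 0x0)))) (.node 61130 (.node 61128 (.leaf 0xe0a0a0003) (.node 61129 (.leaf 0x0) (.leaf 0xeec8004b5e))) (.node 61131 (.leaf 0xa0f0b0003) (.node 61132 (.leaf 0x0) (.leaf 0xb0b0a0003))))))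

def argWS_5416 : Store := (.node 61144 (.node 61138 (.node 61135 (.node 61134 (.leaf 0x0) (.leaf 0x0)) (.node 61136 (.leaf 0xe0a0002) (.node 61137 (.leaf 0xe0a0002) (.leaf 0xeed0)))) (.node 61141 (.node 61139 (.leaf 0x8050006030500040202000701000d) (.node 61140 (.leaf 0x0) (.leaf 0xb0f0002))) (.node 61142 (.leaf 0x0) (.node 61143 (.leaf 0xb0001) (.leaf 0x0))))) (.node 61150 (.node 61147 (.node 61145 (.leaf 0x0) (.node 61146 (.leaf 0xf0b0a0a0004) (.leaf 0xa0001))) (.node 61148 (.leaf 0xe80c00eeda) (.node 61149 (.leaf 0xf0b0b0a0a0005) (.leaf 0x0)))) (.node 61153 (.node 61151 (.leaf 0xb0b0a0003) (.node 61152 (.leaf 0x0) (.leaf 0x0))) (.node 61154 (.leaf 0xb0b0a0a0004) (.node 61155 (.leaf 0xa0a0002) (.leaf 0xeee200c085))))))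

def argWS_5417 : Store := (.node 61133 argWS_5415 argWS_5416)

def argWS_5418 : Store := (.node 61111 argWS_5414 argWS_5417)

def argWS_5419 : Store := (.node 61066 argWS_5411 argWS_5418)

def argWS_5420 : Store := (.node 61167 (.node 61161 (.node 61158 (.node 61157 (.leaf 0xb0a0002) (.leaf 0x0)) (.node 61159 (.leaf 0xe0a0a0003) (.node 61160 (.leaf 0x0) (.leaf 0x0)))) (.node 61164 (.node 61162 (.leaf 0xe0d0002) (.node 61163 (.leaf 0xb0a0a0003) (.leaf 0x0))) (.node 61165 (.leaf 0xda7500eeeb) (.node 61166 (.leaf 0x600000308000703040103000b) (.leaf 0x0))))) (.node 61172 (.node 61169 (.node 61168 (.leaf 0xb0a0002) (.leaf 0x0)) (.node 61170 (.leaf 0xb0b0002) (.node 61171 (.leaf 0x0) (.leaf 0x0)))) (.node 61175 (.node 61173 (.leaf 0xa0f0b0003) (.node 61174 (.leaf 0xb0b0a0003) (.leaf 0xe0a0a0003))) (.node 61176 (.leaf 0xeef6) (.node 61177 (.leaf 0x600000004080703040103000b) (.leaf 0x0))))))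

def argWS_5421 : Store := (.node 61189 (.node 61183 (.node 61180 (.node 61179 (.leaf 0xa0f0002) (.leaf 0x0)) (.node 61181 (.leaf 0xa0f0b0003) (.node 61182 (.leaf 0x0) (.leaf 0x0)))) (.node 61186 (.node 61184 (.leaf 0xb0f0a0003) (.node 61185 (.leaf 0x20209000009000703040103000c) (.leaf 0x0))) (.node 61187 (.leaf 0xb0a0f0003) (.node 61188 (.leaf 0x0) (.leaf 0xef030044a8))))) (.node 61195 (.node 61192 (.node 61190 (.leaf 0xa0f0b0b0004) (.node 61191 (.leaf 0x0) (.leaf 0xf0b0002))) (.node 61193 (.leaf 0x0) (.node 61194 (.leaf 0x0) (.leaf 0xf0001)))) (.node 61198 (.node 61196 (.leaf 0xf0a0a0003) (.node 61197 (.leaf 0x4040807030401030008) (.leaf 0x0))) (.node 61199 (.leaf 0x0) (.node 61200 (.leaf 0xef0e00ef0b) (.leaf 0xf0b0a0003))))))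

def argWS_5422 : Store := (.node 61178 argWS_5420 argWS_5421)

def argWS_5423 : Store := (.node 61212 (.node 61206 (.node 61203 (.node 61202 (.leaf 0x0) (.leaf 0xf0a0002)) (.node 61204 (.leaf 0x0) (.node 61205 (.leaf 0x0) (.leaf 0xb0001)))) (.node 61209 (.node 61207 (.leaf 0x209010400050802040105000b) (.node 61208 (.leaf 0x0) (.leaf 0xb0f0002))) (.node 61210 (.leaf 0x0) (.node 61211 (.leaf 0xf0b0b0a0004) (.leaf 0xef1a00ef19))))) (.node 61217 (.node 61214 (.node 61213 (.leaf 0xf0001) (.leaf 0x0)) (.node 61215 (.leaf 0x20700090206020802040105000c) (.node 61216 (.leaf 0x0) (.leaf 0xd0b0002)))) (.node 61220 (.node 61218 (.leaf 0xf0b0002) (.node 61219 (.leaf 0xd0b0b0003) (.leaf 0x7000006030500040202000701000d))) (.node 61221 (.leaf 0x0) (.node 61222 (.leaf 0xb0a0002) (.leaf 0x0))))))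

def argWS_5424 : Store := (.node 61234 (.node 61228 (.node 61225 (.node 61224 (.leaf 0xee6d00ef26) (.leaf 0xe0a0002)) (.node 61226 (.leaf 0x0) (.node 61227 (.leaf 0x109030004080703040103000b) (.leaf 0x0)))) (.node 61231 (.node 61229 (.leaf 0xa0f0002) (.node 61230 (.leaf 0xa0f0002) (.leaf 0xb0a0f0003))) (.node 61232 (.leaf 0x202000003010202000701000c) (.node 61233 (.leaf 0x0) (.leaf 0xe0d0002))))) (.node 61240 (.node 61237 (.node 61235 (.leaf 0x0) (.node 61236 (.leaf 0xef3200ef2e) (.leaf 0x1020900000802040105000a))) (.node 61238 (.leaf 0x0) (.node 61239 (.leaf 0xf0b0a0003) (.leaf 0x0)))) (.node 61243 (.node 61241 (.leaf 0xf0b0a0a0004) (.node 61242 (.leaf 0x0) (.leaf 0x0))) (.node 61244 (.leaf 0x4000502020007010009) (.node 61245 (.leaf 0x0) (.leaf 0xd0b0b0003))))))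

def argWS_5425 : Store := (.node 61223 argWS_5423 argWS_5424)

def argWS_5426 : Store := (.node 61201 argWS_5422 argWS_5425)

def argWS_5427 : Store := (.node 61257 (.node 61251 (.node 61248 (.node 61247 (.leaf 0x0) (.leaf 0x9070002080400000703040103000d)) (.node 61249 (.leaf 0x0) (.node 61250 (.leaf 0xb0f0a0003) (.leaf 0x0)))) (.node 61254 (.node 61252 (.leaf 0xb0a0a0003) (.node 61253 (.leaf 0xef4300ef42) (.leaf 0xb0b0a0a0004))) (.node 61255 (.leaf 0x0) (.node 61256 (.leaf 0x809080508020401050009) (.leaf 0x0))))) (.node 61262 (.node 61259 (.node 61258 (.leaf 0xf0001) (.leaf 0x303090000090006)) (.node 61260 (.leaf 0x0) (.node 61261 (.leaf 0xb0b0a0003) (.leaf 0x0)))) (.node 61265 (.node 61263 (.leaf 0xa0a0002) (.node 61264 (.leaf 0xef4e00ef4d) (.leaf 0xb0001))) (.node 61266 (.leaf 0x0) (.node 61267 (.leaf 0x503000408010006) (.leaf 0x0))))))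

def argWS_5428 : Store := (.node 61279 (.node 61273 (.node 61270 (.node 61269 (.leaf 0xf0b0a0003) (.leaf 0xd0b0002)) (.node 61271 (.leaf 0x6050105020202010202000701000d) (.node 61272 (.leaf 0x0) (.leaf 0xa0001)))) (.node 61276 (.node 61274 (.leaf 0x0) (.node 61275 (.leaf 0xd0b0002) (.leaf 0xef5a))) (.node 61277 (.leaf 0xb0f0a0003) (.node 61278 (.leaf 0x0) (.leaf 0x40008020401050008))))) (.node 61285 (.node 61282 (.node 61280 (.leaf 0x0) (.node 61281 (.leaf 0xe0a0a0003) (.leaf 0xd0b0b0003))) (.node 61283 (.leaf 0x4010301010200000703040103000d) (.node 61284 (.leaf 0x0) (.leaf 0xf0a0a0003)))) (.node 61288 (.node 61286 (.leaf 0x0) (.node 61287 (.leaf 0xf0b0b0003) (.leaf 0xef6600ef65))) (.node 61289 (.leaf 0xd0b0b0003) (.node 61290 (.leaf 0x0) (.leaf 0xe0d0002))))))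

def argWS_5429 : Store := (.node 61268 argWS_5427 argWS_5428)

def argWS_5430 : Store := (.node 61302 (.node 61296 (.node 61293 (.node 61292 (.leaf 0x0) (.leaf 0x0)) (.node 61294 (.leaf 0xa0001) (.node 61295 (.leaf 0xb0a0f0003) (.leaf 0xa0a0002)))) (.node 61299 (.node 61297 (.leaf 0x901020202010202000701000b) (.node 61298 (.leaf 0x0) (.leaf 0xb0f0a0a0004))) (.node 61300 (.leaf 0x0) (.node 61301 (.leaf 0xef73) (.leaf 0x209000408010802040105000b))))) (.node 61308 (.node 61305 (.node 61303 (.leaf 0x0) (.node 61304 (.leaf 0xe0d0002) (.leaf 0x0))) (.node 61306 (.leaf 0xa0f0b0b0004) (.node 61307 (.leaf 0x0) (.leaf 0x0)))) (.node 61311 (.node 61309 (.leaf 0xe0a0002) (.node 61310 (.leaf 0xe0a0a0003) (.leaf 0xef7d))) (.node 61312 (.leaf 0xf0b0b0a0a0005) (.node 61313 (.leaf 0x0) (.leaf 0xb0a0002))))))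

def argWS_5431 : Store := (.node 61325 (.node 61319 (.node 61316 (.node 61315 (.leaf 0x0) (.leaf 0x0)) (.node 61317 (.leaf 0xf0001) (.node 61318 (.leaf 0x301070206000202000701000b) (.leaf 0x0)))) (.node 61322 (.node 61320 (.leaf 0xa0001) (.node 61321 (.leaf 0x0) (.leaf 0xa0f0b0b0004))) (.node 61323 (.leaf 0xef8900ef88) (.node 61324 (.leaf 0xa0f0b0003) (.leaf 0x0))))) (.node 61331 (.node 61328 (.node 61326 (.leaf 0xf0001) (.node 61327 (.leaf 0x0) (.leaf 0x0))) (.node 61329 (.leaf 0xb0a0002) (.node 61330 (.leaf 0xd0b0002) (.leaf 0xf0a0a0003)))) (.node 61334 (.node 61332 (.leaf 0xef92) (.node 61333 (.leaf 0xa0f0b0b0004) (.leaf 0x0))) (.node 61335 (.leaf 0xa0001) (.node 61336 (.leaf 0x0) (.leaf 0x0))))))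

def argWS_5432 : Store := (.node 61314 argWS_5430 argWS_5431)

def argWS_5433 : Store := (.node 61291 argWS_5429 argWS_5432)

def argWS_5434 : Store := (.node 61246 argWS_5426 argWS_5433)

def argWS_5435 : Store := (.node 61156 argWS_5419 argWS_5434)

def argWS_5436 : Store := (.node 60976 argWS_5404 argWS_5435)

def argWS_5437 : Store := (.node 61348 (.node 61342 (.node 61339 (.node 61338 (.leaf 0xb0b0002) (.leaf 0x307010908050802040105000b)) (.node 61340 (.leaf 0x0) (.node 61341 (.leaf 0xb0f0a0003) (.leaf 0x0)))) (.node 61345 (.node 61343 (.leaf 0x10102020900000007) (.node 61344 (.leaf 0x0) (.leaf 0xb0001))) (.node 61346 (.leaf 0x0) (.node 61347 (.leaf 0xefa100ef9d) (.leaf 0x605090000090006))))) (.node 61353 (.node 61350 (.node 61349 (.leaf 0x0) (.leaf 0xb0001)) (.node 61351 (.leaf 0x0) (.node 61352 (.leaf 0xe0d0002) (.leaf 0x0)))) (.node 61356 (.node 61354 (.leaf 0x0) (.node 61355 (.leaf 0xa0f0002) (.leaf 0x8050009000009000703040103000d))) (.node 61357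 (.leaf 0x0) (.node 61358 (.leaf 0xf0001) (.leaf 0x0))))))

def argWS_5438 : Store := (.node 61370 (.node 61364 (.node 61361 (.node 61360 (.leaf 0xb0a0a0003) (.leaf 0xefaf00efae)) (.node 61362 (.leaf 0xf0b0a0003) (.node 61363 (.leaf 0x0) (.leaf 0xb0f0a0003)))) (.node 61367 (.node 61365 (.leaf 0x0) (.node 61366 (.leaf 0x0) (.leaf 0xf0a0a0003))) (.node 61368 (.leaf 0x400050005) (.node 61369 (.leaf 0x0) (.leaf 0xb0f0a0003))))) (.node 61376 (.node 61373 (.node 61371 (.leaf 0x0) (.node 61372 (.leaf 0xa0f0002) (.leaf 0xefbb00efba))) (.node 61374 (.leaf 0x20202010202000701000a) (.node 61375 (.leaf 0x0) (.leaf 0xb0b0a0003)))) (.node 61379 (.node 61377 (.leaf 0x0) (.node 61378 (.leaf 0xd0b0002) (.leaf 0x0))) (.node 61380 (.leaf 0x0) (.node 61381 (.leaf 0xb0a0f0003) (.leaf 0x2090300030306040202000701000d))))))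

def argWS_5439 : Store := (.node 61359 argWS_5437 argWS_5438)

def argWS_5440 : Store := (.node 61393 (.node 61387 (.node 61384 (.node 61383 (.leaf 0x0) (.leaf 0xb0a0f0003)) (.node 61385 (.leaf 0x0) (.node 61386 (.leaf 0xd0b0002) (.leaf 0xefc900efc8)))) (.node 61390 (.node 61388 (.leaf 0xf0a0002) (.node 61389 (.leaf 0x0) (.leaf 0xd0b0b0003))) (.node 61391 (.leaf 0x0) (.node 61392 (.leaf 0x0) (.leaf 0xa0001))))) (.node 61398 (.node 61395 (.node 61394 (.leaf 0xb0001) (.leaf 0xb0d300efd1)) (.node 61396 (.leaf 0xd0b0b0003) (.node 61397 (.leaf 0x0) (.leaf 0xf0a0002)))) (.node 61401 (.node 61399 (.leaf 0x0) (.node 61400 (.leaf 0x0) (.leaf 0xb0a0002))) (.node 61402 (.leaf 0xd0b0b0003) (.node 61403 (.leaf 0x1ace00efd9) (.leaf 0x305090109000703040103000b))))))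

def argWS_5441 : Store := (.node 61415 (.node 61409 (.node 61406 (.node 61405 (.leaf 0x0) (.leaf 0xf0b0b0a0004)) (.node 61407 (.leaf 0x0) (.node 61408 (.leaf 0xf0b0b0a0a0005) (.leaf 0x0)))) (.node 61412 (.node 61410 (.leaf 0x0) (.node 61411 (.leaf 0xb0001) (.leaf 0x7020901060202000701000b))) (.node 61413 (.leaf 0x0) (.node 61414 (.leaf 0xd0001) (.leaf 0x0))))) (.node 61421 (.node 61418 (.node 61416 (.leaf 0xf0b0a0a0004) (.node 61417 (.leaf 0xefe7) (.leaf 0x8000900090802040105000a))) (.node 61419 (.leaf 0x0) (.node 61420 (.leaf 0xe0a0a0003) (.leaf 0x0)))) (.node 61424 (.node 61422 (.leaf 0xf0b0b0a0004) (.node 61423 (.leaf 0x0) (.leaf 0x0))) (.node 61425 (.leaf 0x0) (.node 61426 (.leaf 0xf0b0b0a0004) (.leaf 0x605010206020007010009))))))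

def argWS_5442 : Store := (.node 61404 argWS_5440 argWS_5441)

def argWS_5443 : Store := (.node 61382 argWS_5439 argWS_5442)

def argWS_5444 : Store := (.node 61438 (.node 61432 (.node 61429 (.node 61428 (.leaf 0x0) (.leaf 0x0)) (.node 61430 (.leaf 0xeff400eff1) (.node 61431 (.leaf 0xe0a0a0003) (.leaf 0x0)))) (.node 61435 (.node 61433 (.leaf 0xf0b0a0003) (.node 61434 (.leaf 0x0) (.leaf 0x0))) (.node 61436 (.leaf 0xf0b0a0003) (.node 61437 (.leaf 0xf0001) (.leaf 0xe0a0002))))) (.node 61443 (.node 61440 (.node 61439 (.leaf 0xeffd00effc) (.leaf 0xa0f0002)) (.node 61441 (.leaf 0x0) (.node 61442 (.leaf 0xa0a0002) (.leaf 0x0)))) (.node 61446 (.node 61444 (.leaf 0x0) (.node 61445 (.leaf 0xb0001) (.leaf 0xe0d0002))) (.node 61447 (.leaf 0x60501090000090802040105000c) (.node 61448 (.leaf 0x0) (.leaf 0xa0f0b0003))))))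

def argWS_5445 : Store := (.node 61460 (.node 61454 (.node 61451 (.node 61450 (.leaf 0x0) (.leaf 0xf00900f005)) (.node 61452 (.leaf 0xf0001) (.node 61453 (.leaf 0x0) (.leaf 0xd0001)))) (.node 61457 (.node 61455 (.leaf 0x0) (.node 61456 (.leaf 0x0) (.leaf 0xa0f0b0003))) (.node 61458 (.leaf 0x70205020202010202000701000c) (.node 61459 (.leaf 0x0) (.leaf 0xf0a0002))))) (.node 61466 (.node 61463 (.node 61461 (.leaf 0x0) (.node 61462 (.leaf 0xf01400f010) (.leaf 0xf0b0b0a0a0005))) (.node 61464 (.leaf 0x0) (.node 61465 (.leaf 0xb0b0a0a0004) (.leaf 0x0)))) (.node 61469 (.node 61467 (.leaf 0x0) (.node 61468 (.leaf 0xb0a0a0003) (.leaf 0xf0b0b0a0004))) (.node 61470 (.leaf 0xa0001) (.node 61471 (.leaf 0xf01d00f01c) (.leaf 0xb0a0a0003))))))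

def argWS_5446 : Store := (.node 61449 argWS_5444 argWS_5445)

def argWS_5447 : Store := (.node 61483 (.node 61477 (.node 61474 (.node 61473 (.leaf 0x0) (.leaf 0xf0b0a0003)) (.node 61475 (.leaf 0x0) (.node 61476 (.leaf 0x0) (.leaf 0xb0b0a0003)))) (.node 61480 (.node 61478 (.leaf 0x90307020902000703040103000c) (.node 61479 (.leaf 0x0) (.leaf 0xb0b0002))) (.node 61481 (.leaf 0x0) (.node 61482 (.leaf 0xf028) (.leaf 0x60401010703060802040105000c))))) (.node 61488 (.node 61485 (.node 61484 (.leaf 0x0) (.leaf 0xb0001)) (.node 61486 (.leaf 0x0) (.node 61487 (.leaf 0xb0a0002) (.leaf 0x0)))) (.node 61491 (.node 61489 (.leaf 0x0) (.node 61490 (.leaf 0xa0001) (.leaf 0xb0a0002))) (.node 61492 (.leaf 0xd0001) (.node 61493 (.leaf 0xf0a0a0003) (.leaf 0xb0a0002))))))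

def argWS_5448 : Store := (.node 61505 (.node 61499 (.node 61496 (.node 61495 (.leaf 0xf03500f034) (.leaf 0xb0f0a0003)) (.node 61497 (.leaf 0x0) (.node 61498 (.leaf 0xf0001) (.leaf 0x0)))) (.node 61502 (.node 61500 (.leaf 0x0) (.node 61501 (.leaf 0xe0a0a0003) (.leaf 0xa0a0002))) (.node 61503 (.leaf 0x205050202020703040103000b) (.node 61504 (.leaf 0x0) (.leaf 0xf0b0002))))) (.node 61511 (.node 61508 (.node 61506 (.leaf 0x0) (.node 61507 (.leaf 0xf04100f03d) (.leaf 0xa0f0002))) (.node 61509 (.leaf 0x0) (.node 61510 (.leaf 0xe0a0a0003) (.leaf 0x0)))) (.node 61514 (.node 61512 (.leaf 0x0) (.node 61513 (.leaf 0xf0b0a0003) (.leaf 0x307070209020006))) (.node 61515 (.leaf 0x0) (.node 61516 (.leaf 0xd0001) (.leaf 0x0))))))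

def argWS_5449 : Store := (.node 61494 argWS_5447 argWS_5448)

def argWS_5450 : Store := (.node 61472 argWS_5446 argWS_5449)

def argWS_5451 : Store := (.node 61427 argWS_5443 argWS_5450)

def argWS_5452 : Store := (.node 61528 (.node 61522 (.node 61519 (.node 61518 (.leaf 0xe0a0002) (.leaf 0xf04d00f04c)) (.node 61520 (.leaf 0xf0001) (.node 61521 (.leaf 0x0) (.leaf 0xa0f0002)))) (.node 61525 (.node 61523 (.leaf 0x0) (.node 61524 (.leaf 0x0) (.leaf 0xf0b0a0a0004))) (.node 61526 (.leaf 0xa0a0002) (.node 61527 (.leaf 0xe0001) (.leaf 0xf0b0a0003))))) (.node 61533 (.node 61530 (.node 61529 (.leaf 0xf05700f056) (.leaf 0x30901090802040105000a)) (.node 61531 (.leaf 0x0) (.node 61532 (.leaf 0xa0f0002) (.leaf 0x0)))) (.node 61536 (.node 61534 (.leaf 0xe0a0a0003) (.node 61535 (.leaf 0x0) (.leaf 0x0))) (.node 61537 (.leaf 0xb0f0a0003) (.node 61538 (.leaf 0xe0001) (.leaf 0xf061))))))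

def argWS_5453 : Store := (.node 61550 (.node 61544 (.node 61541 (.node 61540 (.leaf 0x306010500020202000701000c) (.leaf 0x0)) (.node 61542 (.leaf 0xf0b0b0a0004) (.node 61543 (.leaf 0x0) (.leaf 0xb0b0a0003)))) (.node 61547 (.node 61545 (.leaf 0x0) (.node 61546 (.leaf 0x0) (.leaf 0xe0d0002))) (.node 61548 (.leaf 0xf0b0002) (.node 61549 (.leaf 0xf06b) (.leaf 0xf0001))))) (.node 61556 (.node 61553 (.node 61551 (.leaf 0x0) (.node 61552 (.leaf 0xb0b0a0a0004) (.leaf 0x0))) (.node 61554 (.leaf 0x0) (.node 61555 (.leaf 0xb0a0002) (.leaf 0x90702000003010007)))) (.node 61559 (.node 61557 (.leaf 0x0) (.node 61558 (.leaf 0xb0b0a0a0004) (.leaf 0x0))) (.node 61560 (.leaf 0x102020007010006) (.node 61561 (.leaf 0x0) (.leaf 0xb0b0a0003))))))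

def argWS_5454 : Store := (.node 61539 argWS_5452 argWS_5453)

def argWS_5455 : Store := (.node 61573 (.node 61567 (.node 61564 (.node 61563 (.leaf 0x0) (.leaf 0xf07a00f076)) (.node 61565 (.leaf 0xa0f0b0b0004) (.node 61566 (.leaf 0x0) (.leaf 0xa0f0002)))) (.node 61570 (.node 61568 (.leaf 0x0) (.node 61569 (.leaf 0x0) (.leaf 0x70402010606000703040103000c))) (.node 61571 (.leaf 0x0) (.node 61572 (.leaf 0xd0b0002) (.leaf 0x0))))) (.node 61578 (.node 61575 (.node 61574 (.leaf 0xd0b0002) (.leaf 0xf0001)) (.node 61576 (.leaf 0xf08600f085) (.node 61577 (.leaf 0xa0a0002) (.leaf 0x0)))) (.node 61581 (.node 61579 (.leaf 0x6000900090202000701000a) (.node 61580 (.leaf 0x0) (.leaf 0xb0a0002))) (.node 61582 (.leaf 0x10502070009030802040105000c) (.node 61583 (.leaf 0x0) (.leaf 0xb0a0a0003))))))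

def argWS_5456 : Store := (.node 61595 (.node 61589 (.node 61586 (.node 61585 (.leaf 0x0) (.leaf 0xf0a0a0003)) (.node 61587 (.leaf 0x2010904020802040105000a) (.node 61588 (.leaf 0x0) (.leaf 0xf0b0002)))) (.node 61592 (.node 61590 (.leaf 0x0) (.node 61591 (.leaf 0xf09500f091) (.leaf 0xb0b0a0a0004))) (.node 61593 (.leaf 0x0) (.node 61594 (.leaf 0x40308020401050007) (.leaf 0x0))))) (.node 61601 (.node 61598 (.node 61596 (.leaf 0xa0f0b0003) (.node 61597 (.leaf 0xf0b0b0a0004) (.leaf 0x20901020603000703040103000c))) (.node 61599 (.leaf 0x0) (.node 61600 (.leaf 0x0) (.leaf 0xf09f)))) (.node 61604 (.node 61602 (.leaf 0xf0001) (.node 61603 (.leaf 0x0) (.leaf 0xf0b0b0a0004))) (.node 61605 (.leaf 0x0) (.node 61606 (.leaf 0x0) (.leaf 0xd0001))))))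

def argWS_5457 : Store := (.node 61584 argWS_5455 argWS_5456)

def argWS_5458 : Store := (.node 61562 argWS_5454 argWS_5457)

def argWS_5459 : Store := (.node 61618 (.node 61612 (.node 61609 (.node 61608 (.leaf 0xe0a0a0003) (.leaf 0x602090206020802040105000b)) (.node 61610 (.leaf 0x0) (.node 61611 (.leaf 0xa0001) (.leaf 0x0)))) (.node 61615 (.node 61613 (.leaf 0xf0ab00f0a7) (.node 61614 (.leaf 0x601020101090805000703040103000e) (.leaf 0x0))) (.node 61616 (.leaf 0xf0a0a0003) (.node 61617 (.leaf 0x0) (.leaf 0xb0b0a0a0004))))) (.node 61623 (.node 61620 (.node 61619 (.leaf 0x0) (.leaf 0x0)) (.node 61621 (.leaf 0x1070209020202000701000a) (.node 61622 (.leaf 0x0) (.leaf 0x0)))) (.node 61626 (.node 61624 (.leaf 0x605010900090802040105000b) (.node 61625 (.leaf 0x0) (.leaf 0x0))) (.node 61627 (.leaf 0xf0b900f0b6) (.node 61628 (.leaf 0xf0b0b0a0004) (.leaf 0x0))))))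

def argWS_5460 : Store := (.node 61640 (.node 61634 (.node 61631 (.node 61630 (.leaf 0x9010406020702010802040105000d) (.leaf 0x0)) (.node 61632 (.leaf 0xb0a0a0003) (.node 61633 (.leaf 0x10700000408010202000701000c) (.leaf 0x0)))) (.node 61637 (.node 61635 (.leaf 0xf0a0a0003) (.node 61636 (.leaf 0x0) (.leaf 0x2040305020202010802040105000d))) (.node 61638 (.leaf 0x0) (.node 61639 (.leaf 0xb0b0a0003) (.leaf 0x0))))) (.node 61646 (.node 61643 (.node 61641 (.leaf 0xb0a0002) (.node 61642 (.leaf 0xf0c800f0c7) (.leaf 0xe0a0002))) (.node 61644 (.leaf 0x0) (.node 61645 (.leaf 0x2000206010500020802040105000d) (.leaf 0x0)))) (.node 61649 (.node 61647 (.leaf 0xa0f0002) (.node 61648 (.leaf 0x6060102000003010802040105000d) (.leaf 0x0))) (.node 61650 (.leaf 0xf0b0002) (.node 61651 (.leaf 0x0) (.leaf 0xf0d2))))))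

def argWS_5461 : Store := (.node 61629 argWS_5459 argWS_5460)

def argWS_5462 : Store := (.node 61663 (.node 61657 (.node 61654 (.node 61653 (.leaf 0xe0001) (.leaf 0x0)) (.node 61655 (.leaf 0xf0b0b0003) (.node 61656 (.leaf 0x0) (.leaf 0x0)))) (.node 61660 (.node 61658 (.leaf 0xa0a0002) (.node 61659 (.leaf 0xb0a0f0003) (.leaf 0xe0a0a0003))) (.node 61661 (.leaf 0xf0db00f0da) (.node 61662 (.leaf 0x0) (.leaf 0x0))))) (.node 61669 (.node 61666 (.node 61664 (.leaf 0xa0f0002) (.node 61665 (.leaf 0xf0b0b0a0a0005) (.leaf 0xd0b0002))) (.node 61667 (.leaf 0xf0e100f0e0) (.node 61668 (.leaf 0x8000406030500040202000701000d) (.leaf 0x0)))) (.node 61672 (.node 61670 (.leaf 0xf0b0b0a0004) (.node 61671 (.leaf 0x0) (.leaf 0xe0a0a0003))) (.node 61673 (.leaf 0x0) (.node 61674 (.leaf 0x0) (.leaf 0xd0001))))))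

def argWS_5463 : Store := (.node 61686 (.node 61680 (.node 61677 (.node 61676 (.leaf 0xe0a0002) (.leaf 0x80101010703060802040105000c)) (.node 61678 (.leaf 0x0) (.node 61679 (.leaf 0xa0f0002) (.leaf 0x0)))) (.node 61683 (.node 61681 (.leaf 0xf0ef00f0eb) (.node 61682 (.leaf 0xa0f0002) (.leaf 0x0))) (.node 61684 (.leaf 0x4030407000903000703040103000d) (.node 61685 (.leaf 0x0) (.leaf 0xe0a0a0003))))) (.node 61692 (.node 61689 (.node 61687 (.leaf 0xa0f0002) (.node 61688 (.leaf 0x0) (.leaf 0xf0f7))) (.node 61690 (.leaf 0xa0f0002) (.node 61691 (.leaf 0x0) (.leaf 0xe0001)))) (.node 61695 (.node 61693 (.leaf 0x0) (.node 61694 (.leaf 0x0) (.leaf 0xb0a0a0003))) (.node 61696 (.leaf 0xf0a0002) (.node 61697 (.leaf 0xf0ff00f0fe) (.leaf 0x90406020702010007))))))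

def argWS_5464 : Store := (.node 61675 argWS_5462 argWS_5463)

def argWS_5465 : Store := (.node 61652 argWS_5461 argWS_5464)

def argWS_5466 : Store := (.node 61607 argWS_5458 argWS_5465)

def argWS_5467 : Store := (.node 61517 argWS_5451 argWS_5466)

def argWS_5468 : Store := (.node 61709 (.node 61703 (.node 61700 (.node 61699 (.leaf 0x0) (.leaf 0xd0b0b0003)) (.node 61701 (.leaf 0x0) (.node 61702 (.leaf 0xf0b0b0a0a0005) (.leaf 0x0)))) (.node 61706 (.node 61704 (.leaf 0x0) (.node 61705 (.leaf 0xd0b0b0003) (.leaf 0xd0001))) (.node 61707 (.leaf 0xe0001) (.node 61708 (.leaf 0xf10a00f109) (.leaf 0x5090206020202000701000a))))) (.node 61714 (.node 61711 (.node 61710 (.leaf 0x0) (.leaf 0xb0b0a0a0004)) (.node 61712 (.leaf 0x0) (.node 61713 (.leaf 0xe0d0002) (.leaf 0x0)))) (.node 61717 (.node 61715 (.leaf 0x0) (.node 61716 (.leaf 0x5000000030306040802040105000d) (.leaf 0x0))) (.node 61718 (.leaf 0xf0b0b0003) (.node 61719 (.leaf 0x0) (.leaf 0x204010703060802040105000b))))))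

def argWS_5469 : Store := (.node 61731 (.node 61725 (.node 61722 (.node 61721 (.leaf 0x0) (.leaf 0xa0001)) (.node 61723 (.leaf 0x0) (.node 61724 (.leaf 0xe0d0002) (.leaf 0xf11b00f11a)))) (.node 61728 (.node 61726 (.leaf 0xa0f0b0b0004) (.node 61727 (.leaf 0x0) (.leaf 0xf0b0b0a0a0005))) (.node 61729 (.leaf 0x0) (.node 61730 (.leaf 0x0) (.leaf 0xb0f0a0a0004))))) (.node 61737 (.node 61734 (.node 61732 (.leaf 0xa0a0002) (.node 61733 (.leaf 0xf0b0a0a0004) (.leaf 0xf12400f123))) (.node 61735 (.leaf 0xf0a0002) (.node 61736 (.leaf 0x0) (.leaf 0xe0d0002)))) (.node 61740 (.node 61738 (.leaf 0x0) (.node 61739 (.leaf 0x0) (.leaf 0xf0b0002))) (.node 61741 (.leaf 0x307090000090006) (.node 61742 (.leaf 0x0) (.leaf 0xf0a0a0003))))))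

def argWS_5470 : Store := (.node 61720 argWS_5468 argWS_5469)

def argWS_5471 : Store := (.node 61754 (.node 61748 (.node 61745 (.node 61744 (.leaf 0x0) (.leaf 0xe0d0002)) (.node 61746 (.leaf 0xf13000f12f) (.node 61747 (.leaf 0x10406030500040202000701000c) (.leaf 0x0)))) (.node 61751 (.node 61749 (.leaf 0xb0b0a0a0004) (.node 61750 (.leaf 0x0) (.leaf 0xa0a0002))) (.node 61752 (.leaf 0x0) (.node 61753 (.leaf 0xb0f0002) (.leaf 0x70101010904020007))))) (.node 61759 (.node 61756 (.node 61755 (.leaf 0x0) (.leaf 0xb0a0002)) (.node 61757 (.leaf 0x0) (.node 61758 (.leaf 0xf13c) (.leaf 0xb0a0f0003)))) (.node 61762 (.node 61760 (.leaf 0x0) (.node 61761 (.leaf 0xb0b0002) (.leaf 0x0))) (.node 61763 (.leaf 0x0) (.node 61764 (.leaf 0xe0001) (.leaf 0xf0b0b0a0a0005))))))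

def argWS_5472 : Store := (.node 61776 (.node 61770 (.node 61767 (.node 61766 (.leaf 0xa0f0002) (.leaf 0xf14500f144)) (.node 61768 (.leaf 0x10202000408010202000701000c) (.node 61769 (.leaf 0x0) (.leaf 0x0)))) (.node 61773 (.node 61771 (.leaf 0xa0f0b0b0004) (.node 61772 (.leaf 0x0) (.leaf 0x0))) (.node 61774 (.leaf 0xb0b0a0a0004) (.node 61775 (.leaf 0xf0b0a0003) (.leaf 0x5010900090802040105000a))))) (.node 61782 (.node 61779 (.node 61777 (.leaf 0x0) (.node 61778 (.leaf 0x0) (.leaf 0xf15100f14e))) (.node 61780 (.leaf 0xf0b0b0003) (.node 61781 (.leaf 0x0) (.leaf 0xb0f0a0003)))) (.node 61785 (.node 61783 (.leaf 0x0) (.node 61784 (.leaf 0x0) (.leaf 0xa0f0002))) (.node 61786 (.leaf 0xd0b0002) (.node 61787 (.leaf 0xf159) (.leaf 0xe0a0a0003))))))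

def argWS_5473 : Store := (.node 61765 argWS_5471 argWS_5472)

def argWS_5474 : Store := (.node 61743 argWS_5470 argWS_5473)

def argWS_5475 : Store := (.node 61799 (.node 61793 (.node 61790 (.node 61789 (.leaf 0x0) (.leaf 0xf0a0a0003)) (.node 61791 (.leaf 0x0) (.node 61792 (.leaf 0x0) (.leaf 0x6010205020202010008)))) (.node 61796 (.node 61794 (.leaf 0x0) (.node 61795 (.leaf 0xf0a0a0003) (.leaf 0x0))) (.node 61797 (.leaf 0xe0d0002) (.node 61798 (.leaf 0x0) (.leaf 0xefe600f165))))) (.node 61804 (.node 61801 (.node 61800 (.leaf 0xa0f0002) (.leaf 0x0)) (.node 61802 (.leaf 0x9020101090402000703040103000d) (.node 61803 (.leaf 0x0) (.leaf 0xa0a0002)))) (.node 61807 (.node 61805 (.leaf 0xf0a0a0003) (.node 61806 (.leaf 0xe0a0a0003) (.leaf 0xf16d))) (.node 61808 (.leaf 0xe0a0a0003) (.node 61809 (.leaf 0x0) (.leaf 0xb0001))))))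

def argWS_5476 : Store := (.node 61821 (.node 61815 (.node 61812 (.node 61811 (.leaf 0x0) (.leaf 0x0)) (.node 61813 (.leaf 0xb0001) (.node 61814 (.leaf 0x502090206020202000701000b) (.leaf 0x0)))) (.node 61818 (.node 61816 (.leaf 0xb0a0002) (.node 61817 (.leaf 0x0) (.leaf 0xe0a0002))) (.node 61819 (.leaf 0xf17900f178) (.node 61820 (.leaf 0xb0b0a0a0004) (.leaf 0x0))))) (.node 61827 (.node 61824 (.node 61822 (.leaf 0xf0b0b0003) (.node 61823 (.leaf 0x0) (.leaf 0x0))) (.node 61825 (.leaf 0x305070206000802040105000b) (.node 61826 (.leaf 0x0) (.leaf 0xd0001)))) (.node 61830 (.node 61828 (.leaf 0x0) (.node 61829 (.leaf 0x90201060207020703040103000c) (.leaf 0x0))) (.node 61831 (.leaf 0xb0f0a0a0004) (.node 61832 (.leaf 0x0) (.leaf 0xe72900f187))))))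

def argWS_5477 : Store := (.node 61810 argWS_5475 argWS_5476)

def argWS_5478 : Store := (.node 61844 (.node 61838 (.node 61835 (.node 61834 (.leaf 0xb0f0a0a0004) (.leaf 0x0)) (.node 61836 (.leaf 0xd0b0002) (.node 61837 (.leaf 0x0) (.leaf 0x0)))) (.node 61841 (.node 61839 (.leaf 0xa0f0b0b0004) (.node 61840 (.leaf 0xf0b0b0003) (.leaf 0xa0f0002))) (.node 61842 (.leaf 0xf190) (.node 61843 (.leaf 0xb0f0002) (.leaf 0x0))))) (.node 61849 (.node 61846 (.node 61845 (.leaf 0xf0b0a0003) (.leaf 0x0)) (.node 61847 (.leaf 0x0) (.node 61848 (.leaf 0xf0b0b0a0004) (.leaf 0xf0b0b0003)))) (.node 61852 (.node 61850 (.leaf 0xd0001) (.node 61851 (.leaf 0xaea600f199) (.leaf 0xe0d0002))) (.node 61853 (.leaf 0x0) (.node 61854 (.leaf 0xa0001) (.leaf 0x0))))))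

def argWS_5479 : Store := (.node 61866 (.node 61860 (.node 61857 (.node 61856 (.leaf 0x0) (.leaf 0xb0b0002)) (.node 61858 (.leaf 0x20403050202020703040103000c) (.node 61859 (.leaf 0x0) (.leaf 0xf0a0a0003)))) (.node 61863 (.node 61861 (.leaf 0x0) (.node 61862 (.leaf 0xf0b0b0a0004) (.leaf 0xf1a500f1a4))) (.node 61864 (.leaf 0x2020206020702010202000701000d) (.node 61865 (.leaf 0x0) (.leaf 0xd0001))))) (.node 61872 (.node 61869 (.node 61867 (.leaf 0x0) (.node 61868 (.leaf 0xb0001) (.leaf 0x0))) (.node 61870 (.leaf 0x0) (.node 61871 (.leaf 0xb0a0f0003) (.leaf 0x201020106060802040105000b)))) (.node 61875 (.node 61873 (.leaf 0x0) (.node 61874 (.leaf 0xd0b0b0003) (.leaf 0x0))) (.node 61876 (.leaf 0xe0a0a0003) (.node 61877 (.leaf 0xb0f0002) (.leaf 0xf1b400f1b3))))))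

def argWS_5480 : Store := (.node 61855 argWS_5478 argWS_5479)

def argWS_5481 : Store := (.node 61833 argWS_5477 argWS_5480)

def argWS_5482 : Store := (.node 61788 argWS_5474 argWS_5481)

def argWS_5483 : Store := (.node 61889 (.node 61883 (.node 61880 (.node 61879 (.leaf 0xb0f0a0a0004) (.leaf 0x0)) (.node 61881 (.leaf 0x202070308020401050009) (.node 61882 (.leaf 0x0) (.leaf 0xb0b0a0003)))) (.node 61886 (.node 61884 (.leaf 0xd0b0002) (.node 61885 (.leaf 0x8000400050202000701000a) (.leaf 0x0))) (.node 61887 (.leaf 0xf0b0b0a0a0005) (.node 61888 (.leaf 0x0) (.leaf 0x6040107000903000703040103000d))))) (.node 61894 (.node 61891 (.node 61890 (.leaf 0x0) (.leaf 0xb0b0a0a0004)) (.node 61892 (.leaf 0x0) (.node 61893 (.leaf 0xf1c300f1bf) (.leaf 0x20904020802040105000a)))) (.node 61897 (.node 61895 (.leaf 0x0) (.node 61896 (.leaf 0xe0a0002) (.leaf 0x0))) (.node 61898 (.leaf 0xf0a0a0003) (.node 61899 (.leaf 0x0) (.leaf 0x0))))))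

def argWS_5484 : Store := (.node 61911 (.node 61905 (.node 61902 (.node 61901 (.leaf 0xd0b0002) (.leaf 0x10903090109000703040103000c)) (.node 61903 (.leaf 0x0) (.node 61904 (.leaf 0xf0b0a0003) (.leaf 0x0)))) (.node 61908 (.node 61906 (.leaf 0xe0a0002) (.node 61907 (.leaf 0xf1d100f1d0) (.leaf 0xf0b0b0a0004))) (.node 61909 (.leaf 0x0) (.node 61910 (.leaf 0x0) (.leaf 0xe0a0a0003))))) (.node 61917 (.node 61914 (.node 61912 (.leaf 0xf1d600ac76) (.node 61913 (.leaf 0x60506010500020007) (.leaf 0x0))) (.node 61915 (.leaf 0xb0b0a0003) (.node 61916 (.leaf 0x0) (.leaf 0xf0a0002)))) (.node 61920 (.node 61918 (.leaf 0x0) (.node 61919 (.leaf 0x0) (.leaf 0xd0b0b0003))) (.node 61921 (.leaf 0xe0a0a0003) (.node 61922 (.leaf 0xf1e0) (.leaf 0xe0d0002))))))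

def argWS_5485 : Store := (.node 61900 argWS_5483 argWS_5484)

def argWS_5486 : Store := (.node 61934 (.node 61928 (.node 61925 (.node 61924 (.leaf 0x0) (.leaf 0xa0001)) (.node 61926 (.leaf 0x0) (.node 61927 (.leaf 0x0) (.leaf 0xb0b0002)))) (.node 61931 (.node 61929 (.leaf 0xb0f0a0003) (.node 61930 (.leaf 0x6050102000003010202000701000d) (.leaf 0x0))) (.node 61932 (.leaf 0xb0a0a0003) (.node 61933 (.leaf 0x0) (.leaf 0xf1ec00f1e8))))) (.node 61939 (.node 61936 (.node 61935 (.leaf 0x500020106060006) (.leaf 0x0)) (.node 61937 (.leaf 0xd0b0b0003) (.node 61938 (.leaf 0x0) (.leaf 0xd0b0b0003)))) (.node 61942 (.node 61940 (.leaf 0x0) (.node 61941 (.leaf 0x0) (.leaf 0xb0f0a0003))) (.node 61943 (.leaf 0x60102010207030802040105000c) (.node 61944 (.leaf 0x0) (.leaf 0xb0b0a0003))))))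

def argWS_5487 : Store := (.node 61956 (.node 61950 (.node 61947 (.node 61946 (.leaf 0x0) (.leaf 0xf1f9)) (.node 61948 (.leaf 0x103010400050006) (.node 61949 (.leaf 0x0) (.leaf 0xf0b0b0a0004)))) (.node 61953 (.node 61951 (.leaf 0x0) (.node 61952 (.leaf 0xe0a0002) (.leaf 0x0))) (.node 61954 (.leaf 0x0) (.node 61955 (.leaf 0x5020601050002000703040103000d) (.leaf 0x0))))) (.node 61962 (.node 61959 (.node 61957 (.leaf 0xd0001) (.node 61958 (.leaf 0x0) (.leaf 0xe0001))) (.node 61960 (.leaf 0x502070206000202000701000b) (.node 61961 (.leaf 0x0) (.leaf 0xd0001)))) (.node 61965 (.node 61963 (.leaf 0x0) (.node 61964 (.leaf 0xf20a00f206) (.leaf 0xb0f0a0a0004))) (.node 61966 (.leaf 0x0) (.node 61967 (.leaf 0x80101090806000202000701000c) (.leaf 0x0))))))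

def argWS_5488 : Store := (.node 61945 argWS_5486 argWS_5487)

def argWS_5489 : Store := (.node 61923 argWS_5485 argWS_5488)

def argWS_5490 : Store := (.node 61979 (.node 61973 (.node 61970 (.node 61969 (.leaf 0xd0001) (.leaf 0xa0001)) (.node 61971 (.leaf 0x901010908050202000701000b) (.node 61972 (.leaf 0x0) (.leaf 0xf0b0a0a0004)))) (.node 61976 (.node 61974 (.leaf 0x0) (.node 61975 (.leaf 0x20601070209020202000701000c) (.leaf 0x0))) (.node 61977 (.leaf 0xe0a0002) (.node 61978 (.leaf 0x0) (.leaf 0xf21900f215))))) (.node 61984 (.node 61981 (.node 61980 (.leaf 0xe0001) (.leaf 0x0)) (.node 61982 (.leaf 0xe0a0a0003) (.node 61983 (.leaf 0x0) (.leaf 0x0)))) (.node 61987 (.node 61985 (.leaf 0x50200020804000202000701000c) (.node 61986 (.leaf 0x0) (.leaf 0xf0b0b0003))) (.node 61988 (.leaf 0x0) (.node 61989 (.leaf 0xd0b0b0003) (.leaf 0xf0b0a0003))))))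

def argWS_5491 : Store := (.node 62001 (.node 61995 (.node 61992 (.node 61991 (.leaf 0xf22500f224) (.leaf 0xe0a0a0003)) (.node 61993 (.leaf 0x0) (.node 61994 (.leaf 0x0) (.leaf 0xf0001)))) (.node 61998 (.node 61996 (.leaf 0xb0b0a0a0004) (.node 61997 (.leaf 0xf22b) (.leaf 0x30701090805000703040103000c))) (.node 61999 (.leaf 0x0) (.node 62000 (.leaf 0xb0b0002) (.leaf 0x0))))) (.node 62007 (.node 62004 (.node 62002 (.leaf 0xe0d0002) (.node 62003 (.leaf 0x0) (.leaf 0x0))) (.node 62005 (.leaf 0xf0b0b0a0004) (.node 62006 (.leaf 0xf234) (.leaf 0xb0a0a0003)))) (.node 62010 (.node 62008 (.leaf 0x0) (.node 62009 (.leaf 0x1020207030005) (.leaf 0x0))) (.node 62011 (.leaf 0xb0a0a0003) (.node 62012 (.leaf 0xe0d0002) (.leaf 0x600040005000703040103000b))))))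

def argWS_5492 : Store := (.node 61990 argWS_5490 argWS_5491)

def argWS_5493 : Store := (.node 62024 (.node 62018 (.node 62015 (.node 62014 (.leaf 0x0) (.leaf 0x0)) (.node 62016 (.leaf 0xa0a0002) (.node 62017 (.leaf 0xf23f00f23e) (.leaf 0xd0001)))) (.node 62021 (.node 62019 (.leaf 0x0) (.node 62020 (.leaf 0xb0b0002) (.leaf 0x0))) (.node 62022 (.leaf 0x0) (.node 62023 (.leaf 0xa0f0002) (.leaf 0xf0b0b0a0004))))) (.node 62030 (.node 62027 (.node 62025 (.leaf 0xe0ac00f247) (.node 62026 (.leaf 0xd0001) (.leaf 0x0))) (.node 62028 (.leaf 0xd0b0b0003) (.node 62029 (.leaf 0x0) (.leaf 0x0)))) (.node 62033 (.node 62031 (.leaf 0xb0a0a0003) (.node 62032 (.leaf 0x2040102000003010202000701000d) (.leaf 0x0))) (.node 62034 (.leaf 0xe0a0a0003) (.node 62035 (.leaf 0x0) (.leaf 0xb0b0a0a0004))))))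

def argWS_5494 : Store := (.node 62047 (.node 62041 (.node 62038 (.node 62037 (.leaf 0xf25300f252) (.leaf 0x1040000020804000802040105000d)) (.node 62039 (.leaf 0x0) (.node 62040 (.leaf 0xf0a0a0003) (.leaf 0x0)))) (.node 62044 (.node 62042 (.leaf 0xa0f0002) (.node 62043 (.leaf 0x0) (.leaf 0x0))) (.node 62045 (.leaf 0xb0f0a0003) (.node 62046 (.leaf 0xf0b0b0a0a0005) (.leaf 0xb0f0002))))) (.node 62053 (.node 62050 (.node 62048 (.leaf 0xf25e00f25d) (.node 62049 (.leaf 0xf0b0a0a0004) (.leaf 0x0))) (.node 62051 (.leaf 0xf0b0b0003) (.node 62052 (.leaf 0x0) (.leaf 0x0)))) (.node 62056 (.node 62054 (.leaf 0xa0f0b0b0004) (.node 62055 (.leaf 0x3070401050005) (.leaf 0x0))) (.node 62057 (.leaf 0xb0a0002) (.node 62058 (.leaf 0x0) (.leaf 0xf269))))))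

def argWS_5495 : Store := (.node 62036 argWS_5493 argWS_5494)

def argWS_5496 : Store := (.node 62013 argWS_5492 argWS_5495)

def argWS_5497 : Store := (.node 61968 argWS_5489 argWS_5496)

def argWS_5498 : Store := (.node 61878 argWS_5482 argWS_5497)

def argWS_5499 : Store := (.node 61698 argWS_5467 argWS_5498)

def argWS_5500 : Store := (.node 61337 argWS_5436 argWS_5499)

def argWS_5501 : Store := (.node 62070 (.node 62064 (.node 62061 (.node 62060 (.leaf 0x7040009020602000703040103000d) (.leaf 0x0)) (.node 62062 (.leaf 0xf0b0002) (.node 62063 (.leaf 0x0) (.leaf 0xb0001)))) (.node 62067 (.node 62065 (.leaf 0x0) (.node 62066 (.leaf 0x0) (.leaf 0xe0d0002))) (.node 62068 (.leaf 0xa0f0b0b0004) (.node 62069 (.leaf 0xf273) (.leaf 0xf0b0b0a0a0005))))) (.node 62075 (.node 62072 (.node 62071 (.leaf 0x0) (.leaf 0xa0001)) (.node 62073 (.leaf 0x0) (.node 62074 (.leaf 0x0) (.leaf 0xf0b0a0003)))) (.node 62078 (.node 62076 (.leaf 0x854e) (.node 62077 (.leaf 0xf0b0a0003)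 (.leaf 0x0))) (.node 62079 (.leaf 0xa0f0b0003) (.node 62080 (.leaf 0x0) (.leaf 0x0))))))

def argWS_5502 : Store := (.node 62092 (.node 62086 (.node 62083 (.node 62082 (.leaf 0xa0a0002) (.leaf 0x8000002000003010202000701000d)) (.node 62084 (.leaf 0x0) (.node 62085 (.leaf 0xb0f0a0a0004) (.leaf 0x0)))) (.node 62089 (.node 62087 (.leaf 0xf285) (.node 62088 (.leaf 0xb0a0f0003) (.leaf 0x0))) (.node 62090 (.leaf 0xa0f0002) (.node 62091 (.leaf 0x0) (.leaf 0x0))))) (.node 62098 (.node 62095 (.node 62093 (.leaf 0xa0a0002) (.node 62094 (.leaf 0xd0b0b0003) (.leaf 0xf28d))) (.node 62096 (.leaf 0x0) (.node 62097 (.leaf 0xd0b0002) (.leaf 0x0)))) (.node 62101 (.node 62099 (.leaf 0x0) (.node 62100 (.leaf 0xb0a0f0003) (.leaf 0xf0b0b0a0a0005))) (.node 62102 (.leaf 0xd0b0002) (.node 62103 (.leaf 0xb0b0002) (.leaf 0xf29600f295))))))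

def argWS_5503 : Store := (.node 62081 argWS_5501 argWS_5502)

def argWS_5504 : Store := (.node 62115 (.node 62109 (.node 62106 (.node 62105 (.leaf 0xb0b0a0a0004) (.leaf 0x0)) (.node 62107 (.leaf 0xa0f0002) (.node 62108 (.leaf 0x0) (.leaf 0x0)))) (.node 62112 (.node 62110 (.leaf 0xb0b0002) (.node 62111 (.leaf 0x3070002020900000008) (.leaf 0x0))) (.node 62113 (.leaf 0xd0b0b0003) (.node 62114 (.leaf 0x0) (.leaf 0xf0b0002))))) (.node 62120 (.node 62117 (.node 62116 (.leaf 0xf2a200f2a1) (.leaf 0x2090106060202000701000a)) (.node 62118 (.leaf 0x0) (.node 62119 (.leaf 0xd0b0002) (.leaf 0x0)))) (.node 62123 (.node 62121 (.leaf 0xb0a0002) (.node 62122 (.leaf 0x0) (.leaf 0x0))) (.node 62124 (.leaf 0xa0f0b0003) (.node 62125 (.leaf 0x103090206020802040105000b) (.leaf 0x0))))))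

def argWS_5505 : Store := (.node 62137 (.node 62131 (.node 62128 (.node 62127 (.leaf 0xd0b0b0003) (.leaf 0x0)) (.node 62129 (.leaf 0xf2af00f2ab) (.node 62130 (.leaf 0x30306010500020202000701000c) (.leaf 0x0)))) (.node 62134 (.node 62132 (.leaf 0xf0b0002) (.node 62133 (.leaf 0x0) (.leaf 0xb0a0f0003))) (.node 62135 (.leaf 0x0) (.node 62136 (.leaf 0x0) (.leaf 0xa0f0002))))) (.node 62143 (.node 62140 (.node 62138 (.leaf 0x90300090109000703040103000c) (.node 62139 (.leaf 0x0) (.leaf 0xa0a0002))) (.node 62141 (.leaf 0x0) (.node 62142 (.leaf 0x2000206030500040008) (.leaf 0x0)))) (.node 62146 (.node 62144 (.leaf 0xa0f0002) (.node 62145 (.leaf 0x0) (.leaf 0xf2c000f2bc))) (.node 62147 (.leaf 0xf0b0b0a0004) (.node 62148 (.leaf 0x0) (.leaf 0xf0b0a0003))))))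

def argWS_5506 : Store := (.node 62126 argWS_5504 argWS_5505)

def argWS_5507 : Store := (.node 62104 argWS_5503 argWS_5506)

def argWS_5508 : Store := (.node 62160 (.node 62154 (.node 62151 (.node 62150 (.leaf 0x0) (.leaf 0x0)) (.node 62152 (.leaf 0xd0b0002) (.node 62153 (.leaf 0xb0f0a0a0004) (.leaf 0xf2c8)))) (.node 62157 (.node 62155 (.leaf 0x40102000003010802040105000c) (.node 62156 (.leaf 0x0) (.leaf 0xb0a0f0003))) (.node 62158 (.leaf 0x0) (.node 62159 (.leaf 0xb0b0002) (.leaf 0x0))))) (.node 62165 (.node 62162 (.node 62161 (.leaf 0x0) (.leaf 0xcb7b)) (.node 62163 (.leaf 0x206010703060006) (.node 62164 (.leaf 0x0) (.leaf 0xb0f0a0003)))) (.node 62168 (.node 62166 (.leaf 0x0) (.node 62167 (.leaf 0xf0b0b0003) (.leaf 0x0))) (.node 62169 (.leaf 0x0) (.node 62170 (.leaf 0xb0a0a0003) (.leaf 0x40304010703060007))))))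

def argWS_5509 : Store := (.node 62182 (.node 62176 (.node 62173 (.node 62172 (.leaf 0x0) (.leaf 0x0)) (.node 62174 (.leaf 0xf0b0b0003) (.node 62175 (.leaf 0xf2dd00f2dc) (.leaf 0x906020702010802040105000b)))) (.node 62179 (.node 62177 (.leaf 0x0) (.node 62178 (.leaf 0xf0b0b0a0a0005) (.leaf 0x0))) (.node 62180 (.leaf 0xf0b0a0003) (.node 62181 (.leaf 0x0) (.leaf 0x0))))) (.node 62188 (.node 62185 (.node 62183 (.leaf 0x1050202020900000802040105000d) (.node 62184 (.leaf 0x0) (.leaf 0xb0a0a0003))) (.node 62186 (.leaf 0x0) (.node 62187 (.leaf 0xb0a0002) (.leaf 0xf0a0a0003)))) (.node 62191 (.node 62189 (.leaf 0xf2eb00f2ea) (.node 62190 (.leaf 0xb0a0002) (.leaf 0x0))) (.node 62192 (.leaf 0x60503010102000007) (.node 62193 (.leaf 0x0) (.leaf 0xf0001))))))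

def argWS_5510 : Store := (.node 62171 argWS_5508 argWS_5509)

def argWS_5511 : Store := (.node 62205 (.node 62199 (.node 62196 (.node 62195 (.leaf 0xf0b0b0a0004) (.leaf 0x102020007010006)) (.node 62197 (.leaf 0x0) (.node 62198 (.leaf 0xd0001) (.leaf 0x0)))) (.node 62202 (.node 62200 (.leaf 0xf2f6) (.node 62201 (.leaf 0xe0a0a0003) (.leaf 0x0))) (.node 62203 (.leaf 0x8000406030500040202000701000d) (.node 62204 (.leaf 0x0) (.leaf 0xf0b0b0a0004))))) (.node 62210 (.node 62207 (.node 62206 (.leaf 0xe0a0a0003) (.leaf 0xb0f0a0003)) (.node 62208 (.leaf 0xf2fe009ec3) (.node 62209 (.leaf 0xd0b0b0003) (.leaf 0x0)))) (.node 62213 (.node 62211 (.leaf 0xb0f0002) (.node 62212 (.leaf 0x0) (.leaf 0x0))) (.node 62214 (.leaf 0x40303010102000802040105000c) (.node 62215 (.leaf 0x0) (.leaf 0xe0a0a0003))))))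

def argWS_5512 : Store := (.node 62227 (.node 62221 (.node 62218 (.node 62217 (.leaf 0x0) (.leaf 0x60501020901060007)) (.node 62219 (.leaf 0x0) (.node 62220 (.leaf 0xf0b0b0a0a0005) (.leaf 0x0)))) (.node 62224 (.node 62222 (.leaf 0xf30c) (.node 62223 (.leaf 0xb0a0f0003) (.leaf 0x0))) (.node 62225 (.leaf 0x403000408010006) (.node 62226 (.leaf 0x0) (.leaf 0xd0b0b0003))))) (.node 62233 (.node 62230 (.node 62228 (.leaf 0xb0b0002) (.node 62229 (.leaf 0x4000002080400000703040103000d) (.leaf 0x0))) (.node 62231 (.leaf 0xb0001) (.node 62232 (.leaf 0x0) (.leaf 0x20000090000090007)))) (.node 62236 (.node 62234 (.leaf 0x0) (.node 62235 (.leaf 0xf0b0b0003) (.leaf 0x0))) (.node 62237 (.leaf 0xf31b00f317) (.node 62238 (.leaf 0xb0001) (.leaf 0x0))))))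

def argWS_5513 : Store := (.node 62216 argWS_5511 argWS_5512)

def argWS_5514 : Store := (.node 62194 argWS_5510 argWS_5513)

def argWS_5515 : Store := (.node 62149 argWS_5507 argWS_5514)

def argWS_5516 : Store := (.node 62250 (.node 62244 (.node 62241 (.node 62240 (.leaf 0xf0a0002) (.leaf 0x0)) (.node 62242 (.leaf 0x0) (.node 62243 (.leaf 0x6050109080600000703040103000d) (.leaf 0x0)))) (.node 62247 (.node 62245 (.leaf 0xb0a0f0003) (.node 62246 (.leaf 0x0) (.leaf 0xb0b0002))) (.node 62248 (.leaf 0xf326005a48) (.node 62249 (.leaf 0xd0b0002) (.leaf 0x0))))) (.node 62255 (.node 62252 (.node 62251 (.leaf 0x700020106060202000701000b) (.leaf 0x0)) (.node 62253 (.leaf 0xf0a0002) (.node 62254 (.leaf 0xb0b0a0003) (.leaf 0xe0001)))) (.node 62258 (.node 62256 (.leaf 0xf32e) (.node 62257 (.leaf 0xf0a0a0003) (.leaf 0x0))) (.node 62259 (.leaf 0xf0b0a0003) (.node 62260 (.leaf 0x0) (.leaf 0x0))))))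

def argWS_5517 : Store := (.node 62272 (.node 62266 (.node 62263 (.node 62262 (.leaf 0xd0b0002) (.leaf 0x403040207030006)) (.node 62264 (.leaf 0x0) (.node 62265 (.leaf 0xf0b0a0a0004) (.leaf 0x0)))) (.node 62269 (.node 62267 (.leaf 0xb0a0a0003) (.node 62268 (.leaf 0xf33a00f339) (.leaf 0xa0001))) (.node 62270 (.leaf 0x0) (.node 62271 (.leaf 0xa0f0b0003) (.leaf 0x0))))) (.node 62278 (.node 62275 (.node 62273 (.leaf 0x0) (.node 62274 (.leaf 0x8000402020900000802040105000d) (.leaf 0x0))) (.node 62276 (.leaf 0x0) (.node 62277 (.leaf 0x60501090000090202000701000c) (.leaf 0x0)))) (.node 62281 (.node 62279 (.leaf 0xf0001) (.node 62280 (.leaf 0x0) (.leaf 0xf34700f343))) (.node 62282 (.leaf 0xa0001) (.node 62283 (.leaf 0x0) (.leaf 0xe0d0002))))))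

def argWS_5518 : Store := (.node 62261 argWS_5516 argWS_5517)

def argWS_5519 : Store := (.node 62295 (.node 62289 (.node 62286 (.node 62285 (.leaf 0x0) (.leaf 0x0)) (.node 62287 (.leaf 0x500020603000703040103000b) (.node 62288 (.leaf 0x0) (.leaf 0xf0b0b0003)))) (.node 62292 (.node 62290 (.leaf 0x0) (.node 62291 (.leaf 0xf0b0002) (.leaf 0xf35200f351))) (.node 62293 (.leaf 0xb0f0a0a0004) (.node 62294 (.leaf 0x0) (.leaf 0xf0b0b0003))))) (.node 62300 (.node 62297 (.node 62296 (.leaf 0x0) (.leaf 0x0)) (.node 62298 (.leaf 0xb0a0a0003) (.node 62299 (.leaf 0x204000300000006) (.leaf 0x0)))) (.node 62303 (.node 62301 (.leaf 0xf0b0b0003) (.node 62302 (.leaf 0x0) (.leaf 0xf35d))) (.node 62304 (.leaf 0x2020006010500020202000701000d) (.node 62305 (.leaf 0x0) (.leaf 0xb0b0a0a0004))))))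

def argWS_5520 : Store := (.node 62317 (.node 62311 (.node 62308 (.node 62307 (.leaf 0x0) (.leaf 0xb0f0002)) (.node 62309 (.leaf 0x0) (.node 62310 (.leaf 0x0) (.leaf 0xa0001)))) (.node 62314 (.node 62312 (.leaf 0x8050006020702010008) (.node 62313 (.leaf 0x0) (.leaf 0xf0b0b0a0004))) (.node 62315 (.leaf 0x0) (.node 62316 (.leaf 0x30700090206020802040105000c) (.leaf 0x0))))) (.node 62323 (.node 62320 (.node 62318 (.leaf 0xd0b0002) (.node 62319 (.leaf 0x0) (.leaf 0xf36e00f36a))) (.node 62321 (.leaf 0xa0f0b0b0004) (.node 62322 (.leaf 0x0) (.leaf 0x200000400050802040105000b)))) (.node 62326 (.node 62324 (.leaf 0x0) (.node 62325 (.leaf 0xb0a0a0003) (.leaf 0x10202010703060202000701000c))) (.node 62327 (.leaf 0x0) (.node 62328 (.leaf 0xd0b0002) (.leaf 0x0))))))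

def argWS_5521 : Store := (.node 62306 argWS_5519 argWS_5520)

def argWS_5522 : Store := (.node 62284 argWS_5518 argWS_5521)

def argWS_5523 : Store := (.node 62340 (.node 62334 (.node 62331 (.node 62330 (.leaf 0x2090102020900000008) (.leaf 0x0)) (.node 62332 (.leaf 0xf0b0b0a0004) (.node 62333 (.leaf 0x0) (.leaf 0xf37c007909)))) (.node 62337 (.node 62335 (.leaf 0xf0b0b0a0004) (.node 62336 (.leaf 0x0) (.leaf 0xf0b0a0a0004))) (.node 62338 (.leaf 0x0) (.node 62339 (.leaf 0x0) (.leaf 0xb0a0002))))) (.node 62345 (.node 62342 (.node 62341 (.leaf 0x805000000030000000703040103000e) (.leaf 0x0)) (.node 62343 (.leaf 0x0) (.node 62344 (.leaf 0xf386000cd0) (.leaf 0x206020901060802040105000b)))) (.node 62348 (.node 62346 (.leaf 0x0) (.node 62347 (.leaf 0xb0f0a0a0004) (.leaf 0x0))) (.node 62349 (.leaf 0xf0b0a0a0004) (.node 62350 (.leaf 0x0) (.leaf 0xa0f0002))))))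

def argWS_5524 : Store := (.node 62362 (.node 62356 (.node 62353 (.node 62352 (.leaf 0xf0a0002) (.leaf 0xf38f)) (.node 62354 (.leaf 0xb0f0a0a0004) (.node 62355 (.leaf 0x0) (.leaf 0xf0b0b0a0004)))) (.node 62359 (.node 62357 (.leaf 0x0) (.node 62358 (.leaf 0x0) (.leaf 0xa0f0b0b0004))) (.node 62360 (.leaf 0xb0b0a0a0004) (.node 62361 (.leaf 0xf397) (.leaf 0xe0a0a0003))))) (.node 62368 (.node 62365 (.node 62363 (.leaf 0x0) (.node 62364 (.leaf 0xd0b0002) (.leaf 0x0))) (.node 62366 (.leaf 0x0) (.node 62367 (.leaf 0xb0a0002) (.leaf 0x502000207030802040105000b)))) (.node 62371 (.node 62369 (.leaf 0x0) (.node 62370 (.leaf 0xf0a0002) (.leaf 0x0))) (.node 62372 (.leaf 0xf3a2) (.node 62373 (.leaf 0xb0a0002) (.leaf 0x0))))))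

def argWS_5525 : Store := (.node 62351 argWS_5523 argWS_5524)

def argWS_5526 : Store := (.node 62385 (.node 62379 (.node 62376 (.node 62375 (.leaf 0xb0a0a0003) (.leaf 0x0)) (.node 62377 (.leaf 0x0) (.node 62378 (.leaf 0xd0b0002) (.leaf 0xf0a0a0003)))) (.node 62382 (.node 62380 (.leaf 0x30502020900000802040105000c) (.node 62381 (.leaf 0x0) (.leaf 0xd0b0002))) (.node 62383 (.leaf 0x0) (.node 62384 (.leaf 0xf3ae00f3aa) (.leaf 0xf0b0002))))) (.node 62391 (.node 62388 (.node 62386 (.leaf 0x0) (.node 62387 (.leaf 0xa0f0002) (.leaf 0x0))) (.node 62389 (.leaf 0x0) (.node 62390 (.leaf 0xd0b0b0003) (.leaf 0x202010606000703040103000b)))) (.node 62394 (.node 62392 (.leaf 0x0) (.node 62393 (.leaf 0xb0a0a0003) (.leaf 0x0))) (.node 62395 (.leaf 0x601010102000006) (.node 62396 (.leaf 0x0) (.leaf 0xf0b0b0003))))))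

def argWS_5527 : Store := (.node 62408 (.node 62402 (.node 62399 (.node 62398 (.leaf 0x0) (.leaf 0xf3bd00f3b9)) (.node 62400 (.leaf 0xe0a0002) (.node 62401 (.leaf 0x0) (.leaf 0xe0a0002)))) (.node 62405 (.node 62403 (.leaf 0x0) (.node 62404 (.leaf 0x0) (.leaf 0x906020603000703040103000b))) (.node 62406 (.leaf 0x0) (.node 62407 (.leaf 0xb0a0a0003) (.leaf 0x0))))) (.node 62414 (.node 62411 (.node 62409 (.leaf 0x5030508020401050008) (.node 62410 (.leaf 0x0) (.leaf 0xf0b0b0a0004))) (.node 62412 (.leaf 0x0) (.node 62413 (.leaf 0xf0001) (.leaf 0xf3cc00f3cb)))) (.node 62417 (.node 62415 (.leaf 0xa0f0002) (.node 62416 (.leaf 0x0) (.leaf 0x60500090206020802040105000c))) (.node 62418 (.leaf 0x0) (.node 62419 (.leaf 0xf0b0b0003) (.leaf 0xb0b0a0a0004))))))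

def argWS_5528 : Store := (.node 62397 argWS_5526 argWS_5527)

def argWS_5529 : Store := (.node 62374 argWS_5525 argWS_5528)

def argWS_5530 : Store := (.node 62329 argWS_5522 argWS_5529)

def argWS_5531 : Store := (.node 62239 argWS_5515 argWS_5530)

def argWS_5532 : Store := (.node 62431 (.node 62425 (.node 62422 (.node 62421 (.leaf 0xd0b0b0003) (.leaf 0x20106060802040105000b)) (.node 62423 (.leaf 0x0) (.node 62424 (.leaf 0xf0a0a0003) (.leaf 0x0)))) (.node 62428 (.node 62426 (.leaf 0xf3d800f3d4) (.node 62427 (.leaf 0xf0b0002) (.leaf 0x0))) (.node 62429 (.leaf 0xb0f0a0a0004) (.node 62430 (.leaf 0x0) (.leaf 0x0))))) (.node 62436 (.node 62433 (.node 62432 (.leaf 0x50106020702010802040105000c) (.leaf 0x0)) (.node 62434 (.leaf 0xf0a0002) (.node 62435 (.leaf 0x0) (.leaf 0xf0a0002)))) (.node 62439 (.node 62437 (.leaf 0xf0b0b0a0004) (.node 62438 (.leaf 0xf3e400f3e3) (.leaf 0xb0a0f0003))) (.node 62440 (.leaf 0x0) (.node 62441 (.leaf 0x205020002080400000703040103000e)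 (.leaf 0x0))))))

def argWS_5533 : Store := (.node 62453 (.node 62447 (.node 62444 (.node 62443 (.leaf 0xf0b0b0a0004) (.leaf 0x704090000090006)) (.node 62445 (.leaf 0x0) (.node 62446 (.leaf 0xa0001) (.leaf 0x0)))) (.node 62450 (.node 62448 (.leaf 0xf0a0a0003) (.node 62449 (.leaf 0xb0b0002) (.leaf 0xf3f000f3ef))) (.node 62451 (.leaf 0xb0b0a0a0004) (.node 62452 (.leaf 0x0) (.leaf 0x40007020007010007))))) (.node 62459 (.node 62456 (.node 62454 (.leaf 0x0) (.node 62455 (.leaf 0xa0f0002) (.leaf 0xe0001))) (.node 62457 (.leaf 0x6030500040006) (.node 62458 (.leaf 0x0) (.leaf 0xa0f0b0b0004)))) (.node 62462 (.node 62460 (.leaf 0x0) (.node 62461 (.leaf 0x10300070206000007) (.leaf 0x0))) (.node 62463 (.leaf 0x0) (.node 62464 (.leaf 0xf3fe00f3fb) (.leaf 0xb0a0002))))))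

def argWS_5534 : Store := (.node 62442 argWS_5532 argWS_5533)

def argWS_5535 : Store := (.node 62476 (.node 62470 (.node 62467 (.node 62466 (.leaf 0x0) (.leaf 0x0)) (.node 62468 (.leaf 0x7010103080202000701000a) (.node 62469 (.leaf 0x0) (.leaf 0xb0a0f0003)))) (.node 62473 (.node 62471 (.leaf 0x0) (.node 62472 (.leaf 0x60401070009030007) (.leaf 0x0))) (.node 62474 (.leaf 0xf0b0b0a0004) (.node 62475 (.leaf 0x0) (.leaf 0x20904020202000701000a))))) (.node 62481 (.node 62478 (.node 62477 (.leaf 0x0) (.leaf 0xf0a0a0003)) (.node 62479 (.leaf 0x0) (.node 62480 (.leaf 0xf40e00f40a) (.leaf 0xf0a0002)))) (.node 62484 (.node 62482 (.leaf 0x0) (.node 62483 (.leaf 0x20002020900000802040105000d) (.leaf 0x0))) (.node 62485 (.leaf 0xa0f0b0003) (.node 62486 (.leaf 0xb0a0a0003) (.leaf 0x70406010500020202000701000c))))))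

def argWS_5536 : Store := (.node 62498 (.node 62492 (.node 62489 (.node 62488 (.leaf 0x0) (.leaf 0xa0a0002)) (.node 62490 (.leaf 0x0) (.node 62491 (.leaf 0x902010900090006) (.leaf 0x0)))) (.node 62495 (.node 62493 (.leaf 0xf0001) (.node 62494 (.leaf 0x0) (.leaf 0xf41d00f419))) (.node 62496 (.leaf 0x2050207020600000703040103000d) (.node 62497 (.leaf 0x0) (.leaf 0xf0001))))) (.node 62504 (.node 62501 (.node 62499 (.leaf 0x0) (.node 62500 (.leaf 0xd0001) (.leaf 0x0))) (.node 62502 (.leaf 0x0) (.node 62503 (.leaf 0xd0b0002) (.leaf 0xf0a0002)))) (.node 62507 (.node 62505 (.leaf 0xf427) (.node 62506 (.leaf 0xf0b0b0a0a0005) (.leaf 0x0))) (.node 62508 (.leaf 0xb0a0002) (.node 62509 (.leaf 0x0) (.leaf 0x0))))))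

def argWS_5537 : Store := (.node 62487 argWS_5535 argWS_5536)

def argWS_5538 : Store := (.node 62465 argWS_5534 argWS_5537)

def argWS_5539 : Store := (.node 62521 (.node 62515 (.node 62512 (.node 62511 (.leaf 0x10400000408010802040105000c) (.leaf 0x0)) (.node 62513 (.leaf 0xb0f0002) (.node 62514 (.leaf 0x0) (.leaf 0xb0001)))) (.node 62518 (.node 62516 (.leaf 0xf432) (.node 62517 (.leaf 0xb0f0a0003) (.leaf 0x0))) (.node 62519 (.leaf 0xf0b0a0003) (.node 62520 (.leaf 0x0) (.leaf 0x0))))) (.node 62526 (.node 62523 (.node 62522 (.leaf 0xd0b0b0003) (.leaf 0xb0b0a0003)) (.node 62524 (.leaf 0xf43a00c557) (.node 62525 (.leaf 0xb0b0002) (.leaf 0x0)))) (.node 62529 (.node 62527 (.leaf 0xa0a0002) (.node 62528 (.leaf 0x0) (.leaf 0x0))) (.node 62530 (.leaf 0xa0001) (.node 62531 (.leaf 0x404070209020802040105000b) (.leaf 0x0))))))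

def argWS_5540 : Store := (.node 62543 (.node 62537 (.node 62534 (.node 62533 (.leaf 0xf0b0b0a0a0005) (.leaf 0x0)) (.node 62535 (.leaf 0x70900090802040105000a) (.node 62536 (.leaf 0x0) (.leaf 0xd0001)))) (.node 62540 (.node 62538 (.leaf 0x0) (.node 62539 (.leaf 0xf44900f445) (.leaf 0xd0b0002))) (.node 62541 (.leaf 0x0) (.node 62542 (.leaf 0xf0b0b0003) (.leaf 0x0))))) (.node 62549 (.node 62546 (.node 62544 (.leaf 0x0) (.node 62545 (.leaf 0xeee900f28e) (.leaf 0xb0b0002))) (.node 62547 (.leaf 0x0) (.node 62548 (.leaf 0x20901010908050007) (.leaf 0x0)))) (.node 62552 (.node 62550 (.leaf 0xa0a0002) (.node 62551 (.leaf 0x10903000408010202000701000c) (.leaf 0x0))) (.node 62553 (.leaf 0xe0a0a0003) (.node 62554 (.leaf 0x0) (.leaf 0x702050206040006))))))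

def argWS_5541 : Store := (.node 62532 argWS_5539 argWS_5540)

def argWS_5542 : Store := (.node 62566 (.node 62560 (.node 62557 (.node 62556 (.leaf 0x0) (.leaf 0xb0001)) (.node 62558 (.leaf 0x0) (.node 62559 (.leaf 0xf45d00f459) (.leaf 0xb0b0002)))) (.node 62563 (.node 62561 (.leaf 0x0) (.node 62562 (.leaf 0xa0f0b0003) (.leaf 0x0))) (.node 62564 (.leaf 0x0) (.node 62565 (.leaf 0x60401050206040007) (.leaf 0x0))))) (.node 62571 (.node 62568 (.node 62567 (.leaf 0xb0a0f0003) (.leaf 0x0)) (.node 62569 (.leaf 0xf467) (.node 62570 (.leaf 0x0) (.leaf 0xa0001)))) (.node 62574 (.node 62572 (.leaf 0x0) (.node 62573 (.leaf 0x0) (.leaf 0xa0f0b0003))) (.node 62575 (.leaf 0xb0f0a0a0004) (.node 62576 (.leaf 0x205020604000703040103000b) (.leaf 0x0))))))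

def argWS_5543 : Store := (.node 62588 (.node 62582 (.node 62579 (.node 62578 (.leaf 0xd0b0b0003) (.leaf 0x0)) (.node 62580 (.leaf 0xf47200f46e) (.node 62581 (.leaf 0xa0a0002) (.leaf 0x0)))) (.node 62585 (.node 62583 (.leaf 0xa0a0002) (.node 62584 (.leaf 0x0) (.leaf 0x0))) (.node 62586 (.leaf 0xa0001) (.node 62587 (.leaf 0xb0f0a0003) (.leaf 0xa0f0002))))) (.node 62594 (.node 62591 (.node 62589 (.leaf 0xf47b00f47a) (.node 62590 (.leaf 0xb0a0f0003) (.leaf 0x0))) (.node 62592 (.leaf 0xb0f0a0003) (.node 62593 (.leaf 0x0) (.leaf 0x0)))) (.node 62597 (.node 62595 (.leaf 0x20902000003010202000701000c) (.node 62596 (.leaf 0x0) (.leaf 0xf0b0b0003))) (.node 62598 (.leaf 0x0) (.node 62599 (.leaf 0xf485) (.leaf 0xf0b0a0003))))))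

def argWS_5544 : Store := (.node 62577 argWS_5542 argWS_5543)

def argWS_5545 : Store := (.node 62555 argWS_5541 argWS_5544)

def argWS_5546 : Store := (.node 62510 argWS_5538 argWS_5545)

def argWS_5547 : Store := (.node 62611 (.node 62605 (.node 62602 (.node 62601 (.leaf 0x0) (.leaf 0xa0f0b0003)) (.node 62603 (.leaf 0x0) (.node 62604 (.leaf 0x0) (.leaf 0xb0f0a0003)))) (.node 62608 (.node 62606 (.leaf 0xe0a0a0003) (.node 62607 (.leaf 0x40004000408010202000701000c) (.leaf 0x0))) (.node 62609 (.leaf 0xd0b0b0003) (.node 62610 (.leaf 0x0) (.leaf 0xf49100f48d))))) (.node 62616 (.node 62613 (.node 62612 (.leaf 0xf0b0b0a0a0005) (.leaf 0x0)) (.node 62614 (.leaf 0x105080007030401030009) (.node 62615 (.leaf 0x0) (.leaf 0xb0a0f0003)))) (.node 62619 (.node 62617 (.leaf 0xd0b0002) (.node 62618 (.leaf 0x90403080004) (.leaf 0x0))) (.node 62620 (.leaf 0xf0b0a0a0004) (.node 62621 (.leaf 0x0) (.leaf 0xa0f0002))))))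

def argWS_5548 : Store := (.node 62633 (.node 62627 (.node 62624 (.node 62623 (.leaf 0xf49d0046fa) (.leaf 0xa0f0b0b0004)) (.node 62625 (.leaf 0x0) (.node 62626 (.leaf 0x0) (.leaf 0xf0b0b0a0a0005)))) (.node 62630 (.node 62628 (.leaf 0xa0a0002) (.node 62629 (.leaf 0x20105020202010007) (.leaf 0x0))) (.node 62631 (.leaf 0xa0f0b0b0004) (.node 62632 (.leaf 0x0) (.leaf 0xf4a7))))) (.node 62639 (.node 62636 (.node 62634 (.leaf 0xb0b0002) (.node 62635 (.leaf 0x0) (.leaf 0xe0a0002))) (.node 62637 (.leaf 0x0) (.node 62638 (.leaf 0x0) (.leaf 0xf0001)))) (.node 62642 (.node 62640 (.leaf 0x3070007000903000703040103000d) (.node 62641 (.leaf 0x0) (.leaf 0xd0001))) (.node 62643 (.leaf 0x0) (.node 62644 (.leaf 0xb0b0a0a0004) (.leaf 0xf4b300f4b2))))))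

def argWS_5549 : Store := (.node 62622 argWS_5547 argWS_5548)

def argWS_5550 : Store := (.node 62656 (.node 62650 (.node 62647 (.node 62646 (.leaf 0x8000000090206020802040105000d) (.leaf 0x0)) (.node 62648 (.leaf 0xf0b0a0a0004) (.node 62649 (.leaf 0x0) (.leaf 0xa0f0002)))) (.node 62653 (.node 62651 (.leaf 0x0) (.node 62652 (.leaf 0x0) (.leaf 0xf0a0a0003))) (.node 62654 (.leaf 0xb0f0a0a0004) (.node 62655 (.leaf 0x60002000003010802040105000c) (.leaf 0x0))))) (.node 62661 (.node 62658 (.node 62657 (.leaf 0xd0b0b0003) (.leaf 0x0)) (.node 62659 (.leaf 0xf4c100f4bd) (.node 62660 (.leaf 0xb0a0f0003) (.leaf 0x0)))) (.node 62664 (.node 62662 (.leaf 0xb0a0002) (.node 62663 (.leaf 0x0) (.leaf 0x0))) (.node 62665 (.leaf 0xe0001) (.node 62666 (.leaf 0x4000308000703040103000a) (.leaf 0x0))))))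

def argWS_5551 : Store := (.node 62678 (.node 62672 (.node 62669 (.node 62668 (.leaf 0x0) (.leaf 0xd0001)) (.node 62670 (.leaf 0xf4cc00f4cb) (.node 62671 (.leaf 0xf0b0b0003) (.leaf 0x0)))) (.node 62675 (.node 62673 (.leaf 0xa0f0002) (.node 62674 (.leaf 0x0) (.leaf 0x0))) (.node 62676 (.leaf 0xb0b0002) (.node 62677 (.leaf 0x3030400050202000701000a) (.leaf 0x0))))) (.node 62684 (.node 62681 (.node 62679 (.leaf 0xa0f0002) (.node 62680 (.leaf 0x0) (.leaf 0xf4d7))) (.node 62682 (.leaf 0xa0f0002) (.node 62683 (.leaf 0x0) (.leaf 0xe0d0002)))) (.node 62687 (.node 62685 (.leaf 0x0) (.node 62686 (.leaf 0x0) (.leaf 0xa0f0002))) (.node 62688 (.leaf 0xf0a0002) (.node 62689 (.leaf 0xb0f0a0003) (.leaf 0x0))))))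

def argWS_5552 : Store := (.node 62667 argWS_5550 argWS_5551)

def argWS_5553 : Store := (.node 62645 argWS_5549 argWS_5552)

def argWS_5554 : Store := (.node 62701 (.node 62695 (.node 62692 (.node 62691 (.leaf 0xf4e100f4df) (.leaf 0xe0d0002)) (.node 62693 (.leaf 0x0) (.node 62694 (.leaf 0x204030002080400000703040103000e) (.leaf 0x0)))) (.node 62698 (.node 62696 (.leaf 0xe0a0a0003) (.node 62697 (.leaf 0x1030500040005) (.leaf 0x0))) (.node 62699 (.leaf 0xf0a0002) (.node 62700 (.leaf 0x0) (.leaf 0xf0b0002))))) (.node 62706 (.node 62703 (.node 62702 (.leaf 0xf4ec00f4eb) (.leaf 0x901060007030401030009)) (.node 62704 (.leaf 0x0) (.node 62705 (.leaf 0xb0f0a0a0004) (.leaf 0x0)))) (.node 62709 (.node 62707 (.leaf 0xd0001) (.node 62708 (.leaf 0x0) (.leaf 0x0))) (.node 62710 (.leaf 0xf0a0002) (.node 62711 (.leaf 0x0) (.leaf 0xa0001))))))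

def argWS_5555 : Store := (.node 62723 (.node 62717 (.node 62714 (.node 62713 (.leaf 0xf4f7) (.leaf 0xd0b0b0003)) (.node 62715 (.leaf 0x0) (.node 62716 (.leaf 0xd0b0002) (.leaf 0x0)))) (.node 62720 (.node 62718 (.leaf 0xe0001) (.node 62719 (.leaf 0xf4fd) (.leaf 0x1040000000300000202000701000d))) (.node 62721 (.leaf 0x0) (.node 62722 (.leaf 0xd0001) (.leaf 0x0))))) (.node 62729 (.node 62726 (.node 62724 (.leaf 0xd0b0002) (.node 62725 (.leaf 0x0) (.leaf 0x0))) (.node 62727 (.leaf 0xb0f0a0003) (.node 62728 (.leaf 0x5030601050002000703040103000e) (.leaf 0x0)))) (.node 62732 (.node 62730 (.leaf 0xb0a0002) (.node 62731 (.leaf 0x0) (.leaf 0xf50a))) (.node 62733 (.leaf 0xf0a0a0003) (.node 62734 (.leaf 0x0) (.leaf 0xb0a0a0003))))))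

def argWS_5556 : Store := (.node 62712 argWS_5554 argWS_5555)

def argWS_5557 : Store := (.node 62746 (.node 62740 (.node 62737 (.node 62736 (.leaf 0x0) (.leaf 0x0)) (.node 62738 (.leaf 0xb0a0a0003) (.node 62739 (.leaf 0x90000030000000703040103000c) (.leaf 0x0)))) (.node 62743 (.node 62741 (.leaf 0xb0b0a0003) (.node 62742 (.leaf 0x0) (.leaf 0xf515))) (.node 62744 (.leaf 0x7000006020702010802040105000d) (.node 62745 (.leaf 0x0) (.leaf 0xf0a0002))))) (.node 62752 (.node 62749 (.node 62747 (.leaf 0x0) (.node 62748 (.leaf 0xb0b0a0a0004) (.leaf 0x0))) (.node 62750 (.leaf 0x0) (.node 62751 (.leaf 0xe0a0002) (.leaf 0x705020604000703040103000b)))) (.node 62755 (.node 62753 (.leaf 0x0) (.node 62754 (.leaf 0xf0b0b0a0004) (.leaf 0x0))) (.node 62756 (.leaf 0xf522) (.node 62757 (.leaf 0xb0f0002) (.leaf 0x0))))))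

def argWS_5558 : Store := (.node 62769 (.node 62763 (.node 62760 (.node 62759 (.leaf 0xf0b0002) (.leaf 0x0)) (.node 62761 (.leaf 0x0) (.node 62762 (.leaf 0x400020804000007) (.leaf 0x0)))) (.node 62766 (.node 62764 (.leaf 0xa0f0b0b0004) (.node 62765 (.leaf 0x0) (.leaf 0xf03100c5d6))) (.node 62767 (.leaf 0xb0f0002) (.node 62768 (.leaf 0x0) (.leaf 0xf0a0a0003))))) (.node 62775 (.node 62772 (.node 62770 (.leaf 0x0) (.node 62771 (.leaf 0x0) (.leaf 0xb0b0a0003))) (.node 62773 (.leaf 0xb0f0a0003) (.node 62774 (.leaf 0x9050603000703040103000a) (.leaf 0x0)))) (.node 62778 (.node 62776 (.leaf 0xb0b0a0a0004) (.node 62777 (.leaf 0x0) (.leaf 0xf53800f534))) (.node 62779 (.leaf 0xa0f0b0b0004) (.node 62780 (.leaf 0x0) (.leaf 0xf0001))))))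

def argWS_5559 : Store := (.node 62758 argWS_5557 argWS_5558)

def argWS_5560 : Store := (.node 62735 argWS_5556 argWS_5559)

def argWS_5561 : Store := (.node 62690 argWS_5553 argWS_5560)

def argWS_5562 : Store := (.node 62600 argWS_5546 argWS_5561)

def argWS_5563 : Store := (.node 62420 argWS_5531 argWS_5562)

def argWS_5564 : Store := (.node 62792 (.node 62786 (.node 62783 (.node 62782 (.leaf 0x0) (.leaf 0x0)) (.node 62784 (.leaf 0x700000300000202000701000b) (.node 62785 (.leaf 0x0) (.leaf 0xd0b0002)))) (.node 62789 (.node 62787 (.leaf 0x0) (.node 62788 (.leaf 0x10209080600000703040103000c) (.leaf 0x0))) (.node 62790 (.leaf 0xf0b0a0a0004) (.node 62791 (.leaf 0x0) (.leaf 0xee6700f546))))) (.node 62797 (.node 62794 (.node 62793 (.leaf 0xb0a0f0003) (.leaf 0x0)) (.node 62795 (.leaf 0xe0a0a0003) (.node 62796 (.leaf 0x0) (.leaf 0x0)))) (.node 62800 (.node 62798 (.leaf 0xa0f0002) (.node 62799 (.leaf 0xd0b0002) (.leaf 0x9070002000003010202000701000d))) (.node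 62801 (.leaf 0x0) (.node 62802 (.leaf 0xb0f0a0a0004) (.leaf 0x0))))))

def argWS_5565 : Store := (.node 62814 (.node 62808 (.node 62805 (.node 62804 (.leaf 0xf55200f54e) (.leaf 0xf0b0b0a0a0005)) (.node 62806 (.leaf 0x0) (.node 62807 (.leaf 0xb0a0f0003) (.leaf 0x0)))) (.node 62811 (.node 62809 (.leaf 0x0) (.node 62810 (.leaf 0xe0a0002) (.leaf 0x608040008020401050009))) (.node 62812 (.leaf 0x0) (.node 62813 (.leaf 0xf0a0a0003) (.leaf 0x0))))) (.node 62820 (.node 62817 (.node 62815 (.leaf 0xb0b0a0003) (.node 62816 (.leaf 0xf55e00f55d) (.leaf 0x309010608020401050009))) (.node 62818 (.leaf 0x0) (.node 62819 (.leaf 0x0) (.leaf 0xe0001)))) (.node 62823 (.node 62821 (.leaf 0x0) (.node 62822 (.leaf 0x0) (.leaf 0x90700030306040202000701000c))) (.node 62824 (.leaf 0x0) (.node 62825 (.leaf 0x0) (.leaf 0x103060408020401050009))))))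

def argWS_5566 : Store := (.node 62803 argWS_5564 argWS_5565)

def argWS_5567 : Store := (.node 62837 (.node 62831 (.node 62828 (.node 62827 (.leaf 0x0) (.leaf 0x0)) (.node 62829 (.leaf 0x50101090805000703040103000c) (.node 62830 (.leaf 0x0) (.leaf 0xb0f0a0a0004)))) (.node 62834 (.node 62832 (.leaf 0x0) (.node 62833 (.leaf 0xf56f00f56b) (.leaf 0xa0f0b0b0004))) (.node 62835 (.leaf 0x0) (.node 62836 (.leaf 0x30701090402000703040103000c) (.leaf 0x0))))) (.node 62842 (.node 62839 (.node 62838 (.leaf 0xf0b0a0003) (.leaf 0xa0f0002)) (.node 62840 (.leaf 0xe0001) (.node 62841 (.leaf 0xf0b0b0a0004) (.leaf 0x0)))) (.node 62845 (.node 62843 (.leaf 0xe0001) (.node 62844 (.leaf 0xf57a00f579) (.leaf 0xd0b0002))) (.node 62846 (.leaf 0x0) (.node 62847 (.leaf 0xb0f0a0003) (.leaf 0x0))))))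

def argWS_5568 : Store := (.node 62859 (.node 62853 (.node 62850 (.node 62849 (.leaf 0x0) (.leaf 0xb0001)) (.node 62851 (.leaf 0xb0a0002) (.node 62852 (.leaf 0x60003010102000008) (.leaf 0x0)))) (.node 62856 (.node 62854 (.leaf 0xf0b0a0a0004) (.node 62855 (.leaf 0x0) (.leaf 0xf58600f582))) (.node 62857 (.leaf 0xf0b0002) (.node 62858 (.leaf 0x0) (.leaf 0x1010301010200000703040103000d))))) (.node 62865 (.node 62862 (.node 62860 (.leaf 0x0) (.node 62861 (.leaf 0xa0a0002) (.leaf 0xf0001))) (.node 62863 (.leaf 0x20901010703060007) (.node 62864 (.leaf 0x0) (.leaf 0xd0b0002)))) (.node 62868 (.node 62866 (.leaf 0x0) (.node 62867 (.leaf 0xb0b0a0a0004) (.leaf 0xf59200f591))) (.node 62869 (.leaf 0xa0f0b0b0004) (.node 62870 (.leaf 0x0) (.leaf 0xd0001))))))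

def argWS_5569 : Store := (.node 62848 argWS_5567 argWS_5568)

def argWS_5570 : Store := (.node 62826 argWS_5566 argWS_5569)

def argWS_5571 : Store := (.node 62882 (.node 62876 (.node 62873 (.node 62872 (.leaf 0x0) (.leaf 0x0)) (.node 62874 (.leaf 0x2090300020804000008) (.node 62875 (.leaf 0x0) (.leaf 0xb0f0a0003)))) (.node 62879 (.node 62877 (.leaf 0x0) (.node 62878 (.leaf 0x20400000300000007) (.leaf 0x0))) (.node 62880 (.leaf 0xb0f0a0003) (.node 62881 (.leaf 0x0) (.leaf 0xf5a0))))) (.node 62887 (.node 62884 (.node 62883 (.leaf 0xf0b0b0a0a0005) (.leaf 0x0)) (.node 62885 (.leaf 0x20600090206020202000701000c) (.node 62886 (.leaf 0x0) (.leaf 0xb0001)))) (.node 62890 (.node 62888 (.leaf 0xb0f0002) (.node 62889 (.leaf 0x9020007010006) (.leaf 0x0))) (.node 62891 (.leaf 0xb0f0a0a0004) (.node 62892 (.leaf 0x0) (.leaf 0xf5ab))))))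

def argWS_5572 : Store := (.node 62904 (.node 62898 (.node 62895 (.node 62894 (.leaf 0x9070207020007010008) (.leaf 0x0)) (.node 62896 (.leaf 0xd0b0b0003) (.node 62897 (.leaf 0x0) (.leaf 0xf0001)))) (.node 62901 (.node 62899 (.leaf 0x0) (.node 62900 (.leaf 0x0) (.leaf 0xb0b0a0a0004))) (.node 62902 (.leaf 0x70102010606000703040103000c) (.node 62903 (.leaf 0x0) (.leaf 0xf0b0b0a0a0005))))) (.node 62910 (.node 62907 (.node 62905 (.leaf 0x0) (.node 62906 (.leaf 0xa0f0b0003) (.leaf 0xf5b900f5b8))) (.node 62908 (.leaf 0xa0f0b0b0004) (.node 62909 (.leaf 0x0) (.leaf 0x0)))) (.node 62913 (.node 62911 (.leaf 0xb0b0002) (.node 62912 (.leaf 0x60502000003010802040105000c) (.leaf 0x0))) (.node 62914 (.leaf 0xf0b0a0003) (.node 62915 (.leaf 0x0) (.leaf 0xf5c2))))))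

def argWS_5573 : Store := (.node 62893 argWS_5571 argWS_5572)

def argWS_5574 : Store := (.node 62927 (.node 62921 (.node 62918 (.node 62917 (.leaf 0xf0a0002) (.leaf 0x0)) (.node 62919 (.leaf 0xe0d0002) (.node 62920 (.leaf 0x0) (.leaf 0x0)))) (.node 62924 (.node 62922 (.leaf 0xd0b0b0003) (.node 62923 (.leaf 0xd0b0b0003) (.leaf 0xf0a0a0003))) (.node 62925 (.leaf 0xf5cb00f5ca) (.node 62926 (.leaf 0xb0f0a0a0004) (.leaf 0x0))))) (.node 62932 (.node 62929 (.node 62928 (.leaf 0x2090202020007010009) (.leaf 0x0)) (.node 62930 (.leaf 0xf0b0a0a0004) (.node 62931 (.leaf 0xb0001) (.leaf 0x8030000000703040103000a)))) (.node 62935 (.node 62933 (.leaf 0x0) (.node 62934 (.leaf 0xf0a0a0003) (.leaf 0x0))) (.node 62936 (.leaf 0xe0001) (.node 62937 (.leaf 0xf5d700f5d6) (.leaf 0xd0b0b0003))))))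

def argWS_5575 : Store := (.node 62949 (.node 62943 (.node 62940 (.node 62939 (.leaf 0x0) (.leaf 0xb0a0f0003)) (.node 62941 (.leaf 0x0) (.node 62942 (.leaf 0x0) (.leaf 0xd0b0b0003)))) (.node 62946 (.node 62944 (.leaf 0xe8fd) (.node 62945 (.leaf 0xd0b0002) (.leaf 0x0))) (.node 62947 (.leaf 0xf0b0002) (.node 62948 (.leaf 0x0) (.leaf 0x0))))) (.node 62955 (.node 62952 (.node 62950 (.leaf 0xf0b0a0003) (.node 62951 (.leaf 0x9607) (.leaf 0x90005020202010202000701000c))) (.node 62953 (.leaf 0x0) (.node 62954 (.leaf 0xb0f0002) (.leaf 0x0)))) (.node 62958 (.node 62956 (.leaf 0xb0001) (.node 62957 (.leaf 0x0) (.leaf 0x0))) (.node 62959 (.leaf 0xb0b0002) (.node 62960 (.leaf 0xf0d7) (.leaf 0xb0a0f0003))))))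

def argWS_5576 : Store := (.node 62938 argWS_5574 argWS_5575)

def argWS_5577 : Store := (.node 62916 argWS_5573 argWS_5576)

def argWS_5578 : Store := (.node 62871 argWS_5570 argWS_5577)

def argWS_5579 : Store := (.node 62972 (.node 62966 (.node 62963 (.node 62962 (.leaf 0x0) (.leaf 0x80000090206020202000701000c)) (.node 62964 (.leaf 0x0) (.node 62965 (.leaf 0xb0b0a0003) (.leaf 0xf0b0b0003)))) (.node 62969 (.node 62967 (.leaf 0x80000030306040008) (.node 62968 (.leaf 0x0) (.leaf 0xd0001))) (.node 62970 (.leaf 0x0) (.node 62971 (.leaf 0xf0b0a0003) (.leaf 0xf5fa00f5f9))))) (.node 62977 (.node 62974 (.node 62973 (.leaf 0xf0b0a0a0004) (.leaf 0x0)) (.node 62975 (.leaf 0xa0001) (.node 62976 (.leaf 0x0) (.leaf 0x0)))) (.node 62980 (.node 62978 (.leaf 0xb0b0a0003) (.node 62979 (.leaf 0xd0b0002) (.leaf 0xf602))) (.node 62981 (.leaf 0xa0f0b0b0004) (.node 62982 (.leaf 0x0) (.leaf 0xb0f0002))))))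

def argWS_5580 : Store := (.node 62994 (.node 62988 (.node 62985 (.node 62984 (.leaf 0x0) (.leaf 0x0)) (.node 62986 (.leaf 0xd0b0b0003) (.node 62987 (.leaf 0xa0a0002) (.leaf 0x5020202010005)))) (.node 62991 (.node 62989 (.leaf 0x0) (.node 62990 (.leaf 0x0) (.leaf 0xf60d00f60a))) (.node 62992 (.leaf 0xf0b0b0a0a0005) (.node 62993 (.leaf 0x0) (.leaf 0xf0b0a0003))))) (.node 63000 (.node 62997 (.node 62995 (.leaf 0x0) (.node 62996 (.leaf 0x0) (.leaf 0x104000207030802040105000b))) (.node 62998 (.leaf 0x0) (.node 62999 (.leaf 0xa0f0b0b0004) (.leaf 0x0)))) (.node 63003 (.node 63001 (.leaf 0xf0b0b0a0004) (.node 63002 (.leaf 0xf618) (.leaf 0xb0f0a0a0004))) (.node 63004 (.leaf 0x0) (.node 63005 (.leaf 0x102020900000802040105000b) (.leaf 0x0))))))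

def argWS_5581 : Store := (.node 62983 argWS_5579 argWS_5580)

def argWS_5582 : Store := (.node 63017 (.node 63011 (.node 63008 (.node 63007 (.leaf 0xb0a0a0003) (.leaf 0xf0b0a0003)) (.node 63009 (.leaf 0x20206010500020202000701000c) (.node 63010 (.leaf 0x0) (.leaf 0xb0f0002)))) (.node 63014 (.node 63012 (.leaf 0x0) (.node 63013 (.leaf 0x90107000903000703040103000c) (.leaf 0x0))) (.node 63015 (.leaf 0xa0f0002) (.node 63016 (.leaf 0x0) (.leaf 0xf62700f623))))) (.node 63022 (.node 63019 (.node 63018 (.leaf 0xb0b0a0a0004) (.leaf 0x0)) (.node 63020 (.leaf 0x20708020401050007) (.node 63021 (.leaf 0x0) (.leaf 0xf0a0a0003)))) (.node 63025 (.node 63023 (.leaf 0xb0a0a0003) (.node 63024 (.leaf 0x301070306000703040103000b) (.leaf 0x0))) (.node 63026 (.leaf 0xb0001) (.node 63027 (.leaf 0x0) (.leaf 0xd0b0b0003))))))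

def argWS_5583 : Store := (.node 63039 (.node 63033 (.node 63030 (.node 63029 (.leaf 0xf63300f632) (.leaf 0xf0001)) (.node 63031 (.leaf 0x0) (.node 63032 (.leaf 0x30403030604000703040103000c) (.leaf 0x0)))) (.node 63036 (.node 63034 (.leaf 0xa0f0b0003) (.node 63035 (.leaf 0x6040102020900000008) (.leaf 0x0))) (.node 63037 (.leaf 0xa0f0002) (.node 63038 (.leaf 0x0) (.leaf 0x1090000090202000701000a))))) (.node 63045 (.node 63042 (.node 63040 (.leaf 0x0) (.node 63041 (.leaf 0x0) (.leaf 0x700090206020802040105000c))) (.node 63043 (.leaf 0x0) (.node 63044 (.leaf 0xf0001) (.leaf 0x0)))) (.node 63048 (.node 63046 (.leaf 0xf64400f640) (.node 63047 (.leaf 0xe0d0002) (.leaf 0x0))) (.node 63049 (.leaf 0xe0a0002) (.node 63050 (.leaf 0x0) (.leaf 0x0))))))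

def argWS_5584 : Store := (.node 63028 argWS_5582 argWS_5583)

def argWS_5585 : Store := (.node 63006 argWS_5581 argWS_5584)

def argWS_5586 : Store := (.node 63062 (.node 63056 (.node 63053 (.node 63052 (.leaf 0xb0f0a0003) (.leaf 0x105020206030802040105000b)) (.node 63054 (.leaf 0x0) (.node 63055 (.leaf 0xb0a0002) (.leaf 0x0)))) (.node 63059 (.node 63057 (.leaf 0xf64f) (.node 63058 (.leaf 0xd0b0002) (.leaf 0x0))) (.node 63060 (.leaf 0xb0001) (.node 63061 (.leaf 0x0) (.leaf 0x0))))) (.node 63067 (.node 63064 (.node 63063 (.leaf 0x602000901090202000701000b) (.leaf 0x0)) (.node 63065 (.leaf 0xf0a0a0003) (.node 63066 (.leaf 0x0) (.leaf 0x0)))) (.node 63070 (.node 63068 (.leaf 0xf0a0a0003) (.node 63069 (.leaf 0xf65b00f65a) (.leaf 0xe0a0a0003))) (.node 63071 (.leaf 0x0) (.node 63072 (.leaf 0x80004090000090202000701000c) (.leaf 0x0))))))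

def argWS_5587 : Store := (.node 63084 (.node 63078 (.node 63075 (.node 63074 (.leaf 0xa0a0002) (.leaf 0xe0a0a0003)) (.node 63076 (.leaf 0xb0b0a0a0004) (.node 63077 (.leaf 0xf663) (.leaf 0xd0001)))) (.node 63081 (.node 63079 (.leaf 0x0) (.node 63080 (.leaf 0xa0f0b0003) (.leaf 0x0))) (.node 63082 (.leaf 0x0) (.node 63083 (.leaf 0x10301020901060802040105000c) (.leaf 0x0))))) (.node 63090 (.node 63087 (.node 63085 (.leaf 0xb0f0a0a0004) (.node 63086 (.leaf 0x0) (.leaf 0xb0a0f0003))) (.node 63088 (.leaf 0xf0a0002) (.node 63089 (.leaf 0xf66f00f66e) (.leaf 0xb0a0f0003)))) (.node 63093 (.node 63091 (.leaf 0x0) (.node 63092 (.leaf 0x30700020106060202000701000c) (.leaf 0x0))) (.node 63094 (.leaf 0xf0b0a0a0004) (.node 63095 (.leaf 0xb0a0a0003) (.leaf 0x9050306020702010202000701000d))))))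

def argWS_5588 : Store := (.node 63073 argWS_5586 argWS_5587)

def argWS_5589 : Store := (.node 63107 (.node 63101 (.node 63098 (.node 63097 (.leaf 0x0) (.leaf 0xb0f0a0003)) (.node 63099 (.leaf 0x0) (.node 63100 (.leaf 0x4020603000703040103000b) (.leaf 0x0)))) (.node 63104 (.node 63102 (.leaf 0xb0b0002) (.node 63103 (.leaf 0x0) (.leaf 0xf67e00f67a))) (.node 63105 (.leaf 0xb0f0a0a0004) (.node 63106 (.leaf 0x0) (.leaf 0xb0f0a0003))))) (.node 63113 (.node 63110 (.node 63108 (.leaf 0x0) (.node 63109 (.leaf 0x0) (.leaf 0x200020804000007))) (.node 63111 (.leaf 0x0) (.node 63112 (.leaf 0xb0001) (.leaf 0x0)))) (.node 63116 (.node 63114 (.leaf 0x400040400050202000701000b) (.node 63115 (.leaf 0x0) (.leaf 0xb0a0002))) (.node 63117 (.leaf 0x0) (.node 63118 (.leaf 0x10301050206040007) (.leaf 0x0))))))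

def argWS_5590 : Store := (.node 63130 (.node 63124 (.node 63121 (.node 63120 (.leaf 0xe0a0a0003) (.leaf 0x0)) (.node 63122 (.leaf 0xf69000f68c) (.node 63123 (.leaf 0xb0b0002) (.leaf 0x0)))) (.node 63127 (.node 63125 (.leaf 0xb0a0f0003) (.node 63126 (.leaf 0x0) (.leaf 0x0))) (.node 63128 (.leaf 0x901010904020006) (.node 63129 (.leaf 0x0) (.leaf 0xe0a0002))))) (.node 63136 (.node 63133 (.node 63131 (.leaf 0x0) (.node 63132 (.leaf 0xe0a0002) (.leaf 0xf69b00f69a))) (.node 63134 (.leaf 0x50006020702010802040105000c) (.node 63135 (.leaf 0x0) (.leaf 0xb0f0a0a0004)))) (.node 63139 (.node 63137 (.leaf 0x0) (.node 63138 (.leaf 0xa0001) (.leaf 0x0))) (.node 63140 (.leaf 0x0) (.node 63141 (.leaf 0x40007020902000703040103000c) (.leaf 0x0))))))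

def argWS_5591 : Store := (.node 63119 argWS_5589 argWS_5590)

def argWS_5592 : Store := (.node 63096 argWS_5588 argWS_5591)

def argWS_5593 : Store := (.node 63051 argWS_5585 argWS_5592)

def argWS_5594 : Store := (.node 62961 argWS_5578 argWS_5593)

def argWS_5595 : Store := (.node 63153 (.node 63147 (.node 63144 (.node 63143 (.leaf 0xd0b0002) (.leaf 0x0)) (.node 63145 (.leaf 0xf6a7) (.node 63146 (.leaf 0xf0b0a0003) (.leaf 0x0)))) (.node 63150 (.node 63148 (.leaf 0xb0a0f0003) (.node 63149 (.leaf 0x0) (.leaf 0x0))) (.node 63151 (.leaf 0xe0001) (.node 63152 (.leaf 0xb0a0f0003) (.leaf 0x3000000030000000703040103000d))))) (.node 63158 (.node 63155 (.node 63154 (.leaf 0x0) (.leaf 0xf0b0a0003)) (.node 63156 (.leaf 0x0) (.node 63157 (.leaf 0xf6b300f6af) (.leaf 0x206010400050202000701000b)))) (.node 63161 (.node 63159 (.leaf 0x0) (.node 63160 (.leaf 0xf0b0a0003) (.leaf 0x0))) (.node 63162 (.leaf 0xf0b0b0003) (.node 63163 (.leaf 0x0) (.leaf 0x0))))))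

def argWS_5596 : Store := (.node 63175 (.node 63169 (.node 63166 (.node 63165 (.leaf 0xb0a0a0003) (.leaf 0xf0b0a0003)) (.node 63167 (.leaf 0xd0b0002) (.node 63168 (.leaf 0x0) (.leaf 0xf6bf00f6bd)))) (.node 63172 (.node 63170 (.leaf 0xf0b0b0003) (.node 63171 (.leaf 0x0) (.leaf 0xe0a0002))) (.node 63173 (.leaf 0x0) (.node 63174 (.leaf 0x0) (.leaf 0xe0d0002))))) (.node 63181 (.node 63178 (.node 63176 (.leaf 0xb0a0a0003) (.node 63177 (.leaf 0xe0001) (.leaf 0xf6c800f6c7))) (.node 63179 (.leaf 0xf0b0a0a0004) (.node 63180 (.leaf 0x0) (.leaf 0xb0b0a0003)))) (.node 63184 (.node 63182 (.leaf 0x0) (.node 63183 (.leaf 0x0) (.leaf 0x707020600000703040103000b))) (.node 63185 (.leaf 0x0) (.node 63186 (.leaf 0xf0a0002) (.leaf 0x0))))))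

def argWS_5597 : Store := (.node 63164 argWS_5595 argWS_5596)

def argWS_5598 : Store := (.node 63198 (.node 63192 (.node 63189 (.node 63188 (.leaf 0x2090207020007010008) (.leaf 0x0)) (.node 63190 (.leaf 0xf0b0b0a0a0005) (.node 63191 (.leaf 0x0) (.leaf 0xe0a0002)))) (.node 63195 (.node 63193 (.leaf 0xf6d700f6d6) (.node 63194 (.leaf 0xb0f0a0003) (.leaf 0x0))) (.node 63196 (.leaf 0x202090208020401050009) (.node 63197 (.leaf 0x0) (.leaf 0xe0a0002))))) (.node 63203 (.node 63200 (.node 63199 (.leaf 0xe0a0002) (.leaf 0xa0f0b0003)) (.node 63201 (.leaf 0xf0b0b0a0a0005) (.node 63202 (.leaf 0xf6e000f6df) (.leaf 0xb0f0a0003)))) (.node 63206 (.node 63204 (.leaf 0x0) (.node 63205 (.leaf 0xa0f0b0003) (.leaf 0x0))) (.node 63207 (.leaf 0x0) (.node 63208 (.leaf 0xe0a0002) (.leaf 0x20901020901060007))))))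

def argWS_5599 : Store := (.node 63220 (.node 63214 (.node 63211 (.node 63210 (.leaf 0x0) (.leaf 0xf0b0a0003)) (.node 63212 (.leaf 0x0) (.node 63213 (.leaf 0xf6eb00f6e7) (.leaf 0xe0a0a0003)))) (.node 63217 (.node 63215 (.leaf 0x0) (.node 63216 (.leaf 0xb0b0002) (.leaf 0x0))) (.node 63218 (.leaf 0x0) (.node 63219 (.leaf 0xb0f0a0a0004) (.leaf 0x20400030306040007))))) (.node 63226 (.node 63223 (.node 63221 (.leaf 0x0) (.node 63222 (.leaf 0xb0b0002) (.leaf 0x0))) (.node 63224 (.leaf 0xf6f6) (.node 63225 (.leaf 0xe0a0a0003) (.leaf 0x0)))) (.node 63229 (.node 63227 (.leaf 0xf0a0002) (.node 63228 (.leaf 0x0) (.leaf 0x0))) (.node 63230 (.leaf 0xa0001) (.node 63231 (.leaf 0x6010306040202000701000a) (.leaf 0x0))))))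

def argWS_5600 : Store := (.node 63209 argWS_5598 argWS_5599)

def argWS_5601 : Store := (.node 63187 argWS_5597 argWS_5600)

def argWS_5602 : Store := (.node 63243 (.node 63237 (.node 63234 (.node 63233 (.leaf 0xf0001) (.leaf 0x0)) (.node 63235 (.leaf 0xb0b0a0a0004) (.node 63236 (.leaf 0xf70200f701) (.leaf 0x2040306030500040202000701000d)))) (.node 63240 (.node 63238 (.leaf 0x0) (.node 63239 (.leaf 0x0) (.leaf 0xa0f0b0b0004))) (.node 63241 (.leaf 0x0) (.node 63242 (.leaf 0x0) (.leaf 0xf0b0002))))) (.node 63248 (.node 63245 (.node 63244 (.leaf 0x903000901090202000701000b) (.leaf 0x0)) (.node 63246 (.leaf 0xa0f0002) (.node 63247 (.leaf 0x0) (.leaf 0xb0001)))) (.node 63251 (.node 63249 (.leaf 0xf70f00f70e) (.node 63250 (.leaf 0xe0a0002) (.leaf 0x0))) (.node 63252 (.leaf 0xb0f0002) (.node 63253 (.leaf 0x0) (.leaf 0x0))))))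

def argWS_5603 : Store := (.node 63265 (.node 63259 (.node 63256 (.node 63255 (.leaf 0x901010904020202000701000b) (.leaf 0x0)) (.node 63257 (.leaf 0xd0001) (.node 63258 (.leaf 0x0) (.leaf 0x50000050206040202000701000c)))) (.node 63262 (.node 63260 (.leaf 0x0) (.node 63261 (.leaf 0xb0a0002) (.leaf 0x0))) (.node 63263 (.leaf 0xf71d00f719) (.node 63264 (.leaf 0xb0a0a0003) (.leaf 0x0))))) (.node 63271 (.node 63268 (.node 63266 (.leaf 0xd0b0b0003) (.node 63267 (.leaf 0x0) (.leaf 0x0))) (.node 63269 (.leaf 0xb0b0a0003) (.node 63270 (.leaf 0x70000050206040802040105000c) (.leaf 0x0)))) (.node 63274 (.node 63272 (.leaf 0xf0001) (.node 63273 (.leaf 0x0) (.leaf 0x801010206020007010009))) (.node 63275 (.leaf 0x0) (.node 63276 (.leaf 0xd0b0b0003) (.leaf 0x0))))))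

def argWS_5604 : Store := (.node 63254 argWS_5602 argWS_5603)

def argWS_5605 : Store := (.node 63288 (.node 63282 (.node 63279 (.node 63278 (.leaf 0xf72c00f728) (.leaf 0x1070006020702010202000701000d)) (.node 63280 (.leaf 0x0) (.node 63281 (.leaf 0xf0b0b0003) (.leaf 0x0)))) (.node 63285 (.node 63283 (.leaf 0xf0b0b0003) (.node 63284 (.leaf 0x0) (.leaf 0x9000009000703040103000c))) (.node 63286 (.leaf 0x0) (.node 63287 (.leaf 0xb0b0002) (.leaf 0x0))))) (.node 63293 (.node 63290 (.node 63289 (.leaf 0xf0b0b0a0a0005) (.leaf 0x800000408010802040105000b)) (.node 63291 (.leaf 0x0) (.node 63292 (.leaf 0xb0f0a0003) (.leaf 0x0)))) (.node 63296 (.node 63294 (.leaf 0xf73c00f738) (.node 63295 (.leaf 0xf0a0002) (.leaf 0x0))) (.node 63297 (.leaf 0x2010703060802040105000a) (.node 63298 (.leaf 0x0) (.leaf 0xb0a0f0003))))))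

def argWS_5606 : Store := (.node 63310 (.node 63304 (.node 63301 (.node 63300 (.leaf 0xa0a0002) (.leaf 0xd0b0002)) (.node 63302 (.leaf 0xf744) (.node 63303 (.leaf 0xb0f0a0003) (.leaf 0x0)))) (.node 63307 (.node 63305 (.leaf 0xa0f0b0b0004) (.node 63306 (.leaf 0x0) (.leaf 0x506010500020202000701000b))) (.node 63308 (.leaf 0x0) (.node 63309 (.leaf 0xb0001) (.leaf 0x0))))) (.node 63316 (.node 63313 (.node 63311 (.leaf 0xb0f0a0a0004) (.node 63312 (.leaf 0xa0001) (.leaf 0xf74f00f74e))) (.node 63314 (.leaf 0xf0b0a0a0004) (.node 63315 (.leaf 0x0) (.leaf 0x6010201070206000802040105000d)))) (.node 63319 (.node 63317 (.leaf 0x0) (.node 63318 (.leaf 0xf0b0a0a0004) (.leaf 0xd0001))) (.node 63320 (.leaf 0x9000009020602000703040103000e) (.node 63321 (.leaf 0x0) (.leaf 0xb0001))))))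

def argWS_5607 : Store := (.node 63299 argWS_5605 argWS_5606)

def argWS_5608 : Store := (.node 63277 argWS_5604 argWS_5607)

def argWS_5609 : Store := (.node 63232 argWS_5601 argWS_5608)

def argWS_5610 : Store := (.node 63333 (.node 63327 (.node 63324 (.node 63323 (.leaf 0x0) (.leaf 0x605030306040006)) (.node 63325 (.leaf 0x0) (.node 63326 (.leaf 0xb0b0a0a0004) (.leaf 0x0)))) (.node 63330 (.node 63328 (.leaf 0xf75e00f75a) (.node 63329 (.leaf 0xf0b0b0a0004) (.leaf 0x0))) (.node 63331 (.leaf 0xb0f0a0003) (.node 63332 (.leaf 0x0) (.leaf 0x0))))) (.node 63338 (.node 63335 (.node 63334 (.leaf 0xa0f0002) (.leaf 0x307090109000703040103000b)) (.node 63336 (.leaf 0x0) (.node 63337 (.leaf 0xa0001) (.leaf 0x0)))) (.node 63341 (.node 63339 (.leaf 0xb0a0002) (.node 63340 (.leaf 0xf76a00f769) (.leaf 0xb0f0002))) (.node 63342 (.leaf 0x0) (.node 63343 (.leaf 0xb0f0a0a0004) (.leaf 0x0))))))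

def argWS_5611 : Store := (.node 63355 (.node 63349 (.node 63346 (.node 63345 (.leaf 0x0) (.leaf 0xe0001)) (.node 63347 (.leaf 0xb0001) (.node 63348 (.leaf 0xa0f0b0b0004) (.leaf 0xf77300f772)))) (.node 63352 (.node 63350 (.leaf 0x201090000090202000701000b) (.node 63351 (.leaf 0x0) (.leaf 0xb0f0002))) (.node 63353 (.leaf 0x0) (.node 63354 (.leaf 0xd0001) (.leaf 0x0))))) (.node 63361 (.node 63358 (.node 63356 (.leaf 0x0) (.node 63357 (.leaf 0xf0b0b0003) (.leaf 0xb0a0002))) (.node 63359 (.leaf 0xf77d) (.node 63360 (.leaf 0xf0b0b0a0004) (.leaf 0x0)))) (.node 63364 (.node 63362 (.leaf 0xf0b0a0003) (.node 63363 (.leaf 0x0) (.leaf 0x0))) (.node 63365 (.leaf 0xf0b0a0003) (.node 63366 (.leaf 0x2000005020604000703040103000d) (.leaf 0x0))))))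

def argWS_5612 : Store := (.node 63344 argWS_5610 argWS_5611)

def argWS_5613 : Store := (.node 63378 (.node 63372 (.node 63369 (.node 63368 (.leaf 0xf0a0002) (.leaf 0x0)) (.node 63370 (.leaf 0xf788) (.node 63371 (.leaf 0xb0f0a0a0004) (.leaf 0x0)))) (.node 63375 (.node 63373 (.leaf 0xe0a0002) (.node 63374 (.leaf 0x0) (.leaf 0x0))) (.node 63376 (.leaf 0xf0b0a0003) (.node 63377 (.leaf 0xf0001) (.leaf 0xf79000104c))))) (.node 63383 (.node 63380 (.node 63379 (.leaf 0xf0b0a0a0004) (.leaf 0x0)) (.node 63381 (.leaf 0xe0a0002) (.node 63382 (.leaf 0x0) (.leaf 0x0)))) (.node 63386 (.node 63384 (.leaf 0x205020400050202000701000b) (.node 63385 (.leaf 0x0) (.leaf 0xf0b0b0a0004))) (.node 63387 (.leaf 0x0) (.node 63388 (.leaf 0x8020000020804000008) (.leaf 0x0))))))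

def argWS_5614 : Store := (.node 63400 (.node 63394 (.node 63391 (.node 63390 (.leaf 0xf0a0002) (.leaf 0x0)) (.node 63392 (.leaf 0xf79e) (.node 63393 (.leaf 0xe0a0a0003) (.leaf 0x0)))) (.node 63397 (.node 63395 (.leaf 0xd0001) (.node 63396 (.leaf 0x0) (.leaf 0x0))) (.node 63398 (.leaf 0xe0d0002) (.node 63399 (.leaf 0x201020901060802040105000b) (.leaf 0x0))))) (.node 63406 (.node 63403 (.node 63401 (.leaf 0xb0b0a0a0004) (.node 63402 (.leaf 0x0) (.leaf 0x20401020106060802040105000c))) (.node 63404 (.leaf 0x0) (.node 63405 (.leaf 0xb0a0002) (.leaf 0x0)))) (.node 63409 (.node 63407 (.leaf 0xf7ad00f7a9) (.node 63408 (.leaf 0xb0001) (.leaf 0x0))) (.node 63410 (.leaf 0x201030003030604000703040103000e) (.node 63411 (.leaf 0x0) (.leaf 0xb0001))))))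

def argWS_5615 : Store := (.node 63389 argWS_5613 argWS_5614)

def argWS_5616 : Store := (.node 63367 argWS_5612 argWS_5615)

def argWS_5617 : Store := (.node 63423 (.node 63417 (.node 63414 (.node 63413 (.leaf 0x60000000300000202000701000c) (.leaf 0x0)) (.node 63415 (.leaf 0xe0a0002) (.node 63416 (.leaf 0x0) (.leaf 0xf7b7)))) (.node 63420 (.node 63418 (.leaf 0x9010401050005) (.node 63419 (.leaf 0x0) (.leaf 0xe0d0002))) (.node 63421 (.leaf 0x0) (.node 63422 (.leaf 0xe0a0a0003) (.leaf 0x0))))) (.node 63428 (.node 63425 (.node 63424 (.leaf 0x0) (.leaf 0x903000009020602000703040103000e)) (.node 63426 (.leaf 0x0) (.node 63427 (.leaf 0xd0b0002) (.leaf 0x0)))) (.node 63431 (.node 63429 (.leaf 0x60102010400050802040105000c) (.node 63430 (.leaf 0x0) (.leaf 0xa0f0b0003))) (.node 63432 (.leaf 0x0) (.node 63433 (.leaf 0xf7c7) (.leaf 0xe0a0002))))))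

def argWS_5618 : Store := (.node 63445 (.node 63439 (.node 63436 (.node 63435 (.leaf 0x0) (.leaf 0x60003080005)) (.node 63437 (.leaf 0x0) (.node 63438 (.leaf 0xb0a0a0003) (.leaf 0xb0f0a0003)))) (.node 63442 (.node 63440 (.leaf 0x201010606000703040103000b) (.node 63441 (.leaf 0x0) (.leaf 0xb0a0f0003))) (.node 63443 (.leaf 0x0) (.node 63444 (.leaf 0x70002000003010802040105000c) (.leaf 0x0))))) (.node 63451 (.node 63448 (.node 63446 (.leaf 0xd0001) (.node 63447 (.leaf 0x0) (.leaf 0xf7d600f7d2))) (.node 63449 (.leaf 0x20102000004) (.node 63450 (.leaf 0x0) (.leaf 0xa0f0b0003)))) (.node 63454 (.node 63452 (.leaf 0x0) (.node 63453 (.leaf 0xb0f0002) (.leaf 0x0))) (.node 63455 (.leaf 0x0) (.node 63456 (.leaf 0xb0b0a0003) (.leaf 0xf7df))))))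

def argWS_5619 : Store := (.node 63434 argWS_5617 argWS_5618)

def argWS_5620 : Store := (.node 63468 (.node 63462 (.node 63459 (.node 63458 (.leaf 0xb0a0a0003) (.leaf 0x0)) (.node 63460 (.leaf 0x40205020603000703040103000c) (.node 63461 (.leaf 0x0) (.leaf 0xd0b0b0003)))) (.node 63465 (.node 63463 (.leaf 0xb0b0a0003) (.node 63464 (.leaf 0xd0b0002) (.leaf 0xf7e7))) (.node 63466 (.leaf 0xb0f0002) (.node 63467 (.leaf 0x0) (.leaf 0x907090000090802040105000b))))) (.node 63474 (.node 63471 (.node 63469 (.leaf 0x0) (.node 63470 (.leaf 0xf0001) (.leaf 0x70101010703060802040105000c))) (.node 63472 (.leaf 0x0) (.node 63473 (.leaf 0xf0b0a0003) (.leaf 0x0)))) (.node 63477 (.node 63475 (.leaf 0xb0a0f0003) (.node 63476 (.leaf 0xf7f2) (.leaf 0xb0a0002))) (.node 63478 (.leaf 0x0) (.node 63479 (.leaf 0x9020602000703040103000c) (.leaf 0x0))))))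

def argWS_5621 : Store := (.node 63491 (.node 63485 (.node 63482 (.node 63481 (.leaf 0xb0a0a0003) (.leaf 0xb0b0a0a0004)) (.node 63483 (.leaf 0xb0f0002) (.node 63484 (.leaf 0x10107020600000703040103000c) (.leaf 0x0)))) (.node 63488 (.node 63486 (.leaf 0xa0001) (.node 63487 (.leaf 0x0) (.leaf 0xf7fe00f7fa))) (.node 63489 (.leaf 0xe0d0002) (.node 63490 (.leaf 0x0) (.leaf 0xe0001))))) (.node 63497 (.node 63494 (.node 63492 (.leaf 0x0) (.node 63493 (.leaf 0x0) (.leaf 0xf0b0b0a0004))) (.node 63495 (.leaf 0x4020202010802040105000a) (.node 63496 (.leaf 0x0) (.leaf 0xd0b0002)))) (.node 63500 (.node 63498 (.leaf 0x0) (.node 63499 (.leaf 0xf809) (.leaf 0x7030508020401050008))) (.node 63501 (.leaf 0x0) (.node 63502 (.leaf 0xb0f0002) (.leaf 0x0))))))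

def argWS_5622 : Store := (.node 63480 argWS_5620 argWS_5621)

def argWS_5623 : Store := (.node 63457 argWS_5619 argWS_5622)

def argWS_5624 : Store := (.node 63412 argWS_5616 argWS_5623)

def argWS_5625 : Store := (.node 63322 argWS_5609 argWS_5624)

def argWS_5626 : Store := (.node 63142 argWS_5594 argWS_5625)

def argWS_5627 : Store := (.node 62781 argWS_5563 argWS_5626)

def argWS_5628 : Store := (.node 62059 argWS_5500 argWS_5627)

def argWS_5629 : Store := (.node 60616 argWS_5373 argWS_5628)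

def argWS_5630 : Store := (.node 63514 (.node 63508 (.node 63505 (.node 63504 (.leaf 0xf0b0a0a0004) (.leaf 0x0)) (.node 63506 (.leaf 0x0) (.node 63507 (.leaf 0xf0001) (.leaf 0xd1d2)))) (.node 63511 (.node 63509 (.leaf 0x2090202020007010009) (.node 63510 (.leaf 0x0) (.leaf 0xa0a0002))) (.node 63512 (.leaf 0x0) (.node 63513 (.leaf 0xa0a0002) (.leaf 0x0))))) (.node 63519 (.node 63516 (.node 63515 (.leaf 0x0) (.leaf 0xd0b0b0003)) (.node 63517 (.leaf 0x90401090805000703040103000c) (.node 63518 (.leaf 0x0) (.leaf 0xb0b0a0003)))) (.node 63522 (.node 63520 (.leaf 0x0) (.node 63521 (.leaf 0xf0b0b0a0a0005) (.leaf 0xf82000f81f))) (.node 63523 (.leaf 0xe0a0a0003) (.node 63524 (.leaf 0x0) (.leaf 0xf0001))))))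

def argWS_5631 : Store := (.node 63536 (.node 63530 (.node 63527 (.node 63526 (.leaf 0x0) (.leaf 0x0)) (.node 63528 (.leaf 0xa0001) (.node 63529 (.leaf 0xf0b0b0a0004) (.leaf 0xe24000f828)))) (.node 63533 (.node 63531 (.leaf 0xb0f0002) (.node 63532 (.leaf 0x0) (.leaf 0x206020703000703040103000b))) (.node 63534 (.leaf 0x0) (.node 63535 (.leaf 0xb0a0002) (.leaf 0xb0a0002))))) (.node 63542 (.node 63539 (.node 63537 (.leaf 0xb0a0a0003) (.node 63538 (.leaf 0xe0d0002) (.leaf 0xf83100f830))) (.node 63540 (.leaf 0x90002090106000703040103000c) (.node 63541 (.leaf 0x0) (.leaf 0x0)))) (.node 63545 (.node 63543 (.leaf 0xb0f0002) (.node 63544 (.leaf 0x0) (.leaf 0x0))) (.node 63546 (.leaf 0xb0a0002) (.node 63547 (.leaf 0x101070306000703040103000b) (.leaf 0x0))))))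

def argWS_5632 : Store := (.node 63525 argWS_5630 argWS_5631)

def argWS_5633 : Store := (.node 63559 (.node 63553 (.node 63550 (.node 63549 (.leaf 0xa0f0002) (.leaf 0x0)) (.node 63551 (.leaf 0xf83d) (.node 63552 (.leaf 0xa0f0002) (.leaf 0x0)))) (.node 63556 (.node 63554 (.leaf 0xe0d0002) (.node 63555 (.leaf 0x0) (.leaf 0x0))) (.node 63557 (.leaf 0xb0b0a0a0004) (.node 63558 (.leaf 0xd0b0002) (.leaf 0x701070209020802040105000b))))) (.node 63564 (.node 63561 (.node 63560 (.leaf 0x0) (.leaf 0xb0a0f0003)) (.node 63562 (.leaf 0x0) (.node 63563 (.leaf 0xf84900f845) (.leaf 0xa0001)))) (.node 63567 (.node 63565 (.leaf 0x0) (.node 63566 (.leaf 0xd0001) (.leaf 0x0))) (.node 63568 (.leaf 0x0) (.node 63569 (.leaf 0xf0a0a0003) (.leaf 0xd0b0b0003))))))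

def argWS_5634 : Store := (.node 63581 (.node 63575 (.node 63572 (.node 63571 (.leaf 0xcdd500f851) (.leaf 0xe0a0a0003)) (.node 63573 (.leaf 0x0) (.node 63574 (.leaf 0xf0b0a0a0004) (.leaf 0x0)))) (.node 63578 (.node 63576 (.leaf 0x0) (.node 63577 (.leaf 0xe0001) (.leaf 0xf0b0a0a0004))) (.node 63579 (.leaf 0x50200090206020202000701000c) (.node 63580 (.leaf 0x0) (.leaf 0xd0b0002))))) (.node 63587 (.node 63584 (.node 63582 (.leaf 0x0) (.node 63583 (.leaf 0xf85d00f859) (.leaf 0x30900090202000701000a))) (.node 63585 (.leaf 0x0) (.node 63586 (.leaf 0x0) (.leaf 0xf0b0b0a0004)))) (.node 63590 (.node 63588 (.leaf 0x0) (.node 63589 (.leaf 0x0) (.leaf 0x6020102000003010802040105000d))) (.node 63591 (.leaf 0x0) (.node 63592 (.leaf 0xb0f0a0003) (.leaf 0x0))))))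

def argWS_5635 : Store := (.node 63570 argWS_5633 argWS_5634)

def argWS_5636 : Store := (.node 63548 argWS_5632 argWS_5635)

def argWS_5637 : Store := (.node 63604 (.node 63598 (.node 63595 (.node 63594 (.leaf 0x5000408010802040105000a) (.leaf 0x0)) (.node 63596 (.leaf 0x0) (.node 63597 (.leaf 0xf0b0a0a0004) (.leaf 0xf86c00f86b)))) (.node 63601 (.node 63599 (.leaf 0xb0b0002) (.node 63600 (.leaf 0x0) (.leaf 0x9020102010606000703040103000d))) (.node 63602 (.leaf 0x0) (.node 63603 (.leaf 0xe0a0a0003) (.leaf 0xb0001))))) (.node 63609 (.node 63606 (.node 63605 (.leaf 0xa0a0002) (.leaf 0xb0a0f0003)) (.node 63607 (.leaf 0xf87500f874) (.node 63608 (.leaf 0xf0b0a0a0004) (.leaf 0x0)))) (.node 63612 (.node 63610 (.leaf 0xe0a0a0003) (.node 63611 (.leaf 0x0) (.leaf 0x0))) (.node 63613 (.leaf 0xa0a0002) (.node 63614 (.leaf 0xe0001) (.leaf 0xf87d00f87c))))))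

def argWS_5638 : Store := (.node 63626 (.node 63620 (.node 63617 (.node 63616 (.leaf 0xf0b0a0a0004) (.leaf 0x0)) (.node 63618 (.leaf 0xb0b0a0003) (.node 63619 (.leaf 0x0) (.leaf 0x0)))) (.node 63623 (.node 63621 (.leaf 0xf0b0a0003) (.node 63622 (.leaf 0x40304020106060202000701000c) (.leaf 0x0))) (.node 63624 (.leaf 0xb0001) (.node 63625 (.leaf 0x0) (.leaf 0xf8880066e3))))) (.node 63632 (.node 63629 (.node 63627 (.leaf 0xb0f0002) (.node 63628 (.leaf 0x0) (.leaf 0xb0b0a0003))) (.node 63630 (.leaf 0x0) (.node 63631 (.leaf 0x0) (.leaf 0xb0a0002)))) (.node 63635 (.node 63633 (.leaf 0xe0d0002) (.node 63634 (.leaf 0xf890) (.leaf 0xf0001))) (.node 63636 (.leaf 0x0) (.node 63637 (.leaf 0xb0b0a0a0004) (.leaf 0x0))))))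

def argWS_5639 : Store := (.node 63615 argWS_5637 argWS_5638)

def argWS_5640 : Store := (.node 63649 (.node 63643 (.node 63640 (.node 63639 (.leaf 0x0) (.leaf 0xb0f0a0a0004)) (.node 63641 (.leaf 0x60601090000090202000701000c) (.node 63642 (.leaf 0x0) (.leaf 0xb0a0f0003)))) (.node 63646 (.node 63644 (.leaf 0x0) (.node 63645 (.leaf 0x60008020401050007) (.leaf 0x0))) (.node 63647 (.leaf 0xb0b0a0003) (.node 63648 (.leaf 0x0) (.leaf 0xf89f00f89b))))) (.node 63654 (.node 63651 (.node 63650 (.leaf 0xb0a0002) (.leaf 0x0)) (.node 63652 (.leaf 0xa0001) (.node 63653 (.leaf 0x0) (.leaf 0xe0a0002)))) (.node 63657 (.node 63655 (.leaf 0x80101050206040802040105000c) (.node 63656 (.leaf 0x0) (.leaf 0xf0001))) (.node 63658 (.leaf 0x0) (.node 63659 (.leaf 0x2e1800f8a9) (.leaf 0x0))))))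

def argWS_5641 : Store := (.node 63671 (.node 63665 (.node 63662 (.node 63661 (.leaf 0xb0b0a0003) (.leaf 0x0)) (.node 63663 (.leaf 0xb0f0002) (.node 63664 (.leaf 0x0) (.leaf 0x0)))) (.node 63668 (.node 63666 (.leaf 0xa0f0b0b0004) (.node 63667 (.leaf 0x7010102010606000703040103000d) (.leaf 0x0))) (.node 63669 (.leaf 0xe0a0a0003) (.node 63670 (.leaf 0x0) (.leaf 0xf8b5))))) (.node 63677 (.node 63674 (.node 63672 (.leaf 0xb0001) (.node 63673 (.leaf 0x0) (.leaf 0xb0001))) (.node 63675 (.leaf 0x0) (.node 63676 (.leaf 0x0) (.leaf 0xe0a0a0003)))) (.node 63680 (.node 63678 (.leaf 0xf0b0002) (.node 63679 (.leaf 0x204010900090802040105000b) (.leaf 0x0))) (.node 63681 (.leaf 0xe0001) (.node 63682 (.leaf 0x0) (.leaf 0xf8c100f8bd))))))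

def argWS_5642 : Store := (.node 63660 argWS_5640 argWS_5641)

def argWS_5643 : Store := (.node 63638 argWS_5639 argWS_5642)

def argWS_5644 : Store := (.node 63593 argWS_5636 argWS_5643)

def argWS_5645 : Store := (.node 63694 (.node 63688 (.node 63685 (.node 63684 (.leaf 0x90206020007010007) (.leaf 0x0)) (.node 63686 (.leaf 0xf0a0a0003) (.node 63687 (.leaf 0x0) (.leaf 0xf0b0b0a0004)))) (.node 63691 (.node 63689 (.leaf 0x0) (.node 63690 (.leaf 0x0) (.leaf 0xe0001))) (.node 63692 (.leaf 0xf0a0002) (.node 63693 (.leaf 0xf8cb) (.leaf 0xf0b0002))))) (.node 63699 (.node 63696 (.node 63695 (.leaf 0x0) (.leaf 0xb0f0a0a0004)) (.node 63697 (.leaf 0x0) (.node 63698 (.leaf 0x0) (.leaf 0xa0001)))) (.node 63702 (.node 63700 (.leaf 0xa0001) (.node 63701 (.leaf 0xf8d3) (.leaf 0x50206040202000701000b))) (.node 63703 (.leaf 0x0) (.node 63704 (.leaf 0xe0a0a0003) (.leaf 0x0))))))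

def argWS_5646 : Store := (.node 63716 (.node 63710 (.node 63707 (.node 63706 (.leaf 0xa0f0b0003) (.leaf 0x0)) (.node 63708 (.leaf 0x0) (.node 63709 (.leaf 0xf0b0a0003) (.leaf 0x90503070009030007)))) (.node 63713 (.node 63711 (.leaf 0x0) (.node 63712 (.leaf 0x0) (.leaf 0xf0001))) (.node 63714 (.leaf 0xf8e000f8df) (.node 63715 (.leaf 0xb0f0a0a0004) (.leaf 0x0))))) (.node 63722 (.node 63719 (.node 63717 (.leaf 0x606020702010007) (.node 63718 (.leaf 0x0) (.leaf 0xb0a0a0003))) (.node 63720 (.leaf 0x605020202010202000701000b) (.node 63721 (.leaf 0x0) (.leaf 0xf0a0a0003)))) (.node 63725 (.node 63723 (.leaf 0x0) (.node 63724 (.leaf 0xa0001) (.leaf 0xf0a0002))) (.node 63726 (.leaf 0xf8ec00f8eb) (.node 63727 (.leaf 0xb0f0002) (.leaf 0x0))))))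

def argWS_5647 : Store := (.node 63705 argWS_5645 argWS_5646)

def argWS_5648 : Store := (.node 63739 (.node 63733 (.node 63730 (.node 63729 (.leaf 0x2060103080005) (.leaf 0x0)) (.node 63731 (.leaf 0xf0b0002) (.node 63732 (.leaf 0xb0a0a0003) (.leaf 0x2020002010606000703040103000d)))) (.node 63736 (.node 63734 (.leaf 0x0) (.node 63735 (.leaf 0x0) (.leaf 0x542100f8f6))) (.node 63737 (.leaf 0xb0b0a0a0004) (.node 63738 (.leaf 0x0) (.leaf 0xd0001))))) (.node 63744 (.node 63741 (.node 63740 (.leaf 0x0) (.leaf 0x0)) (.node 63742 (.leaf 0x7010900090802040105000a) (.node 63743 (.leaf 0x0) (.leaf 0xa0f0b0b0004)))) (.node 63747 (.node 63745 (.leaf 0x0) (.node 63746 (.leaf 0x40003070206000202000701000c) (.leaf 0x0))) (.node 63748 (.leaf 0xb0a0f0003) (.node 63749 (.leaf 0x0) (.leaf 0xa0f0b0b0004))))))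

def argWS_5649 : Store := (.node 63761 (.node 63755 (.node 63752 (.node 63751 (.leaf 0xf90500f904) (.leaf 0xe0a0a0003)) (.node 63753 (.leaf 0x0) (.node 63754 (.leaf 0xf0b0a0a0004) (.leaf 0x0)))) (.node 63758 (.node 63756 (.leaf 0x0) (.node 63757 (.leaf 0xf0b0b0a0004) (.leaf 0xa0f0b0003))) (.node 63759 (.leaf 0x40305020202010202000701000c) (.node 63760 (.leaf 0x0) (.leaf 0x0))))) (.node 63767 (.node 63764 (.node 63762 (.leaf 0xf91000f90d) (.node 63763 (.leaf 0xe0a0002) (.leaf 0x0))) (.node 63765 (.leaf 0xa0001) (.node 63766 (.leaf 0x0) (.leaf 0x0)))) (.node 63770 (.node 63768 (.leaf 0xe0001) (.node 63769 (.leaf 0x7020804000005) (.leaf 0x0))) (.node 63771 (.leaf 0xa0f0b0003) (.node 63772 (.leaf 0x0) (.leaf 0x1030601050002000703040103000d))))))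

def argWS_5650 : Store := (.node 63750 argWS_5648 argWS_5649)

def argWS_5651 : Store := (.node 63728 argWS_5647 argWS_5650)

def argWS_5652 : Store := (.node 63784 (.node 63778 (.node 63775 (.node 63774 (.leaf 0x0) (.leaf 0xb0f0a0003)) (.node 63776 (.leaf 0x0) (.node 63777 (.leaf 0xf91f00f91b) (.leaf 0x503050901090802040105000b)))) (.node 63781 (.node 63779 (.leaf 0x0) (.node 63780 (.leaf 0xb0b0002) (.leaf 0x0))) (.node 63782 (.leaf 0xf0001) (.node 63783 (.leaf 0x0) (.leaf 0x0))))) (.node 63789 (.node 63786 (.node 63785 (.leaf 0xf0a0a0003) (.leaf 0x30401070206000802040105000c)) (.node 63787 (.leaf 0x0) (.node 63788 (.leaf 0x0) (.leaf 0x1010500020202000701000a)))) (.node 63792 (.node 63790 (.leaf 0x0) (.node 63791 (.leaf 0xb0b0a0a0004) (.leaf 0x0))) (.node 63793 (.leaf 0xf92f00f92b) (.node 63794 (.leaf 0x40300090806000802040105000c) (.leaf 0x0))))))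

def argWS_5653 : Store := (.node 63806 (.node 63800 (.node 63797 (.node 63796 (.leaf 0xe0a0002) (.leaf 0x0)) (.node 63798 (.leaf 0xa0f0b0003) (.node 63799 (.leaf 0x0) (.leaf 0x0)))) (.node 63803 (.node 63801 (.leaf 0xf0b0b0003) (.node 63802 (.leaf 0x90403080004) (.leaf 0x0))) (.node 63804 (.leaf 0xf0b0a0a0004) (.node 63805 (.leaf 0x0) (.leaf 0x10602020007010007))))) (.node 63812 (.node 63809 (.node 63807 (.leaf 0x0) (.node 63808 (.leaf 0xa0f0b0b0004) (.leaf 0x0))) (.node 63810 (.leaf 0xf94000f93c) (.node 63811 (.leaf 0xf0b0b0a0a0005) (.leaf 0x0)))) (.node 63815 (.node 63813 (.leaf 0xb0f0002) (.node 63814 (.leaf 0x0) (.leaf 0x0))) (.node 63816 (.leaf 0xb0b0002) (.node 63817 (.leaf 0x6020804000005) (.leaf 0x0))))))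

def argWS_5654 : Store := (.node 63795 argWS_5652 argWS_5653)

def argWS_5655 : Store := (.node 63829 (.node 63823 (.node 63820 (.node 63819 (.leaf 0xf0b0a0003) (.leaf 0x0)) (.node 63821 (.leaf 0xf94b00a7a7) (.node 63822 (.leaf 0xe0001) (.leaf 0x0)))) (.node 63826 (.node 63824 (.leaf 0xb0001) (.node 63825 (.leaf 0x0) (.leaf 0xb0b0a0a0004))) (.node 63827 (.leaf 0xf0b0002) (.node 63828 (.leaf 0xf952003418) (.leaf 0xa0001))))) (.node 63834 (.node 63831 (.node 63830 (.leaf 0x0) (.leaf 0xb0b0002)) (.node 63832 (.leaf 0x0) (.node 63833 (.leaf 0x0) (.leaf 0xf0b0b0a0a0005)))) (.node 63837 (.node 63835 (.leaf 0x3040303080202000701000a) (.node 63836 (.leaf 0x0) (.leaf 0xb0a0f0003))) (.node 63838 (.leaf 0x0) (.node 63839 (.leaf 0x41e800f95d) (.leaf 0x70000020901060202000701000c))))))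

def argWS_5656 : Store := (.node 63851 (.node 63845 (.node 63842 (.node 63841 (.leaf 0x0) (.leaf 0xb0f0a0003)) (.node 63843 (.leaf 0x0) (.node 63844 (.leaf 0xf0001) (.leaf 0x0)))) (.node 63848 (.node 63846 (.leaf 0x0) (.node 63847 (.leaf 0xf0001) (.leaf 0xb0a0f0003))) (.node 63849 (.leaf 0xf967) (.node 63850 (.leaf 0xd0001) (.leaf 0x0))))) (.node 63857 (.node 63854 (.node 63852 (.leaf 0xe0a0a0003) (.node 63853 (.leaf 0x0) (.leaf 0x0))) (.node 63855 (.leaf 0xb0f0a0a0004) (.node 63856 (.leaf 0x10700000300000802040105000c) (.leaf 0x0)))) (.node 63860 (.node 63858 (.leaf 0xf0b0b0003) (.node 63859 (.leaf 0x0) (.leaf 0xf972))) (.node 63861 (.leaf 0xa0a0002) (.node 63862 (.leaf 0x0) (.leaf 0x40400050005))))))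

def argWS_5657 : Store := (.node 63840 argWS_5655 argWS_5656)

def argWS_5658 : Store := (.node 63818 argWS_5654 argWS_5657)

def argWS_5659 : Store := (.node 63773 argWS_5651 argWS_5658)

def argWS_5660 : Store := (.node 63683 argWS_5644 argWS_5659)

def argWS_5661 : Store := (.node 63874 (.node 63868 (.node 63865 (.node 63864 (.leaf 0x0) (.leaf 0xe0d0002)) (.node 63866 (.leaf 0xd0b0b0003) (.node 63867 (.leaf 0x1020206030500040802040105000d) (.leaf 0x0)))) (.node 63871 (.node 63869 (.leaf 0xf0001) (.node 63870 (.leaf 0x0) (.leaf 0xf97d))) (.node 63872 (.leaf 0xf0b0b0a0a0005) (.node 63873 (.leaf 0x0) (.leaf 0xf0b0b0a0a0005))))) (.node 63879 (.node 63876 (.node 63875 (.leaf 0x0) (.leaf 0x0)) (.node 63877 (.leaf 0xb0f0002) (.node 63878 (.leaf 0xf0b0a0003) (.leaf 0xf86700f985)))) (.node 63882 (.node 63880 (.leaf 0xf0a0002) (.node 63881 (.leaf 0x0) (.leaf 0xf0001))) (.node 63883 (.leaf 0x0) (.node 63884 (.leaf 0x0) (.leaf 0xa0f0002))))))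

def argWS_5662 : Store := (.node 63896 (.node 63890 (.node 63887 (.node 63886 (.leaf 0xb0f0a0a0004) (.leaf 0xe0001)) (.node 63888 (.leaf 0xf98e00f98d) (.node 63889 (.leaf 0xf0a0002) (.leaf 0x0)))) (.node 63893 (.node 63891 (.leaf 0xe0a0a0003) (.node 63892 (.leaf 0x0) (.leaf 0x0))) (.node 63894 (.leaf 0xf0b0b0003) (.node 63895 (.leaf 0xb0f0a0a0004) (.leaf 0x20000020106060007))))) (.node 63902 (.node 63899 (.node 63897 (.leaf 0x0) (.node 63898 (.leaf 0xf0b0a0a0004) (.leaf 0x0))) (.node 63900 (.leaf 0xf99a00f996) (.node 63901 (.leaf 0x509000009000703040103000b) (.leaf 0x0)))) (.node 63905 (.node 63903 (.leaf 0xf0b0b0003) (.node 63904 (.leaf 0x0) (.leaf 0xd0b0b0003))) (.node 63906 (.leaf 0x0) (.node 63907 (.leaf 0x0) (.leaf 0xb0b0002))))))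

def argWS_5663 : Store := (.node 63885 argWS_5661 argWS_5662)

def argWS_5664 : Store := (.node 63919 (.node 63913 (.node 63910 (.node 63909 (.leaf 0xabe006d1b) (.leaf 0x20202020106060202000701000c)) (.node 63911 (.leaf 0x0) (.node 63912 (.leaf 0xf0a0a0003) (.leaf 0x0)))) (.node 63916 (.node 63914 (.leaf 0xb0a0a0003) (.node 63915 (.leaf 0x0) (.leaf 0x0))) (.node 63917 (.leaf 0xb0b0a0003) (.node 63918 (.leaf 0xb0f0a0a0004) (.leaf 0xf9ad))))) (.node 63924 (.node 63921 (.node 63920 (.leaf 0xe0a0002) (.leaf 0x0)) (.node 63922 (.leaf 0xd0b0b0003) (.node 63923 (.leaf 0x0) (.leaf 0x0)))) (.node 63927 (.node 63925 (.leaf 0x703010102000006) (.node 63926 (.leaf 0x0) (.leaf 0x0))) (.node 63928 (.leaf 0xf0b0a0a0004) (.node 63929 (.leaf 0x40400050802040105000a) (.leaf 0x0))))))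

def argWS_5665 : Store := (.node 63941 (.node 63935 (.node 63932 (.node 63931 (.leaf 0xa0001) (.leaf 0x0)) (.node 63933 (.leaf 0xf9bb00f9b7) (.node 63934 (.leaf 0xf0b0a0a0004) (.leaf 0x0)))) (.node 63938 (.node 63936 (.leaf 0x1020109000009000703040103000d) (.node 63937 (.leaf 0x0) (.leaf 0xa0f0b0b0004))) (.node 63939 (.leaf 0xa0001) (.node 63940 (.leaf 0xb0f0a0003) (.leaf 0x40002090106000703040103000c))))) (.node 63947 (.node 63944 (.node 63942 (.leaf 0x0) (.node 63943 (.leaf 0xf0a0a0003) (.leaf 0x0))) (.node 63945 (.leaf 0xf9c700f9c3) (.node 63946 (.leaf 0x40106030500040802040105000c) (.leaf 0x0)))) (.node 63950 (.node 63948 (.leaf 0xe0a0a0003) (.node 63949 (.leaf 0x0) (.leaf 0xb0f0a0a0004))) (.node 63951 (.leaf 0x0) (.node 63952 (.leaf 0x0) (.leaf 0xb0001))))))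

def argWS_5666 : Store := (.node 63930 argWS_5664 argWS_5665)

def argWS_5667 : Store := (.node 63908 argWS_5663 argWS_5666)

def argWS_5668 : Store := (.node 63964 (.node 63958 (.node 63955 (.node 63954 (.leaf 0xa0001) (.leaf 0xf9d100f9d0)) (.node 63956 (.leaf 0xb0a0a0003) (.node 63957 (.leaf 0x0) (.leaf 0xb0a0f0003)))) (.node 63961 (.node 63959 (.leaf 0x0) (.node 63960 (.leaf 0x0) (.leaf 0xd0b0b0003))) (.node 63962 (.leaf 0x5020002000003010202000701000d) (.node 63963 (.leaf 0x0) (.leaf 0xf0b0a0a0004))))) (.node 63969 (.node 63966 (.node 63965 (.leaf 0x0) (.leaf 0xf0b0002)) (.node 63967 (.leaf 0xf9dd00f9dc) (.node 63968 (.leaf 0xf0001) (.leaf 0x0)))) (.node 63972 (.node 63970 (.leaf 0xb0f0a0a0004) (.node 63971 (.leaf 0x0) (.leaf 0x0))) (.node 63973 (.leaf 0x2070207030401030009) (.node 63974 (.leaf 0x0) (.leaf 0xf0b0002))))))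

def argWS_5669 : Store := (.node 63986 (.node 63980 (.node 63977 (.node 63976 (.leaf 0x0) (.leaf 0x3000003010005)) (.node 63978 (.leaf 0x0) (.node 63979 (.leaf 0xf0b0b0a0a0005) (.leaf 0x0)))) (.node 63983 (.node 63981 (.leaf 0xe0a0002) (.node 63982 (.leaf 0x0) (.leaf 0xf9ed00f9eb))) (.node 63984 (.leaf 0xb0a0002) (.node 63985 (.leaf 0x0) (.leaf 0x4000400090206020202000701000d))))) (.node 63992 (.node 63989 (.node 63987 (.leaf 0x0) (.node 63988 (.leaf 0xf0b0b0a0a0005) (.leaf 0xf0a0a0003))) (.node 63990 (.leaf 0x0) (.node 63991 (.leaf 0xf0001) (.leaf 0x20103070009030007)))) (.node 63995 (.node 63993 (.leaf 0x0) (.node 63994 (.leaf 0xf0001) (.leaf 0x0))) (.node 63996 (.leaf 0x503050206040007) (.node 63997 (.leaf 0x0) (.leaf 0xd0b0b0003))))))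

def argWS_5670 : Store := (.node 63975 argWS_5668 argWS_5669)

def argWS_5671 : Store := (.node 64009 (.node 64003 (.node 64000 (.node 63999 (.leaf 0x0) (.leaf 0xf9fe00f9fa)) (.node 64001 (.leaf 0x205020003030604000703040103000e) (.node 64002 (.leaf 0x0) (.leaf 0xb0b0002)))) (.node 64006 (.node 64004 (.leaf 0x0) (.node 64005 (.leaf 0x0) (.leaf 0xb0f0a0a0004))) (.node 64007 (.leaf 0x60202010606000703040103000c) (.node 64008 (.leaf 0x0) (.leaf 0xe0a0a0003))))) (.node 64014 (.node 64011 (.node 64010 (.leaf 0x0) (.leaf 0xb0001)) (.node 64012 (.leaf 0xfa0a00fa09) (.node 64013 (.leaf 0xb0a0a0003) (.leaf 0x0)))) (.node 64017 (.node 64015 (.leaf 0xa0f0b0003) (.node 64016 (.leaf 0x0) (.leaf 0x0))) (.node 64018 (.leaf 0xa0f0b0b0004) (.node 64019 (.leaf 0xe0d0002) (.leaf 0x40003080004))))))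

def argWS_5672 : Store := (.node 64031 (.node 64025 (.node 64022 (.node 64021 (.leaf 0x0) (.leaf 0xf0b0a0003)) (.node 64023 (.leaf 0x0) (.node 64024 (.leaf 0xfa1600fa12) (.leaf 0xf0b0a0003)))) (.node 64028 (.node 64026 (.leaf 0x0) (.node 64027 (.leaf 0xb0b0a0003) (.leaf 0x0))) (.node 64029 (.leaf 0x0) (.node 64030 (.leaf 0xa0f0b0b0004) (.leaf 0xa0f0b0b0004))))) (.node 64037 (.node 64034 (.node 64032 (.leaf 0x103000002080400000703040103000e) (.node 64033 (.leaf 0x0) (.leaf 0xf0001))) (.node 64035 (.leaf 0x0) (.node 64036 (.leaf 0xfa2200fa1e) (.leaf 0xb0b0002)))) (.node 64040 (.node 64038 (.leaf 0x0) (.node 64039 (.leaf 0xf0b0002) (.leaf 0x0))) (.node 64041 (.leaf 0x0) (.node 64042 (.leaf 0x9050300030306040802040105000d) (.leaf 0x0))))))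

def argWS_5673 : Store := (.node 64020 argWS_5671 argWS_5672)

def argWS_5674 : Store := (.node 63998 argWS_5670 argWS_5673)

def argWS_5675 : Store := (.node 63953 argWS_5667 argWS_5674)

def argWS_5676 : Store := (.node 64054 (.node 64048 (.node 64045 (.node 64044 (.leaf 0xf0b0a0003) (.leaf 0x0)) (.node 64046 (.leaf 0x60102010904020202000701000c) (.node 64047 (.leaf 0x0) (.leaf 0xf0b0b0a0a0005)))) (.node 64051 (.node 64049 (.leaf 0x0) (.node 64050 (.leaf 0x20903000408010007) (.leaf 0x0))) (.node 64052 (.leaf 0xa0a0002) (.node 64053 (.leaf 0x0) (.leaf 0xfa3400fa30))))) (.node 64059 (.node 64056 (.node 64055 (.leaf 0xb0b0a0003) (.leaf 0x0)) (.node 64057 (.leaf 0x501020603000703040103000b) (.node 64058 (.leaf 0x0) (.leaf 0xf0b0a0003)))) (.node 64062 (.node 64060 (.leaf 0xb0b0a0003) (.node 64061 (.leaf 0xe6eb) (.leaf 0xf0a0a0003))) (.node 64063 (.leaf 0x0) (.node 64064 (.leaf 0xb0b0a0a0004) (.leaf 0x0))))))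

def argWS_5677 : Store := (.node 64076 (.node 64070 (.node 64067 (.node 64066 (.leaf 0x0) (.leaf 0x2040400050802040105000a)) (.node 64068 (.leaf 0x0) (.node 64069 (.leaf 0xa0001) (.leaf 0x0)))) (.node 64073 (.node 64071 (.leaf 0x9010406020702010008) (.node 64072 (.leaf 0x0) (.leaf 0xa0a0002))) (.node 64074 (.leaf 0x0) (.node 64075 (.leaf 0x1070000000300000202000701000d) (.leaf 0x0))))) (.node 64082 (.node 64079 (.node 64077 (.leaf 0xb0a0002) (.node 64078 (.leaf 0x0) (.leaf 0xfa4d00fa49))) (.node 64080 (.leaf 0xe0001) (.node 64081 (.leaf 0x0) (.leaf 0xb0001)))) (.node 64085 (.node 64083 (.leaf 0x0) (.node 64084 (.leaf 0xb0f0a0003) (.leaf 0x102040807030401030009))) (.node 64086 (.leaf 0x0) (.node 64087 (.leaf 0xf0a0a0003) (.leaf 0x0))))))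

def argWS_5678 : Store := (.node 64065 argWS_5676 argWS_5677)

def argWS_5679 : Store := (.node 64099 (.node 64093 (.node 64090 (.node 64089 (.leaf 0x802020007010007) (.leaf 0x0)) (.node 64091 (.leaf 0xa0f0002) (.node 64092 (.leaf 0x0) (.leaf 0xfa5b00fa57)))) (.node 64096 (.node 64094 (.leaf 0xe0a0002) (.node 64095 (.leaf 0x0) (.leaf 0xb0a0f0003))) (.node 64097 (.leaf 0x0) (.node 64098 (.leaf 0x0) (.leaf 0xd0b0002))))) (.node 64104 (.node 64101 (.node 64100 (.leaf 0xf4d0) (.leaf 0xb0b0a0a0004)) (.node 64102 (.leaf 0x0) (.node 64103 (.leaf 0x60301020106060007) (.leaf 0x0)))) (.node 64107 (.node 64105 (.leaf 0xb0b0a0003) (.node 64106 (.leaf 0x1020202010202000701000a) (.leaf 0x0))) (.node 64108 (.leaf 0xf0b0002) (.node 64109 (.leaf 0x0) (.leaf 0x40300030306040007))))))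

def argWS_5680 : Store := (.node 64121 (.node 64115 (.node 64112 (.node 64111 (.leaf 0x0) (.leaf 0xa0a0002)) (.node 64113 (.leaf 0x0) (.node 64114 (.leaf 0x202020900000202000701000c) (.leaf 0x0)))) (.node 64118 (.node 64116 (.leaf 0xb0f0a0a0004) (.node 64117 (.leaf 0x0) (.leaf 0xfa7400fa70))) (.node 64119 (.leaf 0xb0b0002) (.node 64120 (.leaf 0x0) (.leaf 0x6010601050002000703040103000d))))) (.node 64127 (.node 64124 (.node 64122 (.leaf 0x0) (.node 64123 (.leaf 0xb0f0002) (.leaf 0xf0b0b0a0004))) (.node 64125 (.leaf 0xe0d0002) (.node 64126 (.leaf 0xa0f0b0b0004) (.leaf 0xfa7d00fa7c)))) (.node 64130 (.node 64128 (.leaf 0xf0b0b0003) (.node 64129 (.leaf 0x0) (.leaf 0xf0b0b0a0a0005))) (.node 64131 (.leaf 0x0) (.node 64132 (.leaf 0x0) (.leaf 0x400090806000202000701000c))))))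

def argWS_5681 : Store := (.node 64110 argWS_5679 argWS_5680)

def argWS_5682 : Store := (.node 64088 argWS_5678 argWS_5681)

def argWS_5683 : Store := (.node 64144 (.node 64138 (.node 64135 (.node 64134 (.leaf 0x0) (.leaf 0xe0d0002)) (.node 64136 (.leaf 0x0) (.node 64137 (.leaf 0xb0b0002) (.leaf 0xfa8800fa87)))) (.node 64141 (.node 64139 (.leaf 0x5020604000703040103000b) (.node 64140 (.leaf 0x0) (.leaf 0xf0b0a0003))) (.node 64142 (.leaf 0x0) (.node 64143 (.leaf 0xf0b0b0a0a0005) (.leaf 0x0))))) (.node 64149 (.node 64146 (.node 64145 (.leaf 0x0) (.leaf 0xf0b0002)) (.node 64147 (.leaf 0x1030103010102000802040105000d) (.node 64148 (.leaf 0x0) (.leaf 0xa0f0b0b0004)))) (.node 64152 (.node 64150 (.leaf 0x0) (.node 64151 (.leaf 0xfa9500fa91) (.leaf 0xb0b0002))) (.node 64153 (.leaf 0x0) (.node 64154 (.leaf 0x600000408010006) (.leaf 0x0))))))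

def argWS_5684 : Store := (.node 64166 (.node 64160 (.node 64157 (.node 64156 (.leaf 0xa0a0002) (.leaf 0xb0b0a0a0004)) (.node 64158 (.leaf 0xf0b0a0a0004) (.node 64159 (.leaf 0xfa9d) (.leaf 0xf0b0002)))) (.node 64163 (.node 64161 (.leaf 0x0) (.node 64162 (.leaf 0xa0f0b0b0004) (.leaf 0x0))) (.node 64164 (.leaf 0x0) (.node 64165 (.leaf 0xb0b0a0003) (.leaf 0xe6e0))))) (.node 64172 (.node 64169 (.node 64167 (.leaf 0xb0a0a0003) (.node 64168 (.leaf 0x0) (.leaf 0xa0f0b0003))) (.node 64170 (.leaf 0x0) (.node 64171 (.leaf 0x0) (.leaf 0x40205090009000703040103000c)))) (.node 64175 (.node 64173 (.leaf 0x0) (.node 64174 (.leaf 0xb0001) (.leaf 0x0))) (.node 64176 (.leaf 0x20002080400000703040103000c) (.node 64177 (.leaf 0x0) (.leaf 0xd0b0002))))))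

def argWS_5685 : Store := (.node 64155 argWS_5683 argWS_5684)

def argWS_5686 : Store := (.node 64189 (.node 64183 (.node 64180 (.node 64179 (.leaf 0x0) (.leaf 0xe06200fab2)) (.node 64181 (.leaf 0xb0a0002) (.node 64182 (.leaf 0x0) (.leaf 0xa0f0b0b0004)))) (.node 64186 (.node 64184 (.leaf 0x0) (.node 64185 (.leaf 0x0) (.leaf 0xb0a0a0003))) (.node 64187 (.leaf 0x301050202020703040103000b) (.node 64188 (.leaf 0x0) (.leaf 0xe0a0a0003))))) (.node 64195 (.node 64192 (.node 64190 (.leaf 0x0) (.node 64191 (.leaf 0xfabd) (.leaf 0xf0001))) (.node 64193 (.leaf 0x0) (.node 64194 (.leaf 0xb0f0a0a0004) (.leaf 0x0)))) (.node 64198 (.node 64196 (.leaf 0x0) (.node 64197 (.leaf 0xf0001) (.leaf 0xb0001))) (.node 64199 (.leaf 0xfac5) (.node 64200 (.leaf 0x20901020703000703040103000c) (.leaf 0x0))))))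

def argWS_5687 : Store := (.node 64212 (.node 64206 (.node 64203 (.node 64202 (.leaf 0xa0f0b0b0004) (.leaf 0x0)) (.node 64204 (.leaf 0xe0001) (.node 64205 (.leaf 0x0) (.leaf 0x0)))) (.node 64209 (.node 64207 (.leaf 0xa0f0b0003) (.node 64208 (.leaf 0x10202070209020202000701000c) (.leaf 0x0))) (.node 64210 (.leaf 0xa0001) (.node 64211 (.leaf 0x0) (.leaf 0xf0a0002))))) (.node 64218 (.node 64215 (.node 64213 (.leaf 0xfad300fad2) (.node 64214 (.leaf 0x3050207030802040105000a) (.leaf 0x0))) (.node 64216 (.leaf 0xa0001) (.node 64217 (.leaf 0x0) (.leaf 0xe0a0002)))) (.node 64221 (.node 64219 (.leaf 0x0) (.node 64220 (.leaf 0x0) (.leaf 0x2060601050002000703040103000d))) (.node 64222 (.leaf 0x0) (.node 64223 (.leaf 0xa0f0b0003) (.leaf 0x0))))))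

def argWS_5688 : Store := (.node 64201 argWS_5686 argWS_5687)

def argWS_5689 : Store := (.node 64178 argWS_5685 argWS_5688)

def argWS_5690 : Store := (.node 64133 argWS_5682 argWS_5689)

def argWS_5691 : Store := (.node 64043 argWS_5675 argWS_5690)

def argWS_5692 : Store := (.node 63863 argWS_5660 argWS_5691)

def argWS_5693 : Store := (.node 64235 (.node 64229 (.node 64226 (.node 64225 (.leaf 0x703050206020007010009) (.leaf 0x0)) (.node 64227 (.leaf 0x0) (.node 64228 (.leaf 0xee5b00fae2) (.leaf 0xe0a0002)))) (.node 64232 (.node 64230 (.leaf 0x0) (.node 64231 (.leaf 0x1030904020202000701000a) (.leaf 0x0))) (.node 64233 (.leaf 0xa0001) (.node 64234 (.leaf 0xf0b0002) (.leaf 0x30401060207020703040103000c))))) (.node 64240 (.node 64237 (.node 64236 (.leaf 0x0) (.leaf 0xe0001)) (.node 64238 (.leaf 0x0) (.node 64239 (.leaf 0xd0b0002) (.leaf 0xfaee00faed)))) (.node 64243 (.node 64241 (.leaf 0xa0f0b0003) (.node 64242 (.leaf 0x0) (.leaf 0xb0b0a0a0004))) (.node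 64244 (.leaf 0x0) (.node 64245 (.leaf 0x0) (.leaf 0xf0a0002))))))

def argWS_5694 : Store := (.node 64257 (.node 64251 (.node 64248 (.node 64247 (.leaf 0xf0001) (.leaf 0xfaf600be7b)) (.node 64249 (.leaf 0x10202000003010802040105000c) (.node 64250 (.leaf 0x0) (.leaf 0xf0a0002)))) (.node 64254 (.node 64252 (.leaf 0x0) (.node 64253 (.leaf 0xa0f0b0003) (.leaf 0x0))) (.node 64255 (.leaf 0x0) (.node 64256 (.leaf 0xf0b0b0003) (.leaf 0xa0f0b0b0004))))) (.node 64263 (.node 64260 (.node 64258 (.leaf 0xe0d0002) (.node 64259 (.leaf 0xfb0100fb00) (.leaf 0xa0f0b0b0004))) (.node 64261 (.leaf 0x0) (.node 64262 (.leaf 0x6000005020202010202000701000d) (.leaf 0x0)))) (.node 64266 (.node 64264 (.leaf 0xf0001) (.node 64265 (.leaf 0xe0001) (.leaf 0x4010900090802040105000a))) (.node 64267 (.leaf 0x0) (.node 64268 (.leaf 0xf0b0a0a0004) (.leaf 0x0))))))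

def argWS_5695 : Store := (.node 64246 argWS_5693 argWS_5694)

def argWS_5696 : Store := (.node 64280 (.node 64274 (.node 64271 (.node 64270 (.leaf 0xe0a0002) (.leaf 0xfb0d00fb0c)) (.node 64272 (.leaf 0x409020602000703040103000b) (.node 64273 (.leaf 0x0) (.leaf 0xa0f0b0b0004)))) (.node 64277 (.node 64275 (.leaf 0x0) (.node 64276 (.leaf 0xe0a0002) (.leaf 0x0))) (.node 64278 (.leaf 0x0) (.node 64279 (.leaf 0xf0a0002) (.leaf 0x50000090806000202000701000c))))) (.node 64285 (.node 64282 (.node 64281 (.leaf 0x0) (.leaf 0xe0001)) (.node 64283 (.leaf 0x0) (.node 64284 (.leaf 0xfb1a) (.leaf 0xf0a0002)))) (.node 64288 (.node 64286 (.leaf 0x0) (.node 64287 (.leaf 0xf0001) (.leaf 0x0))) (.node 64289 (.leaf 0x0) (.node 64290 (.leaf 0x501040005000703040103000b) (.leaf 0x0))))))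

def argWS_5697 : Store := (.node 64302 (.node 64296 (.node 64293 (.node 64292 (.leaf 0xe0001) (.leaf 0x0)) (.node 64294 (.leaf 0x60601050002000703040103000c) (.node 64295 (.leaf 0x0) (.leaf 0xb0b0a0a0004)))) (.node 64299 (.node 64297 (.leaf 0x0) (.node 64298 (.leaf 0xfb28) (.leaf 0xb0f0002))) (.node 64300 (.leaf 0x0) (.node 64301 (.leaf 0x30409080600000703040103000c) (.leaf 0x0))))) (.node 64308 (.node 64305 (.node 64303 (.leaf 0xf0001) (.node 64304 (.leaf 0xf0b0a0a0004) (.leaf 0xe0001))) (.node 64306 (.leaf 0xfb30) (.node 64307 (.leaf 0xa0f0b0003) (.leaf 0x0)))) (.node 64311 (.node 64309 (.leaf 0xb0a0a0003) (.node 64310 (.leaf 0x0) (.leaf 0x0))) (.node 64312 (.leaf 0xa0001) (.node 64313 (.leaf 0xe0d0002) (.leaf 0xfb3800fb37))))))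

def argWS_5698 : Store := (.node 64291 argWS_5696 argWS_5697)

def argWS_5699 : Store := (.node 64269 argWS_5695 argWS_5698)

def argWS_5700 : Store := (.node 64325 (.node 64319 (.node 64316 (.node 64315 (.leaf 0xa0a0002) (.leaf 0x0)) (.node 64317 (.leaf 0xb0a0a0003) (.node 64318 (.leaf 0x0) (.leaf 0x0)))) (.node 64322 (.node 64320 (.leaf 0xb0f0002) (.node 64321 (.leaf 0xb0b0a0a0004) (.leaf 0x10202010703060802040105000c))) (.node 64323 (.leaf 0x0) (.node 64324 (.leaf 0xb0a0a0003) (.leaf 0x0))))) (.node 64330 (.node 64327 (.node 64326 (.leaf 0xfb4400fb40) (.leaf 0xf0001)) (.node 64328 (.leaf 0x0) (.node 64329 (.leaf 0xe0a0002) (.leaf 0x0)))) (.node 64333 (.node 64331 (.leaf 0x0) (.node 64332 (.leaf 0xe0001) (.leaf 0xb0f0a0003))) (.node 64334 (.leaf 0xa0f0b0b0004) (.node 64335 (.leaf 0xfb4d00fb4c) (.leaf 0xf0b0b0a0004))))))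

def argWS_5701 : Store := (.node 64347 (.node 64341 (.node 64338 (.node 64337 (.leaf 0x0) (.leaf 0xb0f0002)) (.node 64339 (.leaf 0x0) (.node 64340 (.leaf 0x0) (.leaf 0xf0001)))) (.node 64344 (.node 64342 (.leaf 0xd0b0002) (.node 64343 (.leaf 0xa0a0002) (.leaf 0xfb5600fb55))) (.node 64345 (.leaf 0xf0b0a0003) (.node 64346 (.leaf 0x0) (.leaf 0xf0001))))) (.node 64353 (.node 64350 (.node 64348 (.leaf 0x0) (.node 64349 (.leaf 0x0) (.leaf 0xe0d0002))) (.node 64351 (.leaf 0xf0b0a0003) (.node 64352 (.leaf 0x502020007010007) (.leaf 0x0)))) (.node 64356 (.node 64354 (.leaf 0xa0f0b0b0004) (.node 64355 (.leaf 0x0) (.leaf 0xfb6200fb5e))) (.node 64357 (.leaf 0xf0b0a0003) (.node 64358 (.leaf 0x0) (.leaf 0xd0b0002))))))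

def argWS_5702 : Store := (.node 64336 argWS_5700 argWS_5701)

def argWS_5703 : Store := (.node 64370 (.node 64364 (.node 64361 (.node 64360 (.leaf 0x0) (.leaf 0x0)) (.node 64362 (.leaf 0xb0001) (.node 64363 (.leaf 0x20901050206040007) (.leaf 0x0)))) (.node 64367 (.node 64365 (.leaf 0xe0a0a0003) (.node 64366 (.leaf 0x0) (.leaf 0xfb6d))) (.node 64368 (.leaf 0xb0a0002) (.node 64369 (.leaf 0x0) (.leaf 0xa0a0002))))) (.node 64375 (.node 64372 (.node 64371 (.leaf 0x0) (.leaf 0x0)) (.node 64373 (.leaf 0xb0f0002) (.node 64374 (.leaf 0x90104020603000703040103000c) (.leaf 0x0)))) (.node 64378 (.node 64376 (.leaf 0xb0b0a0003) (.node 64377 (.leaf 0x0) (.leaf 0xfb78))) (.node 64379 (.leaf 0xa0001) (.node 64380 (.leaf 0x0) (.leaf 0x0))))))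

def argWS_5704 : Store := (.node 64392 (.node 64386 (.node 64383 (.node 64382 (.leaf 0xa0f0b0b0004) (.leaf 0x40303010102000007)) (.node 64384 (.leaf 0x0) (.node 64385 (.leaf 0xf0a0a0003) (.leaf 0x0)))) (.node 64389 (.node 64387 (.leaf 0xa0f0b0b0004) (.node 64388 (.leaf 0xfb8200fb81) (.leaf 0xe0a0002))) (.node 64390 (.leaf 0x0) (.node 64391 (.leaf 0xb0f0002) (.leaf 0x0))))) (.node 64398 (.node 64395 (.node 64393 (.leaf 0x0) (.node 64394 (.leaf 0x10702020007010007) (.leaf 0x0))) (.node 64396 (.leaf 0xf0b0b0a0a0005) (.node 64397 (.leaf 0x0) (.leaf 0xb0001)))) (.node 64401 (.node 64399 (.leaf 0xfb8d) (.node 64400 (.leaf 0xe0a0002) (.leaf 0x0))) (.node 64402 (.leaf 0xe0a0002) (.node 64403 (.leaf 0x0) (.leaf 0x0))))))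

def argWS_5705 : Store := (.node 64381 argWS_5703 argWS_5704)

def argWS_5706 : Store := (.node 64359 argWS_5702 argWS_5705)

def argWS_5707 : Store := (.node 64314 argWS_5699 argWS_5706)

def argWS_5708 : Store := (.node 64415 (.node 64409 (.node 64406 (.node 64405 (.leaf 0xd0b0b0003) (.leaf 0xe0001)) (.node 64407 (.leaf 0xfb95) (.node 64408 (.leaf 0x90300070206000202000701000c) (.leaf 0x0)))) (.node 64412 (.node 64410 (.leaf 0xa0f0b0b0004) (.node 64411 (.leaf 0x0) (.leaf 0xf0001))) (.node 64413 (.leaf 0x0) (.node 64414 (.leaf 0x0) (.leaf 0xe0a0a0003))))) (.node 64420 (.node 64417 (.node 64416 (.leaf 0xa0a0002) (.leaf 0x80300020106060202000701000c)) (.node 64418 (.leaf 0x0) (.node 64419 (.leaf 0x0) (.leaf 0xfba200fb9f)))) (.node 64423 (.node 64421 (.leaf 0x104070009030006) (.node 64422 (.leaf 0x0) (.leaf 0xf0a0a0003))) (.node 64424 (.leaf 0x0) (.node 64425 (.leaf 0xf0b0a0003) (.leaf 0x0))))))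

def argWS_5709 : Store := (.node 64437 (.node 64431 (.node 64428 (.node 64427 (.leaf 0x0) (.leaf 0xd0b0002)) (.node 64429 (.leaf 0xb0f0002) (.node 64430 (.leaf 0xc6c100fbac) (.leaf 0xa0001)))) (.node 64434 (.node 64432 (.leaf 0x0) (.node 64433 (.leaf 0xf0b0b0003) (.leaf 0x0))) (.node 64435 (.leaf 0x0) (.node 64436 (.leaf 0x90300020603000703040103000c) (.leaf 0x0))))) (.node 64443 (.node 64440 (.node 64438 (.leaf 0xd0b0b0003) (.node 64439 (.leaf 0x0) (.leaf 0xd0001))) (.node 64441 (.leaf 0xfbb700fbb6) (.node 64442 (.leaf 0xa0f0b0003) (.leaf 0x0)))) (.node 64446 (.node 64444 (.leaf 0x602050206040202000701000b) (.node 64445 (.leaf 0x0) (.leaf 0xf0b0a0003))) (.node 64447 (.leaf 0xa0001) (.node 64448 (.leaf 0xa0001) (.leaf 0xf0a0002))))))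

def argWS_5710 : Store := (.node 64426 argWS_5708 argWS_5709)

def argWS_5711 : Store := (.node 64460 (.node 64454 (.node 64451 (.node 64450 (.leaf 0xfbc000fbbf) (.leaf 0xb0a0002)) (.node 64452 (.leaf 0x0) (.node 64453 (.leaf 0xb0f0a0003) (.leaf 0x0)))) (.node 64457 (.node 64455 (.leaf 0x0) (.node 64456 (.leaf 0xa0f0b0b0004) (.leaf 0xa0f0b0003))) (.node 64458 (.leaf 0xe0a0a0003) (.node 64459 (.leaf 0xfbc900fbc8) (.leaf 0xf0b0a0a0004))))) (.node 64465 (.node 64462 (.node 64461 (.leaf 0x0) (.leaf 0xe0a0a0003)) (.node 64463 (.leaf 0x0) (.node 64464 (.leaf 0x0) (.leaf 0xb0f0a0a0004)))) (.node 64468 (.node 64466 (.leaf 0xcf2f00cf2e) (.node 64467 (.leaf 0xf0a0002) (.leaf 0x0))) (.node 64469 (.leaf 0xe0a0a0003) (.node 64470 (.leaf 0x0) (.leaf 0x0))))))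

def argWS_5712 : Store := (.node 64482 (.node 64476 (.node 64473 (.node 64472 (.leaf 0x70009020602000703040103000d) (.leaf 0x0)) (.node 64474 (.leaf 0xb0b0a0003) (.node 64475 (.leaf 0x0) (.leaf 0xa0001)))) (.node 64479 (.node 64477 (.leaf 0xd0b0b0003) (.node 64478 (.leaf 0xfbdc00fbdb) (.leaf 0xd0001))) (.node 64480 (.leaf 0x0) (.node 64481 (.leaf 0x701020901060802040105000b) (.leaf 0x0))))) (.node 64488 (.node 64485 (.node 64483 (.leaf 0xd0b0b0003) (.node 64484 (.leaf 0xd0b0002) (.leaf 0xf0b0a0a0004))) (.node 64486 (.leaf 0x80005020202010802040105000d) (.node 64487 (.leaf 0x0) (.leaf 0xb0a0f0003)))) (.node 64491 (.node 64489 (.leaf 0x0) (.node 64490 (.leaf 0xfbe800fbe4) (.leaf 0x307010904020202000701000b))) (.node 64492 (.leaf 0x0) (.node 64493 (.leaf 0xf0b0a0003) (.leaf 0x0))))))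

def argWS_5713 : Store := (.node 64471 argWS_5711 argWS_5712)

def argWS_5714 : Store := (.node 64449 argWS_5710 argWS_5713)

def argWS_5715 : Store := (.node 64505 (.node 64499 (.node 64496 (.node 64495 (.leaf 0xf0b0a0003) (.leaf 0x0)) (.node 64497 (.leaf 0x0) (.node 64498 (.leaf 0xb0a0002) (.leaf 0xf0a0002)))) (.node 64502 (.node 64500 (.leaf 0xfbf2) (.node 64501 (.leaf 0xb0b0a0a0004) (.leaf 0x0))) (.node 64503 (.leaf 0xa0001) (.node 64504 (.leaf 0x0) (.leaf 0x0))))) (.node 64510 (.node 64507 (.node 64506 (.leaf 0xf0a0a0003) (.leaf 0xa0001)) (.node 64508 (.leaf 0xf0b0002) (.node 64509 (.leaf 0xfbfb00fbfa) (.leaf 0xf0b0b0a0004)))) (.node 64513 (.node 64511 (.leaf 0x0) (.node 64512 (.leaf 0xf0001) (.leaf 0x0))) (.node 64514 (.leaf 0x0) (.node 64515 (.leaf 0xb0f0a0003) (.leaf 0x4020900000802040105000a))))))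

def argWS_5716 : Store := (.node 64527 (.node 64521 (.node 64518 (.node 64517 (.leaf 0x0) (.leaf 0xf0b0002)) (.node 64519 (.leaf 0x0) (.node 64520 (.leaf 0x20401070206000202000701000c) (.leaf 0x0)))) (.node 64524 (.node 64522 (.leaf 0xf0b0a0a0004) (.node 64523 (.leaf 0x0) (.leaf 0xfc0a00fc06))) (.node 64525 (.leaf 0xb0a0f0003) (.node 64526 (.leaf 0x0) (.leaf 0x90000090006))))) (.node 64533 (.node 64530 (.node 64528 (.leaf 0x0) (.node 64529 (.leaf 0xd0001) (.leaf 0xf0b0002))) (.node 64531 (.leaf 0xe0d0002) (.node 64532 (.leaf 0xfc12) (.leaf 0x204010207020007010009)))) (.node 64536 (.node 64534 (.leaf 0x0) (.node 64535 (.leaf 0xb0f0a0a0004) (.leaf 0x0))) (.node 64537 (.leaf 0xb0f0a0a0004) (.node 64538 (.leaf 0x0) (.leaf 0x0))))))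

def argWS_5717 : Store := (.node 64516 argWS_5715 argWS_5716)

def argWS_5718 : Store := (.node 64550 (.node 64544 (.node 64541 (.node 64540 (.leaf 0x3040106030500040008) (.leaf 0x0)) (.node 64542 (.leaf 0xe0d0002) (.node 64543 (.leaf 0x0) (.leaf 0x5020901060802040105000a)))) (.node 64547 (.node 64545 (.leaf 0x0) (.node 64546 (.leaf 0xf0b0b0003) (.leaf 0x0))) (.node 64548 (.leaf 0xfc2200fc1e) (.node 64549 (.leaf 0xe0a0002) (.leaf 0x0))))) (.node 64556 (.node 64553 (.node 64551 (.leaf 0xb0a0a0003) (.node 64552 (.leaf 0x0) (.leaf 0x0))) (.node 64554 (.leaf 0xe0001) (.node 64555 (.leaf 0x90007000903000703040103000d) (.leaf 0x0)))) (.node 64559 (.node 64557 (.leaf 0xb0b0002) (.node 64558 (.leaf 0x0) (.leaf 0xfc2d))) (.node 64560 (.leaf 0xf0b0b0a0004) (.node 64561 (.leaf 0x0) (.leaf 0xf0b0b0a0004))))))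

def argWS_5719 : Store := (.node 64573 (.node 64567 (.node 64564 (.node 64563 (.leaf 0x0) (.leaf 0x0)) (.node 64565 (.leaf 0xb0f0a0a0004) (.node 64566 (.leaf 0x8050006010500020008) (.leaf 0x0)))) (.node 64570 (.node 64568 (.leaf 0x0) (.node 64569 (.leaf 0xe0a0002) (.leaf 0xfc3800fc37))) (.node 64571 (.leaf 0xb0a0a0003) (.node 64572 (.leaf 0x0) (.leaf 0xd0b0002))))) (.node 64579 (.node 64576 (.node 64574 (.leaf 0x0) (.node 64575 (.leaf 0x0) (.leaf 0xb0b0a0a0004))) (.node 64577 (.leaf 0xa0f0b0b0004) (.node 64578 (.leaf 0x200020901060006) (.leaf 0x0)))) (.node 64582 (.node 64580 (.leaf 0xb0001) (.node 64581 (.leaf 0x0) (.leaf 0xfc4400fc40))) (.node 64583 (.leaf 0x0) (.node 64584 (.leaf 0xf0b0b0003) (.leaf 0x0))))))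

def argWS_5720 : Store := (.node 64562 argWS_5718 argWS_5719)

def argWS_5721 : Store := (.node 64539 argWS_5717 argWS_5720)

def argWS_5722 : Store := (.node 64494 argWS_5714 argWS_5721)

def argWS_5723 : Store := (.node 64404 argWS_5707 argWS_5722)

def argWS_5724 : Store := (.node 64596 (.node 64590 (.node 64587 (.node 64586 (.leaf 0xf0a0002) (.leaf 0x0)) (.node 64588 (.leaf 0x0) (.node 64589 (.leaf 0xf0b0b0003) (.leaf 0xf0b0b0a0a0005)))) (.node 64593 (.node 64591 (.leaf 0x9010400030306040802040105000d) (.node 64592 (.leaf 0x0) (.leaf 0xb0b0002))) (.node 64594 (.leaf 0x0) (.node 64595 (.leaf 0xfc5100fc4d) (.leaf 0x201020900000006))))) (.node 64601 (.node 64598 (.node 64597 (.leaf 0x0) (.leaf 0xb0a0a0003)) (.node 64599 (.leaf 0x0) (.node 64600 (.leaf 0xa0f0002) (.leaf 0x0)))) (.node 64604 (.node 64602 (.leaf 0x0) (.node 64603 (.leaf 0x104000301010200000703040103000e) (.leaf 0x0))) (.node 64605 (.leaf 0xb0a0f0003) (.node 64606 (.leaf 0x0) (.leaf 0xb0b0a0a0004))))))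

def argWS_5725 : Store := (.node 64618 (.node 64612 (.node 64609 (.node 64608 (.leaf 0xfc5e) (.leaf 0xb0f0002)) (.node 64610 (.leaf 0x0) (.node 64611 (.leaf 0xd0b0b0003) (.leaf 0x0)))) (.node 64615 (.node 64613 (.leaf 0x0) (.node 64614 (.leaf 0x307000400050802040105000b) (.leaf 0x0))) (.node 64616 (.leaf 0xb0b0a0003) (.node 64617 (.leaf 0x0) (.leaf 0x6030102020900000802040105000d))))) (.node 64624 (.node 64621 (.node 64619 (.leaf 0x0) (.node 64620 (.leaf 0xe0a0002) (.leaf 0x0))) (.node 64622 (.leaf 0xfc6c00a6dc) (.node 64623 (.leaf 0xf0b0002) (.leaf 0x0)))) (.node 64627 (.node 64625 (.leaf 0x70305020106060802040105000c) (.node 64626 (.leaf 0x0) (.leaf 0xb0001))) (.node 64628 (.leaf 0xd0001) (.node 64629 (.leaf 0x2020007020902000703040103000d) (.leaf 0x0))))))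

def argWS_5726 : Store := (.node 64607 argWS_5724 argWS_5725)

def argWS_5727 : Store := (.node 64641 (.node 64635 (.node 64632 (.node 64631 (.leaf 0xd0b0002) (.leaf 0x0)) (.node 64633 (.leaf 0xfc7700fc73) (.node 64634 (.leaf 0xf0b0a0a0004) (.leaf 0x0)))) (.node 64638 (.node 64636 (.leaf 0xf0001) (.node 64637 (.leaf 0x0) (.leaf 0x0))) (.node 64639 (.leaf 0x9070007000902000701000a) (.node 64640 (.leaf 0x0) (.leaf 0xf0b0b0a0a0005))))) (.node 64646 (.node 64643 (.node 64642 (.leaf 0x0) (.leaf 0xb0a0a0003)) (.node 64644 (.leaf 0xfc82) (.node 64645 (.leaf 0xa0f0b0b0004) (.leaf 0x0)))) (.node 64649 (.node 64647 (.leaf 0xf0b0a0a0004) (.node 64648 (.leaf 0x0) (.leaf 0x0))) (.node 64650 (.leaf 0xa0f0b0003) (.node 64651 (.leaf 0xb0f0002) (.leaf 0xb0a0f0003))))))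

def argWS_5728 : Store := (.node 64663 (.node 64657 (.node 64654 (.node 64653 (.leaf 0xfc8b00fc8a) (.leaf 0xf0b0002)) (.node 64655 (.leaf 0x0) (.node 64656 (.leaf 0xb0b0002) (.leaf 0x0)))) (.node 64660 (.node 64658 (.leaf 0x0) (.node 64659 (.leaf 0x102070206000202000701000b) (.leaf 0x0))) (.node 64661 (.leaf 0x0) (.node 64662 (.leaf 0x6050207020007010008) (.leaf 0x0))))) (.node 64669 (.node 64666 (.node 64664 (.leaf 0xb0b0002) (.node 64665 (.leaf 0x0) (.leaf 0x502010703060802040105000b))) (.node 64667 (.leaf 0x0) (.node 64668 (.leaf 0xd0001) (.leaf 0x0)))) (.node 64672 (.node 64670 (.leaf 0xfc9c00fc98) (.node 64671 (.leaf 0xb0a0f0003) (.leaf 0x0))) (.node 64673 (.leaf 0xd0b0b0003) (.node 64674 (.leaf 0x0) (.leaf 0x0))))))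

def argWS_5729 : Store := (.node 64652 argWS_5727 argWS_5728)

def argWS_5730 : Store := (.node 64630 argWS_5726 argWS_5729)

def argWS_5731 : Store := (.node 64686 (.node 64680 (.node 64677 (.node 64676 (.leaf 0x70000090009000703040103000c) (.leaf 0x0)) (.node 64678 (.leaf 0xb0b0002) (.node 64679 (.leaf 0x0) (.leaf 0x4000400090206020008)))) (.node 64683 (.node 64681 (.leaf 0x0) (.node 64682 (.leaf 0xf0b0b0003) (.leaf 0x0))) (.node 64684 (.leaf 0x3040103080005) (.node 64685 (.leaf 0x0) (.leaf 0xd0b0b0003))))) (.node 64691 (.node 64688 (.node 64687 (.leaf 0x0) (.leaf 0xfcae00fcaa)) (.node 64689 (.leaf 0xd0b0002) (.node 64690 (.leaf 0x0) (.leaf 0x201050206040006)))) (.node 64694 (.node 64692 (.leaf 0x0) (.node 64693 (.leaf 0xb0a0002) (.leaf 0xf0b0a0003))) (.node 64695 (.leaf 0x40004090000090802040105000c) (.node 64696 (.leaf 0x0) (.leaf 0xf0b0002))))))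

def argWS_5732 : Store := (.node 64708 (.node 64702 (.node 64699 (.node 64698 (.leaf 0x0) (.leaf 0xfcb90026b4)) (.node 64700 (.leaf 0xf0001) (.node 64701 (.leaf 0x0) (.leaf 0xb0b0a0a0004)))) (.node 64705 (.node 64703 (.leaf 0x0) (.node 64704 (.leaf 0x0) (.leaf 0x6010200030000000703040103000d))) (.node 64706 (.leaf 0x0) (.node 64707 (.leaf 0xf0a0a0003) (.leaf 0x0))))) (.node 64714 (.node 64711 (.node 64709 (.leaf 0xf0b0a0a0004) (.node 64710 (.leaf 0xfcc4) (.leaf 0xf0b0a0003))) (.node 64712 (.leaf 0x0) (.node 64713 (.leaf 0x8000406030500040008) (.leaf 0x0)))) (.node 64717 (.node 64715 (.leaf 0xd0b0b0003) (.node 64716 (.leaf 0x20403010904020802040105000c) (.leaf 0x0))) (.node 64718 (.leaf 0xd0001) (.node 64719 (.leaf 0x0) (.leaf 0x60006030500040008))))))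

def argWS_5733 : Store := (.node 64697 argWS_5731 argWS_5732)

def argWS_5734 : Store := (.node 64731 (.node 64725 (.node 64722 (.node 64721 (.leaf 0x0) (.leaf 0xa0f0002)) (.node 64723 (.leaf 0x0) (.node 64724 (.leaf 0xfcd2) (.leaf 0xb0001)))) (.node 64728 (.node 64726 (.leaf 0x0) (.node 64727 (.leaf 0x304090206020202000701000b) (.leaf 0x0))) (.node 64729 (.leaf 0xe0a0002) (.node 64730 (.leaf 0xb0f0002) (.leaf 0x301050002000703040103000b))))) (.node 64736 (.node 64733 (.node 64732 (.leaf 0x0) (.leaf 0xf0b0a0003)) (.node 64734 (.leaf 0x0) (.node 64735 (.leaf 0x90402000003010802040105000c) (.leaf 0x0)))) (.node 64739 (.node 64737 (.leaf 0xf0b0a0003) (.node 64738 (.leaf 0x0) (.leaf 0xfce100fcdd))) (.node 64740 (.leaf 0xb0f0a0a0004) (.node 64741 (.leaf 0x0) (.leaf 0xe0001))))))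

def argWS_5735 : Store := (.node 64753 (.node 64747 (.node 64744 (.node 64743 (.leaf 0x0) (.leaf 0x0)) (.node 64745 (.leaf 0x109030007030401030009) (.node 64746 (.leaf 0x0) (.leaf 0xa0001)))) (.node 64750 (.node 64748 (.leaf 0x0) (.node 64749 (.leaf 0x604010900090202000701000b) (.leaf 0x0))) (.node 64751 (.leaf 0xb0001) (.node 64752 (.leaf 0x0) (.leaf 0xb0a0002))))) (.node 64759 (.node 64756 (.node 64754 (.leaf 0xfcf000fcef) (.node 64755 (.leaf 0xb0b0a0003) (.leaf 0x0))) (.node 64757 (.leaf 0x90201050206040802040105000c) (.node 64758 (.leaf 0x0) (.leaf 0xe0a0a0003)))) (.node 64762 (.node 64760 (.leaf 0x3070400050202000701000a) (.node 64761 (.leaf 0x0) (.leaf 0xa0f0b0003))) (.node 64763 (.leaf 0x0) (.node 64764 (.leaf 0x7000006020702010802040105000d) (.leaf 0x0))))))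

def argWS_5736 : Store := (.node 64742 argWS_5734 argWS_5735)

def argWS_5737 : Store := (.node 64720 argWS_5733 argWS_5736)

def argWS_5738 : Store := (.node 64675 argWS_5730 argWS_5737)

def argWS_5739 : Store := (.node 64776 (.node 64770 (.node 64767 (.node 64766 (.leaf 0xb0b0002) (.leaf 0x0)) (.node 64768 (.leaf 0xfcfe00fcfa) (.node 64769 (.leaf 0xe0d0002) (.leaf 0x0)))) (.node 64773 (.node 64771 (.leaf 0x0) (.node 64772 (.leaf 0xf0b0b0a0004) (.leaf 0xe7a500fd03))) (.node 64774 (.leaf 0x20005020202010802040105000d) (.node 64775 (.leaf 0x0) (.leaf 0xa0a0002))))) (.node 64781 (.node 64778 (.node 64777 (.leaf 0x0) (.leaf 0xd0b0b0003)) (.node 64779 (.leaf 0x0) (.node 64780 (.leaf 0x0) (.leaf 0xb0a0002)))) (.node 64784 (.node 64782 (.leaf 0xa0f0b0b0004) (.node 64783 (.leaf 0xa0f0b0003) (.leaf 0xfd0e00fd0d))) (.node 64785 (.leaf 0x60200000300000802040105000c) (.node 64786 (.leaf 0x0) (.leaf 0xe0a0a0003))))))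

def argWS_5740 : Store := (.node 64798 (.node 64792 (.node 64789 (.node 64788 (.leaf 0x0) (.leaf 0xd0b0002)) (.node 64790 (.leaf 0x0) (.node 64791 (.leaf 0x0) (.leaf 0xd0b0002)))) (.node 64795 (.node 64793 (.leaf 0xe11b) (.node 64794 (.leaf 0xf0b0b0a0a0005) (.leaf 0x0))) (.node 64796 (.leaf 0x90603010102000007) (.node 64797 (.leaf 0x0) (.leaf 0xf0b0a0a0004))))) (.node 64804 (.node 64801 (.node 64799 (.leaf 0xa0f0b0003) (.node 64800 (.leaf 0xa0f0002) (.leaf 0xfd1f))) (.node 64802 (.leaf 0xe0a0a0003) (.node 64803 (.leaf 0x0) (.leaf 0xf0b0b0a0004)))) (.node 64807 (.node 64805 (.leaf 0x0) (.node 64806 (.leaf 0x0) (.leaf 0xf0a0002))) (.node 64808 (.leaf 0xd0b0002) (.node 64809 (.leaf 0xa0f0b0b0004) (.leaf 0xfd2800fd27))))))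

def argWS_5741 : Store := (.node 64787 argWS_5739 argWS_5740)

def argWS_5742 : Store := (.node 64821 (.node 64815 (.node 64812 (.node 64811 (.leaf 0xf0b0a0a0004) (.leaf 0x0)) (.node 64813 (.leaf 0x8020000090206020802040105000d) (.node 64814 (.leaf 0x0) (.leaf 0xf0b0b0a0004)))) (.node 64818 (.node 64816 (.leaf 0xd0b0002) (.node 64817 (.leaf 0xb0001) (.leaf 0xfd30))) (.node 64819 (.leaf 0xf0a0002) (.node 64820 (.leaf 0x0) (.leaf 0xf0b0b0003))))) (.node 64826 (.node 64823 (.node 64822 (.leaf 0x0) (.leaf 0x0)) (.node 64824 (.leaf 0xb0b0a0a0004) (.node 64825 (.leaf 0x60000020000030703040103000c) (.leaf 0x0)))) (.node 64829 (.node 64827 (.leaf 0xb0b0002) (.node 64828 (.leaf 0x0) (.leaf 0xfd3b))) (.node 64830 (.leaf 0x406010500020202000701000c) (.node 64831 (.leaf 0x0) (.leaf 0xe0d0002))))))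

def argWS_5743 : Store := (.node 64843 (.node 64837 (.node 64834 (.node 64833 (.leaf 0x0) (.leaf 0xa0001)) (.node 64835 (.leaf 0x0) (.node 64836 (.leaf 0x0) (.leaf 0xd0b0002)))) (.node 64840 (.node 64838 (.leaf 0xf0b0b0a0a0005) (.node 64839 (.leaf 0xfd45) (.leaf 0xa0f0002))) (.node 64841 (.leaf 0x0) (.node 64842 (.leaf 0xf0a0002) (.leaf 0x0))))) (.node 64849 (.node 64846 (.node 64844 (.leaf 0x0) (.node 64845 (.leaf 0x90206040004) (.leaf 0x0))) (.node 64847 (.leaf 0xb0a0f0003) (.node 64848 (.leaf 0x0) (.leaf 0xd0b0002)))) (.node 64852 (.node 64850 (.leaf 0xb0a0a0003) (.node 64851 (.leaf 0xfd5100fd50) (.leaf 0xe0d0002))) (.node 64853 (.leaf 0x0) (.node 64854 (.leaf 0xf0b0a0a0004) (.leaf 0x0))))))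

def argWS_5744 : Store := (.node 64832 argWS_5742 argWS_5743)

def argWS_5745 : Store := (.node 64810 argWS_5741 argWS_5744)

def argWS_5746 : Store := (.node 64866 (.node 64860 (.node 64857 (.node 64856 (.leaf 0x0) (.leaf 0x9a0b0022fd)) (.node 64858 (.leaf 0x0) (.node 64859 (.leaf 0xe0a0a0003) (.leaf 0x0)))) (.node 64863 (.node 64861 (.leaf 0xb0001) (.node 64862 (.leaf 0x0) (.leaf 0x0))) (.node 64864 (.leaf 0xb0001) (.node 64865 (.leaf 0x10301010703060007) (.leaf 0x0))))) (.node 64871 (.node 64868 (.node 64867 (.leaf 0xe0001) (.leaf 0x0)) (.node 64869 (.leaf 0x40300050206040202000701000c) (.node 64870 (.leaf 0x0) (.leaf 0x0)))) (.node 64874 (.node 64872 (.leaf 0xfd6600fd63) (.node 64873 (.leaf 0xe0001) (.leaf 0x0))) (.node 64875 (.leaf 0xb0a0f0003) (.node 64876 (.leaf 0x0) (.leaf 0x0))))))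

def argWS_5747 : Store := (.node 64888 (.node 64882 (.node 64879 (.node 64878 (.leaf 0xb0f0a0a0004) (.leaf 0x6020703060202000701000a)) (.node 64880 (.leaf 0x0) (.node 64881 (.leaf 0xf0b0b0003) (.leaf 0x0)))) (.node 64885 (.node 64883 (.leaf 0x20202090806000007) (.node 64884 (.leaf 0x0) (.leaf 0xb0a0a0003))) (.node 64886 (.leaf 0x0) (.node 64887 (.leaf 0xfd7500fd71) (.leaf 0xd0b0002))))) (.node 64894 (.node 64891 (.node 64889 (.leaf 0x0) (.node 64890 (.leaf 0xd0001) (.leaf 0x0))) (.node 64892 (.leaf 0x0) (.node 64893 (.leaf 0xb0a0002) (.leaf 0xb0f0a0003)))) (.node 64897 (.node 64895 (.leaf 0xfd7d) (.node 64896 (.leaf 0x70207020600000703040103000c) (.leaf 0x0))) (.node 64898 (.leaf 0xb0f0002) (.node 64899 (.leaf 0x0) (.leaf 0xb0b0a0003))))))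

def argWS_5748 : Store := (.node 64877 argWS_5746 argWS_5747)

def argWS_5749 : Store := (.node 64911 (.node 64905 (.node 64902 (.node 64901 (.leaf 0x0) (.leaf 0x0)) (.node 64903 (.leaf 0x60501070209020802040105000c) (.node 64904 (.leaf 0x0) (.leaf 0xf0b0002)))) (.node 64908 (.node 64906 (.leaf 0x0) (.node 64907 (.leaf 0xf0b0b0a0a0005) (.leaf 0xfd8a))) (.node 64909 (.leaf 0xa0f0b0003) (.node 64910 (.leaf 0x0) (.leaf 0xe0a0a0003))))) (.node 64917 (.node 64914 (.node 64912 (.leaf 0x0) (.node 64913 (.leaf 0x0) (.leaf 0xb0001))) (.node 64915 (.leaf 0x90007000902000701000a) (.node 64916 (.leaf 0x0) (.leaf 0xd0b0b0003)))) (.node 64920 (.node 64918 (.leaf 0x0) (.node 64919 (.leaf 0xfd95) (.leaf 0xf0b0a0a0004))) (.node 64921 (.leaf 0x0) (.node 64922 (.leaf 0xf0b0a0a0004) (.leaf 0x0))))))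

def argWS_5750 : Store := (.node 64934 (.node 64928 (.node 64925 (.node 64924 (.leaf 0x0) (.leaf 0xf0b0a0003)) (.node 64926 (.leaf 0x50305050206040202000701000c) (.node 64927 (.leaf 0x0) (.leaf 0xe0a0002)))) (.node 64931 (.node 64929 (.leaf 0x0) (.node 64930 (.leaf 0xfda0) (.leaf 0xf0b0b0a0a0005))) (.node 64932 (.leaf 0x0) (.node 64933 (.leaf 0xd0b0b0003) (.leaf 0x0))))) (.node 64940 (.node 64937 (.node 64935 (.leaf 0x0) (.node 64936 (.leaf 0xd0b0b0003) (.leaf 0xb0b0002))) (.node 64938 (.leaf 0xe0d0002) (.node 64939 (.leaf 0xfda900fda8) (.leaf 0xf0a0002)))) (.node 64943 (.node 64941 (.leaf 0x0) (.node 64942 (.leaf 0xb0b0a0a0004) (.leaf 0x0))) (.node 64944 (.leaf 0x0) (.node 64945 (.leaf 0xe0a0002) (.leaf 0x40002000003010802040105000d))))))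

def argWS_5751 : Store := (.node 64923 argWS_5749 argWS_5750)

def argWS_5752 : Store := (.node 64900 argWS_5748 argWS_5751)

def argWS_5753 : Store := (.node 64855 argWS_5745 argWS_5752)

def argWS_5754 : Store := (.node 64765 argWS_5738 argWS_5753)

def argWS_5755 : Store := (.node 64585 argWS_5723 argWS_5754)

def argWS_5756 : Store := (.node 64224 argWS_5692 argWS_5755)

def argWS_5757 : Store := (.node 64957 (.node 64951 (.node 64948 (.node 64947 (.leaf 0x0) (.leaf 0xf0b0a0a0004)) (.node 64949 (.leaf 0x0) (.node 64950 (.leaf 0xb0a0002) (.leaf 0xfdb500fdb4)))) (.node 64954 (.node 64952 (.leaf 0xb0a0002) (.node 64953 (.leaf 0x0) (.leaf 0xf0b0b0a0a0005))) (.node 64955 (.leaf 0x0) (.node 64956 (.leaf 0x0) (.leaf 0xf0b0a0a0004))))) (.node 64962 (.node 64959 (.node 64958 (.leaf 0x9000901090802040105000b) (.leaf 0x0)) (.node 64960 (.leaf 0xb0a0a0003) (.node 64961 (.leaf 0x0) (.leaf 0xd0001)))) (.node 64965 (.node 64963 (.leaf 0xfdc100fdc0) (.node 64964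 (.leaf 0x0) (.leaf 0x0))) (.node 64966 (.leaf 0xf0b0a0a0004) (.node 64967 (.leaf 0x60900090802040105000a) (.leaf 0x0))))))

def argWS_5758 : Store := (.node 64979 (.node 64973 (.node 64970 (.node 64969 (.leaf 0xb0a0002) (.leaf 0x0)) (.node 64971 (.leaf 0xf0a0a0003) (.node 64972 (.leaf 0xfdca00fdc9) (.leaf 0xf0a0a0003)))) (.node 64976 (.node 64974 (.leaf 0x0) (.node 64975 (.leaf 0xb0f0a0003) (.leaf 0x0))) (.node 64977 (.leaf 0x0) (.node 64978 (.leaf 0xf0001) (.leaf 0xb0a0a0003))))) (.node 64985 (.node 64982 (.node 64980 (.leaf 0xddb000fdd2) (.node 64981 (.leaf 0xb0f0a0a0004) (.leaf 0x0))) (.node 64983 (.leaf 0xa0f0b0b0004) (.node 64984 (.leaf 0x0) (.leaf 0x0)))) (.node 64988 (.node 64986 (.leaf 0xa0f0b0b0004) (.node 64987 (.leaf 0x0) (.leaf 0xfdda))) (.node 64989 (.leaf 0xf0b0b0a0a0005) (.node 64990 (.leaf 0x0) (.leaf 0x60901090004))))))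

def argWS_5759 : Store := (.node 64968 argWS_5757 argWS_5758)

def argWS_5760 : Store := (.node 65002 (.node 64996 (.node 64993 (.node 64992 (.leaf 0x0) (.leaf 0xb0001)) (.node 64994 (.leaf 0xf0b0b0a0a0005) (.node 64995 (.leaf 0xb0b0a0003) (.leaf 0x869900fde2)))) (.node 64999 (.node 64997 (.leaf 0xa0f0002) (.node 64998 (.leaf 0x0) (.leaf 0xb0001))) (.node 65000 (.leaf 0x0) (.node 65001 (.leaf 0x0) (.leaf 0xe0a0002))))) (.node 65007 (.node 65004 (.node 65003 (.leaf 0x502010400050006) (.leaf 0x0)) (.node 65005 (.leaf 0xa0f0002) (.node 65006 (.leaf 0x0) (.leaf 0xfded)))) (.node 65010 (.node 65008 (.leaf 0x102010207020007010009) (.node 65009 (.leaf 0x0) (.leaf 0xa0001))) (.node 65011 (.leaf 0x0) (.node 65012 (.leaf 0x0) (.leaf 0xe0001))))))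

def argWS_5761 : Store := (.node 65024 (.node 65018 (.node 65015 (.node 65014 (.leaf 0xe0a0a0003) (.leaf 0xf0b0b0003)) (.node 65016 (.leaf 0xfdf600fdf5) (.node 65017 (.leaf 0xf0001) (.leaf 0x0)))) (.node 65021 (.node 65019 (.leaf 0xf0b0b0a0004) (.node 65020 (.leaf 0x0) (.leaf 0x0))) (.node 65022 (.leaf 0xa0a0002) (.node 65023 (.leaf 0xf0b0a0a0004) (.leaf 0xf0b0b0a0004))))) (.node 65030 (.node 65027 (.node 65025 (.leaf 0xfdff00fdfe) (.node 65026 (.leaf 0xe0a0002) (.leaf 0x0))) (.node 65028 (.leaf 0xe0a0a0003) (.node 65029 (.leaf 0x0) (.leaf 0x0)))) (.node 65033 (.node 65031 (.leaf 0xe0a0002) (.node 65032 (.leaf 0xb0f0002) (.leaf 0x503050000030000000703040103000e))) (.node 65034 (.leaf 0x0) (.node 65035 (.leaf 0xb0f0002) (.leaf 0x0))))))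

def argWS_5762 : Store := (.node 65013 argWS_5760 argWS_5761)

def argWS_5763 : Store := (.node 64991 argWS_5759 argWS_5762)

def argWS_5764 : Store := (.node 65047 (.node 65041 (.node 65038 (.node 65037 (.leaf 0xfe0b00fe07) (.leaf 0xd0b0b0003)) (.node 65039 (.leaf 0x0) (.node 65040 (.leaf 0xf0b0002) (.leaf 0x0)))) (.node 65044 (.node 65042 (.leaf 0x0) (.node 65043 (.leaf 0xa0a0002) (.leaf 0x7010703060802040105000a))) (.node 65045 (.leaf 0x0) (.node 65046 (.leaf 0xf0b0a0a0004) (.leaf 0x0))))) (.node 65052 (.node 65049 (.node 65048 (.leaf 0xfe16) (.leaf 0x70207020600000703040103000c)) (.node 65050 (.leaf 0x0) (.node 65051 (.leaf 0xb0f0002) (.leaf 0x0)))) (.node 65055 (.node 65053 (.leaf 0xe0a0a0003) (.node 65054 (.leaf 0x0) (.leaf 0x0))) (.node 65056 (.leaf 0xf0b0b0a0004) (.node 65057 (.leaf 0x307070206000802040105000b) (.leaf 0x0))))))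

def argWS_5765 : Store := (.node 65069 (.node 65063 (.node 65060 (.node 65059 (.leaf 0x0) (.leaf 0xfe2200ad41)) (.node 65061 (.leaf 0xe0a0002) (.node 65062 (.leaf 0x0) (.leaf 0xf0b0a0003)))) (.node 65066 (.node 65064 (.leaf 0x0) (.node 65065 (.leaf 0x0) (.leaf 0xf0001))) (.node 65067 (.leaf 0x30707020600000703040103000c) (.node 65068 (.leaf 0x0) (.leaf 0xf0b0a0003))))) (.node 65075 (.node 65072 (.node 65070 (.leaf 0x0) (.node 65071 (.leaf 0x602000003010202000701000c) (.leaf 0x0))) (.node 65073 (.leaf 0xa0f0b0003) (.node 65074 (.leaf 0x0) (.leaf 0xfe3100fe2d)))) (.node 65078 (.node 65076 (.leaf 0xf0b0b0003) (.node 65077 (.leaf 0x0) (.leaf 0xa0f0b0b0004))) (.node 65079 (.leaf 0x0) (.node 65080 (.leaf 0x0) (.leaf 0xe0a0002))))))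

def argWS_5766 : Store := (.node 65058 argWS_5764 argWS_5765)

def argWS_5767 : Store := (.node 65092 (.node 65086 (.node 65083 (.node 65082 (.leaf 0x7020901090005) (.leaf 0x0)) (.node 65084 (.leaf 0xe0a0a0003) (.node 65085 (.leaf 0x0) (.leaf 0xb0b0a0003)))) (.node 65089 (.node 65087 (.leaf 0xfe3d00fe3c) (.node 65088 (.leaf 0xf0b0b0a0a0005) (.leaf 0x0))) (.node 65090 (.leaf 0xb0a0002) (.node 65091 (.leaf 0x0) (.leaf 0x0))))) (.node 65097 (.node 65094 (.node 65093 (.leaf 0xd0b0b0003) (.leaf 0x30403030604000703040103000c)) (.node 65095 (.leaf 0x0) (.node 65096 (.leaf 0xb0a0f0003) (.leaf 0x0)))) (.node 65100 (.node 65098 (.leaf 0xfe48) (.node 65099 (.leaf 0x80002000003010008) (.leaf 0x0))) (.node 65101 (.leaf 0xa0f0b0003) (.node 65102 (.leaf 0x0) (.leaf 0xb0b0002))))))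

def argWS_5768 : Store := (.node 65114 (.node 65108 (.node 65105 (.node 65104 (.leaf 0x0) (.leaf 0x0)) (.node 65106 (.leaf 0xa0f0b0003) (.node 65107 (.leaf 0xb0001) (.leaf 0xfe52)))) (.node 65111 (.node 65109 (.leaf 0xe0a0002) (.node 65110 (.leaf 0x0) (.leaf 0xa0f0002))) (.node 65112 (.leaf 0x0) (.node 65113 (.leaf 0x0) (.leaf 0xe0d0002))))) (.node 65120 (.node 65117 (.node 65115 (.leaf 0xa0f0002) (.node 65116 (.leaf 0xd0001) (.leaf 0xfe5b00fe5a))) (.node 65118 (.leaf 0xe0d0002) (.node 65119 (.leaf 0x0) (.leaf 0xe0a0a0003)))) (.node 65123 (.node 65121 (.leaf 0x0) (.node 65122 (.leaf 0x0) (.leaf 0xb0a0002))) (.node 65124 (.leaf 0xf0b0002) (.node 65125 (.leaf 0xb0b0002) (.leaf 0xfe6400fe63))))))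

def argWS_5769 : Store := (.node 65103 argWS_5767 argWS_5768)

def argWS_5770 : Store := (.node 65081 argWS_5766 argWS_5769)

def argWS_5771 : Store := (.node 65036 argWS_5763 argWS_5770)

def argWS_5772 : Store := (.node 65137 (.node 65131 (.node 65128 (.node 65127 (.leaf 0xf0b0002) (.leaf 0x0)) (.node 65129 (.leaf 0xb0a0f0003) (.node 65130 (.leaf 0x0) (.leaf 0x0)))) (.node 65134 (.node 65132 (.leaf 0x90503010703060007) (.node 65133 (.leaf 0x0) (.leaf 0xf0a0a0003))) (.node 65135 (.leaf 0x0) (.node 65136 (.leaf 0x3010102000006) (.leaf 0x0))))) (.node 65142 (.node 65139 (.node 65138 (.leaf 0xb0b0a0003) (.leaf 0x0)) (.node 65140 (.leaf 0xfe7200fe6e) (.node 65141 (.leaf 0xa0f0b0b0004) (.leaf 0x0)))) (.node 65145 (.node 65143 (.leaf 0xf0b0002) (.node 65144 (.leaf 0x0) (.leaf 0x0))) (.node 65146 (.leaf 0xb0b0a0a0004) (.node 65147 (.leaf 0x50201020106060802040105000c) (.leaf 0x0))))))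

def argWS_5773 : Store := (.node 65159 (.node 65153 (.node 65150 (.node 65149 (.leaf 0xf0a0a0003) (.leaf 0x0)) (.node 65151 (.leaf 0xfe7d00fe79) (.node 65152 (.leaf 0xe0a0002) (.leaf 0x0)))) (.node 65156 (.node 65154 (.leaf 0x0) (.node 65155 (.leaf 0xf0a0002) (.leaf 0xf0b0b0a0a0005))) (.node 65157 (.leaf 0xb0a0002) (.node 65158 (.leaf 0xfe8400fe83) (.leaf 0xa0f0002))))) (.node 65165 (.node 65162 (.node 65160 (.leaf 0x0) (.node 65161 (.leaf 0xa0f0b0b0004) (.leaf 0x0))) (.node 65163 (.leaf 0x0) (.node 65164 (.leaf 0xf0b0b0a0004) (.leaf 0xb0001)))) (.node 65168 (.node 65166 (.leaf 0xfe8c00ba84) (.node 65167 (.leaf 0xd0001) (.leaf 0x0))) (.node 65169 (.leaf 0xe0a0a0003) (.node 65170 (.leaf 0x0) (.leaf 0x0))))))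

def argWS_5774 : Store := (.node 65148 argWS_5772 argWS_5773)

def argWS_5775 : Store := (.node 65182 (.node 65176 (.node 65173 (.node 65172 (.leaf 0xe0001) (.leaf 0x5000000090206020802040105000d)) (.node 65174 (.leaf 0x0) (.node 65175 (.leaf 0xb0a0002) (.leaf 0x0)))) (.node 65179 (.node 65177 (.leaf 0xfe970044c2) (.node 65178 (.leaf 0xb0b0a0a0004) (.leaf 0x0))) (.node 65180 (.leaf 0xb0001) (.node 65181 (.leaf 0x0) (.leaf 0x0))))) (.node 65187 (.node 65184 (.node 65183 (.leaf 0xb0a0f0003) (.leaf 0x60503010102000802040105000c)) (.node 65185 (.leaf 0x0) (.node 65186 (.leaf 0xb0a0f0003) (.leaf 0x0)))) (.node 65190 (.node 65188 (.leaf 0xb0a0a0003) (.node 65189 (.leaf 0xfea300fea2) (.leaf 0xb0b0a0a0004))) (.node 65191 (.leaf 0x0) (.node 65192 (.leaf 0xb0a0002) (.leaf 0x0))))))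

def argWS_5776 : Store := (.node 65204 (.node 65198 (.node 65195 (.node 65194 (.leaf 0x0) (.leaf 0xd0001)) (.node 65196 (.leaf 0xb0a0a0003) (.node 65197 (.leaf 0xa0a0002) (.leaf 0xfeac00feab)))) (.node 65201 (.node 65199 (.leaf 0x40000030306040007) (.node 65200 (.leaf 0x0) (.leaf 0xe0d0002))) (.node 65202 (.leaf 0x0) (.node 65203 (.leaf 0xf0b0a0a0004) (.leaf 0x0))))) (.node 65210 (.node 65207 (.node 65205 (.leaf 0x0) (.node 65206 (.leaf 0xf0b0b0a0a0005) (.leaf 0xf0b0b0a0a0005))) (.node 65208 (.leaf 0x60000020804000202000701000c) (.node 65209 (.leaf 0x0) (.leaf 0xa0001)))) (.node 65213 (.node 65211 (.leaf 0x0) (.node 65212 (.leaf 0xfeba00feb6) (.leaf 0xb0b0002))) (.node 65214 (.leaf 0x0) (.node 65215 (.leaf 0xb0f0a0003) (.leaf 0x0))))))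

def argWS_5777 : Store := (.node 65193 argWS_5775 argWS_5776)

def argWS_5778 : Store := (.node 65171 argWS_5774 argWS_5777)

def argWS_5779 : Store := (.node 65227 (.node 65221 (.node 65218 (.node 65217 (.leaf 0x0) (.leaf 0xb0f0002)) (.node 65219 (.leaf 0x1040002090106000703040103000d) (.node 65220 (.leaf 0x0) (.leaf 0xf0b0b0a0004)))) (.node 65224 (.node 65222 (.leaf 0x0) (.node 65223 (.leaf 0x602000004080703040103000b) (.leaf 0x0))) (.node 65225 (.leaf 0xe0d0002) (.node 65226 (.leaf 0x0) (.leaf 0xfec900fec5))))) (.node 65232 (.node 65229 (.node 65228 (.leaf 0xa0f0002) (.leaf 0x0)) (.node 65230 (.leaf 0xf0b0002) (.node 65231 (.leaf 0x0) (.leaf 0x0)))) (.node 65235 (.node 65233 (.leaf 0xf0b0a0003) (.node 65234 (.leaf 0xb0b0a0003) (.leaf 0xfed100fed0))) (.node 65236 (.leaf 0x1020202090000000703040103000d) (.node 65237 (.leaf 0x0) (.leaf 0xb0a0002))))))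

def argWS_5780 : Store := (.node 65249 (.node 65243 (.node 65240 (.node 65239 (.leaf 0x0) (.leaf 0xf0a0a0003)) (.node 65241 (.leaf 0x0) (.node 65242 (.leaf 0x0) (.leaf 0xb0f0a0003)))) (.node 65246 (.node 65244 (.leaf 0x901050206040202000701000b) (.node 65245 (.leaf 0x0) (.leaf 0xe0001))) (.node 65247 (.leaf 0x0) (.node 65248 (.leaf 0x20002020900000007) (.leaf 0x0))))) (.node 65255 (.node 65252 (.node 65250 (.leaf 0xfee000fede) (.node 65251 (.leaf 0x5030502020900000202000701000d) (.leaf 0x0))) (.node 65253 (.leaf 0xb0b0a0003) (.node 65254 (.leaf 0x0) (.leaf 0xd0b0b0003)))) (.node 65258 (.node 65256 (.leaf 0x0) (.node 65257 (.leaf 0x0) (.leaf 0xe0d0002))) (.node 65259 (.leaf 0x506030500040202000701000b) (.node 65260 (.leaf 0x0) (.leaf 0xf0b0a0a0004))))))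

def argWS_5781 : Store := (.node 65238 argWS_5779 argWS_5780)

def argWS_5782 : Store := (.node 65272 (.node 65266 (.node 65263 (.node 65262 (.leaf 0x0) (.leaf 0xb0b0002)) (.node 65264 (.leaf 0xfeee00feed) (.node 65265 (.leaf 0xa0a0002) (.leaf 0x0)))) (.node 65269 (.node 65267 (.leaf 0xe0001) (.node 65268 (.leaf 0x0) (.leaf 0x0))) (.node 65270 (.leaf 0xa0001) (.node 65271 (.leaf 0x1020106060202000701000a) (.leaf 0x0))))) (.node 65277 (.node 65274 (.node 65273 (.leaf 0x0) (.leaf 0xfef800449c)) (.node 65275 (.leaf 0xb0a0a0003) (.node 65276 (.leaf 0x0) (.leaf 0xf0001)))) (.node 65280 (.node 65278 (.leaf 0x0) (.node 65279 (.leaf 0x0) (.leaf 0xf0b0a0003))) (.node 65281 (.leaf 0xa0001) (.node 65282 (.leaf 0x900090007030401030009) (.leaf 0x0))))))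

def argWS_5783 : Store := (.node 65294 (.node 65288 (.node 65285 (.node 65284 (.leaf 0xb0b0002) (.leaf 0x0)) (.node 65286 (.leaf 0xff0400ff00) (.node 65287 (.leaf 0x701020603000703040103000b) (.leaf 0x0)))) (.node 65291 (.node 65289 (.leaf 0xe0d0002) (.node 65290 (.leaf 0x0) (.leaf 0xe0a0002))) (.node 65292 (.leaf 0x0) (.node 65293 (.leaf 0x0) (.leaf 0xf0a0002))))) (.node 65300 (.node 65297 (.node 65295 (.leaf 0xf0b0b0003) (.node 65296 (.leaf 0xff0e) (.leaf 0xb0001))) (.node 65298 (.leaf 0x0) (.node 65299 (.leaf 0xf0b0b0003) (.leaf 0x0)))) (.node 65303 (.node 65301 (.leaf 0x0) (.node 65302 (.leaf 0xf0b0b0a0004) (.leaf 0x90602020900000007))) (.node 65304 (.leaf 0x0) (.node 65305 (.leaf 0xe0001) (.leaf 0x0))))))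

def argWS_5784 : Store := (.node 65283 argWS_5782 argWS_5783)

def argWS_5785 : Store := (.node 65261 argWS_5781 argWS_5784)

def argWS_5786 : Store := (.node 65216 argWS_5778 argWS_5785)

def argWS_5787 : Store := (.node 65126 argWS_5771 argWS_5786)

def argWS_5788 : Store := (.node 65317 (.node 65311 (.node 65308 (.node 65307 (.leaf 0xa0f0b0003) (.leaf 0xff1a00ff19)) (.node 65309 (.leaf 0xa0f0002) (.node 65310 (.leaf 0x0) (.leaf 0xb0f0002)))) (.node 65314 (.node 65312 (.leaf 0x0) (.node 65313 (.leaf 0x0) (.leaf 0x70506010500020007))) (.node 65315 (.leaf 0x0) (.node 65316 (.leaf 0xb0001) (.leaf 0x0))))) (.node 65322 (.node 65319 (.node 65318 (.leaf 0xff24009fc1) (.leaf 0xd0b0002)) (.node 65320 (.leaf 0x0) (.node 65321 (.leaf 0xe0001) (.leaf 0x0)))) (.node 65325 (.node 65323 (.leaf 0x0) (.node 65324 (.leaf 0x8010102020007010008) (.leaf 0x0))) (.node 65326 (.leaf 0xe0a0002) (.node 65327 (.leaf 0x0) (.leaf 0xf0b0b0a0004))))))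

def argWS_5789 : Store := (.node 65339 (.node 65333 (.node 65330 (.node 65329 (.leaf 0xe61500ff2f) (.leaf 0xb0001)) (.node 65331 (.leaf 0x0) (.node 65332 (.leaf 0x200070009030006) (.leaf 0x0)))) (.node 65336 (.node 65334 (.leaf 0xb0f0002) (.node 65335 (.leaf 0xf0001) (.leaf 0xf0b0b0003))) (.node 65337 (.leaf 0xff37) (.node 65338 (.leaf 0xa0f0b0b0004) (.leaf 0x0))))) (.node 65345 (.node 65342 (.node 65340 (.leaf 0xa0001) (.node 65341 (.leaf 0x0) (.leaf 0x0))) (.node 65343 (.leaf 0xf0b0a0003) (.node 65344 (.leaf 0x3080007030401030008) (.leaf 0x0)))) (.node 65348 (.node 65346 (.leaf 0x0) (.node 65347 (.leaf 0x6000207030802040105000a) (.leaf 0x0))) (.node 65349 (.leaf 0xf0b0b0a0004) (.node 65350 (.leaf 0x0) (.leaf 0xff4500ff41))))))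

def argWS_5790 : Store := (.node 65328 argWS_5788 argWS_5789)

def argWS_5791 : Store := (.node 65362 (.node 65356 (.node 65353 (.node 65352 (.leaf 0x7090109000703040103000b) (.leaf 0x0)) (.node 65354 (.leaf 0xa0f0b0003) (.node 65355 (.leaf 0x0) (.leaf 0xa0f0b0003)))) (.node 65359 (.node 65357 (.leaf 0x0) (.node 65358 (.leaf 0x0) (.leaf 0xa0001))) (.node 65360 (.leaf 0x8020002090106000703040103000d) (.node 65361 (.leaf 0x0) (.leaf 0xe0a0002))))) (.node 65367 (.node 65364 (.node 65363 (.leaf 0x0) (.leaf 0x10902020007010007)) (.node 65365 (.leaf 0x0) (.node 65366 (.leaf 0xd0b0002) (.leaf 0x0)))) (.node 65370 (.node 65368 (.leaf 0xff5600ff52) (.node 65369 (.leaf 0xd0b0b0003) (.leaf 0x0))) (.node 65371 (.leaf 0xa0a0002) (.node 65372 (.leaf 0x0) (.leaf 0x0))))))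

def argWS_5792 : Store := (.node 65384 (.node 65378 (.node 65375 (.node 65374 (.leaf 0xf0b0b0a0a0005) (.leaf 0xf0b0a0003)) (.node 65376 (.leaf 0x906020901060006) (.node 65377 (.leaf 0x0) (.leaf 0xb0f0002)))) (.node 65381 (.node 65379 (.leaf 0x0) (.node 65380 (.leaf 0xff6200ff5e) (.leaf 0x40003070206000007))) (.node 65382 (.leaf 0x0) (.node 65383 (.leaf 0xb0a0a0003) (.leaf 0x0))))) (.node 65390 (.node 65387 (.node 65385 (.leaf 0xb0b0a0a0004) (.node 65386 (.leaf 0x0) (.leaf 0x0))) (.node 65388 (.leaf 0xf0a0002) (.node 65389 (.leaf 0x206010908050802040105000b) (.leaf 0x0)))) (.node 65393 (.node 65391 (.leaf 0x0) (.node 65392 (.leaf 0xff6e) (.leaf 0x30308000703040103000a))) (.node 65394 (.leaf 0x0) (.node 65395 (.leaf 0xb0a0a0003) (.leaf 0x0))))))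

def argWS_5793 : Store := (.node 65373 argWS_5791 argWS_5792)

def argWS_5794 : Store := (.node 65351 argWS_5790 argWS_5793)

def argWS_5795 : Store := (.node 65407 (.node 65401 (.node 65398 (.node 65397 (.leaf 0xb0001) (.leaf 0x0)) (.node 65399 (.leaf 0x0) (.node 65400 (.leaf 0xf0b0a0a0004) (.leaf 0xf0001)))) (.node 65404 (.node 65402 (.leaf 0xff7800a5c7) (.node 65403 (.leaf 0xf0a0a0003) (.leaf 0x0))) (.node 65405 (.leaf 0xb0f0a0003) (.node 65406 (.leaf 0x0) (.leaf 0x0))))) (.node 65412 (.node 65409 (.node 65408 (.leaf 0x20000020804000202000701000c) (.leaf 0x0)) (.node 65410 (.leaf 0xb0f0002) (.node 65411 (.leaf 0x0) (.leaf 0xd0b0b0003)))) (.node 65415 (.node 65413 (.leaf 0xff83) (.node 65414 (.leaf 0xb0f0a0003) (.leaf 0x0))) (.node 65416 (.leaf 0x10301090806000007) (.node 65417 (.leaf 0x0) (.leaf 0xf0001))))))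

def argWS_5796 : Store := (.node 65429 (.node 65423 (.node 65420 (.node 65419 (.leaf 0x2070209020202000701000b) (.leaf 0x0)) (.node 65421 (.leaf 0xf0001) (.node 65422 (.leaf 0x0) (.leaf 0xb0001)))) (.node 65426 (.node 65424 (.leaf 0xff8e) (.node 65425 (.leaf 0xf0b0a0003) (.leaf 0x0))) (.node 65427 (.leaf 0x2090307020902000703040103000d) (.node 65428 (.leaf 0x0) (.leaf 0xf0b0a0a0004))))) (.node 65435 (.node 65432 (.node 65430 (.leaf 0x10301050206040802040105000c) (.node 65431 (.leaf 0x0) (.leaf 0xa0f0b0003))) (.node 65433 (.leaf 0x0) (.node 65434 (.leaf 0xf0b0002) (.leaf 0xff99)))) (.node 65438 (.node 65436 (.leaf 0xd0001) (.node 65437 (.leaf 0x0) (.leaf 0xe0d0002))) (.node 65439 (.leaf 0x0) (.node 65440 (.leaf 0xb0a0002) (.leaf 0x80000020901060007))))))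

def argWS_5797 : Store := (.node 65418 argWS_5795 argWS_5796)

def argWS_5798 : Store := (.node 65452 (.node 65446 (.node 65443 (.node 65442 (.leaf 0x0) (.leaf 0xf0b0002)) (.node 65444 (.leaf 0x0) (.node 65445 (.leaf 0x702010904020802040105000b) (.leaf 0x0)))) (.node 65449 (.node 65447 (.leaf 0xf0001) (.node 65448 (.leaf 0x0) (.leaf 0xffa700ffa3))) (.node 65450 (.leaf 0xb0b0a0a0004) (.node 65451 (.leaf 0x0) (.leaf 0xa0f0b0b0004))))) (.node 65457 (.node 65454 (.node 65453 (.leaf 0x0) (.leaf 0x0)) (.node 65455 (.leaf 0xb0b0002) (.node 65456 (.leaf 0x20502050206040202000701000c) (.leaf 0x0)))) (.node 65460 (.node 65458 (.leaf 0xf0a0002) (.node 65459 (.leaf 0x0) (.leaf 0xffb2))) (.node 65461 (.leaf 0xd0001) (.node 65462 (.leaf 0x0) (.leaf 0xe0d0002))))))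

def argWS_5799 : Store := (.node 65474 (.node 65468 (.node 65465 (.node 65464 (.leaf 0x0) (.leaf 0xd0001)) (.node 65466 (.leaf 0x402090106000703040103000b) (.node 65467 (.leaf 0x0) (.leaf 0xb0a0a0003)))) (.node 65471 (.node 65469 (.leaf 0x0) (.node 65470 (.leaf 0xe0a0a0003) (.leaf 0xffbd00ffbc))) (.node 65472 (.leaf 0xb0f0a0a0004) (.node 65473 (.leaf 0x0) (.leaf 0x0))))) (.node 65480 (.node 65477 (.node 65475 (.leaf 0x20901070306000703040103000c) (.node 65476 (.leaf 0x0) (.leaf 0x0))) (.node 65478 (.leaf 0xffc4) (.node 65479 (.leaf 0xf0001) (.leaf 0x0)))) (.node 65483 (.node 65481 (.leaf 0x90707020902000703040103000c) (.node 65482 (.leaf 0x0) (.leaf 0xa0f0002))) (.node 65484 (.leaf 0xa0f0002) (.node 65485 (.leaf 0xe0001) (.leaf 0xffcc00ffcb))))))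

def argWS_5800 : Store := (.node 65463 argWS_5798 argWS_5799)

def argWS_5801 : Store := (.node 65441 argWS_5797 argWS_5800)

def argWS_5802 : Store := (.node 65396 argWS_5794 argWS_5801)

def argWS_5803 : Store := (.node 65497 (.node 65491 (.node 65488 (.node 65487 (.leaf 0xb0f0a0003) (.leaf 0x0)) (.node 65489 (.leaf 0x20600000300000007) (.node 65490 (.leaf 0x0) (.leaf 0xe0a0002)))) (.node 65494 (.node 65492 (.leaf 0x1030901090005) (.node 65493 (.leaf 0x0) (.leaf 0xe0a0a0003))) (.node 65495 (.leaf 0x0) (.node 65496 (.leaf 0xd0b0002) (.leaf 0xb0a0002))))) (.node 65502 (.node 65499 (.node 65498 (.leaf 0xffd800ffd7) (.leaf 0xd0b0002)) (.node 65500 (.leaf 0x0) (.node 65501 (.leaf 0xe0001) (.leaf 0x0)))) (.node 65505 (.node 65503 (.leaf 0x0) (.node 65504 (.leaf 0xd0001) (.leaf 0xf0b0a0003))) (.node 65506 (.leaf 0xd0b0b0003) (.node 65507 (.leaf 0xffe100ffe0) (.leaf 0xe0a0002))))))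

def argWS_5804 : Store := (.node 65519 (.node 65513 (.node 65510 (.node 65509 (.leaf 0x0) (.leaf 0xf0b0b0a0004)) (.node 65511 (.leaf 0x0) (.node 65512 (.leaf 0x0) (.leaf 0x906040005000703040103000b)))) (.node 65516 (.node 65514 (.leaf 0x0) (.node 65515 (.leaf 0xf0b0a0003) (.leaf 0x0))) (.node 65517 (.leaf 0x60501020901060007) (.node 65518 (.leaf 0x0) (.leaf 0xf0b0b0a0a0005))))) (.node 65525 (.node 65522 (.node 65520 (.leaf 0x0) (.node 65521 (.leaf 0xb0f0a0a0004) (.leaf 0xfff000ffef))) (.node 65523 (.leaf 0xf0a0002) (.node 65524 (.leaf 0x0) (.leaf 0x102010601050002000703040103000e)))) (.node 65528 (.node 65526 (.leaf 0x0) (.node 65527 (.leaf 0xe0001) (.leaf 0xf0b0a0a0004))) (.node 65529 (.leaf 0x700040807030401030009) (.node 65530 (.leaf 0x0) (.leaf 0x0))))))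

def argWS_5805 : Store := (.node 65508 argWS_5803 argWS_5804)

def argWS_5806 : Store := (.node 65542 (.node 65536 (.node 65533 (.node 65532 (.leaf 0xfffa) (.leaf 0xf0a0a0003)) (.node 65534 (.leaf 0x0) (.node 65535 (.leaf 0xb0a0f0003) (.leaf 0x0)))) (.node 65539 (.node 65537 (.leaf 0x0) (.node 65538 (.leaf 0x5000006010500020202000701000d) (.leaf 0x0))) (.node 65540 (.leaf 0xf0b0002) (.node 65541 (.leaf 0x0) (.leaf 0xb0001))))) (.node 65547 (.node 65544 (.node 65543 (.leaf 0x10005010004) (.leaf 0xf0b0b0a0004)) (.node 65545 (.leaf 0x0) (.node 65546 (.leaf 0xf0b0002) (.leaf 0x0)))) (.node 65550 (.node 65548 (.leaf 0x0) (.node 65549 (.leaf 0x800040601050002000703040103000e) (.leaf 0x0))) (.node 65551 (.leaf 0xd0b0b0003) (.node 65552 (.leaf 0x0) (.leaf 0xb0f0a0a0004))))))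

def argWS_5807 : Store := (.node 65564 (.node 65558 (.node 65555 (.node 65554 (.leaf 0xe0a0002) (.leaf 0x10011010010)) (.node 65556 (.leaf 0xf0b0b0a0a0005) (.node 65557 (.leaf 0x0) (.leaf 0xd0001)))) (.node 65561 (.node 65559 (.leaf 0x0) (.node 65560 (.leaf 0x0) (.leaf 0xa0a0002))) (.node 65562 (.leaf 0xd0b0b0003) (.node 65563 (.leaf 0xb0a0002) (.leaf 0x1001a010019))))) (.node 65570 (.node 65567 (.node 65565 (.leaf 0xb0a0f0003) (.node 65566 (.leaf 0x0) (.leaf 0xf0a0a0003))) (.node 65568 (.leaf 0x0) (.node 65569 (.leaf 0x0) (.leaf 0xa0f0b0b0004)))) (.node 65573 (.node 65571 (.leaf 0x9040901090202000701000a) (.node 65572 (.leaf 0x0) (.leaf 0xd0001))) (.node 65574 (.leaf 0x0) (.node 65575 (.leaf 0x10025) (.leaf 0xd0b0b0003))))))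

def argWS_5808 : Store := (.node 65553 argWS_5806 argWS_5807)

def argWS_5809 : Store := (.node 65531 argWS_5805 argWS_5808)

def argWS_5810 : Store := (.node 65587 (.node 65581 (.node 65578 (.node 65577 (.leaf 0x0) (.leaf 0xf0b0a0a0004)) (.node 65579 (.leaf 0x0) (.node 65580 (.leaf 0x0) (.leaf 0xa0f0b0003)))) (.node 65584 (.node 65582 (.leaf 0xa0a0002) (.node 65583 (.leaf 0x704090000090802040105000b) (.leaf 0x0))) (.node 65585 (.leaf 0xf0b0b0003) (.node 65586 (.leaf 0x0) (.leaf 0x1003101002d))))) (.node 65592 (.node 65589 (.node 65588 (.leaf 0x70400090206020202000701000c) (.leaf 0x0)) (.node 65590 (.leaf 0xe0d0002) (.node 65591 (.leaf 0x0) (.leaf 0xd0001)))) (.node 65595 (.node 65593 (.leaf 0x0) (.node 65594 (.leaf 0x5000003010005) (.leaf 0x0))) (.node 65596 (.leaf 0xf0b0b0003) (.node 65597 (.leaf 0x0) (.leaf 0xa0f0b0003))))))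

def argWS_5811 : Store := (.node 65609 (.node 65603 (.node 65600 (.node 65599 (.leaf 0xa0f0002) (.leaf 0x1003e01003d)) (.node 65601 (.leaf 0xa0f0b0003) (.node 65602 (.leaf 0x0) (.leaf 0x700030306040802040105000c)))) (.node 65606 (.node 65604 (.leaf 0x0) (.node 65605 (.leaf 0xe0a0002) (.leaf 0xb0a0002))) (.node 65607 (.leaf 0x60000090000090802040105000c) (.node 65608 (.leaf 0x0) (.leaf 0xd0b0002))))) (.node 65615 (.node 65612 (.node 65610 (.leaf 0x0) (.node 65611 (.leaf 0x20000030306040008) (.leaf 0x0))) (.node 65613 (.leaf 0xf0b0b0a0a0005) (.node 65614 (.leaf 0x0) (.leaf 0x1004d010049)))) (.node 65618 (.node 65616 (.leaf 0xe0a0002) (.node 65617 (.leaf 0x0) (.leaf 0xf0b0002))) (.node 65619 (.leaf 0x0) (.node 65620 (.leaf 0x0) (.leaf 0x307010904020802040105000b))))))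

def argWS_5812 : Store := (.node 65598 argWS_5810 argWS_5811)

def argWS_5813 : Store := (.node 65632 (.node 65626 (.node 65623 (.node 65622 (.leaf 0x0) (.leaf 0xa0001)) (.node 65624 (.leaf 0x0) (.node 65625 (.leaf 0xb0a0f0003) (.leaf 0x501020901060006)))) (.node 65629 (.node 65627 (.leaf 0x0) (.node 65628 (.leaf 0xb0f0a0a0004) (.leaf 0x0))) (.node 65630 (.leaf 0x1005c010058) (.node 65631 (.leaf 0xa0f0b0003) (.leaf 0x0))))) (.node 65638 (.node 65635 (.node 65633 (.leaf 0x20103010908050802040105000c) (.node 65634 (.leaf 0x0) (.leaf 0xf0b0b0a0a0005))) (.node 65636 (.leaf 0xb0f0a0003) (.node 65637 (.leaf 0xf0b0a0a0004) (.leaf 0x10064010063)))) (.node 65641 (.node 65639 (.leaf 0xb0b0a0003) (.node 65640 (.leaf 0x0) (.leaf 0xb0a0002))) (.node 65642 (.leaf 0x0) (.node 65643 (.leaf 0x0) (.leaf 0x1040900090202000701000a))))))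

def argWS_5814 : Store := (.node 65655 (.node 65649 (.node 65646 (.node 65645 (.leaf 0x0) (.leaf 0x0)) (.node 65647 (.leaf 0xb0f0a0a0004) (.node 65648 (.leaf 0x60003010102000008) (.leaf 0x0)))) (.node 65652 (.node 65650 (.leaf 0xf0b0a0a0004) (.node 65651 (.leaf 0x0) (.leaf 0x1007201006e))) (.node 65653 (.leaf 0xa0001) (.node 65654 (.leaf 0x0) (.leaf 0x5020102010606000703040103000d))))) (.node 65661 (.node 65658 (.node 65656 (.leaf 0x0) (.node 65657 (.leaf 0xa0a0002) (.leaf 0xd0001))) (.node 65659 (.leaf 0x5020000090206020802040105000d) (.node 65660 (.leaf 0x0) (.leaf 0xb0b0002)))) (.node 65664 (.node 65662 (.leaf 0x0) (.node 65663 (.leaf 0xe0a0002) (.leaf 0x1007e01007d))) (.node 65665 (.leaf 0xf0001) (.node 65666 (.leaf 0x0) (.leaf 0x0))))))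

def argWS_5815 : Store := (.node 65644 argWS_5813 argWS_5814)

def argWS_5816 : Store := (.node 65621 argWS_5812 argWS_5815)

def argWS_5817 : Store := (.node 65576 argWS_5809 argWS_5816)

def argWS_5818 : Store := (.node 65486 argWS_5802 argWS_5817)

def argWS_5819 : Store := (.node 65306 argWS_5787 argWS_5818)

def argWS_5820 : Store := (.node 65678 (.node 65672 (.node 65669 (.node 65668 (.leaf 0xa0f0b0003) (.leaf 0xb0b0a0003)) (.node 65670 (.leaf 0xb0a0a0003) (.node 65671 (.leaf 0x10085010084) (.leaf 0xf0b0a0a0004)))) (.node 65675 (.node 65673 (.leaf 0x0) (.node 65674 (.leaf 0xf0b0002) (.leaf 0x0))) (.node 65676 (.leaf 0x0) (.node 65677 (.leaf 0xe0a0002) (.leaf 0xa0f0b0003))))) (.node 65683 (.node 65680 (.node 65679 (.leaf 0xd0001) (.leaf 0x1008e01008d)) (.node 65681 (.leaf 0xf0b0b0a0a0005) (.node 65682 (.leaf 0x0) (.leaf 0x8000408020401050008)))) (.node 65686 (.node 65684 (.leaf 0x0) (.node 65685 (.leaf 0xa0f0002) (.leaf 0xf0a0a0003))) (.node 65687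 (.leaf 0xf0b0002) (.node 65688 (.leaf 0x1009600a368) (.leaf 0xb0b0a0003))))))

def argWS_5821 : Store := (.node 65700 (.node 65694 (.node 65691 (.node 65690 (.leaf 0x0) (.leaf 0xb0001)) (.node 65692 (.leaf 0x0) (.node 65693 (.leaf 0x0) (.leaf 0x902010400050202000701000b)))) (.node 65697 (.node 65695 (.leaf 0x0) (.node 65696 (.leaf 0xf0b0a0a0004) (.leaf 0x0))) (.node 65698 (.leaf 0x8000002010606000703040103000d) (.node 65699 (.leaf 0x0) (.leaf 0xf0b0b0003))))) (.node 65706 (.node 65703 (.node 65701 (.leaf 0x0) (.node 65702 (.leaf 0xb0b0a0003) (.leaf 0x100a50100a4))) (.node 65704 (.leaf 0xb0f0a0a0004) (.node 65705 (.leaf 0x0) (.leaf 0xb0a0a0003)))) (.node 65709 (.node 65707 (.leaf 0x0) (.node 65708 (.leaf 0x0) (.leaf 0x303090009000703040103000b))) (.node 65710 (.leaf 0x0) (.node 65711 (.leaf 0xb0a0f0003) (.leaf 0x0))))))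

def argWS_5822 : Store := (.node 65689 argWS_5820 argWS_5821)

def argWS_5823 : Store := (.node 65723 (.node 65717 (.node 65714 (.node 65713 (.leaf 0x301020703000703040103000b) (.leaf 0x0)) (.node 65715 (.leaf 0xf0b0a0003) (.node 65716 (.leaf 0x0) (.leaf 0xf9f50100b3)))) (.node 65720 (.node 65718 (.leaf 0xd0b0b0003) (.node 65719 (.leaf 0x0) (.leaf 0x300090206020802040105000c))) (.node 65721 (.leaf 0x0) (.node 65722 (.leaf 0xb0a0a0003) (.leaf 0xf0b0b0003))))) (.node 65728 (.node 65725 (.node 65724 (.leaf 0xa0f0b0b0004) (.leaf 0xe0d0002)) (.node 65726 (.leaf 0x100bc0100bb) (.node 65727 (.leaf 0xe0a0a0003) (.leaf 0x0)))) (.node 65731 (.node 65729 (.leaf 0xf0a0002) (.node 65730 (.leaf 0x0) (.leaf 0x0))) (.node 65732 (.leaf 0xd0b0002) (.node 65733 (.leaf 0xf0b0b0a0004) (.leaf 0xf0b0b0003))))))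

def argWS_5824 : Store := (.node 65745 (.node 65739 (.node 65736 (.node 65735 (.leaf 0x100c50100c4) (.leaf 0xe0a0a0003)) (.node 65737 (.leaf 0x0) (.node 65738 (.leaf 0xf0001) (.leaf 0x0)))) (.node 65742 (.node 65740 (.leaf 0x0) (.node 65741 (.leaf 0xe0001) (.leaf 0xf0b0b0a0004))) (.node 65743 (.leaf 0xf0001) (.node 65744 (.leaf 0x0) (.leaf 0x100cf0100cd))))) (.node 65751 (.node 65748 (.node 65746 (.leaf 0xf0001) (.node 65747 (.leaf 0x0) (.leaf 0x9050106060005))) (.node 65749 (.leaf 0x0) (.node 65750 (.leaf 0xb0a0a0003) (.leaf 0xa0f0b0b0004)))) (.node 65754 (.node 65752 (.leaf 0x207020603000703040103000b) (.node 65753 (.leaf 0x0) (.leaf 0xa0001))) (.node 65755 (.leaf 0x0) (.node 65756 (.leaf 0x100da) (.leaf 0xa0f0b0b0004))))))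

def argWS_5825 : Store := (.node 65734 argWS_5823 argWS_5824)

def argWS_5826 : Store := (.node 65712 argWS_5822 argWS_5825)

def argWS_5827 : Store := (.node 65768 (.node 65762 (.node 65759 (.node 65758 (.leaf 0x0) (.leaf 0xa0f0002)) (.node 65760 (.leaf 0x0) (.node 65761 (.leaf 0x0) (.leaf 0xb0f0002)))) (.node 65765 (.node 65763 (.leaf 0xe0d0002) (.node 65764 (.leaf 0x4000402090106000703040103000d) (.leaf 0x0))) (.node 65766 (.leaf 0xe0a0002) (.node 65767 (.leaf 0x0) (.leaf 0x100e60100e2))))) (.node 65773 (.node 65770 (.node 65769 (.leaf 0xf0001) (.leaf 0x0)) (.node 65771 (.leaf 0x0) (.node 65772 (.leaf 0xb0f0a0a0004) (.leaf 0x10202020901060802040105000c)))) (.node 65776 (.node 65774 (.leaf 0x0) (.node 65775 (.leaf 0x0) (.leaf 0x100ee))) (.node 65777 (.leaf 0x103080007030401030009) (.node 65778 (.leaf 0x0) (.leaf 0xa0f0b0003))))))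

def argWS_5828 : Store := (.node 65790 (.node 65784 (.node 65781 (.node 65780 (.leaf 0x0) (.leaf 0x0)) (.node 65782 (.leaf 0xb0a0002) (.node 65783 (.leaf 0xb0a0a0003) (.leaf 0x200070209020802040105000c)))) (.node 65787 (.node 65785 (.leaf 0x0) (.node 65786 (.leaf 0xe0d0002) (.leaf 0x0))) (.node 65788 (.leaf 0x100fa0100f6) (.node 65789 (.leaf 0x70101020703000703040103000c) (.leaf 0x0))))) (.node 65796 (.node 65793 (.node 65791 (.leaf 0xf0b0b0003) (.node 65792 (.leaf 0x0) (.leaf 0xa0f0b0b0004))) (.node 65794 (.leaf 0x0) (.node 65795 (.leaf 0x0) (.leaf 0xa0f0b0003)))) (.node 65799 (.node 65797 (.leaf 0xb0a0002) (.node 65798 (.leaf 0x10104) (.leaf 0xf0b0a0003))) (.node 65800 (.leaf 0x0) (.node 65801 (.leaf 0xa0f0002) (.leaf 0x0))))))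

def argWS_5829 : Store := (.node 65779 argWS_5827 argWS_5828)

def argWS_5830 : Store := (.node 65813 (.node 65807 (.node 65804 (.node 65803 (.leaf 0xe0d0002) (.leaf 0xe0a0002)) (.node 65805 (.leaf 0xe0a0a0003) (.node 65806 (.leaf 0x1010c01010b) (.leaf 0xb0f0a0003)))) (.node 65810 (.node 65808 (.leaf 0x0) (.node 65809 (.leaf 0xf0b0002) (.leaf 0x4090806000202000701000a))) (.node 65811 (.leaf 0x0) (.node 65812 (.leaf 0x0) (.leaf 0xf0b0b0a0004))))) (.node 65818 (.node 65815 (.node 65814 (.leaf 0x10114010113) (.leaf 0x401060602020007010009)) (.node 65816 (.leaf 0x0) (.node 65817 (.leaf 0xb0a0f0003) (.leaf 0x0)))) (.node 65821 (.node 65819 (.leaf 0xb0a0002) (.node 65820 (.leaf 0x0) (.leaf 0x0))) (.node 65822 (.leaf 0xb0b0a0003) (.node 65823 (.leaf 0x40004090806000802040105000c) (.leaf 0x0))))))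

def argWS_5831 : Store := (.node 65835 (.node 65829 (.node 65826 (.node 65825 (.leaf 0xa0f0b0003) (.leaf 0x0)) (.node 65827 (.leaf 0xb0a0f0003) (.node 65828 (.leaf 0x10122010121) (.leaf 0xb0f0a0a0004)))) (.node 65832 (.node 65830 (.leaf 0x0) (.node 65831 (.leaf 0xa0f0b0003) (.leaf 0x0))) (.node 65833 (.leaf 0x0) (.node 65834 (.leaf 0xa0f0002) (.leaf 0x401090000090202000701000b))))) (.node 65841 (.node 65838 (.node 65836 (.leaf 0x0) (.node 65837 (.leaf 0xf0b0a0a0004) (.leaf 0x0))) (.node 65839 (.leaf 0x1012d) (.node 65840 (.leaf 0xe0a0002) (.leaf 0x0)))) (.node 65844 (.node 65842 (.leaf 0xf0a0002) (.node 65843 (.leaf 0x0) (.leaf 0x0))) (.node 65845 (.leaf 0x40106030500040802040105000c) (.node 65846 (.leaf 0x0) (.leaf 0xb0b0a0003))))))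

def argWS_5832 : Store := (.node 65824 argWS_5830 argWS_5831)

def argWS_5833 : Store := (.node 65802 argWS_5829 argWS_5832)

def argWS_5834 : Store := (.node 65757 argWS_5826 argWS_5833)

def argWS_5835 : Store := (.node 65858 (.node 65852 (.node 65849 (.node 65848 (.leaf 0x0) (.leaf 0xe0001)) (.node 65850 (.leaf 0x8020003010102000202000701000d) (.node 65851 (.leaf 0x0) (.leaf 0xe0a0002)))) (.node 65855 (.node 65853 (.leaf 0x0) (.node 65854 (.leaf 0x1013c010138) (.leaf 0xb0b0a0a0004))) (.node 65856 (.leaf 0x0) (.node 65857 (.leaf 0xf0b0a0003) (.leaf 0x0))))) (.node 65863 (.node 65860 (.node 65859 (.leaf 0x0) (.leaf 0x3030400050202000701000a)) (.node 65861 (.leaf 0x0) (.node 65862 (.leaf 0xb0f0a0a0004) (.leaf 0x0)))) (.node 65866 (.node 65864 (.leaf 0xf0a0a0003) (.node 65865 (.leaf 0xe0d0002) (.leaf 0x10148010147))) (.node 65867 (.leaf 0xf0b0002) (.node 65868 (.leaf 0x0) (.leaf 0xe0d0002))))))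

def argWS_5836 : Store := (.node 65880 (.node 65874 (.node 65871 (.node 65870 (.leaf 0x0) (.leaf 0x0)) (.node 65872 (.leaf 0xb0a0f0003) (.node 65873 (.leaf 0xf0b0a0a0004) (.leaf 0x10150)))) (.node 65877 (.node 65875 (.leaf 0x30006010500020007) (.node 65876 (.leaf 0x0) (.leaf 0xe0001))) (.node 65878 (.leaf 0x0) (.node 65879 (.leaf 0xb0f0a0003) (.leaf 0x0))))) (.node 65886 (.node 65883 (.node 65881 (.leaf 0x0) (.node 65882 (.leaf 0xd0001) (.leaf 0x601010904020802040105000b))) (.node 65884 (.leaf 0x0) (.node 65885 (.leaf 0xf0b0a0a0004) (.leaf 0x0)))) (.node 65889 (.node 65887 (.leaf 0x1015d) (.node 65888 (.leaf 0xa0a0002) (.leaf 0x0))) (.node 65890 (.leaf 0xb0001) (.node 65891 (.leaf 0x0) (.leaf 0x0))))))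

def argWS_5837 : Store := (.node 65869 argWS_5835 argWS_5836)

def argWS_5838 : Store := (.node 65903 (.node 65897 (.node 65894 (.node 65893 (.leaf 0xa0001) (.leaf 0xa0a0002)) (.node 65895 (.leaf 0x602020106060202000701000b) (.node 65896 (.leaf 0x0) (.leaf 0xb0a0a0003)))) (.node 65900 (.node 65898 (.leaf 0x0) (.node 65899 (.leaf 0x10169010165) (.leaf 0xb0f0002))) (.node 65901 (.leaf 0x0) (.node 65902 (.leaf 0x0) (.leaf 0xd0001))))) (.node 65908 (.node 65905 (.node 65904 (.leaf 0xb0a0f0003) (.leaf 0xf0b0a0a0004)) (.node 65906 (.leaf 0x1017001016f) (.node 65907 (.leaf 0xf0b0a0003) (.leaf 0x0)))) (.node 65911 (.node 65909 (.leaf 0xe0d0002) (.node 65910 (.leaf 0x0) (.leaf 0x0))) (.node 65912 (.leaf 0xb0a0a0003) (.node 65913 (.leaf 0x801030306040202000701000b) (.leaf 0x0))))))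

def argWS_5839 : Store := (.node 65925 (.node 65919 (.node 65916 (.node 65915 (.leaf 0xf0b0a0a0004) (.leaf 0x0)) (.node 65917 (.leaf 0xf0b0002) (.node 65918 (.leaf 0x1017c01017b) (.leaf 0xb0001)))) (.node 65922 (.node 65920 (.leaf 0x0) (.node 65921 (.leaf 0xb0b0a0003) (.leaf 0x0))) (.node 65923 (.leaf 0x0) (.node 65924 (.leaf 0x4090806000802040105000b) (.leaf 0x0))))) (.node 65931 (.node 65928 (.node 65926 (.leaf 0xb0b0a0a0004) (.node 65927 (.leaf 0x0) (.leaf 0xb0f0a0a0004))) (.node 65929 (.leaf 0x403010102000006) (.node 65930 (.leaf 0x0) (.leaf 0xf0b0a0a0004)))) (.node 65934 (.node 65932 (.leaf 0x0) (.node 65933 (.leaf 0x1018b010187) (.leaf 0xb0f0a0003))) (.node 65935 (.leaf 0x0) (.node 65936 (.leaf 0xf0b0002) (.leaf 0x0))))))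

def argWS_5840 : Store := (.node 65914 argWS_5838 argWS_5839)

def argWS_5841 : Store := (.node 65892 argWS_5837 argWS_5840)

def argWS_5842 : Store := (.node 65948 (.node 65942 (.node 65939 (.node 65938 (.leaf 0x0) (.leaf 0x4030409080600000703040103000d)) (.node 65940 (.leaf 0x0) (.node 65941 (.leaf 0xa0f0002) (.leaf 0x0)))) (.node 65945 (.node 65943 (.leaf 0xe0d0002) (.node 65944 (.leaf 0x400030603050004000703040103000e) (.leaf 0x0))) (.node 65946 (.leaf 0xf0b0002) (.node 65947 (.leaf 0x0) (.leaf 0x1019a010196))))) (.node 65953 (.node 65950 (.node 65949 (.leaf 0xa0f0b0b0004) (.leaf 0x0)) (.node 65951 (.leaf 0xf0a0002) (.node 65952 (.leaf 0x0) (.leaf 0x0)))) (.node 65956 (.node 65954 (.leaf 0xa0a0002) (.node 65955 (.leaf 0xb0b0a0003) (.leaf 0x90702010606000703040103000c))) (.node 65957 (.leaf 0x0) (.node 65958 (.leaf 0xb0f0a0003) (.leaf 0x0))))))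

def argWS_5843 : Store := (.node 65970 (.node 65964 (.node 65961 (.node 65960 (.leaf 0x101a60101a2) (.leaf 0xb0b0002)) (.node 65962 (.leaf 0x0) (.node 65963 (.leaf 0xa0a0002) (.leaf 0x0)))) (.node 65967 (.node 65965 (.leaf 0x0) (.node 65966 (.leaf 0xb0b0a0a0004) (.leaf 0x2070206020007010008))) (.node 65968 (.leaf 0x0) (.node 65969 (.leaf 0xf0b0a0a0004) (.leaf 0x0))))) (.node 65976 (.node 65973 (.node 65971 (.leaf 0xf0001) (.node 65972 (.leaf 0x101b20101b1) (.leaf 0xd0b0002))) (.node 65974 (.leaf 0x0) (.node 65975 (.leaf 0x3040300000300000008) (.leaf 0x0)))) (.node 65979 (.node 65977 (.leaf 0xf0001) (.node 65978 (.leaf 0xb0b0a0a0004) (.leaf 0xf0b0a0003))) (.node 65980 (.leaf 0x101ba00dd28) (.node 65981 (.leaf 0xe0d0002) (.leaf 0x0))))))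

def argWS_5844 : Store := (.node 65959 argWS_5842 argWS_5843)

def argWS_5845 : Store := (.node 65993 (.node 65987 (.node 65984 (.node 65983 (.leaf 0xf0001) (.leaf 0x0)) (.node 65985 (.leaf 0x0) (.node 65986 (.leaf 0xf0a0a0003) (.leaf 0xe0a0002)))) (.node 65990 (.node 65988 (.leaf 0x101c2) (.node 65989 (.leaf 0x3040004080703040103000a) (.leaf 0x0))) (.node 65991 (.leaf 0xb0a0002) (.node 65992 (.leaf 0x0) (.leaf 0xb0a0002))))) (.node 65999 (.node 65996 (.node 65994 (.leaf 0x0) (.node 65995 (.leaf 0x0) (.leaf 0x502010202090000000703040103000e))) (.node 65997 (.leaf 0x0) (.node 65998 (.leaf 0xb0f0a0a0004) (.leaf 0x0)))) (.node 66002 (.node 66000 (.leaf 0x1070003010102000008) (.node 66001 (.leaf 0x0) (.leaf 0x0))) (.node 66003 (.leaf 0x107010703060202000701000b) (.node 66004 (.leaf 0x0) (.leaf 0xb0001))))))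

def argWS_5846 : Store := (.node 66016 (.node 66010 (.node 66007 (.node 66006 (.leaf 0x0) (.leaf 0x101d50101d1)) (.node 66008 (.leaf 0xf0a0a0003) (.node 66009 (.leaf 0x0) (.leaf 0x10502020703000703040103000c)))) (.node 66013 (.node 66011 (.leaf 0x0) (.node 66012 (.leaf 0xf0b0a0003) (.leaf 0x507020007010007))) (.node 66014 (.leaf 0x0) (.node 66015 (.leaf 0xe0a0a0003) (.leaf 0x0))))) (.node 66022 (.node 66019 (.node 66017 (.leaf 0x101df009dad) (.node 66018 (.leaf 0xb0b0002) (.leaf 0x0))) (.node 66020 (.leaf 0xb0b0a0003) (.node 66021 (.leaf 0x0) (.leaf 0x0)))) (.node 66025 (.node 66023 (.leaf 0x90002020900000007) (.node 66024 (.leaf 0x0) (.leaf 0x0))) (.node 66026 (.leaf 0xf0b0b0003) (.node 66027 (.leaf 0x101e90101e8) (.leaf 0xf0b0b0a0a0005))))))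

def argWS_5847 : Store := (.node 66005 argWS_5845 argWS_5846)

def argWS_5848 : Store := (.node 65982 argWS_5844 argWS_5847)

def argWS_5849 : Store := (.node 65937 argWS_5841 argWS_5848)

def argWS_5850 : Store := (.node 65847 argWS_5834 argWS_5849)

def argWS_5851 : Store := (.node 66039 (.node 66033 (.node 66030 (.node 66029 (.leaf 0x0) (.leaf 0xf0b0002)) (.node 66031 (.leaf 0x0) (.node 66032 (.leaf 0x0) (.leaf 0x4000900090202000701000a)))) (.node 66036 (.node 66034 (.leaf 0x0) (.node 66035 (.leaf 0xb0b0002) (.leaf 0x0))) (.node 66037 (.leaf 0xa0f0b0003) (.node 66038 (.leaf 0xf0001) (.leaf 0x101f50101f4))))) (.node 66044 (.node 66041 (.node 66040 (.leaf 0xb0b0a0a0004) (.leaf 0x0)) (.node 66042 (.leaf 0xe0a0a0003) (.node 66043 (.leaf 0x0) (.leaf 0x0)))) (.node 66047 (.node 66045 (.leaf 0xb0a0a0003) (.node 66046 (.leaf 0xb0f0a0003) (.leaf 0x101fd))) (.node 66048 (.leaf 0x407020007010006) (.node 66049 (.leaf 0x0) (.leaf 0xd0b0002))))))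

def argWS_5852 : Store := (.node 66061 (.node 66055 (.node 66052 (.node 66051 (.leaf 0x0) (.leaf 0xb0a0a0003)) (.node 66053 (.leaf 0x0) (.node 66054 (.leaf 0x0) (.leaf 0x800040000030000000703040103000e)))) (.node 66058 (.node 66056 (.leaf 0x0) (.node 66057 (.leaf 0xb0b0002) (.leaf 0x0))) (.node 66059 (.leaf 0xe0a0002) (.node 66060 (.leaf 0xb0b0002) (.leaf 0x1020b01020a))))) (.node 66067 (.node 66064 (.node 66062 (.leaf 0xa0f0b0003) (.node 66063 (.leaf 0x0) (.leaf 0x7050003030604000703040103000d))) (.node 66065 (.leaf 0x0) (.node 66066 (.leaf 0xb0b0a0a0004) (.leaf 0x40003010102000202000701000d)))) (.node 66070 (.node 66068 (.leaf 0x0) (.node 66069 (.leaf 0xa0a0002) (.leaf 0x0))) (.node 66071 (.leaf 0x0) (.node 66072 (.leaf 0xd0001) (.leaf 0x10217010216))))))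

def argWS_5853 : Store := (.node 66050 argWS_5851 argWS_5852)

def argWS_5854 : Store := (.node 66084 (.node 66078 (.node 66075 (.node 66074 (.leaf 0xe0001) (.leaf 0x0)) (.node 66076 (.leaf 0xe0001) (.node 66077 (.leaf 0x0) (.leaf 0x0)))) (.node 66081 (.node 66079 (.leaf 0xd0b0002) (.node 66080 (.leaf 0xa0f0b0b0004) (.leaf 0x1021f))) (.node 66082 (.leaf 0x0) (.node 66083 (.leaf 0x2090308020401050008) (.leaf 0x0))))) (.node 66089 (.node 66086 (.node 66085 (.leaf 0xf0a0a0003) (.leaf 0xa0001)) (.node 66087 (.leaf 0xb0001) (.node 66088 (.leaf 0x10226010225) (.leaf 0xe0a0002)))) (.node 66092 (.node 66090 (.leaf 0x0) (.node 66091 (.leaf 0xf0b0a0003) (.leaf 0x0))) (.node 66093 (.leaf 0x0) (.node 66094 (.leaf 0x805000207030006) (.leaf 0x0))))))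

def argWS_5855 : Store := (.node 66106 (.node 66100 (.node 66097 (.node 66096 (.leaf 0xf0b0b0a0a0005) (.leaf 0x0)) (.node 66098 (.leaf 0xa0a0002) (.node 66099 (.leaf 0x10231) (.leaf 0xb0b0a0003)))) (.node 66103 (.node 66101 (.leaf 0x0) (.node 66102 (.leaf 0x20804000202000701000a) (.leaf 0x0))) (.node 66104 (.leaf 0xf0b0b0a0a0005) (.node 66105 (.leaf 0xb0a0f0003) (.leaf 0x10238))))) (.node 66112 (.node 66109 (.node 66107 (.leaf 0x40006020007010007) (.node 66108 (.leaf 0x0) (.leaf 0xb0a0f0003))) (.node 66110 (.leaf 0x0) (.node 66111 (.leaf 0xe0a0002) (.leaf 0x0)))) (.node 66115 (.node 66113 (.leaf 0x0) (.node 66114 (.leaf 0xa0a0002) (.leaf 0xf0b0002))) (.node 66116 (.leaf 0x6050101090805000703040103000d) (.node 66117 (.leaf 0x0) (.leaf 0xf0b0b0a0a0005))))))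

def argWS_5856 : Store := (.node 66095 argWS_5854 argWS_5855)

def argWS_5857 : Store := (.node 66073 argWS_5853 argWS_5856)

def argWS_5858 : Store := (.node 66129 (.node 66123 (.node 66120 (.node 66119 (.leaf 0x0) (.leaf 0x10246010242)) (.node 66121 (.leaf 0xa0f0b0003) (.node 66122 (.leaf 0x0) (.leaf 0xb0f0a0a0004)))) (.node 66126 (.node 66124 (.leaf 0x0) (.node 66125 (.leaf 0x0) (.leaf 0xf0a0a0003))) (.node 66127 (.leaf 0xf0b0a0003) (.node 66128 (.leaf 0xf0b0b0a0004) (.leaf 0x1024f01024e))))) (.node 66134 (.node 66131 (.node 66130 (.leaf 0xb0f0002) (.leaf 0x0)) (.node 66132 (.leaf 0xb0f0a0a0004) (.node 66133 (.leaf 0x0) (.leaf 0x0)))) (.node 66137 (.node 66135 (.leaf 0xe0a0a0003) (.node 66136 (.leaf 0xd0001) (.leaf 0x10257))) (.node 66138 (.leaf 0x40304070206000202000701000c) (.node 66139 (.leaf 0x0) (.leaf 0xb0001))))))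

def argWS_5859 : Store := (.node 66151 (.node 66145 (.node 66142 (.node 66141 (.leaf 0x0) (.leaf 0xe0001)) (.node 66143 (.leaf 0x0) (.node 66144 (.leaf 0xb0f0a0003) (.leaf 0x9010400000300000202000701000d)))) (.node 66148 (.node 66146 (.leaf 0x0) (.node 66147 (.leaf 0xe0001) (.leaf 0x0))) (.node 66149 (.leaf 0x10263) (.node 66150 (.leaf 0xd0b0002) (.leaf 0x0))))) (.node 66157 (.node 66154 (.node 66152 (.leaf 0x404020703000703040103000b) (.node 66153 (.leaf 0x0) (.leaf 0xb0f0002))) (.node 66155 (.leaf 0xb0a0f0003) (.node 66156 (.leaf 0x600020703000703040103000b) (.leaf 0x0)))) (.node 66160 (.node 66158 (.leaf 0xa0f0b0003) (.node 66159 (.leaf 0x0) (.leaf 0x1026e))) (.node 66161 (.leaf 0xb0a0f0003) (.node 66162 (.leaf 0x0) (.leaf 0xf0b0b0a0004))))))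

def argWS_5860 : Store := (.node 66140 argWS_5858 argWS_5859)

def argWS_5861 : Store := (.node 66174 (.node 66168 (.node 66165 (.node 66164 (.leaf 0x0) (.leaf 0x0)) (.node 66166 (.leaf 0xb0f0a0a0004) (.node 66167 (.leaf 0xa0f0b0003) (.leaf 0x20000050206040007)))) (.node 66171 (.node 66169 (.leaf 0x0) (.node 66170 (.leaf 0xb0a0a0003) (.leaf 0x0))) (.node 66172 (.leaf 0x1027a010276) (.node 66173 (.leaf 0xa0f0002) (.leaf 0x0))))) (.node 66179 (.node 66176 (.node 66175 (.leaf 0xf0a0a0003) (.leaf 0x0)) (.node 66177 (.leaf 0x0) (.node 66178 (.leaf 0xb0b0002) (.leaf 0xb0a0f0003)))) (.node 66182 (.node 66180 (.leaf 0x3010908050802040105000b) (.node 66181 (.leaf 0x0) (.leaf 0xa0001))) (.node 66183 (.leaf 0x0) (.node 66184 (.leaf 0x10286010282) (.leaf 0xa0001))))))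

def argWS_5862 : Store := (.node 66196 (.node 66190 (.node 66187 (.node 66186 (.leaf 0x0) (.leaf 0xf0001)) (.node 66188 (.leaf 0x0) (.node 66189 (.leaf 0x0) (.leaf 0xa0f0002)))) (.node 66193 (.node 66191 (.leaf 0x600000300000007) (.node 66192 (.leaf 0x0) (.leaf 0xa0001))) (.node 66194 (.leaf 0x0) (.node 66195 (.leaf 0x1029100a61d) (.leaf 0xb0f0002))))) (.node 66202 (.node 66199 (.node 66197 (.leaf 0x0) (.node 66198 (.leaf 0xb0b0a0003) (.leaf 0x0))) (.node 66200 (.leaf 0x0) (.node 66201 (.leaf 0x6050101090402000703040103000d) (.leaf 0x0)))) (.node 66205 (.node 66203 (.leaf 0xf0b0b0003) (.node 66204 (.leaf 0x0) (.leaf 0x20005020604000703040103000c))) (.node 66206 (.leaf 0x0) (.node 66207 (.leaf 0xf0b0a0003) (.leaf 0x0))))))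

def argWS_5863 : Store := (.node 66185 argWS_5861 argWS_5862)

def argWS_5864 : Store := (.node 66163 argWS_5860 argWS_5863)

def argWS_5865 : Store := (.node 66118 argWS_5857 argWS_5864)

def argWS_5866 : Store := (.node 66219 (.node 66213 (.node 66210 (.node 66209 (.leaf 0xf0b0b0a0a0005) (.leaf 0x102a001029f)) (.node 66211 (.leaf 0x0) (.node 66212 (.leaf 0x6000703060802040105000a) (.leaf 0x0)))) (.node 66216 (.node 66214 (.leaf 0xf0b0b0003) (.node 66215 (.leaf 0xd0b0002) (.leaf 0xe0d0002))) (.node 66217 (.leaf 0x102a7) (.node 66218 (.leaf 0x90000000300000202000701000d) (.leaf 0x0))))) (.node 66224 (.node 66221 (.node 66220 (.leaf 0xa0001) (.leaf 0x0)) (.node 66222 (.leaf 0xd0b0b0003) (.node 66223 (.leaf 0x0) (.leaf 0x0)))) (.node 66227 (.node 66225 (.leaf 0xb0f0a0a0004) (.node 66226 (.leaf 0xf0b0b0a0a0005) (.leaf 0x102b1))) (.node 66228 (.leaf 0xb0b0a0003) (.node 66229 (.leaf 0x0) (.leaf 0xf0b0b0a0004))))))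

def argWS_5867 : Store := (.node 66241 (.node 66235 (.node 66232 (.node 66231 (.leaf 0x0) (.leaf 0x0)) (.node 66233 (.leaf 0x202000004080703040103000b) (.node 66234 (.leaf 0x0) (.leaf 0xb0a0a0003)))) (.node 66238 (.node 66236 (.leaf 0x0) (.node 66237 (.leaf 0x40306010500020202000701000c) (.leaf 0x0))) (.node 66239 (.leaf 0xb0b0002) (.node 66240 (.leaf 0x0) (.leaf 0x102bf))))) (.node 66247 (.node 66244 (.node 66242 (.leaf 0xb0b0a0003) (.node 66243 (.leaf 0x0) (.leaf 0xe0001))) (.node 66245 (.leaf 0x0) (.node 66246 (.leaf 0x0) (.leaf 0x80002020900000008)))) (.node 66250 (.node 66248 (.leaf 0x0) (.node 66249 (.leaf 0xd0b0b0003) (.leaf 0x0))) (.node 66251 (.leaf 0x200090109000703040103000c) (.node 66252 (.leaf 0x0) (.leaf 0x0))))))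

def argWS_5868 : Store := (.node 66230 argWS_5866 argWS_5867)

def argWS_5869 : Store := (.node 66264 (.node 66258 (.node 66255 (.node 66254 (.leaf 0x102cc) (.leaf 0xe0001)) (.node 66256 (.leaf 0x0) (.node 66257 (.leaf 0x902010400050202000701000b) (.leaf 0x0)))) (.node 66261 (.node 66259 (.leaf 0xf0b0a0a0004) (.node 66260 (.leaf 0xb0a0a0003) (.leaf 0xb0001))) (.node 66262 (.leaf 0xb0f0a0a0004) (.node 66263 (.leaf 0x102d50102d4) (.leaf 0x907070009030802040105000b))))) (.node 66269 (.node 66266 (.node 66265 (.leaf 0x0) (.leaf 0xe0001)) (.node 66267 (.leaf 0x0) (.node 66268 (.leaf 0xf0b0b0a0004) (.leaf 0x0)))) (.node 66272 (.node 66270 (.leaf 0x0) (.node 66271 (.leaf 0xb0001) (.leaf 0x206030306040202000701000b))) (.node 66273 (.leaf 0x0) (.node 66274 (.leaf 0xa0001) (.leaf 0x0))))))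

def argWS_5870 : Store := (.node 66286 (.node 66280 (.node 66277 (.node 66276 (.leaf 0x102e2) (.leaf 0x20401020703000703040103000c)) (.node 66278 (.leaf 0x0) (.node 66279 (.leaf 0xf0a0a0003) (.leaf 0x0)))) (.node 66283 (.node 66281 (.leaf 0xd0b0002) (.node 66282 (.leaf 0x0) (.leaf 0x0))) (.node 66284 (.leaf 0xf0b0a0a0004) (.node 66285 (.leaf 0xd0b0b0003) (.leaf 0xe0001))))) (.node 66292 (.node 66289 (.node 66287 (.leaf 0x102ed0102ec) (.node 66288 (.leaf 0x20601090806000007) (.leaf 0x0))) (.node 66290 (.leaf 0xf0001) (.node 66291 (.leaf 0x0) (.leaf 0xe0d0002)))) (.node 66295 (.node 66293 (.leaf 0x0) (.node 66294 (.leaf 0x0) (.leaf 0x40005000703040103000a))) (.node 66296 (.leaf 0x0) (.node 66297 (.leaf 0xe0001) (.leaf 0x0))))))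

def argWS_5871 : Store := (.node 66275 argWS_5869 argWS_5870)

def argWS_5872 : Store := (.node 66253 argWS_5868 argWS_5871)

def argWS_5873 : Store := (.node 66309 (.node 66303 (.node 66300 (.node 66299 (.leaf 0xf0b0a0003) (.leaf 0x200020804000006)) (.node 66301 (.leaf 0x0) (.node 66302 (.leaf 0xf0b0002) (.leaf 0x0)))) (.node 66306 (.node 66304 (.leaf 0x102fe0102fa) (.node 66305 (.leaf 0xf0b0b0003) (.leaf 0x0))) (.node 66307 (.leaf 0x2000202090000000703040103000d) (.node 66308 (.leaf 0x0) (.leaf 0xb0b0a0003))))) (.node 66314 (.node 66311 (.node 66310 (.leaf 0xd0001) (.leaf 0x705090806000202000701000b)) (.node 66312 (.leaf 0x0) (.node 66313 (.leaf 0xa0f0002) (.leaf 0x0)))) (.node 66317 (.node 66315 (.leaf 0xf0b0a0a0004) (.node 66316 (.leaf 0x1030a010309) (.leaf 0xe0001))) (.node 66318 (.leaf 0x0) (.node 66319 (.leaf 0xb0a0002) (.leaf 0x0))))))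

def argWS_5874 : Store := (.node 66331 (.node 66325 (.node 66322 (.node 66321 (.leaf 0x0) (.leaf 0xf0b0b0a0004)) (.node 66323 (.leaf 0xa0a0002) (.node 66324 (.leaf 0xf0b0a0003) (.leaf 0x10313010312)))) (.node 66328 (.node 66326 (.leaf 0xb0a0002) (.node 66327 (.leaf 0x0) (.leaf 0xd0001))) (.node 66329 (.leaf 0x0) (.node 66330 (.leaf 0x0) (.leaf 0xf0b0002))))) (.node 66337 (.node 66334 (.node 66332 (.leaf 0x202010703060802040105000b) (.node 66333 (.leaf 0x0) (.leaf 0x0))) (.node 66335 (.leaf 0xf0b0b0a0a0005) (.node 66336 (.leaf 0x1031e01031d) (.leaf 0xb0f0a0a0004)))) (.node 66340 (.node 66338 (.leaf 0x0) (.node 66339 (.leaf 0xa0f0b0003) (.leaf 0x0))) (.node 66341 (.leaf 0x0) (.node 66342 (.leaf 0x50201070209020202000701000c) (.leaf 0x0))))))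

def argWS_5875 : Store := (.node 66320 argWS_5873 argWS_5874)

def argWS_5876 : Store := (.node 66354 (.node 66348 (.node 66345 (.node 66344 (.leaf 0x0) (.leaf 0x6000007030401030009)) (.node 66346 (.leaf 0x0) (.node 66347 (.leaf 0xb0a0a0003) (.leaf 0x0)))) (.node 66351 (.node 66349 (.leaf 0x1032b010327) (.node 66350 (.leaf 0xf0b0b0a0a0005) (.leaf 0x0))) (.node 66352 (.leaf 0xf0a0a0003) (.node 66353 (.leaf 0x0) (.leaf 0xa0a0002))))) (.node 66360 (.node 66357 (.node 66355 (.leaf 0xa0001) (.node 66356 (.leaf 0x307000400050802040105000b) (.leaf 0x0))) (.node 66358 (.leaf 0xb0a0f0003) (.node 66359 (.leaf 0x0) (.leaf 0x10336010332)))) (.node 66363 (.node 66361 (.leaf 0xf0b0b0a0a0005) (.node 66362 (.leaf 0x0) (.leaf 0xa0f0002))) (.node 66364 (.leaf 0x0) (.node 66365 (.leaf 0x0) (.leaf 0xa0a0002))))))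

def argWS_5877 : Store := (.node 66377 (.node 66371 (.node 66368 (.node 66367 (.leaf 0x2000003010802040105000b) (.leaf 0x0)) (.node 66369 (.leaf 0x0) (.node 66370 (.leaf 0x900090806000802040105000b) (.leaf 0x0)))) (.node 66374 (.node 66372 (.leaf 0xf0b0b0a0a0005) (.node 66373 (.leaf 0x0) (.leaf 0x10344010340))) (.node 66375 (.leaf 0xf0a0002) (.node 66376 (.leaf 0x0) (.leaf 0xf0b0b0a0004))))) (.node 66383 (.node 66380 (.node 66378 (.leaf 0x0) (.node 66379 (.leaf 0x0) (.leaf 0x704020106060006))) (.node 66381 (.leaf 0x0) (.node 66382 (.leaf 0xd0b0002) (.leaf 0x0)))) (.node 66386 (.node 66384 (.leaf 0x5030308000703040103000a) (.node 66385 (.leaf 0x0) (.leaf 0xa0001))) (.node 66387 (.leaf 0x0) (.node 66388 (.leaf 0x907000408010202000701000b) (.leaf 0x0))))))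

def argWS_5878 : Store := (.node 66366 argWS_5876 argWS_5877)

def argWS_5879 : Store := (.node 66343 argWS_5875 argWS_5878)

def argWS_5880 : Store := (.node 66298 argWS_5872 argWS_5879)

def argWS_5881 : Store := (.node 66208 argWS_5865 argWS_5880)

def argWS_5882 : Store := (.node 66028 argWS_5850 argWS_5881)

def argWS_5883 : Store := (.node 65667 argWS_5819 argWS_5882)

def argWS_5884 : Store := (.node 64946 argWS_5756 argWS_5883)

def argWS_5885 : Store := (.node 66400 (.node 66394 (.node 66391 (.node 66390 (.leaf 0xf0b0b0a0a0005) (.leaf 0x0)) (.node 66392 (.leaf 0x10356010352) (.node 66393 (.leaf 0xf0001) (.leaf 0x0)))) (.node 66397 (.node 66395 (.leaf 0x9010900090802040105000a) (.node 66396 (.leaf 0x0) (.leaf 0xa0a0002))) (.node 66398 (.leaf 0xb0b0a0a0004) (.node 66399 (.leaf 0x6010200020804000802040105000d) (.leaf 0x0))))) (.node 66405 (.node 66402 (.node 66401 (.leaf 0xf0001) (.leaf 0x0)) (.node 66403 (.leaf 0xe0a0002) (.node 66404 (.leaf 0x10362010361)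 (.leaf 0xe0a0002)))) (.node 66408 (.node 66406 (.leaf 0x0) (.node 66407 (.leaf 0x4030401090402000703040103000d) (.leaf 0x0))) (.node 66409 (.leaf 0xb0a0f0003) (.node 66410 (.leaf 0xf0b0b0003) (.leaf 0x109000003010202000701000b))))))

def argWS_5886 : Store := (.node 66422 (.node 66416 (.node 66413 (.node 66412 (.leaf 0x0) (.leaf 0xf0a0a0003)) (.node 66414 (.leaf 0x0) (.node 66415 (.leaf 0xa0f0b0003) (.leaf 0x1036e01036d)))) (.node 66419 (.node 66417 (.leaf 0xb0a0f0003) (.node 66418 (.leaf 0x0) (.leaf 0xf0a0a0003))) (.node 66420 (.leaf 0x0) (.node 66421 (.leaf 0x0) (.leaf 0xb0a0a0003))))) (.node 66428 (.node 66425 (.node 66423 (.leaf 0x9020804000202000701000a) (.node 66424 (.leaf 0x0) (.leaf 0xb0f0a0a0004))) (.node 66426 (.leaf 0x0) (.node 66427 (.leaf 0x10379) (.leaf 0xb0b0a0003)))) (.node 66431 (.node 66429 (.leaf 0x0) (.node 66430 (.leaf 0x904020007030401030009) (.leaf 0x0))) (.node 66432 (.leaf 0xf0b0a0003) (.node 66433 (.leaf 0xf0a0a0003) (.leaf 0xd0b0002))))))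

def argWS_5887 : Store := (.node 66411 argWS_5885 argWS_5886)

def argWS_5888 : Store := (.node 66445 (.node 66439 (.node 66436 (.node 66435 (.leaf 0x10381) (.leaf 0xb0a0a0003)) (.node 66437 (.leaf 0x0) (.node 66438 (.leaf 0xf0b0a0a0004) (.leaf 0x0)))) (.node 66442 (.node 66440 (.leaf 0x0) (.node 66441 (.leaf 0x30700070209020802040105000c) (.leaf 0x0))) (.node 66443 (.leaf 0xa0f0002) (.node 66444 (.leaf 0x0) (.leaf 0x300070206000202000701000b))))) (.node 66450 (.node 66447 (.node 66446 (.leaf 0x0) (.leaf 0xd0b0b0003)) (.node 66448 (.leaf 0x0) (.node 66449 (.leaf 0xf0a0a0003) (.leaf 0x1039001038f)))) (.node 66453 (.node 66451 (.leaf 0xf0b0a0a0004) (.node 66452 (.leaf 0x0) (.leaf 0x902010901090202000701000b))) (.node 66454 (.leaf 0x0) (.node 66455 (.leaf 0xb0a0f0003) (.leaf 0xb0a0f0003))))))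

def argWS_5889 : Store := (.node 66467 (.node 66461 (.node 66458 (.node 66457 (.leaf 0xe0a0a0003) (.leaf 0x10398)) (.node 66459 (.leaf 0xb0b0a0003) (.node 66460 (.leaf 0x0) (.leaf 0xa0f0002)))) (.node 66464 (.node 66462 (.leaf 0x0) (.node 66463 (.leaf 0x0) (.leaf 0x800040400050202000701000b))) (.node 66465 (.leaf 0x0) (.node 66466 (.leaf 0xb0b0a0a0004) (.leaf 0x0))))) (.node 66473 (.node 66470 (.node 66468 (.leaf 0x6010904020802040105000b) (.node 66469 (.leaf 0x0) (.leaf 0xf0b0002))) (.node 66471 (.leaf 0x0) (.node 66472 (.leaf 0x103a6) (.leaf 0xe0a0002)))) (.node 66476 (.node 66474 (.leaf 0x0) (.node 66475 (.leaf 0xf0a0002) (.leaf 0x0))) (.node 66477 (.leaf 0x0) (.node 66478 (.leaf 0xb0a0002) (.leaf 0xd0b0002))))))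

def argWS_5890 : Store := (.node 66456 argWS_5888 argWS_5889)

def argWS_5891 : Store := (.node 66434 argWS_5887 argWS_5890)

def argWS_5892 : Store := (.node 66490 (.node 66484 (.node 66481 (.node 66480 (.leaf 0xf0b0a0a0004) (.leaf 0x103af0103ae)) (.node 66482 (.leaf 0xa0f0b0003) (.node 66483 (.leaf 0x0) (.leaf 0xf0b0002)))) (.node 66487 (.node 66485 (.leaf 0x0) (.node 66486 (.leaf 0x0) (.leaf 0xf0b0b0a0004))) (.node 66488 (.leaf 0xb0a0a0003) (.node 66489 (.leaf 0xf0a0a0003) (.leaf 0x103b80103b7))))) (.node 66495 (.node 66492 (.node 66491 (.leaf 0xf0a0002) (.leaf 0x0)) (.node 66493 (.leaf 0xb0a0f0003) (.node 66494 (.leaf 0x0) (.leaf 0xa0f0b0b0004)))) (.node 66498 (.node 66496 (.leaf 0x400090000090202000701000c) (.node 66497 (.leaf 0x0) (.leaf 0x0))) (.node 66499 (.leaf 0x5020101070306000703040103000d) (.node 66500 (.leaf 0x0) (.leaf 0xf0b0a0a0004))))))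

def argWS_5893 : Store := (.node 66512 (.node 66506 (.node 66503 (.node 66502 (.leaf 0x0) (.leaf 0x103c50103c1)) (.node 66504 (.leaf 0xf0b0a0a0004) (.node 66505 (.leaf 0x0) (.leaf 0x107020901060802040105000b)))) (.node 66509 (.node 66507 (.leaf 0x0) (.node 66508 (.leaf 0xf0a0a0003) (.leaf 0xe0a0a0003))) (.node 66510 (.leaf 0xb0b0a0a0004) (.node 66511 (.leaf 0xe0a0002) (.leaf 0x103ce0103cd))))) (.node 66518 (.node 66515 (.node 66513 (.leaf 0x800020703000703040103000b) (.node 66514 (.leaf 0x0) (.leaf 0xb0b0a0003))) (.node 66516 (.leaf 0x0) (.node 66517 (.leaf 0xf0b0a0a0004) (.leaf 0x0)))) (.node 66521 (.node 66519 (.leaf 0x0) (.node 66520 (.leaf 0xb0f0a0a0004) (.leaf 0x400020703000703040103000b))) (.node 66522 (.leaf 0x0) (.node 66523 (.leaf 0xf0b0b0a0004) (.leaf 0x0))))))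

def argWS_5894 : Store := (.node 66501 argWS_5892 argWS_5893)

def argWS_5895 : Store := (.node 66535 (.node 66529 (.node 66526 (.node 66525 (.leaf 0x103db009642) (.leaf 0xf0b0b0003)) (.node 66527 (.leaf 0x0) (.node 66528 (.leaf 0xa0f0002) (.leaf 0x0)))) (.node 66532 (.node 66530 (.leaf 0x0) (.node 66531 (.leaf 0x60401060207020703040103000c) (.leaf 0x0))) (.node 66533 (.leaf 0xb0b0002) (.node 66534 (.leaf 0x0) (.leaf 0x608020401050007))))) (.node 66540 (.node 66537 (.node 66536 (.leaf 0x0) (.leaf 0xf0b0b0a0a0005)) (.node 66538 (.leaf 0x0) (.node 66539 (.leaf 0x103e9004f79) (.leaf 0xf0b0a0a0004)))) (.node 66543 (.node 66541 (.leaf 0x0) (.node 66542 (.leaf 0x5000006020702010202000701000d) (.leaf 0x0))) (.node 66544 (.leaf 0xf0b0b0003) (.node 66545 (.leaf 0xa0f0b0003) (.leaf 0xf0b0b0a0a0005))))))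

def argWS_5896 : Store := (.node 66557 (.node 66551 (.node 66548 (.node 66547 (.leaf 0xd0b0b0003) (.leaf 0x103f20103f1)) (.node 66549 (.leaf 0xa0a0002) (.node 66550 (.leaf 0x0) (.leaf 0xf0b0a0003)))) (.node 66554 (.node 66552 (.leaf 0x0) (.node 66553 (.leaf 0x0) (.leaf 0xf0001))) (.node 66555 (.leaf 0xf0b0b0a0004) (.node 66556 (.leaf 0x8000207030802040105000b) (.leaf 0x0))))) (.node 66563 (.node 66560 (.node 66558 (.leaf 0xa0001) (.node 66559 (.leaf 0x0) (.leaf 0x103fe0103fa))) (.node 66561 (.leaf 0x20904020202000701000a) (.node 66562 (.leaf 0x0) (.leaf 0xf0a0a0003)))) (.node 66566 (.node 66564 (.leaf 0x0) (.node 66565 (.leaf 0xb0b0a0a0004) (.leaf 0x0))) (.node 66567 (.leaf 0x0) (.node 66568 (.leaf 0xf0b0002) (.leaf 0x40105020202010802040105000c))))))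

def argWS_5897 : Store := (.node 66546 argWS_5895 argWS_5896)

def argWS_5898 : Store := (.node 66524 argWS_5894 argWS_5897)

def argWS_5899 : Store := (.node 66479 argWS_5891 argWS_5898)

def argWS_5900 : Store := (.node 66580 (.node 66574 (.node 66571 (.node 66570 (.leaf 0x0) (.leaf 0xe0d0002)) (.node 66572 (.leaf 0x0) (.node 66573 (.leaf 0x1040b010407) (.leaf 0x101090805000703040103000b)))) (.node 66577 (.node 66575 (.leaf 0x0) (.node 66576 (.leaf 0xb0f0a0003) (.leaf 0x0))) (.node 66578 (.leaf 0xb0f0a0003) (.node 66579 (.leaf 0x0) (.leaf 0x0))))) (.node 66585 (.node 66582 (.node 66581 (.leaf 0x10908050004) (.leaf 0x0)) (.node 66583 (.leaf 0xb0b0a0a0004) (.node 66584 (.leaf 0x0) (.leaf 0x1010904020005)))) (.node 66588 (.node 66586 (.leaf 0x0) (.node 66587 (.leaf 0xe0a0002) (.leaf 0x0))) (.node 66589 (.leaf 0xb0001) (.node 66590 (.leaf 0x1041c01041b) (.leaf 0xf0b0b0a0a0005))))))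

def argWS_5901 : Store := (.node 66602 (.node 66596 (.node 66593 (.node 66592 (.leaf 0x0) (.leaf 0x40300050206040202000701000c)) (.node 66594 (.leaf 0x0) (.node 66595 (.leaf 0xf0b0b0003) (.leaf 0xb0f0002)))) (.node 66599 (.node 66597 (.leaf 0xf3c1) (.node 66598 (.leaf 0xf0a0a0003) (.leaf 0x0))) (.node 66600 (.leaf 0x70000090806000202000701000c) (.node 66601 (.leaf 0x0) (.leaf 0xd0b0b0003))))) (.node 66608 (.node 66605 (.node 66603 (.leaf 0xd0b0002) (.node 66604 (.leaf 0xb0a0002) (.leaf 0x0))) (.node 66606 (.leaf 0x1042c) (.node 66607 (.leaf 0xf0b0b0a0004) (.leaf 0x0)))) (.node 66611 (.node 66609 (.leaf 0xf0b0b0003) (.node 66610 (.leaf 0x0) (.leaf 0x0))) (.node 66612 (.leaf 0xf0b0b0a0004) (.node 66613 (.leaf 0xb0b0a0003) (.leaf 0x10434010433))))))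

def argWS_5902 : Store := (.node 66591 argWS_5900 argWS_5901)

def argWS_5903 : Store := (.node 66625 (.node 66619 (.node 66616 (.node 66615 (.leaf 0xb0f0002) (.leaf 0x0)) (.node 66617 (.leaf 0xd0b0002) (.node 66618 (.leaf 0x0) (.leaf 0x0)))) (.node 66622 (.node 66620 (.leaf 0xb0f0002) (.node 66621 (.leaf 0x20601020703000703040103000c) (.leaf 0x0))) (.node 66623 (.leaf 0xb0a0002) (.node 66624 (.leaf 0x0) (.leaf 0xf0b0002))))) (.node 66630 (.node 66627 (.node 66626 (.leaf 0x1044001043f) (.leaf 0xb0001)) (.node 66628 (.leaf 0x0) (.node 66629 (.leaf 0xb0001) (.leaf 0x0)))) (.node 66633 (.node 66631 (.leaf 0x0) (.node 66632 (.leaf 0xb0b0002) (.leaf 0xf0b0002))) (.node 66634 (.leaf 0x10448) (.node 66635 (.leaf 0xf0b0a0003) (.leaf 0x0))))))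

def argWS_5904 : Store := (.node 66647 (.node 66641 (.node 66638 (.node 66637 (.leaf 0x30000000703040103000d) (.leaf 0x0)) (.node 66639 (.leaf 0xf0b0b0003) (.node 66640 (.leaf 0xb0001) (.leaf 0xf0001)))) (.node 66644 (.node 66642 (.leaf 0xf0a0a0003) (.node 66643 (.leaf 0x10451010450) (.leaf 0xb0b0002))) (.node 66645 (.leaf 0x0) (.node 66646 (.leaf 0xb0a0a0003) (.leaf 0xb0a0002))))) (.node 66653 (.node 66650 (.node 66648 (.leaf 0x10456) (.node 66649 (.leaf 0xf0b0a0003) (.leaf 0x0))) (.node 66651 (.leaf 0xf0b0b0a0a0005) (.node 66652 (.leaf 0x0) (.leaf 0x0)))) (.node 66656 (.node 66654 (.leaf 0x50000050206040202000701000c) (.node 66655 (.leaf 0x0) (.leaf 0xf0b0a0003))) (.node 66657 (.leaf 0x0) (.node 66658 (.leaf 0x60005020604000703040103000c) (.leaf 0x0))))))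

def argWS_5905 : Store := (.node 66636 argWS_5903 argWS_5904)

def argWS_5906 : Store := (.node 66614 argWS_5902 argWS_5905)

def argWS_5907 : Store := (.node 66670 (.node 66664 (.node 66661 (.node 66660 (.leaf 0xf0a0002) (.leaf 0x0)) (.node 66662 (.leaf 0x603010102000802040105000c) (.node 66663 (.leaf 0x0) (.leaf 0xb0b0002)))) (.node 66667 (.node 66665 (.leaf 0x0) (.node 66666 (.leaf 0x10468010464) (.leaf 0xb0001))) (.node 66668 (.leaf 0x0) (.node 66669 (.leaf 0x1020102020007010008) (.leaf 0x0))))) (.node 66675 (.node 66672 (.node 66671 (.leaf 0xf0b0b0a0a0005) (.leaf 0xf0a0002)) (.node 66673 (.leaf 0xf0a0002) (.node 66674 (.leaf 0x602080400000703040103000b) (.leaf 0x0)))) (.node 66678 (.node 66676 (.leaf 0xb0b0002) (.node 66677 (.leaf 0x0) (.leaf 0x10474010470))) (.node 66679 (.leaf 0xb0f0002) (.node 66680 (.leaf 0x0) (.leaf 0x40703060802040105000a))))))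

def argWS_5908 : Store := (.node 66692 (.node 66686 (.node 66683 (.node 66682 (.leaf 0x0) (.leaf 0xf0b0b0003)) (.node 66684 (.leaf 0x0) (.node 66685 (.leaf 0x90104000408010007) (.leaf 0x0)))) (.node 66689 (.node 66687 (.leaf 0xf0001) (.node 66688 (.leaf 0x0) (.leaf 0x1047f01047b))) (.node 66690 (.leaf 0xa0f0b0b0004) (.node 66691 (.leaf 0x0) (.leaf 0xa0f0b0b0004))))) (.node 66698 (.node 66695 (.node 66693 (.leaf 0x0) (.node 66694 (.leaf 0x0) (.leaf 0xe0a0002))) (.node 66696 (.leaf 0xb0b0a0a0004) (.node 66697 (.leaf 0xa0f0b0b0004) (.leaf 0x10488010487)))) (.node 66701 (.node 66699 (.leaf 0xb0b0a0a0004) (.node 66700 (.leaf 0x0) (.leaf 0xb0b0a0003))) (.node 66702 (.leaf 0x0) (.node 66703 (.leaf 0x0) (.leaf 0xa0f0002))))))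

def argWS_5909 : Store := (.node 66681 argWS_5907 argWS_5908)

def argWS_5910 : Store := (.node 66715 (.node 66709 (.node 66706 (.node 66705 (.leaf 0xf0b0a0a0004) (.leaf 0x1049000c695)) (.node 66707 (.leaf 0xb0f0002) (.node 66708 (.leaf 0x0) (.leaf 0xa0001)))) (.node 66712 (.node 66710 (.leaf 0x0) (.node 66711 (.leaf 0x0) (.leaf 0xa0f0b0003))) (.node 66713 (.leaf 0x907030007030401030009) (.node 66714 (.leaf 0x0) (.leaf 0xa0f0002))))) (.node 66720 (.node 66717 (.node 66716 (.leaf 0x0) (.leaf 0x1049b)) (.node 66718 (.leaf 0xb0f0002) (.node 66719 (.leaf 0x0) (.leaf 0xf0b0a0003)))) (.node 66723 (.node 66721 (.leaf 0x0) (.node 66722 (.leaf 0x0) (.leaf 0xf0b0a0a0004))) (.node 66724 (.leaf 0xa9d2) (.node 66725 (.leaf 0x0) (.leaf 0xf0b0b0a0a0005))))))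

def argWS_5911 : Store := (.node 66737 (.node 66731 (.node 66728 (.node 66727 (.leaf 0x0) (.leaf 0xf0b0b0003)) (.node 66729 (.leaf 0x0) (.node 66730 (.leaf 0x0) (.leaf 0x10106030500040007)))) (.node 66734 (.node 66732 (.leaf 0x0) (.node 66733 (.leaf 0xe0d0002) (.leaf 0x0))) (.node 66735 (.leaf 0xa0f0b0b0004) (.node 66736 (.leaf 0x104ae008c8d) (.leaf 0xb0f0a0a0004))))) (.node 66743 (.node 66740 (.node 66738 (.leaf 0x0) (.node 66739 (.leaf 0xe0a0a0003) (.leaf 0x0))) (.node 66741 (.leaf 0x0) (.node 66742 (.leaf 0xf0001) (.leaf 0xf0b0b0a0a0005)))) (.node 66746 (.node 66744 (.leaf 0x300040807030401030009) (.node 66745 (.leaf 0x0) (.leaf 0xd0001))) (.node 66747 (.leaf 0x0) (.node 66748 (.leaf 0x104ba0104b6) (.leaf 0x0))))))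

def argWS_5912 : Store := (.node 66726 argWS_5910 argWS_5911)

def argWS_5913 : Store := (.node 66704 argWS_5909 argWS_5912)

def argWS_5914 : Store := (.node 66659 argWS_5906 argWS_5913)

def argWS_5915 : Store := (.node 66569 argWS_5899 argWS_5914)

def argWS_5916 : Store := (.node 66760 (.node 66754 (.node 66751 (.node 66750 (.leaf 0xb0f0a0a0004) (.leaf 0x0)) (.node 66752 (.leaf 0xf0b0b0a0004) (.node 66753 (.leaf 0x0) (.leaf 0x0)))) (.node 66757 (.node 66755 (.leaf 0xd0b0002) (.node 66756 (.leaf 0xe0d0002) (.leaf 0x70000030306040202000701000c))) (.node 66758 (.leaf 0x0) (.node 66759 (.leaf 0xb0b0a0003) (.leaf 0x0))))) (.node 66765 (.node 66762 (.node 66761 (.leaf 0x104c70104c3) (.leaf 0xa0a0002)) (.node 66763 (.leaf 0x0) (.node 66764 (.leaf 0xa0f0b0003) (.leaf 0x0)))) (.node 66768 (.node 66766 (.leaf 0x0) (.node 66767 (.leaf 0xa0f0002) (.leaf 0x901090402000703040103000b))) (.node 66769 (.leaf 0x0) (.node 66770 (.leaf 0x0) (.leaf 0xa0f0b0003))))))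

def argWS_5917 : Store := (.node 66782 (.node 66776 (.node 66773 (.node 66772 (.leaf 0x104d20104d1) (.leaf 0xf0b0a0a0004)) (.node 66774 (.leaf 0x0) (.node 66775 (.leaf 0xd0b0b0003) (.leaf 0x0)))) (.node 66779 (.node 66777 (.leaf 0x0) (.node 66778 (.leaf 0xf0a0002) (.leaf 0xb0a0002))) (.node 66780 (.leaf 0x104da) (.node 66781 (.leaf 0xf0b0b0003) (.leaf 0x0))))) (.node 66788 (.node 66785 (.node 66783 (.leaf 0xa0001) (.node 66784 (.leaf 0x0) (.leaf 0x0))) (.node 66786 (.leaf 0x107070009020007010009) (.node 66787 (.leaf 0x0) (.leaf 0xb0a0a0003)))) (.node 66791 (.node 66789 (.leaf 0x0) (.node 66790 (.leaf 0xa0001) (.leaf 0xd0001))) (.node 66792 (.leaf 0x104e60104e5) (.node 66793 (.leaf 0xa0f0b0b0004) (.leaf 0x0))))))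

def argWS_5918 : Store := (.node 66771 argWS_5916 argWS_5917)

def argWS_5919 : Store := (.node 66805 (.node 66799 (.node 66796 (.node 66795 (.leaf 0x702090806000202000701000b) (.leaf 0x0)) (.node 66797 (.leaf 0xf0b0002) (.node 66798 (.leaf 0xf0b0b0a0004) (.leaf 0x206010206020007010009)))) (.node 66802 (.node 66800 (.leaf 0x0) (.node 66801 (.leaf 0xf0b0a0a0004) (.leaf 0x0))) (.node 66803 (.leaf 0xf0b0b0a0004) (.node 66804 (.leaf 0x104f20104f1) (.leaf 0xf0b0a0003))))) (.node 66810 (.node 66807 (.node 66806 (.leaf 0x0) (.leaf 0xe0a0a0003)) (.node 66808 (.leaf 0x0) (.node 66809 (.leaf 0x0) (.leaf 0xb0001)))) (.node 66813 (.node 66811 (.leaf 0xf0b0002) (.node 66812 (.leaf 0x8010106020702010802040105000d) (.leaf 0x0))) (.node 66814 (.leaf 0xb0b0a0003) (.node 66815 (.leaf 0x0) (.leaf 0x104fe0104fa))))))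

def argWS_5920 : Store := (.node 66827 (.node 66821 (.node 66818 (.node 66817 (.leaf 0xe0a0a0003) (.leaf 0x0)) (.node 66819 (.leaf 0x2000003010102000202000701000d) (.node 66820 (.leaf 0x0) (.leaf 0xa0f0b0003)))) (.node 66824 (.node 66822 (.leaf 0xf0a0002) (.node 66823 (.leaf 0x2a80002347) (.leaf 0xb0f0002))) (.node 66825 (.leaf 0x0) (.node 66826 (.leaf 0xd0001) (.leaf 0x0))))) (.node 66833 (.node 66830 (.node 66828 (.leaf 0x0) (.node 66829 (.leaf 0xd0001) (.leaf 0x605020202010202000701000c))) (.node 66831 (.leaf 0x0) (.node 66832 (.leaf 0xb0a0002) (.leaf 0x0)))) (.node 66836 (.node 66834 (.leaf 0x10510009dae) (.node 66835 (.leaf 0xe0a0002) (.leaf 0x0))) (.node 66837 (.leaf 0xb0a0002) (.node 66838 (.leaf 0x0) (.leaf 0x0))))))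

def argWS_5921 : Store := (.node 66816 argWS_5919 argWS_5920)

def argWS_5922 : Store := (.node 66794 argWS_5918 argWS_5921)

def argWS_5923 : Store := (.node 66850 (.node 66844 (.node 66841 (.node 66840 (.leaf 0xd0b0b0003) (.leaf 0x1020003030604000703040103000d)) (.node 66842 (.leaf 0x0) (.node 66843 (.leaf 0xb0b0a0003) (.leaf 0x0)))) (.node 66847 (.node 66845 (.leaf 0xb0a0f0003) (.node 66846 (.leaf 0x1051c01051b) (.leaf 0xd0001))) (.node 66848 (.leaf 0x0) (.node 66849 (.leaf 0xf0b0a0a0004) (.leaf 0x0))))) (.node 66855 (.node 66852 (.node 66851 (.leaf 0x0) (.leaf 0xf0001)) (.node 66853 (.leaf 0x906090009000703040103000b) (.node 66854 (.leaf 0x0) (.leaf 0xf0b0b0a0004)))) (.node 66858 (.node 66856 (.leaf 0x0) (.node 66857 (.leaf 0x7030608020401050009) (.leaf 0x0))) (.node 66859 (.leaf 0xb0f0002) (.node 66860 (.leaf 0x0) (.leaf 0x1052b010527))))))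

def argWS_5924 : Store := (.node 66872 (.node 66866 (.node 66863 (.node 66862 (.leaf 0xe0a0a0003) (.leaf 0x0)) (.node 66864 (.leaf 0xe0a0a0003) (.node 66865 (.leaf 0x0) (.leaf 0xe0001)))) (.node 66869 (.node 66867 (.leaf 0xa0a0002) (.node 66868 (.leaf 0x10532000e9d) (.leaf 0x0))) (.node 66870 (.leaf 0xa0f0b0b0004) (.node 66871 (.leaf 0x0) (.leaf 0x0))))) (.node 66878 (.node 66875 (.node 66873 (.leaf 0xf0b0a0a0004) (.node 66874 (.leaf 0xf0001) (.leaf 0xf0b0b0a0a0005))) (.node 66876 (.leaf 0x1053a010539) (.node 66877 (.leaf 0x6020006030500040202000701000d) (.leaf 0x0)))) (.node 66881 (.node 66879 (.leaf 0xd0b0002) (.node 66880 (.leaf 0x0) (.leaf 0xf0b0002))) (.node 66882 (.leaf 0x0) (.node 66883 (.leaf 0x0) (.leaf 0x1020802020007010008))))))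

def argWS_5925 : Store := (.node 66861 argWS_5923 argWS_5924)

def argWS_5926 : Store := (.node 66895 (.node 66889 (.node 66886 (.node 66885 (.leaf 0x0) (.leaf 0xa0f0002)) (.node 66887 (.leaf 0x0) (.node 66888 (.leaf 0xe0a0a0003) (.leaf 0x10547010546)))) (.node 66892 (.node 66890 (.leaf 0xb0b0a0003) (.node 66891 (.leaf 0x0) (.leaf 0x103070209020202000701000b))) (.node 66893 (.leaf 0x0) (.node 66894 (.leaf 0xf0b0002) (.leaf 0xb0a0f0003))))) (.node 66900 (.node 66897 (.node 66896 (.leaf 0xa0f0b0b0004) (.leaf 0xe0001)) (.node 66898 (.leaf 0x1055001054f) (.node 66899 (.leaf 0xf0b0b0003) (.leaf 0x0)))) (.node 66903 (.node 66901 (.leaf 0xf0b0a0003) (.node 66902 (.leaf 0x0) (.leaf 0x0))) (.node 66904 (.leaf 0xa0a0002) (.node 66905 (.leaf 0xd0b0002) (.leaf 0xb0b0a0003))))))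

def argWS_5927 : Store := (.node 66917 (.node 66911 (.node 66908 (.node 66907 (.leaf 0x10559010558) (.leaf 0xf0001)) (.node 66909 (.leaf 0x0) (.node 66910 (.leaf 0xf0a0a0003) (.leaf 0x0)))) (.node 66914 (.node 66912 (.leaf 0x0) (.node 66913 (.leaf 0xb0001) (.leaf 0x3070000090206020202000701000d))) (.node 66915 (.leaf 0x0) (.node 66916 (.leaf 0xa0f0b0b0004) (.leaf 0x0))))) (.node 66923 (.node 66920 (.node 66918 (.leaf 0x10564006692) (.node 66919 (.leaf 0xf0b0b0a0a0005) (.leaf 0x0))) (.node 66921 (.leaf 0x90000090206020008) (.node 66922 (.leaf 0x0) (.leaf 0xb0f0002)))) (.node 66926 (.node 66924 (.leaf 0x2060101090402000703040103000d) (.node 66925 (.leaf 0x0) (.leaf 0xa0f0002))) (.node 66927 (.leaf 0x0) (.node 66928 (.leaf 0xd0b0b0003) (.leaf 0x606030306040202000701000b))))))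

def argWS_5928 : Store := (.node 66906 argWS_5926 argWS_5927)

def argWS_5929 : Store := (.node 66884 argWS_5925 argWS_5928)

def argWS_5930 : Store := (.node 66839 argWS_5922 argWS_5929)

def argWS_5931 : Store := (.node 66940 (.node 66934 (.node 66931 (.node 66930 (.leaf 0x0) (.leaf 0xb0a0002)) (.node 66932 (.leaf 0x0) (.node 66933 (.leaf 0x1057301056f) (.leaf 0xe0a0a0003)))) (.node 66937 (.node 66935 (.leaf 0x0) (.node 66936 (.leaf 0xe0a0a0003) (.leaf 0x0))) (.node 66938 (.leaf 0x206090806000006) (.node 66939 (.leaf 0x0) (.leaf 0xb0f0002))))) (.node 66945 (.node 66942 (.node 66941 (.leaf 0x0) (.leaf 0xa0f0002)) (.node 66943 (.leaf 0xf0a0a0003) (.node 66944 (.leaf 0x1057e01057d) (.leaf 0xa0001)))) (.node 66948 (.node 66946 (.leaf 0x0) (.node 66947 (.leaf 0x4010908050006) (.leaf 0x0))) (.node 66949 (.leaf 0xa0f0b0003) (.node 66950 (.leaf 0x400040400050202000701000b) (.leaf 0x0))))))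

def argWS_5932 : Store := (.node 66962 (.node 66956 (.node 66953 (.node 66952 (.leaf 0xf0b0b0a0004) (.leaf 0x0)) (.node 66954 (.leaf 0x2000009080600000703040103000d) (.node 66955 (.leaf 0x0) (.leaf 0xb0f0a0a0004)))) (.node 66959 (.node 66957 (.leaf 0x0) (.node 66958 (.leaf 0x1058c) (.leaf 0xa0f0b0003))) (.node 66960 (.leaf 0x0) (.node 66961 (.leaf 0x50306030500040202000701000d) (.leaf 0x0))))) (.node 66968 (.node 66965 (.node 66963 (.leaf 0xb0f0002) (.node 66964 (.leaf 0x700000901090202000701000b) (.leaf 0x0))) (.node 66966 (.leaf 0x0) (.node 66967 (.leaf 0xa0f0b0b0004) (.leaf 0x10596010595)))) (.node 66971 (.node 66969 (.leaf 0xb0a0f0003) (.node 66970 (.leaf 0x0) (.leaf 0xb0001))) (.node 66972 (.leaf 0x0) (.node 66973 (.leaf 0x0) (.leaf 0x10708020401050007))))))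

def argWS_5933 : Store := (.node 66951 argWS_5931 argWS_5932)

def argWS_5934 : Store := (.node 66985 (.node 66979 (.node 66976 (.node 66975 (.leaf 0x0) (.leaf 0xb0b0002)) (.node 66977 (.leaf 0x0) (.node 66978 (.leaf 0x8000006020702010802040105000d) (.leaf 0x0)))) (.node 66982 (.node 66980 (.leaf 0xe0a0002) (.node 66981 (.leaf 0x0) (.leaf 0x105a4))) (.node 66983 (.leaf 0xe0a0002) (.node 66984 (.leaf 0x0) (.leaf 0x20603050004000703040103000c))))) (.node 66990 (.node 66987 (.node 66986 (.leaf 0x0) (.leaf 0xb0f0002)) (.node 66988 (.leaf 0xd0b0b0003) (.node 66989 (.leaf 0xf0b0a0a0004) (.leaf 0xe0a0002)))) (.node 66993 (.node 66991 (.leaf 0x105ad0105ac) (.node 66992 (.leaf 0x10900090004) (.leaf 0x0))) (.node 66994 (.leaf 0xb0a0a0003) (.node 66995 (.leaf 0x0) (.leaf 0xa0001))))))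

def argWS_5935 : Store := (.node 67007 (.node 67001 (.node 66998 (.node 66997 (.leaf 0x0) (.leaf 0x0)) (.node 66999 (.leaf 0x0) (.node 67000 (.leaf 0x0) (.leaf 0x0)))) (.node 67004 (.node 67002 (.leaf 0xf0b0002) (.node 67003 (.leaf 0x202000900090006) (.leaf 0x0))) (.node 67005 (.leaf 0xf0b0a0003) (.node 67006 (.leaf 0x0) (.leaf 0x20403090000090802040105000c))))) (.node 67013 (.node 67010 (.node 67008 (.leaf 0x0) (.node 67009 (.leaf 0xb0001) (.leaf 0x0))) (.node 67011 (.leaf 0x105c10105bd) (.node 67012 (.leaf 0x204030007030401030009) (.leaf 0x0)))) (.node 67016 (.node 67014 (.leaf 0xf0b0b0003) (.node 67015 (.leaf 0x0) (.leaf 0xd0b0b0003))) (.node 67017 (.leaf 0x0) (.node 67018 (.leaf 0x0) (.leaf 0xf0b0b0a0004))))))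

def argWS_5936 : Store := (.node 66996 argWS_5934 argWS_5935)

def argWS_5937 : Store := (.node 66974 argWS_5933 argWS_5936)

def argWS_5938 : Store := (.node 67030 (.node 67024 (.node 67021 (.node 67020 (.leaf 0x10202010703060202000701000c) (.leaf 0x0)) (.node 67022 (.leaf 0xf0b0b0003) (.node 67023 (.leaf 0x0) (.leaf 0xd0b0002)))) (.node 67027 (.node 67025 (.leaf 0x105cf0105ce) (.node 67026 (.leaf 0x80300000408010802040105000c) (.leaf 0x0))) (.node 67028 (.leaf 0xa0001) (.node 67029 (.leaf 0x0) (.leaf 0xe0d0002))))) (.node 67035 (.node 67032 (.node 67031 (.leaf 0x0) (.leaf 0x0)) (.node 67033 (.leaf 0xe0d0002) (.node 67034 (.leaf 0xb0f0a0003) (.leaf 0xd0b0002)))) (.node 67038 (.node 67036 (.leaf 0xb0b0002) (.node 67037 (.leaf 0x105db0105da) (.leaf 0x20502010908050202000701000c))) (.node 67039 (.leaf 0x0) (.node 67040 (.leaf 0x0) (.leaf 0xa0f0b0003))))))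

def argWS_5939 : Store := (.node 67052 (.node 67046 (.node 67043 (.node 67042 (.leaf 0x0) (.leaf 0x0)) (.node 67044 (.leaf 0xb0b0002) (.node 67045 (.leaf 0x30401040005000703040103000c) (.leaf 0x0)))) (.node 67049 (.node 67047 (.leaf 0x0) (.node 67048 (.leaf 0x60401010904020202000701000c) (.leaf 0x0))) (.node 67050 (.leaf 0xa0f0002) (.node 67051 (.leaf 0x0) (.leaf 0x105ea0105e6))))) (.node 67058 (.node 67055 (.node 67053 (.leaf 0xf0001) (.node 67054 (.leaf 0x0) (.leaf 0xb0f0a0003))) (.node 67056 (.leaf 0x0) (.node 67057 (.leaf 0x0) (.leaf 0x8000400020804000008)))) (.node 67061 (.node 67059 (.leaf 0x0) (.node 67060 (.leaf 0xf0b0b0a0004) (.leaf 0x0))) (.node 67062 (.leaf 0xe0a0002) (.node 67063 (.leaf 0x105f50105f4) (.leaf 0xd0b0b0003))))))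

def argWS_5940 : Store := (.node 67041 argWS_5938 argWS_5939)

def argWS_5941 : Store := (.node 67075 (.node 67069 (.node 67066 (.node 67065 (.leaf 0x0) (.leaf 0xd0b0002)) (.node 67067 (.leaf 0x0) (.node 67068 (.leaf 0xb0f0a0a0004) (.leaf 0x204020901060202000701000b)))) (.node 67072 (.node 67070 (.leaf 0x0) (.node 67071 (.leaf 0xb0b0a0a0004) (.leaf 0x0))) (.node 67073 (.leaf 0xb0a0f0003) (.node 67074 (.leaf 0x106000105ff) (.leaf 0xb0f0a0003))))) (.node 67081 (.node 67078 (.node 67076 (.leaf 0x0) (.node 67077 (.leaf 0xf0b0a0a0004) (.leaf 0x0))) (.node 67079 (.leaf 0x0) (.node 67080 (.leaf 0xf0a0a0003) (.leaf 0x202040005000703040103000b)))) (.node 67084 (.node 67082 (.leaf 0x0) (.node 67083 (.leaf 0xb0a0a0003) (.leaf 0x0))) (.node 67085 (.leaf 0xb0a0a0003) (.node 67086 (.leaf 0x1028801060c) (.leaf 0xb0001))))))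

def argWS_5942 : Store := (.node 67098 (.node 67092 (.node 67089 (.node 67088 (.leaf 0x0) (.leaf 0xa0001)) (.node 67090 (.leaf 0x0) (.node 67091 (.leaf 0x0) (.leaf 0xa0f0002)))) (.node 67095 (.node 67093 (.leaf 0x7050206040202000701000b) (.node 67094 (.leaf 0x0) (.leaf 0xb0b0a0003))) (.node 67096 (.leaf 0x0) (.node 67097 (.leaf 0x3070209020202000701000a) (.leaf 0x0))))) (.node 67104 (.node 67101 (.node 67099 (.leaf 0xf0b0b0a0004) (.node 67100 (.leaf 0x0) (.leaf 0x1061b010617))) (.node 67102 (.leaf 0x9050306010500020802040105000d) (.node 67103 (.leaf 0x0) (.leaf 0xa0f0b0003)))) (.node 67107 (.node 67105 (.leaf 0x0) (.node 67106 (.leaf 0xb0a0a0003) (.leaf 0x0))) (.node 67108 (.leaf 0x0) (.node 67109 (.leaf 0xb0f0002) (.leaf 0xd2d0))))))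

def argWS_5943 : Store := (.node 67087 argWS_5941 argWS_5942)

def argWS_5944 : Store := (.node 67064 argWS_5940 argWS_5943)

def argWS_5945 : Store := (.node 67019 argWS_5937 argWS_5944)

def argWS_5946 : Store := (.node 66929 argWS_5930 argWS_5945)

def argWS_5947 : Store := (.node 66749 argWS_5915 argWS_5946)

def argWS_5948 : Store := (.node 67121 (.node 67115 (.node 67112 (.node 67111 (.leaf 0x10700090206020007) (.leaf 0x0)) (.node 67113 (.leaf 0xe0d0002) (.node 67114 (.leaf 0x0) (.leaf 0xb0b0a0003)))) (.node 67118 (.node 67116 (.leaf 0x0) (.node 67117 (.leaf 0x0) (.leaf 0xb0b0a0003))) (.node 67119 (.leaf 0xf0b0b0a0004) (.node 67120 (.leaf 0x1062e01062d) (.leaf 0xb0a0002))))) (.node 67126 (.node 67123 (.node 67122 (.leaf 0x0) (.leaf 0x400020202010202000701000b)) (.node 67124 (.leaf 0x0) (.node 67125 (.leaf 0xa0f0b0003) (.leaf 0xb0a0f0003)))) (.node 67129 (.node 67127 (.leaf 0xb0f0a0003) (.node 67128 (.leaf 0xb0001) (.leaf 0x1050206040802040105000a)))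 (.node 67130 (.leaf 0x0) (.node 67131 (.leaf 0xe0a0002) (.leaf 0x0))))))

def argWS_5949 : Store := (.node 67143 (.node 67137 (.node 67134 (.node 67133 (.leaf 0xf0b0b0a0a0005) (.leaf 0x1063c01063b)) (.node 67135 (.leaf 0xe0d0002) (.node 67136 (.leaf 0x0) (.leaf 0xa0f0002)))) (.node 67140 (.node 67138 (.leaf 0x0) (.node 67139 (.leaf 0x0) (.leaf 0xe0a0a0003))) (.node 67141 (.leaf 0xf0b0002) (.node 67142 (.leaf 0x10644) (.leaf 0xf0a0a0003))))) (.node 67149 (.node 67146 (.node 67144 (.leaf 0x0) (.node 67145 (.leaf 0xa0f0b0003) (.leaf 0x0))) (.node 67147 (.leaf 0x0) (.node 67148 (.leaf 0xb0b0a0003) (.leaf 0xb0f0a0a0004)))) (.node 67152 (.node 67150 (.leaf 0x1064c) (.node 67151 (.leaf 0xd0b0002) (.leaf 0x0))) (.node 67153 (.leaf 0xb0b0a0003) (.node 67154 (.leaf 0x0) (.leaf 0x0))))))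

def argWS_5950 : Store := (.node 67132 argWS_5948 argWS_5949)

def argWS_5951 : Store := (.node 67166 (.node 67160 (.node 67157 (.node 67156 (.leaf 0xb0f0a0003) (.leaf 0xb0a0f0003)) (.node 67158 (.leaf 0x601090000090006) (.node 67159 (.leaf 0x0) (.leaf 0xe0a0002)))) (.node 67163 (.node 67161 (.leaf 0x0) (.node 67162 (.leaf 0x10658010654) (.leaf 0xf0a0002))) (.node 67164 (.leaf 0x0) (.node 67165 (.leaf 0xe0a0002) (.leaf 0x0))))) (.node 67171 (.node 67168 (.node 67167 (.leaf 0x0) (.leaf 0xb0b0a0a0004)) (.node 67169 (.leaf 0xf0b0b0a0a0005) (.node 67170 (.leaf 0x4000400020804000008) (.leaf 0x0)))) (.node 67174 (.node 67172 (.leaf 0xf0b0a0003) (.node 67173 (.leaf 0x0) (.leaf 0x10664))) (.node 67175 (.leaf 0xb0b0002) (.node 67176 (.leaf 0x0) (.leaf 0xb0a0a0003))))))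

def argWS_5952 : Store := (.node 67188 (.node 67182 (.node 67179 (.node 67178 (.leaf 0x0) (.leaf 0x0)) (.node 67180 (.leaf 0x501070209020802040105000b) (.node 67181 (.leaf 0x0) (.leaf 0xf0b0b0003)))) (.node 67185 (.node 67183 (.leaf 0x0) (.node 67184 (.leaf 0xb0f0002) (.leaf 0x1066f))) (.node 67186 (.leaf 0xb0f0002) (.node 67187 (.leaf 0x0) (.leaf 0xe0d0002))))) (.node 67194 (.node 67191 (.node 67189 (.leaf 0x0) (.node 67190 (.leaf 0x0) (.leaf 0xb0f0a0003))) (.node 67192 (.leaf 0xe0001) (.node 67193 (.leaf 0x10677) (.leaf 0xf0b0b0003)))) (.node 67197 (.node 67195 (.leaf 0x0) (.node 67196 (.leaf 0xe0d0002) (.leaf 0x0))) (.node 67198 (.leaf 0x0) (.node 67199 (.leaf 0xf0b0b0a0a0005) (.leaf 0xa0001))))))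

def argWS_5953 : Store := (.node 67177 argWS_5951 argWS_5952)

def argWS_5954 : Store := (.node 67155 argWS_5950 argWS_5953)

def argWS_5955 : Store := (.node 67211 (.node 67205 (.node 67202 (.node 67201 (.leaf 0x9070007000903000703040103000d) (.leaf 0x0)) (.node 67203 (.leaf 0xe0d0002) (.node 67204 (.leaf 0x0) (.leaf 0x1068301067f)))) (.node 67208 (.node 67206 (.leaf 0xb0f0a0a0004) (.node 67207 (.leaf 0x0) (.leaf 0xa0001))) (.node 67209 (.leaf 0x0) (.node 67210 (.leaf 0x0) (.leaf 0xf0b0b0003))))) (.node 67216 (.node 67213 (.node 67212 (.leaf 0xd0b0002) (.leaf 0x10400050206040802040105000c)) (.node 67214 (.leaf 0x0) (.node 67215 (.leaf 0xf0b0a0a0004) (.leaf 0x0)))) (.node 67219 (.node 67217 (.leaf 0x90000000300000008) (.node 67218 (.leaf 0x0) (.leaf 0xf0b0b0003))) (.node 67220 (.leaf 0x0) (.node 67221 (.leaf 0x1069301068f) (.leaf 0x30306040802040105000a))))))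

def argWS_5956 : Store := (.node 67233 (.node 67227 (.node 67224 (.node 67223 (.leaf 0x0) (.leaf 0xe0a0a0003)) (.node 67225 (.leaf 0x0) (.node 67226 (.leaf 0xe0001) (.leaf 0x0)))) (.node 67230 (.node 67228 (.leaf 0x0) (.node 67229 (.leaf 0x305050206040802040105000b) (.leaf 0x0))) (.node 67231 (.leaf 0xb0001) (.node 67232 (.leaf 0x0) (.leaf 0xe0a0a0003))))) (.node 67239 (.node 67236 (.node 67234 (.leaf 0xe0a0002) (.node 67235 (.leaf 0x106a10106a0) (.leaf 0xe0a0002))) (.node 67237 (.leaf 0x0) (.node 67238 (.leaf 0x2040009020602000703040103000d) (.leaf 0x0)))) (.node 67242 (.node 67240 (.leaf 0xa0a0002) (.node 67241 (.leaf 0x8020000090206020802040105000d) (.leaf 0x0))) (.node 67243 (.leaf 0xf0b0b0a0004) (.node 67244 (.leaf 0x0) (.leaf 0x106ab))))))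

def argWS_5957 : Store := (.node 67222 argWS_5955 argWS_5956)

def argWS_5958 : Store := (.node 67256 (.node 67250 (.node 67247 (.node 67246 (.leaf 0xb0a0a0003) (.leaf 0x0)) (.node 67248 (.leaf 0xf0a0002) (.node 67249 (.leaf 0x0) (.leaf 0x0)))) (.node 67253 (.node 67251 (.leaf 0xd0b0b0003) (.node 67252 (.leaf 0xf0a0002) (.leaf 0xa0f0b0003))) (.node 67254 (.leaf 0x8000400050005) (.node 67255 (.leaf 0x0) (.leaf 0xb0f0002))))) (.node 67261 (.node 67258 (.node 67257 (.leaf 0x0) (.leaf 0x106b80106b4)) (.node 67259 (.leaf 0xb0b0002) (.node 67260 (.leaf 0x0) (.leaf 0xf0a0002)))) (.node 67264 (.node 67262 (.leaf 0x0) (.node 67263 (.leaf 0x0) (.leaf 0xf0b0a0003))) (.node 67265 (.leaf 0x305020202010802040105000c) (.node 67266 (.leaf 0x0) (.leaf 0xf0b0b0a0004))))))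

def argWS_5959 : Store := (.node 67278 (.node 67272 (.node 67269 (.node 67268 (.leaf 0x0) (.leaf 0xb0001)) (.node 67270 (.leaf 0x106c40106c3) (.node 67271 (.leaf 0xf0b0a0003) (.leaf 0x0)))) (.node 67275 (.node 67273 (.leaf 0x90702000003010802040105000c) (.node 67274 (.leaf 0x0) (.leaf 0xb0f0002))) (.node 67276 (.leaf 0xb0a0f0003) (.node 67277 (.leaf 0xb0b0a0003) (.leaf 0xe0a0a0003))))) (.node 67284 (.node 67281 (.node 67279 (.leaf 0xa0f0b0003) (.node 67280 (.leaf 0xf0b0b0003) (.leaf 0x106cf0106ce))) (.node 67282 (.leaf 0xd0001) (.node 67283 (.leaf 0x0) (.leaf 0x0)))) (.node 67287 (.node 67285 (.leaf 0x20901020703000703040103000c) (.node 67286 (.leaf 0x0) (.leaf 0xb0a0a0003))) (.node 67288 (.leaf 0x0) (.node 67289 (.leaf 0xa0f0b0003) (.leaf 0x106d800f242))))))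

def argWS_5960 : Store := (.node 67267 argWS_5958 argWS_5959)

def argWS_5961 : Store := (.node 67245 argWS_5957 argWS_5960)

def argWS_5962 : Store := (.node 67200 argWS_5954 argWS_5961)

def argWS_5963 : Store := (.node 67301 (.node 67295 (.node 67292 (.node 67291 (.leaf 0xa0f0002) (.leaf 0x0)) (.node 67293 (.leaf 0xa0a0002) (.node 67294 (.leaf 0x0) (.leaf 0x0)))) (.node 67298 (.node 67296 (.leaf 0xb0a0a0003) (.node 67297 (.leaf 0xf0b0a0a0004) (.leaf 0x106e0))) (.node 67299 (.leaf 0xb0f0a0a0004) (.node 67300 (.leaf 0x0) (.leaf 0xf0a0a0003))))) (.node 67306 (.node 67303 (.node 67302 (.leaf 0x0) (.leaf 0x0)) (.node 67304 (.leaf 0xb0b0a0a0004) (.node 67305 (.leaf 0xb0001) (.leaf 0xf0b0002)))) (.node 67309 (.node 67307 (.leaf 0x106e90106e8) (.node 67308 (.leaf 0x0) (.leaf 0xb0f0002))) (.node 67310 (.leaf 0x0) (.node 67311 (.leaf 0x0) (.leaf 0xa0f0b0003))))))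

def argWS_5964 : Store := (.node 67323 (.node 67317 (.node 67314 (.node 67313 (.leaf 0xf0a0002) (.leaf 0x100580106f0)) (.node 67315 (.leaf 0xb0001) (.node 67316 (.leaf 0x0) (.leaf 0xe0a0002)))) (.node 67320 (.node 67318 (.leaf 0x0) (.node 67319 (.leaf 0x0) (.leaf 0xe0d0002))) (.node 67321 (.leaf 0x803000400050202000701000b) (.node 67322 (.leaf 0x0) (.leaf 0xb0b0a0a0004))))) (.node 67329 (.node 67326 (.node 67324 (.leaf 0x0) (.node 67325 (.leaf 0x106fb0106f7) (.leaf 0x400090109000703040103000c))) (.node 67327 (.leaf 0x0) (.node 67328 (.leaf 0xf0b0002) (.leaf 0x0)))) (.node 67332 (.node 67330 (.leaf 0xb0b0a0a0004) (.node 67331 (.leaf 0x0) (.leaf 0x0))) (.node 67333 (.leaf 0x90002020007010007) (.node 67334 (.leaf 0x0) (.leaf 0xf0b0b0a0004))))))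

def argWS_5965 : Store := (.node 67312 argWS_5963 argWS_5964)

def argWS_5966 : Store := (.node 67346 (.node 67340 (.node 67337 (.node 67336 (.leaf 0x0) (.leaf 0x602010601050002000703040103000e)) (.node 67338 (.leaf 0x0) (.node 67339 (.leaf 0x0) (.leaf 0x304030306040006)))) (.node 67343 (.node 67341 (.leaf 0x0) (.node 67342 (.leaf 0x0) (.leaf 0x1070d01070a))) (.node 67344 (.leaf 0xf0a0002) (.node 67345 (.leaf 0x0) (.leaf 0xd0001))))) (.node 67351 (.node 67348 (.node 67347 (.leaf 0x0) (.leaf 0x0)) (.node 67349 (.leaf 0x600050206040802040105000c) (.node 67350 (.leaf 0x0) (.leaf 0xb0f0a0a0004)))) (.node 67354 (.node 67352 (.leaf 0x0) (.node 67353 (.leaf 0x103040807030401030009) (.leaf 0x0))) (.node 67355 (.leaf 0xb0001) (.node 67356 (.leaf 0x0) (.leaf 0x2090408010202000701000a))))))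

def argWS_5967 : Store := (.node 67368 (.node 67362 (.node 67359 (.node 67358 (.leaf 0x0) (.leaf 0xa0a0002)) (.node 67360 (.leaf 0x0) (.node 67361 (.leaf 0x1071f01071b) (.leaf 0xd0b0002)))) (.node 67365 (.node 67363 (.leaf 0x0) (.node 67364 (.leaf 0xf0b0b0003) (.leaf 0x0))) (.node 67366 (.leaf 0x0) (.node 67367 (.leaf 0xb0b0002) (.leaf 0xf0b0a0a0004))))) (.node 67374 (.node 67371 (.node 67369 (.leaf 0x10727) (.node 67370 (.leaf 0xf0b0b0003) (.leaf 0x0))) (.node 67372 (.leaf 0xb0b0a0003) (.node 67373 (.leaf 0x0) (.leaf 0x0)))) (.node 67377 (.node 67375 (.leaf 0xd0001) (.node 67376 (.leaf 0xb0f0002) (.leaf 0xd0b0002))) (.node 67378 (.leaf 0x400090206020202000701000b) (.node 67379 (.leaf 0x0) (.leaf 0xb0f0a0a0004))))))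

def argWS_5968 : Store := (.node 67357 argWS_5966 argWS_5967)

def argWS_5969 : Store := (.node 67335 argWS_5965 argWS_5968)

def argWS_5970 : Store := (.node 67391 (.node 67385 (.node 67382 (.node 67381 (.leaf 0x0) (.leaf 0x10734)) (.node 67383 (.leaf 0xa0001) (.node 67384 (.leaf 0x0) (.leaf 0xa0f0002)))) (.node 67388 (.node 67386 (.leaf 0x0) (.node 67387 (.leaf 0x0) (.leaf 0xb0a0a0003))) (.node 67389 (.leaf 0xe0d0002) (.node 67390 (.leaf 0x0) (.leaf 0x1073d0033ce))))) (.node 67396 (.node 67393 (.node 67392 (.leaf 0x40300070206000007) (.leaf 0x0)) (.node 67394 (.leaf 0xf0b0a0003) (.node 67395 (.leaf 0x0) (.leaf 0xb0b0002)))) (.node 67399 (.node 67397 (.leaf 0x0) (.node 67398 (.leaf 0x0) (.leaf 0xf0b0a0a0004))) (.node 67400 (.leaf 0x404020000030703040103000b) (.node 67401 (.leaf 0x0) (.leaf 0xf0b0b0003))))))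

def argWS_5971 : Store := (.node 67413 (.node 67407 (.node 67404 (.node 67403 (.leaf 0x0) (.leaf 0x1074a00ce8b)) (.node 67405 (.leaf 0xd0001) (.node 67406 (.leaf 0x0) (.leaf 0xf0a0002)))) (.node 67410 (.node 67408 (.leaf 0x0) (.node 67409 (.leaf 0x0) (.leaf 0xf0b0a0a0004))) (.node 67411 (.leaf 0xd0b0002) (.node 67412 (.leaf 0xe0001) (.leaf 0xf0a0a0003))))) (.node 67419 (.node 67416 (.node 67414 (.leaf 0x10754010753) (.node 67415 (.leaf 0xe0a0a0003) (.leaf 0x0))) (.node 67417 (.leaf 0xd0001) (.node 67418 (.leaf 0x0) (.leaf 0x0)))) (.node 67422 (.node 67420 (.leaf 0xe0d0002) (.node 67421 (.leaf 0xb61301075b) (.leaf 0xa0a0002))) (.node 67423 (.leaf 0x0) (.node 67424 (.leaf 0xf0b0a0003) (.leaf 0x0))))))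

def argWS_5972 : Store := (.node 67402 argWS_5970 argWS_5971)

def argWS_5973 : Store := (.node 67436 (.node 67430 (.node 67427 (.node 67426 (.leaf 0x0) (.leaf 0xf0a0a0003)) (.node 67428 (.leaf 0xb0b0a0a0004) (.node 67429 (.leaf 0xf0001) (.leaf 0x10764010763)))) (.node 67433 (.node 67431 (.leaf 0x1010602020007010008) (.node 67432 (.leaf 0x0) (.leaf 0xd0001))) (.node 67434 (.leaf 0x0) (.node 67435 (.leaf 0xb0001) (.leaf 0x0))))) (.node 67442 (.node 67439 (.node 67437 (.leaf 0x0) (.node 67438 (.leaf 0xb0001) (.leaf 0xb0a0a0003))) (.node 67440 (.leaf 0x1076e) (.node 67441 (.leaf 0x6000703060005) (.leaf 0x0)))) (.node 67445 (.node 67443 (.leaf 0xd0b0b0003) (.node 67444 (.leaf 0x0) (.leaf 0xb0001))) (.node 67446 (.leaf 0x0) (.node 67447 (.leaf 0x0) (.leaf 0x20106010500020202000701000c))))))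

def argWS_5974 : Store := (.node 67459 (.node 67453 (.node 67450 (.node 67449 (.leaf 0x0) (.leaf 0xf0b0b0a0a0005)) (.node 67451 (.leaf 0x0) (.node 67452 (.leaf 0xb0a0f0003) (.leaf 0x1077b01077a)))) (.node 67456 (.node 67454 (.leaf 0x50300050004) (.node 67455 (.leaf 0x0) (.leaf 0xb0b0002))) (.node 67457 (.leaf 0x0) (.node 67458 (.leaf 0xf0b0b0003) (.leaf 0x0))))) (.node 67465 (.node 67462 (.node 67460 (.leaf 0x0) (.node 67461 (.leaf 0xd0b0002) (.leaf 0x6000005020202010202000701000d))) (.node 67463 (.leaf 0x0) (.node 67464 (.leaf 0x0) (.leaf 0x10787)))) (.node 67468 (.node 67466 (.leaf 0xb0b0002) (.node 67467 (.leaf 0x0) (.leaf 0xd0b0002))) (.node 67469 (.leaf 0x0) (.node 67470 (.leaf 0x0) (.leaf 0xf0b0002))))))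

def argWS_5975 : Store := (.node 67448 argWS_5973 argWS_5974)

def argWS_5976 : Store := (.node 67425 argWS_5972 argWS_5975)

def argWS_5977 : Store := (.node 67380 argWS_5969 argWS_5976)

def argWS_5978 : Store := (.node 67290 argWS_5962 argWS_5977)

def argWS_5979 : Store := (.node 67482 (.node 67476 (.node 67473 (.node 67472 (.leaf 0x107000401050006) (.leaf 0x0)) (.node 67474 (.leaf 0xd0b0002) (.node 67475 (.leaf 0x0) (.leaf 0xa0f0002)))) (.node 67479 (.node 67477 (.leaf 0x10793010792) (.node 67478 (.leaf 0x600000603050004000703040103000e) (.leaf 0x0))) (.node 67480 (.leaf 0xf0a0002) (.node 67481 (.leaf 0x0) (.leaf 0xa0f0b0b0004))))) (.node 67487 (.node 67484 (.node 67483 (.leaf 0x0) (.leaf 0x0)) (.node 67485 (.leaf 0xf0a0a0003) (.node 67486 (.leaf 0xf6c0) (.leaf 0xe0a0002)))) (.node 67490 (.node 67488 (.leaf 0x0) (.node 67489 (.leaf 0xf0001) (.leaf 0x0))) (.node 67491 (.leaf 0x0) (.node 67492 (.leaf 0xf0b0a0003) (.leaf 0xa0001))))))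

def argWS_5980 : Store := (.node 67504 (.node 67498 (.node 67495 (.node 67494 (.leaf 0xa0f0002) (.leaf 0x107a50107a4)) (.node 67496 (.leaf 0xb0b0a0003) (.node 67497 (.leaf 0x0) (.leaf 0x9050307020600000703040103000d)))) (.node 67501 (.node 67499 (.leaf 0x0) (.node 67500 (.leaf 0xb0f0a0003) (.leaf 0xa0a0002))) (.node 67502 (.leaf 0x5020009000009000703040103000d) (.node 67503 (.leaf 0x0) (.leaf 0xa0001))))) (.node 67510 (.node 67507 (.node 67505 (.leaf 0x0) (.node 67506 (.leaf 0xf0b0002) (.leaf 0x107b10107b0))) (.node 67508 (.leaf 0x20202090000090007) (.node 67509 (.leaf 0x0) (.leaf 0xf0b0b0003)))) (.node 67513 (.node 67511 (.leaf 0x0) (.node 67512 (.leaf 0xa0f0b0003) (.leaf 0x0))) (.node 67514 (.leaf 0x0) (.node 67515 (.leaf 0xf0b0002) (.leaf 0xa0f0b0b0004))))))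

def argWS_5981 : Store := (.node 67493 argWS_5979 argWS_5980)

def argWS_5982 : Store := (.node 67527 (.node 67521 (.node 67518 (.node 67517 (.leaf 0x107bb) (.leaf 0xf0a0002)) (.node 67519 (.leaf 0x0) (.node 67520 (.leaf 0xe0a0a0003) (.leaf 0x0)))) (.node 67524 (.node 67522 (.leaf 0x0) (.node 67523 (.leaf 0xf0001) (.leaf 0xa0f0b0b0004))) (.node 67525 (.leaf 0x107c3) (.node 67526 (.leaf 0x605020000030703040103000b) (.leaf 0x0))))) (.node 67532 (.node 67529 (.node 67528 (.leaf 0xa0f0b0003) (.leaf 0x0)) (.node 67530 (.leaf 0xe0a0a0003) (.node 67531 (.leaf 0x0) (.leaf 0x0)))) (.node 67535 (.node 67533 (.leaf 0x102090806000202000701000b) (.node 67534 (.leaf 0x0) (.leaf 0xb0b0a0003))) (.node 67536 (.leaf 0x0) (.node 67537 (.leaf 0x0) (.leaf 0x107d0))))))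

def argWS_5983 : Store := (.node 67549 (.node 67543 (.node 67540 (.node 67539 (.leaf 0xb0a0f0003) (.leaf 0x0)) (.node 67541 (.leaf 0x502020901060202000701000b) (.node 67542 (.leaf 0x0) (.leaf 0xa0a0002)))) (.node 67546 (.node 67544 (.leaf 0x10767) (.node 67545 (.leaf 0xa0f0b0b0004) (.leaf 0x0))) (.node 67547 (.leaf 0x10201070206000007) (.node 67548 (.leaf 0x0) (.leaf 0xd0b0b0003))))) (.node 67555 (.node 67552 (.node 67550 (.leaf 0xa0f0002) (.node 67551 (.leaf 0xe0a0a0003) (.leaf 0xd0b0002))) (.node 67553 (.leaf 0x107df) (.node 67554 (.leaf 0xa0f0b0b0004) (.leaf 0x0)))) (.node 67558 (.node 67556 (.leaf 0xb0b0a0a0004) (.node 67557 (.leaf 0x0) (.leaf 0x0))) (.node 67559 (.leaf 0xebd6) (.node 67560 (.leaf 0xa0001) (.leaf 0x0))))))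

def argWS_5984 : Store := (.node 67538 argWS_5982 argWS_5983)

def argWS_5985 : Store := (.node 67516 argWS_5981 argWS_5984)

def argWS_5986 : Store := (.node 67572 (.node 67566 (.node 67563 (.node 67562 (.leaf 0xe0a0a0003) (.leaf 0x0)) (.node 67564 (.leaf 0x0) (.node 67565 (.leaf 0x900020901060802040105000b) (.leaf 0x0)))) (.node 67569 (.node 67567 (.leaf 0xb0001) (.node 67568 (.leaf 0x0) (.leaf 0x9010400050202000701000a))) (.node 67570 (.leaf 0x0) (.node 67571 (.leaf 0xd0b0b0003) (.leaf 0x0))))) (.node 67577 (.node 67574 (.node 67573 (.leaf 0x6030102020900000802040105000d) (.leaf 0x0)) (.node 67575 (.leaf 0x0) (.node 67576 (.leaf 0x107f60107f3) (.leaf 0xf0001)))) (.node 67580 (.node 67578 (.leaf 0x0) (.node 67579 (.leaf 0xe0d0002) (.leaf 0x0))) (.node 67581 (.leaf 0x0) (.node 67582 (.leaf 0xa0f0b0003) (.leaf 0xb0f0002))))))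

def argWS_5987 : Store := (.node 67594 (.node 67588 (.node 67585 (.node 67584 (.leaf 0x107fe) (.leaf 0x20401050206040802040105000c)) (.node 67586 (.leaf 0x0) (.node 67587 (.leaf 0xb0a0002) (.leaf 0x0)))) (.node 67591 (.node 67589 (.leaf 0xf0a0002) (.node 67590 (.leaf 0x0) (.leaf 0x0))) (.node 67592 (.leaf 0xf0a0a0003) (.node 67593 (.leaf 0x602010703060006) (.leaf 0x0))))) (.node 67600 (.node 67597 (.node 67595 (.leaf 0xf0b0b0003) (.node 67596 (.leaf 0x0) (.leaf 0x1080b))) (.node 67598 (.leaf 0x0) (.node 67599 (.leaf 0x0) (.leaf 0x0)))) (.node 67603 (.node 67601 (.leaf 0xe0d0002) (.node 67602 (.leaf 0x2060207020703040103000b) (.leaf 0x0))) (.node 67604 (.leaf 0xb0f0002) (.node 67605 (.leaf 0x0) (.leaf 0xf0b0b0a0a0005))))))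

def argWS_5988 : Store := (.node 67583 argWS_5986 argWS_5987)

def argWS_5989 : Store := (.node 67617 (.node 67611 (.node 67608 (.node 67607 (.leaf 0x10815010814) (.leaf 0xb0b0a0a0004)) (.node 67609 (.leaf 0x0) (.node 67610 (.leaf 0xd0b0002) (.leaf 0x0)))) (.node 67614 (.node 67612 (.leaf 0x0) (.node 67613 (.leaf 0xa0f0b0003) (.leaf 0x6f96))) (.node 67615 (.leaf 0x80703060005) (.node 67616 (.leaf 0x0) (.leaf 0xa0a0002))))) (.node 67622 (.node 67619 (.node 67618 (.leaf 0x0) (.leaf 0xb0a0f0003)) (.node 67620 (.leaf 0x0) (.node 67621 (.leaf 0x0) (.leaf 0xb0f0002)))) (.node 67625 (.node 67623 (.leaf 0xb0f0a0003) (.node 67624 (.leaf 0x10826) (.leaf 0x70401090402000703040103000c))) (.node 67626 (.leaf 0x0) (.node 67627 (.leaf 0xb0b0002) (.leaf 0x0))))))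

def argWS_5990 : Store := (.node 67639 (.node 67633 (.node 67630 (.node 67629 (.leaf 0xa0f0002) (.leaf 0x0)) (.node 67631 (.leaf 0x0) (.node 67632 (.leaf 0xb0f0a0a0004) (.leaf 0xb0b0a0003)))) (.node 67636 (.node 67634 (.leaf 0x1083001082f) (.node 67635 (.leaf 0x6010201020702000701000a) (.leaf 0x0))) (.node 67637 (.leaf 0xe0a0002) (.node 67638 (.leaf 0x0) (.leaf 0xf0b0b0a0a0005))))) (.node 67645 (.node 67642 (.node 67640 (.leaf 0x0) (.node 67641 (.leaf 0x0) (.leaf 0xf0a0002))) (.node 67643 (.leaf 0x7010703060006) (.node 67644 (.leaf 0x0) (.leaf 0xa0f0b0b0004)))) (.node 67648 (.node 67646 (.leaf 0x0) (.node 67647 (.leaf 0x7090109000703040103000b) (.leaf 0x0))) (.node 67649 (.leaf 0xa0f0b0003) (.node 67650 (.leaf 0x0) (.leaf 0xd0001))))))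

def argWS_5991 : Store := (.node 67628 argWS_5989 argWS_5990)

def argWS_5992 : Store := (.node 67606 argWS_5988 argWS_5991)

def argWS_5993 : Store := (.node 67561 argWS_5985 argWS_5992)

def argWS_5994 : Store := (.node 67662 (.node 67656 (.node 67653 (.node 67652 (.leaf 0x10842010841) (.leaf 0xb0a0a0003)) (.node 67654 (.leaf 0x0) (.node 67655 (.leaf 0x4000601050002000703040103000e) (.leaf 0x0)))) (.node 67659 (.node 67657 (.leaf 0xe0001) (.node 67658 (.leaf 0xa0f0002) (.leaf 0x903000308000703040103000b))) (.node 67660 (.leaf 0x0) (.node 67661 (.leaf 0xe0a0a0003) (.leaf 0x0))))) (.node 67667 (.node 67664 (.node 67663 (.leaf 0x1084d) (.leaf 0xd0001)) (.node 67665 (.leaf 0x0) (.node 67666 (.leaf 0xf0b0002) (.leaf 0x0)))) (.node 67670 (.node 67668 (.leaf 0x0) (.node 67669 (.leaf 0xe0a0002) (.leaf 0x30401050206040202000701000c))) (.node 67671 (.leaf 0x0) (.node 67672 (.leaf 0xa0a0002) (.leaf 0x0))))))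

def argWS_5995 : Store := (.node 67684 (.node 67678 (.node 67675 (.node 67674 (.leaf 0xb0f0a0a0004) (.leaf 0x10859010858)) (.node 67676 (.leaf 0xf0b0b0a0a0005) (.node 67677 (.leaf 0x0) (.leaf 0xb0001)))) (.node 67681 (.node 67679 (.leaf 0x0) (.node 67680 (.leaf 0x0) (.leaf 0xf0b0002))) (.node 67682 (.leaf 0x50603000703040103000a) (.node 67683 (.leaf 0x0) (.leaf 0x0))))) (.node 67690 (.node 67687 (.node 67685 (.leaf 0x10863000b8b) (.node 67686 (.leaf 0xb0001) (.leaf 0x0))) (.node 67688 (.leaf 0xf0b0b0003) (.node 67689 (.leaf 0x0) (.leaf 0x0)))) (.node 67693 (.node 67691 (.leaf 0xb0a0a0003) (.node 67692 (.leaf 0x500000308000703040103000b) (.leaf 0x0))) (.node 67694 (.leaf 0xb0b0a0a0004) (.node 67695 (.leaf 0x0) (.leaf 0xd60401086e))))))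

def argWS_5996 : Store := (.node 67673 argWS_5994 argWS_5995)

def argWS_5997 : Store := (.node 67707 (.node 67701 (.node 67698 (.node 67697 (.leaf 0x1070703060005) (.leaf 0x0)) (.node 67699 (.leaf 0xf0a0002) (.node 67700 (.leaf 0x0) (.leaf 0xa0001)))) (.node 67704 (.node 67702 (.leaf 0x0) (.node 67703 (.leaf 0x0) (.leaf 0xb0b0a0003))) (.node 67705 (.leaf 0xf0b0a0a0004) (.node 67706 (.leaf 0xb0b0a0a0004) (.leaf 0x2050207020007010008))))) (.node 67712 (.node 67709 (.node 67708 (.leaf 0x0) (.leaf 0xb0f0a0a0004)) (.node 67710 (.leaf 0x0) (.node 67711 (.leaf 0x1087d010879) (.leaf 0xa0f0002)))) (.node 67715 (.node 67713 (.leaf 0x0) (.node 67714 (.leaf 0xe0d0002) (.leaf 0x0))) (.node 67716 (.leaf 0x0) (.node 67717 (.leaf 0xb0a0002) (.leaf 0x2090206030005))))))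

def argWS_5998 : Store := (.node 67729 (.node 67723 (.node 67720 (.node 67719 (.leaf 0x0) (.leaf 0xb0a0002)) (.node 67721 (.leaf 0x0) (.node 67722 (.leaf 0xd0001) (.leaf 0x10889010888)))) (.node 67726 (.node 67724 (.leaf 0xa0a0002) (.node 67725 (.leaf 0x0) (.leaf 0xf0b0b0a0a0005))) (.node 67727 (.leaf 0x0) (.node 67728 (.leaf 0x0) (.leaf 0xe0a0002))))) (.node 67735 (.node 67732 (.node 67730 (.leaf 0xa0001) (.node 67731 (.leaf 0x7000007000902000701000a) (.leaf 0x0))) (.node 67733 (.leaf 0xa0f0b0003) (.node 67734 (.leaf 0x0) (.leaf 0x10895010891)))) (.node 67738 (.node 67736 (.leaf 0xe0a0a0003) (.node 67737 (.leaf 0x0) (.leaf 0xf0a0002))) (.node 67739 (.leaf 0x0) (.node 67740 (.leaf 0x0) (.leaf 0xd0001))))))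

def argWS_5999 : Store := (.node 67718 argWS_5997 argWS_5998)

def argWS_6000 : Store := (.node 67696 argWS_5996 argWS_5999)

def argWS_6001 : Store := (.node 67752 (.node 67746 (.node 67743 (.node 67742 (.leaf 0xa0f0b0b0004) (.leaf 0x60202010606000703040103000c)) (.node 67744 (.leaf 0x0) (.node 67745 (.leaf 0xe0a0a0003) (.leaf 0x0)))) (.node 67749 (.node 67747 (.leaf 0x108a101089d) (.node 67748 (.leaf 0xa0001) (.leaf 0x0))) (.node 67750 (.leaf 0x300030306040802040105000c) (.node 67751 (.leaf 0x0) (.leaf 0xb0b0a0a0004))))) (.node 67757 (.node 67754 (.node 67753 (.leaf 0xa0f0b0003) (.leaf 0xf0b0b0003)) (.node 67755 (.leaf 0xa0a0002) (.node 67756 (.leaf 0x108aa0108a9) (.leaf 0xf0a0002)))) (.node 67760 (.node 67758 (.leaf 0x0) (.node 67759 (.leaf 0xd0b0b0003) (.leaf 0x0))) (.node 67761 (.leaf 0x0) (.node 67762 (.leaf 0xb0b0a0a0004) (.leaf 0xe0d0002))))))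

def argWS_6002 : Store := (.node 67774 (.node 67768 (.node 67765 (.node 67764 (.leaf 0x108b2) (.leaf 0xa0a0002)) (.node 67766 (.leaf 0x0) (.node 67767 (.leaf 0xb0b0002) (.leaf 0x0)))) (.node 67771 (.node 67769 (.leaf 0x0) (.node 67770 (.leaf 0x7020600000703040103000a) (.leaf 0x0))) (.node 67772 (.leaf 0xa0f0b0003) (.node 67773 (.leaf 0x0) (.leaf 0x101070009020007010009))))) (.node 67780 (.node 67777 (.node 67775 (.leaf 0x0) (.node 67776 (.leaf 0xe0a0a0003) (.leaf 0x0))) (.node 67778 (.leaf 0x108c0) (.node 67779 (.leaf 0xa0f0b0b0004) (.leaf 0x0)))) (.node 67783 (.node 67781 (.leaf 0xb0f0a0003) (.node 67782 (.leaf 0x0) (.leaf 0xd0001))) (.node 67784 (.leaf 0x40002020900000008) (.node 67785 (.leaf 0x0) (.leaf 0xb0b0a0a0004))))))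

def argWS_6003 : Store := (.node 67763 argWS_6001 argWS_6002)

def argWS_6004 : Store := (.node 67797 (.node 67791 (.node 67788 (.node 67787 (.leaf 0x0) (.leaf 0xf0540108ca)) (.node 67789 (.leaf 0xf0b0002) (.node 67790 (.leaf 0x0) (.leaf 0xe0001)))) (.node 67794 (.node 67792 (.leaf 0x0) (.node 67793 (.leaf 0x0) (.leaf 0xe0a0a0003))) (.node 67795 (.leaf 0x6040007030401030008) (.node 67796 (.leaf 0x0) (.leaf 0xb0f0a0a0004))))) (.node 67803 (.node 67800 (.node 67798 (.leaf 0x0) (.node 67799 (.leaf 0x50305070206000007) (.leaf 0x0))) (.node 67801 (.leaf 0xa0f0002) (.node 67802 (.leaf 0x0) (.leaf 0x108d90108d5)))) (.node 67806 (.node 67804 (.leaf 0xb0a0a0003) (.node 67805 (.leaf 0x0) (.leaf 0xb0f0a0003))) (.node 67807 (.leaf 0x0) (.node 67808 (.leaf 0x0) (.leaf 0xb0a0002))))))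

def argWS_6005 : Store := (.node 67820 (.node 67814 (.node 67811 (.node 67810 (.leaf 0xdc1400e23f) (.leaf 0x0)) (.node 67812 (.leaf 0xe0a0002) (.node 67813 (.leaf 0x0) (.leaf 0x0)))) (.node 67817 (.node 67815 (.leaf 0xa0f0002) (.node 67816 (.leaf 0xe0a0002) (.leaf 0x108e7))) (.node 67818 (.leaf 0xb0f0002) (.node 67819 (.leaf 0x0) (.leaf 0xe0a0002))))) (.node 67826 (.node 67823 (.node 67821 (.leaf 0x0) (.node 67822 (.leaf 0x0) (.leaf 0xb0a0f0003))) (.node 67824 (.leaf 0x108ee) (.node 67825 (.leaf 0xb0b0002) (.leaf 0x0)))) (.node 67829 (.node 67827 (.leaf 0xb0f0a0003) (.node 67828 (.leaf 0x0) (.leaf 0x0))) (.node 67830 (.leaf 0xe0d0002) (.node 67831 (.leaf 0x90503070009030007) (.leaf 0x0))))))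

def argWS_6006 : Store := (.node 67809 argWS_6004 argWS_6005)

def argWS_6007 : Store := (.node 67786 argWS_6003 argWS_6006)

def argWS_6008 : Store := (.node 67741 argWS_6000 argWS_6007)

def argWS_6009 : Store := (.node 67651 argWS_5993 argWS_6008)

def argWS_6010 : Store := (.node 67471 argWS_5978 argWS_6009)

def argWS_6011 : Store := (.node 67110 argWS_5947 argWS_6010)

def argWS_6012 : Store := (.node 67843 (.node 67837 (.node 67834 (.node 67833 (.leaf 0xe0a0002) (.leaf 0x0)) (.node 67835 (.leaf 0x108f9) (.node 67836 (.leaf 0xd0b0b0003) (.leaf 0x0)))) (.node 67840 (.node 67838 (.leaf 0xd0001) (.node 67839 (.leaf 0x0) (.leaf 0x0))) (.node 67841 (.leaf 0xf0b0b0003) (.node 67842 (.leaf 0xb0f0a0a0004) (.leaf 0x10901010151))))) (.node 67848 (.node 67845 (.node 67844 (.leaf 0xa0a0002) (.leaf 0x0)) (.node 67846 (.leaf 0xa0f0b0003) (.node 67847 (.leaf 0x0) (.leaf 0x0)))) (.node 67851 (.node 67849 (.leaf 0xd0b0b0003) (.node 67850 (.leaf 0xb0b0002) (.leaf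 0x501090000090006))) (.node 67852 (.leaf 0x0) (.node 67853 (.leaf 0xf0b0b0003) (.leaf 0x0))))))

def argWS_6013 : Store := (.node 67865 (.node 67859 (.node 67856 (.node 67855 (.leaf 0x1090d010909) (.leaf 0xb0f0a0a0004)) (.node 67857 (.leaf 0x0) (.node 67858 (.leaf 0xa0001) (.leaf 0x0)))) (.node 67862 (.node 67860 (.leaf 0x0) (.node 67861 (.leaf 0xb0a0f0003) (.leaf 0xf0a0002))) (.node 67863 (.leaf 0x60105020604000703040103000c) (.node 67864 (.leaf 0x0) (.leaf 0x0))))) (.node 67871 (.node 67868 (.node 67866 (.leaf 0x10918010915) (.node 67867 (.leaf 0xa0f0002) (.leaf 0x0))) (.node 67869 (.leaf 0xb0f0002) (.node 67870 (.leaf 0x0) (.leaf 0x0)))) (.node 67874 (.node 67872 (.leaf 0x709040202020007010009) (.node 67873 (.leaf 0x0) (.leaf 0xf0b0002))) (.node 67875 (.leaf 0x0) (.node 67876 (.leaf 0xf0b0b0a0004) (.leaf 0xa0f0002))))))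

def argWS_6014 : Store := (.node 67854 argWS_6012 argWS_6013)

def argWS_6015 : Store := (.node 67888 (.node 67882 (.node 67879 (.node 67878 (.leaf 0x10924010923) (.leaf 0xe0001)) (.node 67880 (.leaf 0x0) (.node 67881 (.leaf 0xe0a0002) (.leaf 0x0)))) (.node 67885 (.node 67883 (.leaf 0x0) (.node 67884 (.leaf 0xa0001) (.leaf 0xa0f0b0b0004))) (.node 67886 (.leaf 0xd0b0002) (.node 67887 (.leaf 0x1092d01092c) (.leaf 0xe0a0a0003))))) (.node 67893 (.node 67890 (.node 67889 (.leaf 0x0) (.leaf 0xf0001)) (.node 67891 (.leaf 0x0) (.node 67892 (.leaf 0x0) (.leaf 0xa0f0002)))) (.node 67896 (.node 67894 (.leaf 0xf0b0a0003) (.node 67895 (.leaf 0x1045b010935) (.leaf 0xb0001))) (.node 67897 (.leaf 0x0) (.node 67898 (.leaf 0xd0001) (.leaf 0x0))))))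

def argWS_6016 : Store := (.node 67910 (.node 67904 (.node 67901 (.node 67900 (.leaf 0x0) (.leaf 0x20601050002000703040103000d)) (.node 67902 (.leaf 0x0) (.node 67903 (.leaf 0xd0b0b0003) (.leaf 0x0)))) (.node 67907 (.node 67905 (.leaf 0xb0f0a0a0004) (.node 67906 (.leaf 0xb0a0a0003) (.leaf 0x10941010940))) (.node 67908 (.leaf 0xd0b0b0003) (.node 67909 (.leaf 0x0) (.leaf 0xa0001))))) (.node 67916 (.node 67913 (.node 67911 (.leaf 0x0) (.node 67912 (.leaf 0x0) (.leaf 0xa0f0b0b0004))) (.node 67914 (.leaf 0x90104010908050802040105000c) (.node 67915 (.leaf 0x0) (.leaf 0xf0b0a0003)))) (.node 67919 (.node 67917 (.leaf 0x0) (.node 67918 (.leaf 0xe0a0002) (.leaf 0x1094d01094c))) (.node 67920 (.leaf 0xb0a0a0003) (.node 67921 (.leaf 0x0) (.leaf 0x0))))))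

def argWS_6017 : Store := (.node 67899 argWS_6015 argWS_6016)

def argWS_6018 : Store := (.node 67877 argWS_6014 argWS_6017)

def argWS_6019 : Store := (.node 67933 (.node 67927 (.node 67924 (.node 67923 (.leaf 0xb0001) (.leaf 0xf0b0b0a0004)) (.node 67925 (.leaf 0xe0a0a0003) (.node 67926 (.leaf 0xb0b0a0a0004) (.leaf 0x10955010954)))) (.node 67930 (.node 67928 (.leaf 0x30708020401050007) (.node 67929 (.leaf 0x0) (.leaf 0xe0a0002))) (.node 67931 (.leaf 0x0) (.node 67932 (.leaf 0xf0b0a0003) (.leaf 0x0))))) (.node 67938 (.node 67935 (.node 67934 (.leaf 0x0) (.leaf 0xb0b0a0a0004)) (.node 67936 (.leaf 0x20901070009030802040105000c) (.node 67937 (.leaf 0x0) (.leaf 0xd0b0b0003)))) (.node 67941 (.node 67939 (.leaf 0x0) (.node 67940 (.leaf 0xe0a0002) (.leaf 0x10963010962))) (.node 67942 (.leaf 0xe0001) (.node 67943 (.leaf 0x0) (.leaf 0xb0a0a0003))))))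

def argWS_6020 : Store := (.node 67955 (.node 67949 (.node 67946 (.node 67945 (.leaf 0x0) (.leaf 0x0)) (.node 67947 (.leaf 0xa0f0b0003) (.node 67948 (.leaf 0xb0a0f0003) (.leaf 0xe94d01096b)))) (.node 67952 (.node 67950 (.leaf 0xa0f0b0b0004) (.node 67951 (.leaf 0x0) (.leaf 0xb0b0a0003))) (.node 67953 (.leaf 0x0) (.node 67954 (.leaf 0x0) (.leaf 0x400030306040802040105000c))))) (.node 67961 (.node 67958 (.node 67956 (.leaf 0x0) (.node 67957 (.leaf 0xb0f0002) (.leaf 0x0))) (.node 67959 (.leaf 0x301020901060202000701000b) (.node 67960 (.leaf 0x0) (.leaf 0xf0a0002)))) (.node 67964 (.node 67962 (.leaf 0x0) (.node 67963 (.leaf 0x10979) (.leaf 0xb0b0a0a0004))) (.node 67965 (.leaf 0x0) (.node 67966 (.leaf 0xe0d0002) (.leaf 0x0))))))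

def argWS_6021 : Store := (.node 67944 argWS_6019 argWS_6020)

def argWS_6022 : Store := (.node 67978 (.node 67972 (.node 67969 (.node 67968 (.leaf 0x0) (.leaf 0xb0b0002)) (.node 67970 (.leaf 0xa0a0002) (.node 67971 (.leaf 0x206010500020007) (.leaf 0x0)))) (.node 67975 (.node 67973 (.leaf 0xe0a0002) (.node 67974 (.leaf 0x0) (.leaf 0x10985010981))) (.node 67976 (.leaf 0xf0a0a0003) (.node 67977 (.leaf 0x0) (.leaf 0x0))))) (.node 67983 (.node 67980 (.node 67979 (.leaf 0xf0b0a0003) (.leaf 0x5000007030401030008)) (.node 67981 (.leaf 0x0) (.node 67982 (.leaf 0xd0001) (.leaf 0x0)))) (.node 67986 (.node 67984 (.leaf 0xf0001) (.node 67985 (.leaf 0x80200020603000703040103000c) (.leaf 0x0))) (.node 67987 (.leaf 0xf0b0a0a0004) (.node 67988 (.leaf 0x0) (.leaf 0x1099301098f))))))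

def argWS_6023 : Store := (.node 68000 (.node 67994 (.node 67991 (.node 67990 (.leaf 0xd0001) (.leaf 0x0)) (.node 67992 (.leaf 0x20400000300000802040105000c) (.node 67993 (.leaf 0x0) (.leaf 0xb0f0002)))) (.node 67997 (.node 67995 (.leaf 0x104000408010802040105000b) (.node 67996 (.leaf 0x0) (.leaf 0x0))) (.node 67998 (.leaf 0x60206030500040007) (.node 67999 (.leaf 0x0) (.leaf 0xe0a0a0003))))) (.node 68006 (.node 68003 (.node 68001 (.leaf 0x0) (.node 68002 (.leaf 0x5000006010500020202000701000d) (.leaf 0x0))) (.node 68004 (.leaf 0xb0f0a0a0004) (.node 68005 (.leaf 0x0) (.leaf 0x109a40109a0)))) (.node 68009 (.node 68007 (.leaf 0xf0b0a0a0004) (.node 68008 (.leaf 0x0) (.leaf 0x90507030004))) (.node 68010 (.leaf 0x0) (.node 68011 (.leaf 0xb0b0a0a0004) (.leaf 0xb0b0a0003))))))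

def argWS_6024 : Store := (.node 67989 argWS_6022 argWS_6023)

def argWS_6025 : Store := (.node 67967 argWS_6021 argWS_6024)

def argWS_6026 : Store := (.node 67922 argWS_6018 argWS_6025)

def argWS_6027 : Store := (.node 68023 (.node 68017 (.node 68014 (.node 68013 (.leaf 0xa0f0b0003) (.leaf 0xb0f0a0003)) (.node 68015 (.leaf 0x60400020603000703040103000c) (.node 68016 (.leaf 0x0) (.leaf 0xf0b0a0a0004)))) (.node 68020 (.node 68018 (.leaf 0x0) (.node 68019 (.leaf 0x109b10109ad) (.leaf 0xf0b0a0a0004))) (.node 68021 (.leaf 0x0) (.node 68022 (.leaf 0xd0b0b0003) (.leaf 0x0))))) (.node 68028 (.node 68025 (.node 68024 (.leaf 0x0) (.leaf 0xb0f0a0a0004)) (.node 68026 (.leaf 0xf0001) (.node 68027 (.leaf 0xf0b0b0a0a0005) (.leaf 0x6030106010500020202000701000d)))) (.node 68031 (.node 68029 (.leaf 0x0) (.node 68030 (.leaf 0xf0b0002) (.leaf 0x0))) (.node 68032 (.leaf 0xe0d0002) (.node 68033 (.leaf 0x109bf0109be) (.leaf 0xf0b0a0003))))))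

def argWS_6028 : Store := (.node 68045 (.node 68039 (.node 68036 (.node 68035 (.leaf 0x0) (.leaf 0xd0b0002)) (.node 68037 (.leaf 0x0) (.node 68038 (.leaf 0x0) (.leaf 0xf0a0a0003)))) (.node 68042 (.node 68040 (.leaf 0xf0a0002) (.node 68041 (.leaf 0xa0001) (.leaf 0xe7d10109c8))) (.node 68043 (.leaf 0xf0001) (.node 68044 (.leaf 0x0) (.leaf 0xa0f0002))))) (.node 68051 (.node 68048 (.node 68046 (.leaf 0x0) (.node 68047 (.leaf 0x0) (.leaf 0xf0b0002))) (.node 68049 (.leaf 0xe0d0002) (.node 68050 (.leaf 0x602090805000703040103000b) (.leaf 0x0)))) (.node 68054 (.node 68052 (.leaf 0xb0a0a0003) (.node 68053 (.leaf 0x0) (.leaf 0x109d40109d0))) (.node 68055 (.leaf 0xb0a0f0003) (.node 68056 (.leaf 0x0) (.leaf 0xa0f0002))))))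

def argWS_6029 : Store := (.node 68034 argWS_6027 argWS_6028)

def argWS_6030 : Store := (.node 68068 (.node 68062 (.node 68059 (.node 68058 (.leaf 0x0) (.leaf 0x0)) (.node 68060 (.leaf 0x10303010102000802040105000c) (.node 68061 (.leaf 0x0) (.leaf 0x0)))) (.node 68065 (.node 68063 (.leaf 0x109dd009478) (.node 68064 (.leaf 0xe0a0a0003) (.leaf 0x0))) (.node 68066 (.leaf 0x20902000003010202000701000c) (.node 68067 (.leaf 0x0) (.leaf 0xf0b0b0003))))) (.node 68073 (.node 68070 (.node 68069 (.leaf 0xf0a0a0003) (.leaf 0xb0a0f0003)) (.node 68071 (.leaf 0xd0b0002) (.node 68072 (.leaf 0x109e60109e5) (.leaf 0x306010500020802040105000b)))) (.node 68076 (.node 68074 (.leaf 0x0) (.node 68075 (.leaf 0xb0a0a0003) (.leaf 0x0))) (.node 68077 (.leaf 0xb0b0a0003) (.node 68078 (.leaf 0x0) (.leaf 0x0))))))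

def argWS_6031 : Store := (.node 68090 (.node 68084 (.node 68081 (.node 68080 (.leaf 0x4020106060005) (.leaf 0x0)) (.node 68082 (.leaf 0xd0b0b0003) (.node 68083 (.leaf 0x0) (.leaf 0x109f2)))) (.node 68087 (.node 68085 (.leaf 0xf0a0a0003) (.node 68086 (.leaf 0x0) (.leaf 0x3040300020804000202000701000d))) (.node 68088 (.leaf 0x0) (.node 68089 (.leaf 0xf0a0a0003) (.leaf 0xd0001))))) (.node 68096 (.node 68093 (.node 68091 (.leaf 0xd0001) (.node 68092 (.leaf 0xb0a0a0003) (.leaf 0x109fb0109fa))) (.node 68094 (.leaf 0xb0f0002) (.node 68095 (.leaf 0x0) (.leaf 0xb0b0a0003)))) (.node 68099 (.node 68097 (.leaf 0x0) (.node 68098 (.leaf 0x0) (.leaf 0xe0a0a0003))) (.node 68100 (.leaf 0xa0f0b0003) (.node 68101 (.leaf 0x90106060004) (.leaf 0x0))))))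

def argWS_6032 : Store := (.node 68079 argWS_6030 argWS_6031)

def argWS_6033 : Store := (.node 68057 argWS_6029 argWS_6032)

def argWS_6034 : Store := (.node 68113 (.node 68107 (.node 68104 (.node 68103 (.leaf 0xb0b0a0a0004) (.leaf 0x0)) (.node 68105 (.leaf 0x10a07010a03) (.node 68106 (.leaf 0xe0a0a0003) (.leaf 0x0)))) (.node 68110 (.node 68108 (.leaf 0xd0b0002) (.node 68109 (.leaf 0x0) (.leaf 0x0))) (.node 68111 (.leaf 0xa0f0b0b0004) (.node 68112 (.leaf 0xe0d0002) (.leaf 0xf0b0a0003))))) (.node 68118 (.node 68115 (.node 68114 (.leaf 0x10a10010a0f) (.leaf 0xa0001)) (.node 68116 (.leaf 0x0) (.node 68117 (.leaf 0xa0001) (.leaf 0x0)))) (.node 68121 (.node 68119 (.leaf 0x0) (.node 68120 (.leaf 0x602050206040202000701000b) (.leaf 0x0))) (.node 68122 (.leaf 0xb0b0a0a0004) (.node 68123 (.leaf 0x0) (.leaf 0x601020101090402000703040103000e))))))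

def argWS_6035 : Store := (.node 68135 (.node 68129 (.node 68126 (.node 68125 (.leaf 0x0) (.leaf 0x0)) (.node 68127 (.leaf 0x10a1d010a1a) (.node 68128 (.leaf 0xf0b0b0a0004) (.leaf 0x0)))) (.node 68132 (.node 68130 (.leaf 0xa0f0b0003) (.node 68131 (.leaf 0x0) (.leaf 0x70401070306000703040103000c))) (.node 68133 (.leaf 0x0) (.node 68134 (.leaf 0xb0a0a0003) (.leaf 0x0))))) (.node 68141 (.node 68138 (.node 68136 (.leaf 0xa0f0b0003) (.node 68137 (.leaf 0x10a27) (.leaf 0xa0f0b0b0004))) (.node 68139 (.leaf 0x0) (.node 68140 (.leaf 0x9040208020401050009) (.leaf 0x0)))) (.node 68144 (.node 68142 (.leaf 0xb0f0002) (.node 68143 (.leaf 0xf0b0002) (.leaf 0x10a2e003cb9))) (.node 68145 (.leaf 0xd0001) (.node 68146 (.leaf 0x0) (.leaf 0xa0f0b0003))))))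

def argWS_6036 : Store := (.node 68124 argWS_6034 argWS_6035)

def argWS_6037 : Store := (.node 68158 (.node 68152 (.node 68149 (.node 68148 (.leaf 0x0) (.leaf 0x0)) (.node 68150 (.leaf 0xe0001) (.node 68151 (.leaf 0x507030004) (.leaf 0x0)))) (.node 68155 (.node 68153 (.leaf 0xf0b0a0003) (.node 68154 (.leaf 0x0) (.leaf 0xf0b0a0a0004))) (.node 68156 (.leaf 0x10a3a010a39) (.node 68157 (.leaf 0x9060308020401050008) (.leaf 0x0))))) (.node 68164 (.node 68161 (.node 68159 (.leaf 0xf0001) (.node 68160 (.leaf 0x0) (.leaf 0xf0b0b0a0004))) (.node 68162 (.leaf 0x0) (.node 68163 (.leaf 0x0) (.leaf 0xb0f0a0003)))) (.node 68167 (.node 68165 (.leaf 0xb0b0002) (.node 68166 (.leaf 0x10a44) (.leaf 0xa0f0b0b0004))) (.node 68168 (.leaf 0x0) (.node 68169 (.leaf 0xf0b0b0003) (.leaf 0x0))))))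

def argWS_6038 : Store := (.node 68181 (.node 68175 (.node 68172 (.node 68171 (.leaf 0x0) (.leaf 0xb0f0a0a0004)) (.node 68173 (.leaf 0xb0a0002) (.node 68174 (.leaf 0x6020007010006) (.leaf 0x0)))) (.node 68178 (.node 68176 (.leaf 0xb0f0002) (.node 68177 (.leaf 0x0) (.leaf 0x10a50010a4c))) (.node 68179 (.leaf 0x103090000090802040105000b) (.node 68180 (.leaf 0x0) (.leaf 0xb0f0a0003))))) (.node 68187 (.node 68184 (.node 68182 (.leaf 0x0) (.node 68183 (.leaf 0xf0a0a0003) (.leaf 0x0))) (.node 68185 (.leaf 0x0) (.node 68186 (.leaf 0xb0f0a0a0004) (.leaf 0xf0b0a0a0004)))) (.node 68190 (.node 68188 (.leaf 0x10a5a) (.node 68189 (.leaf 0xf0b0b0003) (.leaf 0x0))) (.node 68191 (.leaf 0xf0b0a0003) (.node 68192 (.leaf 0x0) (.leaf 0x0))))))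

def argWS_6039 : Store := (.node 68170 argWS_6037 argWS_6038)

def argWS_6040 : Store := (.node 68147 argWS_6036 argWS_6039)

def argWS_6041 : Store := (.node 68102 argWS_6033 argWS_6040)

def argWS_6042 : Store := (.node 68012 argWS_6026 argWS_6041)

def argWS_6043 : Store := (.node 68204 (.node 68198 (.node 68195 (.node 68194 (.leaf 0x5000904020802040105000a) (.leaf 0x0)) (.node 68196 (.leaf 0xb0f0a0003) (.node 68197 (.leaf 0x0) (.leaf 0xb0f0a0003)))) (.node 68201 (.node 68199 (.leaf 0x8010103010102000008) (.node 68200 (.leaf 0x0) (.leaf 0xb0b0a0a0004))) (.node 68202 (.leaf 0x0) (.node 68203 (.leaf 0x10a69) (.leaf 0x90104020106060202000701000c))))) (.node 68209 (.node 68206 (.node 68205 (.leaf 0x0) (.leaf 0xa0f0002)) (.node 68207 (.leaf 0x0) (.node 68208 (.leaf 0xf0b0b0a0004) (.leaf 0x0)))) (.node 68212 (.node 68210 (.leaf 0x0) (.node 68211 (.leaf 0xb0b0a0a0004) (.leaf 0xb0a0f0003))) (.node 68213 (.leaf 0x20000090206020007) (.node 68214 (.leaf 0x0)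 (.leaf 0x0))))))

def argWS_6044 : Store := (.node 68226 (.node 68220 (.node 68217 (.node 68216 (.leaf 0x10a76010a73) (.leaf 0xb0b0a0003)) (.node 68218 (.leaf 0x0) (.node 68219 (.leaf 0xe0a0002) (.leaf 0x0)))) (.node 68223 (.node 68221 (.leaf 0xe0d0002) (.node 68222 (.leaf 0x0) (.leaf 0x103080007030401030009))) (.node 68224 (.leaf 0x0) (.node 68225 (.leaf 0xa0f0b0003) (.leaf 0x0))))) (.node 68232 (.node 68229 (.node 68227 (.leaf 0x10877010a81) (.node 68228 (.leaf 0xb0a0f0003) (.leaf 0x0))) (.node 68230 (.leaf 0xd0b0002) (.node 68231 (.leaf 0x0) (.leaf 0x0)))) (.node 68235 (.node 68233 (.leaf 0xf0b0a0003) (.node 68234 (.leaf 0x0) (.leaf 0x10a8900a2a5))) (.node 68236 (.leaf 0x0) (.node 68237 (.leaf 0xd0001) (.leaf 0x0))))))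

def argWS_6045 : Store := (.node 68215 argWS_6043 argWS_6044)

def argWS_6046 : Store := (.node 68249 (.node 68243 (.node 68240 (.node 68239 (.leaf 0x0) (.leaf 0xf0a0a0003)) (.node 68241 (.leaf 0x20103010102000007) (.node 68242 (.leaf 0x0) (.leaf 0xb0a0f0003)))) (.node 68246 (.node 68244 (.leaf 0x0) (.node 68245 (.leaf 0x818e010a93) (.leaf 0xb0b0002))) (.node 68247 (.leaf 0x0) (.node 68248 (.leaf 0xf0001) (.leaf 0x0))))) (.node 68254 (.node 68251 (.node 68250 (.leaf 0x0) (.leaf 0xe0d0002)) (.node 68252 (.leaf 0xa0001) (.node 68253 (.leaf 0x5e4010a9b) (.leaf 0x20905020202010202000701000c)))) (.node 68257 (.node 68255 (.leaf 0x0) (.node 68256 (.leaf 0xb0a0a0003) (.leaf 0x0))) (.node 68258 (.leaf 0x0) (.node 68259 (.leaf 0xa0001) (.leaf 0x30400050005))))))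

def argWS_6047 : Store := (.node 68271 (.node 68265 (.node 68262 (.node 68261 (.leaf 0x0) (.leaf 0xa0f0b0b0004)) (.node 68263 (.leaf 0x0) (.node 68264 (.leaf 0x10aa6010aa2) (.leaf 0xf0b0002)))) (.node 68268 (.node 68266 (.leaf 0x0) (.node 68267 (.leaf 0xd0b0b0003) (.leaf 0x0))) (.node 68269 (.leaf 0x0) (.node 68270 (.leaf 0xb0b0a0003) (.leaf 0x4010900090202000701000a))))) (.node 68277 (.node 68274 (.node 68272 (.leaf 0x0) (.node 68273 (.leaf 0x0) (.leaf 0x10ab0))) (.node 68275 (.leaf 0xb0b0a0003) (.node 68276 (.leaf 0x0) (.leaf 0xb0a0f0003)))) (.node 68280 (.node 68278 (.leaf 0x0) (.node 68279 (.leaf 0x0) (.leaf 0x8020904020802040105000a))) (.node 68281 (.leaf 0x0) (.node 68282 (.leaf 0xa0f0002) (.leaf 0x0))))))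

def argWS_6048 : Store := (.node 68260 argWS_6046 argWS_6047)

def argWS_6049 : Store := (.node 68238 argWS_6045 argWS_6048)

def argWS_6050 : Store := (.node 68294 (.node 68288 (.node 68285 (.node 68284 (.leaf 0x10aba) (.leaf 0xd0001)) (.node 68286 (.leaf 0x0) (.node 68287 (.leaf 0x2070009030006) (.leaf 0x0)))) (.node 68291 (.node 68289 (.leaf 0xa0f0b0b0004) (.node 68290 (.leaf 0xe0a0a0003) (.leaf 0xe0a0002))) (.node 68292 (.leaf 0x9000009000703040103000b) (.node 68293 (.leaf 0x0) (.leaf 0xd0b0b0003))))) (.node 68299 (.node 68296 (.node 68295 (.leaf 0x0) (.leaf 0x10ac6010ac2)) (.node 68297 (.leaf 0x202000003) (.node 68298 (.leaf 0x0) (.leaf 0xf0b0a0003)))) (.node 68302 (.node 68300 (.leaf 0x0) (.node 68301 (.leaf 0xf0b0002) (.leaf 0x0))) (.node 68303 (.leaf 0x0) (.node 68304 (.leaf 0xd0001) (.leaf 0x2000207000903000703040103000d))))))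

def argWS_6051 : Store := (.node 68316 (.node 68310 (.node 68307 (.node 68306 (.leaf 0x0) (.leaf 0xa0a0002)) (.node 68308 (.leaf 0x0) (.node 68309 (.leaf 0x2090106010500020802040105000d) (.leaf 0x0)))) (.node 68313 (.node 68311 (.leaf 0x0) (.node 68312 (.leaf 0x10ad6010ad3) (.leaf 0xe0a0a0003))) (.node 68314 (.leaf 0x0) (.node 68315 (.leaf 0x3070207020007010008) (.leaf 0x0))))) (.node 68322 (.node 68319 (.node 68317 (.leaf 0xd0001) (.node 68318 (.leaf 0xf0b0b0003) (.leaf 0xf0b0b0003))) (.node 68320 (.leaf 0x0) (.node 68321 (.leaf 0xf0b0a0a0004) (.leaf 0x10ae0010adf)))) (.node 68325 (.node 68323 (.leaf 0xf0a0002) (.node 68324 (.leaf 0x0) (.leaf 0xb0f0002))) (.node 68326 (.leaf 0x0) (.node 68327 (.leaf 0x0) (.leaf 0xf0b0a0003))))))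

def argWS_6052 : Store := (.node 68305 argWS_6050 argWS_6051)

def argWS_6053 : Store := (.node 68339 (.node 68333 (.node 68330 (.node 68329 (.leaf 0xa0f0b0003) (.leaf 0xa0f0b0003)) (.node 68331 (.leaf 0x10ae9010ae8) (.node 68332 (.leaf 0xe0a0a0003) (.leaf 0x0)))) (.node 68336 (.node 68334 (.leaf 0xb0b0a0a0004) (.node 68335 (.leaf 0x0) (.leaf 0x0))) (.node 68337 (.leaf 0xf0b0a0a0004) (.node 68338 (.leaf 0xa0f0002) (.leaf 0xe0001))))) (.node 68344 (.node 68341 (.node 68340 (.leaf 0x10af2010af1) (.leaf 0xb0a0a0003)) (.node 68342 (.leaf 0x0) (.node 68343 (.leaf 0xb0a0002) (.leaf 0x0)))) (.node 68347 (.node 68345 (.leaf 0x0) (.node 68346 (.leaf 0xd0b0b0003) (.leaf 0xb0b0002))) (.node 68348 (.leaf 0xa0f0b0003) (.node 68349 (.leaf 0x10afb010afa) (.leaf 0x40308020401050007))))))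

def argWS_6054 : Store := (.node 68361 (.node 68355 (.node 68352 (.node 68351 (.leaf 0x0) (.leaf 0xa0f0b0003)) (.node 68353 (.leaf 0x0) (.node 68354 (.leaf 0xd0b0002) (.leaf 0x0)))) (.node 68358 (.node 68356 (.leaf 0x0) (.node 68357 (.leaf 0x30700070206000802040105000c) (.leaf 0x0))) (.node 68359 (.leaf 0xd0b0002) (.node 68360 (.leaf 0x0) (.leaf 0xf0b0b0a0004))))) (.node 68367 (.node 68364 (.node 68362 (.leaf 0xf0b0002) (.node 68363 (.leaf 0x10b09010b08) (.leaf 0xf0a0a0003))) (.node 68365 (.leaf 0x0) (.node 68366 (.leaf 0x300070206000202000701000b) (.leaf 0x0)))) (.node 68370 (.node 68368 (.leaf 0xd0001) (.node 68369 (.leaf 0xb0f0a0003) (.leaf 0x9030006010500020802040105000d))) (.node 68371 (.leaf 0x0) (.node 68372 (.leaf 0xb0b0002) (.leaf 0x0))))))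

def argWS_6055 : Store := (.node 68350 argWS_6053 argWS_6054)

def argWS_6056 : Store := (.node 68328 argWS_6052 argWS_6055)

def argWS_6057 : Store := (.node 68283 argWS_6049 argWS_6056)

def argWS_6058 : Store := (.node 68384 (.node 68378 (.node 68375 (.node 68374 (.leaf 0x10b140093de) (.leaf 0xa0a0002)) (.node 68376 (.leaf 0x0) (.node 68377 (.leaf 0xe0a0a0003) (.leaf 0x0)))) (.node 68381 (.node 68379 (.leaf 0x0) (.node 68380 (.leaf 0x90105020202010802040105000c) (.leaf 0x0))) (.node 68382 (.leaf 0xb0a0a0003) (.node 68383 (.leaf 0x0) (.leaf 0x6000202090000000703040103000e))))) (.node 68389 (.node 68386 (.node 68385 (.leaf 0x0) (.leaf 0xa0001)) (.node 68387 (.leaf 0x0) (.node 68388 (.leaf 0x10b22010b1e) (.leaf 0xa0001)))) (.node 68392 (.node 68390 (.leaf 0x0) (.node 68391 (.leaf 0xf0a0a0003) (.leaf 0x0))) (.node 68393 (.leaf 0x0) (.node 68394 (.leaf 0xf0a0a0003) (.leaf 0xd0b0002))))))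

def argWS_6059 : Store := (.node 68406 (.node 68400 (.node 68397 (.node 68396 (.leaf 0x10b2a) (.leaf 0xf0b0002)) (.node 68398 (.leaf 0x0) (.node 68399 (.leaf 0xb0b0a0a0004) (.leaf 0x0)))) (.node 68403 (.node 68401 (.leaf 0x0) (.node 68402 (.leaf 0xa0a0002) (.leaf 0x403010904020006))) (.node 68404 (.leaf 0x0) (.node 68405 (.leaf 0xb0a0f0003) (.leaf 0x0))))) (.node 68412 (.node 68409 (.node 68407 (.leaf 0x80002020900000007) (.node 68408 (.leaf 0x0) (.leaf 0xb0b0a0a0004))) (.node 68410 (.leaf 0x0) (.node 68411 (.leaf 0x10b39010b35) (.leaf 0xb0f0a0003)))) (.node 68415 (.node 68413 (.leaf 0x0) (.node 68414 (.leaf 0xf0b0b0a0a0005) (.leaf 0x0))) (.node 68416 (.leaf 0x0) (.node 68417 (.leaf 0xb0f0a0003) (.leaf 0x605090806000802040105000b))))))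

def argWS_6060 : Store := (.node 68395 argWS_6058 argWS_6059)

def argWS_6061 : Store := (.node 68429 (.node 68423 (.node 68420 (.node 68419 (.leaf 0x0) (.leaf 0xe0a0a0003)) (.node 68421 (.leaf 0x0) (.node 68422 (.leaf 0x10b44010b40) (.leaf 0xb0b0002)))) (.node 68426 (.node 68424 (.leaf 0x0) (.node 68425 (.leaf 0xd0001) (.leaf 0x0))) (.node 68427 (.leaf 0x0) (.node 68428 (.leaf 0xb0f0002) (.leaf 0xf0001))))) (.node 68434 (.node 68431 (.node 68430 (.leaf 0xb0a0002) (.leaf 0x10b4d010b4c)) (.node 68432 (.leaf 0xe0a0002) (.node 68433 (.leaf 0x0) (.leaf 0xf0b0a0a0004)))) (.node 68437 (.node 68435 (.leaf 0x0) (.node 68436 (.leaf 0x0) (.leaf 0xe0d0002))) (.node 68438 (.leaf 0xb0a0002) (.node 68439 (.leaf 0xf0a0002) (.leaf 0x10b56010b55))))))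

def argWS_6062 : Store := (.node 68451 (.node 68445 (.node 68442 (.node 68441 (.leaf 0xf0b0a0a0004) (.leaf 0x0)) (.node 68443 (.leaf 0x30506020702010802040105000c) (.node 68444 (.leaf 0x0) (.leaf 0xd0b0b0003)))) (.node 68448 (.node 68446 (.leaf 0xf0b0b0a0a0005) (.node 68447 (.leaf 0xa0f0002) (.leaf 0x10b5e010b5d))) (.node 68449 (.leaf 0xb0001) (.node 68450 (.leaf 0x0) (.leaf 0xf0b0a0a0004))))) (.node 68457 (.node 68454 (.node 68452 (.leaf 0x0) (.node 68453 (.leaf 0x0) (.leaf 0xb0f0002))) (.node 68455 (.leaf 0xb6fe) (.node 68456 (.leaf 0x60201070306000703040103000c) (.leaf 0x0)))) (.node 68460 (.node 68458 (.leaf 0xb0b0002) (.node 68459 (.leaf 0x0) (.leaf 0xb0b0002))) (.node 68461 (.leaf 0x0) (.node 68462 (.leaf 0xb0b0002) (.leaf 0xf0b0002))))))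

def argWS_6063 : Store := (.node 68440 argWS_6061 argWS_6062)

def argWS_6064 : Store := (.node 68418 argWS_6060 argWS_6063)

def argWS_6065 : Store := (.node 68474 (.node 68468 (.node 68465 (.node 68464 (.leaf 0xb0b0002) (.leaf 0x10b6f010b6e)) (.node 68466 (.leaf 0x10403080004) (.node 68467 (.leaf 0x0) (.leaf 0xb0f0a0a0004)))) (.node 68471 (.node 68469 (.leaf 0x0) (.node 68470 (.leaf 0xa0f0002) (.leaf 0x0))) (.node 68472 (.leaf 0x0) (.node 68473 (.leaf 0xf0b0b0003) (.leaf 0xa0a0002))))) (.node 68479 (.node 68476 (.node 68475 (.leaf 0x10b79) (.leaf 0x4000406020702010202000701000d)) (.node 68477 (.leaf 0x0) (.node 68478 (.leaf 0xb0001) (.leaf 0x0)))) (.node 68482 (.node 68480 (.leaf 0xe0d0002) (.node 68481 (.leaf 0x0) (.leaf 0x0))) (.node 68483 (.leaf 0xe0d0002) (.node 68484 (.leaf 0xf0b0a0003) (.leaf 0xf0001))))))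

def argWS_6066 : Store := (.node 68496 (.node 68490 (.node 68487 (.node 68486 (.leaf 0x10b84010b83) (.leaf 0xb0001)) (.node 68488 (.leaf 0x0) (.node 68489 (.leaf 0xf0b0b0003) (.leaf 0x0)))) (.node 68493 (.node 68491 (.leaf 0x0) (.node 68492 (.leaf 0xa0a0002) (.leaf 0x4030009000009000703040103000d))) (.node 68494 (.leaf 0x0) (.node 68495 (.leaf 0xb0a0f0003) (.leaf 0x0))))) (.node 68502 (.node 68499 (.node 68497 (.leaf 0x10b8f00d1d3) (.node 68498 (.leaf 0xb0f0002) (.leaf 0x0))) (.node 68500 (.leaf 0x2050202000003010008) (.node 68501 (.leaf 0x0) (.leaf 0xe0d0002)))) (.node 68505 (.node 68503 (.leaf 0xa0001) (.node 68504 (.leaf 0xb0f0002) (.leaf 0xf0001))) (.node 68506 (.leaf 0x10b98) (.node 68507 (.leaf 0x0) (.leaf 0xb0b0a0a0004))))))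

def argWS_6067 : Store := (.node 68485 argWS_6065 argWS_6066)

def argWS_6068 : Store := (.node 68519 (.node 68513 (.node 68510 (.node 68509 (.leaf 0x0) (.leaf 0x0)) (.node 68511 (.leaf 0x5000300000202000701000a) (.node 68512 (.leaf 0x0) (.leaf 0xb0f0a0003)))) (.node 68516 (.node 68514 (.leaf 0x0) (.node 68515 (.leaf 0xe0a0a0003) (.leaf 0x10ba2010ba1))) (.node 68517 (.leaf 0xf0b0002) (.node 68518 (.leaf 0x0) (.leaf 0xb0a0a0003))))) (.node 68525 (.node 68522 (.node 68520 (.leaf 0x0) (.node 68521 (.leaf 0x0) (.leaf 0xb0001))) (.node 68523 (.leaf 0xd0b0b0003) (.node 68524 (.leaf 0xd0001) (.leaf 0x10bab010baa)))) (.node 68528 (.node 68526 (.leaf 0xe0d0002) (.node 68527 (.leaf 0x0) (.leaf 0xd0001))) (.node 68529 (.leaf 0x0) (.node 68530 (.leaf 0xb0b0002) (.leaf 0xf0a0002))))))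

def argWS_6069 : Store := (.node 68542 (.node 68536 (.node 68533 (.node 68532 (.leaf 0x3050004000703040103000a) (.leaf 0x0)) (.node 68534 (.leaf 0xd0b0b0003) (.node 68535 (.leaf 0x0) (.leaf 0x10bb6010bb2)))) (.node 68539 (.node 68537 (.leaf 0xa0a0002) (.node 68538 (.leaf 0x0) (.leaf 0xb0a0a0003))) (.node 68540 (.leaf 0x0) (.node 68541 (.leaf 0x0) (.leaf 0xd0b0002))))) (.node 68548 (.node 68545 (.node 68543 (.leaf 0x40005020202010802040105000c) (.node 68544 (.leaf 0x0) (.leaf 0xf0a0002))) (.node 68546 (.leaf 0x0) (.node 68547 (.leaf 0xf0b0a0a0004) (.leaf 0x10bc2010bc1)))) (.node 68551 (.node 68549 (.leaf 0x6080007030401030008) (.node 68550 (.leaf 0x0) (.leaf 0xb0a0f0003))) (.node 68552 (.leaf 0x0) (.node 68553 (.leaf 0xb0b0a0003) (.leaf 0x0))))))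

def argWS_6070 : Store := (.node 68531 argWS_6068 argWS_6069)

def argWS_6071 : Store := (.node 68508 argWS_6067 argWS_6070)

def argWS_6072 : Store := (.node 68463 argWS_6064 argWS_6071)

def argWS_6073 : Store := (.node 68373 argWS_6057 argWS_6072)

def argWS_6074 : Store := (.node 68193 argWS_6042 argWS_6073)

def argWS_6075 : Store := (.node 68565 (.node 68559 (.node 68556 (.node 68555 (.leaf 0x0) (.leaf 0x2040307000902000701000a)) (.node 68557 (.leaf 0x0) (.node 68558 (.leaf 0xf0b0b0003) (.leaf 0x0)))) (.node 68562 (.node 68560 (.leaf 0xa0001) (.node 68561 (.leaf 0x200000007030401030009) (.leaf 0x0))) (.node 68563 (.leaf 0xa0f0b0b0004) (.node 68564 (.leaf 0x0) (.leaf 0x10bd3010bcf))))) (.node 68570 (.node 68567 (.node 68566 (.leaf 0xb0b0002) (.leaf 0x0)) (.node 68568 (.leaf 0xe0001) (.node 68569 (.leaf 0x0) (.leaf 0x0)))) (.node 68573 (.node 68571 (.leaf 0xa0a0002) (.node 68572 (.leaf 0xf0a0a0003) (.leaf 0x10bdb010bda))) (.node 68574 (.leaf 0xb0f0a0a0004)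 (.node 68575 (.leaf 0x0) (.leaf 0xe0001))))))

def argWS_6076 : Store := (.node 68587 (.node 68581 (.node 68578 (.node 68577 (.leaf 0x0) (.leaf 0x0)) (.node 68579 (.leaf 0x90201010904020202000701000c) (.node 68580 (.leaf 0x0) (.leaf 0x0)))) (.node 68584 (.node 68582 (.leaf 0x1030703060202000701000a) (.node 68583 (.leaf 0x0) (.leaf 0xb0f0a0a0004))) (.node 68585 (.leaf 0x0) (.node 68586 (.leaf 0x10be800075a) (.leaf 0xd0001))))) (.node 68593 (.node 68590 (.node 68588 (.leaf 0x0) (.node 68589 (.leaf 0x601010703060006) (.leaf 0x0))) (.node 68591 (.leaf 0xf0b0b0003) (.node 68592 (.leaf 0x90503000408010007) (.leaf 0x0)))) (.node 68596 (.node 68594 (.leaf 0x0) (.node 68595 (.leaf 0x705020603000703040103000b) (.leaf 0x0))) (.node 68597 (.leaf 0x0) (.node 68598 (.leaf 0x10bf4010bf1) (.leaf 0x8000207020007010009))))))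

def argWS_6077 : Store := (.node 68576 argWS_6075 argWS_6076)

def argWS_6078 : Store := (.node 68610 (.node 68604 (.node 68601 (.node 68600 (.leaf 0x0) (.leaf 0xf0001)) (.node 68602 (.leaf 0x0) (.node 68603 (.leaf 0xb0f0002) (.leaf 0x0)))) (.node 68607 (.node 68605 (.leaf 0x0) (.node 68606 (.leaf 0xb0b0a0a0004) (.leaf 0xb0a0a0003))) (.node 68608 (.leaf 0x10702010bfe) (.node 68609 (.leaf 0xd0b0002) (.leaf 0x0))))) (.node 68615 (.node 68612 (.node 68611 (.leaf 0xb0b0a0a0004) (.leaf 0x0)) (.node 68613 (.leaf 0x0) (.node 68614 (.leaf 0xb0a0f0003) (.leaf 0x8050006020702010008)))) (.node 68618 (.node 68616 (.leaf 0x0) (.node 68617 (.leaf 0xa0f0002) (.leaf 0x0))) (.node 68619 (.leaf 0xb0a0f0003) (.node 68620 (.leaf 0x10c0a010c09) (.leaf 0xb0b0a0003))))))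

def argWS_6079 : Store := (.node 68632 (.node 68626 (.node 68623 (.node 68622 (.leaf 0x0) (.leaf 0xb0a0f0003)) (.node 68624 (.leaf 0x0) (.node 68625 (.leaf 0x0) (.leaf 0xe0d0002)))) (.node 68629 (.node 68627 (.leaf 0xb0f0002) (.node 68628 (.leaf 0x90403080004) (.leaf 0x0))) (.node 68630 (.leaf 0xf0b0b0a0004) (.node 68631 (.leaf 0x0) (.leaf 0x10c16010c12))))) (.node 68638 (.node 68635 (.node 68633 (.leaf 0xf0b0b0003) (.node 68634 (.leaf 0x0) (.leaf 0xf0b0b0003))) (.node 68636 (.leaf 0x0) (.node 68637 (.leaf 0xf0001) (.leaf 0x10c1c)))) (.node 68641 (.node 68639 (.leaf 0xd0001) (.node 68640 (.leaf 0x0) (.leaf 0xa0001))) (.node 68642 (.leaf 0x0) (.node 68643 (.leaf 0x0) (.leaf 0x90503010908050007))))))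

def argWS_6080 : Store := (.node 68621 argWS_6078 argWS_6079)

def argWS_6081 : Store := (.node 68599 argWS_6077 argWS_6080)

def argWS_6082 : Store := (.node 68655 (.node 68649 (.node 68646 (.node 68645 (.leaf 0x0) (.leaf 0xa0f0002)) (.node 68647 (.leaf 0x0) (.node 68648 (.leaf 0x2070900090202000701000a) (.leaf 0x0)))) (.node 68652 (.node 68650 (.leaf 0x0) (.node 68651 (.leaf 0x10c29010c26) (.leaf 0xe0a0002))) (.node 68653 (.leaf 0x0) (.node 68654 (.leaf 0xa0f0002) (.leaf 0x0))))) (.node 68660 (.node 68657 (.node 68656 (.leaf 0x0) (.leaf 0xe0001)) (.node 68658 (.leaf 0xa0a0002) (.node 68659 (.leaf 0x10c31) (.leaf 0x20401090806000007)))) (.node 68663 (.node 68661 (.leaf 0x0) (.node 68662 (.leaf 0xe0a0002) (.leaf 0x0))) (.node 68664 (.leaf 0xb0f0a0003) (.node 68665 (.leaf 0x0) (.leaf 0x0))))))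

def argWS_6083 : Store := (.node 68677 (.node 68671 (.node 68668 (.node 68667 (.leaf 0x7030007030401030008) (.leaf 0x0)) (.node 68669 (.leaf 0xa0f0002) (.node 68670 (.leaf 0x0) (.leaf 0x201070206000802040105000b)))) (.node 68674 (.node 68672 (.leaf 0x0) (.node 68673 (.leaf 0xb0a0002) (.leaf 0x0))) (.node 68675 (.leaf 0x1072f010c41) (.node 68676 (.leaf 0xe0a0002) (.leaf 0x0))))) (.node 68683 (.node 68680 (.node 68678 (.leaf 0xe0001) (.node 68679 (.leaf 0x0) (.leaf 0x0))) (.node 68681 (.leaf 0xb0f0a0003) (.node 68682 (.leaf 0x60202020900000007) (.leaf 0x0)))) (.node 68686 (.node 68684 (.leaf 0xb0f0a0003) (.node 68685 (.leaf 0x0) (.leaf 0x10c4c))) (.node 68687 (.leaf 0xd0b0b0003) (.node 68688 (.leaf 0x0) (.leaf 0xf0b0a0003))))))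

def argWS_6084 : Store := (.node 68666 argWS_6082 argWS_6083)

def argWS_6085 : Store := (.node 68700 (.node 68694 (.node 68691 (.node 68690 (.leaf 0x0) (.leaf 0x0)) (.node 68692 (.leaf 0xa0f0b0b0004) (.node 68693 (.leaf 0xd0b0b0003) (.leaf 0xd0b0b0003)))) (.node 68697 (.node 68695 (.leaf 0x10c55010c54) (.node 68696 (.leaf 0xf0a0a0003) (.leaf 0x0))) (.node 68698 (.leaf 0xf0a0002) (.node 68699 (.leaf 0x0) (.leaf 0x0))))) (.node 68705 (.node 68702 (.node 68701 (.leaf 0xe0a0002) (.leaf 0x2010300090206020802040105000d)) (.node 68703 (.leaf 0x0) (.node 68704 (.leaf 0xe0d0002) (.leaf 0x0)))) (.node 68708 (.node 68706 (.leaf 0x10c60) (.node 68707 (.leaf 0x20403010703060802040105000c) (.leaf 0x0))) (.node 68709 (.leaf 0xb0001) (.node 68710 (.leaf 0x0) (.leaf 0xf0b0a0003))))))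

def argWS_6086 : Store := (.node 68722 (.node 68716 (.node 68713 (.node 68712 (.leaf 0x0) (.leaf 0x0)) (.node 68714 (.leaf 0x1040703060005) (.node 68715 (.leaf 0x0) (.leaf 0xb0a0002)))) (.node 68719 (.node 68717 (.leaf 0x0) (.node 68718 (.leaf 0xb0f0002) (.leaf 0x6030102000003010802040105000d))) (.node 68720 (.leaf 0x0) (.node 68721 (.leaf 0x0) (.leaf 0x10c70010c6d))))) (.node 68728 (.node 68725 (.node 68723 (.leaf 0xf0b0a0003) (.node 68724 (.leaf 0x0) (.leaf 0xf0b0a0a0004))) (.node 68726 (.leaf 0x0) (.node 68727 (.leaf 0x0) (.leaf 0xa0f0002)))) (.node 68731 (.node 68729 (.leaf 0xf0a0a0003) (.node 68730 (.leaf 0xe6f2010c78) (.leaf 0xb0001))) (.node 68732 (.leaf 0x0) (.node 68733 (.leaf 0xb0a0002) (.leaf 0x0))))))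

def argWS_6087 : Store := (.node 68711 argWS_6085 argWS_6086)

def argWS_6088 : Store := (.node 68689 argWS_6084 argWS_6087)

def argWS_6089 : Store := (.node 68644 argWS_6081 argWS_6088)

def argWS_6090 : Store := (.node 68745 (.node 68739 (.node 68736 (.node 68735 (.leaf 0x0) (.leaf 0xa0001)) (.node 68737 (.leaf 0xa0001) (.node 68738 (.leaf 0xf0b0a0003) (.leaf 0x10c81010c80)))) (.node 68742 (.node 68740 (.leaf 0xf0b0b0003) (.node 68741 (.leaf 0x0) (.leaf 0xb0a0f0003))) (.node 68743 (.leaf 0x0) (.node 68744 (.leaf 0x0) (.leaf 0xa0f0b0b0004))))) (.node 68750 (.node 68747 (.node 68746 (.leaf 0xb0b0a0a0004) (.leaf 0x10c89010c88)) (.node 68748 (.leaf 0x9060000030000000703040103000d) (.node 68749 (.leaf 0x0) (.leaf 0xa0a0002)))) (.node 68753 (.node 68751 (.leaf 0x0) (.node 68752 (.leaf 0xf0b0002) (.leaf 0x0))) (.node 68754 (.leaf 0x0) (.node 68755 (.leaf 0xd0b0b0003) (.leaf 0xb0a0a0003))))))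

def argWS_6091 : Store := (.node 68767 (.node 68761 (.node 68758 (.node 68757 (.leaf 0xf0a0a0003) (.leaf 0x10c94010c93)) (.node 68759 (.leaf 0xf0b0002) (.node 68760 (.leaf 0x0) (.leaf 0xe0001)))) (.node 68764 (.node 68762 (.leaf 0x0) (.node 68763 (.leaf 0x0) (.leaf 0xf0b0a0a0004))) (.node 68765 (.leaf 0x9070207030802040105000a) (.node 68766 (.leaf 0x0) (.leaf 0xa0f0b0b0004))))) (.node 68773 (.node 68770 (.node 68768 (.leaf 0x0) (.node 68769 (.leaf 0x10c9f010c9b) (.leaf 0xb0f0a0a0004))) (.node 68771 (.leaf 0x0) (.node 68772 (.leaf 0xf0b0b0a0004) (.leaf 0x0)))) (.node 68776 (.node 68774 (.leaf 0x0) (.node 68775 (.leaf 0x601020400050202000701000b) (.leaf 0x0))) (.node 68777 (.leaf 0xf0b0a0003) (.node 68778 (.leaf 0x0) (.leaf 0xa0f0b0b0004))))))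

def argWS_6092 : Store := (.node 68756 argWS_6090 argWS_6091)

def argWS_6093 : Store := (.node 68790 (.node 68784 (.node 68781 (.node 68780 (.leaf 0x10caa010ca9) (.leaf 0xf0a0002)) (.node 68782 (.leaf 0x0) (.node 68783 (.leaf 0xf0b0002) (.leaf 0x0)))) (.node 68787 (.node 68785 (.leaf 0x0) (.node 68786 (.leaf 0xf0b0b0a0004) (.leaf 0x9070009020007010008))) (.node 68788 (.leaf 0x0) (.node 68789 (.leaf 0x0) (.leaf 0x10cb4010cb1))))) (.node 68795 (.node 68792 (.node 68791 (.leaf 0xa0a0002) (.leaf 0x0)) (.node 68793 (.leaf 0xf0b0b0a0004) (.node 68794 (.leaf 0x0) (.leaf 0x0)))) (.node 68798 (.node 68796 (.leaf 0xb0a0f0003) (.node 68797 (.leaf 0x20002000003010007) (.leaf 0x0))) (.node 68799 (.leaf 0xb0001) (.node 68800 (.leaf 0x0) (.leaf 0x10cbf010cbb))))))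

def argWS_6094 : Store := (.node 68812 (.node 68806 (.node 68803 (.node 68802 (.leaf 0xb0a0a0003) (.leaf 0x0)) (.node 68804 (.leaf 0x1030002010606000703040103000d) (.node 68805 (.leaf 0x0) (.leaf 0xf0b0b0003)))) (.node 68809 (.node 68807 (.leaf 0xf0b0a0003) (.node 68808 (.leaf 0xa0a0002) (.leaf 0xf0b0b0003))) (.node 68810 (.leaf 0x10cc8010cc7) (.node 68811 (.leaf 0xb0f0a0a0004) (.leaf 0x0))))) (.node 68818 (.node 68815 (.node 68813 (.leaf 0xd0b0b0003) (.node 68814 (.leaf 0x0) (.leaf 0x0))) (.node 68816 (.leaf 0xf0001) (.node 68817 (.leaf 0x8010106030500040802040105000d) (.leaf 0x0)))) (.node 68821 (.node 68819 (.leaf 0xa0001) (.node 68820 (.leaf 0x0) (.leaf 0x202020900090202000701000b))) (.node 68822 (.leaf 0x0) (.node 68823 (.leaf 0xf0001) (.leaf 0x0))))))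

def argWS_6095 : Store := (.node 68801 argWS_6093 argWS_6094)

def argWS_6096 : Store := (.node 68779 argWS_6092 argWS_6095)

def argWS_6097 : Store := (.node 68835 (.node 68829 (.node 68826 (.node 68825 (.leaf 0x10cd7010cd3) (.leaf 0xf0b0b0003)) (.node 68827 (.leaf 0x0) (.node 68828 (.leaf 0xf0a0a0003) (.leaf 0x0)))) (.node 68832 (.node 68830 (.leaf 0x0) (.node 68831 (.leaf 0xb0b0a0a0004) (.leaf 0xd0001))) (.node 68833 (.leaf 0x10cdf010cde) (.node 68834 (.leaf 0xa0f0b0003) (.leaf 0x0))))) (.node 68840 (.node 68837 (.node 68836 (.leaf 0xb0f0a0003) (.leaf 0x0)) (.node 68838 (.leaf 0x0) (.node 68839 (.leaf 0xd0b0002) (.leaf 0x20606030500040202000701000c)))) (.node 68843 (.node 68841 (.leaf 0x0) (.node 68842 (.leaf 0x0) (.leaf 0x50200090000090007))) (.node 68844 (.leaf 0x0) (.node 68845 (.leaf 0xa0a0002) (.leaf 0x0))))))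

def argWS_6098 : Store := (.node 68857 (.node 68851 (.node 68848 (.node 68847 (.leaf 0x10ced010ce9) (.leaf 0xf0b0b0003)) (.node 68849 (.leaf 0x0) (.node 68850 (.leaf 0xb0b0a0a0004) (.leaf 0x0)))) (.node 68854 (.node 68852 (.leaf 0x0) (.node 68853 (.leaf 0x70101020000030703040103000c) (.leaf 0x0))) (.node 68855 (.leaf 0xf0a0002) (.node 68856 (.leaf 0x0) (.leaf 0xa0f0b0003))))) (.node 68863 (.node 68860 (.node 68858 (.leaf 0x10cf8) (.node 68859 (.leaf 0x0) (.leaf 0x3040101090402000703040103000d))) (.node 68861 (.leaf 0x0) (.node 68862 (.leaf 0xb0001) (.leaf 0xa0f0002)))) (.node 68866 (.node 68864 (.leaf 0x10cfe00b047) (.node 68865 (.leaf 0xd0b0b0003) (.leaf 0x0))) (.node 68867 (.leaf 0xe0a0a0003) (.node 68868 (.leaf 0x0) (.leaf 0x0))))))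

def argWS_6099 : Store := (.node 68846 argWS_6097 argWS_6098)

def argWS_6100 : Store := (.node 68880 (.node 68874 (.node 68871 (.node 68870 (.leaf 0xb0a0a0003) (.leaf 0xb0b0a0a0004)) (.node 68872 (.leaf 0xf0001) (.node 68873 (.leaf 0x10d07010d06) (.leaf 0xf0b0b0003)))) (.node 68877 (.node 68875 (.leaf 0x0) (.node 68876 (.leaf 0xf0a0002) (.leaf 0x0))) (.node 68878 (.leaf 0x0) (.node 68879 (.leaf 0xe0d0002) (.leaf 0x502010908050006))))) (.node 68886 (.node 68883 (.node 68881 (.leaf 0x0) (.node 68882 (.leaf 0xb0001) (.leaf 0x0))) (.node 68884 (.leaf 0x10d12) (.node 68885 (.leaf 0xf0b0b0003) (.leaf 0x0)))) (.node 68889 (.node 68887 (.leaf 0x70004080703040103000a) (.node 68888 (.leaf 0x0) (.leaf 0xd0b0002))) (.node 68890 (.leaf 0xb0a0002) (.node 68891 (.leaf 0x600020000030703040103000c) (.leaf 0x0))))))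

def argWS_6101 : Store := (.node 68903 (.node 68897 (.node 68894 (.node 68893 (.leaf 0xd0b0002) (.leaf 0x0)) (.node 68895 (.leaf 0xf0b0a0a0004) (.node 68896 (.leaf 0x10d1e010d1d) (.leaf 0x6020109080600000703040103000d)))) (.node 68900 (.node 68898 (.leaf 0x0) (.node 68899 (.leaf 0xb0b0002) (.leaf 0x0))) (.node 68901 (.leaf 0xa0001) (.node 68902 (.leaf 0x0) (.leaf 0x0))))) (.node 68909 (.node 68906 (.node 68904 (.leaf 0x8000000030000000703040103000e) (.node 68905 (.leaf 0x0) (.leaf 0xb0b0a0003))) (.node 68907 (.leaf 0x0) (.node 68908 (.leaf 0xb0b0a0003) (.leaf 0xb0a0a0003)))) (.node 68912 (.node 68910 (.leaf 0x10d2c010d2b) (.node 68911 (.leaf 0xf0b0a0003) (.leaf 0x0))) (.node 68913 (.leaf 0xa0f0b0b0004) (.node 68914 (.leaf 0x0) (.leaf 0x0))))))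

def argWS_6102 : Store := (.node 68892 argWS_6100 argWS_6101)

def argWS_6103 : Store := (.node 68869 argWS_6099 argWS_6102)

def argWS_6104 : Store := (.node 68824 argWS_6096 argWS_6103)

def argWS_6105 : Store := (.node 68734 argWS_6089 argWS_6104)

def argWS_6106 : Store := (.node 68926 (.node 68920 (.node 68917 (.node 68916 (.leaf 0xb0f0a0a0004) (.leaf 0xb0f0a0003)) (.node 68918 (.leaf 0x10d3400b051) (.node 68919 (.leaf 0xa0f0b0b0004) (.leaf 0x0)))) (.node 68923 (.node 68921 (.leaf 0xd0b0002) (.node 68922 (.leaf 0x0) (.leaf 0x0))) (.node 68924 (.leaf 0xb0f0a0a0004) (.node 68925 (.leaf 0xe0a0002) (.leaf 0xd0b0002))))) (.node 68931 (.node 68928 (.node 68927 (.leaf 0x10d3d010d3c) (.leaf 0x8000400050202000701000b)) (.node 68929 (.leaf 0x0) (.node 68930 (.leaf 0xa0a0002) (.leaf 0x0)))) (.node 68934 (.node 68932 (.leaf 0xa0f0b0003) (.node 68933 (.leaf 0x0) (.leaf 0x0))) (.node 68935 (.leaf 0xa0f0b0b0004) (.node 68936 (.leaf 0x1090109000703040103000a) (.leaf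 0x0))))))

def argWS_6107 : Store := (.node 68948 (.node 68942 (.node 68939 (.node 68938 (.leaf 0xa0f0b0b0004) (.leaf 0x0)) (.node 68940 (.leaf 0x10d4a) (.node 68941 (.leaf 0x705020901060202000701000b) (.leaf 0x0)))) (.node 68945 (.node 68943 (.leaf 0xb0f0a0003) (.node 68944 (.leaf 0x0) (.leaf 0xd0b0002))) (.node 68946 (.leaf 0x0) (.node 68947 (.leaf 0x0) (.leaf 0xf0b0b0a0004))))) (.node 68954 (.node 68951 (.node 68949 (.leaf 0x70000030000000703040103000d) (.node 68950 (.leaf 0x0) (.leaf 0xf0b0b0a0a0005))) (.node 68952 (.leaf 0x0) (.node 68953 (.leaf 0xf0b0a0a0004) (.leaf 0x10d58010d57)))) (.node 68957 (.node 68955 (.leaf 0xb0f0002) (.node 68956 (.leaf 0x0) (.leaf 0xe0d0002))) (.node 68958 (.leaf 0x0) (.node 68959 (.leaf 0x0) (.leaf 0xb0f0a0a0004))))))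

def argWS_6108 : Store := (.node 68937 argWS_6106 argWS_6107)

def argWS_6109 : Store := (.node 68971 (.node 68965 (.node 68962 (.node 68961 (.leaf 0xf0b0a0a0004) (.leaf 0x10d60)) (.node 68963 (.leaf 0xb0f0a0a0004) (.node 68964 (.leaf 0x0) (.leaf 0xa0f0b0b0004)))) (.node 68968 (.node 68966 (.leaf 0x0) (.node 68967 (.leaf 0x0) (.leaf 0x1030904020202000701000a))) (.node 68969 (.leaf 0x0) (.node 68970 (.leaf 0xd0b0b0003) (.leaf 0x0))))) (.node 68976 (.node 68973 (.node 68972 (.leaf 0xf0b0a0003) (.leaf 0x402010606000703040103000c)) (.node 68974 (.leaf 0x0) (.node 68975 (.leaf 0x0) (.leaf 0x10d6e010d6b)))) (.node 68979 (.node 68977 (.leaf 0xf0b0002) (.node 68978 (.leaf 0x0) (.leaf 0xe0d0002))) (.node 68980 (.leaf 0x0) (.node 68981 (.leaf 0x0) (.leaf 0x801090206020006))))))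

def argWS_6110 : Store := (.node 68993 (.node 68987 (.node 68984 (.node 68983 (.leaf 0x0) (.leaf 0xe0001)) (.node 68985 (.leaf 0x0) (.node 68986 (.leaf 0x200070009030006) (.leaf 0x0)))) (.node 68990 (.node 68988 (.leaf 0xf0001) (.node 68989 (.leaf 0x0) (.leaf 0x10d7c010156))) (.node 68991 (.leaf 0xd0b0b0003) (.node 68992 (.leaf 0x0) (.leaf 0x206020702010202000701000c))))) (.node 68999 (.node 68996 (.node 68994 (.leaf 0x0) (.node 68995 (.leaf 0xf0b0a0a0004) (.leaf 0xa0a0002))) (.node 68997 (.leaf 0x28d7) (.node 68998 (.leaf 0xb0b0a0003) (.leaf 0x0)))) (.node 69002 (.node 69000 (.leaf 0xb0001) (.node 69001 (.leaf 0x0) (.leaf 0x0))) (.node 69003 (.leaf 0xb0a0f0003) (.node 69004 (.leaf 0xf0b0b0a0004) (.leaf 0x90000020804000202000701000c))))))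

def argWS_6111 : Store := (.node 68982 argWS_6109 argWS_6110)

def argWS_6112 : Store := (.node 68960 argWS_6108 argWS_6111)

def argWS_6113 : Store := (.node 69016 (.node 69010 (.node 69007 (.node 69006 (.leaf 0x0) (.leaf 0xa0001)) (.node 69008 (.leaf 0x0) (.node 69009 (.leaf 0x10d8f010d8b) (.leaf 0xb0f0a0a0004)))) (.node 69013 (.node 69011 (.leaf 0x0) (.node 69012 (.leaf 0xb0b0002) (.leaf 0x0))) (.node 69014 (.leaf 0x0) (.node 69015 (.leaf 0xf0b0b0003) (.leaf 0xf0001))))) (.node 69021 (.node 69018 (.node 69017 (.leaf 0x10d97) (.leaf 0x20105020604000703040103000c)) (.node 69019 (.leaf 0x0) (.node 69020 (.leaf 0x0) (.leaf 0xb0a0002)))) (.node 69024 (.node 69022 (.leaf 0x0) (.node 69023 (.leaf 0x0) (.leaf 0xf0b0a0a0004))) (.node 69025 (.leaf 0x304030002080400000703040103000e) (.node 69026 (.leaf 0x0) (.leaf 0xf0b0b0a0004))))))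

def argWS_6114 : Store := (.node 69038 (.node 69032 (.node 69029 (.node 69028 (.leaf 0x0) (.leaf 0xf0a0002)) (.node 69030 (.leaf 0x10da4010da3) (.node 69031 (.leaf 0x2050207020902000703040103000d) (.leaf 0x0)))) (.node 69035 (.node 69033 (.leaf 0x0) (.node 69034 (.leaf 0xd0b0002) (.leaf 0x0))) (.node 69036 (.leaf 0x0) (.node 69037 (.leaf 0xb0f0002) (.leaf 0xb0f0a0003))))) (.node 69044 (.node 69041 (.node 69039 (.leaf 0xf0b0b0003) (.node 69040 (.leaf 0x10dae010dad) (.leaf 0xb0a0a0003))) (.node 69042 (.leaf 0x0) (.node 69043 (.leaf 0xf0b0b0a0a0005) (.leaf 0x0)))) (.node 69047 (.node 69045 (.leaf 0x0) (.node 69046 (.leaf 0x8020003010102000202000701000d) (.leaf 0x0))) (.node 69048 (.leaf 0xa0f0002) (.node 69049 (.leaf 0x0) (.leaf 0xe0001))))))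

def argWS_6115 : Store := (.node 69027 argWS_6113 argWS_6114)

def argWS_6116 : Store := (.node 69061 (.node 69055 (.node 69052 (.node 69051 (.leaf 0x10db9) (.leaf 0xb0a0a0003)) (.node 69053 (.leaf 0x0) (.node 69054 (.leaf 0x304030802020007010009) (.leaf 0x0)))) (.node 69058 (.node 69056 (.leaf 0xb0a0a0003) (.node 69057 (.leaf 0xe0a0a0003) (.leaf 0x2090102000003010802040105000d))) (.node 69059 (.leaf 0x0) (.node 69060 (.leaf 0xf0001) (.leaf 0x0))))) (.node 69066 (.node 69063 (.node 69062 (.leaf 0xe0a0a0003) (.leaf 0x10dc5010dc4)) (.node 69064 (.leaf 0x200070206000007) (.node 69065 (.leaf 0x0) (.leaf 0xa0f0b0b0004)))) (.node 69069 (.node 69067 (.leaf 0x0) (.node 69068 (.leaf 0xf0001) (.leaf 0x0))) (.node 69070 (.leaf 0x0) (.node 69071 (.leaf 0xf0b0b0a0a0005) (.leaf 0xa0f0002))))))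

def argWS_6117 : Store := (.node 69083 (.node 69077 (.node 69074 (.node 69073 (.leaf 0x10dcf) (.leaf 0xa0001)) (.node 69075 (.leaf 0x0) (.node 69076 (.leaf 0xa0f0b0003) (.leaf 0x0)))) (.node 69080 (.node 69078 (.leaf 0x0) (.node 69079 (.leaf 0xd0b0b0003) (.leaf 0x304000003010202000701000b))) (.node 69081 (.leaf 0x0) (.node 69082 (.leaf 0xf0b0b0003) (.leaf 0x0))))) (.node 69089 (.node 69086 (.node 69084 (.leaf 0x10dda) (.node 69085 (.leaf 0x1070003010102000202000701000d) (.leaf 0x0))) (.node 69087 (.leaf 0xa0001) (.node 69088 (.leaf 0x0) (.leaf 0xa0a0002)))) (.node 69092 (.node 69090 (.leaf 0x0) (.node 69091 (.leaf 0x0) (.leaf 0xd0b0b0003))) (.node 69093 (.leaf 0x60301010703060802040105000c) (.node 69094 (.leaf 0x0) (.leaf 0xe0d0002))))))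

def argWS_6118 : Store := (.node 69072 argWS_6116 argWS_6117)

def argWS_6119 : Store := (.node 69050 argWS_6115 argWS_6118)

def argWS_6120 : Store := (.node 69005 argWS_6112 argWS_6119)

def argWS_6121 : Store := (.node 69106 (.node 69100 (.node 69097 (.node 69096 (.leaf 0x0) (.leaf 0x10de7)) (.node 69098 (.leaf 0xd0001) (.node 69099 (.leaf 0x0) (.leaf 0xa0f0b0b0004)))) (.node 69103 (.node 69101 (.leaf 0x0) (.node 69102 (.leaf 0x0) (.leaf 0xf0b0b0003))) (.node 69104 (.leaf 0x104000901090802040105000b) (.node 69105 (.leaf 0x0) (.leaf 0xf0b0002))))) (.node 69111 (.node 69108 (.node 69107 (.leaf 0x0) (.leaf 0x10df2)) (.node 69109 (.leaf 0x70002000003010802040105000c) (.node 69110 (.leaf 0x0) (.leaf 0xa0001)))) (.node 69114 (.node 69112 (.leaf 0x0) (.node 69113 (.leaf 0xe0a0a0003) (.leaf 0x0))) (.node 69115 (.leaf 0x0) (.node 69116 (.leaf 0xa0f0b0b0004) (.leaf 0xa0f0b0003))))))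

def argWS_6122 : Store := (.node 69128 (.node 69122 (.node 69119 (.node 69118 (.leaf 0x0) (.leaf 0x10dfd)) (.node 69120 (.leaf 0xb0b0a0003) (.node 69121 (.leaf 0x0) (.leaf 0xa0001)))) (.node 69125 (.node 69123 (.leaf 0x0) (.node 69124 (.leaf 0x0) (.leaf 0xb0001))) (.node 69126 (.leaf 0x501020603000703040103000b) (.node 69127 (.leaf 0x0) (.leaf 0xb0b0a0a0004))))) (.node 69134 (.node 69131 (.node 69129 (.leaf 0x0) (.node 69130 (.leaf 0x10e08010e04) (.leaf 0xa0a0002))) (.node 69132 (.leaf 0x0) (.node 69133 (.leaf 0xb0f0a0a0004) (.leaf 0x0)))) (.node 69137 (.node 69135 (.leaf 0x0) (.node 69136 (.leaf 0xb0001) (.leaf 0xa0f0b0003))) (.node 69138 (.leaf 0xd0b0b0003) (.node 69139 (.leaf 0x10e11010e10) (.leaf 0x50201090000090007))))))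

def argWS_6123 : Store := (.node 69117 argWS_6121 argWS_6122)

def argWS_6124 : Store := (.node 69151 (.node 69145 (.node 69142 (.node 69141 (.leaf 0x0) (.leaf 0xb0f0002)) (.node 69143 (.leaf 0x0) (.node 69144 (.leaf 0xa0001) (.leaf 0x0)))) (.node 69148 (.node 69146 (.leaf 0x0) (.node 69147 (.leaf 0xf0b0b0a0a0005) (.leaf 0x4030006030500040202000701000d))) (.node 69149 (.leaf 0x0) (.node 69150 (.leaf 0xa0a0002) (.leaf 0x0))))) (.node 69156 (.node 69153 (.node 69152 (.leaf 0x10502020106060802040105000c) (.leaf 0x0)) (.node 69154 (.leaf 0xf0b0b0003) (.node 69155 (.leaf 0x0) (.leaf 0x10e22010e1e)))) (.node 69159 (.node 69157 (.leaf 0xb0f0a0a0004) (.node 69158 (.leaf 0x0) (.leaf 0x20103010904020007))) (.node 69160 (.leaf 0x0) (.node 69161 (.leaf 0xe0a0a0003) (.leaf 0xb0a0f0003))))))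

def argWS_6125 : Store := (.node 69173 (.node 69167 (.node 69164 (.node 69163 (.leaf 0xa0f0b0b0004) (.leaf 0x10e2a00c935)) (.node 69165 (.leaf 0xb0b0002) (.node 69166 (.leaf 0x0) (.leaf 0x904020703000703040103000b)))) (.node 69170 (.node 69168 (.leaf 0x0) (.node 69169 (.leaf 0xf0b0a0a0004) (.leaf 0x0))) (.node 69171 (.leaf 0xd0b0002) (.node 69172 (.leaf 0xa0001) (.leaf 0x10e33010e32))))) (.node 69179 (.node 69176 (.node 69174 (.leaf 0xb0f0a0a0004) (.node 69175 (.leaf 0x0) (.leaf 0xb0f0a0a0004))) (.node 69177 (.leaf 0x0) (.node 69178 (.leaf 0x0) (.leaf 0xa0a0002)))) (.node 69182 (.node 69180 (.leaf 0xb0f0a0003) (.node 69181 (.leaf 0x0) (.leaf 0xb0001))) (.node 69183 (.leaf 0x10e3d010e3c) (.node 69184 (.leaf 0xf0001) (.leaf 0x0))))))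

def argWS_6126 : Store := (.node 69162 argWS_6124 argWS_6125)

def argWS_6127 : Store := (.node 69140 argWS_6123 argWS_6126)

def argWS_6128 : Store := (.node 69196 (.node 69190 (.node 69187 (.node 69186 (.leaf 0xa0f0b0b0004) (.leaf 0x30300000300000202000701000c)) (.node 69188 (.leaf 0x0) (.node 69189 (.leaf 0xa0a0002) (.leaf 0x0)))) (.node 69193 (.node 69191 (.leaf 0x10e45) (.node 69192 (.leaf 0xb0b0a0003) (.leaf 0x0))) (.node 69194 (.leaf 0xf0b0b0a0a0005) (.node 69195 (.leaf 0x0) (.leaf 0x0))))) (.node 69201 (.node 69198 (.node 69197 (.leaf 0xb0b0a0a0004) (.leaf 0x701090402000703040103000b)) (.node 69199 (.leaf 0x0) (.node 69200 (.leaf 0xf0b0b0a0004) (.leaf 0x0)))) (.node 69204 (.node 69202 (.leaf 0x10e50) (.node 69203 (.leaf 0xf0b0a0a0004) (.leaf 0x0))) (.node 69205 (.leaf 0xa0001) (.node 69206 (.leaf 0x0) (.leaf 0x0))))))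

def argWS_6129 : Store := (.node 69218 (.node 69212 (.node 69209 (.node 69208 (.leaf 0x401020901060802040105000b) (.leaf 0x0)) (.node 69210 (.leaf 0xa0f0b0b0004) (.node 69211 (.leaf 0x0) (.leaf 0x40304070009030007)))) (.node 69215 (.node 69213 (.leaf 0x0) (.node 69214 (.leaf 0xe0a0a0003) (.leaf 0x0))) (.node 69216 (.leaf 0x10e5e) (.node 69217 (.leaf 0xf0b0a0003) (.leaf 0x0))))) (.node 69224 (.node 69221 (.node 69219 (.leaf 0xa0f0b0b0004) (.node 69220 (.leaf 0x0) (.leaf 0x0))) (.node 69222 (.leaf 0x902060402020007010009) (.node 69223 (.leaf 0x0) (.leaf 0x0)))) (.node 69227 (.node 69225 (.leaf 0xb0f0a0003) (.node 69226 (.leaf 0x10a64010e68) (.leaf 0xf0b0b0a0a0005))) (.node 69228 (.leaf 0x0) (.node 69229 (.leaf 0x1090305020604000703040103000d) (.leaf 0x0))))))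

def argWS_6130 : Store := (.node 69207 argWS_6128 argWS_6129)

def argWS_6131 : Store := (.node 69241 (.node 69235 (.node 69232 (.node 69231 (.leaf 0xa0f0002) (.leaf 0xf0b0a0a0004)) (.node 69233 (.leaf 0xf0b0a0003) (.node 69234 (.leaf 0x10e70) (.leaf 0xb0a0f0003)))) (.node 69238 (.node 69236 (.leaf 0x0) (.node 69237 (.leaf 0xe0a0002) (.leaf 0x0))) (.node 69239 (.leaf 0x0) (.node 69240 (.leaf 0xe0001) (.leaf 0x40400090206020007))))) (.node 69247 (.node 69244 (.node 69242 (.leaf 0x0) (.node 69243 (.leaf 0xa0f0b0003) (.leaf 0x0))) (.node 69245 (.leaf 0x10e7b) (.node 69246 (.leaf 0xf0a0002) (.leaf 0x0)))) (.node 69250 (.node 69248 (.leaf 0xa0f0b0003) (.node 69249 (.leaf 0x0) (.leaf 0x0))) (.node 69251 (.leaf 0xb0f0a0a0004) (.node 69252 (.leaf 0x7000000030000000703040103000d) (.leaf 0x0))))))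

def argWS_6132 : Store := (.node 69264 (.node 69258 (.node 69255 (.node 69254 (.leaf 0x0) (.leaf 0x10e85)) (.node 69256 (.leaf 0x4000000030000000703040103000e) (.node 69257 (.leaf 0x0) (.leaf 0xb0a0002)))) (.node 69261 (.node 69259 (.leaf 0x0) (.node 69260 (.leaf 0xf0001) (.leaf 0x0))) (.node 69262 (.leaf 0x0) (.node 69263 (.leaf 0xb0b0002) (.leaf 0xd0b0002))))) (.node 69270 (.node 69267 (.node 69265 (.leaf 0xb0b0a0a0004) (.node 69266 (.leaf 0x10e90010e8f) (.leaf 0xb0b0a0003))) (.node 69268 (.leaf 0x0) (.node 69269 (.leaf 0xf0001) (.leaf 0x0)))) (.node 69273 (.node 69271 (.leaf 0x0) (.node 69272 (.leaf 0xb0b0a0003) (.leaf 0x10e5e))) (.node 69274 (.leaf 0xf0b0002) (.node 69275 (.leaf 0x0) (.leaf 0xf0b0002))))))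

def argWS_6133 : Store := (.node 69253 argWS_6131 argWS_6132)

def argWS_6134 : Store := (.node 69230 argWS_6130 argWS_6133)

def argWS_6135 : Store := (.node 69185 argWS_6127 argWS_6134)

def argWS_6136 : Store := (.node 69095 argWS_6120 argWS_6135)

def argWS_6137 : Store := (.node 68915 argWS_6105 argWS_6136)

def argWS_6138 : Store := (.node 68554 argWS_6074 argWS_6137)

def argWS_6139 : Store := (.node 67832 argWS_6011 argWS_6138)

def argWS_6140 : Store := (.node 66389 argWS_5884 argWS_6139)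

def argWS_6141 : Store := (.node 63503 argWS_5629 argWS_6140)

def argWS_6142 : Store := (.node 57730 argWS_5118 argWS_6141)

def argWS_6143 : Store := (.node 69287 (.node 69281 (.node 69278 (.node 69277 (.leaf 0x0) (.leaf 0x10201010200000703040103000c)) (.node 69279 (.leaf 0x0) (.node 69280 (.leaf 0xf0b0b0a0004) (.leaf 0x0)))) (.node 69284 (.node 69282 (.leaf 0xf0a0002) (.node 69283 (.leaf 0x10ea1) (.leaf 0xb0f0a0a0004))) (.node 69285 (.leaf 0x0) (.node 69286 (.leaf 0x209010003) (.leaf 0x0))))) (.node 69292 (.node 69289 (.node 69288 (.leaf 0xd0b0002) (.leaf 0xa0f0b0003)) (.node 69290 (.leaf 0x1050202000003010008) (.node 69291 (.leaf 0x0) (.leaf 0xb0f0002)))) (.node 69295 (.node 69293 (.leaf 0x0) (.node 69294 (.leaf 0x10eac) (.leaf 0x204090009000703040103000b))) (.node 69296 (.leaf 0x0) (.node 69297 (.leaf 0xd0001) (.leaf 0x0))))))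

def argWS_6144 : Store := (.node 69309 (.node 69303 (.node 69300 (.node 69299 (.leaf 0xd0001) (.leaf 0x0)) (.node 69301 (.leaf 0x0) (.node 69302 (.leaf 0xf0a0002) (.leaf 0xf0b0b0a0004)))) (.node 69306 (.node 69304 (.leaf 0x10eb6) (.node 69305 (.leaf 0xf0b0b0003) (.leaf 0x0))) (.node 69307 (.leaf 0xf0b0002) (.node 69308 (.leaf 0x0) (.leaf 0x0))))) (.node 69315 (.node 69312 (.node 69310 (.leaf 0x80000090206020008) (.node 69311 (.leaf 0x0) (.leaf 0xe0d0002))) (.node 69313 (.leaf 0x0) (.node 69314 (.leaf 0xb0b0002) (.leaf 0x60900090802040105000a)))) (.node 69318 (.node 69316 (.leaf 0x0) (.node 69317 (.leaf 0x0) (.leaf 0x10ec4010ec1))) (.node 69319 (.leaf 0xf0a0002) (.node 69320 (.leaf 0x0) (.leaf 0x705010908050802040105000b))))))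

def argWS_6145 : Store := (.node 69298 argWS_6143 argWS_6144)

def argWS_6146 : Store := (.node 69332 (.node 69326 (.node 69323 (.node 69322 (.leaf 0x0) (.leaf 0xd0b0002)) (.node 69324 (.leaf 0xb0b0a0003) (.node 69325 (.leaf 0xb0b0002) (.leaf 0xd0b0b0003)))) (.node 69329 (.node 69327 (.leaf 0x0) (.node 69328 (.leaf 0x60206030500040007) (.leaf 0x0))) (.node 69330 (.leaf 0x0) (.node 69331 (.leaf 0x10ed1010ece) (.leaf 0xe0a0002))))) (.node 69337 (.node 69334 (.node 69333 (.leaf 0x0) (.leaf 0xb0f0a0003)) (.node 69335 (.leaf 0x0) (.node 69336 (.leaf 0x0) (.leaf 0x502000207030802040105000b)))) (.node 69340 (.node 69338 (.leaf 0x0) (.node 69339 (.leaf 0xe0a0002) (.leaf 0x0))) (.node 69341 (.leaf 0xe0a0a0003) (.node 69342 (.leaf 0x10edc) (.leaf 0xf0b0a0003))))))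

def argWS_6147 : Store := (.node 69354 (.node 69348 (.node 69345 (.node 69344 (.leaf 0x0) (.leaf 0xd0b0b0003)) (.node 69346 (.leaf 0x0) (.node 69347 (.leaf 0x0) (.leaf 0xf0b0002)))) (.node 69351 (.node 69349 (.leaf 0x400040400050202000701000b) (.node 69350 (.leaf 0x0) (.leaf 0xb0a0002))) (.node 69352 (.leaf 0x0) (.node 69353 (.leaf 0x10ee7) (.leaf 0x6010204080703040103000a))))) (.node 69360 (.node 69357 (.node 69355 (.leaf 0x0) (.node 69356 (.leaf 0xb0f0a0a0004) (.leaf 0x0))) (.node 69358 (.leaf 0xb0a0f0003) (.node 69359 (.leaf 0x0) (.leaf 0x0)))) (.node 69363 (.node 69361 (.leaf 0x40401090402000703040103000c) (.node 69362 (.leaf 0x0) (.leaf 0xe0a0002))) (.node 69364 (.leaf 0x0) (.node 69365 (.leaf 0x90403080004) (.leaf 0x0))))))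

def argWS_6148 : Store := (.node 69343 argWS_6146 argWS_6147)

def argWS_6149 : Store := (.node 69321 argWS_6145 argWS_6148)

def argWS_6150 : Store := (.node 69377 (.node 69371 (.node 69368 (.node 69367 (.leaf 0xf0b0a0a0004) (.leaf 0x0)) (.node 69369 (.leaf 0x30306020702010007) (.node 69370 (.leaf 0x0) (.leaf 0xb0b0a0a0004)))) (.node 69374 (.node 69372 (.leaf 0x0) (.node 69373 (.leaf 0x10efb010ef7) (.leaf 0xb0f0a0003))) (.node 69375 (.leaf 0x0) (.node 69376 (.leaf 0xf0b0b0a0a0005) (.leaf 0x0))))) (.node 69382 (.node 69379 (.node 69378 (.leaf 0x0) (.leaf 0x90602000003010802040105000c)) (.node 69380 (.leaf 0x0) (.node 69381 (.leaf 0xf0001) (.leaf 0x0)))) (.node 69385 (.node 69383 (.leaf 0x10f05) (.node 69384 (.leaf 0xb0b0a0003) (.leaf 0x0))) (.node 69386 (.leaf 0x6000006030500040202000701000d) (.node 69387 (.leaf 0x0) (.leaf 0xd0b0002))))))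

def argWS_6151 : Store := (.node 69399 (.node 69393 (.node 69390 (.node 69389 (.leaf 0xe0001) (.leaf 0xe0a0002)) (.node 69391 (.leaf 0xf0001) (.node 69392 (.leaf 0x10f0e010f0d) (.leaf 0xe0001)))) (.node 69396 (.node 69394 (.leaf 0x0) (.node 69395 (.leaf 0xf0b0a0a0004) (.leaf 0x0))) (.node 69397 (.leaf 0x0) (.node 69398 (.leaf 0x30500030306040202000701000c) (.leaf 0x0))))) (.node 69405 (.node 69402 (.node 69400 (.leaf 0x0) (.node 69401 (.leaf 0xf0b0002) (.leaf 0x10f18))) (.node 69403 (.leaf 0xb0a0a0003) (.node 69404 (.leaf 0x0) (.leaf 0x90700070209020202000701000c)))) (.node 69408 (.node 69406 (.leaf 0x0) (.node 69407 (.leaf 0xf0b0002) (.leaf 0xe0a0002))) (.node 69409 (.leaf 0x802000003030604000703040103000e) (.node 69410 (.leaf 0x0) (.leaf 0xa0a0002))))))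

def argWS_6152 : Store := (.node 69388 argWS_6150 argWS_6151)

def argWS_6153 : Store := (.node 69422 (.node 69416 (.node 69413 (.node 69412 (.leaf 0x0) (.leaf 0xb0f0a0003)) (.node 69414 (.leaf 0x10f24010f23) (.node 69415 (.leaf 0xe0a0a0003) (.leaf 0x0)))) (.node 69419 (.node 69417 (.leaf 0xa0a0002) (.node 69418 (.leaf 0x0) (.leaf 0x0))) (.node 69420 (.leaf 0xb0a0a0003) (.node 69421 (.leaf 0x9050000030703040103000a) (.leaf 0x0))))) (.node 69427 (.node 69424 (.node 69423 (.leaf 0xf0b0b0a0004) (.leaf 0x0)) (.node 69425 (.leaf 0x10f2f00a85d) (.node 69426 (.leaf 0xf0b0002) (.leaf 0x0)))) (.node 69430 (.node 69428 (.leaf 0x401010904020202000701000b) (.node 69429 (.leaf 0x0) (.leaf 0xf0b0b0a0004))) (.node 69431 (.leaf 0xf0a0002) (.node 69432 (.leaf 0xb0a0002) (.leaf 0xf0b0b0003))))))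

def argWS_6154 : Store := (.node 69444 (.node 69438 (.node 69435 (.node 69434 (.leaf 0x10f38010f37) (.leaf 0xf0b0b0003)) (.node 69436 (.leaf 0x0) (.node 69437 (.leaf 0xd0b0b0003) (.leaf 0x0)))) (.node 69441 (.node 69439 (.leaf 0x0) (.node 69440 (.leaf 0xd0b0002) (.leaf 0xd0b0002))) (.node 69442 (.leaf 0x10f40006e6d) (.node 69443 (.leaf 0xf0b0b0003) (.leaf 0x0))))) (.node 69450 (.node 69447 (.node 69445 (.leaf 0xb0b0a0a0004) (.node 69446 (.leaf 0x0) (.leaf 0x0))) (.node 69448 (.leaf 0xe0d0002) (.node 69449 (.leaf 0xf0b0b0a0a0005) (.leaf 0xe0a0a0003)))) (.node 69453 (.node 69451 (.leaf 0x10f49010f48) (.node 69452 (.leaf 0xa0f0b0003) (.leaf 0x0))) (.node 69454 (.leaf 0xb0b0002) (.node 69455 (.leaf 0x0) (.leaf 0x0))))))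

def argWS_6155 : Store := (.node 69433 argWS_6153 argWS_6154)

def argWS_6156 : Store := (.node 69411 argWS_6152 argWS_6155)

def argWS_6157 : Store := (.node 69366 argWS_6149 argWS_6156)

def argWS_6158 : Store := (.node 69467 (.node 69461 (.node 69458 (.node 69457 (.leaf 0x409000009000703040103000b) (.leaf 0x0)) (.node 69459 (.leaf 0xe0a0a0003) (.node 69460 (.leaf 0x0) (.leaf 0x20403070206000202000701000c)))) (.node 69464 (.node 69462 (.leaf 0x0) (.node 69463 (.leaf 0xd0b0002) (.leaf 0x0))) (.node 69465 (.leaf 0x60301070209020802040105000c) (.node 69466 (.leaf 0x0) (.leaf 0xe0d0002))))) (.node 69472 (.node 69469 (.node 69468 (.leaf 0x0) (.leaf 0x10f5b010f57)) (.node 69470 (.leaf 0xf0b0b0a0a0005) (.node 69471 (.leaf 0x0) (.leaf 0x700090000090006)))) (.node 69475 (.node 69473 (.leaf 0x0) (.node 69474 (.leaf 0xb0a0f0003) (.leaf 0x70006010500020202000701000c))) (.node 69476 (.leaf 0x0) (.node 69477 (.leaf 0xb0b0a0a0004) (.leaf 0x0))))))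

def argWS_6159 : Store := (.node 69489 (.node 69483 (.node 69480 (.node 69479 (.leaf 0xb0f0002) (.leaf 0x60006030500040007)) (.node 69481 (.leaf 0x0) (.node 69482 (.leaf 0xa0f0b0003) (.leaf 0x0)))) (.node 69486 (.node 69484 (.leaf 0x10f6a010f66) (.node 69485 (.leaf 0xb0a0f0003) (.leaf 0x0))) (.node 69487 (.leaf 0xb0a0002) (.node 69488 (.leaf 0x0) (.leaf 0x0))))) (.node 69495 (.node 69492 (.node 69490 (.leaf 0xe0001) (.node 69491 (.leaf 0x9060400050202000701000a) (.leaf 0x0))) (.node 69493 (.leaf 0xb0a0a0003) (.node 69494 (.leaf 0x0) (.leaf 0xf0a0a0003)))) (.node 69498 (.node 69496 (.leaf 0x10f76010f75) (.node 69497 (.leaf 0xf0a0002) (.leaf 0x0))) (.node 69499 (.leaf 0xf0001) (.node 69500 (.leaf 0x0) (.leaf 0x0))))))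

def argWS_6160 : Store := (.node 69478 argWS_6158 argWS_6159)

def argWS_6161 : Store := (.node 69512 (.node 69506 (.node 69503 (.node 69502 (.leaf 0xe0d0002) (.leaf 0x4030006010500020802040105000d)) (.node 69504 (.leaf 0x0) (.node 69505 (.leaf 0xf0b0b0003) (.leaf 0x0)))) (.node 69509 (.node 69507 (.leaf 0xb0f0002) (.node 69508 (.leaf 0x10f82010f81) (.leaf 0xe0a0002))) (.node 69510 (.leaf 0x0) (.node 69511 (.leaf 0x301050206040202000701000b) (.leaf 0x0))))) (.node 69517 (.node 69514 (.node 69513 (.leaf 0xb0b0a0a0004) (.leaf 0xd0001)) (.node 69515 (.leaf 0x4030402000003010802040105000d) (.node 69516 (.leaf 0x0) (.leaf 0xe0a0002)))) (.node 69520 (.node 69518 (.leaf 0x0) (.node 69519 (.leaf 0x10f8d) (.leaf 0x50000030306040007))) (.node 69521 (.leaf 0x0) (.node 69522 (.leaf 0x0) (.leaf 0xb0b0a0a0004))))))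

def argWS_6162 : Store := (.node 69534 (.node 69528 (.node 69525 (.node 69524 (.leaf 0x0) (.leaf 0x0)) (.node 69526 (.leaf 0xf0b0a0a0004) (.node 69527 (.leaf 0x20804000802040105000b) (.leaf 0x0)))) (.node 69531 (.node 69529 (.leaf 0xa0001) (.node 69530 (.leaf 0x0) (.leaf 0xf0b0b0a0004))) (.node 69532 (.leaf 0x10f9a010f99) (.node 69533 (.leaf 0x2020900000202000701000b) (.leaf 0x0))))) (.node 69540 (.node 69537 (.node 69535 (.leaf 0xe0a0002) (.node 69536 (.leaf 0x0) (.leaf 0xf0b0a0a0004))) (.node 69538 (.leaf 0x0) (.node 69539 (.leaf 0x0) (.leaf 0xe0a0002)))) (.node 69543 (.node 69541 (.leaf 0xf0a0002) (.node 69542 (.leaf 0x404020603000703040103000b) (.leaf 0x0))) (.node 69544 (.leaf 0xb0001) (.node 69545 (.leaf 0x0) (.leaf 0x10fa8010fa4))))))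

def argWS_6163 : Store := (.node 69523 argWS_6161 argWS_6162)

def argWS_6164 : Store := (.node 69501 argWS_6160 argWS_6163)

def argWS_6165 : Store := (.node 69557 (.node 69551 (.node 69548 (.node 69547 (.leaf 0xb0f0002) (.leaf 0x0)) (.node 69549 (.leaf 0xb0f0a0003) (.node 69550 (.leaf 0x0) (.leaf 0x0)))) (.node 69554 (.node 69552 (.leaf 0xb0001) (.node 69553 (.leaf 0x60207020007010008) (.leaf 0x0))) (.node 69555 (.leaf 0xd0b0002) (.node 69556 (.leaf 0x0) (.leaf 0xa0a0002))))) (.node 69562 (.node 69559 (.node 69558 (.leaf 0x0) (.leaf 0x10fb5010fb3)) (.node 69560 (.leaf 0xe0001) (.node 69561 (.leaf 0x0) (.leaf 0xf0b0a0a0004)))) (.node 69565 (.node 69563 (.leaf 0x0) (.node 69564 (.leaf 0x0) (.leaf 0x20502070206000802040105000c))) (.node 69566 (.leaf 0x0) (.node 69567 (.leaf 0xd0001) (.leaf 0x0))))))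

def argWS_6166 : Store := (.node 69579 (.node 69573 (.node 69570 (.node 69569 (.leaf 0xd0b0b0003) (.leaf 0x300070206000006)) (.node 69571 (.leaf 0x0) (.node 69572 (.leaf 0x0) (.leaf 0x10fc3010fc0)))) (.node 69576 (.node 69574 (.leaf 0xa0f0b0b0004) (.node 69575 (.leaf 0x0) (.leaf 0xb0b0a0003))) (.node 69577 (.leaf 0x0) (.node 69578 (.leaf 0x0) (.leaf 0xe0d0002))))) (.node 69585 (.node 69582 (.node 69580 (.leaf 0x20502000408010802040105000c) (.node 69581 (.leaf 0x0) (.leaf 0xb0a0002))) (.node 69583 (.leaf 0x0) (.node 69584 (.leaf 0x20200000300000802040105000c) (.leaf 0x0)))) (.node 69588 (.node 69586 (.leaf 0xb0a0f0003) (.node 69587 (.leaf 0x0) (.leaf 0x10fd2010fce))) (.node 69589 (.leaf 0xf0a0002) (.node 69590 (.leaf 0x0) (.leaf 0xa0f0b0003))))))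

def argWS_6167 : Store := (.node 69568 argWS_6165 argWS_6166)

def argWS_6168 : Store := (.node 69602 (.node 69596 (.node 69593 (.node 69592 (.leaf 0x0) (.leaf 0x0)) (.node 69594 (.leaf 0x305000408010006) (.node 69595 (.leaf 0x0) (.leaf 0xf0b0a0a0004)))) (.node 69599 (.node 69597 (.leaf 0x0) (.node 69598 (.leaf 0xa0a0002) (.leaf 0x309000908020401050009))) (.node 69600 (.leaf 0x0) (.node 69601 (.leaf 0xf0001) (.leaf 0x0))))) (.node 69607 (.node 69604 (.node 69603 (.leaf 0x10fe1010fdd) (.leaf 0xf0b0b0a0004)) (.node 69605 (.leaf 0x0) (.node 69606 (.leaf 0x60102020106060202000701000c) (.leaf 0x0)))) (.node 69610 (.node 69608 (.leaf 0xd0001) (.node 69609 (.leaf 0xb0f0a0003) (.leaf 0xf0001))) (.node 69611 (.leaf 0xfe64010fe9) (.node 69612 (.leaf 0xa0f0b0003) (.leaf 0x0))))))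

def argWS_6169 : Store := (.node 69624 (.node 69618 (.node 69615 (.node 69614 (.leaf 0xb0001) (.leaf 0x0)) (.node 69616 (.leaf 0x0) (.node 69617 (.leaf 0xa0f0b0b0004) (.leaf 0x60000030306040007)))) (.node 69621 (.node 69619 (.leaf 0x0) (.node 69620 (.leaf 0xb0a0002) (.leaf 0x0))) (.node 69622 (.leaf 0x10ff4) (.node 69623 (.leaf 0xe0a0a0003) (.leaf 0x0))))) (.node 69630 (.node 69627 (.node 69625 (.leaf 0x0) (.node 69626 (.leaf 0xf0b0b0a0a0005) (.leaf 0x40205090000090007))) (.node 69628 (.leaf 0x0) (.node 69629 (.leaf 0xb0b0002) (.leaf 0x0)))) (.node 69633 (.node 69631 (.leaf 0x10ffd0104f9) (.node 69632 (.leaf 0xf0b0b0003) (.leaf 0x0))) (.node 69634 (.leaf 0x80006030500040202000701000c) (.node 69635 (.leaf 0x0) (.leaf 0xb0f0a0003))))))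

def argWS_6170 : Store := (.node 69613 argWS_6168 argWS_6169)

def argWS_6171 : Store := (.node 69591 argWS_6167 argWS_6170)

def argWS_6172 : Store := (.node 69546 argWS_6164 argWS_6171)

def argWS_6173 : Store := (.node 69456 argWS_6157 argWS_6172)

def argWS_6174 : Store := (.node 69647 (.node 69641 (.node 69638 (.node 69637 (.leaf 0xa0f0b0b0004) (.leaf 0xe0a0a0003)) (.node 69639 (.leaf 0xf0b0b0003) (.node 69640 (.leaf 0x11006011005) (.leaf 0xb0b0a0a0004)))) (.node 69644 (.node 69642 (.leaf 0x0) (.node 69643 (.leaf 0xf0b0b0003) (.leaf 0x0))) (.node 69645 (.leaf 0x0) (.node 69646 (.leaf 0x90206000004) (.leaf 0x0))))) (.node 69652 (.node 69649 (.node 69648 (.leaf 0xf0b0b0a0a0005) (.leaf 0x0)) (.node 69650 (.leaf 0x1040002090106000703040103000d) (.node 69651 (.leaf 0x0) (.leaf 0xf0b0002)))) (.node 69655 (.node 69653 (.leaf 0x0) (.node 69654 (.leaf 0x11014011010) (.leaf 0x80200090000090802040105000c))) (.node 69656 (.leaf 0x0) (.node 69657 (.leaf 0xf0a0002)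 (.leaf 0x0))))))

def argWS_6175 : Store := (.node 69669 (.node 69663 (.node 69660 (.node 69659 (.leaf 0xd0b0002) (.leaf 0x0)) (.node 69661 (.leaf 0x0) (.node 69662 (.leaf 0xf0a0002) (.leaf 0xb0001)))) (.node 69666 (.node 69664 (.leaf 0x1101e01101d) (.node 69665 (.leaf 0xe0a0a0003) (.leaf 0x0))) (.node 69667 (.leaf 0xf0b0b0a0a0005) (.node 69668 (.leaf 0x0) (.leaf 0x0))))) (.node 69675 (.node 69672 (.node 69670 (.leaf 0x205070206000006) (.node 69671 (.leaf 0x0) (.leaf 0x0))) (.node 69673 (.leaf 0x4000007030401030009) (.node 69674 (.leaf 0x0) (.leaf 0xf0b0002)))) (.node 69678 (.node 69676 (.leaf 0x0) (.node 69677 (.leaf 0x30402020900000007) (.leaf 0x0))) (.node 69679 (.leaf 0xa0001) (.node 69680 (.leaf 0x0) (.leaf 0x1102f01102b))))))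

def argWS_6176 : Store := (.node 69658 argWS_6174 argWS_6175)

def argWS_6177 : Store := (.node 69692 (.node 69686 (.node 69683 (.node 69682 (.leaf 0xa0f0b0b0004) (.leaf 0x0)) (.node 69684 (.leaf 0xb0b0a0003) (.node 69685 (.leaf 0x0) (.leaf 0x0)))) (.node 69689 (.node 69687 (.leaf 0xa0f0002) (.node 69688 (.leaf 0x209040208020401050009) (.leaf 0x0))) (.node 69690 (.leaf 0xd0001) (.node 69691 (.leaf 0x0) (.leaf 0x1103a))))) (.node 69697 (.node 69694 (.node 69693 (.leaf 0xb0a0002) (.leaf 0x0)) (.node 69695 (.leaf 0xf0b0a0003) (.node 69696 (.leaf 0x0) (.leaf 0x0)))) (.node 69700 (.node 69698 (.leaf 0xb0001) (.node 69699 (.leaf 0xa0f0b0003) (.leaf 0xb0b0a0a0004))) (.node 69701 (.leaf 0x11043011042) (.node 69702 (.leaf 0xe0a0a0003) (.leaf 0x0))))))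

def argWS_6178 : Store := (.node 69714 (.node 69708 (.node 69705 (.node 69704 (.leaf 0xa0f0b0b0004) (.leaf 0x0)) (.node 69706 (.leaf 0x0) (.node 69707 (.leaf 0xa0f0b0b0004) (.leaf 0x102000408010802040105000b)))) (.node 69711 (.node 69709 (.leaf 0x0) (.node 69710 (.leaf 0xa0f0b0b0004) (.leaf 0x0))) (.node 69712 (.leaf 0x1104e) (.node 69713 (.leaf 0xf0b0b0003) (.leaf 0x0))))) (.node 69720 (.node 69717 (.node 69715 (.leaf 0x40004090806000802040105000c) (.node 69716 (.leaf 0x0) (.leaf 0xa0f0002))) (.node 69718 (.leaf 0xb0b0a0003) (.node 69719 (.leaf 0x8050003010102000008) (.leaf 0x0)))) (.node 69723 (.node 69721 (.leaf 0xa0a0002) (.node 69722 (.leaf 0x0) (.leaf 0x11059))) (.node 69724 (.leaf 0xa0f0b0003) (.node 69725 (.leaf 0x0) (.leaf 0xb0001))))))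

def argWS_6179 : Store := (.node 69703 argWS_6177 argWS_6178)

def argWS_6180 : Store := (.node 69681 argWS_6176 argWS_6179)

def argWS_6181 : Store := (.node 69737 (.node 69731 (.node 69728 (.node 69727 (.leaf 0x0) (.leaf 0x0)) (.node 69729 (.leaf 0xb0f0a0a0004) (.node 69730 (.leaf 0xf0b0a0003) (.leaf 0xb0a0f0003)))) (.node 69734 (.node 69732 (.leaf 0x11062011061) (.node 69733 (.leaf 0xd0001) (.leaf 0x0))) (.node 69735 (.leaf 0x300070209020202000701000b) (.node 69736 (.leaf 0x0) (.leaf 0xb0001))))) (.node 69742 (.node 69739 (.node 69738 (.leaf 0xb0a0002) (.leaf 0xb0a0002)) (.node 69740 (.leaf 0xf0001) (.node 69741 (.leaf 0x1106b01106a) (.leaf 0xe0001)))) (.node 69745 (.node 69743 (.leaf 0x0) (.node 69744 (.leaf 0x0) (.leaf 0x30700020703000703040103000c))) (.node 69746 (.leaf 0x0) (.node 69747 (.leaf 0x0) (.leaf 0x7020007010005))))))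

def argWS_6182 : Store := (.node 69759 (.node 69753 (.node 69750 (.node 69749 (.leaf 0x0) (.leaf 0xb0f0a0003)) (.node 69751 (.leaf 0x0) (.node 69752 (.leaf 0x11076) (.leaf 0x0)))) (.node 69756 (.node 69754 (.leaf 0x900050206040802040105000c) (.node 69755 (.leaf 0x0) (.leaf 0xd0b0002))) (.node 69757 (.leaf 0xb0f0a0003) (.node 69758 (.leaf 0xb0f0a0003) (.leaf 0x10301020703000703040103000c))))) (.node 69765 (.node 69762 (.node 69760 (.leaf 0x0) (.node 69761 (.leaf 0x0) (.leaf 0x1108001107d))) (.node 69763 (.leaf 0xb0a0002) (.node 69764 (.leaf 0x0) (.leaf 0xe0a0002)))) (.node 69768 (.node 69766 (.leaf 0x0) (.node 69767 (.leaf 0x0) (.leaf 0xb0a0002))) (.node 69769 (.leaf 0xe123) (.node 69770 (.leaf 0x0) (.leaf 0x0))))))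

def argWS_6183 : Store := (.node 69748 argWS_6181 argWS_6182)

def argWS_6184 : Store := (.node 69782 (.node 69776 (.node 69773 (.node 69772 (.leaf 0x7030503010102000202000701000d) (.leaf 0x0)) (.node 69774 (.leaf 0xf0b0b0a0004) (.node 69775 (.leaf 0x0) (.leaf 0xe0a0002)))) (.node 69779 (.node 69777 (.leaf 0x501020901060802040105000b) (.node 69778 (.leaf 0x0) (.leaf 0xe0001))) (.node 69780 (.leaf 0x0) (.node 69781 (.leaf 0x1109301108f) (.leaf 0xd0b0002))))) (.node 69787 (.node 69784 (.node 69783 (.leaf 0x0) (.leaf 0xb0f0a0a0004)) (.node 69785 (.leaf 0x0) (.node 69786 (.leaf 0x0) (.leaf 0x80004020703000703040103000c)))) (.node 69790 (.node 69788 (.leaf 0x0) (.node 69789 (.leaf 0xe0001) (.leaf 0x0))) (.node 69791 (.leaf 0xd0b0b0003) (.node 69792 (.leaf 0x1109e) (.leaf 0xd0b0002))))))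

def argWS_6185 : Store := (.node 69804 (.node 69798 (.node 69795 (.node 69794 (.leaf 0x0) (.leaf 0x2060408010802040105000a)) (.node 69796 (.leaf 0x0) (.node 69797 (.leaf 0xd0b0b0003) (.leaf 0xa0001)))) (.node 69801 (.node 69799 (.leaf 0x602070206000006) (.node 69800 (.leaf 0x0) (.leaf 0xf0b0002))) (.node 69802 (.leaf 0x0) (.node 69803 (.leaf 0xb0b0a0a0004) (.leaf 0x110aa0110a9))))) (.node 69810 (.node 69807 (.node 69805 (.leaf 0x60102010601050002000703040103000f) (.node 69806 (.leaf 0x0) (.leaf 0xb0f0a0003))) (.node 69808 (.leaf 0x0) (.node 69809 (.leaf 0xb0f0a0003) (.leaf 0x0)))) (.node 69813 (.node 69811 (.leaf 0x0) (.node 69812 (.leaf 0xf0001) (.leaf 0xf0b0b0a0a0005))) (.node 69814 (.leaf 0xa0f0b0b0004) (.node 69815 (.leaf 0x110b50110b4) (.leaf 0xf0b0a0003))))))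

def argWS_6186 : Store := (.node 69793 argWS_6184 argWS_6185)

def argWS_6187 : Store := (.node 69771 argWS_6183 argWS_6186)

def argWS_6188 : Store := (.node 69726 argWS_6180 argWS_6187)

def argWS_6189 : Store := (.node 69827 (.node 69821 (.node 69818 (.node 69817 (.leaf 0x0) (.leaf 0x0)) (.node 69819 (.leaf 0xb0a0f0003) (.node 69820 (.leaf 0xe0a0a0003) (.leaf 0x110bb)))) (.node 69824 (.node 69822 (.leaf 0xb0b0002) (.node 69823 (.leaf 0x0) (.leaf 0x60507020600000703040103000c))) (.node 69825 (.leaf 0x0) (.node 69826 (.leaf 0xf0b0b0a0a0005) (.leaf 0xb0a0002))))) (.node 69832 (.node 69829 (.node 69828 (.leaf 0x6030105020604000703040103000d) (.leaf 0x0)) (.node 69830 (.leaf 0x0) (.node 69831 (.leaf 0x902090202020007010009) (.leaf 0x0)))) (.node 69835 (.node 69833 (.leaf 0xd0001) (.node 69834 (.leaf 0x0) (.leaf 0x110c90110c5))) (.node 69836 (.leaf 0xf0b0a0003) (.node 69837 (.leaf 0x0) (.leaf 0xf0b0002))))))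

def argWS_6190 : Store := (.node 69849 (.node 69843 (.node 69840 (.node 69839 (.leaf 0x0) (.leaf 0x0)) (.node 69841 (.leaf 0xb0b0a0a0004) (.node 69842 (.leaf 0x307070009020007010009) (.leaf 0x0)))) (.node 69846 (.node 69844 (.leaf 0xa0001) (.node 69845 (.leaf 0x0) (.leaf 0x10eea0110d4))) (.node 69847 (.leaf 0xf0a0002) (.node 69848 (.leaf 0x0) (.leaf 0xb0a0f0003))))) (.node 69855 (.node 69852 (.node 69850 (.leaf 0x0) (.node 69851 (.leaf 0xb0b0002) (.leaf 0xb0001))) (.node 69853 (.leaf 0x110db00b758) (.node 69854 (.leaf 0xa0a0002) (.leaf 0x0)))) (.node 69858 (.node 69856 (.leaf 0xf0001) (.node 69857 (.leaf 0x0) (.leaf 0x0))) (.node 69859 (.leaf 0x9000900090202000701000b) (.node 69860 (.leaf 0x0) (.leaf 0xf0b0002))))))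

def argWS_6191 : Store := (.node 69838 argWS_6189 argWS_6190)

def argWS_6192 : Store := (.node 69872 (.node 69866 (.node 69863 (.node 69862 (.leaf 0x0) (.leaf 0xa0f0b0003)) (.node 69864 (.leaf 0x109c60110e6) (.node 69865 (.leaf 0x0) (.leaf 0x20401020106060202000701000c)))) (.node 69869 (.node 69867 (.leaf 0x0) (.node 69868 (.leaf 0xb0f0a0a0004) (.leaf 0xf0b0b0003))) (.node 69870 (.leaf 0xb0a0002) (.node 69871 (.leaf 0x110ed) (.leaf 0xb0f0a0a0004))))) (.node 69877 (.node 69874 (.node 69873 (.leaf 0x0) (.leaf 0xb0a0a0003)) (.node 69875 (.leaf 0x0) (.node 69876 (.leaf 0x0) (.leaf 0x902020007010008)))) (.node 69880 (.node 69878 (.leaf 0x0) (.node 69879 (.leaf 0xb0001) (.leaf 0x0))) (.node 69881 (.leaf 0x2060003030604000703040103000d) (.node 69882 (.leaf 0x0) (.leaf 0x0))))))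

def argWS_6193 : Store := (.node 69894 (.node 69888 (.node 69885 (.node 69884 (.leaf 0x501010904020802040105000b) (.leaf 0x0)) (.node 69886 (.leaf 0xa0f0b0b0004) (.node 69887 (.leaf 0x0) (.leaf 0x110fe0110fa)))) (.node 69891 (.node 69889 (.leaf 0x0) (.node 69890 (.leaf 0xb0a0a0003) (.leaf 0x0))) (.node 69892 (.leaf 0x0) (.node 69893 (.leaf 0xd0b0b0003) (.leaf 0xf856011104))))) (.node 69900 (.node 69897 (.node 69895 (.leaf 0xa0f0b0003) (.node 69896 (.leaf 0x0) (.leaf 0x101020106060202000701000b))) (.node 69898 (.leaf 0x0) (.node 69899 (.leaf 0xa0a0002) (.leaf 0xd0b0b0003)))) (.node 69903 (.node 69901 (.leaf 0xe0a0a0003) (.node 69902 (.leaf 0xd0b0b0003) (.leaf 0x1110d01110c))) (.node 69904 (.leaf 0xb0a0f0003) (.node 69905 (.leaf 0x0) (.leaf 0xf0b0b0003))))))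

def argWS_6194 : Store := (.node 69883 argWS_6192 argWS_6193)

def argWS_6195 : Store := (.node 69861 argWS_6191 argWS_6194)

def argWS_6196 : Store := (.node 69917 (.node 69911 (.node 69908 (.node 69907 (.leaf 0x0) (.leaf 0x0)) (.node 69909 (.leaf 0xf0001) (.node 69910 (.leaf 0xd0b0b0003) (.leaf 0xd0001)))) (.node 69914 (.node 69912 (.leaf 0x11116011115) (.node 69913 (.leaf 0xd0b0b0003) (.leaf 0x0))) (.node 69915 (.leaf 0xb0b0002) (.node 69916 (.leaf 0x0) (.leaf 0x0))))) (.node 69922 (.node 69919 (.node 69918 (.leaf 0xb0f0a0003) (.leaf 0xb0b0002)) (.node 69920 (.leaf 0x3070207030005) (.node 69921 (.leaf 0x0) (.leaf 0xb0b0a0003)))) (.node 69925 (.node 69923 (.leaf 0x0) (.node 69924 (.leaf 0x1112201111e) (.leaf 0xe0d0002))) (.node 69926 (.leaf 0x0) (.node 69927 (.leaf 0x0) (.leaf 0xe0d0002))))))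

def argWS_6197 : Store := (.node 69939 (.node 69933 (.node 69930 (.node 69929 (.leaf 0x6030106020702010202000701000d) (.leaf 0x0)) (.node 69931 (.leaf 0xb0f0002) (.node 69932 (.leaf 0x0) (.leaf 0x90104070009030007)))) (.node 69936 (.node 69934 (.leaf 0x0) (.node 69935 (.leaf 0xb0f0a0003) (.leaf 0x0))) (.node 69937 (.leaf 0x1112f01112b) (.node 69938 (.leaf 0xb0a0f0003) (.leaf 0x0))))) (.node 69945 (.node 69942 (.node 69940 (.leaf 0xf0b0b0003) (.node 69941 (.leaf 0x0) (.leaf 0x0))) (.node 69943 (.leaf 0x6020901060202000701000a) (.node 69944 (.leaf 0x0) (.leaf 0xf0b0002)))) (.node 69948 (.node 69946 (.leaf 0x0) (.node 69947 (.leaf 0xf0b0b0003) (.leaf 0xd0b0b0003))) (.node 69949 (.leaf 0x1113b01113a) (.node 69950 (.leaf 0xb0f0a0003) (.leaf 0x0))))))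

def argWS_6198 : Store := (.node 69928 argWS_6196 argWS_6197)

def argWS_6199 : Store := (.node 69962 (.node 69956 (.node 69953 (.node 69952 (.leaf 0x90104010908050007) (.leaf 0x0)) (.node 69954 (.leaf 0xb0a0f0003) (.node 69955 (.leaf 0x600040807030401030009) (.leaf 0x0)))) (.node 69959 (.node 69957 (.leaf 0xb0b0a0003) (.node 69958 (.leaf 0x0) (.leaf 0xb0f0002))) (.node 69960 (.leaf 0xa0f0002) (.node 69961 (.leaf 0x11147011146) (.leaf 0xf0b0a0003))))) (.node 69968 (.node 69965 (.node 69963 (.leaf 0x0) (.node 69964 (.leaf 0x8030002020900000008) (.leaf 0x0))) (.node 69966 (.leaf 0xb0f0a0003) (.node 69967 (.leaf 0x503010703060007) (.leaf 0x0)))) (.node 69971 (.node 69969 (.leaf 0xb0a0a0003) (.node 69970 (.leaf 0x0) (.leaf 0x10402020900000802040105000c))) (.node 69972 (.leaf 0x0) (.node 69973 (.leaf 0xb0f0a0003) (.leaf 0x0))))))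

def argWS_6200 : Store := (.node 69985 (.node 69979 (.node 69976 (.node 69975 (.leaf 0xf0b0b0003) (.leaf 0x11156011155)) (.node 69977 (.leaf 0xb0a0a0003) (.node 69978 (.leaf 0x0) (.leaf 0x102010207030006)))) (.node 69982 (.node 69980 (.leaf 0x0) (.node 69981 (.leaf 0xa0001) (.leaf 0x1020202000003010008))) (.node 69983 (.leaf 0x0) (.node 69984 (.leaf 0xb0b0a0a0004) (.leaf 0x0))))) (.node 69991 (.node 69988 (.node 69986 (.leaf 0x907010703060006) (.node 69987 (.leaf 0x0) (.leaf 0xe0a0002))) (.node 69989 (.leaf 0x0) (.node 69990 (.leaf 0xb0a0002) (.leaf 0x11165011164)))) (.node 69994 (.node 69992 (.leaf 0xa0001) (.node 69993 (.leaf 0x0) (.leaf 0x8000000030306040202000701000d))) (.node 69995 (.leaf 0x0) (.node 69996 (.leaf 0xf0b0b0a0a0005) (.leaf 0x30301090402000703040103000c))))))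

def argWS_6201 : Store := (.node 69974 argWS_6199 argWS_6200)

def argWS_6202 : Store := (.node 69951 argWS_6198 argWS_6201)

def argWS_6203 : Store := (.node 69906 argWS_6195 argWS_6202)

def argWS_6204 : Store := (.node 69816 argWS_6188 argWS_6203)

def argWS_6205 : Store := (.node 69636 argWS_6173 argWS_6204)

def argWS_6206 : Store := (.node 70008 (.node 70002 (.node 69999 (.node 69998 (.leaf 0x0) (.leaf 0xe0001)) (.node 70000 (.leaf 0x0) (.node 70001 (.leaf 0xe0a0002) (.leaf 0x1117001116f)))) (.node 70005 (.node 70003 (.leaf 0xb0f0a0003) (.node 70004 (.leaf 0x0) (.leaf 0xf0b0b0003))) (.node 70006 (.leaf 0x0) (.node 70007 (.leaf 0x0) (.leaf 0xf0b0a0003))))) (.node 70013 (.node 70010 (.node 70009 (.leaf 0x60102010904020202000701000c) (.leaf 0x0)) (.node 70011 (.leaf 0xf0b0b0a0a0005) (.node 70012 (.leaf 0x0) (.leaf 0xe0001)))) (.node 70016 (.node 70014 (.leaf 0x1117c01117b) (.node 70015 (.leaf 0xa0001) (.leaf 0x0))) (.node 70017 (.leaf 0xf0b0b0003)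 (.node 70018 (.leaf 0x0) (.leaf 0x0))))))

def argWS_6207 : Store := (.node 70030 (.node 70024 (.node 70021 (.node 70020 (.leaf 0xf0b0a0003) (.leaf 0xf0a0a0003)) (.node 70022 (.leaf 0x9000300000202000701000a) (.node 70023 (.leaf 0x0) (.leaf 0xf0001)))) (.node 70027 (.node 70025 (.leaf 0x0) (.node 70026 (.leaf 0x11188011184) (.leaf 0x9010402090106000703040103000d))) (.node 70028 (.leaf 0x0) (.node 70029 (.leaf 0xb0b0a0003) (.leaf 0x0))))) (.node 70036 (.node 70033 (.node 70031 (.leaf 0xe0001) (.node 70032 (.leaf 0x0) (.leaf 0x0))) (.node 70034 (.leaf 0xb0f0a0003) (.node 70035 (.leaf 0xb0a0002) (.leaf 0xd0b0002)))) (.node 70039 (.node 70037 (.leaf 0x11193011192) (.node 70038 (.leaf 0xa0a0002) (.leaf 0x0))) (.node 70040 (.leaf 0xd0b0002) (.node 70041 (.leaf 0x0) (.leaf 0x0))))))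

def argWS_6208 : Store := (.node 70019 argWS_6206 argWS_6207)

def argWS_6209 : Store := (.node 70053 (.node 70047 (.node 70044 (.node 70043 (.leaf 0xf0a0002) (.leaf 0xf0a0002)) (.node 70045 (.leaf 0x508020401050007) (.node 70046 (.leaf 0x0) (.leaf 0x0)))) (.node 70050 (.node 70048 (.leaf 0x1119e01119b) (.node 70049 (.leaf 0xf0b0b0a0004) (.leaf 0x0))) (.node 70051 (.leaf 0xb0f0a0003) (.node 70052 (.leaf 0x0) (.leaf 0x0))))) (.node 70058 (.node 70055 (.node 70054 (.leaf 0xf0b0a0a0004) (.leaf 0x905010606000703040103000b)) (.node 70056 (.leaf 0x0) (.node 70057 (.leaf 0xf0b0a0a0004) (.leaf 0x0)))) (.node 70061 (.node 70059 (.leaf 0x602000400050202000701000b) (.node 70060 (.leaf 0x0) (.leaf 0xe0a0a0003))) (.node 70062 (.leaf 0x0) (.node 70063 (.leaf 0x111ad0111a9) (.leaf 0xe0001))))))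

def argWS_6210 : Store := (.node 70075 (.node 70069 (.node 70066 (.node 70065 (.leaf 0x0) (.leaf 0xe0a0a0003)) (.node 70067 (.leaf 0x0) (.node 70068 (.leaf 0x0) (.leaf 0x7000000090206020202000701000d)))) (.node 70072 (.node 70070 (.leaf 0x0) (.node 70071 (.leaf 0xb0a0002) (.leaf 0x0))) (.node 70073 (.leaf 0xb0f0002) (.node 70074 (.leaf 0x4070308020401050008) (.leaf 0x0))))) (.node 70081 (.node 70078 (.node 70076 (.leaf 0xa0f0b0b0004) (.node 70077 (.leaf 0x0) (.leaf 0x111bc0111b8))) (.node 70079 (.leaf 0xe0d0002) (.node 70080 (.leaf 0x0) (.leaf 0x0)))) (.node 70084 (.node 70082 (.leaf 0x90700020901060802040105000c) (.node 70083 (.leaf 0x0) (.leaf 0x0))) (.node 70085 (.leaf 0x401010703060202000701000b) (.node 70086 (.leaf 0x0) (.leaf 0xb0b0002))))))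

def argWS_6211 : Store := (.node 70064 argWS_6209 argWS_6210)

def argWS_6212 : Store := (.node 70042 argWS_6208 argWS_6211)

def argWS_6213 : Store := (.node 70098 (.node 70092 (.node 70089 (.node 70088 (.leaf 0x0) (.leaf 0xf0b0002)) (.node 70090 (.leaf 0x111c80111c7) (.node 70091 (.leaf 0xf0a0a0003) (.leaf 0x0)))) (.node 70095 (.node 70093 (.leaf 0x605010904020006) (.node 70094 (.leaf 0x0) (.leaf 0xb0f0a0a0004))) (.node 70096 (.leaf 0xa0001) (.node 70097 (.leaf 0xf0b0b0003) (.leaf 0x111d000a876))))) (.node 70103 (.node 70100 (.node 70099 (.leaf 0x0) (.leaf 0xf0b0a0003)) (.node 70101 (.leaf 0x0) (.node 70102 (.leaf 0xb0f0a0003) (.leaf 0x0)))) (.node 70106 (.node 70104 (.leaf 0x0) (.node 70105 (.leaf 0xf0b0002) (.leaf 0x20000000300000802040105000c))) (.node 70107 (.leaf 0x0) (.node 70108 (.leaf 0xf0001) (.leaf 0x0))))))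

def argWS_6214 : Store := (.node 70120 (.node 70114 (.node 70111 (.node 70110 (.leaf 0xd0b0002) (.leaf 0x111dd0111dc)) (.node 70112 (.leaf 0xf0a0002) (.node 70113 (.leaf 0x0) (.leaf 0x70406030500040202000701000c)))) (.node 70117 (.node 70115 (.leaf 0x0) (.node 70116 (.leaf 0xf0b0b0003) (.leaf 0xb0b0a0a0004))) (.node 70118 (.leaf 0xa0f0b0003) (.node 70119 (.leaf 0xd9950111e5) (.leaf 0xb0f0002))))) (.node 70126 (.node 70123 (.node 70121 (.leaf 0x0) (.node 70122 (.leaf 0xb0a0a0003) (.leaf 0x0))) (.node 70124 (.leaf 0x0) (.node 70125 (.leaf 0xf0b0002) (.leaf 0xb0f0a0a0004)))) (.node 70129 (.node 70127 (.leaf 0xb0f0a0003) (.node 70128 (.leaf 0x111ee0111ed) (.leaf 0xa0f0b0b0004))) (.node 70130 (.leaf 0x0) (.node 70131 (.leaf 0x8000006020702010008) (.leaf 0x0))))))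

def argWS_6215 : Store := (.node 70109 argWS_6213 argWS_6214)

def argWS_6216 : Store := (.node 70143 (.node 70137 (.node 70134 (.node 70133 (.leaf 0xa0f0b0b0004) (.leaf 0xb0b0002)) (.node 70135 (.leaf 0x40908050802040105000a) (.node 70136 (.leaf 0x0) (.leaf 0xb0f0002)))) (.node 70140 (.node 70138 (.leaf 0x0) (.node 70139 (.leaf 0xa010111f9) (.leaf 0xb0f0a0003))) (.node 70141 (.leaf 0x0) (.node 70142 (.leaf 0xd0001) (.leaf 0x0))))) (.node 70148 (.node 70145 (.node 70144 (.leaf 0x0) (.leaf 0x403010908050802040105000b)) (.node 70146 (.leaf 0x0) (.node 70147 (.leaf 0x0) (.leaf 0xd0b0b0003)))) (.node 70151 (.node 70149 (.leaf 0xf0b0b0a0a0005) (.node 70150 (.leaf 0x11204011203) (.leaf 0xb0a0002))) (.node 70152 (.leaf 0x0) (.node 70153 (.leaf 0xe0a0a0003) (.leaf 0x0))))))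

def argWS_6217 : Store := (.node 70165 (.node 70159 (.node 70156 (.node 70155 (.leaf 0x0) (.leaf 0xa0f0002)) (.node 70157 (.leaf 0xb0a0f0003) (.node 70158 (.leaf 0x206000007030401030009) (.leaf 0x0)))) (.node 70162 (.node 70160 (.leaf 0xa0001) (.node 70161 (.leaf 0x0) (.leaf 0x1121001120c))) (.node 70163 (.leaf 0xb0b0002) (.node 70164 (.leaf 0x0) (.leaf 0xf0b0b0003))))) (.node 70171 (.node 70168 (.node 70166 (.leaf 0x0) (.node 70167 (.leaf 0x0) (.leaf 0xb0001))) (.node 70169 (.leaf 0xb0a0f0003) (.node 70170 (.leaf 0x20102020007010007) (.leaf 0x0)))) (.node 70174 (.node 70172 (.leaf 0xd0b0b0003) (.node 70173 (.leaf 0x0) (.leaf 0x1121c011218))) (.node 70175 (.leaf 0xb0b0a0a0004) (.node 70176 (.leaf 0x0) (.leaf 0xf0001))))))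

def argWS_6218 : Store := (.node 70154 argWS_6216 argWS_6217)

def argWS_6219 : Store := (.node 70132 argWS_6215 argWS_6218)

def argWS_6220 : Store := (.node 70087 argWS_6212 argWS_6219)

def argWS_6221 : Store := (.node 70188 (.node 70182 (.node 70179 (.node 70178 (.leaf 0x0) (.leaf 0x0)) (.node 70180 (.leaf 0x20702020900000007) (.node 70181 (.leaf 0x0) (.leaf 0xe0a0a0003)))) (.node 70185 (.node 70183 (.leaf 0x0) (.node 70184 (.leaf 0xf0001) (.leaf 0xd0001))) (.node 70186 (.leaf 0x11228011227) (.node 70187 (.leaf 0xb0001) (.leaf 0x0))))) (.node 70193 (.node 70190 (.node 70189 (.leaf 0xa0a0002) (.leaf 0x0)) (.node 70191 (.leaf 0x0) (.node 70192 (.leaf 0xb0a0f0003) (.leaf 0x600030306040202000701000c)))) (.node 70196 (.node 70194 (.leaf 0x0) (.node 70195 (.leaf 0xd0b0b0003) (.leaf 0x0))) (.node 70197 (.leaf 0xb0b0a0003) (.node 70198 (.leaf 0x11234011233) (.leaf 0xb0f0a0a0004))))))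

def argWS_6222 : Store := (.node 70210 (.node 70204 (.node 70201 (.node 70200 (.leaf 0x0) (.leaf 0xf0b0a0a0004)) (.node 70202 (.leaf 0x0) (.node 70203 (.leaf 0xe0a0a0003) (.leaf 0xb0001)))) (.node 70207 (.node 70205 (.leaf 0xb0f0a0003) (.node 70206 (.leaf 0x1123c01123b) (.leaf 0xb0a0002))) (.node 70208 (.leaf 0x0) (.node 70209 (.leaf 0xe0a0a0003) (.leaf 0x0))))) (.node 70216 (.node 70213 (.node 70211 (.leaf 0x0) (.node 70212 (.leaf 0xd0001) (.leaf 0xf0a0002))) (.node 70214 (.leaf 0x11244) (.node 70215 (.leaf 0xb0f0a0003) (.leaf 0x0)))) (.node 70219 (.node 70217 (.leaf 0xf0b0b0a0004) (.node 70218 (.leaf 0x0) (.leaf 0x0))) (.node 70220 (.leaf 0x40006020702010007) (.node 70221 (.leaf 0x0) (.leaf 0xd0b0b0003))))))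

def argWS_6223 : Store := (.node 70199 argWS_6221 argWS_6222)

def argWS_6224 : Store := (.node 70233 (.node 70227 (.node 70224 (.node 70223 (.leaf 0x0) (.leaf 0xf0a0002)) (.node 70225 (.leaf 0xb0a0a0003) (.node 70226 (.leaf 0x1125001124f) (.leaf 0xd0001)))) (.node 70230 (.node 70228 (.leaf 0x0) (.node 70229 (.leaf 0x9020900000005) (.leaf 0x0))) (.node 70231 (.leaf 0xb0001) (.node 70232 (.leaf 0xb0f0a0a0004) (.leaf 0x4000400050005))))) (.node 70238 (.node 70235 (.node 70234 (.leaf 0x0) (.leaf 0xf0b0002)) (.node 70236 (.leaf 0x0) (.node 70237 (.leaf 0xf0b0b0a0a0005) (.leaf 0x1125c01125b)))) (.node 70241 (.node 70239 (.leaf 0xb0f0a0a0004) (.node 70240 (.leaf 0x0) (.leaf 0xb0f0a0a0004))) (.node 70242 (.leaf 0x0) (.node 70243 (.leaf 0x0) (.leaf 0xd0001))))))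

def argWS_6225 : Store := (.node 70255 (.node 70249 (.node 70246 (.node 70245 (.leaf 0xb0f0a0003) (.leaf 0x11264)) (.node 70247 (.leaf 0xb0b0002) (.node 70248 (.leaf 0x0) (.leaf 0xb0a0002)))) (.node 70252 (.node 70250 (.leaf 0x0) (.node 70251 (.leaf 0x0) (.leaf 0x404070206000202000701000b))) (.node 70253 (.leaf 0x0) (.node 70254 (.leaf 0x0) (.leaf 0xd0b0002))))) (.node 70261 (.node 70258 (.node 70256 (.leaf 0x40000000300000802040105000d) (.node 70257 (.leaf 0x0) (.leaf 0xd0b0002))) (.node 70259 (.leaf 0x0) (.node 70260 (.leaf 0x1127201126e) (.leaf 0xb0a0a0003)))) (.node 70264 (.node 70262 (.leaf 0x0) (.node 70263 (.leaf 0x8000007030401030009) (.leaf 0x0))) (.node 70265 (.leaf 0xf0b0a0a0004) (.node 70266 (.leaf 0xf0a0a0003) (.leaf 0xb0001))))))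

def argWS_6226 : Store := (.node 70244 argWS_6224 argWS_6225)

def argWS_6227 : Store := (.node 70222 argWS_6223 argWS_6226)

def argWS_6228 : Store := (.node 70278 (.node 70272 (.node 70269 (.node 70268 (.leaf 0xf0b0b0a0a0005) (.leaf 0x1127b01127a)) (.node 70270 (.leaf 0x105080007030401030009) (.node 70271 (.leaf 0x0) (.leaf 0xe0d0002)))) (.node 70275 (.node 70273 (.leaf 0x0) (.node 70274 (.leaf 0xf0a0a0003) (.leaf 0x0))) (.node 70276 (.leaf 0x0) (.node 70277 (.leaf 0x800090000090007) (.leaf 0x0))))) (.node 70283 (.node 70280 (.node 70279 (.leaf 0xe0d0002) (.leaf 0x0)) (.node 70281 (.leaf 0x30000090206020802040105000c) (.node 70282 (.leaf 0x0) (.leaf 0xd0001)))) (.node 70286 (.node 70284 (.leaf 0x0) (.node 70285 (.leaf 0x109b901128b) (.leaf 0xb0b0a0003))) (.node 70287 (.leaf 0x0) (.node 70288 (.leaf 0xd0b0b0003) (.leaf 0x0))))))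

def argWS_6229 : Store := (.node 70300 (.node 70294 (.node 70291 (.node 70290 (.leaf 0x0) (.leaf 0xf0b0a0a0004)) (.node 70292 (.leaf 0xb0f0a0003) (.node 70293 (.leaf 0x10d71011293) (.leaf 0x0)))) (.node 70297 (.node 70295 (.leaf 0x8090805000703040103000a) (.node 70296 (.leaf 0x0) (.leaf 0xe0a0a0003))) (.node 70298 (.leaf 0xb0a0f0003) (.node 70299 (.leaf 0x800070209020802040105000b) (.leaf 0x0))))) (.node 70306 (.node 70303 (.node 70301 (.leaf 0xe0001) (.node 70302 (.leaf 0x0) (.leaf 0x1129d009c29))) (.node 70304 (.leaf 0xb0001) (.node 70305 (.leaf 0x0) (.leaf 0xf0001)))) (.node 70309 (.node 70307 (.leaf 0x0) (.node 70308 (.leaf 0x0) (.leaf 0x70101010908050007))) (.node 70310 (.leaf 0x0) (.node 70311 (.leaf 0xe0001) (.leaf 0x0))))))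

def argWS_6230 : Store := (.node 70289 argWS_6228 argWS_6229)

def argWS_6231 : Store := (.node 70323 (.node 70317 (.node 70314 (.node 70313 (.leaf 0xd0001) (.leaf 0xd0b0b0003)) (.node 70315 (.leaf 0x112a90112a8) (.node 70316 (.leaf 0xa0f0b0b0004) (.leaf 0x0)))) (.node 70320 (.node 70318 (.leaf 0xe0001) (.node 70319 (.leaf 0x0) (.leaf 0x0))) (.node 70321 (.leaf 0x20000050202020703040103000c) (.node 70322 (.leaf 0x0) (.leaf 0xa0f0b0b0004))))) (.node 70329 (.node 70326 (.node 70324 (.leaf 0x0) (.node 70325 (.leaf 0xd0b0002) (.leaf 0xf0b0a0003))) (.node 70327 (.leaf 0x112b50112b4) (.node 70328 (.leaf 0xa0f0b0b0004) (.leaf 0x0)))) (.node 70332 (.node 70330 (.leaf 0x1030007020902000703040103000d) (.node 70331 (.leaf 0x0) (.leaf 0xb0f0a0a0004))) (.node 70333 (.leaf 0xa0a0002) (.node 70334 (.leaf 0x50703000703040103000a) (.leaf 0x0))))))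

def argWS_6232 : Store := (.node 70346 (.node 70340 (.node 70337 (.node 70336 (.leaf 0xf0b0b0a0004) (.leaf 0x0)) (.node 70338 (.leaf 0x112c0) (.node 70339 (.leaf 0xf0001) (.leaf 0x0)))) (.node 70343 (.node 70341 (.leaf 0xa0f0b0b0004) (.node 70342 (.leaf 0x0) (.leaf 0x0))) (.node 70344 (.leaf 0xb0a0002) (.node 70345 (.leaf 0xb0a0f0003) (.leaf 0x0))))) (.node 70352 (.node 70349 (.node 70347 (.leaf 0x3040102020007010008) (.node 70348 (.leaf 0x0) (.leaf 0xa0f0002))) (.node 70350 (.leaf 0x0) (.node 70351 (.leaf 0x112cd0112c9) (.leaf 0x8020006020702010008)))) (.node 70355 (.node 70353 (.leaf 0x0) (.node 70354 (.leaf 0xe0a0a0003) (.leaf 0x0))) (.node 70356 (.leaf 0xd0b0b0003) (.node 70357 (.leaf 0x0) (.leaf 0x0))))))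

def argWS_6233 : Store := (.node 70335 argWS_6231 argWS_6232)

def argWS_6234 : Store := (.node 70312 argWS_6230 argWS_6233)

def argWS_6235 : Store := (.node 70267 argWS_6227 argWS_6234)

def argWS_6236 : Store := (.node 70177 argWS_6220 argWS_6235)

def argWS_6237 : Store := (.node 70369 (.node 70363 (.node 70360 (.node 70359 (.leaf 0xd0b0b0003) (.leaf 0x104000301010200000703040103000e)) (.node 70361 (.leaf 0x0) (.node 70362 (.leaf 0xb0a0002) (.leaf 0x0)))) (.node 70366 (.node 70364 (.leaf 0x112da) (.node 70365 (.leaf 0xb0b0002) (.leaf 0x0))) (.node 70367 (.leaf 0xa0f0002) (.node 70368 (.leaf 0x0) (.leaf 0x0))))) (.node 70374 (.node 70371 (.node 70370 (.leaf 0xb0a0a0003) (.leaf 0x2040807030401030008)) (.node 70372 (.leaf 0x0) (.node 70373 (.leaf 0xd0b0b0003) (.leaf 0x0)))) (.node 70377 (.node 70375 (.leaf 0x112e5007312) (.node 70376 (.leaf 0xf0001) (.leaf 0x0))) (.node 70378 (.leaf 0xb0a0f0003) (.node 70379 (.leaf 0x0) (.leaf 0x0))))))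

def argWS_6238 : Store := (.node 70391 (.node 70385 (.node 70382 (.node 70381 (.leaf 0xf0b0b0a0004) (.leaf 0x906010500020802040105000b)) (.node 70383 (.leaf 0x0) (.node 70384 (.leaf 0xb0a0a0003) (.leaf 0x0)))) (.node 70388 (.node 70386 (.leaf 0x10b960112f0) (.node 70387 (.leaf 0xf0b0b0003) (.leaf 0x0))) (.node 70389 (.leaf 0xa0a0002) (.node 70390 (.leaf 0x0) (.leaf 0x0))))) (.node 70397 (.node 70394 (.node 70392 (.leaf 0xa0001) (.node 70393 (.leaf 0xa0f0002) (.leaf 0x112f8))) (.node 70395 (.leaf 0xe0a0a0003) (.node 70396 (.leaf 0x0) (.leaf 0xe0a0002)))) (.node 70400 (.node 70398 (.leaf 0x0) (.node 70399 (.leaf 0x0) (.leaf 0xb0a0a0003))) (.node 70401 (.leaf 0xa0f0b0003) (.node 70402 (.leaf 0x11300) (.leaf 0x0))))))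

def argWS_6239 : Store := (.node 70380 argWS_6237 argWS_6238)

def argWS_6240 : Store := (.node 70414 (.node 70408 (.node 70405 (.node 70404 (.leaf 0xf0b0a0003) (.leaf 0x0)) (.node 70406 (.leaf 0xd0b0b0003) (.node 70407 (.leaf 0x0) (.leaf 0x0)))) (.node 70411 (.node 70409 (.leaf 0xf0b0a0a0004) (.node 70410 (.leaf 0x502010601050002000703040103000e) (.leaf 0x0))) (.node 70412 (.leaf 0xa0001) (.node 70413 (.leaf 0x0) (.leaf 0x1130c))))) (.node 70419 (.node 70416 (.node 70415 (.leaf 0xb0b0002) (.leaf 0x0)) (.node 70417 (.leaf 0xa0f0002) (.node 70418 (.leaf 0x0) (.leaf 0x0)))) (.node 70422 (.node 70420 (.leaf 0x10903060207020703040103000c) (.node 70421 (.leaf 0x0) (.leaf 0xf0a0002))) (.node 70423 (.leaf 0x0) (.node 70424 (.leaf 0x4030406010500020802040105000d) (.leaf 0x0))))))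

def argWS_6241 : Store := (.node 70436 (.node 70430 (.node 70427 (.node 70426 (.leaf 0xf0b0a0a0004) (.leaf 0x0)) (.node 70428 (.leaf 0x1131a011316) (.node 70429 (.leaf 0xa0001) (.leaf 0x0)))) (.node 70433 (.node 70431 (.leaf 0xb0b0a0a0004) (.node 70432 (.leaf 0x0) (.leaf 0x0))) (.node 70434 (.leaf 0x80300070206000802040105000c) (.node 70435 (.leaf 0x0) (.leaf 0x0))))) (.node 70442 (.node 70439 (.node 70437 (.leaf 0x401070009030006) (.node 70438 (.leaf 0x0) (.leaf 0xb0001))) (.node 70440 (.leaf 0x0) (.node 70441 (.leaf 0xf421011327) (.leaf 0x0)))) (.node 70445 (.node 70443 (.leaf 0x70000050206040202000701000c) (.node 70444 (.leaf 0x0) (.leaf 0xa0a0002))) (.node 70446 (.leaf 0xf0b0a0a0004) (.node 70447 (.leaf 0xa0f0b0b0004) (.leaf 0xb0f0a0a0004))))))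

def argWS_6242 : Store := (.node 70425 argWS_6240 argWS_6241)

def argWS_6243 : Store := (.node 70403 argWS_6239 argWS_6242)

def argWS_6244 : Store := (.node 70459 (.node 70453 (.node 70450 (.node 70449 (.leaf 0x1132f01132e) (.leaf 0xa0a0002)) (.node 70451 (.leaf 0x0) (.node 70452 (.leaf 0xb0b0002) (.leaf 0x0)))) (.node 70456 (.node 70454 (.leaf 0x0) (.node 70455 (.leaf 0x40900090005) (.leaf 0x0))) (.node 70457 (.leaf 0xb0f0a0003) (.node 70458 (.leaf 0x0) (.leaf 0x20103040005000703040103000c))))) (.node 70464 (.node 70461 (.node 70460 (.leaf 0x0) (.leaf 0x0)) (.node 70462 (.leaf 0x30300030306040202000701000c) (.node 70463 (.leaf 0x0) (.leaf 0xf0a0002)))) (.node 70467 (.node 70465 (.leaf 0x0) (.node 70466 (.leaf 0x1134001133c) (.leaf 0xe0a0002))) (.node 70468 (.leaf 0x0) (.node 70469 (.leaf 0x900070206000202000701000b) (.leaf 0x0))))))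

def argWS_6245 : Store := (.node 70481 (.node 70475 (.node 70472 (.node 70471 (.leaf 0xf0a0002) (.leaf 0x205050206040006)) (.node 70473 (.leaf 0x0) (.node 70474 (.leaf 0xb0a0002) (.leaf 0x0)))) (.node 70478 (.node 70476 (.leaf 0xf0b0002) (.node 70477 (.leaf 0x2010307020902000703040103000d) (.leaf 0x0))) (.node 70479 (.leaf 0xf0a0002) (.node 70480 (.leaf 0x0) (.leaf 0x1134f01134b))))) (.node 70487 (.node 70484 (.node 70482 (.leaf 0xb0f0002) (.node 70483 (.leaf 0x0) (.leaf 0xa0f0b0003))) (.node 70485 (.leaf 0x0) (.node 70486 (.leaf 0x0) (.leaf 0x601020102020900000202000701000e)))) (.node 70490 (.node 70488 (.leaf 0x0) (.node 70489 (.leaf 0xd0b0b0003) (.leaf 0x0))) (.node 70491 (.leaf 0xb0b0002) (.node 70492 (.leaf 0x60000070206000007) (.leaf 0x0))))))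

def argWS_6246 : Store := (.node 70470 argWS_6244 argWS_6245)

def argWS_6247 : Store := (.node 70504 (.node 70498 (.node 70495 (.node 70494 (.leaf 0xb0b0002) (.leaf 0x0)) (.node 70496 (.leaf 0x1135e01135a) (.node 70497 (.leaf 0x0) (.leaf 0x10903090806000802040105000c)))) (.node 70501 (.node 70499 (.leaf 0x0) (.node 70500 (.leaf 0xf0b0002) (.leaf 0xb0b0a0003))) (.node 70502 (.leaf 0x3070400050202000701000a) (.node 70503 (.leaf 0x0) (.leaf 0xa0f0b0003))))) (.node 70509 (.node 70506 (.node 70505 (.leaf 0x0) (.leaf 0xe0001)) (.node 70507 (.leaf 0x11369011368) (.node 70508 (.leaf 0xb0f0002) (.leaf 0x0)))) (.node 70512 (.node 70510 (.leaf 0xf0001) (.node 70511 (.leaf 0x0) (.leaf 0x0))) (.node 70513 (.leaf 0x50200090000090202000701000c) (.node 70514 (.leaf 0x0) (.leaf 0xf0a0a0003))))))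

def argWS_6248 : Store := (.node 70526 (.node 70520 (.node 70517 (.node 70516 (.leaf 0x0) (.leaf 0xe0a0a0003)) (.node 70518 (.leaf 0xb0f0a0a0004) (.node 70519 (.leaf 0x11375011374) (.leaf 0xe0d0002)))) (.node 70523 (.node 70521 (.leaf 0x0) (.node 70522 (.leaf 0xf0a0a0003) (.leaf 0x0))) (.node 70524 (.leaf 0x0) (.node 70525 (.leaf 0xb0a0f0003) (.leaf 0xf0b0b0a0004))))) (.node 70532 (.node 70529 (.node 70527 (.leaf 0xa0001) (.node 70528 (.leaf 0x1137e01137d) (.leaf 0xf0a0a0003))) (.node 70530 (.leaf 0x0) (.node 70531 (.leaf 0xe0d0002) (.leaf 0x0)))) (.node 70535 (.node 70533 (.leaf 0x0) (.node 70534 (.leaf 0xf0b0b0a0a0005) (.leaf 0x70101020106060202000701000c))) (.node 70536 (.leaf 0x0) (.node 70537 (.leaf 0x0) (.leaf 0x11388))))))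

def argWS_6249 : Store := (.node 70515 argWS_6247 argWS_6248)

def argWS_6250 : Store := (.node 70493 argWS_6246 argWS_6249)

def argWS_6251 : Store := (.node 70448 argWS_6243 argWS_6250)

def argWS_6252 : Store := (.node 70549 (.node 70543 (.node 70540 (.node 70539 (.leaf 0x0) (.leaf 0xd0b0002)) (.node 70541 (.leaf 0x0) (.node 70542 (.leaf 0x0) (.leaf 0xb0f0002)))) (.node 70546 (.node 70544 (.leaf 0xb0001) (.node 70545 (.leaf 0x1138f01138e) (.leaf 0xe0001))) (.node 70547 (.leaf 0x0) (.node 70548 (.leaf 0xf0b0002) (.leaf 0x0))))) (.node 70554 (.node 70551 (.node 70550 (.leaf 0x0) (.leaf 0x2090003030604000703040103000d)) (.node 70552 (.leaf 0x0) (.node 70553 (.leaf 0xf0001) (.leaf 0x0)))) (.node 70557 (.node 70555 (.leaf 0x11390011399) (.node 70556 (.leaf 0x0) (.leaf 0xb0a0a0003))) (.node 70558 (.leaf 0x0) (.node 70559 (.leaf 0x0) (.leaf 0xe0d0002))))))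

def argWS_6253 : Store := (.node 70571 (.node 70565 (.node 70562 (.node 70561 (.leaf 0xa0001) (.leaf 0x900020106060802040105000c)) (.node 70563 (.leaf 0x0) (.node 70564 (.leaf 0xa0f0002) (.leaf 0x0)))) (.node 70568 (.node 70566 (.leaf 0x113a40113a0) (.node 70567 (.leaf 0xb0b0a0003) (.leaf 0x0))) (.node 70569 (.leaf 0xa0f0b0b0004) (.node 70570 (.leaf 0x0) (.leaf 0x0))))) (.node 70577 (.node 70574 (.node 70572 (.leaf 0xd0b0002) (.node 70573 (.leaf 0xe0001) (.leaf 0x604000000030000000703040103000e))) (.node 70575 (.leaf 0x0) (.node 70576 (.leaf 0xe0a0002) (.leaf 0x0)))) (.node 70580 (.node 70578 (.leaf 0x113b00113ac) (.node 70579 (.leaf 0xb0f0002) (.leaf 0x0))) (.node 70581 (.leaf 0x0) (.node 70582 (.leaf 0xa0a0002) (.leaf 0xb0a0f0003))))))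

def argWS_6254 : Store := (.node 70560 argWS_6252 argWS_6253)

def argWS_6255 : Store := (.node 70594 (.node 70588 (.node 70585 (.node 70584 (.leaf 0xf0b0b0a0004) (.leaf 0x113b70113b6)) (.node 70586 (.leaf 0xb0b0a0003) (.node 70587 (.leaf 0x0) (.leaf 0xe0a0a0003)))) (.node 70591 (.node 70589 (.leaf 0x0) (.node 70590 (.leaf 0x0) (.leaf 0xe0a0002))) (.node 70592 (.leaf 0xd0b0b0003) (.node 70593 (.leaf 0x603010901090202000701000b) (.leaf 0x0))))) (.node 70599 (.node 70596 (.node 70595 (.leaf 0xd0001) (.leaf 0x0)) (.node 70597 (.leaf 0x113c30113bf) (.node 70598 (.leaf 0xb0a0a0003) (.leaf 0x0)))) (.node 70602 (.node 70600 (.leaf 0xe0d0002) (.node 70601 (.leaf 0x0) (.leaf 0x0))) (.node 70603 (.leaf 0xf0b0a0003) (.node 70604 (.leaf 0xd0b0002) (.leaf 0x1010102000802040105000a))))))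

def argWS_6256 : Store := (.node 70616 (.node 70610 (.node 70607 (.node 70606 (.leaf 0x0) (.leaf 0xb0a0a0003)) (.node 70608 (.leaf 0x0) (.node 70609 (.leaf 0x113cf0113cb) (.leaf 0xb0b0a0003)))) (.node 70613 (.node 70611 (.leaf 0x0) (.node 70612 (.leaf 0xb0a0f0003) (.leaf 0x0))) (.node 70614 (.leaf 0x0) (.node 70615 (.leaf 0xb0b0a0003) (.leaf 0x303090000090202000701000b))))) (.node 70622 (.node 70619 (.node 70617 (.leaf 0x0) (.node 70618 (.leaf 0xf0001) (.leaf 0x0))) (.node 70620 (.leaf 0x113da) (.node 70621 (.leaf 0x6030106030500040008) (.leaf 0x0)))) (.node 70625 (.node 70623 (.leaf 0xb0b0002) (.node 70624 (.leaf 0x0) (.leaf 0xa0f0b0b0004))) (.node 70626 (.leaf 0x0) (.node 70627 (.leaf 0x0) (.leaf 0xf0a0002))))))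

def argWS_6257 : Store := (.node 70605 argWS_6255 argWS_6256)

def argWS_6258 : Store := (.node 70583 argWS_6254 argWS_6257)

def argWS_6259 : Store := (.node 70639 (.node 70633 (.node 70630 (.node 70629 (.leaf 0xf52f) (.leaf 0xf0b0002)) (.node 70631 (.leaf 0x0) (.node 70632 (.leaf 0xe0d0002) (.leaf 0x0)))) (.node 70636 (.node 70634 (.leaf 0x0) (.node 70635 (.leaf 0x7010101090402000703040103000d) (.leaf 0x0))) (.node 70637 (.leaf 0xb0b0a0003) (.node 70638 (.leaf 0x0) (.leaf 0x60601010703060007))))) (.node 70644 (.node 70641 (.node 70640 (.leaf 0x0) (.leaf 0xf0b0002)) (.node 70642 (.leaf 0x0) (.node 70643 (.leaf 0x113f1) (.leaf 0xd0b0b0003)))) (.node 70647 (.node 70645 (.leaf 0x0) (.node 70646 (.leaf 0xa0f0b0003) (.leaf 0x0))) (.node 70648 (.leaf 0x0) (.node 70649 (.leaf 0xb0f0a0003) (.leaf 0x60102010904020007))))))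

def argWS_6260 : Store := (.node 70661 (.node 70655 (.node 70652 (.node 70651 (.leaf 0x0) (.leaf 0xe0a0002)) (.node 70653 (.leaf 0x0) (.node 70654 (.leaf 0x50306010500020008) (.leaf 0x0)))) (.node 70658 (.node 70656 (.leaf 0xb0f0a0a0004) (.node 70657 (.leaf 0x0) (.leaf 0x114000113fc))) (.node 70659 (.leaf 0x206040807030401030009) (.node 70660 (.leaf 0x0) (.leaf 0xe0a0002))))) (.node 70667 (.node 70664 (.node 70662 (.leaf 0x0) (.node 70663 (.leaf 0xf0b0b0003) (.leaf 0x0))) (.node 70665 (.leaf 0x0) (.node 70666 (.leaf 0x20202090000090007) (.leaf 0x0)))) (.node 70670 (.node 70668 (.leaf 0xf0b0b0003) (.node 70669 (.leaf 0x0) (.leaf 0x907070209020202000701000b))) (.node 70671 (.leaf 0x0) (.node 70672 (.leaf 0xb0f0a0a0004) (.leaf 0x0))))))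

def argWS_6261 : Store := (.node 70650 argWS_6259 argWS_6260)

def argWS_6262 : Store := (.node 70684 (.node 70678 (.node 70675 (.node 70674 (.leaf 0xb0a0a0003) (.leaf 0x11411011410)) (.node 70676 (.leaf 0xf0a0002) (.node 70677 (.leaf 0x0) (.leaf 0x103050202020703040103000b)))) (.node 70681 (.node 70679 (.leaf 0x0) (.node 70680 (.leaf 0xe0d0002) (.leaf 0xe0a0a0003))) (.node 70682 (.leaf 0xd0b0002) (.node 70683 (.leaf 0x11419009aba) (.leaf 0xd0b0002))))) (.node 70690 (.node 70687 (.node 70685 (.leaf 0x0) (.node 70686 (.leaf 0xb0f0002) (.leaf 0x0))) (.node 70688 (.leaf 0x0) (.node 70689 (.leaf 0x204010400050006) (.leaf 0x0)))) (.node 70693 (.node 70691 (.leaf 0xf0a0a0003) (.node 70692 (.leaf 0x0) (.leaf 0x50002020900000202000701000c))) (.node 70694 (.leaf 0x0) (.node 70695 (.leaf 0xe0001) (.leaf 0x0))))))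

def argWS_6263 : Store := (.node 70707 (.node 70701 (.node 70698 (.node 70697 (.leaf 0x114270089d5) (.leaf 0xb0a0002)) (.node 70699 (.leaf 0x0) (.node 70700 (.leaf 0xb0a0a0003) (.leaf 0x0)))) (.node 70704 (.node 70702 (.leaf 0x0) (.node 70703 (.leaf 0xe0a0002) (.leaf 0xf0b0a0a0004))) (.node 70705 (.leaf 0xb0a0a0003) (.node 70706 (.leaf 0x1143001142f) (.leaf 0xd0001))))) (.node 70713 (.node 70710 (.node 70708 (.leaf 0x0) (.node 70709 (.leaf 0xe0d0002) (.leaf 0x0))) (.node 70711 (.leaf 0xf0b0b0a0a0005) (.node 70712 (.leaf 0x1143600543d) (.leaf 0xf0a0002)))) (.node 70716 (.node 70714 (.leaf 0x0) (.node 70715 (.leaf 0xe0001) (.leaf 0x0))) (.node 70717 (.leaf 0x0) (.node 70718 (.leaf 0xb0a0a0003) (.leaf 0x50201010908050802040105000c))))))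

def argWS_6264 : Store := (.node 70696 argWS_6262 argWS_6263)

def argWS_6265 : Store := (.node 70673 argWS_6261 argWS_6264)

def argWS_6266 : Store := (.node 70628 argWS_6258 argWS_6265)

def argWS_6267 : Store := (.node 70538 argWS_6251 argWS_6266)

def argWS_6268 : Store := (.node 70358 argWS_6236 argWS_6267)

def argWS_6269 : Store := (.node 69997 argWS_6205 argWS_6268)

def argWS_6270 : Store := (.node 70730 (.node 70724 (.node 70721 (.node 70720 (.leaf 0x0) (.leaf 0xf0a0a0003)) (.node 70722 (.leaf 0x0) (.node 70723 (.leaf 0x11441) (.leaf 0x0)))) (.node 70727 (.node 70725 (.leaf 0x0) (.node 70726 (.leaf 0xa0001) (.leaf 0x0))) (.node 70728 (.leaf 0x0) (.node 70729 (.leaf 0xf0a0a0003) (.leaf 0x902010202090000000703040103000e))))) (.node 70735 (.node 70732 (.node 70731 (.leaf 0x0) (.leaf 0xa0001)) (.node 70733 (.leaf 0x0) (.node 70734 (.leaf 0x1144c) (.leaf 0xe0001)))) (.node 70738 (.node 70736 (.leaf 0x0) (.node 70737 (.leaf 0xb0b0a0a0004) (.leaf 0x0)))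 (.node 70739 (.leaf 0x0) (.node 70740 (.leaf 0xb0a0a0003) (.leaf 0xf0b0b0a0004))))))

def argWS_6271 : Store := (.node 70752 (.node 70746 (.node 70743 (.node 70742 (.leaf 0x11454) (.leaf 0x902020804000006)) (.node 70744 (.leaf 0x0) (.node 70745 (.leaf 0xe0a0a0003) (.leaf 0x0)))) (.node 70749 (.node 70747 (.leaf 0xb0b0a0003) (.node 70748 (.leaf 0x0) (.leaf 0x0))) (.node 70750 (.leaf 0xa0f0b0b0004) (.node 70751 (.leaf 0xf0b0002) (.leaf 0xb0b0a0a0004))))) (.node 70758 (.node 70755 (.node 70753 (.leaf 0x1145f01145e) (.node 70754 (.leaf 0xa0f0b0003) (.leaf 0x0))) (.node 70756 (.leaf 0xb0a0a0003) (.node 70757 (.leaf 0x0) (.leaf 0x0)))) (.node 70761 (.node 70759 (.leaf 0xf0a0002) (.node 70760 (.leaf 0xa0a0002) (.leaf 0x11467))) (.node 70762 (.leaf 0xe0d0002) (.node 70763 (.leaf 0x0) (.leaf 0x1070908050202000701000a))))))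

def argWS_6272 : Store := (.node 70741 argWS_6270 argWS_6271)

def argWS_6273 : Store := (.node 70775 (.node 70769 (.node 70766 (.node 70765 (.leaf 0x0) (.leaf 0xe0a0002)) (.node 70767 (.leaf 0xf0b0b0003) (.node 70768 (.leaf 0xf0b0b0a0a0005) (.leaf 0xd0b0002)))) (.node 70772 (.node 70770 (.leaf 0x1147001146f) (.node 70771 (.leaf 0x0) (.leaf 0xb0a0a0003))) (.node 70773 (.leaf 0x0) (.node 70774 (.leaf 0x0) (.leaf 0xf0b0a0a0004))))) (.node 70780 (.node 70777 (.node 70776 (.leaf 0xf0b0a0a0004) (.leaf 0xf0b0002)) (.node 70778 (.leaf 0x11478011477) (.node 70779 (.leaf 0x301010904020006) (.leaf 0x0)))) (.node 70783 (.node 70781 (.leaf 0xf0b0a0003) (.node 70782 (.leaf 0x0) (.leaf 0xf0b0b0a0004))) (.node 70784 (.leaf 0x0) (.node 70785 (.leaf 0x0) (.leaf 0xb0f0002))))))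

def argWS_6274 : Store := (.node 70797 (.node 70791 (.node 70788 (.node 70787 (.leaf 0x60102020000030703040103000c) (.leaf 0x0)) (.node 70789 (.leaf 0xb0f0a0a0004) (.node 70790 (.leaf 0x0) (.leaf 0x11485011481)))) (.node 70794 (.node 70792 (.leaf 0xb0001) (.node 70793 (.leaf 0x0) (.leaf 0xa0f0002))) (.node 70795 (.leaf 0x0) (.node 70796 (.leaf 0x0) (.leaf 0xf0b0002))))) (.node 70803 (.node 70800 (.node 70798 (.leaf 0x6050106020702010802040105000d) (.node 70799 (.leaf 0x0) (.leaf 0xb0f0a0003))) (.node 70801 (.leaf 0x0) (.node 70802 (.leaf 0x11490002550) (.leaf 0xf0001)))) (.node 70806 (.node 70804 (.leaf 0x0) (.node 70805 (.leaf 0xb0b0a0a0004) (.leaf 0x0))) (.node 70807 (.leaf 0x0) (.node 70808 (.leaf 0xa0f0b0003) (.leaf 0xe0d0002))))))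

def argWS_6275 : Store := (.node 70786 argWS_6273 argWS_6274)

def argWS_6276 : Store := (.node 70764 argWS_6272 argWS_6275)

def argWS_6277 : Store := (.node 70820 (.node 70814 (.node 70811 (.node 70810 (.leaf 0xb0b0a0003) (.leaf 0x11499011498)) (.node 70812 (.leaf 0xf0001) (.node 70813 (.leaf 0x0) (.leaf 0xf0001)))) (.node 70817 (.node 70815 (.leaf 0x0) (.node 70816 (.leaf 0xf0b0b0003) (.leaf 0xb0a0002))) (.node 70818 (.leaf 0x114a001149f) (.node 70819 (.leaf 0xb0f0002) (.leaf 0x0))))) (.node 70825 (.node 70822 (.node 70821 (.leaf 0xe0a0002) (.leaf 0x0)) (.node 70823 (.leaf 0x0) (.node 70824 (.leaf 0x4000508020401050009) (.leaf 0x0)))) (.node 70828 (.node 70826 (.leaf 0xd0b0b0003) (.node 70827 (.leaf 0x0) (.leaf 0x10105020604000703040103000c))) (.node 70829 (.leaf 0x0) (.node 70830 (.leaf 0xe0d0002) (.leaf 0x0))))))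

def argWS_6278 : Store := (.node 70842 (.node 70836 (.node 70833 (.node 70832 (.leaf 0x8050000000300000008) (.leaf 0x0)) (.node 70834 (.leaf 0xb0f0a0a0004) (.node 70835 (.leaf 0x0) (.leaf 0x114b20114ae)))) (.node 70839 (.node 70837 (.leaf 0xb0f0a0a0004) (.node 70838 (.leaf 0x0) (.leaf 0x1040900090005))) (.node 70840 (.leaf 0x0) (.node 70841 (.leaf 0xa0f0b0b0004) (.leaf 0xb0b0002))))) (.node 70848 (.node 70845 (.node 70843 (.leaf 0x10903090000090802040105000c) (.node 70844 (.leaf 0x0) (.leaf 0xa0a0002))) (.node 70846 (.leaf 0x0) (.node 70847 (.leaf 0x114bd) (.leaf 0xf0b0b0003)))) (.node 70851 (.node 70849 (.leaf 0x0) (.node 70850 (.leaf 0xf0b0002) (.leaf 0x0))) (.node 70852 (.leaf 0x0) (.node 70853 (.leaf 0xf0a0a0003) (.leaf 0xe0d0002))))))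

def argWS_6279 : Store := (.node 70831 argWS_6277 argWS_6278)

def argWS_6280 : Store := (.node 70865 (.node 70859 (.node 70856 (.node 70855 (.leaf 0x204090806000006) (.leaf 0x0)) (.node 70857 (.leaf 0xf0001) (.node 70858 (.leaf 0x0) (.leaf 0x114c90114c5)))) (.node 70862 (.node 70860 (.leaf 0xd0b0002) (.node 70861 (.leaf 0x0) (.leaf 0xb0f0a0a0004))) (.node 70863 (.leaf 0x0) (.node 70864 (.leaf 0x0) (.leaf 0xf0b0b0a0004))))) (.node 70870 (.node 70867 (.node 70866 (.leaf 0xb0f0002) (.leaf 0x114d1)) (.node 70868 (.leaf 0xa0001) (.node 70869 (.leaf 0x0) (.leaf 0x3030901090005)))) (.node 70873 (.node 70871 (.leaf 0x0) (.node 70872 (.leaf 0xb0b0002) (.leaf 0xb0f0a0003))) (.node 70874 (.leaf 0xa0f0002) (.node 70875 (.leaf 0x8020002000003010202000701000d) (.leaf 0x0))))))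

def argWS_6281 : Store := (.node 70887 (.node 70881 (.node 70878 (.node 70877 (.leaf 0x0) (.leaf 0x114dc0114d9)) (.node 70879 (.leaf 0xb0b0002) (.node 70880 (.leaf 0x0) (.leaf 0xf0b0b0a0a0005)))) (.node 70884 (.node 70882 (.leaf 0x0) (.node 70883 (.leaf 0x0) (.leaf 0xf0a0a0003))) (.node 70885 (.leaf 0x80005020202010802040105000c) (.node 70886 (.leaf 0x0) (.leaf 0xd0b0002))))) (.node 70893 (.node 70890 (.node 70888 (.leaf 0x0) (.node 70889 (.leaf 0xd0b0b0003) (.leaf 0x114e80114e7))) (.node 70891 (.leaf 0xb0a0002) (.node 70892 (.leaf 0x0) (.leaf 0xf0b0002)))) (.node 70896 (.node 70894 (.leaf 0x0) (.node 70895 (.leaf 0x0) (.leaf 0x602010900090802040105000b))) (.node 70897 (.leaf 0x0) (.node 70898 (.leaf 0xf0001) (.leaf 0x0))))))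

def argWS_6282 : Store := (.node 70876 argWS_6280 argWS_6281)

def argWS_6283 : Store := (.node 70854 argWS_6279 argWS_6282)

def argWS_6284 : Store := (.node 70809 argWS_6276 argWS_6283)

def argWS_6285 : Store := (.node 70910 (.node 70904 (.node 70901 (.node 70900 (.leaf 0xb0b0a0003) (.leaf 0x114f3)) (.node 70902 (.leaf 0xb0f0a0003) (.node 70903 (.leaf 0x0) (.leaf 0x60102010908050202000701000c)))) (.node 70907 (.node 70905 (.leaf 0x0) (.node 70906 (.leaf 0xe0001) (.leaf 0xe0001))) (.node 70908 (.leaf 0xd0b0b0003) (.node 70909 (.leaf 0xe0a0002) (.leaf 0x114fc))))) (.node 70915 (.node 70912 (.node 70911 (.leaf 0xf0b0b0003) (.leaf 0x0)) (.node 70913 (.leaf 0xb0a0a0003) (.node 70914 (.leaf 0x0) (.leaf 0x0)))) (.node 70918 (.node 70916 (.leaf 0xb0b0a0a0004) (.node 70917 (.leaf 0x0) (.leaf 0x10903070009030007))) (.node 70919 (.leaf 0x0) (.node 70920 (.leaf 0xb0b0a0a0004) (.leaf 0x0))))))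

def argWS_6286 : Store := (.node 70932 (.node 70926 (.node 70923 (.node 70922 (.leaf 0x11508) (.leaf 0xf0a0a0003)) (.node 70924 (.leaf 0x0) (.node 70925 (.leaf 0x20109080600000703040103000c) (.leaf 0x0)))) (.node 70929 (.node 70927 (.leaf 0xe0001) (.node 70928 (.leaf 0xf0b0b0a0a0005) (.leaf 0xb0a0002))) (.node 70930 (.leaf 0x800020604000703040103000b) (.node 70931 (.leaf 0x0) (.leaf 0x0))))) (.node 70938 (.node 70935 (.node 70933 (.leaf 0x11513011510) (.node 70934 (.leaf 0xf0b0a0a0004) (.leaf 0x0))) (.node 70936 (.leaf 0x0) (.node 70937 (.leaf 0xf0b0002) (.leaf 0x902020007010007)))) (.node 70941 (.node 70939 (.leaf 0x0) (.node 70940 (.leaf 0xf0a0002) (.leaf 0x0))) (.node 70942 (.leaf 0x1151c0013a9) (.node 70943 (.leaf 0xb0a0f0003) (.leaf 0x0))))))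

def argWS_6287 : Store := (.node 70921 argWS_6285 argWS_6286)

def argWS_6288 : Store := (.node 70955 (.node 70949 (.node 70946 (.node 70945 (.leaf 0xd0b0002) (.leaf 0x0)) (.node 70947 (.leaf 0x0) (.node 70948 (.leaf 0xf0b0a0a0004) (.leaf 0xf0001)))) (.node 70952 (.node 70950 (.leaf 0x9030901090802040105000a) (.node 70951 (.leaf 0x0) (.leaf 0xf0a0002))) (.node 70953 (.leaf 0x0) (.node 70954 (.leaf 0x11528011524) (.leaf 0xd0001))))) (.node 70960 (.node 70957 (.node 70956 (.leaf 0x0) (.leaf 0x2050200000300000802040105000d)) (.node 70958 (.leaf 0x0) (.node 70959 (.leaf 0xa0001) (.leaf 0xa0f0002)))) (.node 70963 (.node 70961 (.leaf 0x1152f) (.node 70962 (.leaf 0xd0001) (.leaf 0x0))) (.node 70964 (.leaf 0xe0a0002) (.node 70965 (.leaf 0x0) (.leaf 0x0))))))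

def argWS_6289 : Store := (.node 70977 (.node 70971 (.node 70968 (.node 70967 (.leaf 0x602090000090202000701000b) (.leaf 0x0)) (.node 70969 (.leaf 0xb0f0a0a0004) (.node 70970 (.leaf 0x0) (.leaf 0x60301070009030802040105000c)))) (.node 70974 (.node 70972 (.leaf 0x0) (.node 70973 (.leaf 0xe0a0a0003) (.leaf 0x0))) (.node 70975 (.leaf 0xb0f0002) (.node 70976 (.leaf 0x1153e01153d) (.leaf 0xb0f0002))))) (.node 70983 (.node 70980 (.node 70978 (.leaf 0x0) (.node 70979 (.leaf 0xe0001) (.leaf 0x0))) (.node 70981 (.leaf 0x0) (.node 70982 (.leaf 0xb0f0a0a0004) (.leaf 0x0)))) (.node 70986 (.node 70984 (.leaf 0xf0b0a0a0004) (.node 70985 (.leaf 0xe0001) (.leaf 0x11548011547))) (.node 70987 (.leaf 0xe0a0a0003) (.node 70988 (.leaf 0x0) (.leaf 0xa0001))))))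

def argWS_6290 : Store := (.node 70966 argWS_6288 argWS_6289)

def argWS_6291 : Store := (.node 70944 argWS_6287 argWS_6290)

def argWS_6292 : Store := (.node 71000 (.node 70994 (.node 70991 (.node 70990 (.leaf 0x0) (.leaf 0x0)) (.node 70992 (.leaf 0xb0a0002) (.node 70993 (.leaf 0x102010301010200000703040103000e) (.leaf 0x0)))) (.node 70997 (.node 70995 (.leaf 0xd0b0b0003) (.node 70996 (.leaf 0x0) (.leaf 0xa0f0002))) (.node 70998 (.leaf 0x11554011553) (.node 70999 (.leaf 0xd0b0b0003) (.leaf 0x0))))) (.node 71005 (.node 71002 (.node 71001 (.leaf 0xa0f0b0b0004) (.leaf 0x0)) (.node 71003 (.leaf 0x0) (.node 71004 (.leaf 0xa0001) (.leaf 0x10202020901060202000701000c)))) (.node 71008 (.node 71006 (.leaf 0x0) (.node 71007 (.leaf 0xe0a0a0003) (.leaf 0x0))) (.node 71009 (.leaf 0x4040900090802040105000a) (.node 71010 (.leaf 0x0) (.leaf 0xf0a0a0003))))))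

def argWS_6293 : Store := (.node 71022 (.node 71016 (.node 71013 (.node 71012 (.leaf 0x0) (.leaf 0x1156301155f)) (.node 71014 (.leaf 0xf0a0a0003) (.node 71015 (.leaf 0x0) (.leaf 0xf0b0b0a0004)))) (.node 71019 (.node 71017 (.leaf 0x0) (.node 71018 (.leaf 0x0) (.leaf 0xb0b0a0003))) (.node 71020 (.leaf 0x406020702010802040105000b) (.node 71021 (.leaf 0x0) (.leaf 0x0))))) (.node 71028 (.node 71025 (.node 71023 (.leaf 0xe0a0a0003) (.node 71024 (.leaf 0x1156e01156d) (.leaf 0xf0b0b0a0004))) (.node 71026 (.leaf 0x0) (.node 71027 (.leaf 0xf0b0b0a0004) (.leaf 0x0)))) (.node 71031 (.node 71029 (.leaf 0x0) (.node 71030 (.leaf 0xf0b0a0a0004) (.leaf 0xb0001))) (.node 71032 (.leaf 0x903000002080400000703040103000e) (.node 71033 (.leaf 0x0) (.leaf 0xb0a0002))))))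

def argWS_6294 : Store := (.node 71011 argWS_6292 argWS_6293)

def argWS_6295 : Store := (.node 71045 (.node 71039 (.node 71036 (.node 71035 (.leaf 0x0) (.leaf 0x1157a011576)) (.node 71037 (.leaf 0xe0001) (.node 71038 (.leaf 0x0) (.leaf 0xb0f0a0003)))) (.node 71042 (.node 71040 (.leaf 0x0) (.node 71041 (.leaf 0x0) (.leaf 0xb0a0002))) (.node 71043 (.leaf 0x900020804000802040105000b) (.node 71044 (.leaf 0x0) (.leaf 0xd0001))))) (.node 71050 (.node 71047 (.node 71046 (.leaf 0x0) (.leaf 0x11585)) (.node 71048 (.leaf 0xa0a0002) (.node 71049 (.leaf 0x0) (.leaf 0xb0001)))) (.node 71053 (.node 71051 (.leaf 0x0) (.node 71052 (.leaf 0x0) (.leaf 0xd0b0002))) (.node 71054 (.leaf 0xe0a0a0003) (.node 71055 (.leaf 0xa0001) (.leaf 0x1158e01158d))))))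

def argWS_6296 : Store := (.node 71067 (.node 71061 (.node 71058 (.node 71057 (.leaf 0xb0b0002) (.leaf 0x0)) (.node 71059 (.leaf 0xf0a0002) (.node 71060 (.leaf 0x0) (.leaf 0x0)))) (.node 71064 (.node 71062 (.leaf 0xe0a0a0003) (.node 71063 (.leaf 0xb0f0a0003) (.leaf 0xb0b0002))) (.node 71065 (.leaf 0x11597011596) (.node 71066 (.leaf 0xe0001) (.leaf 0x0))))) (.node 71073 (.node 71070 (.node 71068 (.leaf 0xb0f0002) (.node 71069 (.leaf 0x0) (.leaf 0x0))) (.node 71071 (.leaf 0xa0f0b0b0004) (.node 71072 (.leaf 0x303060207020703040103000b) (.leaf 0x0)))) (.node 71076 (.node 71074 (.leaf 0xb0b0a0a0004) (.node 71075 (.leaf 0x0) (.leaf 0x115a201159e))) (.node 71077 (.leaf 0xf0b0b0a0a0005) (.node 71078 (.leaf 0x0) (.leaf 0xd0b0b0003))))))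

def argWS_6297 : Store := (.node 71056 argWS_6295 argWS_6296)

def argWS_6298 : Store := (.node 71034 argWS_6294 argWS_6297)

def argWS_6299 : Store := (.node 70989 argWS_6291 argWS_6298)

def argWS_6300 : Store := (.node 70899 argWS_6284 argWS_6299)

def argWS_6301 : Store := (.node 71090 (.node 71084 (.node 71081 (.node 71080 (.leaf 0x0) (.leaf 0x0)) (.node 71082 (.leaf 0xf0b0b0a0a0005) (.node 71083 (.leaf 0xb0b0a0a0004) (.leaf 0x115aa00a508)))) (.node 71087 (.node 71085 (.leaf 0xb0a0002) (.node 71086 (.leaf 0x0) (.leaf 0xd0b0b0003))) (.node 71088 (.leaf 0x0) (.node 71089 (.leaf 0x0) (.leaf 0xb0a0a0003))))) (.node 71095 (.node 71092 (.node 71091 (.leaf 0xf0b0b0a0004) (.leaf 0x115b2)) (.node 71093 (.leaf 0xb0b0002) (.node 71094 (.leaf 0x0) (.leaf 0xf0a0a0003)))) (.node 71098 (.node 71096 (.leaf 0x0) (.node 71097 (.leaf 0x0) (.leaf 0xa0f0b0b0004))) (.node 71099 (.leaf 0xf0a0a0003) (.node 71100 (.leaf 0x115ba) (.leaf 0x602010908050006))))))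

def argWS_6302 : Store := (.node 71112 (.node 71106 (.node 71103 (.node 71102 (.leaf 0x0) (.leaf 0xf0b0a0a0004)) (.node 71104 (.leaf 0x0) (.node 71105 (.leaf 0xa0f0b0003) (.leaf 0x0)))) (.node 71109 (.node 71107 (.leaf 0x0) (.node 71108 (.leaf 0x602000408010802040105000b) (.leaf 0x0))) (.node 71110 (.leaf 0xa0f0b0003) (.node 71111 (.leaf 0x0) (.leaf 0x115c6))))) (.node 71118 (.node 71115 (.node 71113 (.leaf 0xa0001) (.node 71114 (.leaf 0x0) (.leaf 0xb0a0a0003))) (.node 71116 (.leaf 0x0) (.node 71117 (.leaf 0x0) (.leaf 0x7030509080600000703040103000d)))) (.node 71121 (.node 71119 (.leaf 0x0) (.node 71120 (.leaf 0xd0001) (.leaf 0x0))) (.node 71122 (.leaf 0xf0001) (.node 71123 (.leaf 0xf0001) (.leaf 0x115d20115d1))))))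

def argWS_6303 : Store := (.node 71101 argWS_6301 argWS_6302)

def argWS_6304 : Store := (.node 71135 (.node 71129 (.node 71126 (.node 71125 (.leaf 0xf0a0002) (.leaf 0x0)) (.node 71127 (.leaf 0x50107000903000703040103000c) (.node 71128 (.leaf 0x0) (.leaf 0xa0f0b0b0004)))) (.node 71132 (.node 71130 (.leaf 0xb0f0a0003) (.node 71131 (.leaf 0xf0b0b0a0004) (.leaf 0x605010603050004000703040103000e))) (.node 71133 (.leaf 0x0) (.node 71134 (.leaf 0xb0b0002) (.leaf 0x0))))) (.node 71140 (.node 71137 (.node 71136 (.leaf 0x5020007030401030008) (.leaf 0x0)) (.node 71138 (.leaf 0xe0a0a0003) (.node 71139 (.leaf 0x0) (.leaf 0x115e20115de)))) (.node 71143 (.node 71141 (.leaf 0xf0b0002) (.node 71142 (.leaf 0x0) (.leaf 0xe0a0002))) (.node 71144 (.leaf 0x0) (.node 71145 (.leaf 0x0) (.leaf 0xd0b0b0003))))))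

def argWS_6305 : Store := (.node 71157 (.node 71151 (.node 71148 (.node 71147 (.leaf 0x605010900090802040105000b) (.leaf 0x0)) (.node 71149 (.leaf 0xf0001) (.node 71150 (.leaf 0x0) (.leaf 0x40300070206000802040105000c)))) (.node 71154 (.node 71152 (.leaf 0x0) (.node 71153 (.leaf 0xa0a0002) (.leaf 0x0))) (.node 71155 (.leaf 0x115f10115ed) (.node 71156 (.leaf 0xb0f0a0a0004) (.leaf 0x0))))) (.node 71163 (.node 71160 (.node 71158 (.leaf 0xe0001) (.node 71159 (.leaf 0x0) (.leaf 0x0))) (.node 71161 (.leaf 0x90104090000090007) (.node 71162 (.leaf 0x0) (.leaf 0xf0b0b0003)))) (.node 71166 (.node 71164 (.leaf 0x0) (.node 71165 (.leaf 0xe0a0002) (.leaf 0xa0f0002))) (.node 71167 (.leaf 0x115fd0115fc) (.node 71168 (.leaf 0xb0b0002) (.leaf 0x0))))))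

def argWS_6306 : Store := (.node 71146 argWS_6304 argWS_6305)

def argWS_6307 : Store := (.node 71124 argWS_6303 argWS_6306)

def argWS_6308 : Store := (.node 71180 (.node 71174 (.node 71171 (.node 71170 (.leaf 0xe0001) (.leaf 0x0)) (.node 71172 (.leaf 0x0) (.node 71173 (.leaf 0x902000300000006) (.leaf 0x0)))) (.node 71177 (.node 71175 (.leaf 0xb0a0a0003) (.node 71176 (.leaf 0x0) (.leaf 0xb0f0a0003))) (.node 71178 (.leaf 0x11608) (.node 71179 (.leaf 0xf0b0002) (.leaf 0x0))))) (.node 71185 (.node 71182 (.node 71181 (.leaf 0xf0b0b0a0a0005) (.leaf 0x0)) (.node 71183 (.leaf 0x0) (.node 71184 (.leaf 0xd0b0b0003) (.leaf 0xf0a0002)))) (.node 71188 (.node 71186 (.leaf 0x11610009e2c) (.node 71187 (.leaf 0xb0b0a0a0004) (.leaf 0x0))) (.node 71189 (.leaf 0xf0b0a0003) (.node 71190 (.leaf 0x0) (.leaf 0x0))))))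

def argWS_6309 : Store := (.node 71202 (.node 71196 (.node 71193 (.node 71192 (.leaf 0x20003010102000007) (.leaf 0x0)) (.node 71194 (.leaf 0xf0b0b0003) (.node 71195 (.leaf 0x0) (.leaf 0xb0f0a0003)))) (.node 71199 (.node 71197 (.leaf 0x800000207030802040105000b) (.node 71198 (.leaf 0x0) (.leaf 0xb0f0a0a0004))) (.node 71200 (.leaf 0x0) (.node 71201 (.leaf 0x1161f01161b) (.leaf 0xf0b0b0a0004))))) (.node 71208 (.node 71205 (.node 71203 (.leaf 0x0) (.node 71204 (.leaf 0xa0001) (.leaf 0x0))) (.node 71206 (.leaf 0x0) (.node 71207 (.leaf 0xb0f0a0003) (.leaf 0xf0b0b0003)))) (.node 71211 (.node 71209 (.leaf 0x1090306010500020202000701000d) (.node 71210 (.leaf 0x0) (.leaf 0xa0a0002))) (.node 71212 (.leaf 0x0) (.node 71213 (.leaf 0x1162b011627) (.leaf 0xb0b0a0a0004))))))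

def argWS_6310 : Store := (.node 71191 argWS_6308 argWS_6309)

def argWS_6311 : Store := (.node 71225 (.node 71219 (.node 71216 (.node 71215 (.leaf 0x0) (.leaf 0xb0a0f0003)) (.node 71217 (.leaf 0x0) (.node 71218 (.leaf 0x0) (.leaf 0xd0b0002)))) (.node 71222 (.node 71220 (.leaf 0x107000900090006) (.node 71221 (.leaf 0x0) (.leaf 0xa0f0b0b0004))) (.node 71223 (.leaf 0x0) (.node 71224 (.leaf 0x11636) (.leaf 0x0))))) (.node 71230 (.node 71227 (.node 71226 (.leaf 0xa0001) (.leaf 0x0)) (.node 71228 (.leaf 0x0) (.node 71229 (.leaf 0xb0a0f0003) (.leaf 0xb0a0002)))) (.node 71233 (.node 71231 (.leaf 0x1163d) (.node 71232 (.leaf 0xa0f0002) (.leaf 0x0))) (.node 71234 (.leaf 0xd0b0002) (.node 71235 (.leaf 0x0) (.leaf 0x0))))))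

def argWS_6312 : Store := (.node 71247 (.node 71241 (.node 71238 (.node 71237 (.leaf 0xe0a0a0003) (.leaf 0x7010900090005)) (.node 71239 (.leaf 0x0) (.node 71240 (.leaf 0xb0b0a0a0004) (.leaf 0x0)))) (.node 71244 (.node 71242 (.leaf 0x20403000408010202000701000c) (.node 71243 (.leaf 0x0) (.leaf 0xe0d0002))) (.node 71245 (.leaf 0x0) (.node 71246 (.leaf 0x1164c011648) (.leaf 0xa0f0002))))) (.node 71253 (.node 71250 (.node 71248 (.leaf 0x0) (.node 71249 (.leaf 0xf0a0002) (.leaf 0x0))) (.node 71251 (.leaf 0x0) (.node 71252 (.leaf 0xd0b0002) (.leaf 0x502000400050202000701000b)))) (.node 71256 (.node 71254 (.leaf 0x0) (.node 71255 (.leaf 0xb0b0a0003) (.leaf 0x0))) (.node 71257 (.leaf 0x11564011657) (.node 71258 (.leaf 0xf0a0002) (.leaf 0x0))))))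

def argWS_6313 : Store := (.node 71236 argWS_6311 argWS_6312)

def argWS_6314 : Store := (.node 71214 argWS_6310 argWS_6313)

def argWS_6315 : Store := (.node 71169 argWS_6307 argWS_6314)

def argWS_6316 : Store := (.node 71270 (.node 71264 (.node 71261 (.node 71260 (.leaf 0xa0f0002) (.leaf 0x0)) (.node 71262 (.leaf 0x0) (.node 71263 (.leaf 0xb0f0a0a0004) (.leaf 0xa0f0002)))) (.node 71267 (.node 71265 (.leaf 0x6020702010802040105000b) (.node 71266 (.leaf 0x0) (.leaf 0xb0b0a0003))) (.node 71268 (.leaf 0x0) (.node 71269 (.leaf 0x1166301165f) (.leaf 0x50000050206040802040105000c))))) (.node 71275 (.node 71272 (.node 71271 (.leaf 0x0) (.leaf 0xb0f0a0003)) (.node 71273 (.leaf 0x0) (.node 71274 (.leaf 0xd0001) (.leaf 0x0)))) (.node 71278 (.node 71276 (.leaf 0x0) (.node 71277 (.leaf 0xf0001) (.leaf 0x2060103080202000701000a))) (.node 71279 (.leaf 0x0) (.node 71280 (.leaf 0xa0f0b0b0004) (.leaf 0x0))))))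

def argWS_6317 : Store := (.node 71292 (.node 71286 (.node 71283 (.node 71282 (.leaf 0xd0b0b0003) (.leaf 0x11671011670)) (.node 71284 (.leaf 0xa0a0002) (.node 71285 (.leaf 0x0) (.leaf 0xf0001)))) (.node 71289 (.node 71287 (.leaf 0x0) (.node 71288 (.leaf 0x0) (.leaf 0xf0b0b0a0004))) (.node 71290 (.leaf 0x70206000202000701000b) (.node 71291 (.leaf 0x0) (.leaf 0xa0f0002))))) (.node 71298 (.node 71295 (.node 71293 (.leaf 0x0) (.node 71294 (.leaf 0xa0f0b0b0004) (.leaf 0x1167d01167c))) (.node 71296 (.leaf 0xb0a0a0003) (.node 71297 (.leaf 0x0) (.leaf 0xb0a0a0003)))) (.node 71301 (.node 71299 (.leaf 0x0) (.node 71300 (.leaf 0xf0b0b0a0004) (.leaf 0xb0f0002))) (.node 71302 (.leaf 0x309010602020007010009) (.node 71303 (.leaf 0x0) (.leaf 0xf0001))))))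

def argWS_6318 : Store := (.node 71281 argWS_6316 argWS_6317)

def argWS_6319 : Store := (.node 71315 (.node 71309 (.node 71306 (.node 71305 (.leaf 0x0) (.leaf 0x11688011684)) (.node 71307 (.leaf 0xd0b0b0003) (.node 71308 (.leaf 0x0) (.leaf 0xa0f0b0003)))) (.node 71312 (.node 71310 (.leaf 0x0) (.node 71311 (.leaf 0x0) (.leaf 0xa0f0002))) (.node 71313 (.leaf 0x40403010102000802040105000c) (.node 71314 (.leaf 0x0) (.leaf 0xf0001))))) (.node 71320 (.node 71317 (.node 71316 (.leaf 0x0) (.leaf 0xf0b0a0003)) (.node 71318 (.leaf 0x11694011693) (.node 71319 (.leaf 0xb0a0f0003) (.leaf 0x0)))) (.node 71323 (.node 71321 (.leaf 0xf0b0b0a0a0005) (.node 71322 (.leaf 0x0) (.leaf 0x0))) (.node 71324 (.leaf 0xf0001) (.node 71325 (.leaf 0x8000206040005) (.leaf 0x0))))))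

def argWS_6320 : Store := (.node 71337 (.node 71331 (.node 71328 (.node 71327 (.leaf 0xb0a0002) (.leaf 0x0)) (.node 71329 (.leaf 0xf0001) (.node 71330 (.leaf 0x116a001169f) (.leaf 0xb0001)))) (.node 71334 (.node 71332 (.leaf 0x0) (.node 71333 (.leaf 0xe0d0002) (.leaf 0x0))) (.node 71335 (.leaf 0x0) (.node 71336 (.leaf 0xe0001) (.leaf 0x70206030500040202000701000c))))) (.node 71343 (.node 71340 (.node 71338 (.leaf 0x0) (.node 71339 (.leaf 0xa0f0002) (.leaf 0x0))) (.node 71341 (.leaf 0x116ab) (.node 71342 (.leaf 0x0) (.leaf 0xe0d0002)))) (.node 71346 (.node 71344 (.leaf 0x0) (.node 71345 (.leaf 0xd0001) (.leaf 0x0))) (.node 71347 (.leaf 0xe0a0a0003) (.node 71348 (.leaf 0x9d4d) (.leaf 0xb0a0002))))))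

def argWS_6321 : Store := (.node 71326 argWS_6319 argWS_6320)

def argWS_6322 : Store := (.node 71304 argWS_6318 argWS_6321)

def argWS_6323 : Store := (.node 71360 (.node 71354 (.node 71351 (.node 71350 (.leaf 0x0) (.leaf 0xb0f0a0003)) (.node 71352 (.leaf 0x0) (.node 71353 (.leaf 0x0) (.leaf 0xa0a0002)))) (.node 71357 (.node 71355 (.leaf 0xa0f0002) (.node 71356 (.leaf 0x40305020202010202000701000c) (.leaf 0x0))) (.node 71358 (.leaf 0x0) (.node 71359 (.leaf 0x116bd0116ba) (.leaf 0xb0001))))) (.node 71365 (.node 71362 (.node 71361 (.leaf 0x0) (.leaf 0xb0a0f0003)) (.node 71363 (.leaf 0x0) (.node 71364 (.leaf 0x0) (.leaf 0xb0b0002)))) (.node 71368 (.node 71366 (.leaf 0xf0b0002) (.node 71367 (.leaf 0xe0001) (.leaf 0x116c60116c5))) (.node 71369 (.leaf 0x202000000030000000703040103000e) (.node 71370 (.leaf 0x0) (.leaf 0xa0f0002))))))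

def argWS_6324 : Store := (.node 71382 (.node 71376 (.node 71373 (.node 71372 (.leaf 0x0) (.leaf 0xf0b0b0003)) (.node 71374 (.leaf 0x0) (.node 71375 (.leaf 0x0) (.leaf 0x1020207020600000703040103000d)))) (.node 71379 (.node 71377 (.leaf 0x0) (.node 71378 (.leaf 0xb0a0a0003) (.leaf 0x0))) (.node 71380 (.leaf 0xf0b0a0003) (.node 71381 (.leaf 0x116d30116d2) (.leaf 0xd0001))))) (.node 71388 (.node 71385 (.node 71383 (.leaf 0x0) (.node 71384 (.leaf 0xb0b0002) (.leaf 0x0))) (.node 71386 (.leaf 0x0) (.node 71387 (.leaf 0xa0001) (.leaf 0x602000202090000000703040103000e)))) (.node 71391 (.node 71389 (.leaf 0x0) (.node 71390 (.leaf 0x0) (.leaf 0xe0a0a0003))) (.node 71392 (.leaf 0x116de0116dd) (.node 71393 (.leaf 0xb0f0a0003) (.leaf 0x0))))))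

def argWS_6325 : Store := (.node 71371 argWS_6323 argWS_6324)

def argWS_6326 : Store := (.node 71405 (.node 71399 (.node 71396 (.node 71395 (.leaf 0xd0b0002) (.leaf 0x0)) (.node 71397 (.leaf 0x0) (.node 71398 (.leaf 0xb0a0a0003) (.leaf 0xd0b0b0003)))) (.node 71402 (.node 71400 (.leaf 0xe0a0a0003) (.node 71401 (.leaf 0x116e70116e6) (.leaf 0x30406030500040202000701000c))) (.node 71403 (.leaf 0x0) (.node 71404 (.leaf 0xf0b0b0003) (.leaf 0x0))))) (.node 71411 (.node 71408 (.node 71406 (.leaf 0xa0a0002) (.node 71407 (.leaf 0x0) (.leaf 0x0))) (.node 71409 (.leaf 0xf0b0b0003) (.node 71410 (.leaf 0x605020000030703040103000b) (.leaf 0x0)))) (.node 71414 (.node 71412 (.leaf 0xa0f0b0003) (.node 71413 (.leaf 0x0) (.leaf 0x582c0116f4))) (.node 71415 (.leaf 0x70406010500020802040105000c) (.node 71416 (.leaf 0x0) (.leaf 0xb0a0a0003))))))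

def argWS_6327 : Store := (.node 71428 (.node 71422 (.node 71419 (.node 71418 (.leaf 0x0) (.leaf 0xb0b0a0003)) (.node 71420 (.leaf 0x0) (.node 71421 (.leaf 0x0) (.leaf 0x205020000030703040103000b)))) (.node 71425 (.node 71423 (.leaf 0x0) (.node 71424 (.leaf 0xd0b0002) (.leaf 0x0))) (.node 71426 (.leaf 0xf0a0002) (.node 71427 (.leaf 0xb0b0a0003) (.leaf 0x11702011701))))) (.node 71434 (.node 71431 (.node 71429 (.leaf 0xd0b0b0003) (.node 71430 (.leaf 0x0) (.leaf 0x6000002080400000703040103000d))) (.node 71432 (.leaf 0x0) (.node 71433 (.leaf 0xb0b0002) (.leaf 0xb0a0f0003)))) (.node 71437 (.node 71435 (.leaf 0xf0b0b0003) (.node 71436 (.leaf 0x1170a00fafa) (.leaf 0x406030500040007))) (.node 71438 (.leaf 0x0) (.node 71439 (.leaf 0xa0f0002) (.leaf 0x0))))))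

def argWS_6328 : Store := (.node 71417 argWS_6326 argWS_6327)

def argWS_6329 : Store := (.node 71394 argWS_6325 argWS_6328)

def argWS_6330 : Store := (.node 71349 argWS_6322 argWS_6329)

def argWS_6331 : Store := (.node 71259 argWS_6315 argWS_6330)

def argWS_6332 : Store := (.node 71079 argWS_6300 argWS_6331)

def argWS_6333 : Store := (.node 71451 (.node 71445 (.node 71442 (.node 71441 (.leaf 0xb0b0a0a0004) (.leaf 0x0)) (.node 71443 (.leaf 0x0) (.node 71444 (.leaf 0x60007020902000703040103000c) (.leaf 0x0)))) (.node 71448 (.node 71446 (.leaf 0xd0b0002) (.node 71447 (.leaf 0x0) (.leaf 0x40304070206000202000701000c))) (.node 71449 (.leaf 0x0) (.node 71450 (.leaf 0xa0f0002) (.leaf 0x0))))) (.node 71456 (.node 71453 (.node 71452 (.leaf 0x1171a011716) (.leaf 0xf0b0002)) (.node 71454 (.leaf 0x0) (.node 71455 (.leaf 0xe0a0a0003) (.leaf 0x0)))) (.node 71459 (.node 71457 (.leaf 0x0) (.node 71458 (.leaf 0x60201020901060802040105000c) (.leaf 0x0))) (.node 71460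 (.leaf 0xe0a0a0003) (.node 71461 (.leaf 0x0) (.leaf 0xe0001))))))

def argWS_6334 : Store := (.node 71473 (.node 71467 (.node 71464 (.node 71463 (.leaf 0xb0a0a0003) (.leaf 0x11726011725)) (.node 71465 (.leaf 0xf0b0a0a0004) (.node 71466 (.leaf 0x0) (.leaf 0xb0f0a0a0004)))) (.node 71470 (.node 71468 (.leaf 0x0) (.node 71469 (.leaf 0xb0a0f0003) (.leaf 0xf0b0002))) (.node 71471 (.leaf 0x1172d00e9f9) (.node 71472 (.leaf 0xf0b0b0a0004) (.leaf 0x0))))) (.node 71479 (.node 71476 (.node 71474 (.leaf 0x7010106010500020202000701000d) (.node 71475 (.leaf 0x0) (.leaf 0xb0f0002))) (.node 71477 (.leaf 0xb0001) (.node 71478 (.leaf 0xf0b0b0003) (.leaf 0x202000603050004000703040103000e)))) (.node 71482 (.node 71480 (.leaf 0x0) (.node 71481 (.leaf 0xf0b0b0a0a0005) (.leaf 0x0))) (.node 71483 (.leaf 0x11739011735) (.node 71484 (.leaf 0xe0d0002) (.leaf 0x0))))))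

def argWS_6335 : Store := (.node 71462 argWS_6333 argWS_6334)

def argWS_6336 : Store := (.node 71496 (.node 71490 (.node 71487 (.node 71486 (.leaf 0xe0d0002) (.leaf 0x0)) (.node 71488 (.leaf 0x0) (.node 71489 (.leaf 0xf0001) (.leaf 0x30700070009030802040105000c)))) (.node 71493 (.node 71491 (.leaf 0x0) (.node 71492 (.leaf 0xf0a0a0003) (.leaf 0x0))) (.node 71494 (.leaf 0x11744) (.node 71495 (.leaf 0xf0001) (.leaf 0x0))))) (.node 71501 (.node 71498 (.node 71497 (.leaf 0xb0001) (.leaf 0x0)) (.node 71499 (.leaf 0x0) (.node 71500 (.leaf 0xa0a0002) (.leaf 0xb0a0002)))) (.node 71504 (.node 71502 (.leaf 0xf0b0a0003) (.node 71503 (.leaf 0x1174d01174c) (.leaf 0x40109000009000703040103000c))) (.node 71505 (.leaf 0x0) (.node 71506 (.leaf 0xf0a0002) (.leaf 0x0))))))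

def argWS_6337 : Store := (.node 71518 (.node 71512 (.node 71509 (.node 71508 (.leaf 0xa0f0002) (.leaf 0x0)) (.node 71510 (.leaf 0x0) (.node 71511 (.leaf 0xb0a0002) (.leaf 0x8020000090206020008)))) (.node 71515 (.node 71513 (.leaf 0x0) (.node 71514 (.leaf 0xa0f0002) (.leaf 0x0))) (.node 71516 (.leaf 0x1175a011756) (.node 71517 (.leaf 0xa0f0b0003) (.leaf 0x0))))) (.node 71524 (.node 71521 (.node 71519 (.leaf 0x0) (.node 71520 (.leaf 0xf0a0002) (.leaf 0xf0b0b0003))) (.node 71522 (.leaf 0x3040003030604000703040103000d) (.node 71523 (.leaf 0x0) (.leaf 0xf0b0b0a0004)))) (.node 71527 (.node 71525 (.leaf 0x0) (.node 71526 (.leaf 0x11764) (.leaf 0xb0a0002))) (.node 71528 (.leaf 0x0) (.node 71529 (.leaf 0xf0b0b0003) (.leaf 0x0))))))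

def argWS_6338 : Store := (.node 71507 argWS_6336 argWS_6337)

def argWS_6339 : Store := (.node 71485 argWS_6335 argWS_6338)

def argWS_6340 : Store := (.node 71541 (.node 71535 (.node 71532 (.node 71531 (.leaf 0x0) (.leaf 0x10300020106060007)) (.node 71533 (.leaf 0x0) (.node 71534 (.leaf 0xd0b0002) (.leaf 0x0)))) (.node 71538 (.node 71536 (.leaf 0xf0001) (.node 71537 (.leaf 0x1176f) (.leaf 0xd0b0b0003))) (.node 71539 (.leaf 0x0) (.node 71540 (.leaf 0x3040007030401030008) (.leaf 0x0))))) (.node 71546 (.node 71543 (.node 71542 (.leaf 0xb0f0002) (.leaf 0xf0001)) (.node 71544 (.leaf 0xb0a0f0003) (.node 71545 (.leaf 0x11777) (.leaf 0xf0b0a0a0004)))) (.node 71549 (.node 71547 (.leaf 0x0) (.node 71548 (.leaf 0xd0b0002) (.leaf 0x0))) (.node 71550 (.leaf 0x0) (.node 71551 (.leaf 0xb0f0002) (.leaf 0xf0b0002))))))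

def argWS_6341 : Store := (.node 71563 (.node 71557 (.node 71554 (.node 71553 (.leaf 0x1177f) (.leaf 0xf0b0b0a0a0005)) (.node 71555 (.leaf 0x0) (.node 71556 (.leaf 0xb0f0002) (.leaf 0x0)))) (.node 71560 (.node 71558 (.leaf 0x0) (.node 71559 (.leaf 0xf0a0a0003) (.leaf 0xf0a0002))) (.node 71561 (.leaf 0x2000400050005) (.node 71562 (.leaf 0x0) (.leaf 0xa0f0002))))) (.node 71569 (.node 71566 (.node 71564 (.leaf 0x0) (.node 71565 (.leaf 0x1178b011787) (.leaf 0xd0b0b0003))) (.node 71567 (.leaf 0x0) (.node 71568 (.leaf 0xa0f0b0b0004) (.leaf 0x0)))) (.node 71572 (.node 71570 (.leaf 0x0) (.node 71571 (.leaf 0x201020900000006) (.leaf 0x0))) (.node 71573 (.leaf 0xe0a0a0003) (.node 71574 (.leaf 0x0) (.leaf 0x20109080600000703040103000c))))))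

def argWS_6342 : Store := (.node 71552 argWS_6340 argWS_6341)

def argWS_6343 : Store := (.node 71586 (.node 71580 (.node 71577 (.node 71576 (.leaf 0x0) (.leaf 0xb0001)) (.node 71578 (.leaf 0x0) (.node 71579 (.leaf 0x10f6e011799) (.leaf 0xd0b0002)))) (.node 71583 (.node 71581 (.leaf 0x0) (.node 71582 (.leaf 0xf0001) (.leaf 0x0))) (.node 71584 (.leaf 0x0) (.node 71585 (.leaf 0xb0a0f0003) (.leaf 0xb0f0a0a0004))))) (.node 71591 (.node 71588 (.node 71587 (.leaf 0x22760117a1) (.leaf 0x307010703060202000701000b)) (.node 71589 (.leaf 0x0) (.node 71590 (.leaf 0xd0b0b0003) (.leaf 0x0)))) (.node 71594 (.node 71592 (.leaf 0xa0a0002) (.node 71593 (.leaf 0x0) (.leaf 0x0))) (.node 71595 (.leaf 0x50200020901060802040105000c) (.node 71596 (.leaf 0x0) (.leaf 0xd0001))))))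

def argWS_6344 : Store := (.node 71608 (.node 71602 (.node 71599 (.node 71598 (.leaf 0x0) (.leaf 0x4000407000903000703040103000d)) (.node 71600 (.leaf 0x0) (.node 71601 (.leaf 0xf0a0a0003) (.leaf 0x0)))) (.node 71605 (.node 71603 (.leaf 0x117b10117ad) (.node 71604 (.leaf 0xf0b0002) (.leaf 0x0))) (.node 71606 (.leaf 0xf0b0b0003) (.node 71607 (.leaf 0x0) (.leaf 0x0))))) (.node 71614 (.node 71611 (.node 71609 (.leaf 0x50006020702010802040105000c) (.node 71610 (.leaf 0x0) (.leaf 0xb0f0a0a0004))) (.node 71612 (.leaf 0x0) (.node 71613 (.leaf 0x10700020603000703040103000c) (.leaf 0x0)))) (.node 71617 (.node 71615 (.leaf 0xb0a0f0003) (.node 71616 (.leaf 0x0) (.leaf 0xb0a0002))) (.node 71618 (.leaf 0x117c00117bf) (.node 71619 (.leaf 0xe0a0002) (.leaf 0x0))))))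

def argWS_6345 : Store := (.node 71597 argWS_6343 argWS_6344)

def argWS_6346 : Store := (.node 71575 argWS_6342 argWS_6345)

def argWS_6347 : Store := (.node 71530 argWS_6339 argWS_6346)

def argWS_6348 : Store := (.node 71631 (.node 71625 (.node 71622 (.node 71621 (.leaf 0xb0001) (.leaf 0x0)) (.node 71623 (.leaf 0x0) (.node 71624 (.leaf 0x2060901090005) (.leaf 0x0)))) (.node 71628 (.node 71626 (.leaf 0xe0001) (.node 71627 (.leaf 0x0) (.leaf 0x5010900090202000701000a))) (.node 71629 (.leaf 0x0) (.node 71630 (.leaf 0xb0001) (.leaf 0x0))))) (.node 71636 (.node 71633 (.node 71632 (.leaf 0x117ce0098f9) (.leaf 0xf0b0b0003)) (.node 71634 (.leaf 0x0) (.node 71635 (.leaf 0xb0a0f0003) (.leaf 0x0)))) (.node 71639 (.node 71637 (.leaf 0x0) (.node 71638 (.leaf 0xe0001) (.leaf 0x307010908050006))) (.node 71640 (.leaf 0x0) (.node 71641 (.leaf 0xa0f0b0b0004) (.leaf 0x0))))))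

def argWS_6349 : Store := (.node 71653 (.node 71647 (.node 71644 (.node 71643 (.leaf 0xf0a0002) (.leaf 0x117da0117d9)) (.node 71645 (.leaf 0x60301020106060802040105000c) (.node 71646 (.leaf 0x0) (.leaf 0xe0d0002)))) (.node 71650 (.node 71648 (.leaf 0x0) (.node 71649 (.leaf 0xe0001) (.leaf 0x0))) (.node 71651 (.leaf 0x0) (.node 71652 (.leaf 0x3040002) (.leaf 0x0))))) (.node 71659 (.node 71656 (.node 71654 (.leaf 0x0) (.node 71655 (.leaf 0xf0b0b0a0a0005) (.leaf 0x117e6))) (.node 71657 (.leaf 0xa0001) (.node 71658 (.leaf 0x0) (.leaf 0x60003010102000202000701000d)))) (.node 71662 (.node 71660 (.leaf 0x0) (.node 71661 (.leaf 0xb0a0002) (.leaf 0xd0b0b0003))) (.node 71663 (.leaf 0xb0b0a0a0004) (.node 71664 (.leaf 0x117ee) (.leaf 0xb0b0a0a0004))))))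

def argWS_6350 : Store := (.node 71642 argWS_6348 argWS_6349)

def argWS_6351 : Store := (.node 71676 (.node 71670 (.node 71667 (.node 71666 (.leaf 0x0) (.leaf 0xd0b0002)) (.node 71668 (.leaf 0x0) (.node 71669 (.leaf 0x0) (.leaf 0xe0d0002)))) (.node 71673 (.node 71671 (.leaf 0x900020901060202000701000b) (.node 71672 (.leaf 0x0) (.leaf 0xb0f0a0a0004))) (.node 71674 (.leaf 0x0) (.node 71675 (.leaf 0x10903000408010007) (.leaf 0x0))))) (.node 71681 (.node 71678 (.node 71677 (.leaf 0xe0d0002) (.leaf 0x0)) (.node 71679 (.leaf 0x117fd0117f9) (.node 71680 (.leaf 0xa0a0002) (.leaf 0x0)))) (.node 71684 (.node 71682 (.leaf 0xf0b0002) (.node 71683 (.leaf 0x0) (.leaf 0x0))) (.node 71685 (.leaf 0xe0d0002) (.node 71686 (.leaf 0x5020908050802040105000a) (.leaf 0x0))))))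

def argWS_6352 : Store := (.node 71698 (.node 71692 (.node 71689 (.node 71688 (.leaf 0xa0f0b0003) (.leaf 0x0)) (.node 71690 (.leaf 0x11808) (.node 71691 (.leaf 0xf0b0b0a0004) (.leaf 0x0)))) (.node 71695 (.node 71693 (.leaf 0xd0b0b0003) (.node 71694 (.leaf 0x0) (.leaf 0x0))) (.node 71696 (.leaf 0x80101010703060007) (.node 71697 (.leaf 0x0) (.leaf 0xe0d0002))))) (.node 71704 (.node 71701 (.node 71699 (.leaf 0x0) (.node 71700 (.leaf 0xb0a0f0003) (.leaf 0x11813011812))) (.node 71702 (.leaf 0x90002000003010202000701000c) (.node 71703 (.leaf 0x0) (.leaf 0xe0a0a0003)))) (.node 71707 (.node 71705 (.leaf 0x0) (.node 71706 (.leaf 0xb0b0a0a0004) (.leaf 0x0))) (.node 71708 (.leaf 0x0) (.node 71709 (.leaf 0xf0b0a0a0004) (.leaf 0xd0001))))))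

def argWS_6353 : Store := (.node 71687 argWS_6351 argWS_6352)

def argWS_6354 : Store := (.node 71665 argWS_6350 argWS_6353)

def argWS_6355 : Store := (.node 71721 (.node 71715 (.node 71712 (.node 71711 (.leaf 0x1181d) (.leaf 0xf0001)) (.node 71713 (.leaf 0x0) (.node 71714 (.leaf 0xf0001) (.leaf 0x0)))) (.node 71718 (.node 71716 (.leaf 0xf0001) (.node 71717 (.leaf 0xf0b0002) (.leaf 0xf0a0a0003))) (.node 71719 (.leaf 0x11825011824) (.node 71720 (.leaf 0xd0001) (.leaf 0x0))))) (.node 71726 (.node 71723 (.node 71722 (.leaf 0xf0a0002) (.leaf 0x0)) (.node 71724 (.leaf 0x0) (.node 71725 (.leaf 0x4000402020900000008) (.leaf 0x0)))) (.node 71729 (.node 71727 (.leaf 0x0) (.node 71728 (.leaf 0x901070206000202000701000b) (.leaf 0x0))) (.node 71730 (.leaf 0x0) (.node 71731 (.leaf 0x1183101182e) (.leaf 0xd0001))))))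

def argWS_6356 : Store := (.node 71743 (.node 71737 (.node 71734 (.node 71733 (.leaf 0x0) (.leaf 0xa0f0b0b0004)) (.node 71735 (.leaf 0x0) (.node 71736 (.leaf 0x0) (.leaf 0xe0001)))) (.node 71740 (.node 71738 (.leaf 0xf0a0002) (.node 71739 (.leaf 0x403000207030802040105000b) (.leaf 0x0))) (.node 71741 (.leaf 0xe0001) (.node 71742 (.leaf 0x0) (.leaf 0x1183d011839))))) (.node 71749 (.node 71746 (.node 71744 (.leaf 0xf0b0a0a0004) (.node 71745 (.leaf 0x0) (.leaf 0xa0a0002))) (.node 71747 (.leaf 0x0) (.node 71748 (.leaf 0x0) (.leaf 0xb0a0f0003)))) (.node 71752 (.node 71750 (.leaf 0xe0a0002) (.node 71751 (.leaf 0x11845) (.leaf 0xb0a0f0003))) (.node 71753 (.leaf 0x0) (.node 71754 (.leaf 0x2000200090206020202000701000d) (.leaf 0x0))))))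

def argWS_6357 : Store := (.node 71732 argWS_6355 argWS_6356)

def argWS_6358 : Store := (.node 71766 (.node 71760 (.node 71757 (.node 71756 (.leaf 0xf0b0b0a0004) (.leaf 0xf0001)) (.node 71758 (.leaf 0x700020804000802040105000b) (.node 71759 (.leaf 0x0) (.leaf 0xd0b0002)))) (.node 71763 (.node 71761 (.leaf 0x0) (.node 71762 (.leaf 0x7030501090805000703040103000d) (.leaf 0x0))) (.node 71764 (.leaf 0xf0b0a0a0004) (.node 71765 (.leaf 0x0) (.leaf 0x11854011850))))) (.node 71772 (.node 71769 (.node 71767 (.leaf 0xa0f0b0003) (.node 71768 (.leaf 0x0) (.leaf 0x60102010901090202000701000c))) (.node 71770 (.leaf 0x0) (.node 71771 (.leaf 0xf0b0b0003) (.leaf 0xb0b0a0003)))) (.node 71775 (.node 71773 (.leaf 0x80003080004) (.node 71774 (.leaf 0x0) (.leaf 0xf0001))) (.node 71776 (.leaf 0x0) (.node 71777 (.leaf 0xb0a0f0003) (.leaf 0x1186001185f))))))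

def argWS_6359 : Store := (.node 71789 (.node 71783 (.node 71780 (.node 71779 (.leaf 0x4000003010802040105000a) (.leaf 0x0)) (.node 71781 (.leaf 0xa0a0002) (.node 71782 (.leaf 0x0) (.leaf 0xb0b0a0a0004)))) (.node 71786 (.node 71784 (.leaf 0x0) (.node 71785 (.leaf 0xb0b0a0a0004) (.leaf 0x803000400050202000701000b))) (.node 71787 (.leaf 0x0) (.node 71788 (.leaf 0xb0b0a0a0004) (.leaf 0x0))))) (.node 71795 (.node 71792 (.node 71790 (.leaf 0xb0a0f0003) (.node 71791 (.leaf 0x1186d01186c) (.leaf 0xb0b0002))) (.node 71793 (.leaf 0x0) (.node 71794 (.leaf 0xb0a0f0003) (.leaf 0x0)))) (.node 71798 (.node 71796 (.leaf 0x0) (.node 71797 (.leaf 0x20605020202010202000701000c) (.leaf 0x0))) (.node 71799 (.leaf 0xf0a0a0003) (.node 71800 (.leaf 0x0) (.leaf 0xa0001))))))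

def argWS_6360 : Store := (.node 71778 argWS_6358 argWS_6359)

def argWS_6361 : Store := (.node 71755 argWS_6357 argWS_6360)

def argWS_6362 : Store := (.node 71710 argWS_6354 argWS_6361)

def argWS_6363 : Store := (.node 71620 argWS_6347 argWS_6362)

def argWS_6364 : Store := (.node 71812 (.node 71806 (.node 71803 (.node 71802 (.leaf 0x11878) (.leaf 0xf0b0a0003)) (.node 71804 (.leaf 0x0) (.node 71805 (.leaf 0x5020102020007010008) (.leaf 0x0)))) (.node 71809 (.node 71807 (.leaf 0xe0d0002) (.node 71808 (.leaf 0xe0001) (.leaf 0x70506010500020802040105000c))) (.node 71810 (.leaf 0x0) (.node 71811 (.leaf 0xb0a0a0003) (.leaf 0x0))))) (.node 71817 (.node 71814 (.node 71813 (.leaf 0xf0b0002) (.leaf 0x11884011883)) (.node 71815 (.leaf 0xa0f0002) (.node 71816 (.leaf 0x0) (.leaf 0xa0f0b0b0004)))) (.node 71820 (.node 71818 (.leaf 0x0) (.node 71819 (.leaf 0x0) (.leaf 0xf0b0a0a0004))) (.node 71821 (.leaf 0x50000090206020202000701000c) (.node 71822 (.leaf 0x0) (.leaf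 0xf0b0b0003))))))

def argWS_6365 : Store := (.node 71834 (.node 71828 (.node 71825 (.node 71824 (.leaf 0x0) (.leaf 0x1188f)) (.node 71826 (.leaf 0x408010005) (.node 71827 (.leaf 0x0) (.leaf 0xa0f0002)))) (.node 71831 (.node 71829 (.leaf 0x0) (.node 71830 (.leaf 0xf0b0a0a0004) (.leaf 0x0))) (.node 71832 (.leaf 0x0) (.node 71833 (.leaf 0xe0d0002) (.leaf 0xa0a0002))))) (.node 71840 (.node 71837 (.node 71835 (.leaf 0x406010500020802040105000c) (.node 71836 (.leaf 0x0) (.leaf 0xe0a0a0003))) (.node 71838 (.leaf 0x0) (.node 71839 (.leaf 0x1189d011899) (.leaf 0xf0b0b0a0a0005)))) (.node 71843 (.node 71841 (.leaf 0x0) (.node 71842 (.leaf 0xa0f0b0003) (.leaf 0x0))) (.node 71844 (.leaf 0x0) (.node 71845 (.leaf 0x503060207020703040103000c) (.leaf 0x0))))))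

def argWS_6366 : Store := (.node 71823 argWS_6364 argWS_6365)

def argWS_6367 : Store := (.node 71857 (.node 71851 (.node 71848 (.node 71847 (.leaf 0xb0f0002) (.leaf 0x0)) (.node 71849 (.leaf 0xb0b0a0a0004) (.node 71850 (.leaf 0x205020202010007) (.leaf 0x0)))) (.node 71854 (.node 71852 (.leaf 0xe0001) (.node 71853 (.leaf 0x0) (.leaf 0x118ac0118a8))) (.node 71855 (.leaf 0x0) (.node 71856 (.leaf 0x60200090000090802040105000c) (.leaf 0x0))))) (.node 71862 (.node 71859 (.node 71858 (.leaf 0xe0d0002) (.leaf 0xa0001)) (.node 71860 (.leaf 0x1020103010102000802040105000d) (.node 71861 (.leaf 0x0) (.leaf 0xa0f0b0b0004)))) (.node 71865 (.node 71863 (.leaf 0x0) (.node 71864 (.leaf 0x4070209020202000701000b) (.leaf 0x0))) (.node 71866 (.leaf 0xb0a0f0003) (.node 71867 (.leaf 0x0) (.leaf 0x118ba0118b6))))))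

def argWS_6368 : Store := (.node 71879 (.node 71873 (.node 71870 (.node 71869 (.leaf 0xa0f0b0b0004) (.leaf 0x0)) (.node 71871 (.leaf 0xe0001) (.node 71872 (.leaf 0x0) (.leaf 0x0)))) (.node 71876 (.node 71874 (.leaf 0xa0a0002) (.node 71875 (.leaf 0x118c1) (.leaf 0x0))) (.node 71877 (.leaf 0xe0a0a0003) (.node 71878 (.leaf 0x0) (.leaf 0x0))))) (.node 71885 (.node 71882 (.node 71880 (.leaf 0xf0b0002) (.node 71881 (.leaf 0xf0a0002) (.leaf 0x118c8))) (.node 71883 (.leaf 0xe0001) (.node 71884 (.leaf 0x0) (.leaf 0xa0f0b0b0004)))) (.node 71888 (.node 71886 (.leaf 0x0) (.node 71887 (.leaf 0x0) (.leaf 0xa0f0b0003))) (.node 71889 (.leaf 0x0) (.node 71890 (.leaf 0xf0b0b0a0004) (.leaf 0x118d10118d0))))))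

def argWS_6369 : Store := (.node 71868 argWS_6367 argWS_6368)

def argWS_6370 : Store := (.node 71846 argWS_6366 argWS_6369)

def argWS_6371 : Store := (.node 71902 (.node 71896 (.node 71893 (.node 71892 (.leaf 0x20401010703060202000701000c) (.leaf 0x0)) (.node 71894 (.leaf 0xd0b0b0003) (.node 71895 (.leaf 0x0) (.leaf 0xa0f0b0b0004)))) (.node 71899 (.node 71897 (.leaf 0x0) (.node 71898 (.leaf 0x0) (.leaf 0x800070209020006))) (.node 71900 (.leaf 0x0) (.node 71901 (.leaf 0xb0f0a0003) (.leaf 0x0))))) (.node 71907 (.node 71904 (.node 71903 (.leaf 0xe0a0002) (.leaf 0x118de)) (.node 71905 (.leaf 0xf0b0b0003) (.node 71906 (.leaf 0x0) (.leaf 0x5050206040202000701000a)))) (.node 71910 (.node 71908 (.leaf 0x0) (.node 71909 (.leaf 0xa0001) (.leaf 0x300040807030401030009))) (.node 71911 (.leaf 0x0) (.node 71912 (.leaf 0xd0001) (.leaf 0x0))))))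

def argWS_6372 : Store := (.node 71924 (.node 71918 (.node 71915 (.node 71914 (.leaf 0x2020202020900000802040105000d) (.leaf 0x0)) (.node 71916 (.leaf 0xd0001) (.node 71917 (.leaf 0x0) (.leaf 0x7040007030401030008)))) (.node 71921 (.node 71919 (.leaf 0x0) (.node 71920 (.leaf 0xf0b0a0003) (.leaf 0x0))) (.node 71922 (.leaf 0x118f00118ec) (.node 71923 (.leaf 0xb0f0002) (.leaf 0x0))))) (.node 71930 (.node 71927 (.node 71925 (.leaf 0xd0b0002) (.node 71926 (.leaf 0x0) (.leaf 0x0))) (.node 71928 (.leaf 0xb0a0002) (.node 71929 (.leaf 0xa0f0b0003) (.leaf 0x118f8)))) (.node 71933 (.node 71931 (.leaf 0xf0b0a0a0004) (.node 71932 (.leaf 0x0) (.leaf 0xd0001))) (.node 71934 (.leaf 0x0) (.node 71935 (.leaf 0x0) (.leaf 0xf0b0002))))))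

def argWS_6373 : Store := (.node 71913 argWS_6371 argWS_6372)

def argWS_6374 : Store := (.node 71947 (.node 71941 (.node 71938 (.node 71937 (.leaf 0x2050202020007010008) (.leaf 0x0)) (.node 71939 (.leaf 0xb0f0a0a0004) (.node 71940 (.leaf 0x0) (.leaf 0x11903)))) (.node 71944 (.node 71942 (.leaf 0xb0b0002) (.node 71943 (.leaf 0x0) (.leaf 0xa0001))) (.node 71945 (.leaf 0x0) (.node 71946 (.leaf 0x0) (.leaf 0xa0f0002))))) (.node 71952 (.node 71949 (.node 71948 (.leaf 0xb0f0002) (.leaf 0x1190b003d4e)) (.node 71950 (.leaf 0xb0b0002) (.node 71951 (.leaf 0x0) (.leaf 0xb0a0a0003)))) (.node 71955 (.node 71953 (.leaf 0x0) (.node 71954 (.leaf 0x0) (.leaf 0xb0a0a0003))) (.node 71956 (.leaf 0x704070009020007010009) (.node 71957 (.leaf 0x0) (.leaf 0xf0001))))))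

def argWS_6375 : Store := (.node 71969 (.node 71963 (.node 71960 (.node 71959 (.leaf 0x0) (.leaf 0x602000300000802040105000b)) (.node 71961 (.leaf 0x0) (.node 71962 (.leaf 0xb0001) (.leaf 0x0)))) (.node 71966 (.node 71964 (.leaf 0x1191a011916) (.node 71965 (.leaf 0xa0f0002) (.leaf 0x0))) (.node 71967 (.leaf 0xf0b0b0a0a0005) (.node 71968 (.leaf 0x0) (.leaf 0x0))))) (.node 71975 (.node 71972 (.node 71970 (.leaf 0x403070009020007010009) (.node 71971 (.leaf 0x0) (.leaf 0xf0b0b0003))) (.node 71973 (.leaf 0x0) (.node 71974 (.leaf 0x502000003030604000703040103000e) (.leaf 0x0)))) (.node 71978 (.node 71976 (.leaf 0xd0001) (.node 71977 (.leaf 0x0) (.leaf 0xb0a0a0003))) (.node 71979 (.leaf 0x11929011928) (.node 71980 (.leaf 0xf0b0a0a0004) (.leaf 0x0))))))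

def argWS_6376 : Store := (.node 71958 argWS_6374 argWS_6375)

def argWS_6377 : Store := (.node 71936 argWS_6373 argWS_6376)

def argWS_6378 : Store := (.node 71891 argWS_6370 argWS_6377)

def argWS_6379 : Store := (.node 71992 (.node 71986 (.node 71983 (.node 71982 (.leaf 0x2010102000802040105000a) (.leaf 0x0)) (.node 71984 (.leaf 0xa0f0b0003) (.node 71985 (.leaf 0xf0a0a0003) (.leaf 0xf0b0a0003)))) (.node 71989 (.node 71987 (.leaf 0x5090106000703040103000a) (.node 71988 (.leaf 0x0) (.leaf 0xb0a0f0003))) (.node 71990 (.leaf 0x0) (.node 71991 (.leaf 0x11935011931) (.leaf 0xb0a0f0003))))) (.node 71997 (.node 71994 (.node 71993 (.leaf 0x0) (.leaf 0xb0a0f0003)) (.node 71995 (.leaf 0x0) (.node 71996 (.leaf 0x0) (.leaf 0xb0f0a0003)))) (.node 72000 (.node 71998 (.leaf 0xf0b0b0a0004) (.node 71999 (.leaf 0x1193d) (.leaf 0xb0f0a0a0004))) (.node 72001 (.leaf 0x0) (.node 72002 (.leaf 0x90000090206020802040105000d) (.leaf 0x0))))))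

def argWS_6380 : Store := (.node 72014 (.node 72008 (.node 72005 (.node 72004 (.leaf 0xf0b0a0a0004) (.leaf 0xf0001)) (.node 72006 (.leaf 0x107070209020202000701000b) (.node 72007 (.leaf 0x0) (.leaf 0xb0a0f0003)))) (.node 72011 (.node 72009 (.leaf 0x0) (.node 72010 (.leaf 0x1184b011948) (.leaf 0xf0001))) (.node 72012 (.leaf 0x0) (.node 72013 (.leaf 0x0) (.leaf 0xf0b0b0a0a0005))))) (.node 72020 (.node 72017 (.node 72015 (.leaf 0xf0b0a0003) (.node 72016 (.leaf 0x1194e) (.leaf 0xf0b0b0a0004))) (.node 72018 (.leaf 0x0) (.node 72019 (.leaf 0xd0b0b0003) (.leaf 0x0)))) (.node 72023 (.node 72021 (.leaf 0x0) (.node 72022 (.leaf 0xf0b0a0003) (.leaf 0x50000030306040202000701000c))) (.node 72024 (.leaf 0x0) (.node 72025 (.leaf 0xe0001) (.leaf 0x0))))))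

def argWS_6381 : Store := (.node 72003 argWS_6379 argWS_6380)

def argWS_6382 : Store := (.node 72037 (.node 72031 (.node 72028 (.node 72027 (.leaf 0x11959011955) (.leaf 0xf0b0b0a0a0005)) (.node 72029 (.leaf 0x0) (.node 72030 (.leaf 0xa0f0b0b0004) (.leaf 0x0)))) (.node 72034 (.node 72032 (.leaf 0x0) (.node 72033 (.leaf 0x5070209020802040105000a) (.leaf 0x0))) (.node 72035 (.leaf 0xf0b0b0003) (.node 72036 (.leaf 0x0) (.leaf 0x3000202090000000703040103000d))))) (.node 72042 (.node 72039 (.node 72038 (.leaf 0x0) (.leaf 0xf0b0a0003)) (.node 72040 (.leaf 0x0) (.node 72041 (.leaf 0x11967) (.leaf 0xd0b0002)))) (.node 72045 (.node 72043 (.leaf 0x0) (.node 72044 (.leaf 0x2010908050202000701000a) (.leaf 0x0))) (.node 72046 (.leaf 0xd0001) (.node 72047 (.leaf 0x101090009000703040103000b) (.leaf 0x0))))))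

def argWS_6383 : Store := (.node 72059 (.node 72053 (.node 72050 (.node 72049 (.leaf 0xb0001) (.leaf 0x0)) (.node 72051 (.leaf 0xd0001) (.node 72052 (.leaf 0x11972011971) (.leaf 0xf0b0b0a0a0005)))) (.node 72056 (.node 72054 (.leaf 0x0) (.node 72055 (.leaf 0x0) (.leaf 0xa0f0b0003))) (.node 72057 (.leaf 0xd0b0b0003) (.node 72058 (.leaf 0x11978) (.leaf 0xf0b0b0a0a0005))))) (.node 72065 (.node 72062 (.node 72060 (.leaf 0x0) (.node 72061 (.leaf 0xb0b0002) (.leaf 0x0))) (.node 72063 (.leaf 0x0) (.node 72064 (.leaf 0xf0b0b0a0004) (.leaf 0x40004000408010802040105000c)))) (.node 72068 (.node 72066 (.leaf 0x0) (.node 72067 (.leaf 0xe0001) (.leaf 0x0))) (.node 72069 (.leaf 0x11983) (.node 72070 (.leaf 0xe0a0a0003) (.leaf 0x0))))))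

def argWS_6384 : Store := (.node 72048 argWS_6382 argWS_6383)

def argWS_6385 : Store := (.node 72026 argWS_6381 argWS_6384)

def argWS_6386 : Store := (.node 72082 (.node 72076 (.node 72073 (.node 72072 (.leaf 0x0) (.leaf 0xa0001)) (.node 72074 (.leaf 0xf0a0a0003) (.node 72075 (.leaf 0xa0f0b0b0004) (.leaf 0x1198a011989)))) (.node 72079 (.node 72077 (.leaf 0xb0a0f0003) (.node 72078 (.leaf 0x0) (.leaf 0xb0a0f0003))) (.node 72080 (.leaf 0x0) (.node 72081 (.leaf 0x0) (.leaf 0xb0a0a0003))))) (.node 72087 (.node 72084 (.node 72083 (.leaf 0x11991) (.leaf 0xb0a0a0003)) (.node 72085 (.leaf 0x0) (.node 72086 (.leaf 0xf0b0002) (.leaf 0x0)))) (.node 72090 (.node 72088 (.leaf 0x0) (.node 72089 (.leaf 0xa0a0002) (.leaf 0xa0f0b0003))) (.node 72091 (.leaf 0xb0f0a0a0004) (.node 72092 (.leaf 0x1199a011999) (.leaf 0xb0f0002))))))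

def argWS_6387 : Store := (.node 72104 (.node 72098 (.node 72095 (.node 72094 (.leaf 0x0) (.leaf 0x90104010904020802040105000c)) (.node 72096 (.leaf 0x0) (.node 72097 (.leaf 0xa0f0b0003) (.leaf 0xb0f0a0003)))) (.node 72101 (.node 72099 (.leaf 0x6010201090109000703040103000d) (.node 72100 (.leaf 0x0) (.leaf 0xb0b0a0003))) (.node 72102 (.leaf 0x0) (.node 72103 (.leaf 0x705090806000202000701000b) (.leaf 0x0))))) (.node 72110 (.node 72107 (.node 72105 (.leaf 0xf0b0b0a0a0005) (.node 72106 (.leaf 0x0) (.leaf 0x119a90119a5))) (.node 72108 (.leaf 0xb0b0a0003) (.node 72109 (.leaf 0x0) (.leaf 0xb0a0a0003)))) (.node 72113 (.node 72111 (.leaf 0x0) (.node 72112 (.leaf 0x0) (.leaf 0xe0001))) (.node 72114 (.leaf 0xf0b0002) (.node 72115 (.leaf 0x119b1) (.leaf 0xf0b0002))))))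

def argWS_6388 : Store := (.node 72093 argWS_6386 argWS_6387)

def argWS_6389 : Store := (.node 72127 (.node 72121 (.node 72118 (.node 72117 (.leaf 0x0) (.leaf 0x0)) (.node 72119 (.leaf 0xb0001) (.node 72120 (.leaf 0x119b600f2a6) (.leaf 0xb0b0a0a0004)))) (.node 72124 (.node 72122 (.leaf 0x0) (.node 72123 (.leaf 0xb0f0a0003) (.leaf 0x0))) (.node 72125 (.leaf 0x0) (.node 72126 (.leaf 0x108040002020007010009) (.leaf 0x0))))) (.node 72133 (.node 72130 (.node 72128 (.leaf 0xf0001) (.node 72129 (.leaf 0x0) (.leaf 0x8010105020202010008))) (.node 72131 (.leaf 0x0) (.node 72132 (.leaf 0xf0b0b0a0a0005) (.leaf 0x0)))) (.node 72136 (.node 72134 (.leaf 0x307090109000703040103000b) (.node 72135 (.leaf 0x0) (.leaf 0xa0001))) (.node 72137 (.leaf 0x0) (.node 72138 (.leaf 0x119c80119c4) (.leaf 0xb0f0a0003))))))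

def argWS_6390 : Store := (.node 72150 (.node 72144 (.node 72141 (.node 72140 (.leaf 0x0) (.leaf 0x104090000090802040105000b)) (.node 72142 (.leaf 0x0) (.node 72143 (.leaf 0xd0001) (.leaf 0xb0b0a0003)))) (.node 72147 (.node 72145 (.leaf 0xf0b0002) (.node 72146 (.leaf 0x119d000cb6d) (.leaf 0x305050206040802040105000b))) (.node 72148 (.leaf 0x0) (.node 72149 (.leaf 0xb0a0a0003) (.leaf 0x0))))) (.node 72156 (.node 72153 (.node 72151 (.leaf 0xd0b0002) (.node 72152 (.leaf 0x0) (.leaf 0x0))) (.node 72154 (.leaf 0xb0b0a0a0004) (.node 72155 (.leaf 0x9060901090202000701000a) (.leaf 0x0)))) (.node 72159 (.node 72157 (.leaf 0xb0a0002) (.node 72158 (.leaf 0x0) (.leaf 0x9040900090202000701000a))) (.node 72160 (.leaf 0x0) (.node 72161 (.leaf 0xb0a0002) (.leaf 0x0))))))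

def argWS_6391 : Store := (.node 72139 argWS_6389 argWS_6390)

def argWS_6392 : Store := (.node 72116 argWS_6388 argWS_6391)

def argWS_6393 : Store := (.node 72071 argWS_6385 argWS_6392)

def argWS_6394 : Store := (.node 71981 argWS_6378 argWS_6393)

def argWS_6395 : Store := (.node 71801 argWS_6363 argWS_6394)

def argWS_6396 : Store := (.node 71440 argWS_6332 argWS_6395)

def argWS_6397 : Store := (.node 70719 argWS_6269 argWS_6396)

def argWS_6398 : Store := (.node 72173 (.node 72167 (.node 72164 (.node 72163 (.leaf 0x119e10119dd) (.leaf 0xf0b0b0a0a0005)) (.node 72165 (.leaf 0x0) (.node 72166 (.leaf 0x30401040005000703040103000c) (.leaf 0x0)))) (.node 72170 (.node 72168 (.leaf 0xf0a0002) (.node 72169 (.leaf 0xa0f0b0003) (.leaf 0x201010200000703040103000b))) (.node 72171 (.leaf 0x0) (.node 72172 (.leaf 0xb0b0a0a0004) (.leaf 0x0))))) (.node 72178 (.node 72175 (.node 72174 (.leaf 0xb0b0a0a0004) (.leaf 0x119ed0119ec)) (.node 72176 (.leaf 0x300000300000007)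 (.node 72177 (.leaf 0x0) (.leaf 0xf0001)))) (.node 72181 (.node 72179 (.leaf 0x0) (.node 72180 (.leaf 0xe0001) (.leaf 0x0))) (.node 72182 (.leaf 0x0) (.node 72183 (.leaf 0xa0f0b0b0004) (.leaf 0xa0f0b0b0004))))))

def argWS_6399 : Store := (.node 72195 (.node 72189 (.node 72186 (.node 72185 (.leaf 0xa0f0b0b0004) (.leaf 0x119f80119f7)) (.node 72187 (.leaf 0xb0f0a0003) (.node 72188 (.leaf 0x0) (.leaf 0xf0b0b0a0004)))) (.node 72192 (.node 72190 (.leaf 0x0) (.node 72191 (.leaf 0x0) (.leaf 0xa0f0b0003))) (.node 72193 (.leaf 0xe0001) (.node 72194 (.leaf 0x2020201090805000703040103000d) (.leaf 0x0))))) (.node 72201 (.node 72198 (.node 72196 (.leaf 0xb0a0f0003) (.node 72197 (.leaf 0x0) (.leaf 0x11a04011a00))) (.node 72199 (.leaf 0xd0001) (.node 72200 (.leaf 0x0) (.leaf 0xe0a0a0003)))) (.node 72204 (.node 72202 (.leaf 0x0) (.node 72203 (.leaf 0x0) (.leaf 0xb0b0002))) (.node 72205 (.leaf 0xf0a0002) (.node 72206 (.leaf 0x900090308020401050009) (.leaf 0x0))))))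

def argWS_6400 : Store := (.node 72184 argWS_6398 argWS_6399)

def argWS_6401 : Store := (.node 72218 (.node 72212 (.node 72209 (.node 72208 (.leaf 0x0) (.leaf 0x11a0f011a0c)) (.node 72210 (.leaf 0xa0a0002) (.node 72211 (.leaf 0x0) (.leaf 0xf0b0a0a0004)))) (.node 72215 (.node 72213 (.leaf 0x0) (.node 72214 (.leaf 0x0) (.leaf 0xf0a0a0003))) (.node 72216 (.leaf 0x20509080600000703040103000c) (.node 72217 (.leaf 0x0) (.leaf 0xa0f0002))))) (.node 72223 (.node 72220 (.node 72219 (.leaf 0x0) (.leaf 0xb0f0002)) (.node 72221 (.leaf 0x11a1b011a1a) (.node 72222 (.leaf 0x60000050206040802040105000c) (.leaf 0x0)))) (.node 72226 (.node 72224 (.leaf 0xf0b0b0003) (.node 72225 (.leaf 0x0) (.leaf 0xb0b0a0a0004))) (.node 72227 (.leaf 0x0) (.node 72228 (.leaf 0x0) (.leaf 0xf0b0b0003))))))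

def argWS_6402 : Store := (.node 72240 (.node 72234 (.node 72231 (.node 72230 (.leaf 0x20902020900000802040105000c) (.leaf 0x0)) (.node 72232 (.leaf 0xa0f0b0b0004) (.node 72233 (.leaf 0x0) (.leaf 0x11a28)))) (.node 72237 (.node 72235 (.leaf 0x702010908050202000701000b) (.node 72236 (.leaf 0x0) (.leaf 0xb0001))) (.node 72238 (.leaf 0x0) (.node 72239 (.leaf 0xb0b0002) (.leaf 0x0))))) (.node 72246 (.node 72243 (.node 72241 (.leaf 0x0) (.node 72242 (.leaf 0x205020604000703040103000c) (.leaf 0x0))) (.node 72244 (.leaf 0xf0b0b0a0a0005) (.node 72245 (.leaf 0x0) (.leaf 0xb0a0f0003)))) (.node 72249 (.node 72247 (.leaf 0xf0b0b0003) (.node 72248 (.leaf 0x11a36011a35) (.leaf 0xe0a0a0003))) (.node 72250 (.leaf 0x0) (.node 72251 (.leaf 0xb0b0002) (.leaf 0x0))))))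

def argWS_6403 : Store := (.node 72229 argWS_6401 argWS_6402)

def argWS_6404 : Store := (.node 72207 argWS_6400 argWS_6403)

def argWS_6405 : Store := (.node 72263 (.node 72257 (.node 72254 (.node 72253 (.leaf 0x0) (.leaf 0xf0a0002)) (.node 72255 (.leaf 0xa0f0b0b0004) (.node 72256 (.leaf 0x6020106060202000701000b) (.leaf 0x0)))) (.node 72260 (.node 72258 (.leaf 0xa0a0002) (.node 72259 (.leaf 0x0) (.leaf 0x11a42011a3e))) (.node 72261 (.leaf 0x4000306010500020202000701000d) (.node 72262 (.leaf 0x0) (.leaf 0xf0b0b0003))))) (.node 72268 (.node 72265 (.node 72264 (.leaf 0x0) (.leaf 0xe0d0002)) (.node 72266 (.leaf 0x0) (.node 72267 (.leaf 0x0) (.leaf 0xb0a0f0003)))) (.node 72271 (.node 72269 (.leaf 0x2010303010102000802040105000d) (.node 72270 (.leaf 0x0) (.leaf 0xb0a0002))) (.node 72272 (.leaf 0x0) (.node 72273 (.leaf 0xf0b0b0a0a0005) (.leaf 0x11a50011a4f))))))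

def argWS_6406 : Store := (.node 72285 (.node 72279 (.node 72276 (.node 72275 (.leaf 0xf0b0a0a0004) (.leaf 0x0)) (.node 72277 (.leaf 0xb0f0a0003) (.node 72278 (.leaf 0x0) (.leaf 0x0)))) (.node 72282 (.node 72280 (.leaf 0xa0a0002) (.node 72281 (.leaf 0xa0f0b0b0004) (.leaf 0xb0b0a0003))) (.node 72283 (.leaf 0x11a59011a58) (.node 72284 (.leaf 0xb0a0a0003) (.leaf 0x0))))) (.node 72291 (.node 72288 (.node 72286 (.leaf 0x200000300000802040105000b) (.node 72287 (.leaf 0x0) (.leaf 0xa0a0002))) (.node 72289 (.leaf 0xe0a0a0003) (.node 72290 (.leaf 0x60205020604000703040103000c) (.leaf 0x0)))) (.node 72294 (.node 72292 (.leaf 0xe0d0002) (.node 72293 (.leaf 0x0) (.leaf 0x1030002010606000703040103000d))) (.node 72295 (.leaf 0x0) (.node 72296 (.leaf 0xf0b0b0003) (.leaf 0x0))))))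

def argWS_6407 : Store := (.node 72274 argWS_6405 argWS_6406)

def argWS_6408 : Store := (.node 72308 (.node 72302 (.node 72299 (.node 72298 (.leaf 0x11a68011a64) (.leaf 0xb0b0a0003)) (.node 72300 (.leaf 0x0) (.node 72301 (.leaf 0xb0a0f0003) (.leaf 0x0)))) (.node 72305 (.node 72303 (.leaf 0x0) (.node 72304 (.leaf 0xe0a0002) (.leaf 0x303040005000703040103000b))) (.node 72306 (.leaf 0x0) (.node 72307 (.leaf 0xb0a0f0003) (.leaf 0x0))))) (.node 72313 (.node 72310 (.node 72309 (.leaf 0xb0f0a0a0004) (.leaf 0x11a74011a73)) (.node 72311 (.leaf 0xb0f0002) (.node 72312 (.leaf 0x0) (.leaf 0x7000002020900000008)))) (.node 72316 (.node 72314 (.leaf 0x0) (.node 72315 (.leaf 0xe0a0a0003) (.leaf 0x507030602020007010009))) (.node 72317 (.leaf 0x0) (.node 72318 (.leaf 0xb0a0002) (.leaf 0x0))))))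

def argWS_6409 : Store := (.node 72330 (.node 72324 (.node 72321 (.node 72320 (.leaf 0x11a7e) (.leaf 0xf0b0b0a0a0005)) (.node 72322 (.leaf 0x0) (.node 72323 (.leaf 0xb0f0a0003) (.leaf 0x0)))) (.node 72327 (.node 72325 (.leaf 0x0) (.node 72326 (.leaf 0xf66800f663) (.leaf 0xe0001))) (.node 72328 (.leaf 0x0) (.node 72329 (.leaf 0xf0b0b0a0004) (.leaf 0x0))))) (.node 72336 (.node 72333 (.node 72331 (.leaf 0x0) (.node 72332 (.leaf 0xe0a0002) (.leaf 0xb0a0f0003))) (.node 72334 (.leaf 0x11a8c) (.node 72335 (.leaf 0xb0001) (.leaf 0x0)))) (.node 72339 (.node 72337 (.leaf 0xf0b0b0a0a0005) (.node 72338 (.leaf 0x0) (.leaf 0x0))) (.node 72340 (.leaf 0x10202070209020202000701000c) (.node 72341 (.leaf 0x0) (.leaf 0xa0001))))))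

def argWS_6410 : Store := (.node 72319 argWS_6408 argWS_6409)

def argWS_6411 : Store := (.node 72297 argWS_6407 argWS_6410)

def argWS_6412 : Store := (.node 72252 argWS_6404 argWS_6411)

def argWS_6413 : Store := (.node 72353 (.node 72347 (.node 72344 (.node 72343 (.leaf 0x0) (.leaf 0xb0a0002)) (.node 72345 (.leaf 0x11a97011a96) (.node 72346 (.leaf 0xa0f0b0003) (.leaf 0x0)))) (.node 72350 (.node 72348 (.leaf 0x2090009020602000703040103000d) (.node 72349 (.leaf 0x0) (.leaf 0xf0b0a0003))) (.node 72351 (.leaf 0xa0f0b0003) (.node 72352 (.leaf 0xb0b0a0003) (.leaf 0xf0a0002))))) (.node 72358 (.node 72355 (.node 72354 (.leaf 0x11aa0011a9f) (.leaf 0x901070306000703040103000b)) (.node 72356 (.leaf 0x0) (.node 72357 (.leaf 0xf0b0b0003) (.leaf 0x0)))) (.node 72361 (.node 72359 (.leaf 0xe0001) (.node 72360 (.leaf 0x0) (.leaf 0x0))) (.node 72362 (.leaf 0xb0a0002) (.node 72363 (.leaf 0x105f7) (.leaf 0xa0a0002))))))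

def argWS_6414 : Store := (.node 72375 (.node 72369 (.node 72366 (.node 72365 (.leaf 0x0) (.leaf 0xb0a0f0003)) (.node 72367 (.leaf 0x0) (.node 72368 (.leaf 0x0) (.leaf 0xb0f0002)))) (.node 72372 (.node 72370 (.leaf 0xa0001) (.node 72371 (.leaf 0x11ab100baa8) (.leaf 0xf0b0b0a0a0005))) (.node 72373 (.leaf 0x0) (.node 72374 (.leaf 0xb0a0a0003) (.leaf 0x0))))) (.node 72381 (.node 72378 (.node 72376 (.leaf 0x0) (.node 72377 (.leaf 0x7030506020702010802040105000d) (.leaf 0x0))) (.node 72379 (.leaf 0x0) (.node 72380 (.leaf 0x40002090106000703040103000d) (.leaf 0x0)))) (.node 72384 (.node 72382 (.leaf 0xf0a0a0003) (.node 72383 (.leaf 0x0) (.leaf 0xf0001))) (.node 72385 (.leaf 0x11abf011abe) (.node 72386 (.leaf 0xb0a0f0003) (.leaf 0x0))))))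

def argWS_6415 : Store := (.node 72364 argWS_6413 argWS_6414)

def argWS_6416 : Store := (.node 72398 (.node 72392 (.node 72389 (.node 72388 (.leaf 0xb0b0a0003) (.leaf 0x0)) (.node 72390 (.leaf 0x0) (.node 72391 (.leaf 0xf0b0a0a0004) (.leaf 0x2010606000703040103000a)))) (.node 72395 (.node 72393 (.leaf 0x0) (.node 72394 (.leaf 0xb0001) (.leaf 0x0))) (.node 72396 (.leaf 0xb0b0a0a0004) (.node 72397 (.leaf 0x11acb011aca) (.leaf 0xf0b0b0a0004))))) (.node 72403 (.node 72400 (.node 72399 (.leaf 0x0) (.leaf 0xf0a0a0003)) (.node 72401 (.leaf 0x0) (.node 72402 (.leaf 0x0) (.leaf 0x400020901060007)))) (.node 72406 (.node 72404 (.leaf 0x0) (.node 72405 (.leaf 0xe0a0002) (.leaf 0x0))) (.node 72407 (.leaf 0x7010106020702010802040105000d) (.node 72408 (.leaf 0x0) (.leaf 0xb0b0002))))))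

def argWS_6417 : Store := (.node 72420 (.node 72414 (.node 72411 (.node 72410 (.leaf 0x0) (.leaf 0xb0b0a0a0004)) (.node 72412 (.leaf 0x11ada011ad9) (.node 72413 (.leaf 0xe0a0002) (.leaf 0x0)))) (.node 72417 (.node 72415 (.leaf 0xe0a0002) (.node 72416 (.leaf 0x0) (.leaf 0x0))) (.node 72418 (.leaf 0xf0a0a0003) (.node 72419 (.leaf 0x0) (.leaf 0xd0b0002))))) (.node 72426 (.node 72423 (.node 72421 (.leaf 0x11ae3011ae2) (.node 72422 (.leaf 0xb0a0002) (.leaf 0x0))) (.node 72424 (.leaf 0xf0b0b0a0a0005) (.node 72425 (.leaf 0x0) (.leaf 0x0)))) (.node 72429 (.node 72427 (.leaf 0xd0b0002) (.node 72428 (.leaf 0xb0b0a0003) (.leaf 0x11aeb))) (.node 72430 (.leaf 0xe0a0a0003) (.node 72431 (.leaf 0x0) (.leaf 0xb0f0a0003))))))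

def argWS_6418 : Store := (.node 72409 argWS_6416 argWS_6417)

def argWS_6419 : Store := (.node 72387 argWS_6415 argWS_6418)

def argWS_6420 : Store := (.node 72443 (.node 72437 (.node 72434 (.node 72433 (.leaf 0x0) (.leaf 0x0)) (.node 72435 (.leaf 0x0) (.node 72436 (.leaf 0x0) (.leaf 0x0)))) (.node 72440 (.node 72438 (.leaf 0xb0f0a0a0004) (.node 72439 (.leaf 0x209010308000703040103000b) (.leaf 0x0))) (.node 72441 (.leaf 0xb0a0002) (.node 72442 (.leaf 0x0) (.leaf 0xb0b0a0a0004))))) (.node 72448 (.node 72445 (.node 72444 (.leaf 0x11afa011af9) (.leaf 0x200020900090202000701000b)) (.node 72446 (.leaf 0x0) (.node 72447 (.leaf 0xb0a0f0003) (.leaf 0x0)))) (.node 72451 (.node 72449 (.leaf 0xf0a0a0003) (.node 72450 (.leaf 0x0) (.leaf 0x0))) (.node 72452 (.leaf 0xf0b0002) (.node 72453 (.leaf 0x502070206000006) (.leaf 0x0))))))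

def argWS_6421 : Store := (.node 72465 (.node 72459 (.node 72456 (.node 72455 (.leaf 0xf0b0b0a0004) (.leaf 0x0)) (.node 72457 (.leaf 0x90700020804000007) (.node 72458 (.leaf 0x0) (.leaf 0xf0b0b0003)))) (.node 72462 (.node 72460 (.leaf 0x0) (.node 72461 (.leaf 0x11b0b011b07) (.leaf 0x30106010500020202000701000c))) (.node 72463 (.leaf 0x0) (.node 72464 (.leaf 0xf0b0b0003) (.leaf 0x0))))) (.node 72471 (.node 72468 (.node 72466 (.leaf 0xd0001) (.node 72467 (.leaf 0x0) (.leaf 0x0))) (.node 72469 (.leaf 0xb0b0a0003) (.node 72470 (.leaf 0xb0a0f0003) (.leaf 0xf0b0a0a0004)))) (.node 72474 (.node 72472 (.leaf 0x603010207020007010009) (.node 72473 (.leaf 0x0) (.leaf 0xa0f0b0b0004))) (.node 72475 (.leaf 0x0) (.node 72476 (.leaf 0x11b1a011b16) (.leaf 0x4000406030500040008))))))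

def argWS_6422 : Store := (.node 72454 argWS_6420 argWS_6421)

def argWS_6423 : Store := (.node 72488 (.node 72482 (.node 72479 (.node 72478 (.leaf 0x0) (.leaf 0xf0b0b0003)) (.node 72480 (.leaf 0x0) (.node 72481 (.leaf 0xe0a0a0003) (.leaf 0x0)))) (.node 72485 (.node 72483 (.leaf 0x0) (.node 72484 (.leaf 0xf0b0a0003) (.leaf 0xe0001))) (.node 72486 (.leaf 0xf0a0002) (.node 72487 (.leaf 0xa0f0b0b0004) (.leaf 0xb0b0a0003))))) (.node 72493 (.node 72490 (.node 72489 (.leaf 0x11b27011b26) (.leaf 0xa0f0b0003)) (.node 72491 (.leaf 0x0) (.node 72492 (.leaf 0xb0f0a0a0004) (.leaf 0x0)))) (.node 72496 (.node 72494 (.leaf 0x0) (.node 72495 (.leaf 0xb0a0f0003) (.leaf 0x80000020804000802040105000c))) (.node 72497 (.leaf 0x0) (.node 72498 (.leaf 0x0) (.leaf 0x11b31011b2e))))))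

def argWS_6424 : Store := (.node 72510 (.node 72504 (.node 72501 (.node 72500 (.leaf 0xf0b0b0a0a0005) (.leaf 0x0)) (.node 72502 (.leaf 0xb0b0a0003) (.node 72503 (.leaf 0x0) (.leaf 0x0)))) (.node 72507 (.node 72505 (.leaf 0xb0b0a0003) (.node 72506 (.leaf 0x5000006030500040802040105000d) (.leaf 0x0))) (.node 72508 (.leaf 0xe0d0002) (.node 72509 (.leaf 0x0) (.leaf 0xb0a0002))))) (.node 72516 (.node 72513 (.node 72511 (.leaf 0x11b3d011b3c) (.node 72512 (.leaf 0xf0a0002) (.leaf 0x0))) (.node 72514 (.leaf 0x0) (.node 72515 (.leaf 0xf0a0002) (.leaf 0xa0f0002)))) (.node 72519 (.node 72517 (.leaf 0xf0b0a0a0004) (.node 72518 (.leaf 0x11b44011b43) (.leaf 0xf0001))) (.node 72520 (.leaf 0x0) (.node 72521 (.leaf 0xe0001) (.leaf 0x0))))))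

def argWS_6425 : Store := (.node 72499 argWS_6423 argWS_6424)

def argWS_6426 : Store := (.node 72477 argWS_6422 argWS_6425)

def argWS_6427 : Store := (.node 72432 argWS_6419 argWS_6426)

def argWS_6428 : Store := (.node 72342 argWS_6412 argWS_6427)

def argWS_6429 : Store := (.node 72533 (.node 72527 (.node 72524 (.node 72523 (.leaf 0x0) (.leaf 0xf0a0002)) (.node 72525 (.leaf 0xf0b0002) (.node 72526 (.leaf 0x11b4c000e2b) (.leaf 0xb0a0a0003)))) (.node 72530 (.node 72528 (.leaf 0x0) (.node 72529 (.leaf 0xb0f0002) (.leaf 0x0))) (.node 72531 (.leaf 0x0) (.node 72532 (.leaf 0x5030901090202000701000b) (.leaf 0x0))))) (.node 72538 (.node 72535 (.node 72534 (.leaf 0xa0a0002) (.leaf 0x0)) (.node 72536 (.leaf 0x80200070206000202000701000c) (.node 72537 (.leaf 0x0) (.leaf 0xa0f0002)))) (.node 72541 (.node 72539 (.leaf 0x0) (.node 72540 (.leaf 0x11b5a011b56) (.leaf 0x0))) (.node 72542 (.leaf 0xe0d0002) (.node 72543 (.leaf 0x0) (.leaf 0x0))))))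

def argWS_6430 : Store := (.node 72555 (.node 72549 (.node 72546 (.node 72545 (.leaf 0xf0a0a0003) (.leaf 0x11b60)) (.node 72547 (.leaf 0xd0001) (.node 72548 (.leaf 0x0) (.leaf 0xf0b0b0003)))) (.node 72552 (.node 72550 (.leaf 0x0) (.node 72551 (.leaf 0x0) (.leaf 0xa0001))) (.node 72553 (.leaf 0xb0b0a0a0004) (.node 72554 (.leaf 0xa0a0002) (.leaf 0xa71a011b69))))) (.node 72561 (.node 72558 (.node 72556 (.leaf 0xe0d0002) (.node 72557 (.leaf 0x0) (.leaf 0xa0f0b0b0004))) (.node 72559 (.leaf 0x0) (.node 72560 (.leaf 0x0) (.leaf 0x209000009000703040103000c)))) (.node 72564 (.node 72562 (.leaf 0x0) (.node 72563 (.leaf 0xa0f0b0b0004) (.leaf 0x0))) (.node 72565 (.leaf 0xf0001) (.node 72566 (.leaf 0xb0b0002) (.leaf 0x11b75011b74))))))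

def argWS_6431 : Store := (.node 72544 argWS_6429 argWS_6430)

def argWS_6432 : Store := (.node 72578 (.node 72572 (.node 72569 (.node 72568 (.leaf 0xd0b0b0003) (.leaf 0x0)) (.node 72570 (.leaf 0x6030007030401030008) (.node 72571 (.leaf 0x0) (.leaf 0xa0f0b0b0004)))) (.node 72575 (.node 72573 (.leaf 0xb0a0a0003) (.node 72574 (.leaf 0xf0b0b0a0004) (.leaf 0xa0f0002))) (.node 72576 (.leaf 0x304020901060802040105000b) (.node 72577 (.leaf 0x0) (.leaf 0xa0f0b0b0004))))) (.node 72583 (.node 72580 (.node 72579 (.leaf 0x0) (.leaf 0x11b82011b7e)) (.node 72581 (.leaf 0x60000020703000703040103000c) (.node 72582 (.leaf 0x0) (.leaf 0xa0f0002)))) (.node 72586 (.node 72584 (.leaf 0x0) (.node 72585 (.leaf 0xb0b0002) (.leaf 0x0))) (.node 72587 (.leaf 0x0) (.node 72588 (.leaf 0x304060308020401050009) (.leaf 0x0))))))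

def argWS_6433 : Store := (.node 72600 (.node 72594 (.node 72591 (.node 72590 (.leaf 0xa0f0b0b0004) (.leaf 0x0)) (.node 72592 (.leaf 0x11b8e) (.node 72593 (.leaf 0xe0d0002) (.leaf 0x0)))) (.node 72597 (.node 72595 (.leaf 0xb0b0a0a0004) (.node 72596 (.leaf 0x0) (.leaf 0x0))) (.node 72598 (.leaf 0x603010401050006) (.node 72599 (.leaf 0x0) (.leaf 0xb0a0a0003))))) (.node 72606 (.node 72603 (.node 72601 (.leaf 0x0) (.node 72602 (.leaf 0x11b98) (.leaf 0xe0001))) (.node 72604 (.leaf 0x0) (.node 72605 (.leaf 0xe0001) (.leaf 0x0)))) (.node 72609 (.node 72607 (.leaf 0x0) (.node 72608 (.leaf 0xb0b0a0a0004) (.leaf 0xe0a0002))) (.node 72610 (.leaf 0x11ba000f178) (.node 72611 (.leaf 0x50006030500040202000701000c) (.leaf 0x0))))))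

def argWS_6434 : Store := (.node 72589 argWS_6432 argWS_6433)

def argWS_6435 : Store := (.node 72567 argWS_6431 argWS_6434)

def argWS_6436 : Store := (.node 72623 (.node 72617 (.node 72614 (.node 72613 (.leaf 0xb0001) (.leaf 0x0)) (.node 72615 (.leaf 0xa0f0b0003) (.node 72616 (.leaf 0x0) (.leaf 0x0)))) (.node 72620 (.node 72618 (.leaf 0xb0b0a0a0004) (.node 72619 (.leaf 0xf0a0a0003) (.leaf 0xb0a0f0003))) (.node 72621 (.leaf 0x700090206020802040105000b) (.node 72622 (.leaf 0x0) (.leaf 0xe0001))))) (.node 72628 (.node 72625 (.node 72624 (.leaf 0x0) (.leaf 0xb0a0002)) (.node 72626 (.leaf 0x11bb0011baf) (.node 72627 (.leaf 0xa0f0b0003) (.leaf 0x0)))) (.node 72631 (.node 72629 (.leaf 0x2000004080703040103000a) (.node 72630 (.leaf 0x0) (.leaf 0xb0b0a0003))) (.node 72632 (.leaf 0xe0a0a0003) (.node 72633 (.leaf 0xb0a0a0003) (.leaf 0x11bb8))))))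

def argWS_6437 : Store := (.node 72645 (.node 72639 (.node 72636 (.node 72635 (.leaf 0x104000408010006) (.leaf 0x0)) (.node 72637 (.leaf 0xa0f0b0003) (.node 72638 (.leaf 0x0) (.leaf 0xa0f0002)))) (.node 72642 (.node 72640 (.leaf 0x0) (.node 72641 (.leaf 0x0) (.leaf 0x503050007030401030009))) (.node 72643 (.leaf 0x0) (.node 72644 (.leaf 0xd0b0002) (.leaf 0x0))))) (.node 72651 (.node 72648 (.node 72646 (.leaf 0x11bc4) (.node 72647 (.leaf 0x402090000000703040103000b) (.leaf 0x0))) (.node 72649 (.leaf 0xb0f0002) (.node 72650 (.leaf 0x0) (.leaf 0xf0b0b0a0004)))) (.node 72654 (.node 72652 (.leaf 0x0) (.node 72653 (.leaf 0x0) (.leaf 0xf0b0b0a0a0005))) (.node 72655 (.leaf 0xf0001) (.node 72656 (.leaf 0x11bce) (.leaf 0xe0d0002))))))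

def argWS_6438 : Store := (.node 72634 argWS_6436 argWS_6437)

def argWS_6439 : Store := (.node 72668 (.node 72662 (.node 72659 (.node 72658 (.leaf 0x0) (.leaf 0xe0a0a0003)) (.node 72660 (.leaf 0x0) (.node 72661 (.leaf 0x0) (.leaf 0xe0a0002)))) (.node 72665 (.node 72663 (.leaf 0x0) (.node 72664 (.leaf 0x90400090206020202000701000c) (.leaf 0x0))) (.node 72666 (.leaf 0xe0d0002) (.node 72667 (.leaf 0x0) (.leaf 0x80002))))) (.node 72673 (.node 72670 (.node 72669 (.leaf 0x0) (.leaf 0xb0b0a0a0004)) (.node 72671 (.leaf 0x0) (.node 72672 (.leaf 0x11bde011bda) (.leaf 0xa0a0002)))) (.node 72676 (.node 72674 (.leaf 0x0) (.node 72675 (.leaf 0xf0b0b0003) (.leaf 0x0))) (.node 72677 (.leaf 0x0) (.node 72678 (.leaf 0xb0a0a0003) (.leaf 0xd0001))))))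

def argWS_6440 : Store := (.node 72690 (.node 72684 (.node 72681 (.node 72680 (.leaf 0xf0b0a0a0004) (.leaf 0x11be7011be6)) (.node 72682 (.leaf 0x10502090806000007) (.node 72683 (.leaf 0x0) (.leaf 0xf0b0a0003)))) (.node 72687 (.node 72685 (.leaf 0x0) (.node 72686 (.leaf 0xe0a0a0003) (.leaf 0x0))) (.node 72688 (.leaf 0x0) (.node 72689 (.leaf 0xf0b0b0a0004) (.leaf 0xd0b0002))))) (.node 72696 (.node 72693 (.node 72691 (.leaf 0x601050002000703040103000b) (.node 72692 (.leaf 0x0) (.leaf 0xb0a0a0003))) (.node 72694 (.leaf 0x0) (.node 72695 (.leaf 0xb0f0002) (.leaf 0xb0b0a0a0004)))) (.node 72699 (.node 72697 (.leaf 0x11bf7011bf6) (.node 72698 (.leaf 0xf0001) (.leaf 0x0))) (.node 72700 (.leaf 0xb0b0a0a0004) (.node 72701 (.leaf 0x0) (.leaf 0x0))))))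

def argWS_6441 : Store := (.node 72679 argWS_6439 argWS_6440)

def argWS_6442 : Store := (.node 72657 argWS_6438 argWS_6441)

def argWS_6443 : Store := (.node 72612 argWS_6435 argWS_6442)

def argWS_6444 : Store := (.node 72713 (.node 72707 (.node 72704 (.node 72703 (.leaf 0xb0f0a0003) (.leaf 0xf0b0a0003)) (.node 72705 (.leaf 0xf0a0a0003) (.node 72706 (.leaf 0xd0b0002) (.leaf 0xa0f0002)))) (.node 72710 (.node 72708 (.leaf 0x11c02011c01) (.node 72709 (.leaf 0xb0b0002) (.leaf 0x0))) (.node 72711 (.leaf 0xa0f0002) (.node 72712 (.leaf 0x0) (.leaf 0x0))))) (.node 72718 (.node 72715 (.node 72714 (.leaf 0xb0b0002) (.leaf 0x902010900090802040105000b)) (.node 72716 (.leaf 0x0) (.node 72717 (.leaf 0xe0001) (.leaf 0x0)))) (.node 72721 (.node 72719 (.leaf 0xf0b0b0a0a0005) (.node 72720 (.leaf 0x11c0e011c0d) (.leaf 0x40300020000030703040103000c))) (.node 72722 (.leaf 0x0) (.node 72723 (.leaf 0xb0b0002) (.leaf 0x0))))))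

def argWS_6445 : Store := (.node 72735 (.node 72729 (.node 72726 (.node 72725 (.leaf 0xa0f0b0b0004) (.leaf 0x0)) (.node 72727 (.leaf 0x0) (.node 72728 (.leaf 0xe0a0a0003) (.leaf 0xf0b0a0003)))) (.node 72732 (.node 72730 (.leaf 0x11c18) (.node 72731 (.leaf 0xf0b0a0a0004) (.leaf 0x0))) (.node 72733 (.leaf 0xf0a0002) (.node 72734 (.leaf 0x0) (.leaf 0x0))))) (.node 72741 (.node 72738 (.node 72736 (.leaf 0xb0a0f0003) (.node 72737 (.leaf 0xb0a0a0003) (.leaf 0x50106060004))) (.node 72739 (.leaf 0x0) (.node 72740 (.leaf 0xb0b0a0003) (.leaf 0x0)))) (.node 72744 (.node 72742 (.leaf 0x11c1f011c24) (.node 72743 (.leaf 0xd0b0002) (.leaf 0x0))) (.node 72745 (.leaf 0xf0b0a0a0004) (.node 72746 (.leaf 0x0) (.leaf 0x0))))))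

def argWS_6446 : Store := (.node 72724 argWS_6444 argWS_6445)

def argWS_6447 : Store := (.node 72758 (.node 72752 (.node 72749 (.node 72748 (.leaf 0xf0a0002) (.leaf 0xb0a0a0003)) (.node 72750 (.leaf 0xb0b0a0003) (.node 72751 (.leaf 0xe0d0002) (.leaf 0x11c2e)))) (.node 72755 (.node 72753 (.leaf 0xf0b0b0003) (.node 72754 (.leaf 0x0) (.leaf 0xb0001))) (.node 72756 (.leaf 0x0) (.node 72757 (.leaf 0x0) (.leaf 0x5570))))) (.node 72763 (.node 72760 (.node 72759 (.leaf 0x2090303080005) (.leaf 0x0)) (.node 72761 (.leaf 0xa0001) (.node 72762 (.leaf 0x0) (.leaf 0xb0a0f0003)))) (.node 72766 (.node 72764 (.leaf 0x0) (.node 72765 (.leaf 0x0) (.leaf 0xeb4f))) (.node 72767 (.leaf 0xf0b0002) (.node 72768 (.leaf 0x0) (.leaf 0xb0f0a0003))))))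

def argWS_6448 : Store := (.node 72780 (.node 72774 (.node 72771 (.node 72770 (.leaf 0x0) (.leaf 0x0)) (.node 72772 (.leaf 0xd0b0002) (.node 72773 (.leaf 0x11bf1) (.leaf 0xf0b0002)))) (.node 72777 (.node 72775 (.leaf 0x0) (.node 72776 (.leaf 0xf0b0a0a0004) (.leaf 0x0))) (.node 72778 (.leaf 0x0) (.node 72779 (.leaf 0xb0a0a0003) (.leaf 0x801090206020006))))) (.node 72786 (.node 72783 (.node 72781 (.leaf 0x0) (.node 72782 (.leaf 0x0) (.leaf 0x209020901060202000701000b))) (.node 72784 (.leaf 0x0) (.node 72785 (.leaf 0x0) (.leaf 0x11c50011c4d)))) (.node 72789 (.node 72787 (.leaf 0xf0b0b0003) (.node 72788 (.leaf 0x0) (.leaf 0xb0a0002))) (.node 72790 (.leaf 0x0) (.node 72791 (.leaf 0x0) (.leaf 0xa0f0b0b0004))))))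

def argWS_6449 : Store := (.node 72769 argWS_6447 argWS_6448)

def argWS_6450 : Store := (.node 72747 argWS_6446 argWS_6449)

def argWS_6451 : Store := (.node 72803 (.node 72797 (.node 72794 (.node 72793 (.leaf 0xa0f0b0003) (.leaf 0x0)) (.node 72795 (.leaf 0xf07b011c59) (.node 72796 (.leaf 0xb0f0002) (.leaf 0x0)))) (.node 72800 (.node 72798 (.leaf 0xf0a0002) (.node 72799 (.leaf 0x0) (.leaf 0x0))) (.node 72801 (.leaf 0xf0b0b0003) (.node 72802 (.leaf 0xa0a0002) (.leaf 0xf0001))))) (.node 72808 (.node 72805 (.node 72804 (.leaf 0xe0d0002) (.leaf 0xa0f0b0b0004)) (.node 72806 (.leaf 0x11c64011c63) (.node 72807 (.leaf 0xd0001) (.leaf 0x0)))) (.node 72811 (.node 72809 (.leaf 0xb0a0f0003) (.node 72810 (.leaf 0x0) (.leaf 0x0))) (.node 72812 (.leaf 0xd0b0b0003) (.node 72813 (.leaf 0xd0001) (.leaf 0x9e2011c6c))))))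

def argWS_6452 : Store := (.node 72825 (.node 72819 (.node 72816 (.node 72815 (.leaf 0x1090007030401030008) (.leaf 0x0)) (.node 72817 (.leaf 0xb0a0002) (.node 72818 (.leaf 0x0) (.leaf 0xe0001)))) (.node 72822 (.node 72820 (.leaf 0x0) (.node 72821 (.leaf 0x0) (.leaf 0xa0001))) (.node 72823 (.leaf 0xa0f0b0b0004) (.node 72824 (.leaf 0x11c76) (.leaf 0xb0a0002))))) (.node 72831 (.node 72828 (.node 72826 (.leaf 0x0) (.node 72827 (.leaf 0xb0b0a0a0004) (.leaf 0x0))) (.node 72829 (.leaf 0x0) (.node 72830 (.leaf 0xf0b0a0003) (.leaf 0xb0b0a0003)))) (.node 72834 (.node 72832 (.leaf 0x11c7e) (.node 72833 (.leaf 0xf0a0002) (.leaf 0x0))) (.node 72835 (.leaf 0xb0f0a0003) (.node 72836 (.leaf 0x0) (.leaf 0x0))))))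

def argWS_6453 : Store := (.node 72814 argWS_6451 argWS_6452)

def argWS_6454 : Store := (.node 72848 (.node 72842 (.node 72839 (.node 72838 (.leaf 0xb0b0a0003) (.leaf 0x205090000090802040105000b)) (.node 72840 (.leaf 0x0) (.node 72841 (.leaf 0xf0b0b0003) (.leaf 0x0)))) (.node 72845 (.node 72843 (.leaf 0x11c89) (.node 72844 (.leaf 0xb0001) (.leaf 0x0))) (.node 72846 (.leaf 0xd0b0b0003) (.node 72847 (.leaf 0x0) (.leaf 0x0))))) (.node 72854 (.node 72851 (.node 72849 (.leaf 0xb0f0002) (.node 72850 (.leaf 0xb0a0f0003) (.leaf 0xb0b0a0003))) (.node 72852 (.leaf 0x11c92011c91) (.node 72853 (.leaf 0xe0001) (.leaf 0x0)))) (.node 72857 (.node 72855 (.leaf 0xb0a0002) (.node 72856 (.leaf 0x0) (.leaf 0x0))) (.node 72858 (.leaf 0xa0a0002) (.node 72859 (.leaf 0xb0a0002) (.leaf 0x11c9a))))))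

def argWS_6455 : Store := (.node 72871 (.node 72865 (.node 72862 (.node 72861 (.leaf 0x200020901060006) (.leaf 0x0)) (.node 72863 (.leaf 0xf0a0002) (.node 72864 (.leaf 0x0) (.leaf 0xb0a0a0003)))) (.node 72868 (.node 72866 (.leaf 0x0) (.node 72867 (.leaf 0x0) (.leaf 0xf0001))) (.node 72869 (.leaf 0xf0a0a0003) (.node 72870 (.leaf 0xf0b0b0a0a0005) (.leaf 0x11ca5011ca4))))) (.node 72877 (.node 72874 (.node 72872 (.leaf 0xf0b0b0a0a0005) (.node 72873 (.leaf 0x0) (.leaf 0x0))) (.node 72875 (.leaf 0xb0b0002) (.node 72876 (.leaf 0xf0001) (.leaf 0xf0b0b0a0004)))) (.node 72880 (.node 72878 (.leaf 0x11cac) (.node 72879 (.leaf 0x102010308000703040103000b) (.leaf 0x0))) (.node 72881 (.leaf 0xe0a0002) (.node 72882 (.leaf 0x0) (.leaf 0xb0f0a0a0004))))))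

def argWS_6456 : Store := (.node 72860 argWS_6454 argWS_6455)

def argWS_6457 : Store := (.node 72837 argWS_6453 argWS_6456)

def argWS_6458 : Store := (.node 72792 argWS_6450 argWS_6457)

def argWS_6459 : Store := (.node 72702 argWS_6443 argWS_6458)

def argWS_6460 : Store := (.node 72522 argWS_6428 argWS_6459)

def argWS_6461 : Store := (.node 72894 (.node 72888 (.node 72885 (.node 72884 (.leaf 0x0) (.leaf 0x0)) (.node 72886 (.leaf 0xb0a0f0003) (.node 72887 (.leaf 0xe0d0002) (.leaf 0x502000003010802040105000b)))) (.node 72891 (.node 72889 (.leaf 0x0) (.node 72890 (.leaf 0xa0f0002) (.leaf 0x0))) (.node 72892 (.leaf 0xa0f0b0003) (.node 72893 (.leaf 0x11cbb011cba) (.leaf 0xb0b0002))))) (.node 72899 (.node 72896 (.node 72895 (.leaf 0x0) (.leaf 0xb0b0a0a0004)) (.node 72897 (.leaf 0x0) (.node 72898 (.leaf 0x0) (.leaf 0x90106010500020202000701000c)))) (.node 72902 (.node 72900 (.leaf 0x0) (.node 72901 (.leaf 0xb0f0002) (.leaf 0x0))) (.node 72903 (.leaf 0xb0b0a0a0004)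 (.node 72904 (.leaf 0xb0a0f0003) (.leaf 0x11cc7011cc6))))))

def argWS_6462 : Store := (.node 72916 (.node 72910 (.node 72907 (.node 72906 (.leaf 0xa0001) (.leaf 0x0)) (.node 72908 (.leaf 0x106020702010802040105000b) (.node 72909 (.leaf 0x0) (.leaf 0xf0001)))) (.node 72913 (.node 72911 (.leaf 0xb0001) (.node 72912 (.leaf 0x11cce) (.leaf 0xe0d0002))) (.node 72914 (.leaf 0x0) (.node 72915 (.leaf 0x0) (.leaf 0xb0001))))) (.node 72922 (.node 72919 (.node 72917 (.leaf 0xf0b0b0003) (.node 72918 (.leaf 0xb0001) (.leaf 0x11cd5011cd4))) (.node 72920 (.leaf 0xb0f0a0003) (.node 72921 (.leaf 0x0) (.leaf 0xa0001)))) (.node 72925 (.node 72923 (.leaf 0x0) (.node 72924 (.leaf 0x0) (.leaf 0xf0b0002))) (.node 72926 (.leaf 0xb0f0002) (.node 72927 (.leaf 0xbb5e011cdd) (.leaf 0xf0b0b0a0a0005))))))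

def argWS_6463 : Store := (.node 72905 argWS_6461 argWS_6462)

def argWS_6464 : Store := (.node 72939 (.node 72933 (.node 72930 (.node 72929 (.leaf 0x0) (.leaf 0xf0b0a0003)) (.node 72931 (.leaf 0x0) (.node 72932 (.leaf 0x0) (.leaf 0xd0b0002)))) (.node 72936 (.node 72934 (.leaf 0x20506030500040007) (.node 72935 (.leaf 0x0) (.leaf 0xf0b0b0a0004))) (.node 72937 (.leaf 0x0) (.node 72938 (.leaf 0xf0001) (.leaf 0x11ce9011ce8))))) (.node 72944 (.node 72941 (.node 72940 (.leaf 0x101020901060802040105000b) (.leaf 0x0)) (.node 72942 (.leaf 0xf0b0b0a0004) (.node 72943 (.leaf 0x0) (.leaf 0xa0001)))) (.node 72947 (.node 72945 (.leaf 0x0) (.node 72946 (.leaf 0x0) (.leaf 0x503090000090007))) (.node 72948 (.leaf 0x0) (.node 72949 (.leaf 0xa0f0b0b0004) (.leaf 0x0))))))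

def argWS_6465 : Store := (.node 72961 (.node 72955 (.node 72952 (.node 72951 (.leaf 0x11cf5) (.leaf 0xf0b0b0a0a0005)) (.node 72953 (.leaf 0x0) (.node 72954 (.leaf 0xb0b0a0a0004) (.leaf 0x0)))) (.node 72958 (.node 72956 (.leaf 0x0) (.node 72957 (.leaf 0xd56d) (.leaf 0x303050004000703040103000b))) (.node 72959 (.leaf 0x0) (.node 72960 (.leaf 0xf0b0b0a0004) (.leaf 0x0))))) (.node 72967 (.node 72964 (.node 72962 (.leaf 0xf0b0a0a0004) (.node 72963 (.leaf 0x0) (.leaf 0x0))) (.node 72965 (.leaf 0x201090402000703040103000c) (.node 72966 (.leaf 0x0) (.leaf 0xd0001)))) (.node 72970 (.node 72968 (.leaf 0x0) (.node 72969 (.leaf 0xf0a0a0003) (.leaf 0x11d08))) (.node 72971 (.leaf 0xa0001) (.node 72972 (.leaf 0x0) (.leaf 0x8030002010606000703040103000d))))))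

def argWS_6466 : Store := (.node 72950 argWS_6464 argWS_6465)

def argWS_6467 : Store := (.node 72928 argWS_6463 argWS_6466)

def argWS_6468 : Store := (.node 72984 (.node 72978 (.node 72975 (.node 72974 (.leaf 0x0) (.leaf 0xa0f0002)) (.node 72976 (.leaf 0xe0a0002) (.node 72977 (.leaf 0x11d0f) (.leaf 0x60601070209020802040105000c)))) (.node 72981 (.node 72979 (.leaf 0x0) (.node 72980 (.leaf 0xa0f0002) (.leaf 0x0))) (.node 72982 (.leaf 0x0) (.node 72983 (.leaf 0xa0001) (.leaf 0xb0f0002))))) (.node 72989 (.node 72986 (.node 72985 (.leaf 0xf0a0002) (.leaf 0x11d18011d17)) (.node 72987 (.leaf 0x90700020804000802040105000c) (.node 72988 (.leaf 0x0) (.leaf 0x0)))) (.node 72992 (.node 72990 (.leaf 0xb0001) (.node 72991 (.leaf 0x0) (.leaf 0x0))) (.node 72993 (.leaf 0xa0a0002) (.node 72994 (.leaf 0xf0a0a0003) (.leaf 0xb0b0002))))))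

def argWS_6469 : Store := (.node 73006 (.node 73000 (.node 72997 (.node 72996 (.leaf 0x11d22011d21) (.leaf 0xb0a0002)) (.node 72998 (.leaf 0x0) (.node 72999 (.leaf 0x70900090004) (.leaf 0x0)))) (.node 73003 (.node 73001 (.leaf 0xe0001) (.node 73002 (.leaf 0xb0a0a0003) (.leaf 0x404020603000703040103000b))) (.node 73004 (.leaf 0x0) (.node 73005 (.leaf 0xb0001) (.leaf 0x0))))) (.node 73012 (.node 73009 (.node 73007 (.leaf 0x11d2d004b32) (.node 73008 (.leaf 0xf0a0002) (.leaf 0x0))) (.node 73010 (.leaf 0xa0f0002) (.node 73011 (.leaf 0x0) (.leaf 0x0)))) (.node 73015 (.node 73013 (.leaf 0xf0b0a0003) (.node 73014 (.leaf 0xe0a0a0003) (.leaf 0x0))) (.node 73016 (.leaf 0x11d36) (.node 73017 (.leaf 0x900000003) (.leaf 0x0))))))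

def argWS_6470 : Store := (.node 72995 argWS_6468 argWS_6469)

def argWS_6471 : Store := (.node 73029 (.node 73023 (.node 73020 (.node 73019 (.leaf 0xb0a0002) (.leaf 0x0)) (.node 73021 (.leaf 0xb0f0a0a0004) (.node 73022 (.leaf 0x0) (.leaf 0x0)))) (.node 73026 (.node 73024 (.leaf 0x602020900000007) (.node 73025 (.leaf 0x0) (.leaf 0xf0b0a0a0004))) (.node 73027 (.leaf 0x0) (.node 73028 (.leaf 0xf0b0b0a0a0005) (.leaf 0xf0b0b0a0004))))) (.node 73034 (.node 73031 (.node 73030 (.leaf 0x11d44011d43) (.leaf 0xb0b0a0003)) (.node 73032 (.leaf 0x0) (.node 73033 (.leaf 0x4020202010005) (.leaf 0x0)))) (.node 73037 (.node 73035 (.leaf 0xa0001) (.node 73036 (.leaf 0xa0a0002) (.leaf 0xa0001))) (.node 73038 (.leaf 0x0) (.node 73039 (.leaf 0xf0a0002) (.leaf 0x11d4e011d4d))))))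

def argWS_6472 : Store := (.node 73051 (.node 73045 (.node 73042 (.node 73041 (.leaf 0x60501090806000202000701000c) (.leaf 0x0)) (.node 73043 (.leaf 0xd0001) (.node 73044 (.leaf 0x0) (.leaf 0xb0f0002)))) (.node 73048 (.node 73046 (.leaf 0x0) (.node 73047 (.leaf 0x0) (.leaf 0xb0f0002))) (.node 73049 (.leaf 0xf0b0b0a0004) (.node 73050 (.leaf 0x11d5800e795) (.leaf 0xe0d0002))))) (.node 73057 (.node 73054 (.node 73052 (.leaf 0x0) (.node 73053 (.leaf 0xa0f0b0003) (.leaf 0x0))) (.node 73055 (.leaf 0x0) (.node 73056 (.leaf 0xf0a0a0003) (.leaf 0x703050308000703040103000b)))) (.node 73060 (.node 73058 (.leaf 0x0) (.node 73059 (.leaf 0xe0001) (.leaf 0x0))) (.node 73061 (.leaf 0xf0a0002) (.node 73062 (.leaf 0x11d64011d63) (.leaf 0xd0b0b0003))))))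

def argWS_6473 : Store := (.node 73040 argWS_6471 argWS_6472)

def argWS_6474 : Store := (.node 73018 argWS_6470 argWS_6473)

def argWS_6475 : Store := (.node 72973 argWS_6467 argWS_6474)

def argWS_6476 : Store := (.node 73074 (.node 73068 (.node 73065 (.node 73064 (.leaf 0x0) (.leaf 0xd0b0002)) (.node 73066 (.leaf 0x0) (.node 73067 (.leaf 0xb0a0a0003) (.leaf 0x901040007030401030009)))) (.node 73071 (.node 73069 (.leaf 0x0) (.node 73070 (.leaf 0xb0a0a0003) (.leaf 0x0))) (.node 73072 (.leaf 0x11d6e006add) (.node 73073 (.leaf 0x2000603050004000703040103000e) (.leaf 0x0))))) (.node 73079 (.node 73076 (.node 73075 (.leaf 0xf0b0a0a0004) (.leaf 0x0)) (.node 73077 (.leaf 0xf0b0002) (.node 73078 (.leaf 0x0) (.leaf 0x0)))) (.node 73082 (.node 73080 (.leaf 0xa0f0b0003) (.node 73081 (.leaf 0xa0a0002) (.leaf 0xd0001))) (.node 73083 (.leaf 0x11d79011d78) (.node 73084 (.leaf 0xd0b0b0003) (.leaf 0x0))))))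

def argWS_6477 : Store := (.node 73096 (.node 73090 (.node 73087 (.node 73086 (.leaf 0x70003080004) (.leaf 0x0)) (.node 73088 (.leaf 0xb0001) (.node 73089 (.leaf 0xf0b0a0003) (.leaf 0xf0a0002)))) (.node 73093 (.node 73091 (.leaf 0x11d81) (.node 73092 (.leaf 0xe0a0002) (.leaf 0x0))) (.node 73094 (.leaf 0xb0a0f0003) (.node 73095 (.leaf 0x0) (.leaf 0x0))))) (.node 73102 (.node 73099 (.node 73097 (.leaf 0x500090206020802040105000b) (.node 73098 (.leaf 0x0) (.leaf 0xf0b0b0a0004))) (.node 73100 (.leaf 0x0) (.node 73101 (.leaf 0x11d8b) (.leaf 0xb0b0a0003)))) (.node 73105 (.node 73103 (.leaf 0x0) (.node 73104 (.leaf 0xb0f0a0a0004) (.leaf 0x0))) (.node 73106 (.leaf 0x0) (.node 73107 (.leaf 0xe0a0002) (.leaf 0xb0b0a0a0004))))))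

def argWS_6478 : Store := (.node 73085 argWS_6476 argWS_6477)

def argWS_6479 : Store := (.node 73119 (.node 73113 (.node 73110 (.node 73109 (.leaf 0x11d93) (.leaf 0xf0a0002)) (.node 73111 (.leaf 0x0) (.node 73112 (.leaf 0xf0b0b0a0a0005) (.leaf 0x0)))) (.node 73116 (.node 73114 (.leaf 0x0) (.node 73115 (.leaf 0x10202010703060202000701000c) (.leaf 0x0))) (.node 73117 (.leaf 0xd0b0002) (.node 73118 (.leaf 0x0) (.leaf 0x304030308000703040103000b))))) (.node 73124 (.node 73121 (.node 73120 (.leaf 0x0) (.leaf 0xf0a0002)) (.node 73122 (.leaf 0x0) (.node 73123 (.leaf 0xf0b0b0a0a0005) (.leaf 0x11da2011da1)))) (.node 73127 (.node 73125 (.leaf 0xa0f0b0003) (.node 73126 (.leaf 0x0) (.leaf 0xf0a0a0003))) (.node 73128 (.leaf 0x0) (.node 73129 (.leaf 0x0) (.leaf 0xd0001))))))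

def argWS_6480 : Store := (.node 73141 (.node 73135 (.node 73132 (.node 73131 (.leaf 0xb0001) (.leaf 0xb0a0a0003)) (.node 73133 (.leaf 0xa0f0b0b0004) (.node 73134 (.leaf 0x11dac011dab) (.leaf 0x101060207020703040103000b)))) (.node 73138 (.node 73136 (.leaf 0x0) (.node 73137 (.leaf 0xf0001) (.leaf 0x0))) (.node 73139 (.leaf 0xb0001) (.node 73140 (.leaf 0x0) (.leaf 0x0))))) (.node 73147 (.node 73144 (.node 73142 (.leaf 0xe0001) (.node 73143 (.leaf 0xf0a0002) (.leaf 0x11db6011db5))) (.node 73145 (.leaf 0xa0a0002) (.node 73146 (.leaf 0x0) (.leaf 0xf0b0b0a0a0005)))) (.node 73150 (.node 73148 (.leaf 0x0) (.node 73149 (.leaf 0x0) (.leaf 0xb0f0a0003))) (.node 73151 (.leaf 0xb0a0f0003) (.node 73152 (.leaf 0x60601020106060802040105000c) (.leaf 0x0))))))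

def argWS_6481 : Store := (.node 73130 argWS_6479 argWS_6480)

def argWS_6482 : Store := (.node 73108 argWS_6478 argWS_6481)

def argWS_6483 : Store := (.node 73164 (.node 73158 (.node 73155 (.node 73154 (.leaf 0xb0b0a0003) (.leaf 0x0)) (.node 73156 (.leaf 0x11dc2011dbe) (.node 73157 (.leaf 0xb0001) (.leaf 0x0)))) (.node 73161 (.node 73159 (.leaf 0x3070006010500020008) (.node 73160 (.leaf 0x0) (.leaf 0xe0a0002))) (.node 73162 (.leaf 0xf0a0002) (.node 73163 (.leaf 0xb0a0a0003) (.leaf 0x2060900090005))))) (.node 73169 (.node 73166 (.node 73165 (.leaf 0x0) (.leaf 0xb0001)) (.node 73167 (.leaf 0x0) (.node 73168 (.leaf 0x1157d011dce) (.leaf 0xe0d0002)))) (.node 73172 (.node 73170 (.leaf 0x0) (.node 73171 (.leaf 0xf0b0b0a0a0005) (.leaf 0x0))) (.node 73173 (.leaf 0x0) (.node 73174 (.leaf 0x90106020702010802040105000c) (.leaf 0x0))))))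

def argWS_6484 : Store := (.node 73186 (.node 73180 (.node 73177 (.node 73176 (.leaf 0xe0a0002) (.leaf 0x0)) (.node 73178 (.leaf 0x145d011dd8) (.node 73179 (.leaf 0x700000207030802040105000b) (.leaf 0x0)))) (.node 73183 (.node 73181 (.leaf 0x0) (.node 73182 (.leaf 0xe0001) (.leaf 0x0))) (.node 73184 (.leaf 0x0) (.node 73185 (.leaf 0xb0a0002) (.leaf 0xe0a0002))))) (.node 73192 (.node 73189 (.node 73187 (.leaf 0x11de1) (.node 73188 (.leaf 0xb0b0a0003) (.leaf 0x0))) (.node 73190 (.leaf 0xd0001) (.node 73191 (.leaf 0x0) (.leaf 0x0)))) (.node 73195 (.node 73193 (.leaf 0xb0f0a0a0004) (.node 73194 (.leaf 0xa0a0002) (.leaf 0x500090402000703040103000b))) (.node 73196 (.leaf 0x0) (.node 73197 (.leaf 0xf0b0a0a0004) (.leaf 0x0))))))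

def argWS_6485 : Store := (.node 73175 argWS_6483 argWS_6484)

def argWS_6486 : Store := (.node 73209 (.node 73203 (.node 73200 (.node 73199 (.leaf 0x11ded011de9) (.leaf 0xa0001)) (.node 73201 (.leaf 0x0) (.node 73202 (.leaf 0xb0f0a0a0004) (.leaf 0x0)))) (.node 73206 (.node 73204 (.leaf 0x0) (.node 73205 (.leaf 0xd0b0b0003) (.leaf 0xa0001))) (.node 73207 (.leaf 0xe0a0002) (.node 73208 (.leaf 0x11df6011df5) (.leaf 0x0))))) (.node 73215 (.node 73212 (.node 73210 (.leaf 0xe0001) (.node 73211 (.leaf 0x0) (.leaf 0x0))) (.node 73213 (.leaf 0xf0b0a0003) (.node 73214 (.leaf 0xf0b0b0a0004) (.leaf 0x11dfd)))) (.node 73218 (.node 73216 (.leaf 0xd0b0002) (.node 73217 (.leaf 0x0) (.leaf 0xb0a0a0003))) (.node 73219 (.leaf 0x0) (.node 73220 (.leaf 0x0) (.leaf 0x2090300000300000008))))))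

def argWS_6487 : Store := (.node 73232 (.node 73226 (.node 73223 (.node 73222 (.leaf 0x0) (.leaf 0xe0d0002)) (.node 73224 (.leaf 0x0) (.node 73225 (.leaf 0xb0a0f0003) (.leaf 0x11e08011e07)))) (.node 73229 (.node 73227 (.leaf 0xd0b0b0003) (.node 73228 (.leaf 0x0) (.leaf 0xf0a0a0003))) (.node 73230 (.leaf 0x0) (.node 73231 (.leaf 0x0) (.leaf 0xb0f0002))))) (.node 73238 (.node 73235 (.node 73233 (.leaf 0x707000903000703040103000c) (.node 73234 (.leaf 0x0) (.leaf 0xe0001))) (.node 73236 (.leaf 0x0) (.node 73237 (.leaf 0x11e13011e0f) (.leaf 0xf0a0002)))) (.node 73241 (.node 73239 (.leaf 0x0) (.node 73240 (.leaf 0x60900090802040105000a) (.leaf 0x0))) (.node 73242 (.leaf 0xb0a0f0003) (.node 73243 (.leaf 0xa0a0002) (.leaf 0x201020106060006))))))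

def argWS_6488 : Store := (.node 73221 argWS_6486 argWS_6487)

def argWS_6489 : Store := (.node 73198 argWS_6485 argWS_6488)

def argWS_6490 : Store := (.node 73153 argWS_6482 argWS_6489)

def argWS_6491 : Store := (.node 73063 argWS_6475 argWS_6490)

def argWS_6492 : Store := (.node 73255 (.node 73249 (.node 73246 (.node 73245 (.leaf 0x0) (.leaf 0xf0b0b0a0004)) (.node 73247 (.leaf 0x0) (.node 73248 (.leaf 0x11e1e) (.leaf 0xf0a0a0003)))) (.node 73252 (.node 73250 (.leaf 0x0) (.node 73251 (.leaf 0xd0001) (.leaf 0x0))) (.node 73253 (.leaf 0x0) (.node 73254 (.leaf 0xa0f0b0b0004) (.leaf 0xe0d0002))))) (.node 73260 (.node 73257 (.node 73256 (.leaf 0x11e26) (.leaf 0xb0a0002)) (.node 73258 (.leaf 0x0) (.node 73259 (.leaf 0xf0b0b0003) (.leaf 0x0)))) (.node 73263 (.node 73261 (.leaf 0x0) (.node 73262 (.leaf 0xb0b0a0a0004) (.leaf 0xb0b0002))) (.node 73264 (.leaf 0xe55a011e2e) (.node 73265 (.leaf 0xa0001) (.leaf 0x0))))))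

def argWS_6493 : Store := (.node 73277 (.node 73271 (.node 73268 (.node 73267 (.leaf 0xb0b0a0a0004) (.leaf 0x0)) (.node 73269 (.leaf 0x0) (.node 73270 (.leaf 0xb0001) (.leaf 0xd0b0b0003)))) (.node 73274 (.node 73272 (.leaf 0xf0a0002) (.node 73273 (.leaf 0x11e37011e36) (.leaf 0xf0a0002))) (.node 73275 (.leaf 0x0) (.node 73276 (.leaf 0xb0f0002) (.leaf 0x0))))) (.node 73283 (.node 73280 (.node 73278 (.leaf 0x0) (.node 73279 (.leaf 0xb0b0a0003) (.leaf 0xd0001))) (.node 73281 (.leaf 0xa0f0b0003) (.node 73282 (.leaf 0x11e40) (.leaf 0x502000207030006)))) (.node 73286 (.node 73284 (.leaf 0x0) (.node 73285 (.leaf 0xb0b0a0a0004) (.leaf 0x0))) (.node 73287 (.leaf 0xf0b0b0a0a0005) (.node 73288 (.leaf 0x0) (.leaf 0x0))))))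

def argWS_6494 : Store := (.node 73266 argWS_6492 argWS_6493)

def argWS_6495 : Store := (.node 73300 (.node 73294 (.node 73291 (.node 73290 (.leaf 0xf0b0b0a0004) (.leaf 0x209030900090202000701000b)) (.node 73292 (.leaf 0x0) (.node 73293 (.leaf 0x0) (.leaf 0x11e4c)))) (.node 73297 (.node 73295 (.leaf 0xf0a0002) (.node 73296 (.leaf 0x0) (.leaf 0xf0b0b0003))) (.node 73298 (.leaf 0x0) (.node 73299 (.leaf 0x0) (.leaf 0xb0001))))) (.node 73305 (.node 73302 (.node 73301 (.leaf 0x3010904020005) (.leaf 0x0)) (.node 73303 (.leaf 0xb0f0002) (.node 73304 (.leaf 0x0) (.leaf 0x30000090206020007)))) (.node 73308 (.node 73306 (.leaf 0x0) (.node 73307 (.leaf 0x0) (.leaf 0x11e5a011e57))) (.node 73309 (.leaf 0x60007030401030007) (.node 73310 (.leaf 0x0) (.leaf 0xa0a0002))))))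

def argWS_6496 : Store := (.node 73322 (.node 73316 (.node 73313 (.node 73312 (.leaf 0x0) (.leaf 0xb0f0002)) (.node 73314 (.leaf 0x0) (.node 73315 (.leaf 0x0) (.leaf 0xa0f0b0003)))) (.node 73319 (.node 73317 (.leaf 0x200020901060006) (.node 73318 (.leaf 0x0) (.leaf 0xf0b0002))) (.node 73320 (.leaf 0x0) (.node 73321 (.leaf 0xd0001) (.leaf 0x11e68011e67))))) (.node 73328 (.node 73325 (.node 73323 (.leaf 0xb0b0a0a0004) (.node 73324 (.leaf 0x0) (.leaf 0xb0f0a0003))) (.node 73326 (.leaf 0x0) (.node 73327 (.leaf 0x0) (.leaf 0x502010206020007010009)))) (.node 73331 (.node 73329 (.leaf 0x0) (.node 73330 (.leaf 0x0) (.leaf 0xb0f0002))) (.node 73332 (.leaf 0x11e72011e71) (.node 73333 (.leaf 0xb0f0a0003) (.leaf 0x0))))))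

def argWS_6497 : Store := (.node 73311 argWS_6495 argWS_6496)

def argWS_6498 : Store := (.node 73289 argWS_6494 argWS_6497)

def argWS_6499 : Store := (.node 73345 (.node 73339 (.node 73336 (.node 73335 (.leaf 0x10903070209020202000701000c) (.leaf 0x0)) (.node 73337 (.leaf 0xa0f0b0b0004) (.node 73338 (.leaf 0x40101090805000703040103000c) (.leaf 0x0)))) (.node 73342 (.node 73340 (.leaf 0xb0f0002) (.node 73341 (.leaf 0x0) (.leaf 0xa0f0b0003))) (.node 73343 (.leaf 0x11e7d) (.node 73344 (.leaf 0xb0a0f0003) (.leaf 0x0))))) (.node 73350 (.node 73347 (.node 73346 (.leaf 0xb0b0a0a0004) (.leaf 0x0)) (.node 73348 (.leaf 0x0) (.node 73349 (.leaf 0x2010500020005) (.leaf 0x0)))) (.node 73353 (.node 73351 (.leaf 0xf0b0b0a0a0005) (.node 73352 (.leaf 0x0) (.leaf 0x3000401050005))) (.node 73354 (.leaf 0x0) (.node 73355 (.leaf 0xb0f0a0a0004) (.leaf 0x0))))))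

def argWS_6500 : Store := (.node 73367 (.node 73361 (.node 73358 (.node 73357 (.leaf 0xb0f0002) (.leaf 0x11e8c011e8b)) (.node 73359 (.leaf 0xa0a0002) (.node 73360 (.leaf 0x0) (.leaf 0x10201090806000202000701000c)))) (.node 73364 (.node 73362 (.leaf 0x0) (.node 73363 (.leaf 0xf0b0b0a0a0005) (.leaf 0xa0001))) (.node 73365 (.leaf 0x8020003010102000802040105000d) (.node 73366 (.leaf 0x0) (.leaf 0x0))))) (.node 73373 (.node 73370 (.node 73368 (.leaf 0x600000206020007010009) (.node 73369 (.leaf 0x0) (.leaf 0xb0f0a0003))) (.node 73371 (.leaf 0x0) (.node 73372 (.leaf 0x11e9a011e96) (.leaf 0xb0001)))) (.node 73376 (.node 73374 (.leaf 0x0) (.node 73375 (.leaf 0xb0001) (.leaf 0x0))) (.node 73377 (.leaf 0x0) (.node 73378 (.leaf 0xa0a0002) (.leaf 0x9010402090106000703040103000d))))))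

def argWS_6501 : Store := (.node 73356 argWS_6499 argWS_6500)

def argWS_6502 : Store := (.node 73390 (.node 73384 (.node 73381 (.node 73380 (.leaf 0x0) (.leaf 0xb0b0002)) (.node 73382 (.leaf 0x0) (.node 73383 (.leaf 0xf0b0b0003) (.leaf 0x11ea6011ea5)))) (.node 73387 (.node 73385 (.leaf 0xd0b0002) (.node 73386 (.leaf 0x0) (.leaf 0xb0a0f0003))) (.node 73388 (.leaf 0x0) (.node 73389 (.leaf 0x0) (.leaf 0x2060207030005))))) (.node 73395 (.node 73392 (.node 73391 (.leaf 0x0) (.leaf 0x0)) (.node 73393 (.leaf 0x101090806000006) (.node 73394 (.leaf 0x0) (.leaf 0xb0b0002)))) (.node 73398 (.node 73396 (.leaf 0x0) (.node 73397 (.leaf 0x11eb300133a) (.leaf 0xa0f0002))) (.node 73399 (.leaf 0x0) (.node 73400 (.leaf 0x600020106060202000701000b) (.leaf 0x0))))))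

def argWS_6503 : Store := (.node 73412 (.node 73406 (.node 73403 (.node 73402 (.leaf 0xf0b0b0003) (.leaf 0xe0001)) (.node 73404 (.leaf 0x90503000408010007) (.node 73405 (.leaf 0x0) (.leaf 0xb0f0002)))) (.node 73409 (.node 73407 (.leaf 0x0) (.node 73408 (.leaf 0x11ebe) (.leaf 0xf0b0b0a0a0005))) (.node 73410 (.leaf 0x0) (.node 73411 (.leaf 0xd0001) (.leaf 0x0))))) (.node 73418 (.node 73415 (.node 73413 (.leaf 0x0) (.node 73414 (.leaf 0xf0001) (.leaf 0xa0f0b0b0004))) (.node 73416 (.leaf 0xe0a0002) (.node 73417 (.leaf 0x11ec7) (.leaf 0xa0a0002)))) (.node 73421 (.node 73419 (.leaf 0x0) (.node 73420 (.leaf 0xf0b0b0a0a0005) (.leaf 0x0))) (.node 73422 (.leaf 0x0) (.node 73423 (.leaf 0xb0b0a0003) (.leaf 0xf0a0002))))))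

def argWS_6504 : Store := (.node 73401 argWS_6502 argWS_6503)

def argWS_6505 : Store := (.node 73379 argWS_6501 argWS_6504)

def argWS_6506 : Store := (.node 73334 argWS_6498 argWS_6505)

def argWS_6507 : Store := (.node 73435 (.node 73429 (.node 73426 (.node 73425 (.leaf 0xe0a0a0003) (.leaf 0x11ed0011ecf)) (.node 73427 (.leaf 0x10705020202010007) (.node 73428 (.leaf 0x0) (.leaf 0xb0a0f0003)))) (.node 73432 (.node 73430 (.leaf 0x0) (.node 73431 (.leaf 0xa0f0b0b0004) (.leaf 0x0))) (.node 73433 (.leaf 0x0) (.node 73434 (.leaf 0xf0a0002) (.leaf 0x60002))))) (.node 73440 (.node 73437 (.node 73436 (.leaf 0x0) (.leaf 0xb0b0a0a0004)) (.node 73438 (.leaf 0x0) (.node 73439 (.leaf 0x11edd005fd2) (.leaf 0xf0b0a0a0004)))) (.node 73443 (.node 73441 (.leaf 0x0) (.node 73442 (.leaf 0xf0b0b0003) (.leaf 0x0))) (.node 73444 (.leaf 0x0) (.node 73445 (.leaf 0xf0b0b0003) (.leaf 0x600000900090006))))))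

def argWS_6508 : Store := (.node 73457 (.node 73451 (.node 73448 (.node 73447 (.leaf 0x0) (.leaf 0xa0f0002)) (.node 73449 (.leaf 0x0) (.node 73450 (.leaf 0x11ee8) (.leaf 0xb0f0a0003)))) (.node 73454 (.node 73452 (.leaf 0x0) (.node 73453 (.leaf 0xe0d0002) (.leaf 0x0))) (.node 73455 (.leaf 0x0) (.node 73456 (.leaf 0xe0a0002) (.leaf 0xb0f0a0a0004))))) (.node 73463 (.node 73460 (.node 73458 (.leaf 0x11ef0) (.node 73459 (.leaf 0xf0b0b0003) (.leaf 0x0))) (.node 73461 (.leaf 0xb0a0a0003) (.node 73462 (.leaf 0x0) (.leaf 0x0)))) (.node 73466 (.node 73464 (.leaf 0x3070009030802040105000b) (.node 73465 (.leaf 0x0) (.leaf 0xa0f0002))) (.node 73467 (.leaf 0x0) (.node 73468 (.leaf 0xf0a0002) (.leaf 0x307070009020007010009))))))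

def argWS_6509 : Store := (.node 73446 argWS_6507 argWS_6508)

def argWS_6510 : Store := (.node 73480 (.node 73474 (.node 73471 (.node 73470 (.leaf 0x0) (.leaf 0xa0001)) (.node 73472 (.leaf 0x0) (.node 73473 (.leaf 0x11eff) (.leaf 0xb0a0002)))) (.node 73477 (.node 73475 (.leaf 0x0) (.node 73476 (.leaf 0xf0a0a0003) (.leaf 0x0))) (.node 73478 (.leaf 0x0) (.node 73479 (.leaf 0xf0b0a0003) (.leaf 0x5000908050202000701000a))))) (.node 73485 (.node 73482 (.node 73481 (.leaf 0x0) (.leaf 0xb0f0a0a0004)) (.node 73483 (.leaf 0x0) (.node 73484 (.leaf 0xf0b0b0a0004) (.leaf 0x11f0b011f0a)))) (.node 73488 (.node 73486 (.leaf 0xf0a0a0003) (.node 73487 (.leaf 0x0) (.leaf 0xa0f0b0b0004))) (.node 73489 (.leaf 0x0) (.node 73490 (.leaf 0x0) (.leaf 0x7020108020401050008))))))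

def argWS_6511 : Store := (.node 73502 (.node 73496 (.node 73493 (.node 73492 (.leaf 0x0) (.leaf 0xf0a0a0003)) (.node 73494 (.leaf 0x0) (.node 73495 (.leaf 0x10200030306040802040105000c) (.leaf 0x0)))) (.node 73499 (.node 73497 (.leaf 0xb0f0002) (.node 73498 (.leaf 0x0) (.leaf 0x205020601050002000703040103000e))) (.node 73500 (.leaf 0x0) (.node 73501 (.leaf 0xf0b0a0a0004) (.leaf 0x0))))) (.node 73508 (.node 73505 (.node 73503 (.leaf 0x11f1d011f19) (.node 73504 (.leaf 0xb0a0a0003) (.leaf 0x0))) (.node 73506 (.leaf 0x907000002080400000703040103000e) (.node 73507 (.leaf 0x0) (.leaf 0xf0001)))) (.node 73511 (.node 73509 (.leaf 0xf0b0b0003) (.node 73510 (.leaf 0x11f24) (.leaf 0x9050106060802040105000a))) (.node 73512 (.leaf 0x0) (.node 73513 (.leaf 0xf0b0b0a0004) (.leaf 0x0))))))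

def argWS_6512 : Store := (.node 73491 argWS_6510 argWS_6511)

def argWS_6513 : Store := (.node 73469 argWS_6509 argWS_6512)

def argWS_6514 : Store := (.node 73525 (.node 73519 (.node 73516 (.node 73515 (.leaf 0xd0001) (.leaf 0x0)) (.node 73517 (.leaf 0x0) (.node 73518 (.leaf 0xd0001) (.leaf 0x70209000009000703040103000c)))) (.node 73522 (.node 73520 (.leaf 0x0) (.node 73521 (.leaf 0xa0a0002) (.leaf 0x0))) (.node 73523 (.leaf 0x11f31005283) (.node 73524 (.leaf 0xb0001) (.leaf 0x0))))) (.node 73530 (.node 73527 (.node 73526 (.leaf 0xf0001) (.leaf 0x0)) (.node 73528 (.leaf 0x0) (.node 73529 (.leaf 0xd0b0b0003) (.leaf 0x400090806000202000701000c)))) (.node 73533 (.node 73531 (.leaf 0x0) (.node 73532 (.leaf 0xe0d0002) (.leaf 0x0))) (.node 73534 (.leaf 0x4040207020007010008) (.node 73535 (.leaf 0x0) (.leaf 0xa0a0002))))))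

def argWS_6515 : Store := (.node 73547 (.node 73541 (.node 73538 (.node 73537 (.leaf 0x0) (.leaf 0x11f40011f3c)) (.node 73539 (.leaf 0xd0001) (.node 73540 (.leaf 0x0) (.leaf 0xf0001)))) (.node 73544 (.node 73542 (.leaf 0x0) (.node 73543 (.leaf 0x0) (.leaf 0xa0f0b0003))) (.node 73545 (.leaf 0xb0a0f0003) (.node 73546 (.leaf 0x11f48) (.leaf 0xe0d0002))))) (.node 73553 (.node 73550 (.node 73548 (.leaf 0x0) (.node 73549 (.leaf 0x4000400000300000008) (.leaf 0x0))) (.node 73551 (.leaf 0xb0b0002) (.node 73552 (.leaf 0xa0f0002) (.leaf 0x8000207030802040105000a)))) (.node 73556 (.node 73554 (.leaf 0x0) (.node 73555 (.leaf 0xe0a0002) (.leaf 0x0))) (.node 73557 (.leaf 0xdd02011f53) (.node 73558 (.leaf 0xa0001) (.leaf 0x0))))))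

def argWS_6516 : Store := (.node 73536 argWS_6514 argWS_6515)

def argWS_6517 : Store := (.node 73570 (.node 73564 (.node 73561 (.node 73560 (.leaf 0xb0a0a0003) (.leaf 0x0)) (.node 73562 (.leaf 0x0) (.node 73563 (.leaf 0x4030007030401030008) (.leaf 0x0)))) (.node 73567 (.node 73565 (.leaf 0xf0b0a0a0004) (.node 73566 (.leaf 0x0) (.leaf 0xa0f0002))) (.node 73568 (.leaf 0x8020003080005) (.node 73569 (.leaf 0x0) (.leaf 0xb0b0a0003))))) (.node 73576 (.node 73573 (.node 73571 (.leaf 0x0) (.node 73572 (.leaf 0x11f62011f5e) (.leaf 0xf0001))) (.node 73574 (.leaf 0x0) (.node 73575 (.leaf 0x4020202010802040105000a) (.leaf 0x0)))) (.node 73579 (.node 73577 (.leaf 0xe0a0002) (.node 73578 (.leaf 0xf0001) (.leaf 0x8000206030802040105000b))) (.node 73580 (.leaf 0x0) (.node 73581 (.leaf 0xb0b0a0003) (.leaf 0x0))))))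

def argWS_6518 : Store := (.node 73593 (.node 73587 (.node 73584 (.node 73583 (.leaf 0xf0001) (.leaf 0x11f6e011f6d)) (.node 73585 (.leaf 0xb0f0a0003) (.node 73586 (.leaf 0x0) (.leaf 0xf0b0b0a0004)))) (.node 73590 (.node 73588 (.leaf 0x0) (.node 73589 (.leaf 0x0) (.leaf 0xb0b0002))) (.node 73591 (.leaf 0x5090206020802040105000a) (.node 73592 (.leaf 0x0) (.leaf 0xd0b0002))))) (.node 73599 (.node 73596 (.node 73594 (.leaf 0x0) (.node 73595 (.leaf 0x8050002020900000202000701000d) (.leaf 0x0))) (.node 73597 (.leaf 0xf0b0a0a0004) (.node 73598 (.leaf 0x0) (.leaf 0x11f7d011f79)))) (.node 73602 (.node 73600 (.leaf 0xd0b0b0003) (.node 73601 (.leaf 0x0) (.leaf 0xb0b0a0a0004))) (.node 73603 (.leaf 0x0) (.node 73604 (.leaf 0x0) (.leaf 0xf0b0b0003))))))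

def argWS_6519 : Store := (.node 73582 argWS_6517 argWS_6518)

def argWS_6520 : Store := (.node 73559 argWS_6516 argWS_6519)

def argWS_6521 : Store := (.node 73514 argWS_6513 argWS_6520)

def argWS_6522 : Store := (.node 73424 argWS_6506 argWS_6521)

def argWS_6523 : Store := (.node 73244 argWS_6491 argWS_6522)

def argWS_6524 : Store := (.node 72883 argWS_6460 argWS_6523)

def argWS_6525 : Store := (.node 73616 (.node 73610 (.node 73607 (.node 73606 (.leaf 0xb0f0a0003) (.leaf 0xb0f0002)) (.node 73608 (.leaf 0x11f86011f85) (.node 73609 (.leaf 0xf0a0a0003) (.leaf 0x0)))) (.node 73613 (.node 73611 (.leaf 0xf0b0a0a0004) (.node 73612 (.leaf 0x0) (.leaf 0x0))) (.node 73614 (.leaf 0xb0b0002) (.node 73615 (.leaf 0xa0001) (.leaf 0x11f8e))))) (.node 73621 (.node 73618 (.node 73617 (.leaf 0xb0b0a0a0004) (.leaf 0x0)) (.node 73619 (.leaf 0xf0b0b0003) (.node 73620 (.leaf 0x0) (.leaf 0x0)))) (.node 73624 (.node 73622 (.leaf 0x409000009000703040103000c) (.node 73623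 (.leaf 0x0) (.leaf 0xa0f0002))) (.node 73625 (.leaf 0x0) (.node 73626 (.leaf 0x903090009000703040103000b) (.leaf 0x0))))))

def argWS_6526 : Store := (.node 73638 (.node 73632 (.node 73629 (.node 73628 (.leaf 0xd0b0002) (.leaf 0x0)) (.node 73630 (.leaf 0x11f9c) (.node 73631 (.leaf 0xf0a0a0003) (.leaf 0x0)))) (.node 73635 (.node 73633 (.leaf 0x201020002020007010009) (.node 73634 (.leaf 0x0) (.leaf 0xb0f0a0a0004))) (.node 73636 (.leaf 0xf0a0002) (.node 73637 (.leaf 0x80500020703000703040103000c) (.leaf 0x0))))) (.node 73644 (.node 73641 (.node 73639 (.leaf 0xd0b0b0003) (.node 73640 (.leaf 0x0) (.leaf 0x11fa7))) (.node 73642 (.leaf 0xb0a0a0003) (.node 73643 (.leaf 0x0) (.leaf 0xe0001)))) (.node 73647 (.node 73645 (.leaf 0x0) (.node 73646 (.leaf 0x0) (.leaf 0x202020601050002000703040103000e))) (.node 73648 (.leaf 0x0) (.node 73649 (.leaf 0xd0001) (.leaf 0x0))))))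

def argWS_6527 : Store := (.node 73627 argWS_6525 argWS_6526)

def argWS_6528 : Store := (.node 73661 (.node 73655 (.node 73652 (.node 73651 (.leaf 0x30705020202010007) (.leaf 0x0)) (.node 73653 (.leaf 0xb0a0002) (.node 73654 (.leaf 0x0) (.leaf 0x11fb5)))) (.node 73658 (.node 73656 (.leaf 0xd0b0002) (.node 73657 (.leaf 0x0) (.leaf 0x20000090206020802040105000d))) (.node 73659 (.leaf 0x0) (.node 73660 (.leaf 0xf0a0a0003) (.leaf 0x70500020804000802040105000c))))) (.node 73666 (.node 73663 (.node 73662 (.leaf 0x0) (.leaf 0xb0b0a0a0004)) (.node 73664 (.leaf 0x0) (.node 73665 (.leaf 0x3040603000703040103000a) (.leaf 0x0)))) (.node 73669 (.node 73667 (.leaf 0xb0b0a0a0004) (.node 73668 (.leaf 0x0) (.leaf 0x11fc3))) (.node 73670 (.leaf 0xf0b0b0a0a0005) (.node 73671 (.leaf 0x0) (.leaf 0x60500000300000202000701000c))))))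

def argWS_6529 : Store := (.node 73683 (.node 73677 (.node 73674 (.node 73673 (.leaf 0x0) (.leaf 0xb0f0002)) (.node 73675 (.leaf 0xd0b0b0003) (.node 73676 (.leaf 0x9030003010102000202000701000d) (.leaf 0x0)))) (.node 73680 (.node 73678 (.leaf 0xf0b0a0003) (.node 73679 (.leaf 0x0) (.leaf 0xe0001))) (.node 73681 (.leaf 0x11fcf) (.node 73682 (.leaf 0xa0001) (.leaf 0x0))))) (.node 73689 (.node 73686 (.node 73684 (.leaf 0x50200090000090202000701000c) (.node 73685 (.leaf 0x0) (.leaf 0xf0b0b0003))) (.node 73687 (.leaf 0xf0001) (.node 73688 (.leaf 0xb0f0a0a0004) (.leaf 0x11fd7)))) (.node 73692 (.node 73690 (.leaf 0xf0b0a0a0004) (.node 73691 (.leaf 0x0) (.leaf 0xa0a0002))) (.node 73693 (.leaf 0x0) (.node 73694 (.leaf 0x0) (.leaf 0xe0a0002))))))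

def argWS_6530 : Store := (.node 73672 argWS_6528 argWS_6529)

def argWS_6531 : Store := (.node 73650 argWS_6527 argWS_6530)

def argWS_6532 : Store := (.node 73706 (.node 73700 (.node 73697 (.node 73696 (.leaf 0xe0d0002) (.leaf 0xa0f0b0003)) (.node 73698 (.leaf 0x11fe0011fdf) (.node 73699 (.leaf 0xb0b0002) (.leaf 0x0)))) (.node 73703 (.node 73701 (.leaf 0xf0b0b0003) (.node 73702 (.leaf 0x0) (.leaf 0x0))) (.node 73704 (.leaf 0x7090806000006) (.node 73705 (.leaf 0x0) (.leaf 0xb0a0f0003))))) (.node 73711 (.node 73708 (.node 73707 (.leaf 0x0) (.leaf 0xf0a0002)) (.node 73709 (.leaf 0xa0a0002) (.node 73710 (.leaf 0x11fec011feb) (.leaf 0xe0001)))) (.node 73714 (.node 73712 (.leaf 0x0) (.node 73713 (.leaf 0x9020804000202000701000a) (.leaf 0x0))) (.node 73715 (.leaf 0xd0b0002) (.node 73716 (.leaf 0xf0b0a0a0004) (.leaf 0xb0a0002))))))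

def argWS_6533 : Store := (.node 73728 (.node 73722 (.node 73719 (.node 73718 (.leaf 0x0) (.leaf 0xb0b0002)) (.node 73720 (.leaf 0x11ff6011ff5) (.node 73721 (.leaf 0xe0001) (.leaf 0x0)))) (.node 73725 (.node 73723 (.leaf 0xb0a0002) (.node 73724 (.leaf 0x0) (.leaf 0x0))) (.node 73726 (.leaf 0xe0001) (.node 73727 (.leaf 0xd0b0002) (.leaf 0x4000400050802040105000b))))) (.node 73734 (.node 73731 (.node 73729 (.leaf 0x0) (.node 73730 (.leaf 0xf0a0002) (.leaf 0x0))) (.node 73732 (.leaf 0x12002011ffe) (.node 73733 (.leaf 0x3010102000202000701000c) (.leaf 0x0)))) (.node 73737 (.node 73735 (.leaf 0xb0f0a0003) (.node 73736 (.leaf 0x0) (.leaf 0xb0b0002))) (.node 73738 (.leaf 0x0) (.node 73739 (.leaf 0x0) (.leaf 0x409080600000703040103000c))))))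

def argWS_6534 : Store := (.node 73717 argWS_6532 argWS_6533)

def argWS_6535 : Store := (.node 73751 (.node 73745 (.node 73742 (.node 73741 (.leaf 0x0) (.leaf 0xb0b0a0003)) (.node 73743 (.leaf 0x0) (.node 73744 (.leaf 0x1200e) (.leaf 0xb0b0002)))) (.node 73748 (.node 73746 (.leaf 0x0) (.node 73747 (.leaf 0xa0f0002) (.leaf 0x0))) (.node 73749 (.leaf 0x0) (.node 73750 (.leaf 0xf0a0002) (.leaf 0x30500040005))))) (.node 73756 (.node 73753 (.node 73752 (.leaf 0x0) (.leaf 0xf0001)) (.node 73754 (.leaf 0x0) (.node 73755 (.leaf 0xf0b0b0003) (.leaf 0x0)))) (.node 73759 (.node 73757 (.leaf 0x1201b012019) (.node 73758 (.leaf 0xd0b0b0003) (.leaf 0x0))) (.node 73760 (.leaf 0x6010202090106000703040103000d) (.node 73761 (.leaf 0x0) (.leaf 0xf0b0002))))))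

def argWS_6536 : Store := (.node 73773 (.node 73767 (.node 73764 (.node 73763 (.leaf 0x4000309080600000703040103000d) (.leaf 0x0)) (.node 73765 (.leaf 0x0) (.node 73766 (.leaf 0xb0b0002) (.leaf 0xa0f0b0003)))) (.node 73770 (.node 73768 (.leaf 0x12026012025) (.node 73769 (.leaf 0xb0b0a0003) (.leaf 0x0))) (.node 73771 (.leaf 0xf0a0a0003) (.node 73772 (.leaf 0x0) (.leaf 0x0))))) (.node 73779 (.node 73776 (.node 73774 (.leaf 0xe0001) (.node 73775 (.leaf 0x9010606000703040103000a) (.leaf 0x0))) (.node 73777 (.leaf 0xa0f0b0b0004) (.node 73778 (.leaf 0x0) (.leaf 0x12031)))) (.node 73782 (.node 73780 (.leaf 0x7030500000300000802040105000d) (.node 73781 (.leaf 0x0) (.leaf 0xe0001))) (.node 73783 (.leaf 0x0) (.node 73784 (.leaf 0xb0f0a0003) (.leaf 0x0))))))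

def argWS_6537 : Store := (.node 73762 argWS_6535 argWS_6536)

def argWS_6538 : Store := (.node 73740 argWS_6534 argWS_6537)

def argWS_6539 : Store := (.node 73695 argWS_6531 argWS_6538)

def argWS_6540 : Store := (.node 73796 (.node 73790 (.node 73787 (.node 73786 (.leaf 0x0) (.leaf 0xb0a0f0003)) (.node 73788 (.leaf 0xb0a0002) (.node 73789 (.leaf 0x1203b) (.leaf 0x8000603050004000703040103000e)))) (.node 73793 (.node 73791 (.leaf 0x0) (.node 73792 (.leaf 0xa0f0002) (.leaf 0x0))) (.node 73794 (.leaf 0xf0a0a0003) (.node 73795 (.leaf 0x0) (.leaf 0x0))))) (.node 73801 (.node 73798 (.node 73797 (.leaf 0xb0a0f0003) (.leaf 0xb0001)) (.node 73799 (.leaf 0xf0b0b0a0004) (.node 73800 (.leaf 0x12046012045) (.leaf 0xe0a0002)))) (.node 73804 (.node 73802 (.leaf 0x0) (.node 73803 (.leaf 0xd0b0002) (.leaf 0x0))) (.node 73805 (.leaf 0x0) (.node 73806 (.leaf 0x3010904020802040105000a) (.leaf 0x0))))))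

def argWS_6541 : Store := (.node 73818 (.node 73812 (.node 73809 (.node 73808 (.leaf 0xd0b0002) (.leaf 0x0)) (.node 73810 (.leaf 0xf0a0002) (.node 73811 (.leaf 0xb0f0a0a0004) (.leaf 0x12052012051)))) (.node 73815 (.node 73813 (.leaf 0xd0b0b0003) (.node 73814 (.leaf 0x0) (.leaf 0x0))) (.node 73816 (.leaf 0xb0f0a0003) (.node 73817 (.leaf 0xf0b0a0003) (.leaf 0xf0b0b0a0a0005))))) (.node 73824 (.node 73821 (.node 73819 (.leaf 0xf0b0b0a0a0005) (.node 73820 (.leaf 0x1205a012059) (.leaf 0xb0001))) (.node 73822 (.leaf 0x0) (.node 73823 (.leaf 0xa0f0b0003) (.leaf 0x0)))) (.node 73827 (.node 73825 (.leaf 0x0) (.node 73826 (.leaf 0xb0b0a0a0004) (.leaf 0xb0b0a0a0004))) (.node 73828 (.leaf 0x12062) (.node 73829 (.leaf 0xf0a0a0003) (.leaf 0x0))))))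

def argWS_6542 : Store := (.node 73807 argWS_6540 argWS_6541)

def argWS_6543 : Store := (.node 73841 (.node 73835 (.node 73832 (.node 73831 (.leaf 0xf0a0002) (.leaf 0x0)) (.node 73833 (.leaf 0x0) (.node 73834 (.leaf 0xa0001) (.leaf 0x12069002e36)))) (.node 73838 (.node 73836 (.leaf 0xd0b0b0003) (.node 73837 (.leaf 0x0) (.leaf 0xf0a0a0003))) (.node 73839 (.leaf 0x0) (.node 73840 (.leaf 0x0) (.leaf 0xf0b0a0003))))) (.node 73846 (.node 73843 (.node 73842 (.leaf 0x80101070209020202000701000c) (.leaf 0x0)) (.node 73844 (.leaf 0x0) (.node 73845 (.leaf 0x12073012070) (.leaf 0xf0a0002)))) (.node 73849 (.node 73847 (.leaf 0x0) (.node 73848 (.leaf 0xa0f0002) (.leaf 0x0))) (.node 73850 (.leaf 0x0) (.node 73851 (.leaf 0xa0f0b0b0004) (.leaf 0xf0b0a0a0004))))))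

def argWS_6544 : Store := (.node 73863 (.node 73857 (.node 73854 (.node 73853 (.leaf 0x1207b) (.leaf 0xb0f0002)) (.node 73855 (.leaf 0x0) (.node 73856 (.leaf 0xa0a0002) (.leaf 0x0)))) (.node 73860 (.node 73858 (.leaf 0x0) (.node 73859 (.leaf 0xe0d0002) (.leaf 0xe0d0002))) (.node 73861 (.leaf 0xb0a0a0003) (.node 73862 (.leaf 0x12084012083) (.leaf 0x50306020702010802040105000d))))) (.node 73869 (.node 73866 (.node 73864 (.leaf 0x0) (.node 73865 (.leaf 0xb0a0a0003) (.leaf 0x0))) (.node 73867 (.leaf 0xb0f0002) (.node 73868 (.leaf 0x0) (.leaf 0x0)))) (.node 73872 (.node 73870 (.leaf 0x60501010703060802040105000c) (.node 73871 (.leaf 0x0) (.leaf 0xf0a0002))) (.node 73873 (.leaf 0x0) (.node 73874 (.leaf 0xa0f0b0b0004) (.leaf 0x12091012090))))))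

def argWS_6545 : Store := (.node 73852 argWS_6543 argWS_6544)

def argWS_6546 : Store := (.node 73830 argWS_6542 argWS_6545)

def argWS_6547 : Store := (.node 73886 (.node 73880 (.node 73877 (.node 73876 (.leaf 0xf0b0a0a0004) (.leaf 0x0)) (.node 73878 (.leaf 0x6010201070206000802040105000d) (.node 73879 (.leaf 0x0) (.leaf 0xd0b0002)))) (.node 73883 (.node 73881 (.leaf 0xb0f0a0003) (.node 73882 (.leaf 0x12098) (.leaf 0xa0f0b0b0004))) (.node 73884 (.leaf 0x0) (.node 73885 (.leaf 0xd0001) (.leaf 0x0))))) (.node 73891 (.node 73888 (.node 73887 (.leaf 0x0) (.leaf 0xe0a0002)) (.node 73889 (.leaf 0x8000908050202000701000a) (.node 73890 (.leaf 0x0) (.leaf 0x0)))) (.node 73894 (.node 73892 (.leaf 0x120a2001fa8) (.node 73893 (.leaf 0x40002000003010802040105000d) (.leaf 0x0))) (.node 73895 (.leaf 0xf0b0a0a0004) (.node 73896 (.leaf 0x0) (.leaf 0xb0f0002))))))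

def argWS_6548 : Store := (.node 73908 (.node 73902 (.node 73899 (.node 73898 (.leaf 0x0) (.leaf 0x0)) (.node 73900 (.leaf 0xb0f0a0a0004) (.node 73901 (.leaf 0x300090206020007) (.leaf 0x0)))) (.node 73905 (.node 73903 (.leaf 0xb0b0002) (.node 73904 (.leaf 0x0) (.leaf 0xe0a0a0003))) (.node 73906 (.leaf 0x120b00120af) (.node 73907 (.leaf 0xd0b0002) (.leaf 0x0))))) (.node 73914 (.node 73911 (.node 73909 (.leaf 0xe0001) (.node 73910 (.leaf 0x0) (.leaf 0x0))) (.node 73912 (.leaf 0xf0b0002) (.node 73913 (.leaf 0xb0b0a0003) (.leaf 0x60301070206000802040105000c)))) (.node 73917 (.node 73915 (.leaf 0x0) (.node 73916 (.leaf 0xb0f0a0003) (.leaf 0x0))) (.node 73918 (.leaf 0x120bc0120b8) (.node 73919 (.leaf 0xd0001) (.leaf 0x0))))))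

def argWS_6549 : Store := (.node 73897 argWS_6547 argWS_6548)

def argWS_6550 : Store := (.node 73931 (.node 73925 (.node 73922 (.node 73921 (.leaf 0xf0001) (.leaf 0x0)) (.node 73923 (.leaf 0x0) (.node 73924 (.leaf 0xb0b0002) (.leaf 0xb0a0002)))) (.node 73928 (.node 73926 (.leaf 0x120c4) (.node 73927 (.leaf 0xe0a0a0003) (.leaf 0x0))) (.node 73929 (.leaf 0xb0f0a0a0004) (.node 73930 (.leaf 0x0) (.leaf 0x0))))) (.node 73937 (.node 73934 (.node 73932 (.leaf 0xf0b0a0a0004) (.node 73933 (.leaf 0x6010201060207020703040103000d) (.leaf 0x0))) (.node 73935 (.leaf 0x0) (.node 73936 (.leaf 0xf0a0002) (.leaf 0x120cf0120ce)))) (.node 73940 (.node 73938 (.leaf 0xf0b0b0003) (.node 73939 (.leaf 0x0) (.leaf 0xb0f0a0a0004))) (.node 73941 (.leaf 0x0) (.node 73942 (.leaf 0x0) (.leaf 0xa0f0b0003))))))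

def argWS_6551 : Store := (.node 73954 (.node 73948 (.node 73945 (.node 73944 (.leaf 0xb0a0002) (.leaf 0x10201070209020202000701000c)) (.node 73946 (.leaf 0x0) (.node 73947 (.leaf 0xa0f0002) (.leaf 0x0)))) (.node 73951 (.node 73949 (.leaf 0x120db0120d7) (.node 73950 (.leaf 0xf0b0b0a0004) (.leaf 0x0))) (.node 73952 (.leaf 0xf0b0002) (.node 73953 (.leaf 0x0) (.leaf 0x0))))) (.node 73960 (.node 73957 (.node 73955 (.leaf 0x6010200020804000802040105000d) (.node 73956 (.leaf 0x0) (.leaf 0xf0001))) (.node 73958 (.leaf 0x0) (.node 73959 (.leaf 0xb0b0a0003) (.leaf 0x9060900090202000701000a)))) (.node 73963 (.node 73961 (.leaf 0x0) (.node 73962 (.leaf 0xf0a0a0003) (.leaf 0x0))) (.node 73964 (.leaf 0x120ea0120e6) (.node 73965 (.leaf 0xb0b0002) (.leaf 0x0))))))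

def argWS_6552 : Store := (.node 73943 argWS_6550 argWS_6551)

def argWS_6553 : Store := (.node 73920 argWS_6549 argWS_6552)

def argWS_6554 : Store := (.node 73875 argWS_6546 argWS_6553)

def argWS_6555 : Store := (.node 73785 argWS_6539 argWS_6554)

def argWS_6556 : Store := (.node 73977 (.node 73971 (.node 73968 (.node 73967 (.leaf 0xb0b0a0003) (.leaf 0x0)) (.node 73969 (.leaf 0x0) (.node 73970 (.leaf 0xd0b0b0003) (.leaf 0xf0b0002)))) (.node 73974 (.node 73972 (.leaf 0xf0b0b0003) (.node 73973 (.leaf 0x120f30120f2) (.leaf 0x601020206030006))) (.node 73975 (.leaf 0x0) (.node 73976 (.leaf 0xa0f0002) (.leaf 0x0))))) (.node 73982 (.node 73979 (.node 73978 (.leaf 0xf0b0b0003) (.leaf 0x0)) (.node 73980 (.leaf 0x0) (.node 73981 (.leaf 0xf0a0002) (.leaf 0x60200070009030802040105000c)))) (.node 73985 (.node 73983 (.leaf 0x0) (.node 73984 (.leaf 0xb0a0002) (.leaf 0x0))) (.node 73986 (.leaf 0x12100003554) (.node 73987 (.leaf 0xe0d0002) (.leaf 0x0))))))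

def argWS_6557 : Store := (.node 73999 (.node 73993 (.node 73990 (.node 73989 (.leaf 0xb0f0a0a0004) (.leaf 0x0)) (.node 73991 (.leaf 0x0) (.node 73992 (.leaf 0xf0b0002) (.leaf 0x3070000020804000202000701000d)))) (.node 73996 (.node 73994 (.leaf 0x0) (.node 73995 (.leaf 0xe0a0002) (.leaf 0x0))) (.node 73997 (.leaf 0xe0d0002) (.node 73998 (.leaf 0x1210c01210b) (.leaf 0x400040003))))) (.node 74005 (.node 74002 (.node 74000 (.leaf 0x0) (.node 74001 (.leaf 0xb0f0a0a0004) (.leaf 0x0))) (.node 74003 (.leaf 0xf0b0a0003) (.node 74004 (.leaf 0x0) (.leaf 0x0)))) (.node 74008 (.node 74006 (.leaf 0xa0a0002) (.node 74007 (.leaf 0xf0b0002) (.leaf 0x30000090206020202000701000c))) (.node 74009 (.leaf 0x0) (.node 74010 (.leaf 0xb0f0a0a0004) (.leaf 0x0))))))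

def argWS_6558 : Store := (.node 73988 argWS_6556 argWS_6557)

def argWS_6559 : Store := (.node 74022 (.node 74016 (.node 74013 (.node 74012 (.leaf 0x1211a012116) (.leaf 0x5020908050802040105000a)) (.node 74014 (.leaf 0x0) (.node 74015 (.leaf 0xa0a0002) (.leaf 0x0)))) (.node 74019 (.node 74017 (.leaf 0xf0b0b0003) (.node 74018 (.leaf 0x0) (.leaf 0x0))) (.node 74020 (.leaf 0xb0a0f0003) (.node 74021 (.leaf 0xf0b0a0003) (.leaf 0x20903070009030007))))) (.node 74027 (.node 74024 (.node 74023 (.leaf 0x0) (.leaf 0xa0f0b0003)) (.node 74025 (.leaf 0x0) (.node 74026 (.leaf 0x12128012124) (.leaf 0xa0001)))) (.node 74030 (.node 74028 (.leaf 0x0) (.node 74029 (.leaf 0xa0001) (.leaf 0x0))) (.node 74031 (.leaf 0x0) (.node 74032 (.leaf 0xa0f0b0003) (.leaf 0xf0b0b0a0004))))))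

def argWS_6560 : Store := (.node 74044 (.node 74038 (.node 74035 (.node 74034 (.leaf 0x20000000300000202000701000c) (.leaf 0x0)) (.node 74036 (.leaf 0xb0001) (.node 74037 (.leaf 0x0) (.leaf 0x12134012130)))) (.node 74041 (.node 74039 (.leaf 0xa0f0b0003) (.node 74040 (.leaf 0x0) (.leaf 0xf0a0002))) (.node 74042 (.leaf 0x0) (.node 74043 (.leaf 0x0) (.leaf 0xb0f0a0003))))) (.node 74050 (.node 74047 (.node 74045 (.leaf 0x2050200090206020202000701000d) (.node 74046 (.leaf 0x0) (.leaf 0xa0f0002))) (.node 74048 (.leaf 0x0) (.node 74049 (.leaf 0xb0f0a0a0004) (.leaf 0x1214001213f)))) (.node 74053 (.node 74051 (.leaf 0xf0b0a0003) (.node 74052 (.leaf 0x0) (.leaf 0xd0b0002))) (.node 74054 (.leaf 0x0) (.node 74055 (.leaf 0x0) (.leaf 0xa0a0002))))))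

def argWS_6561 : Store := (.node 74033 argWS_6559 argWS_6560)

def argWS_6562 : Store := (.node 74011 argWS_6558 argWS_6561)

def argWS_6563 : Store := (.node 74067 (.node 74061 (.node 74058 (.node 74057 (.leaf 0xb0a0f0003) (.leaf 0x12148012147)) (.node 74059 (.leaf 0xe0a0002) (.node 74060 (.leaf 0x0) (.leaf 0xf0b0a0a0004)))) (.node 74064 (.node 74062 (.leaf 0x0) (.node 74063 (.leaf 0x0) (.leaf 0x50102000003010802040105000c))) (.node 74065 (.leaf 0x0) (.node 74066 (.leaf 0xb0b0002) (.leaf 0x0))))) (.node 74072 (.node 74069 (.node 74068 (.leaf 0xb0b0a0a0004) (.leaf 0xf0b0b0003)) (.node 74070 (.leaf 0x12154012153) (.node 74071 (.leaf 0xa0f0b0b0004) (.leaf 0x0)))) (.node 74075 (.node 74073 (.leaf 0xb0f0a0a0004) (.node 74074 (.leaf 0x0) (.leaf 0x0))) (.node 74076 (.leaf 0xa0001) (.node 74077 (.leaf 0x40002020007010007) (.leaf 0x0))))))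

def argWS_6564 : Store := (.node 74089 (.node 74083 (.node 74080 (.node 74079 (.leaf 0xb0b0a0003) (.leaf 0x0)) (.node 74081 (.leaf 0x1215f000e8b) (.node 74082 (.leaf 0x40303010102000007) (.leaf 0x0)))) (.node 74086 (.node 74084 (.leaf 0xb0a0002) (.node 74085 (.leaf 0x0) (.leaf 0xb0a0f0003))) (.node 74087 (.leaf 0x0) (.node 74088 (.leaf 0x0) (.leaf 0xe0a0a0003))))) (.node 74095 (.node 74092 (.node 74090 (.leaf 0xe0a0002) (.node 74091 (.leaf 0x601020901090802040105000b) (.leaf 0x0))) (.node 74093 (.leaf 0xe0a0002) (.node 74094 (.leaf 0x0) (.leaf 0x1216d012169)))) (.node 74098 (.node 74096 (.leaf 0xa0f0b0b0004) (.node 74097 (.leaf 0x0) (.leaf 0xf0a0002))) (.node 74099 (.leaf 0x0) (.node 74100 (.leaf 0x0) (.leaf 0x200020106060802040105000c))))))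

def argWS_6565 : Store := (.node 74078 argWS_6563 argWS_6564)

def argWS_6566 : Store := (.node 74112 (.node 74106 (.node 74103 (.node 74102 (.leaf 0x0) (.leaf 0xf0b0002)) (.node 74104 (.leaf 0x0) (.node 74105 (.leaf 0x1050206030500040008) (.leaf 0x0)))) (.node 74109 (.node 74107 (.leaf 0xd0b0b0003) (.node 74108 (.leaf 0x0) (.leaf 0xe0a0002))) (.node 74110 (.leaf 0x1217c01217b) (.node 74111 (.leaf 0xb0f0a0003) (.leaf 0x0))))) (.node 74117 (.node 74114 (.node 74113 (.leaf 0x905090106000703040103000b) (.leaf 0x0)) (.node 74115 (.leaf 0xf0b0a0a0004) (.node 74116 (.leaf 0x8030000090206020202000701000d) (.leaf 0x0)))) (.node 74120 (.node 74118 (.leaf 0xe0a0a0003) (.node 74119 (.leaf 0x0) (.leaf 0x12186))) (.node 74121 (.leaf 0x30603050004000703040103000c) (.node 74122 (.leaf 0x0) (.leaf 0xf0b0a0003))))))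

def argWS_6567 : Store := (.node 74134 (.node 74128 (.node 74125 (.node 74124 (.leaf 0x0) (.leaf 0xb0b0002)) (.node 74126 (.leaf 0x0) (.node 74127 (.leaf 0x0) (.leaf 0x903010904020802040105000b)))) (.node 74131 (.node 74129 (.leaf 0x0) (.node 74130 (.leaf 0xe0a0002) (.leaf 0x0))) (.node 74132 (.leaf 0x104020703000703040103000b) (.node 74133 (.leaf 0x0) (.leaf 0xa0001))))) (.node 74140 (.node 74137 (.node 74135 (.leaf 0x0) (.node 74136 (.leaf 0x2020200000300000202000701000d) (.leaf 0x0))) (.node 74138 (.leaf 0xa0001) (.node 74139 (.leaf 0x0) (.leaf 0x1219a012196)))) (.node 74143 (.node 74141 (.leaf 0xb0b0a0003) (.node 74142 (.leaf 0x0) (.leaf 0x20401050206040802040105000c))) (.node 74144 (.leaf 0x0) (.node 74145 (.leaf 0xb0a0002) (.leaf 0x90300070009030007))))))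

def argWS_6568 : Store := (.node 74123 argWS_6566 argWS_6567)

def argWS_6569 : Store := (.node 74101 argWS_6565 argWS_6568)

def argWS_6570 : Store := (.node 74056 argWS_6562 argWS_6569)

def argWS_6571 : Store := (.node 74157 (.node 74151 (.node 74148 (.node 74147 (.leaf 0x0) (.leaf 0xb0b0a0003)) (.node 74149 (.leaf 0x0) (.node 74150 (.leaf 0x20903010703060007) (.leaf 0x0)))) (.node 74154 (.node 74152 (.leaf 0xa0f0002) (.node 74153 (.leaf 0x0) (.leaf 0x705050206040006))) (.node 74155 (.leaf 0x0) (.node 74156 (.leaf 0x0) (.leaf 0x121ab0121a8))))) (.node 74162 (.node 74159 (.node 74158 (.leaf 0xf0b0a0003) (.leaf 0x0)) (.node 74160 (.leaf 0x20502070209020202000701000c) (.node 74161 (.leaf 0x0) (.leaf 0xb0a0002)))) (.node 74165 (.node 74163 (.leaf 0xb0a0a0003) (.node 74164 (.leaf 0xf0b0b0a0004) (.leaf 0x80908050202000701000a))) (.node 74166 (.leaf 0x0) (.node 74167 (.leaf 0xd0001) (.leaf 0x0))))))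

def argWS_6572 : Store := (.node 74179 (.node 74173 (.node 74170 (.node 74169 (.leaf 0x121b70121b3) (.leaf 0xa0a0002)) (.node 74171 (.leaf 0x0) (.node 74172 (.leaf 0xf0a0002) (.leaf 0x0)))) (.node 74176 (.node 74174 (.leaf 0x0) (.node 74175 (.leaf 0xa0a0002) (.leaf 0x90104020106060802040105000c))) (.node 74177 (.leaf 0x0) (.node 74178 (.leaf 0xf0b0b0a0004) (.leaf 0x0))))) (.node 74185 (.node 74182 (.node 74180 (.leaf 0x500000007030401030009) (.node 74181 (.leaf 0x0) (.leaf 0x0))) (.node 74183 (.leaf 0x121c50121c2) (.node 74184 (.leaf 0xf0b0b0a0a0005) (.leaf 0x0)))) (.node 74188 (.node 74186 (.leaf 0x907030003) (.node 74187 (.leaf 0x0) (.leaf 0xa0001))) (.node 74189 (.leaf 0xb0f0a0003) (.node 74190 (.leaf 0x70207030004) (.leaf 0x0))))))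

def argWS_6573 : Store := (.node 74168 argWS_6571 argWS_6572)

def argWS_6574 : Store := (.node 74202 (.node 74196 (.node 74193 (.node 74192 (.leaf 0x0) (.leaf 0x121cf)) (.node 74194 (.leaf 0x0) (.node 74195 (.leaf 0xb0b0a0a0004) (.leaf 0x0)))) (.node 74199 (.node 74197 (.leaf 0x0) (.node 74198 (.leaf 0xf0001) (.leaf 0x7070206000006))) (.node 74200 (.leaf 0x0) (.node 74201 (.leaf 0xf0b0b0003) (.leaf 0x0))))) (.node 74207 (.node 74204 (.node 74203 (.leaf 0x121d9) (.leaf 0x801010301010200000703040103000e)) (.node 74205 (.leaf 0x0) (.node 74206 (.leaf 0xf0a0a0003) (.leaf 0x0)))) (.node 74210 (.node 74208 (.leaf 0xf0001) (.node 74209 (.leaf 0x0) (.leaf 0x0))) (.node 74211 (.leaf 0xa0a0002) (.node 74212 (.leaf 0x400040400050006) (.leaf 0x0))))))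

def argWS_6575 : Store := (.node 74224 (.node 74218 (.node 74215 (.node 74214 (.leaf 0xb0a0a0003) (.leaf 0x0)) (.node 74216 (.leaf 0x121e600d21a) (.node 74217 (.leaf 0xe0d0002) (.leaf 0x0)))) (.node 74221 (.node 74219 (.leaf 0x4030402090106000703040103000d) (.node 74220 (.leaf 0x0) (.leaf 0xa0a0002))) (.node 74222 (.leaf 0xb0b0a0a0004) (.node 74223 (.leaf 0xb0b0002) (.leaf 0x6040106030500040202000701000d))))) (.node 74230 (.node 74227 (.node 74225 (.leaf 0x0) (.node 74226 (.leaf 0xf0a0002) (.leaf 0x0))) (.node 74228 (.leaf 0x121f20121ee) (.node 74229 (.leaf 0xa0f0b0b0004) (.leaf 0x0)))) (.node 74233 (.node 74231 (.leaf 0xf0b0b0a0a0005) (.node 74232 (.leaf 0x0) (.leaf 0x0))) (.node 74234 (.leaf 0xa0f0002) (.node 74235 (.leaf 0xb6bd) (.leaf 0xb0b0002))))))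

def argWS_6576 : Store := (.node 74213 argWS_6574 argWS_6575)

def argWS_6577 : Store := (.node 74191 argWS_6573 argWS_6576)

def argWS_6578 : Store := (.node 74247 (.node 74241 (.node 74238 (.node 74237 (.leaf 0x0) (.leaf 0xb0f0a0a0004)) (.node 74239 (.leaf 0x0) (.node 74240 (.leaf 0x0) (.leaf 0xb0a0f0003)))) (.node 74244 (.node 74242 (.leaf 0x3090806000005) (.node 74243 (.leaf 0x0) (.leaf 0x0))) (.node 74245 (.leaf 0x12203) (.node 74246 (.leaf 0xf0b0b0a0a0005) (.leaf 0x0))))) (.node 74252 (.node 74249 (.node 74248 (.leaf 0xf0b0a0003) (.leaf 0x0)) (.node 74250 (.leaf 0x0) (.node 74251 (.leaf 0xd0001) (.leaf 0x40703060802040105000a)))) (.node 74255 (.node 74253 (.leaf 0x0) (.node 74254 (.leaf 0xf0b0b0003) (.leaf 0x0))) (.node 74256 (.leaf 0xe0a0002) (.node 74257 (.leaf 0x1220f01220e) (.leaf 0x60002000003010802040105000c))))))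

def argWS_6579 : Store := (.node 74269 (.node 74263 (.node 74260 (.node 74259 (.leaf 0x0) (.leaf 0xb0b0a0003)) (.node 74261 (.leaf 0x0) (.node 74262 (.leaf 0xb0b0a0003) (.leaf 0x0)))) (.node 74266 (.node 74264 (.leaf 0x0) (.node 74265 (.leaf 0xb0b0a0a0004) (.leaf 0x20000000300000202000701000d))) (.node 74267 (.leaf 0x0) (.node 74268 (.leaf 0xb0b0a0a0004) (.leaf 0x0))))) (.node 74275 (.node 74272 (.node 74270 (.leaf 0xb0b0002) (.node 74271 (.leaf 0x1221d01221c) (.leaf 0xb0b0a0a0004))) (.node 74273 (.leaf 0x0) (.node 74274 (.leaf 0x2070202090000000703040103000d) (.leaf 0x0)))) (.node 74278 (.node 74276 (.leaf 0xf0b0a0a0004) (.node 74277 (.leaf 0x2020106060802040105000a) (.leaf 0x0))) (.node 74279 (.leaf 0xf0001) (.node 74280 (.leaf 0x0) (.leaf 0x4000408010202000701000b))))))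

def argWS_6580 : Store := (.node 74258 argWS_6578 argWS_6579)

def argWS_6581 : Store := (.node 74292 (.node 74286 (.node 74283 (.node 74282 (.leaf 0x0) (.leaf 0xb0b0a0a0004)) (.node 74284 (.leaf 0x0) (.node 74285 (.leaf 0xa0f0b0003) (.leaf 0x1222c01222b)))) (.node 74289 (.node 74287 (.leaf 0xa0f0002) (.node 74288 (.leaf 0x0) (.leaf 0x30300000300000202000701000c))) (.node 74290 (.leaf 0x0) (.node 74291 (.leaf 0xe0d0002) (.leaf 0xf0b0b0a0004))))) (.node 74298 (.node 74295 (.node 74293 (.leaf 0xb0b0a0a0004) (.node 74294 (.leaf 0x12234012233) (.leaf 0xe0001))) (.node 74296 (.leaf 0x0) (.node 74297 (.leaf 0xb0f0a0a0004) (.leaf 0x0)))) (.node 74301 (.node 74299 (.leaf 0x0) (.node 74300 (.leaf 0xf0b0b0a0004) (.leaf 0x7010103080202000701000a))) (.node 74302 (.leaf 0x0) (.node 74303 (.leaf 0xb0a0f0003) (.leaf 0x0))))))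

def argWS_6582 : Store := (.node 74315 (.node 74309 (.node 74306 (.node 74305 (.leaf 0xd0001) (.leaf 0x1224001223f)) (.node 74307 (.leaf 0x201060207020703040103000b) (.node 74308 (.leaf 0x0) (.leaf 0xe0d0002)))) (.node 74312 (.node 74310 (.leaf 0x0) (.node 74311 (.leaf 0xb0f0a0003) (.leaf 0x0))) (.node 74313 (.leaf 0x0) (.node 74314 (.leaf 0xf0b0b0003) (.leaf 0x202020207020007010009))))) (.node 74321 (.node 74318 (.node 74316 (.leaf 0x0) (.node 74317 (.leaf 0xd0b0002) (.leaf 0x0))) (.node 74319 (.leaf 0xf0a0002) (.node 74320 (.leaf 0x1224e01224d) (.leaf 0xb0f0002)))) (.node 74324 (.node 74322 (.leaf 0x0) (.node 74323 (.leaf 0xb0f0002) (.leaf 0x0))) (.node 74325 (.leaf 0xf0b0a0003) (.node 74326 (.leaf 0xf0b0a0a0004) (.leaf 0xf0a0a0003))))))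

def argWS_6583 : Store := (.node 74304 argWS_6581 argWS_6582)

def argWS_6584 : Store := (.node 74281 argWS_6580 argWS_6583)

def argWS_6585 : Store := (.node 74236 argWS_6577 argWS_6584)

def argWS_6586 : Store := (.node 74146 argWS_6570 argWS_6585)

def argWS_6587 : Store := (.node 73966 argWS_6555 argWS_6586)

def argWS_6588 : Store := (.node 74338 (.node 74332 (.node 74329 (.node 74328 (.leaf 0x12256012255) (.leaf 0xf0b0002)) (.node 74330 (.leaf 0x0) (.node 74331 (.leaf 0xb0f0a0003) (.leaf 0x0)))) (.node 74335 (.node 74333 (.leaf 0x0) (.node 74334 (.leaf 0xe0a0a0003) (.leaf 0xb0b0a0003))) (.node 74336 (.leaf 0xb0a0f0003) (.node 74337 (.leaf 0x1225f01225e) (.leaf 0xf0b0b0003))))) (.node 74343 (.node 74340 (.node 74339 (.leaf 0x0) (.leaf 0xd0001)) (.node 74341 (.leaf 0x0) (.node 74342 (.leaf 0x0) (.leaf 0xd0001)))) (.node 74346 (.node 74344 (.leaf 0x30403080004) (.node 74345 (.leaf 0x0) (.leaf 0xa0f0b0003))) (.node 74347 (.leaf 0x0) (.node 74348 (.leaf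 0x700000007030401030009) (.leaf 0x0))))))

def argWS_6589 : Store := (.node 74360 (.node 74354 (.node 74351 (.node 74350 (.leaf 0xe0a0002) (.leaf 0x0)) (.node 74352 (.leaf 0x1226e01226a) (.node 74353 (.leaf 0xb0b0a0003) (.leaf 0x0)))) (.node 74357 (.node 74355 (.leaf 0xa0a0002) (.node 74356 (.leaf 0x0) (.leaf 0x0))) (.node 74358 (.leaf 0xb0001) (.node 74359 (.leaf 0x30106020702010802040105000c) (.leaf 0x0))))) (.node 74366 (.node 74363 (.node 74361 (.leaf 0xf0b0002) (.node 74362 (.leaf 0x0) (.leaf 0x11816012279))) (.node 74364 (.leaf 0xb0b0002) (.node 74365 (.leaf 0x0) (.leaf 0xa0f0002)))) (.node 74369 (.node 74367 (.leaf 0x0) (.node 74368 (.leaf 0x0) (.leaf 0xf0b0b0a0a0005))) (.node 74370 (.leaf 0xf0b0002) (.node 74371 (.leaf 0x4090106000703040103000a) (.leaf 0x0))))))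

def argWS_6590 : Store := (.node 74349 argWS_6588 argWS_6589)

def argWS_6591 : Store := (.node 74383 (.node 74377 (.node 74374 (.node 74373 (.leaf 0xb0f0a0003) (.leaf 0x0)) (.node 74375 (.leaf 0x12285012281) (.node 74376 (.leaf 0xf0b0b0a0a0005) (.leaf 0x0)))) (.node 74380 (.node 74378 (.leaf 0xf0001) (.node 74379 (.leaf 0x0) (.leaf 0x0))) (.node 74381 (.leaf 0xf0a0002) (.node 74382 (.leaf 0x2040401050005) (.leaf 0x0))))) (.node 74388 (.node 74385 (.node 74384 (.leaf 0xf0b0a0003) (.leaf 0x0)) (.node 74386 (.leaf 0x4030400050802040105000a) (.node 74387 (.leaf 0x0) (.leaf 0xb0b0a0003)))) (.node 74391 (.node 74389 (.leaf 0x0) (.node 74390 (.leaf 0x12294012290) (.leaf 0xf0b0a0a0004))) (.node 74392 (.leaf 0x0) (.node 74393 (.leaf 0xb0b0a0003) (.leaf 0x0))))))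

def argWS_6592 : Store := (.node 74405 (.node 74399 (.node 74396 (.node 74395 (.leaf 0x0) (.leaf 0xa0001)) (.node 74397 (.leaf 0x11cdf) (.node 74398 (.leaf 0xa0f0002) (.leaf 0x0)))) (.node 74402 (.node 74400 (.leaf 0xa0f0b0003) (.node 74401 (.leaf 0x0) (.leaf 0x0))) (.node 74403 (.leaf 0x6010900090202000701000a) (.node 74404 (.leaf 0x0) (.leaf 0xd0b0002))))) (.node 74411 (.node 74408 (.node 74406 (.leaf 0x0) (.node 74407 (.leaf 0x90406010500020202000701000c) (.leaf 0x0))) (.node 74409 (.leaf 0xf0001) (.node 74410 (.leaf 0x0) (.leaf 0xf0b0b0a0a0005)))) (.node 74414 (.node 74412 (.leaf 0x122aa0122a9) (.node 74413 (.leaf 0xf0b0002) (.leaf 0x0))) (.node 74415 (.leaf 0xb0f0a0003) (.node 74416 (.leaf 0x0) (.leaf 0x0))))))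

def argWS_6593 : Store := (.node 74394 argWS_6591 argWS_6592)

def argWS_6594 : Store := (.node 74372 argWS_6590 argWS_6593)

def argWS_6595 : Store := (.node 74428 (.node 74422 (.node 74419 (.node 74418 (.leaf 0xf0b0a0003) (.leaf 0xa0f0002)) (.node 74420 (.leaf 0xb8000122b2) (.node 74421 (.leaf 0xb0b0002) (.leaf 0x0)))) (.node 74425 (.node 74423 (.leaf 0xe0a0002) (.node 74424 (.leaf 0x0) (.leaf 0x0))) (.node 74426 (.leaf 0xf0b0a0003) (.node 74427 (.leaf 0x7010904020202000701000b) (.leaf 0x0))))) (.node 74433 (.node 74430 (.node 74429 (.leaf 0xb0001) (.leaf 0x0)) (.node 74431 (.leaf 0x122bd) (.node 74432 (.leaf 0xa0f0b0b0004) (.leaf 0x0)))) (.node 74436 (.node 74434 (.leaf 0xb0f0002) (.node 74435 (.leaf 0x0) (.leaf 0x0))) (.node 74437 (.leaf 0xa0f0b0003) (.node 74438 (.leaf 0xf0b0002) (.leaf 0x122c50122c4))))))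

def argWS_6596 : Store := (.node 74450 (.node 74444 (.node 74441 (.node 74440 (.leaf 0xb0001) (.leaf 0x0)) (.node 74442 (.leaf 0xb0a0002) (.node 74443 (.leaf 0x0) (.leaf 0x0)))) (.node 74447 (.node 74445 (.leaf 0xa0f0b0b0004) (.node 74446 (.leaf 0x701010603050004000703040103000e) (.leaf 0x0))) (.node 74448 (.leaf 0xe0a0a0003) (.node 74449 (.leaf 0x0) (.leaf 0x122d00122cc))))) (.node 74456 (.node 74453 (.node 74451 (.leaf 0xf0a0002) (.node 74452 (.leaf 0x0) (.leaf 0xa0f0b0b0004))) (.node 74454 (.leaf 0x0) (.node 74455 (.leaf 0x0) (.leaf 0xf0b0b0003)))) (.node 74459 (.node 74457 (.leaf 0xb0f0a0003) (.node 74458 (.leaf 0xa0f0b0b0004) (.leaf 0x122d90122d8))) (.node 74460 (.leaf 0xb0a0a0003) (.node 74461 (.leaf 0x0) (.leaf 0xb0f0a0a0004))))))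

def argWS_6597 : Store := (.node 74439 argWS_6595 argWS_6596)

def argWS_6598 : Store := (.node 74473 (.node 74467 (.node 74464 (.node 74463 (.leaf 0x0) (.leaf 0x0)) (.node 74465 (.leaf 0x9030006030500040202000701000d) (.node 74466 (.leaf 0x0) (.leaf 0xb0f0a0003)))) (.node 74470 (.node 74468 (.leaf 0x0) (.node 74469 (.leaf 0xb0001) (.leaf 0x122e40122e3))) (.node 74471 (.leaf 0xe0001) (.node 74472 (.leaf 0x0) (.leaf 0xb0f0002))))) (.node 74478 (.node 74475 (.node 74474 (.leaf 0x0) (.leaf 0x0)) (.node 74476 (.leaf 0x303010904020202000701000b) (.node 74477 (.leaf 0x0) (.leaf 0xb0b0a0a0004)))) (.node 74481 (.node 74479 (.leaf 0x0) (.node 74480 (.leaf 0xf0b0b0a0a0005) (.leaf 0x3040901090202000701000a))) (.node 74482 (.leaf 0x0) (.node 74483 (.leaf 0xf0001) (.leaf 0x0))))))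

def argWS_6599 : Store := (.node 74495 (.node 74489 (.node 74486 (.node 74485 (.leaf 0x122f30122ef) (.leaf 0xe0a0a0003)) (.node 74487 (.leaf 0x0) (.node 74488 (.leaf 0xb0b0a0003) (.leaf 0x0)))) (.node 74492 (.node 74490 (.leaf 0x0) (.node 74491 (.leaf 0xf0b0002) (.leaf 0x6010900090802040105000a))) (.node 74493 (.leaf 0x0) (.node 74494 (.leaf 0x0) (.leaf 0x122fd))))) (.node 74501 (.node 74498 (.node 74496 (.leaf 0xb0001) (.node 74497 (.leaf 0x0) (.leaf 0xb0b0a0a0004))) (.node 74499 (.leaf 0x0) (.node 74500 (.leaf 0x0) (.leaf 0xe0001)))) (.node 74504 (.node 74502 (.leaf 0xe0001) (.node 74503 (.leaf 0x12305) (.leaf 0x709000009000703040103000c))) (.node 74505 (.leaf 0x0) (.node 74506 (.leaf 0xb0a0f0003) (.leaf 0x0))))))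

def argWS_6600 : Store := (.node 74484 argWS_6598 argWS_6599)

def argWS_6601 : Store := (.node 74462 argWS_6597 argWS_6600)

def argWS_6602 : Store := (.node 74417 argWS_6594 argWS_6601)

def argWS_6603 : Store := (.node 74518 (.node 74512 (.node 74509 (.node 74508 (.leaf 0x0) (.leaf 0xf0b0a0003)) (.node 74510 (.leaf 0xf0b0a0a0004) (.node 74511 (.leaf 0xa0001) (.leaf 0x1230e01230d)))) (.node 74515 (.node 74513 (.leaf 0xb0001) (.node 74514 (.leaf 0x0) (.leaf 0xf0b0b0a0a0005))) (.node 74516 (.leaf 0x0) (.node 74517 (.leaf 0x0) (.leaf 0xa0001))))) (.node 74523 (.node 74520 (.node 74519 (.leaf 0x604030306040202000701000b) (.leaf 0x0)) (.node 74521 (.leaf 0xf0001) (.node 74522 (.leaf 0x0) (.leaf 0xd0001)))) (.node 74526 (.node 74524 (.leaf 0x1231a012319) (.node 74525 (.leaf 0x7030502090106000703040103000d) (.leaf 0x0))) (.node 74527 (.leaf 0xb0f0a0a0004) (.node 74528 (.leaf 0x0) (.leaf 0xd0b0b0003))))))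

def argWS_6604 : Store := (.node 74540 (.node 74534 (.node 74531 (.node 74530 (.leaf 0x0) (.leaf 0x0)) (.node 74532 (.leaf 0xb0b0a0003) (.node 74533 (.leaf 0x1108d) (.leaf 0xb0f0a0a0004)))) (.node 74537 (.node 74535 (.leaf 0x0) (.node 74536 (.leaf 0xb0a0a0003) (.leaf 0x0))) (.node 74538 (.leaf 0x0) (.node 74539 (.leaf 0xe0a0002) (.leaf 0x700000408010006))))) (.node 74546 (.node 74543 (.node 74541 (.leaf 0x0) (.node 74542 (.leaf 0x0) (.leaf 0x20902000003010802040105000c))) (.node 74544 (.leaf 0x0) (.node 74545 (.leaf 0xd0001) (.leaf 0x0)))) (.node 74549 (.node 74547 (.leaf 0x1233101232d) (.node 74548 (.leaf 0xf0b0b0003) (.leaf 0x0))) (.node 74550 (.leaf 0xb0b0a0003) (.node 74551 (.leaf 0x0) (.leaf 0x0))))))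

def argWS_6605 : Store := (.node 74529 argWS_6603 argWS_6604)

def argWS_6606 : Store := (.node 74563 (.node 74557 (.node 74554 (.node 74553 (.leaf 0xb0a0f0003) (.leaf 0xf0b0002)) (.node 74555 (.leaf 0x12339) (.node 74556 (.leaf 0xf0a0002) (.leaf 0x0)))) (.node 74560 (.node 74558 (.leaf 0xf0b0b0a0a0005) (.node 74559 (.leaf 0x0) (.leaf 0x0))) (.node 74561 (.leaf 0xb0001) (.node 74562 (.leaf 0xe0a0a0003) (.leaf 0x1234101072e))))) (.node 74568 (.node 74565 (.node 74564 (.leaf 0xa0f0002) (.leaf 0x0)) (.node 74566 (.leaf 0xe0001) (.node 74567 (.leaf 0x0) (.leaf 0x0)))) (.node 74571 (.node 74569 (.leaf 0x1090000090202000701000a) (.node 74570 (.leaf 0x0) (.leaf 0xa0f0b0003))) (.node 74572 (.leaf 0x0) (.node 74573 (.leaf 0xb0a0002) (.leaf 0xb0b0a0a0004))))))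

def argWS_6607 : Store := (.node 74585 (.node 74579 (.node 74576 (.node 74575 (.leaf 0x1234d01234c) (.leaf 0xb0b0a0003)) (.node 74577 (.leaf 0x0) (.node 74578 (.leaf 0x50006010500020202000701000c) (.leaf 0x0)))) (.node 74582 (.node 74580 (.leaf 0xd0b0002) (.node 74581 (.leaf 0xf0a0002) (.leaf 0x20002020106060007))) (.node 74583 (.leaf 0x0) (.node 74584 (.leaf 0xf0a0002) (.leaf 0x0))))) (.node 74591 (.node 74588 (.node 74586 (.leaf 0xf0a0002) (.node 74587 (.leaf 0x12359012358) (.leaf 0xb0f0a0003))) (.node 74589 (.leaf 0x0) (.node 74590 (.leaf 0xf0a0002) (.leaf 0x0)))) (.node 74594 (.node 74592 (.leaf 0x0) (.node 74593 (.leaf 0x1030006030500040008) (.leaf 0x0))) (.node 74595 (.leaf 0xa0f0b0b0004) (.node 74596 (.leaf 0x0) (.leaf 0x207030004))))))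

def argWS_6608 : Store := (.node 74574 argWS_6606 argWS_6607)

def argWS_6609 : Store := (.node 74552 argWS_6605 argWS_6608)

def argWS_6610 : Store := (.node 74608 (.node 74602 (.node 74599 (.node 74598 (.leaf 0x0) (.leaf 0xf0b0b0003)) (.node 74600 (.leaf 0x0) (.node 74601 (.leaf 0x12367) (.leaf 0xa0f0b0b0004)))) (.node 74605 (.node 74603 (.leaf 0x0) (.node 74604 (.leaf 0xb0b0a0a0004) (.leaf 0x0))) (.node 74606 (.leaf 0x0) (.node 74607 (.leaf 0xb0f0a0003) (.leaf 0x2010908050202000701000a))))) (.node 74613 (.node 74610 (.node 74609 (.leaf 0x0) (.leaf 0x0)) (.node 74611 (.leaf 0xf0b0b0a0a0005) (.node 74612 (.leaf 0x12372012371) (.leaf 0xf0b0b0a0004)))) (.node 74616 (.node 74614 (.leaf 0x0) (.node 74615 (.leaf 0xb0b0a0003) (.leaf 0x0))) (.node 74617 (.leaf 0x0) (.node 74618 (.leaf 0xa0f0b0003) (.leaf 0xb0a0f0003))))))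

def argWS_6611 : Store := (.node 74630 (.node 74624 (.node 74621 (.node 74620 (.leaf 0xd0001) (.leaf 0x1237b01237a)) (.node 74622 (.leaf 0xa0f0b0b0004) (.node 74623 (.leaf 0x0) (.leaf 0xf0a0a0003)))) (.node 74627 (.node 74625 (.leaf 0x0) (.node 74626 (.leaf 0x0) (.leaf 0xa0001))) (.node 74628 (.leaf 0xf0b0a0a0004) (.node 74629 (.leaf 0x9040207030005) (.leaf 0x0))))) (.node 74636 (.node 74633 (.node 74631 (.leaf 0xb0a0f0003) (.node 74632 (.leaf 0x0) (.leaf 0x12387012383))) (.node 74634 (.leaf 0xa0f0b0b0004) (.node 74635 (.leaf 0x0) (.leaf 0xa0f0b0b0004)))) (.node 74639 (.node 74637 (.leaf 0x0) (.node 74638 (.leaf 0x0) (.leaf 0x609000902020007010009))) (.node 74640 (.leaf 0x0) (.node 74641 (.leaf 0xe0a0002) (.leaf 0x0))))))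

def argWS_6612 : Store := (.node 74619 argWS_6610 argWS_6611)

def argWS_6613 : Store := (.node 74653 (.node 74647 (.node 74644 (.node 74643 (.leaf 0xf0b0002) (.leaf 0x6020000000300000202000701000d)) (.node 74645 (.leaf 0x0) (.node 74646 (.leaf 0xb0001) (.leaf 0x0)))) (.node 74650 (.node 74648 (.leaf 0x12396012392) (.node 74649 (.leaf 0xf0b0b0003) (.leaf 0x0))) (.node 74651 (.leaf 0xd0001) (.node 74652 (.leaf 0x0) (.leaf 0x0))))) (.node 74659 (.node 74656 (.node 74654 (.leaf 0xf0001) (.node 74655 (.leaf 0xf0b0b0a0a0005) (.leaf 0x201020900000006))) (.node 74657 (.leaf 0x0) (.node 74658 (.leaf 0xe0a0a0003) (.leaf 0x0)))) (.node 74662 (.node 74660 (.leaf 0x123a201239e) (.node 74661 (.leaf 0xa0f0002) (.leaf 0x0))) (.node 74663 (.leaf 0x80004070206000007) (.node 74664 (.leaf 0x0) (.leaf 0xb0a0f0003))))))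

def argWS_6614 : Store := (.node 74676 (.node 74670 (.node 74667 (.node 74666 (.leaf 0xf0b0b0003) (.leaf 0x60102020900000202000701000c)) (.node 74668 (.leaf 0x0) (.node 74669 (.leaf 0xd0001) (.leaf 0x0)))) (.node 74673 (.node 74671 (.leaf 0xb0001) (.node 74672 (.leaf 0x123ae0123ad) (.leaf 0xe0001))) (.node 74674 (.leaf 0x0) (.node 74675 (.leaf 0xf0b0b0a0004) (.leaf 0x0))))) (.node 74682 (.node 74679 (.node 74677 (.leaf 0x0) (.node 74678 (.leaf 0x400040004080703040103000b) (.leaf 0x0))) (.node 74680 (.leaf 0x0) (.node 74681 (.leaf 0x0) (.leaf 0xe0a0a0003)))) (.node 74685 (.node 74683 (.leaf 0x9000003010202000701000a) (.node 74684 (.leaf 0x0) (.leaf 0xb0f0a0a0004))) (.node 74686 (.leaf 0x0) (.node 74687 (.leaf 0x123bd0123b9) (.leaf 0xa0f0b0003))))))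

def argWS_6615 : Store := (.node 74665 argWS_6613 argWS_6614)

def argWS_6616 : Store := (.node 74642 argWS_6612 argWS_6615)

def argWS_6617 : Store := (.node 74597 argWS_6609 argWS_6616)

def argWS_6618 : Store := (.node 74507 argWS_6602 argWS_6617)

def argWS_6619 : Store := (.node 74699 (.node 74693 (.node 74690 (.node 74689 (.leaf 0x0) (.leaf 0xe0001)) (.node 74691 (.leaf 0x0) (.node 74692 (.leaf 0x0) (.leaf 0xb0f0002)))) (.node 74696 (.node 74694 (.leaf 0x60300030000000703040103000c) (.node 74695 (.leaf 0x0) (.leaf 0x0))) (.node 74697 (.leaf 0x123c7) (.node 74698 (.leaf 0xf0b0b0a0004) (.leaf 0x0))))) (.node 74704 (.node 74701 (.node 74700 (.leaf 0x6000400050006) (.leaf 0x0)) (.node 74702 (.leaf 0xf0b0a0a0004) (.node 74703 (.leaf 0xb0a0f0003) (.leaf 0xb0f0002)))) (.node 74707 (.node 74705 (.leaf 0xe0a0a0003) (.node 74706 (.leaf 0x123d00123cf) (.leaf 0xf0b0002))) (.node 74708 (.leaf 0x0) (.node 74709 (.leaf 0xe0a0002) (.leaf 0x0))))))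

def argWS_6620 : Store := (.node 74721 (.node 74715 (.node 74712 (.node 74711 (.leaf 0x0) (.leaf 0xf0b0b0a0a0005)) (.node 74713 (.leaf 0xb0b0a0003) (.node 74714 (.leaf 0x123d80123d7) (.leaf 0x60501020106060202000701000c)))) (.node 74718 (.node 74716 (.leaf 0x0) (.node 74717 (.leaf 0xb0b0a0a0004) (.leaf 0x0))) (.node 74719 (.leaf 0xf0b0002) (.node 74720 (.leaf 0x0) (.leaf 0x0))))) (.node 74727 (.node 74724 (.node 74722 (.leaf 0xf0a0002) (.node 74723 (.leaf 0xf0a0a0003) (.leaf 0x123e2))) (.node 74725 (.leaf 0xb0001) (.node 74726 (.leaf 0x0) (.leaf 0xe0d0002)))) (.node 74730 (.node 74728 (.leaf 0x0) (.node 74729 (.leaf 0x0) (.leaf 0xb0b0002))) (.node 74731 (.leaf 0x123e9009243) (.node 74732 (.leaf 0xa0f0b0003) (.leaf 0x0))))))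

def argWS_6621 : Store := (.node 74710 argWS_6619 argWS_6620)

def argWS_6622 : Store := (.node 74744 (.node 74738 (.node 74735 (.node 74734 (.leaf 0xf0b0b0a0004) (.leaf 0x0)) (.node 74736 (.leaf 0x90300050206040802040105000c) (.node 74737 (.leaf 0x0) (.leaf 0xf0b0b0a0004)))) (.node 74741 (.node 74739 (.leaf 0x0) (.node 74740 (.leaf 0xe0001) (.leaf 0xf0a0a0003))) (.node 74742 (.leaf 0x123f40123f3) (.node 74743 (.leaf 0xe0a0002) (.leaf 0x0))))) (.node 74749 (.node 74746 (.node 74745 (.leaf 0x300090009000703040103000b) (.leaf 0x0)) (.node 74747 (.leaf 0xe0a0002) (.node 74748 (.leaf 0xd0001) (.leaf 0xd6b000e2dd)))) (.node 74752 (.node 74750 (.leaf 0xf0b0b0a0a0005) (.node 74751 (.leaf 0x0) (.leaf 0xb0a0f0003))) (.node 74753 (.leaf 0x0) (.node 74754 (.leaf 0x0) (.leaf 0xb0f0a0a0004))))))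

def argWS_6623 : Store := (.node 74766 (.node 74760 (.node 74757 (.node 74756 (.leaf 0xb0f0a0003) (.leaf 0x11b4b012403)) (.node 74758 (.leaf 0xb0f0002) (.node 74759 (.leaf 0x0) (.leaf 0x3040300020804000008)))) (.node 74763 (.node 74761 (.leaf 0x0) (.node 74762 (.leaf 0xd0001) (.leaf 0xb0a0002))) (.node 74764 (.leaf 0xe0a0002) (.node 74765 (.leaf 0x4020506010500020008) (.leaf 0x0))))) (.node 74772 (.node 74769 (.node 74767 (.leaf 0xd0b0b0003) (.node 74768 (.leaf 0x0) (.leaf 0x1240f01240b))) (.node 74770 (.leaf 0xa0001) (.node 74771 (.leaf 0x0) (.leaf 0xa0f0b0003)))) (.node 74775 (.node 74773 (.leaf 0x0) (.node 74774 (.leaf 0x0) (.leaf 0xa0001))) (.node 74776 (.leaf 0x10401090805000703040103000c) (.node 74777 (.leaf 0x0) (.leaf 0xe0a0002))))))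

def argWS_6624 : Store := (.node 74755 argWS_6622 argWS_6623)

def argWS_6625 : Store := (.node 74733 argWS_6621 argWS_6624)

def argWS_6626 : Store := (.node 74789 (.node 74783 (.node 74780 (.node 74779 (.leaf 0x0) (.leaf 0x75fd01241a)) (.node 74781 (.leaf 0xb0a0002) (.node 74782 (.leaf 0x0) (.leaf 0xa0f0b0b0004)))) (.node 74786 (.node 74784 (.leaf 0x0) (.node 74785 (.leaf 0x0) (.leaf 0xa0a0002))) (.node 74787 (.leaf 0xb0b0a0a0004) (.node 74788 (.leaf 0x1242200b6a5) (.leaf 0xe0a0a0003))))) (.node 74794 (.node 74791 (.node 74790 (.leaf 0x0) (.leaf 0xa0f0b0003)) (.node 74792 (.leaf 0x0) (.node 74793 (.leaf 0x0) (.leaf 0xf0b0b0a0004)))) (.node 74797 (.node 74795 (.leaf 0xa0f0b0b0004) (.node 74796 (.leaf 0x1242a012429) (.leaf 0xe0a0a0003))) (.node 74798 (.leaf 0x0) (.node 74799 (.leaf 0xf0b0b0a0a0005) (.leaf 0x0))))))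

def argWS_6627 : Store := (.node 74811 (.node 74805 (.node 74802 (.node 74801 (.leaf 0x0) (.leaf 0xa0001)) (.node 74803 (.leaf 0x80101090806000007) (.node 74804 (.leaf 0x0) (.leaf 0xf0b0b0003)))) (.node 74808 (.node 74806 (.leaf 0x0) (.node 74807 (.leaf 0x12435) (.leaf 0xd0b0002))) (.node 74809 (.leaf 0x0) (.node 74810 (.leaf 0xe0a0002) (.leaf 0x0))))) (.node 74817 (.node 74814 (.node 74812 (.leaf 0x0) (.node 74813 (.leaf 0xe0001) (.leaf 0x1070000020804000202000701000d))) (.node 74815 (.leaf 0x0) (.node 74816 (.leaf 0xb0f0a0003) (.leaf 0x0)))) (.node 74820 (.node 74818 (.leaf 0x124400072ac) (.node 74819 (.leaf 0xb0a0a0003) (.leaf 0x0))) (.node 74821 (.leaf 0xb0f0a0a0004) (.node 74822 (.leaf 0x0) (.leaf 0x0))))))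

def argWS_6628 : Store := (.node 74800 argWS_6626 argWS_6627)

def argWS_6629 : Store := (.node 74834 (.node 74828 (.node 74825 (.node 74824 (.leaf 0x30500030306040007) (.leaf 0x0)) (.node 74826 (.leaf 0xb0001) (.node 74827 (.leaf 0x0) (.leaf 0x300070209020802040105000b)))) (.node 74831 (.node 74829 (.leaf 0x0) (.node 74830 (.leaf 0xf0b0b0003) (.leaf 0x0))) (.node 74832 (.leaf 0x1244e001744) (.node 74833 (.leaf 0xf0a0a0003) (.leaf 0x0))))) (.node 74839 (.node 74836 (.node 74835 (.leaf 0xa0001) (.leaf 0x0)) (.node 74837 (.leaf 0x0) (.node 74838 (.leaf 0x3010904020005) (.leaf 0x0)))) (.node 74842 (.node 74840 (.leaf 0xb0f0002) (.node 74841 (.leaf 0x0) (.leaf 0xe0a0002))) (.node 74843 (.leaf 0x12459) (.node 74844 (.leaf 0xb0b0a0003) (.leaf 0x0))))))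

def argWS_6630 : Store := (.node 74856 (.node 74850 (.node 74847 (.node 74846 (.leaf 0x20206030500040007) (.leaf 0x0)) (.node 74848 (.leaf 0xf0b0b0a0004) (.node 74849 (.leaf 0xb0f0a0003) (.leaf 0xb0f0a0003)))) (.node 74853 (.node 74851 (.leaf 0x118f0012461) (.node 74852 (.leaf 0xa0f0b0b0004) (.leaf 0x0))) (.node 74854 (.leaf 0xa0f0002) (.node 74855 (.leaf 0x0) (.leaf 0x0))))) (.node 74862 (.node 74859 (.node 74857 (.leaf 0x40004090806000802040105000c) (.node 74858 (.leaf 0x0) (.leaf 0xa0f0002))) (.node 74860 (.leaf 0x0) (.node 74861 (.leaf 0xb0a0a0003) (.leaf 0x11f9c01246c)))) (.node 74865 (.node 74863 (.leaf 0xb0a0a0003) (.node 74864 (.leaf 0x0) (.leaf 0xb0b0a0a0004))) (.node 74866 (.leaf 0x0) (.node 74867 (.leaf 0x0) (.leaf 0xb0f0a0a0004))))))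

def argWS_6631 : Store := (.node 74845 argWS_6629 argWS_6630)

def argWS_6632 : Store := (.node 74823 argWS_6628 argWS_6631)

def argWS_6633 : Store := (.node 74778 argWS_6625 argWS_6632)

def argWS_6634 : Store := (.node 74879 (.node 74873 (.node 74870 (.node 74869 (.leaf 0x2090305020202010202000701000d) (.leaf 0x0)) (.node 74871 (.leaf 0xa0f0002) (.node 74872 (.leaf 0x0) (.leaf 0x12477)))) (.node 74876 (.node 74874 (.leaf 0xf0a0002) (.node 74875 (.leaf 0x0) (.leaf 0xb0b0002))) (.node 74877 (.leaf 0x0) (.node 74878 (.leaf 0x0) (.leaf 0x206090206020202000701000b))))) (.node 74884 (.node 74881 (.node 74880 (.leaf 0x0) (.leaf 0xf0b0b0a0a0005)) (.node 74882 (.leaf 0x0) (.node 74883 (.leaf 0x2000205020604000703040103000d) (.leaf 0x0)))) (.node 74887 (.node 74885 (.leaf 0xb0f0a0a0004) (.node 74886 (.leaf 0x0) (.leaf 0xf0a0002))) (.node 74888 (.leaf 0x12486012485) (.node 74889 (.leaf 0xa0f0b0003) (.leaf 0x0))))))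

def argWS_6635 : Store := (.node 74901 (.node 74895 (.node 74892 (.node 74891 (.leaf 0x0) (.leaf 0xb0a0a0003)) (.node 74893 (.leaf 0xf0a0002) (.node 74894 (.leaf 0xa0f0002) (.leaf 0xf01701248d)))) (.node 74898 (.node 74896 (.leaf 0xb0f0002) (.node 74897 (.leaf 0x0) (.leaf 0xd0b0002))) (.node 74899 (.leaf 0x0) (.node 74900 (.leaf 0x0) (.leaf 0xb0001))))) (.node 74907 (.node 74904 (.node 74902 (.leaf 0xf0b0a0a0004) (.node 74903 (.leaf 0xa0a0002) (.leaf 0x12496012495))) (.node 74905 (.leaf 0xd0b0b0003) (.node 74906 (.leaf 0x0) (.leaf 0xa0a0002)))) (.node 74910 (.node 74908 (.leaf 0x0) (.node 74909 (.leaf 0x0) (.leaf 0xf0b0b0a0004))) (.node 74911 (.leaf 0x1040703060005) (.node 74912 (.leaf 0x0) (.leaf 0xb0a0002))))))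

def argWS_6636 : Store := (.node 74890 argWS_6634 argWS_6635)

def argWS_6637 : Store := (.node 74924 (.node 74918 (.node 74915 (.node 74914 (.leaf 0x0) (.leaf 0x124a1)) (.node 74916 (.leaf 0xb0b0a0003) (.node 74917 (.leaf 0x0) (.leaf 0xf0a0a0003)))) (.node 74921 (.node 74919 (.leaf 0x0) (.node 74920 (.leaf 0x0) (.leaf 0xf0b0b0a0004))) (.node 74922 (.leaf 0x304030009020602000703040103000e) (.node 74923 (.leaf 0x0) (.leaf 0xb0a0002))))) (.node 74929 (.node 74926 (.node 74925 (.leaf 0x0) (.leaf 0x60102070206000202000701000c)) (.node 74927 (.leaf 0x0) (.node 74928 (.leaf 0xb0001) (.leaf 0x0)))) (.node 74932 (.node 74930 (.leaf 0x124b00124ac) (.node 74931 (.leaf 0xb0f0002) (.leaf 0x0))) (.node 74933 (.leaf 0xa0001) (.node 74934 (.leaf 0x0) (.leaf 0x0))))))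

def argWS_6638 : Store := (.node 74946 (.node 74940 (.node 74937 (.node 74936 (.leaf 0xb0f0a0a0004) (.leaf 0xf0b0b0003)) (.node 74938 (.leaf 0xf0b0b0a0a0005) (.node 74939 (.leaf 0x124b90124b8) (.leaf 0xf0b0b0a0004)))) (.node 74943 (.node 74941 (.leaf 0x0) (.node 74942 (.leaf 0xe0a0002) (.leaf 0x0))) (.node 74944 (.leaf 0x0) (.node 74945 (.leaf 0xa0001) (.leaf 0xb0f0002))))) (.node 74952 (.node 74949 (.node 74947 (.leaf 0x90306040004) (.node 74948 (.leaf 0x0) (.leaf 0xb0a0002))) (.node 74950 (.leaf 0x0) (.node 74951 (.leaf 0x124c50124c1) (.leaf 0x7020400050802040105000a)))) (.node 74955 (.node 74953 (.leaf 0x0) (.node 74954 (.leaf 0xb0f0a0003) (.leaf 0x0))) (.node 74956 (.leaf 0xb0b0a0a0004) (.node 74957 (.leaf 0x0) (.leaf 0x0))))))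

def argWS_6639 : Store := (.node 74935 argWS_6637 argWS_6638)

def argWS_6640 : Store := (.node 74913 argWS_6636 argWS_6639)

def argWS_6641 : Store := (.node 74969 (.node 74963 (.node 74960 (.node 74959 (.leaf 0xf0b0a0003) (.leaf 0x802000000030000000703040103000e)) (.node 74961 (.leaf 0x0) (.node 74962 (.leaf 0xf0a0a0003) (.leaf 0x0)))) (.node 74966 (.node 74964 (.leaf 0x102020000030000000703040103000e) (.node 74965 (.leaf 0x0) (.leaf 0xb0b0a0003))) (.node 74967 (.leaf 0x0) (.node 74968 (.leaf 0x124d60124d2) (.leaf 0xf0b0b0003))))) (.node 74974 (.node 74971 (.node 74970 (.leaf 0x0) (.leaf 0xe0d0002)) (.node 74972 (.leaf 0x0) (.node 74973 (.leaf 0x0) (.leaf 0xb0001)))) (.node 74977 (.node 74975 (.leaf 0xb0a0f0003) (.node 74976 (.leaf 0xd0b0b0003) (.leaf 0x124df0124de))) (.node 74978 (.leaf 0xf0b0b0a0004) (.node 74979 (.leaf 0x0) (.leaf 0xf0001))))))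

def argWS_6642 : Store := (.node 74991 (.node 74985 (.node 74982 (.node 74981 (.leaf 0x0) (.leaf 0x0)) (.node 74983 (.leaf 0xa0001) (.node 74984 (.leaf 0xf0a0a0003) (.leaf 0x124e7)))) (.node 74988 (.node 74986 (.leaf 0xb0f0a0003) (.node 74987 (.leaf 0x0) (.leaf 0xb0f0a0a0004))) (.node 74989 (.leaf 0x0) (.node 74990 (.leaf 0x0) (.leaf 0xe0a0a0003))))) (.node 74997 (.node 74994 (.node 74992 (.leaf 0xa0f0b0b0004) (.node 74993 (.leaf 0xb0a0f0003) (.leaf 0x124f00124ef))) (.node 74995 (.leaf 0xf0a0a0003) (.node 74996 (.leaf 0x0) (.leaf 0xb0a0a0003)))) (.node 75000 (.node 74998 (.leaf 0x0) (.node 74999 (.leaf 0x0) (.leaf 0xf0b0b0003))) (.node 75001 (.leaf 0xd0001) (.node 75002 (.leaf 0xd0b0002) (.leaf 0x124f90124f8))))))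

def argWS_6643 : Store := (.node 74980 argWS_6641 argWS_6642)

def argWS_6644 : Store := (.node 75014 (.node 75008 (.node 75005 (.node 75004 (.leaf 0x303000408010006) (.leaf 0x0)) (.node 75006 (.leaf 0xf0b0002) (.node 75007 (.leaf 0x0) (.leaf 0xa0a0002)))) (.node 75011 (.node 75009 (.leaf 0x0) (.node 75010 (.leaf 0x0) (.leaf 0x303080004))) (.node 75012 (.leaf 0x0) (.node 75013 (.leaf 0x0) (.leaf 0xf0a0002))))) (.node 75020 (.node 75017 (.node 75015 (.leaf 0x12505012504) (.node 75016 (.leaf 0xb0b0002) (.leaf 0x0))) (.node 75018 (.leaf 0x606010207030802040105000b) (.node 75019 (.leaf 0x0) (.leaf 0xd0b0002)))) (.node 75023 (.node 75021 (.leaf 0x304010908050202000701000b) (.node 75022 (.leaf 0x0) (.leaf 0xe0a0002))) (.node 75024 (.leaf 0x0) (.node 75025 (.leaf 0xd0001) (.leaf 0x2010307000902000701000a))))))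

def argWS_6645 : Store := (.node 75037 (.node 75031 (.node 75028 (.node 75027 (.leaf 0x0) (.leaf 0xa0f0b0003)) (.node 75029 (.leaf 0x0) (.node 75030 (.leaf 0x12514012510) (.leaf 0xa0f0b0003)))) (.node 75034 (.node 75032 (.leaf 0x0) (.node 75033 (.leaf 0x20601070209020202000701000c) (.leaf 0x0))) (.node 75035 (.leaf 0xd0b0002) (.node 75036 (.leaf 0xb0b0a0003) (.leaf 0x7030306040005))))) (.node 75043 (.node 75040 (.node 75038 (.leaf 0x0) (.node 75039 (.leaf 0xd0001) (.leaf 0x0))) (.node 75041 (.leaf 0x10703060004) (.node 75042 (.leaf 0x0) (.leaf 0xb0a0f0003)))) (.node 75046 (.node 75044 (.leaf 0x0) (.node 75045 (.leaf 0x1252301251f) (.leaf 0x3070006010500020802040105000d))) (.node 75047 (.leaf 0x0) (.node 75048 (.leaf 0xd0001) (.leaf 0x0))))))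

def argWS_6646 : Store := (.node 75026 argWS_6644 argWS_6645)

def argWS_6647 : Store := (.node 75003 argWS_6643 argWS_6646)

def argWS_6648 : Store := (.node 74958 argWS_6640 argWS_6647)

def argWS_6649 : Store := (.node 74868 argWS_6633 argWS_6648)

def argWS_6650 : Store := (.node 74688 argWS_6618 argWS_6649)

def argWS_6651 : Store := (.node 74327 argWS_6587 argWS_6650)

def argWS_6652 : Store := (.node 73605 argWS_6524 argWS_6651)

def argWS_6653 : Store := (.node 72162 argWS_6397 argWS_6652)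

def argWS_6654 : Store := (.node 75060 (.node 75054 (.node 75051 (.node 75050 (.leaf 0xb0f0a0a0004) (.leaf 0x0)) (.node 75052 (.leaf 0x0) (.node 75053 (.leaf 0x304030009020602000703040103000e) (.leaf 0x0)))) (.node 75057 (.node 75055 (.leaf 0xd0001) (.node 75056 (.leaf 0x0) (.leaf 0xb0a0a0003))) (.node 75058 (.leaf 0x12530) (.node 75059 (.leaf 0xe0001) (.leaf 0x0))))) (.node 75065 (.node 75062 (.node 75061 (.leaf 0x60301040005000703040103000c) (.leaf 0x0)) (.node 75063 (.leaf 0xf0b0b0003) (.node 75064 (.leaf 0xb0f0a0003) (.leaf 0xa0a0002)))) (.node 75068 (.node 75066 (.leaf 0x12538) (.node 75067 (.leaf 0x400090206020007) (.leaf 0x0))) (.node 75069 (.leaf 0xa0a0002) (.node 75070 (.leaf 0x0) (.leaf 0xf0001))))))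

def argWS_6655 : Store := (.node 75082 (.node 75076 (.node 75073 (.node 75072 (.leaf 0x0) (.leaf 0x0)) (.node 75074 (.leaf 0xb0f0a0a0004) (.node 75075 (.leaf 0x20606020702010802040105000c) (.leaf 0x0)))) (.node 75079 (.node 75077 (.leaf 0xf0001) (.node 75078 (.leaf 0x0) (.leaf 0xe0a0a0003))) (.node 75080 (.leaf 0x12546012545) (.node 75081 (.leaf 0xf0a0a0003) (.leaf 0x0))))) (.node 75088 (.node 75085 (.node 75083 (.leaf 0xd0001) (.node 75084 (.leaf 0x0) (.leaf 0x0))) (.node 75086 (.leaf 0xb0b0a0003) (.node 75087 (.leaf 0x2000300000202000701000a) (.leaf 0x0)))) (.node 75091 (.node 75089 (.leaf 0xe0a0a0003) (.node 75090 (.leaf 0x0) (.leaf 0x50000020106060802040105000c))) (.node 75092 (.leaf 0x0) (.node 75093 (.leaf 0x0) (.leaf 0x12554012551))))))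

def argWS_6656 : Store := (.node 75071 argWS_6654 argWS_6655)

def argWS_6657 : Store := (.node 75105 (.node 75099 (.node 75096 (.node 75095 (.leaf 0xb0a0002) (.leaf 0x0)) (.node 75097 (.leaf 0xb0b0002) (.node 75098 (.leaf 0x0) (.leaf 0x0)))) (.node 75102 (.node 75100 (.leaf 0xb0f0a0003) (.node 75101 (.leaf 0xb0b0a0003) (.leaf 0x1255c))) (.node 75103 (.leaf 0xf0a0a0003) (.node 75104 (.leaf 0x0) (.leaf 0xf0b0b0a0a0005))))) (.node 75110 (.node 75107 (.node 75106 (.leaf 0x0) (.leaf 0xb0f0a0003)) (.node 75108 (.leaf 0x3070002010606000703040103000d) (.node 75109 (.leaf 0x0) (.leaf 0xa0001)))) (.node 75113 (.node 75111 (.leaf 0x0) (.node 75112 (.leaf 0x12566) (.leaf 0x40002000003010802040105000c))) (.node 75114 (.leaf 0x0) (.node 75115 (.leaf 0xe0001) (.leaf 0x0))))))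

def argWS_6658 : Store := (.node 75127 (.node 75121 (.node 75118 (.node 75117 (.leaf 0xf0b0a0a0004) (.leaf 0x0)) (.node 75119 (.leaf 0x0) (.node 75120 (.leaf 0x201030901090202000701000b) (.leaf 0x0)))) (.node 75124 (.node 75122 (.leaf 0xf0a0002) (.node 75123 (.leaf 0x0) (.leaf 0x800000601050002000703040103000e))) (.node 75125 (.leaf 0x0) (.node 75126 (.leaf 0xa0f0b0b0004) (.leaf 0x0))))) (.node 75133 (.node 75130 (.node 75128 (.leaf 0x12576) (.node 75129 (.leaf 0xb0f0a0a0004) (.leaf 0x0))) (.node 75131 (.leaf 0xf0a0a0003) (.node 75132 (.leaf 0x0) (.leaf 0x0)))) (.node 75136 (.node 75134 (.leaf 0xf0b0002) (.node 75135 (.leaf 0x202000206030802040105000b) (.leaf 0x0))) (.node 75137 (.leaf 0xf0b0b0003) (.node 75138 (.leaf 0x0) (.leaf 0x1258101257d))))))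

def argWS_6659 : Store := (.node 75116 argWS_6657 argWS_6658)

def argWS_6660 : Store := (.node 75094 argWS_6656 argWS_6659)

def argWS_6661 : Store := (.node 75150 (.node 75144 (.node 75141 (.node 75140 (.leaf 0x6020901060802040105000a) (.leaf 0x0)) (.node 75142 (.leaf 0xd0b0002) (.node 75143 (.leaf 0x0) (.leaf 0xb0f0a0a0004)))) (.node 75147 (.node 75145 (.leaf 0x0) (.node 75146 (.leaf 0x0) (.leaf 0xb0b0a0003))) (.node 75148 (.leaf 0x1258a) (.node 75149 (.leaf 0x0) (.leaf 0xf0b0a0003))))) (.node 75155 (.node 75152 (.node 75151 (.leaf 0x0) (.leaf 0x0)) (.node 75153 (.leaf 0xb0f0a0003) (.node 75154 (.leaf 0x2010300020804000802040105000d) (.leaf 0x0)))) (.node 75158 (.node 75156 (.leaf 0xb0f0a0003) (.node 75157 (.leaf 0x0) (.leaf 0x12594))) (.node 75159 (.leaf 0x702060308020401050009) (.node 75160 (.leaf 0x0) (.leaf 0xf0001))))))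

def argWS_6662 : Store := (.node 75172 (.node 75166 (.node 75163 (.node 75162 (.leaf 0x0) (.leaf 0x0)) (.node 75164 (.leaf 0xa0001) (.node 75165 (.leaf 0xb0a0002) (.leaf 0xa0f0b0003)))) (.node 75169 (.node 75167 (.leaf 0x1259d01259c) (.node 75168 (.leaf 0x7040601050002000703040103000d) (.leaf 0x0))) (.node 75170 (.leaf 0xe0a0a0003) (.node 75171 (.leaf 0x0) (.leaf 0xa0f0b0003))))) (.node 75178 (.node 75175 (.node 75173 (.leaf 0x0) (.node 75174 (.leaf 0x0) (.leaf 0xb0a0a0003))) (.node 75176 (.leaf 0x103010900090202000701000b) (.node 75177 (.leaf 0x0) (.leaf 0xa0001)))) (.node 75181 (.node 75179 (.leaf 0x0) (.node 75180 (.leaf 0xd0b0002) (.leaf 0x125ab0125aa))) (.node 75182 (.leaf 0x0) (.node 75183 (.leaf 0xa0a0002) (.leaf 0x0))))))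

def argWS_6663 : Store := (.node 75161 argWS_6661 argWS_6662)

def argWS_6664 : Store := (.node 75195 (.node 75189 (.node 75186 (.node 75185 (.leaf 0xa0f0b0003) (.leaf 0x0)) (.node 75187 (.leaf 0x0) (.node 75188 (.leaf 0x3060408020401050008) (.leaf 0x0)))) (.node 75192 (.node 75190 (.leaf 0xd0001) (.node 75191 (.leaf 0x0) (.leaf 0x125b6))) (.node 75193 (.leaf 0xf0b0002) (.node 75194 (.leaf 0x0) (.leaf 0x20901070009030802040105000c))))) (.node 75200 (.node 75197 (.node 75196 (.leaf 0x0) (.leaf 0xd0001)) (.node 75198 (.leaf 0xe0d0002) (.node 75199 (.leaf 0x40309080600000703040103000c) (.leaf 0x0)))) (.node 75203 (.node 75201 (.leaf 0xa0f0002) (.node 75202 (.leaf 0x0) (.leaf 0x125c1))) (.node 75204 (.leaf 0xb0b0a0a0004) (.node 75205 (.leaf 0x0) (.leaf 0xf0b0b0003))))))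

def argWS_6665 : Store := (.node 75217 (.node 75211 (.node 75208 (.node 75207 (.leaf 0x0) (.leaf 0x0)) (.node 75209 (.leaf 0xd0b0b0003) (.node 75210 (.leaf 0xf0b0002) (.leaf 0x125c9)))) (.node 75214 (.node 75212 (.leaf 0xb0b0a0003) (.node 75213 (.leaf 0x0) (.leaf 0x0))) (.node 75215 (.leaf 0xa0001) (.node 75216 (.leaf 0xe0a0002) (.leaf 0x9070400050802040105000a))))) (.node 75223 (.node 75220 (.node 75218 (.leaf 0x0) (.node 75219 (.leaf 0xe0001) (.leaf 0x0))) (.node 75221 (.leaf 0x125d30125cf) (.node 75222 (.leaf 0xf0a0002) (.leaf 0x0)))) (.node 75226 (.node 75224 (.leaf 0xe0001) (.node 75225 (.leaf 0x0) (.leaf 0x0))) (.node 75227 (.leaf 0xd0b0b0003) (.node 75228 (.leaf 0xe0a0a0003) (.leaf 0x306020702010802040105000c))))))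

def argWS_6666 : Store := (.node 75206 argWS_6664 argWS_6665)

def argWS_6667 : Store := (.node 75184 argWS_6663 argWS_6666)

def argWS_6668 : Store := (.node 75139 argWS_6660 argWS_6667)

def argWS_6669 : Store := (.node 75240 (.node 75234 (.node 75231 (.node 75230 (.leaf 0x0) (.leaf 0xa0f0002)) (.node 75232 (.leaf 0x0) (.node 75233 (.leaf 0x125df0125db) (.leaf 0xf0b0b0a0004)))) (.node 75237 (.node 75235 (.leaf 0x0) (.node 75236 (.leaf 0xe0a0002) (.leaf 0x0))) (.node 75238 (.leaf 0x0) (.node 75239 (.leaf 0x700090206020802040105000c) (.leaf 0x0))))) (.node 75245 (.node 75242 (.node 75241 (.leaf 0xf0b0a0a0004) (.leaf 0x0)) (.node 75243 (.leaf 0x8000002000003010802040105000d) (.node 75244 (.leaf 0x0) (.leaf 0x0)))) (.node 75248 (.node 75246 (.leaf 0xf0b0a0003) (.node 75247 (.leaf 0x125ed0125ec) (.leaf 0xb0b0a0a0004))) (.node 75249 (.leaf 0x0) (.node 75250 (.leaf 0x202070009030802040105000b) (.leaf 0x0))))))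

def argWS_6670 : Store := (.node 75262 (.node 75256 (.node 75253 (.node 75252 (.leaf 0xb0b0a0003) (.leaf 0xb0a0f0003)) (.node 75254 (.leaf 0x20901050206040007) (.node 75255 (.leaf 0x0) (.leaf 0xe0d0002)))) (.node 75259 (.node 75257 (.leaf 0x0) (.node 75258 (.leaf 0xb0f0a0003) (.leaf 0x125f90125f8))) (.node 75260 (.leaf 0x400030901090202000701000b) (.node 75261 (.leaf 0x0) (.leaf 0xd0b0002))))) (.node 75268 (.node 75265 (.node 75263 (.leaf 0x0) (.node 75264 (.leaf 0xb0a0f0003) (.leaf 0x0))) (.node 75266 (.leaf 0x0) (.node 75267 (.leaf 0xb0a0002) (.leaf 0xf0b0a0003)))) (.node 75271 (.node 75269 (.leaf 0x20000090109000703040103000c) (.node 75270 (.leaf 0x0) (.leaf 0xb0b0a0003))) (.node 75272 (.leaf 0x0) (.node 75273 (.leaf 0x12607012603) (.leaf 0xf0b0a0a0004))))))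

def argWS_6671 : Store := (.node 75251 argWS_6669 argWS_6670)

def argWS_6672 : Store := (.node 75285 (.node 75279 (.node 75276 (.node 75275 (.leaf 0x0) (.leaf 0xd0b0002)) (.node 75277 (.leaf 0x0) (.node 75278 (.leaf 0x0) (.leaf 0xf0b0a0003)))) (.node 75282 (.node 75280 (.leaf 0xf0b0a0003) (.node 75281 (.leaf 0xf0001) (.leaf 0x1261001260f))) (.node 75283 (.leaf 0xd0b0b0003) (.node 75284 (.leaf 0x0) (.leaf 0xf0b0a0a0004))))) (.node 75290 (.node 75287 (.node 75286 (.leaf 0x0) (.leaf 0x0)) (.node 75288 (.leaf 0xa0a0002) (.node 75289 (.leaf 0xf0b0b0a0a0005) (.leaf 0x1261800fef5)))) (.node 75293 (.node 75291 (.leaf 0xf0b0a0a0004) (.node 75292 (.leaf 0x0) (.leaf 0x307000903000703040103000c))) (.node 75294 (.leaf 0x0) (.node 75295 (.leaf 0xf0b0b0a0a0005) (.leaf 0xa0f0002))))))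

def argWS_6673 : Store := (.node 75307 (.node 75301 (.node 75298 (.node 75297 (.leaf 0x80007000902000701000a) (.leaf 0x0)) (.node 75299 (.leaf 0x0) (.node 75300 (.leaf 0x12622) (.leaf 0xe0a0002)))) (.node 75304 (.node 75302 (.leaf 0x0) (.node 75303 (.leaf 0xa0f0b0003) (.leaf 0x0))) (.node 75305 (.leaf 0x0) (.node 75306 (.leaf 0x6010206020702010802040105000d) (.leaf 0x0))))) (.node 75313 (.node 75310 (.node 75308 (.leaf 0x0) (.node 75309 (.leaf 0x102020901090006) (.leaf 0x0))) (.node 75311 (.leaf 0xb0b0a0a0004) (.node 75312 (.leaf 0x0) (.leaf 0xd0b0002)))) (.node 75316 (.node 75314 (.leaf 0x1263001262f) (.node 75315 (.leaf 0xe0a0a0003) (.leaf 0x0))) (.node 75317 (.leaf 0x90307000903000703040103000c) (.node 75318 (.leaf 0x0) (.leaf 0xf0b0a0003))))))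

def argWS_6674 : Store := (.node 75296 argWS_6672 argWS_6673)

def argWS_6675 : Store := (.node 75274 argWS_6671 argWS_6674)

def argWS_6676 : Store := (.node 75330 (.node 75324 (.node 75321 (.node 75320 (.leaf 0x2020202000003010802040105000d) (.leaf 0x0)) (.node 75322 (.leaf 0xf0b0002) (.node 75323 (.leaf 0x0) (.leaf 0x90400030306040202000701000c)))) (.node 75327 (.node 75325 (.leaf 0x0) (.node 75326 (.leaf 0xf0001) (.leaf 0x0))) (.node 75328 (.leaf 0xf0b0b0a0a0005) (.node 75329 (.leaf 0x1263f01263e) (.leaf 0xe0001))))) (.node 75335 (.node 75332 (.node 75331 (.leaf 0x0) (.leaf 0x70305020703000703040103000c)) (.node 75333 (.leaf 0x0) (.node 75334 (.leaf 0xb0f0a0a0004) (.leaf 0xf0b0a0a0004)))) (.node 75338 (.node 75336 (.leaf 0x902010901090202000701000b) (.node 75337 (.leaf 0x0) (.leaf 0xb0b0a0a0004))) (.node 75339 (.leaf 0x0) (.node 75340 (.leaf 0xb0b0a0a0004) (.leaf 0x1264b01264a))))))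

def argWS_6677 : Store := (.node 75352 (.node 75346 (.node 75343 (.node 75342 (.leaf 0xb0a0f0003) (.leaf 0x0)) (.node 75344 (.leaf 0xb0f0a0003) (.node 75345 (.leaf 0x0) (.leaf 0x0)))) (.node 75349 (.node 75347 (.leaf 0xe0a0002) (.node 75348 (.leaf 0x90601070306000703040103000c) (.leaf 0x0))) (.node 75350 (.leaf 0xf0b0b0003) (.node 75351 (.leaf 0x0) (.leaf 0x109ab012656))))) (.node 75358 (.node 75355 (.node 75353 (.leaf 0xb0b0a0a0004) (.node 75354 (.leaf 0x0) (.leaf 0xa0f0b0003))) (.node 75356 (.leaf 0x0) (.node 75357 (.leaf 0x0) (.leaf 0x2090601050002000703040103000d)))) (.node 75361 (.node 75359 (.leaf 0x0) (.node 75360 (.leaf 0xb0f0a0a0004) (.leaf 0x0))) (.node 75362 (.leaf 0xb0b0002) (.node 75363 (.leaf 0xe0d0002) (.leaf 0x12662012661))))))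

def argWS_6678 : Store := (.node 75341 argWS_6676 argWS_6677)

def argWS_6679 : Store := (.node 75375 (.node 75369 (.node 75366 (.node 75365 (.leaf 0xb0f0a0003) (.leaf 0x0)) (.node 75367 (.leaf 0xa0a0002) (.node 75368 (.leaf 0x0) (.leaf 0x0)))) (.node 75372 (.node 75370 (.leaf 0x2010703060802040105000b) (.node 75371 (.leaf 0x0) (.leaf 0x0))) (.node 75373 (.leaf 0xf0001) (.node 75374 (.leaf 0x30306040202000701000c) (.leaf 0x0))))) (.node 75380 (.node 75377 (.node 75376 (.leaf 0xb0b0a0a0004) (.leaf 0x0)) (.node 75378 (.leaf 0x1267001266c) (.node 75379 (.leaf 0xf0b0002) (.leaf 0x0)))) (.node 75383 (.node 75381 (.leaf 0xd0b0b0003) (.node 75382 (.leaf 0x0) (.leaf 0x0))) (.node 75384 (.leaf 0xb0f0a0a0004) (.node 75385 (.leaf 0xb0f0a0003) (.leaf 0xa0001))))))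

def argWS_6680 : Store := (.node 75397 (.node 75391 (.node 75388 (.node 75387 (.leaf 0x12679012678) (.leaf 0xd0001)) (.node 75389 (.leaf 0x0) (.node 75390 (.leaf 0xf0b0a0003) (.leaf 0x0)))) (.node 75394 (.node 75392 (.leaf 0x0) (.node 75393 (.leaf 0x40003070009030007) (.leaf 0x0))) (.node 75395 (.leaf 0x0) (.node 75396 (.leaf 0xa0f0b0b0004) (.leaf 0x6000003030604000703040103000e))))) (.node 75403 (.node 75400 (.node 75398 (.leaf 0x0) (.node 75399 (.leaf 0xf0b0b0a0004) (.leaf 0x0))) (.node 75401 (.leaf 0x12687012683) (.node 75402 (.leaf 0xf0a0a0003) (.leaf 0x0)))) (.node 75406 (.node 75404 (.leaf 0xa0001) (.node 75405 (.leaf 0x0) (.leaf 0x0))) (.node 75407 (.leaf 0xa0f0b0003) (.node 75408 (.leaf 0x1268e) (.leaf 0x20502020901060802040105000c))))))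

def argWS_6681 : Store := (.node 75386 argWS_6679 argWS_6680)

def argWS_6682 : Store := (.node 75364 argWS_6678 argWS_6681)

def argWS_6683 : Store := (.node 75319 argWS_6675 argWS_6682)

def argWS_6684 : Store := (.node 75229 argWS_6668 argWS_6683)

def argWS_6685 : Store := (.node 75420 (.node 75414 (.node 75411 (.node 75410 (.leaf 0x0) (.leaf 0xd0b0002)) (.node 75412 (.leaf 0x0) (.node 75413 (.leaf 0xe0a0002) (.leaf 0x0)))) (.node 75417 (.node 75415 (.leaf 0x0) (.node 75416 (.leaf 0xf0b0002) (.leaf 0xb0f0a0003))) (.node 75418 (.leaf 0xb0a0002) (.node 75419 (.leaf 0x12699012698) (.leaf 0xe0001))))) (.node 75425 (.node 75422 (.node 75421 (.leaf 0x0) (.leaf 0xb0a0f0003)) (.node 75423 (.leaf 0x0) (.node 75424 (.leaf 0x0) (.leaf 0xb0b0a0a0004)))) (.node 75428 (.node 75426 (.leaf 0xb0f0a0a0004) (.node 75427 (.leaf 0x605090206020006) (.leaf 0x0))) (.node 75429 (.leaf 0xf0a0002) (.node 75430 (.leaf 0x0) (.leaf 0x126a50126a1))))))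

def argWS_6686 : Store := (.node 75442 (.node 75436 (.node 75433 (.node 75432 (.leaf 0xa0f0b0003) (.leaf 0x0)) (.node 75434 (.leaf 0x503050009020602000703040103000e) (.node 75435 (.leaf 0x0) (.leaf 0xf0b0b0a0004)))) (.node 75439 (.node 75437 (.leaf 0xb0b0a0a0004) (.node 75438 (.leaf 0xb0f0a0003) (.leaf 0xf0b0a0a0004))) (.node 75440 (.leaf 0x126ae0126ad) (.node 75441 (.leaf 0xb0a0002) (.leaf 0x0))))) (.node 75448 (.node 75445 (.node 75443 (.leaf 0xd0001) (.node 75444 (.leaf 0x0) (.leaf 0x0))) (.node 75446 (.leaf 0xb0f0a0a0004) (.node 75447 (.leaf 0xb0b0002) (.leaf 0xf0a0a0003)))) (.node 75451 (.node 75449 (.leaf 0x126b70126b6) (.node 75450 (.leaf 0x60007020902000703040103000d) (.leaf 0x0))) (.node 75452 (.leaf 0xb0a0a0003) (.node 75453 (.leaf 0x0) (.leaf 0xf0b0b0a0a0005))))))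

def argWS_6687 : Store := (.node 75431 argWS_6685 argWS_6686)

def argWS_6688 : Store := (.node 75465 (.node 75459 (.node 75456 (.node 75455 (.leaf 0x0) (.leaf 0x0)) (.node 75457 (.leaf 0xa0f0b0b0004) (.node 75458 (.leaf 0x6020901090005) (.leaf 0x0)))) (.node 75462 (.node 75460 (.leaf 0xb0a0a0003) (.node 75461 (.leaf 0x0) (.leaf 0xd0b0b0003))) (.node 75463 (.leaf 0x126c50126c4) (.node 75464 (.leaf 0x900090806000802040105000b) (.leaf 0x0))))) (.node 75470 (.node 75467 (.node 75466 (.leaf 0xf0b0a0003) (.leaf 0x0)) (.node 75468 (.leaf 0xe0a0a0003) (.node 75469 (.leaf 0x0) (.leaf 0x0)))) (.node 75473 (.node 75471 (.leaf 0xf0b0002) (.node 75472 (.leaf 0x30301010200000703040103000d) (.leaf 0x0))) (.node 75474 (.leaf 0xf0a0002) (.node 75475 (.leaf 0x0) (.leaf 0x126d2))))))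

def argWS_6689 : Store := (.node 75487 (.node 75481 (.node 75478 (.node 75477 (.leaf 0x70305070206000802040105000c) (.leaf 0x0)) (.node 75479 (.leaf 0xb0a0002) (.node 75480 (.leaf 0x0) (.leaf 0xf0b0b0a0004)))) (.node 75484 (.node 75482 (.leaf 0x0) (.node 75483 (.leaf 0x0) (.leaf 0xe0a0a0003))) (.node 75485 (.leaf 0xb0b0002) (.node 75486 (.leaf 0x126dc) (.leaf 0x602000900090802040105000b))))) (.node 75493 (.node 75490 (.node 75488 (.leaf 0x0) (.node 75489 (.leaf 0xb0a0f0003) (.leaf 0x0))) (.node 75491 (.leaf 0xf0b0b0003) (.node 75492 (.leaf 0x0) (.leaf 0x0)))) (.node 75496 (.node 75494 (.leaf 0xb0a0a0003) (.node 75495 (.leaf 0xb0f0a0003) (.leaf 0xe0d0002))) (.node 75497 (.leaf 0x126e70126e6) (.node 75498 (.leaf 0xd0b0b0003) (.leaf 0x0))))))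

def argWS_6690 : Store := (.node 75476 argWS_6688 argWS_6689)

def argWS_6691 : Store := (.node 75454 argWS_6687 argWS_6690)

def argWS_6692 : Store := (.node 75510 (.node 75504 (.node 75501 (.node 75500 (.leaf 0x0) (.leaf 0xa0a0002)) (.node 75502 (.leaf 0xf0b0a0a0004) (.node 75503 (.leaf 0x40304010908050007) (.leaf 0x0)))) (.node 75507 (.node 75505 (.leaf 0xb0f0a0a0004) (.node 75506 (.leaf 0x0) (.leaf 0x126f10126ed))) (.node 75508 (.leaf 0x0) (.node 75509 (.leaf 0xa0001) (.leaf 0x0))))) (.node 75515 (.node 75512 (.node 75511 (.leaf 0x0) (.leaf 0xa0f0002)) (.node 75513 (.leaf 0xf0b0a0003) (.node 75514 (.leaf 0x126f8) (.leaf 0xb0a0a0003)))) (.node 75518 (.node 75516 (.leaf 0x0) (.node 75517 (.leaf 0xb0a0002) (.leaf 0x0))) (.node 75519 (.leaf 0x0) (.node 75520 (.leaf 0x500090206020202000701000b) (.leaf 0x0))))))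

def argWS_6693 : Store := (.node 75532 (.node 75526 (.node 75523 (.node 75522 (.leaf 0xb0b0a0003) (.leaf 0x0)) (.node 75524 (.leaf 0xb0a0a0003) (.node 75525 (.leaf 0x12703) (.leaf 0xa0f0002)))) (.node 75529 (.node 75527 (.leaf 0x0) (.node 75528 (.leaf 0x403040900090802040105000b) (.leaf 0x0))) (.node 75530 (.leaf 0xb0b0a0003) (.node 75531 (.leaf 0xb0b0a0a0004) (.leaf 0x1020206030005))))) (.node 75538 (.node 75535 (.node 75533 (.leaf 0x0) (.node 75534 (.leaf 0xd0001) (.leaf 0x0))) (.node 75536 (.leaf 0x1270e) (.node 75537 (.leaf 0xe0001) (.leaf 0x0)))) (.node 75541 (.node 75539 (.leaf 0xf0b0b0003) (.node 75540 (.leaf 0x0) (.leaf 0x0))) (.node 75542 (.leaf 0xd0b0b0003) (.node 75543 (.leaf 0xb0a0002) (.leaf 0x12716012715))))))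

def argWS_6694 : Store := (.node 75521 argWS_6692 argWS_6693)

def argWS_6695 : Store := (.node 75555 (.node 75549 (.node 75546 (.node 75545 (.leaf 0xb0b0a0003) (.leaf 0x0)) (.node 75547 (.leaf 0xe0001) (.node 75548 (.leaf 0x0) (.leaf 0x0)))) (.node 75552 (.node 75550 (.leaf 0xb0b0002) (.node 75551 (.leaf 0x3070000020804000802040105000d) (.leaf 0x0))) (.node 75553 (.leaf 0xf0b0a0a0004) (.node 75554 (.leaf 0x0) (.leaf 0x6040807030401030008))))) (.node 75560 (.node 75557 (.node 75556 (.leaf 0x0) (.leaf 0xd0b0002)) (.node 75558 (.leaf 0x0) (.node 75559 (.leaf 0x12725012721) (.leaf 0xd0b0002)))) (.node 75563 (.node 75561 (.leaf 0x0) (.node 75562 (.leaf 0xb0a0002) (.leaf 0x0))) (.node 75564 (.leaf 0x0) (.node 75565 (.leaf 0xe0a0a0003) (.leaf 0x8000406030500040202000701000d))))))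

def argWS_6696 : Store := (.node 75577 (.node 75571 (.node 75568 (.node 75567 (.leaf 0x0) (.leaf 0xf0b0b0a0004)) (.node 75569 (.leaf 0x0) (.node 75570 (.leaf 0xf0b0b0a0004) (.leaf 0x12731012730)))) (.node 75574 (.node 75572 (.leaf 0xb0f0002) (.node 75573 (.leaf 0x0) (.leaf 0xf0b0b0a0004))) (.node 75575 (.leaf 0x0) (.node 75576 (.leaf 0x0) (.leaf 0xf0001))))) (.node 75583 (.node 75580 (.node 75578 (.leaf 0xf0b0a0a0004) (.node 75579 (.leaf 0x12739012738) (.leaf 0xb0a0f0003))) (.node 75581 (.leaf 0x0) (.node 75582 (.leaf 0xb0b0002) (.leaf 0x0)))) (.node 75586 (.node 75584 (.leaf 0x0) (.node 75585 (.leaf 0xa0a0002) (.leaf 0xd0001))) (.node 75587 (.leaf 0xb0f0a0003) (.node 75588 (.leaf 0x12742012741) (.leaf 0xb0b0002))))))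

def argWS_6697 : Store := (.node 75566 argWS_6695 argWS_6696)

def argWS_6698 : Store := (.node 75544 argWS_6694 argWS_6697)

def argWS_6699 : Store := (.node 75499 argWS_6691 argWS_6698)

def argWS_6700 : Store := (.node 75600 (.node 75594 (.node 75591 (.node 75590 (.leaf 0x0) (.leaf 0x90000090004)) (.node 75592 (.leaf 0x0) (.node 75593 (.leaf 0xe0001) (.leaf 0x7030500000300000008)))) (.node 75597 (.node 75595 (.leaf 0x0) (.node 75596 (.leaf 0xa0f0002) (.leaf 0x0))) (.node 75598 (.leaf 0x904070209020802040105000b) (.node 75599 (.leaf 0x0) (.leaf 0xa0f0002))))) (.node 75605 (.node 75602 (.node 75601 (.leaf 0x0) (.leaf 0xa0f0002)) (.node 75603 (.leaf 0x12751012750) (.node 75604 (.leaf 0xe0a0002) (.leaf 0x0)))) (.node 75608 (.node 75606 (.leaf 0x205020202010202000701000c) (.node 75607 (.leaf 0x0) (.leaf 0xa0f0002))) (.node 75609 (.leaf 0xb0a0f0003) (.node 75610 (.leaf 0xe0001) (.leaf 0x307020901060802040105000b))))))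

def argWS_6701 : Store := (.node 75622 (.node 75616 (.node 75613 (.node 75612 (.leaf 0x0) (.leaf 0xa0f0b0b0004)) (.node 75614 (.leaf 0x0) (.node 75615 (.leaf 0x1275d012759) (.leaf 0xa0f0b0b0004)))) (.node 75619 (.node 75617 (.leaf 0x0) (.node 75618 (.leaf 0x30700000300000202000701000c) (.leaf 0x0))) (.node 75620 (.leaf 0xd0001) (.node 75621 (.leaf 0x11efa00854a) (.leaf 0xf0b0b0a0004))))) (.node 75628 (.node 75625 (.node 75623 (.leaf 0x0) (.node 75624 (.leaf 0x305010908050802040105000b) (.leaf 0x0))) (.node 75626 (.leaf 0xb0f0002) (.node 75627 (.leaf 0xd0001) (.leaf 0xd0001)))) (.node 75631 (.node 75629 (.leaf 0xb0b0a0003) (.node 75630 (.leaf 0x1276c01276b) (.leaf 0xb0a0f0003))) (.node 75632 (.leaf 0x0) (.node 75633 (.leaf 0xa0a0002) (.leaf 0x0))))))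

def argWS_6702 : Store := (.node 75611 argWS_6700 argWS_6701)

def argWS_6703 : Store := (.node 75645 (.node 75639 (.node 75636 (.node 75635 (.leaf 0x0) (.leaf 0xb0001)) (.node 75637 (.leaf 0x3030400050202000701000a) (.node 75638 (.leaf 0x0) (.leaf 0xb0f0a0a0004)))) (.node 75642 (.node 75640 (.leaf 0x0) (.node 75641 (.leaf 0x9030002010606000703040103000d) (.leaf 0x0))) (.node 75643 (.leaf 0xa0f0b0003) (.node 75644 (.leaf 0x0) (.leaf 0x1277b012777))))) (.node 75650 (.node 75647 (.node 75646 (.leaf 0xb0a0a0003) (.leaf 0x0)) (.node 75648 (.leaf 0xb0a0a0003) (.node 75649 (.leaf 0x0) (.leaf 0xa0001)))) (.node 75653 (.node 75651 (.leaf 0xb0b0002) (.node 75652 (.leaf 0x2050601050002000703040103000d) (.leaf 0x0))) (.node 75654 (.leaf 0xf0b0b0003) (.node 75655 (.leaf 0x0) (.leaf 0x12786012782))))))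

def argWS_6704 : Store := (.node 75667 (.node 75661 (.node 75658 (.node 75657 (.leaf 0xf0b0a0a0004) (.leaf 0x0)) (.node 75659 (.leaf 0xf0a0002) (.node 75660 (.leaf 0x0) (.leaf 0x0)))) (.node 75664 (.node 75662 (.leaf 0xd0b0b0003) (.node 75663 (.leaf 0xf0b0b0003) (.leaf 0x1278e01278d))) (.node 75665 (.leaf 0xb0f0a0003) (.node 75666 (.leaf 0x0) (.leaf 0xe0001))))) (.node 75673 (.node 75670 (.node 75668 (.leaf 0x0) (.node 75669 (.leaf 0x0) (.leaf 0x307000401050006))) (.node 75671 (.leaf 0x0) (.node 75672 (.leaf 0xb0f0002) (.leaf 0x0)))) (.node 75676 (.node 75674 (.leaf 0xb0f0a0a0004) (.node 75675 (.leaf 0x12799) (.leaf 0xd0001))) (.node 75677 (.leaf 0x0) (.node 75678 (.leaf 0x0) (.leaf 0xb0f0a0a0004))))))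

def argWS_6705 : Store := (.node 75656 argWS_6703 argWS_6704)

def argWS_6706 : Store := (.node 75634 argWS_6702 argWS_6705)

def argWS_6707 : Store := (.node 75690 (.node 75684 (.node 75681 (.node 75680 (.leaf 0xe0001) (.leaf 0xf0b0b0a0004)) (.node 75682 (.leaf 0xf0b0b0a0004) (.node 75683 (.leaf 0x127a10127a0) (.leaf 0xb0a0002)))) (.node 75687 (.node 75685 (.leaf 0x0) (.node 75686 (.leaf 0xd0001) (.leaf 0x0))) (.node 75688 (.leaf 0x0) (.node 75689 (.leaf 0xa0f0b0003) (.leaf 0x304030901090202000701000b))))) (.node 75695 (.node 75692 (.node 75691 (.leaf 0x0) (.leaf 0xb0f0a0003)) (.node 75693 (.leaf 0x0) (.node 75694 (.leaf 0xe0001) (.leaf 0x127ad0127ac)))) (.node 75698 (.node 75696 (.leaf 0xe0d0002) (.node 75697 (.leaf 0x0) (.leaf 0xa0001))) (.node 75699 (.leaf 0x0) (.node 75700 (.leaf 0x0) (.leaf 0xf0a0002))))))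

def argWS_6708 : Store := (.node 75712 (.node 75706 (.node 75703 (.node 75702 (.leaf 0xe0d0002) (.leaf 0xf0001)) (.node 75704 (.leaf 0x127b60127b5) (.node 75705 (.leaf 0xa0f0b0003) (.leaf 0x0)))) (.node 75709 (.node 75707 (.leaf 0xb0a0f0003) (.node 75708 (.leaf 0x0) (.leaf 0x0))) (.node 75710 (.leaf 0x10207030401030007) (.node 75711 (.leaf 0x0) (.leaf 0xb0f0a0a0004))))) (.node 75718 (.node 75715 (.node 75713 (.leaf 0x0) (.node 75714 (.leaf 0xe0d0002) (.leaf 0x127c1))) (.node 75716 (.leaf 0xb0f0a0003) (.node 75717 (.leaf 0x0) (.leaf 0x2000200090206020802040105000d)))) (.node 75721 (.node 75719 (.leaf 0x0) (.node 75720 (.leaf 0xe0a0a0003) (.leaf 0xd0b0b0003))) (.node 75722 (.leaf 0xb0b0a0a0004) (.node 75723 (.leaf 0x127c9) (.leaf 0xa0f0002))))))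

def argWS_6709 : Store := (.node 75701 argWS_6707 argWS_6708)

def argWS_6710 : Store := (.node 75735 (.node 75729 (.node 75726 (.node 75725 (.leaf 0x0) (.leaf 0x0)) (.node 75727 (.leaf 0xb0a0f0003) (.node 75728 (.leaf 0xb0a0a0003) (.leaf 0xe0a0002)))) (.node 75732 (.node 75730 (.leaf 0x127d00127cf) (.node 75731 (.leaf 0xb0a0002) (.leaf 0x0))) (.node 75733 (.leaf 0xe0a0a0003) (.node 75734 (.leaf 0x0) (.leaf 0x0))))) (.node 75741 (.node 75738 (.node 75736 (.leaf 0x9030007000903000703040103000d) (.node 75737 (.leaf 0x0) (.leaf 0xd0b0002))) (.node 75739 (.leaf 0x0) (.node 75740 (.leaf 0xb0a0002) (.leaf 0x120630127db)))) (.node 75744 (.node 75742 (.leaf 0xf0b0a0a0004) (.node 75743 (.leaf 0x0) (.leaf 0x600020000030703040103000b))) (.node 75745 (.leaf 0x0) (.node 75746 (.leaf 0xb0b0a0a0004) (.leaf 0xf0a0002))))))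

def argWS_6711 : Store := (.node 75758 (.node 75752 (.node 75749 (.node 75748 (.leaf 0xf0b0b0003) (.leaf 0x60007000902000701000a)) (.node 75750 (.leaf 0x0) (.node 75751 (.leaf 0x0) (.leaf 0x127e60127e3)))) (.node 75755 (.node 75753 (.leaf 0xb0a0a0003) (.node 75754 (.leaf 0x0) (.leaf 0xb0001))) (.node 75756 (.leaf 0x0) (.node 75757 (.leaf 0x0) (.leaf 0xb0a0002))))) (.node 75764 (.node 75761 (.node 75759 (.leaf 0x701010908050802040105000b) (.node 75760 (.leaf 0x0) (.leaf 0xb0f0002))) (.node 75762 (.leaf 0x0) (.node 75763 (.leaf 0x127f1) (.leaf 0xd0b0002)))) (.node 75767 (.node 75765 (.leaf 0x0) (.node 75766 (.leaf 0xe0001) (.leaf 0x0))) (.node 75768 (.leaf 0x0) (.node 75769 (.leaf 0xf0b0002) (.leaf 0x206020703000703040103000b))))))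

def argWS_6712 : Store := (.node 75747 argWS_6710 argWS_6711)

def argWS_6713 : Store := (.node 75724 argWS_6709 argWS_6712)

def argWS_6714 : Store := (.node 75679 argWS_6706 argWS_6713)

def argWS_6715 : Store := (.node 75589 argWS_6699 argWS_6714)

def argWS_6716 : Store := (.node 75409 argWS_6684 argWS_6715)

def argWS_6717 : Store := (.node 75781 (.node 75775 (.node 75772 (.node 75771 (.leaf 0x0) (.leaf 0xe0d0002)) (.node 75773 (.leaf 0x0) (.node 75774 (.leaf 0xb0b0a0a0004) (.leaf 0x127fd0127fc)))) (.node 75778 (.node 75776 (.leaf 0x50300000300000202000701000c) (.node 75777 (.leaf 0x0) (.leaf 0xf0a0a0003))) (.node 75779 (.leaf 0x0) (.node 75780 (.leaf 0xb0001) (.leaf 0x0))))) (.node 75786 (.node 75783 (.node 75782 (.leaf 0x0) (.leaf 0xe0a0002)) (.node 75784 (.leaf 0x90006030500040202000701000d) (.node 75785 (.leaf 0x0) (.leaf 0xb0f0a0003)))) (.node 75789 (.node 75787 (.leaf 0x0) (.node 75788 (.leaf 0x1280a) (.leaf 0x0))) (.node 75790 (.leaf 0xf0b0002)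 (.node 75791 (.leaf 0x0) (.leaf 0x0))))))

def argWS_6718 : Store := (.node 75803 (.node 75797 (.node 75794 (.node 75793 (.leaf 0xb0a0f0003) (.leaf 0xf0001)) (.node 75795 (.leaf 0xc5af012811) (.node 75796 (.leaf 0x404000408010802040105000b) (.leaf 0x0)))) (.node 75800 (.node 75798 (.leaf 0xb0f0a0003) (.node 75799 (.leaf 0x0) (.leaf 0xb0f0a0003))) (.node 75801 (.leaf 0x0) (.node 75802 (.leaf 0x0) (.leaf 0x601020102000003010009))))) (.node 75809 (.node 75806 (.node 75804 (.leaf 0x0) (.node 75805 (.leaf 0xb0b0a0a0004) (.leaf 0x0))) (.node 75807 (.leaf 0xf0a0a0003) (.node 75808 (.leaf 0xd0b0b0003) (.leaf 0x1281f01281e)))) (.node 75812 (.node 75810 (.leaf 0xe0a0a0003) (.node 75811 (.leaf 0x0) (.leaf 0x400020804000802040105000c))) (.node 75813 (.leaf 0x0) (.node 75814 (.leaf 0xf0b0a0003) (.leaf 0xa0001))))))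

def argWS_6719 : Store := (.node 75792 argWS_6717 argWS_6718)

def argWS_6720 : Store := (.node 75826 (.node 75820 (.node 75817 (.node 75816 (.leaf 0x12766000a88) (.leaf 0xb0b0002)) (.node 75818 (.leaf 0x0) (.node 75819 (.leaf 0xb0001) (.leaf 0x0)))) (.node 75823 (.node 75821 (.leaf 0x0) (.node 75822 (.leaf 0xf0001) (.leaf 0x503070206000202000701000b))) (.node 75824 (.leaf 0x0) (.node 75825 (.leaf 0x0) (.leaf 0xe0001))))) (.node 75831 (.node 75828 (.node 75827 (.leaf 0x12831012830) (.leaf 0xb0b0002)) (.node 75829 (.leaf 0x0) (.node 75830 (.leaf 0xf0a0a0003) (.leaf 0x0)))) (.node 75834 (.node 75832 (.leaf 0x0) (.node 75833 (.leaf 0xe0a0a0003) (.leaf 0xb0b0a0003))) (.node 75835 (.leaf 0x20000040005000703040103000c) (.node 75836 (.leaf 0x0) (.leaf 0xf0b0b0a0a0005))))))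

def argWS_6721 : Store := (.node 75848 (.node 75842 (.node 75839 (.node 75838 (.leaf 0x0) (.leaf 0x1283d012839)) (.node 75840 (.leaf 0x0) (.node 75841 (.leaf 0xb0b0002) (.leaf 0x0)))) (.node 75845 (.node 75843 (.leaf 0x0) (.node 75844 (.leaf 0xd0001) (.leaf 0xf0b0b0a0004))) (.node 75846 (.leaf 0x12844) (.node 75847 (.leaf 0xd0b0b0003) (.leaf 0x0))))) (.node 75854 (.node 75851 (.node 75849 (.leaf 0x201070009030006) (.node 75850 (.leaf 0x0) (.leaf 0xf0b0a0003))) (.node 75852 (.leaf 0xb0b0a0003) (.node 75853 (.leaf 0xb0f0002) (.leaf 0x40107020600000703040103000c)))) (.node 75857 (.node 75855 (.leaf 0x0) (.node 75856 (.leaf 0xf0a0002) (.leaf 0x0))) (.node 75858 (.leaf 0x1285001284c) (.node 75859 (.leaf 0x20403010102000007) (.leaf 0x0))))))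

def argWS_6722 : Store := (.node 75837 argWS_6720 argWS_6721)

def argWS_6723 : Store := (.node 75815 argWS_6719 argWS_6722)

def argWS_6724 : Store := (.node 75871 (.node 75865 (.node 75862 (.node 75861 (.leaf 0xf0b0b0a0a0005) (.leaf 0x0)) (.node 75863 (.leaf 0xb0b0a0003) (.node 75864 (.leaf 0x0) (.leaf 0x0)))) (.node 75868 (.node 75866 (.leaf 0xf0b0b0003) (.node 75867 (.leaf 0x6030107020902000703040103000d) (.leaf 0x0))) (.node 75869 (.leaf 0xa0f0002) (.node 75870 (.leaf 0x0) (.leaf 0x60509020602000703040103000c))))) (.node 75876 (.node 75873 (.node 75872 (.leaf 0x0) (.leaf 0xb0b0002)) (.node 75874 (.leaf 0x0) (.node 75875 (.leaf 0x1286101285d) (.leaf 0xb0001)))) (.node 75879 (.node 75877 (.leaf 0x0) (.node 75878 (.leaf 0xf0b0b0003) (.leaf 0x0))) (.node 75880 (.leaf 0x0) (.node 75881 (.leaf 0xd0b0b0003) (.leaf 0xd0b0002))))))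

def argWS_6725 : Store := (.node 75893 (.node 75887 (.node 75884 (.node 75883 (.leaf 0xa0001) (.leaf 0x1286a012869)) (.node 75885 (.leaf 0x0) (.node 75886 (.leaf 0xb0b0a0a0004) (.leaf 0x0)))) (.node 75890 (.node 75888 (.leaf 0xa0f0b0003) (.node 75889 (.leaf 0x0) (.leaf 0x0))) (.node 75891 (.leaf 0xb0b0002) (.node 75892 (.leaf 0x502050206040006) (.leaf 0x0))))) (.node 75899 (.node 75896 (.node 75894 (.leaf 0xd0b0b0003) (.node 75895 (.leaf 0x0) (.leaf 0x12876))) (.node 75897 (.leaf 0xf0b0b0003) (.node 75898 (.leaf 0x0) (.leaf 0x0)))) (.node 75902 (.node 75900 (.leaf 0xb0b0002) (.node 75901 (.leaf 0xd0b0002) (.leaf 0xb0f0a0a0004))) (.node 75903 (.leaf 0x1287d01287c) (.node 75904 (.leaf 0xf0a0a0003) (.leaf 0x0))))))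

def argWS_6726 : Store := (.node 75882 argWS_6724 argWS_6725)

def argWS_6727 : Store := (.node 75916 (.node 75910 (.node 75907 (.node 75906 (.leaf 0xe0001) (.leaf 0x0)) (.node 75908 (.leaf 0x0) (.node 75909 (.leaf 0x90606010500020802040105000c) (.leaf 0x0)))) (.node 75913 (.node 75911 (.leaf 0xf0001) (.node 75912 (.leaf 0x0) (.leaf 0xf0b0b0003))) (.node 75914 (.leaf 0x12888) (.node 75915 (.leaf 0xa0f0b0003) (.leaf 0x0))))) (.node 75921 (.node 75918 (.node 75917 (.leaf 0x307010703060006) (.leaf 0x0)) (.node 75919 (.leaf 0xe0a0002) (.node 75920 (.leaf 0xf0001) (.leaf 0xd0001)))) (.node 75924 (.node 75922 (.leaf 0x12890) (.node 75923 (.leaf 0xe0a0002) (.leaf 0x0))) (.node 75925 (.leaf 0xa0001) (.node 75926 (.leaf 0x0) (.leaf 0x0))))))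

def argWS_6728 : Store := (.node 75938 (.node 75932 (.node 75929 (.node 75928 (.leaf 0xa0f0b0003) (.leaf 0xe0d0002)) (.node 75930 (.leaf 0x1289800730e) (.node 75931 (.leaf 0xb0a0a0003) (.leaf 0x0)))) (.node 75935 (.node 75933 (.leaf 0xa0f0b0b0004) (.node 75934 (.leaf 0x0) (.leaf 0x0))) (.node 75936 (.leaf 0x6050102010606000703040103000d) (.node 75937 (.leaf 0x0) (.leaf 0xa0f0002))))) (.node 75944 (.node 75941 (.node 75939 (.leaf 0x0) (.node 75940 (.leaf 0x103090000090802040105000b) (.leaf 0x0))) (.node 75942 (.leaf 0xf0b0a0a0004) (.node 75943 (.leaf 0x0) (.leaf 0x128a60128a2)))) (.node 75947 (.node 75945 (.leaf 0xd0b0b0003) (.node 75946 (.leaf 0x0) (.leaf 0x503070009030007))) (.node 75948 (.leaf 0x0) (.node 75949 (.leaf 0xf0a0002) (.leaf 0xd0b0002))))))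

def argWS_6729 : Store := (.node 75927 argWS_6727 argWS_6728)

def argWS_6730 : Store := (.node 75905 argWS_6726 argWS_6729)

def argWS_6731 : Store := (.node 75860 argWS_6723 argWS_6730)

def argWS_6732 : Store := (.node 75961 (.node 75955 (.node 75952 (.node 75951 (.leaf 0x10502020901060802040105000c) (.leaf 0x0)) (.node 75953 (.leaf 0xb0b0002) (.node 75954 (.leaf 0x0) (.leaf 0xa0f0b0003)))) (.node 75958 (.node 75956 (.leaf 0x128b20128b1) (.node 75957 (.leaf 0x50307020600000703040103000c) (.leaf 0x0))) (.node 75959 (.leaf 0xb0f0a0003) (.node 75960 (.leaf 0x0) (.leaf 0xd0b0b0003))))) (.node 75966 (.node 75963 (.node 75962 (.leaf 0x0) (.leaf 0x0)) (.node 75964 (.leaf 0xf0b0b0003) (.node 75965 (.leaf 0x10106020702010007) (.leaf 0x0)))) (.node 75969 (.node 75967 (.leaf 0xa0f0002) (.node 75968 (.leaf 0x0) (.leaf 0x128bf0128bb))) (.node 75970 (.leaf 0xd0001) (.node 75971 (.leaf 0x0) (.leaf 0x50106030500040202000701000c))))))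

def argWS_6733 : Store := (.node 75983 (.node 75977 (.node 75974 (.node 75973 (.leaf 0x0) (.leaf 0xa0f0b0003)) (.node 75975 (.leaf 0xe0001) (.node 75976 (.leaf 0xf0b0b0a0a0005) (.leaf 0xe0a0a0003)))) (.node 75980 (.node 75978 (.leaf 0x128c80128c7) (.node 75979 (.leaf 0x0) (.leaf 0xf0b0002))) (.node 75981 (.leaf 0x0) (.node 75982 (.leaf 0xb0b0a0003) (.leaf 0x0))))) (.node 75989 (.node 75986 (.node 75984 (.leaf 0x0) (.node 75985 (.leaf 0x40406010500020007) (.leaf 0x0))) (.node 75987 (.leaf 0xb0a0a0003) (.node 75988 (.leaf 0x0) (.leaf 0x300030306040006)))) (.node 75992 (.node 75990 (.leaf 0x0) (.node 75991 (.leaf 0xd0b0002) (.leaf 0x0))) (.node 75993 (.leaf 0x128d7) (.node 75994 (.leaf 0xf0b0a0003) (.leaf 0x0))))))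

def argWS_6734 : Store := (.node 75972 argWS_6732 argWS_6733)

def argWS_6735 : Store := (.node 76006 (.node 76000 (.node 75997 (.node 75996 (.leaf 0xf0b0b0a0004) (.leaf 0x0)) (.node 75998 (.leaf 0x0) (.node 75999 (.leaf 0xa0001) (.leaf 0xb0f0a0003)))) (.node 76003 (.node 76001 (.leaf 0x128df) (.node 76002 (.leaf 0x0) (.leaf 0xb0a0a0003))) (.node 76004 (.leaf 0x0) (.node 76005 (.leaf 0xb0001) (.leaf 0x0))))) (.node 76011 (.node 76008 (.node 76007 (.leaf 0x0) (.leaf 0xb0001)) (.node 76009 (.leaf 0xf0b0002) (.node 76010 (.leaf 0x11ef50128e8) (.leaf 0xb0a0f0003)))) (.node 76014 (.node 76012 (.leaf 0x0) (.node 76013 (.leaf 0xb0f0a0a0004) (.leaf 0x0))) (.node 76015 (.leaf 0x0) (.node 76016 (.leaf 0xb0f0a0a0004) (.leaf 0xf0001))))))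

def argWS_6736 : Store := (.node 76028 (.node 76022 (.node 76019 (.node 76018 (.leaf 0x201090109000703040103000b) (.leaf 0x0)) (.node 76020 (.leaf 0xf0b0a0a0004) (.node 76021 (.leaf 0x0) (.leaf 0x128f40128f0)))) (.node 76025 (.node 76023 (.leaf 0x0) (.node 76024 (.leaf 0xf0b0a0003) (.leaf 0x0))) (.node 76026 (.leaf 0x0) (.node 76027 (.leaf 0xa0001) (.leaf 0x4000402010606000703040103000d))))) (.node 76034 (.node 76031 (.node 76029 (.leaf 0x0) (.node 76030 (.leaf 0xb0b0002) (.leaf 0x0))) (.node 76032 (.leaf 0xe0a0a0003) (.node 76033 (.leaf 0x128ff0128fe) (.leaf 0xe0001)))) (.node 76037 (.node 76035 (.leaf 0x0) (.node 76036 (.leaf 0x50000050206040802040105000c) (.leaf 0x0))) (.node 76038 (.leaf 0xe0a0002) (.node 76039 (.leaf 0xe0d0002) (.leaf 0x90307020600000703040103000c))))))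

def argWS_6737 : Store := (.node 76017 argWS_6735 argWS_6736)

def argWS_6738 : Store := (.node 75995 argWS_6734 argWS_6737)

def argWS_6739 : Store := (.node 76051 (.node 76045 (.node 76042 (.node 76041 (.leaf 0x0) (.leaf 0xf0a0002)) (.node 76043 (.leaf 0x0) (.node 76044 (.leaf 0xf0b0a0003) (.leaf 0x1290b01290a)))) (.node 76048 (.node 76046 (.leaf 0xf0b0b0a0a0005) (.node 76047 (.leaf 0x0) (.leaf 0x2060103080202000701000a))) (.node 76049 (.leaf 0x0) (.node 76050 (.leaf 0xf0a0002) (.leaf 0xe0a0a0003))))) (.node 76056 (.node 76053 (.node 76052 (.leaf 0x800020703000703040103000b) (.leaf 0x0)) (.node 76054 (.leaf 0xe0001) (.node 76055 (.leaf 0x0) (.leaf 0x129160048de)))) (.node 76059 (.node 76057 (.leaf 0x900050206040202000701000c) (.node 76058 (.leaf 0x0) (.leaf 0xe0a0002))) (.node 76060 (.leaf 0x0) (.node 76061 (.leaf 0xa0f0b0b0004) (.leaf 0x0))))))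

def argWS_6740 : Store := (.node 76073 (.node 76067 (.node 76064 (.node 76063 (.leaf 0x0) (.leaf 0x4010900090202000701000a)) (.node 76065 (.leaf 0x0) (.node 76066 (.leaf 0xb0a0f0003) (.leaf 0x0)))) (.node 76070 (.node 76068 (.leaf 0xb0b0002) (.node 76069 (.leaf 0xa0a0002) (.leaf 0x12924012923))) (.node 76071 (.leaf 0xa0f0002) (.node 76072 (.leaf 0x0) (.leaf 0x80002000003010802040105000d))))) (.node 76079 (.node 76076 (.node 76074 (.leaf 0x0) (.node 76075 (.leaf 0xf0b0b0a0a0005) (.leaf 0xb0f0a0a0004))) (.node 76077 (.leaf 0xf0b0b0a0004) (.node 76078 (.leaf 0xe0a0002) (.leaf 0x1292d01292c)))) (.node 76082 (.node 76080 (.leaf 0xa0f0b0b0004) (.node 76081 (.leaf 0x0) (.leaf 0x60200070009030802040105000c))) (.node 76083 (.leaf 0x0) (.node 76084 (.leaf 0xe0d0002) (.leaf 0x90705020604000703040103000c))))))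

def argWS_6741 : Store := (.node 76062 argWS_6739 argWS_6740)

def argWS_6742 : Store := (.node 76096 (.node 76090 (.node 76087 (.node 76086 (.leaf 0x0) (.leaf 0x0)) (.node 76088 (.leaf 0xf0b0b0003) (.node 76089 (.leaf 0xb0b0a0003) (.leaf 0x12938012937)))) (.node 76093 (.node 76091 (.leaf 0xe0001) (.node 76092 (.leaf 0x0) (.leaf 0x40103010102000802040105000c))) (.node 76094 (.leaf 0x0) (.node 76095 (.leaf 0xb0a0f0003) (.leaf 0xa0a0002))))) (.node 76102 (.node 76099 (.node 76097 (.leaf 0xa0f0b0003) (.node 76098 (.leaf 0xd0b0b0003) (.leaf 0x12941012940))) (.node 76100 (.leaf 0x904020901060006) (.node 76101 (.leaf 0x0) (.leaf 0xe0a0a0003)))) (.node 76105 (.node 76103 (.leaf 0x0) (.node 76104 (.leaf 0xf0b0a0a0004) (.leaf 0x0))) (.node 76106 (.leaf 0x0) (.node 76107 (.leaf 0xe0a0a0003) (.leaf 0x700000400050006))))))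

def argWS_6743 : Store := (.node 76119 (.node 76113 (.node 76110 (.node 76109 (.leaf 0x0) (.leaf 0xf0b0002)) (.node 76111 (.leaf 0x0) (.node 76112 (.leaf 0x1294e) (.leaf 0xf0b0b0003)))) (.node 76116 (.node 76114 (.leaf 0x0) (.node 76115 (.leaf 0xb0b0002) (.leaf 0x0))) (.node 76117 (.leaf 0x0) (.node 76118 (.leaf 0x10308020401050007) (.leaf 0x0))))) (.node 76125 (.node 76122 (.node 76120 (.leaf 0xb0f0002) (.node 76121 (.leaf 0x0) (.leaf 0xf0a0002))) (.node 76123 (.leaf 0x12959008022) (.node 76124 (.leaf 0xe0a0002) (.leaf 0x0)))) (.node 76128 (.node 76126 (.leaf 0x9000003) (.node 76127 (.leaf 0x0) (.leaf 0xb0a0f0003))) (.node 76129 (.leaf 0xb0f0a0003) (.node 76130 (.leaf 0x20002050206040202000701000c) (.leaf 0x0))))))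

def argWS_6744 : Store := (.node 76108 argWS_6742 argWS_6743)

def argWS_6745 : Store := (.node 76085 argWS_6741 argWS_6744)

def argWS_6746 : Store := (.node 76040 argWS_6738 argWS_6745)

def argWS_6747 : Store := (.node 75950 argWS_6731 argWS_6746)

def argWS_6748 : Store := (.node 76142 (.node 76136 (.node 76133 (.node 76132 (.leaf 0xf0b0b0a0a0005) (.leaf 0x0)) (.node 76134 (.leaf 0x12964) (.node 76135 (.leaf 0xb0a0f0003) (.leaf 0x0)))) (.node 76139 (.node 76137 (.leaf 0x403050206040006) (.node 76138 (.leaf 0x0) (.leaf 0xe0001))) (.node 76140 (.leaf 0xf0b0b0003) (.node 76141 (.leaf 0x1296b00eae7) (.leaf 0xa0001))))) (.node 76147 (.node 76144 (.node 76143 (.leaf 0x0) (.leaf 0xb0f0002)) (.node 76145 (.leaf 0x0) (.node 76146 (.leaf 0x0) (.leaf 0xd0b0b0003)))) (.node 76150 (.node 76148 (.leaf 0x601020103010102000009) (.node 76149 (.leaf 0x0) (.leaf 0xa0f0b0b0004))) (.node 76151 (.leaf 0x0) (.node 76152 (.leaf 0x5030901090005) (.leaf 0x0))))))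

def argWS_6749 : Store := (.node 76164 (.node 76158 (.node 76155 (.node 76154 (.leaf 0xf0a0002) (.leaf 0x0)) (.node 76156 (.leaf 0x1297a012976) (.node 76157 (.leaf 0xd0001) (.leaf 0x0)))) (.node 76161 (.node 76159 (.leaf 0xe0a0002) (.node 76160 (.leaf 0x0) (.leaf 0x0))) (.node 76162 (.leaf 0x20403010703060007) (.node 76163 (.leaf 0x0) (.leaf 0xa0f0b0b0004))))) (.node 76170 (.node 76167 (.node 76165 (.leaf 0x0) (.node 76166 (.leaf 0xf0a0a0003) (.leaf 0x12985))) (.node 76168 (.leaf 0xa0001) (.node 76169 (.leaf 0x0) (.leaf 0xf0b0b0a0a0005)))) (.node 76173 (.node 76171 (.leaf 0x0) (.node 76172 (.leaf 0x0) (.leaf 0xd0b0002))) (.node 76174 (.leaf 0xb0a0a0003) (.node 76175 (.leaf 0x1298d01298c) (.leaf 0xf0b0b0003))))))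

def argWS_6750 : Store := (.node 76153 argWS_6748 argWS_6749)

def argWS_6751 : Store := (.node 76187 (.node 76181 (.node 76178 (.node 76177 (.leaf 0x0) (.leaf 0x2000002020900000202000701000d)) (.node 76179 (.leaf 0x0) (.node 76180 (.leaf 0xf0b0b0003) (.leaf 0xb0a0f0003)))) (.node 76184 (.node 76182 (.leaf 0xa0001) (.node 76183 (.leaf 0x4020500000300000008) (.leaf 0x0))) (.node 76185 (.leaf 0xb0b0a0a0004) (.node 76186 (.leaf 0x0) (.leaf 0x12999012995))))) (.node 76192 (.node 76189 (.node 76188 (.leaf 0xe0a0a0003) (.leaf 0x0)) (.node 76190 (.leaf 0xb0f0a0003) (.node 76191 (.leaf 0x0) (.leaf 0x0)))) (.node 76195 (.node 76193 (.leaf 0xb0a0002) (.node 76194 (.leaf 0xf0001) (.leaf 0xa0001))) (.node 76196 (.leaf 0x129a20129a1) (.node 76197 (.leaf 0xa0f0b0b0004) (.leaf 0x0))))))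

def argWS_6752 : Store := (.node 76209 (.node 76203 (.node 76200 (.node 76199 (.leaf 0xa0f0b0b0004) (.leaf 0x0)) (.node 76201 (.leaf 0x0) (.node 76202 (.leaf 0xd0001) (.leaf 0xd0b0b0003)))) (.node 76206 (.node 76204 (.leaf 0x129aa) (.node 76205 (.leaf 0xb0b0a0a0004) (.leaf 0x0))) (.node 76207 (.leaf 0xa0f0b0b0004) (.node 76208 (.leaf 0x0) (.leaf 0x0))))) (.node 76215 (.node 76212 (.node 76210 (.leaf 0xb0001) (.node 76211 (.leaf 0xb0f0002) (.leaf 0x129b2))) (.node 76213 (.leaf 0xd0001) (.node 76214 (.leaf 0x0) (.leaf 0xf0b0a0003)))) (.node 76218 (.node 76216 (.leaf 0x0) (.node 76217 (.leaf 0x0) (.leaf 0xe0a0002))) (.node 76219 (.leaf 0x1010904020005) (.node 76220 (.leaf 0x0) (.leaf 0xe0a0002))))))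

def argWS_6753 : Store := (.node 76198 argWS_6751 argWS_6752)

def argWS_6754 : Store := (.node 76176 argWS_6750 argWS_6753)

def argWS_6755 : Store := (.node 76232 (.node 76226 (.node 76223 (.node 76222 (.leaf 0x0) (.leaf 0x8010103080202000701000a)) (.node 76224 (.leaf 0x0) (.node 76225 (.leaf 0xd0b0b0003) (.leaf 0x0)))) (.node 76229 (.node 76227 (.leaf 0x129c10129bd) (.node 76228 (.leaf 0xd0b0b0003) (.leaf 0x0))) (.node 76230 (.leaf 0xa0f0b0b0004) (.node 76231 (.leaf 0x0) (.leaf 0x0))))) (.node 76237 (.node 76234 (.node 76233 (.leaf 0xf0b0b0003) (.leaf 0x407030007030401030009)) (.node 76235 (.leaf 0x0) (.node 76236 (.leaf 0xe0001) (.leaf 0x0)))) (.node 76240 (.node 76238 (.leaf 0x3000901090802040105000a) (.node 76239 (.leaf 0x0) (.leaf 0xe0a0a0003))) (.node 76241 (.leaf 0x0) (.node 76242 (.leaf 0x129d00129cc) (.leaf 0x2060103080202000701000a))))))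

def argWS_6756 : Store := (.node 76254 (.node 76248 (.node 76245 (.node 76244 (.leaf 0x0) (.leaf 0xa0001)) (.node 76246 (.leaf 0x0) (.node 76247 (.leaf 0xb0f0a0003) (.leaf 0x0)))) (.node 76251 (.node 76249 (.leaf 0x0) (.node 76250 (.leaf 0xb0a0002) (.leaf 0x200030802020007010009))) (.node 76252 (.leaf 0x0) (.node 76253 (.leaf 0xd0b0002) (.leaf 0x0))))) (.node 76260 (.node 76257 (.node 76255 (.leaf 0x129dd) (.node 76256 (.leaf 0xd0b0b0003) (.leaf 0x0))) (.node 76258 (.leaf 0xb0f0a0003) (.node 76259 (.leaf 0x0) (.leaf 0x0)))) (.node 76263 (.node 76261 (.leaf 0xa0f0b0003) (.node 76262 (.leaf 0x4040007030401030008) (.leaf 0x0))) (.node 76264 (.leaf 0xf0001) (.node 76265 (.leaf 0x0) (.leaf 0x200000002080400000703040103000e))))))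

def argWS_6757 : Store := (.node 76243 argWS_6755 argWS_6756)

def argWS_6758 : Store := (.node 76277 (.node 76271 (.node 76268 (.node 76267 (.leaf 0x0) (.leaf 0xe0a0a0003)) (.node 76269 (.leaf 0x0) (.node 76270 (.leaf 0x129ec0129e8) (.leaf 0xd0b0002)))) (.node 76274 (.node 76272 (.leaf 0x0) (.node 76273 (.leaf 0xf0b0002) (.leaf 0x0))) (.node 76275 (.leaf 0x0) (.node 76276 (.leaf 0x105000202020007010009) (.leaf 0x0))))) (.node 76282 (.node 76279 (.node 76278 (.leaf 0xa0001) (.leaf 0x0)) (.node 76280 (.leaf 0xf0b0b0a0a0005) (.node 76281 (.leaf 0x129f7001a9c) (.leaf 0xd0b0b0003)))) (.node 76285 (.node 76283 (.leaf 0x0) (.node 76284 (.leaf 0x500040005000703040103000b) (.leaf 0x0))) (.node 76286 (.leaf 0xb0a0002) (.node 76287 (.leaf 0xe0001) (.leaf 0xf0a0002))))))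

def argWS_6759 : Store := (.node 76299 (.node 76293 (.node 76290 (.node 76289 (.leaf 0x6030103010102000202000701000d) (.leaf 0x0)) (.node 76291 (.leaf 0xf0b0002) (.node 76292 (.leaf 0x0) (.leaf 0x12a030129ff)))) (.node 76296 (.node 76294 (.leaf 0x500030306040802040105000b) (.node 76295 (.leaf 0x0) (.leaf 0xf0b0a0003))) (.node 76297 (.leaf 0x0) (.node 76298 (.leaf 0xa0f0b0b0004) (.leaf 0x0))))) (.node 76305 (.node 76302 (.node 76300 (.leaf 0x0) (.node 76301 (.leaf 0xa0f0002) (.leaf 0xa0a0002))) (.node 76303 (.leaf 0x2010206030005) (.node 76304 (.leaf 0x0) (.leaf 0xd0b0b0003)))) (.node 76308 (.node 76306 (.leaf 0x0) (.node 76307 (.leaf 0x12a11012a0d) (.leaf 0xb0a0f0003))) (.node 76309 (.leaf 0x0) (.node 76310 (.leaf 0x605010703060802040105000b) (.leaf 0x0))))))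

def argWS_6760 : Store := (.node 76288 argWS_6758 argWS_6759)

def argWS_6761 : Store := (.node 76266 argWS_6757 argWS_6760)

def argWS_6762 : Store := (.node 76221 argWS_6754 argWS_6761)

def argWS_6763 : Store := (.node 76322 (.node 76316 (.node 76313 (.node 76312 (.leaf 0xb0f0a0003) (.leaf 0xb0b0a0a0004)) (.node 76314 (.leaf 0x90109080600000703040103000c) (.node 76315 (.leaf 0x0) (.leaf 0xa0001)))) (.node 76319 (.node 76317 (.leaf 0x0) (.node 76318 (.leaf 0x12a1c0023d8) (.leaf 0xe0001))) (.node 76320 (.leaf 0x0) (.node 76321 (.leaf 0xb0b0002) (.leaf 0x0))))) (.node 76327 (.node 76324 (.node 76323 (.leaf 0x0) (.leaf 0xb0f0a0a0004)) (.node 76325 (.leaf 0x104030802020007010009) (.node 76326 (.leaf 0x0) (.leaf 0xa0a0002)))) (.node 76330 (.node 76328 (.leaf 0x0) (.node 76329 (.leaf 0x9030002) (.leaf 0x0))) (.node 76331 (.leaf 0x0) (.node 76332 (.leaf 0x12a2a012a27) (.leaf 0x6020703000703040103000a))))))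

def argWS_6764 : Store := (.node 76344 (.node 76338 (.node 76335 (.node 76334 (.leaf 0x0) (.leaf 0xb0a0f0003)) (.node 76336 (.leaf 0x0) (.node 76337 (.leaf 0xa0f0b0b0004) (.leaf 0x0)))) (.node 76341 (.node 76339 (.leaf 0x0) (.node 76340 (.leaf 0xb0f0002) (.leaf 0x60102010603050004000703040103000f))) (.node 76342 (.leaf 0x0) (.node 76343 (.leaf 0xf0b0002) (.leaf 0x0))))) (.node 76350 (.node 76347 (.node 76345 (.leaf 0xb0a0f0003) (.node 76346 (.leaf 0x12a38012a37) (.leaf 0xf0b0b0a0a0005))) (.node 76348 (.leaf 0x0) (.node 76349 (.leaf 0xf0001) (.leaf 0x0)))) (.node 76353 (.node 76351 (.leaf 0x0) (.node 76352 (.leaf 0x90002020900000008) (.leaf 0x0))) (.node 76354 (.leaf 0xf0001) (.node 76355 (.leaf 0x0) (.leaf 0x2090307020902000703040103000d))))))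

def argWS_6765 : Store := (.node 76333 argWS_6763 argWS_6764)

def argWS_6766 : Store := (.node 76367 (.node 76361 (.node 76358 (.node 76357 (.leaf 0x0) (.leaf 0x0)) (.node 76359 (.leaf 0x12a45) (.node 76360 (.leaf 0xb0b0002) (.leaf 0x0)))) (.node 76364 (.node 76362 (.leaf 0x40306020702010802040105000c) (.node 76363 (.leaf 0x0) (.leaf 0xf0b0b0003))) (.node 76365 (.leaf 0xf0b0a0a0004) (.node 76366 (.leaf 0x20702010802040105000a) (.leaf 0x0))))) (.node 76372 (.node 76369 (.node 76368 (.leaf 0xf0b0b0003) (.leaf 0x0)) (.node 76370 (.leaf 0x12a50) (.node 76371 (.leaf 0xf0a0a0003) (.leaf 0x0)))) (.node 76375 (.node 76373 (.leaf 0xf0b0a0a0004) (.node 76374 (.leaf 0x0) (.leaf 0x0))) (.node 76376 (.leaf 0xb0f0a0a0004) (.node 76377 (.leaf 0x202090000000703040103000d) (.leaf 0x0))))))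

def argWS_6767 : Store := (.node 76389 (.node 76383 (.node 76380 (.node 76379 (.leaf 0xa0f0b0003) (.leaf 0x0)) (.node 76381 (.leaf 0x12a5b00aaf7) (.node 76382 (.leaf 0xb0a0002) (.leaf 0x0)))) (.node 76386 (.node 76384 (.leaf 0x40304070206000202000701000c) (.node 76385 (.leaf 0x0) (.leaf 0xb0001))) (.node 76387 (.leaf 0xb0f0a0003) (.node 76388 (.leaf 0x10201020901060202000701000c) (.leaf 0x0))))) (.node 76395 (.node 76392 (.node 76390 (.leaf 0xe0a0a0003) (.node 76391 (.leaf 0x0) (.leaf 0xb0b0a0003))) (.node 76393 (.leaf 0x12a67012a66) (.node 76394 (.leaf 0x50306030500040202000701000d) (.leaf 0x0)))) (.node 76398 (.node 76396 (.leaf 0xd0001) (.node 76397 (.leaf 0x0) (.leaf 0x0))) (.node 76399 (.leaf 0xf0b0b0003) (.node 76400 (.leaf 0x703050206020007010009) (.leaf 0x0))))))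

def argWS_6768 : Store := (.node 76378 argWS_6766 argWS_6767)

def argWS_6769 : Store := (.node 76356 argWS_6765 argWS_6768)

def argWS_6770 : Store := (.node 76412 (.node 76406 (.node 76403 (.node 76402 (.leaf 0xf0001) (.leaf 0x0)) (.node 76404 (.leaf 0xf0b0a0a0004) (.node 76405 (.leaf 0x12a73012a72) (.leaf 0xa0f0b0b0004)))) (.node 76409 (.node 76407 (.leaf 0x0) (.node 76408 (.leaf 0xf0001) (.leaf 0x0))) (.node 76410 (.leaf 0x0) (.node 76411 (.leaf 0x200020400050006) (.leaf 0x0))))) (.node 76417 (.node 76414 (.node 76413 (.leaf 0xb0a0a0003) (.leaf 0x0)) (.node 76415 (.leaf 0xf0b0002) (.node 76416 (.leaf 0x12a7e012a7d) (.leaf 0x306010500020202000701000c)))) (.node 76420 (.node 76418 (.leaf 0x0) (.node 76419 (.leaf 0xf0b0b0a0004) (.leaf 0x0))) (.node 76421 (.leaf 0xf0b0b0003) (.node 76422 (.leaf 0x0) (.leaf 0x0))))))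

def argWS_6771 : Store := (.node 76434 (.node 76428 (.node 76425 (.node 76424 (.leaf 0xf0b0a0a0004) (.leaf 0x80101020901060802040105000c)) (.node 76426 (.leaf 0x0) (.node 76427 (.leaf 0x0) (.leaf 0x12a8a011ce9)))) (.node 76431 (.node 76429 (.leaf 0xd0b0b0003) (.node 76430 (.leaf 0x0) (.leaf 0xf0b0b0a0a0005))) (.node 76432 (.leaf 0x0) (.node 76433 (.leaf 0x0) (.leaf 0xf0b0b0003))))) (.node 76440 (.node 76437 (.node 76435 (.leaf 0xf0b0b0a0004) (.node 76436 (.leaf 0x907000408010006) (.leaf 0x0))) (.node 76438 (.leaf 0xe0d0002) (.node 76439 (.leaf 0x0) (.leaf 0x12a96012a92)))) (.node 76443 (.node 76441 (.leaf 0x502010202090000000703040103000e) (.node 76442 (.leaf 0x0) (.leaf 0xb0a0f0003))) (.node 76444 (.leaf 0x0) (.node 76445 (.leaf 0xb0a0f0003) (.leaf 0x0))))))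

def argWS_6772 : Store := (.node 76423 argWS_6770 argWS_6771)

def argWS_6773 : Store := (.node 76457 (.node 76451 (.node 76448 (.node 76447 (.leaf 0x0) (.leaf 0xb0a0f0003)) (.node 76449 (.leaf 0xf0b0a0003) (.node 76450 (.leaf 0x12aa0) (.leaf 0x602010606000703040103000c)))) (.node 76454 (.node 76452 (.leaf 0x0) (.node 76453 (.leaf 0xb0001) (.leaf 0x0))) (.node 76455 (.leaf 0xd0b0b0003) (.node 76456 (.leaf 0x0) (.leaf 0x0))))) (.node 76463 (.node 76460 (.node 76458 (.leaf 0xf0b0002) (.node 76459 (.leaf 0xf0b0a0a0004) (.leaf 0x602000003010202000701000b))) (.node 76461 (.leaf 0x0) (.node 76462 (.leaf 0xf0b0002) (.leaf 0x0)))) (.node 76466 (.node 76464 (.leaf 0x12aae012aaa) (.node 76465 (.leaf 0xb0f0a0a0004) (.leaf 0x0))) (.node 76467 (.leaf 0xa0f0002) (.node 76468 (.leaf 0x0) (.leaf 0x0))))))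

def argWS_6774 : Store := (.node 76480 (.node 76474 (.node 76471 (.node 76470 (.leaf 0xf0b0a0a0004) (.leaf 0x6020702010802040105000b)) (.node 76472 (.leaf 0x0) (.node 76473 (.leaf 0xb0f0a0003) (.leaf 0x0)))) (.node 76477 (.node 76475 (.leaf 0xf0b0a0003) (.node 76476 (.leaf 0x12aba012ab9) (.leaf 0xb0a0f0003))) (.node 76478 (.leaf 0x0) (.node 76479 (.leaf 0xf0b0a0003) (.leaf 0x0))))) (.node 76486 (.node 76483 (.node 76481 (.leaf 0x0) (.node 76482 (.leaf 0x307030608020401050009) (.leaf 0x0))) (.node 76484 (.leaf 0xe0a0002) (.node 76485 (.leaf 0x0) (.leaf 0xb0a0f0003)))) (.node 76489 (.node 76487 (.leaf 0x12ac5) (.node 76488 (.leaf 0xf0b0b0003) (.leaf 0x0))) (.node 76490 (.leaf 0xb0b0a0003) (.node 76491 (.leaf 0x0) (.leaf 0x0))))))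

def argWS_6775 : Store := (.node 76469 argWS_6773 argWS_6774)

def argWS_6776 : Store := (.node 76446 argWS_6772 argWS_6775)

def argWS_6777 : Store := (.node 76401 argWS_6769 argWS_6776)

def argWS_6778 : Store := (.node 76311 argWS_6762 argWS_6777)

def argWS_6779 : Store := (.node 76131 argWS_6747 argWS_6778)

def argWS_6780 : Store := (.node 75770 argWS_6716 argWS_6779)

def argWS_6781 : Store := (.node 76503 (.node 76497 (.node 76494 (.node 76493 (.leaf 0x20804000802040105000a) (.leaf 0x0)) (.node 76495 (.leaf 0xd0b0b0003) (.node 76496 (.leaf 0x0) (.leaf 0xb0a0002)))) (.node 76500 (.node 76498 (.leaf 0x605050206040202000701000b) (.node 76499 (.leaf 0x0) (.leaf 0xd0b0002))) (.node 76501 (.leaf 0x0) (.node 76502 (.leaf 0x12ad4012ad0) (.leaf 0xb0a0002))))) (.node 76508 (.node 76505 (.node 76504 (.leaf 0x0) (.leaf 0x8030006030500040202000701000d)) (.node 76506 (.leaf 0x0) (.node 76507 (.leaf 0xb0001) (.leaf 0x4000400020804000802040105000d)))) (.node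 76511 (.node 76509 (.leaf 0x0) (.node 76510 (.leaf 0x0) (.leaf 0x70205020202010202000701000c))) (.node 76512 (.leaf 0x0) (.node 76513 (.leaf 0xd0b0002) (.leaf 0x0))))))

def argWS_6782 : Store := (.node 76525 (.node 76519 (.node 76516 (.node 76515 (.leaf 0x12ae1) (.leaf 0xf0b0b0003)) (.node 76517 (.leaf 0x0) (.node 76518 (.leaf 0x207050206040802040105000b) (.leaf 0x0)))) (.node 76522 (.node 76520 (.leaf 0xb0b0a0003) (.node 76521 (.leaf 0x602000308000703040103000b) (.leaf 0x0))) (.node 76523 (.leaf 0xb0001) (.node 76524 (.leaf 0x0) (.leaf 0x12aeb010975))))) (.node 76531 (.node 76528 (.node 76526 (.leaf 0xf0001) (.node 76527 (.leaf 0x0) (.leaf 0xf0b0b0a0a0005))) (.node 76529 (.leaf 0x0) (.node 76530 (.leaf 0x0) (.leaf 0x2060408010005)))) (.node 76534 (.node 76532 (.leaf 0x0) (.node 76533 (.leaf 0xb0b0a0a0004) (.leaf 0x0))) (.node 76535 (.leaf 0xd0b0b0003) (.node 76536 (.leaf 0xf0a0002) (.leaf 0x12af7012af6))))))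

def argWS_6783 : Store := (.node 76514 argWS_6781 argWS_6782)

def argWS_6784 : Store := (.node 76548 (.node 76542 (.node 76539 (.node 76538 (.leaf 0xb0a0f0003) (.leaf 0x0)) (.node 76540 (.leaf 0x2020206030500040008) (.node 76541 (.leaf 0x0) (.leaf 0xb0f0a0a0004)))) (.node 76545 (.node 76543 (.leaf 0xa0f0b0003) (.node 76544 (.leaf 0xb0f0a0a0004) (.leaf 0x201030900090006))) (.node 76546 (.leaf 0x0) (.node 76547 (.leaf 0xf0b0b0003) (.leaf 0x0))))) (.node 76553 (.node 76550 (.node 76549 (.leaf 0x12b03012aff) (.leaf 0xb0a0f0003)) (.node 76551 (.leaf 0x0) (.node 76552 (.leaf 0x20403070209020802040105000c) (.leaf 0x0)))) (.node 76556 (.node 76554 (.leaf 0xb0f0a0a0004) (.node 76555 (.leaf 0xb0a0a0003) (.leaf 0x2070207030401030009))) (.node 76557 (.leaf 0x0) (.node 76558 (.leaf 0xf0b0002) (.leaf 0x0))))))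

def argWS_6785 : Store := (.node 76570 (.node 76564 (.node 76561 (.node 76560 (.leaf 0x900090308020401050009) (.leaf 0x0)) (.node 76562 (.leaf 0xb0a0a0003) (.node 76563 (.leaf 0x0) (.leaf 0x12b12012b0e)))) (.node 76567 (.node 76565 (.leaf 0xf0001) (.node 76566 (.leaf 0x0) (.leaf 0xe0a0a0003))) (.node 76568 (.leaf 0x0) (.node 76569 (.leaf 0x0) (.leaf 0xf0b0b0a0a0005))))) (.node 76576 (.node 76573 (.node 76571 (.leaf 0x12b19) (.node 76572 (.leaf 0xe0001) (.leaf 0x0))) (.node 76574 (.leaf 0x1010703060802040105000a) (.node 76575 (.leaf 0x0) (.leaf 0xb0b0a0003)))) (.node 76579 (.node 76577 (.leaf 0xb0001) (.node 76578 (.leaf 0xa0001) (.leaf 0x12b21))) (.node 76580 (.leaf 0xb0f0002) (.node 76581 (.leaf 0x0) (.leaf 0x0))))))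

def argWS_6786 : Store := (.node 76559 argWS_6784 argWS_6785)

def argWS_6787 : Store := (.node 76537 argWS_6783 argWS_6786)

def argWS_6788 : Store := (.node 76593 (.node 76587 (.node 76584 (.node 76583 (.leaf 0x60202020900000007) (.leaf 0x0)) (.node 76585 (.leaf 0x0) (.node 76586 (.leaf 0xb0b0002) (.leaf 0x70207030401030007)))) (.node 76590 (.node 76588 (.leaf 0x0) (.node 76589 (.leaf 0x0) (.leaf 0x12b2c012b29))) (.node 76591 (.leaf 0xf0b0b0a0a0005) (.node 76592 (.leaf 0x0) (.leaf 0xa0a0002))))) (.node 76598 (.node 76595 (.node 76594 (.leaf 0x0) (.leaf 0x0)) (.node 76596 (.leaf 0xb0f0a0003) (.node 76597 (.leaf 0x8030007000902000701000a) (.leaf 0x0)))) (.node 76601 (.node 76599 (.leaf 0xa0f0002) (.node 76600 (.leaf 0x0) (.leaf 0x6040904020802040105000a))) (.node 76602 (.leaf 0x0) (.node 76603 (.leaf 0xb0f0002) (.leaf 0x0))))))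

def argWS_6789 : Store := (.node 76615 (.node 76609 (.node 76606 (.node 76605 (.leaf 0x12b3b012b37) (.leaf 0x2040300000300000008)) (.node 76607 (.leaf 0x0) (.node 76608 (.leaf 0xa0f0b0003) (.leaf 0x0)))) (.node 76612 (.node 76610 (.leaf 0xa0a0002) (.node 76611 (.leaf 0x0) (.leaf 0x0))) (.node 76613 (.leaf 0x5020108020401050008) (.node 76614 (.leaf 0x0) (.leaf 0xb0a0f0003))))) (.node 76621 (.node 76618 (.node 76616 (.leaf 0x0) (.node 76617 (.leaf 0x60500020804000802040105000c) (.leaf 0x0))) (.node 76619 (.leaf 0xe0a0a0003) (.node 76620 (.leaf 0x0) (.leaf 0x12b4b012b47)))) (.node 76624 (.node 76622 (.leaf 0xe0a0002) (.node 76623 (.leaf 0x0) (.leaf 0x403090805000703040103000b))) (.node 76625 (.leaf 0x0) (.node 76626 (.leaf 0xf0a0002) (.leaf 0xf0a0002))))))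

def argWS_6790 : Store := (.node 76604 argWS_6788 argWS_6789)

def argWS_6791 : Store := (.node 76638 (.node 76632 (.node 76629 (.node 76628 (.leaf 0x30401010908050202000701000c) (.leaf 0x0)) (.node 76630 (.leaf 0xb0b0002) (.node 76631 (.leaf 0x0) (.leaf 0x70101020901060802040105000c)))) (.node 76635 (.node 76633 (.leaf 0x0) (.node 76634 (.leaf 0xb0f0a0003) (.leaf 0x0))) (.node 76636 (.leaf 0x12b5a012b56) (.node 76637 (.leaf 0xb0f0a0a0004) (.leaf 0x0))))) (.node 76643 (.node 76640 (.node 76639 (.leaf 0x70206010500020007) (.leaf 0x0)) (.node 76641 (.leaf 0xf0b0b0a0a0005) (.node 76642 (.leaf 0x60200000300000202000701000c) (.leaf 0x0)))) (.node 76646 (.node 76644 (.leaf 0xf0a0a0003) (.node 76645 (.leaf 0x0) (.leaf 0x12b64))) (.node 76647 (.leaf 0xd0b0002) (.node 76648 (.leaf 0x0) (.leaf 0xf0b0b0a0a0005))))))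

def argWS_6792 : Store := (.node 76660 (.node 76654 (.node 76651 (.node 76650 (.leaf 0x0) (.leaf 0x0)) (.node 76652 (.leaf 0xb0a0002) (.node 76653 (.leaf 0x9050306020702010802040105000d) (.leaf 0x0)))) (.node 76657 (.node 76655 (.leaf 0x0) (.node 76656 (.leaf 0xe0d0002) (.leaf 0x12b6f012b6e))) (.node 76658 (.leaf 0xa0f0002) (.node 76659 (.leaf 0x0) (.leaf 0xb0a0f0003))))) (.node 76666 (.node 76663 (.node 76661 (.leaf 0x0) (.node 76662 (.leaf 0x0) (.leaf 0xa0a0002))) (.node 76664 (.leaf 0x90600090206020202000701000c) (.node 76665 (.leaf 0x0) (.leaf 0xa0a0002)))) (.node 76669 (.node 76667 (.leaf 0x0) (.node 76668 (.leaf 0xd0b0002) (.leaf 0x12b7b012b7a))) (.node 76670 (.leaf 0xb0f0a0a0004) (.node 76671 (.leaf 0x0) (.leaf 0x10702000003010007))))))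

def argWS_6793 : Store := (.node 76649 argWS_6791 argWS_6792)

def argWS_6794 : Store := (.node 76627 argWS_6790 argWS_6793)

def argWS_6795 : Store := (.node 76582 argWS_6787 argWS_6794)

def argWS_6796 : Store := (.node 76683 (.node 76677 (.node 76674 (.node 76673 (.leaf 0x0) (.leaf 0xb0f0a0a0004)) (.node 76675 (.leaf 0xa0a0002) (.node 76676 (.leaf 0xf0001) (.leaf 0x12b83007881)))) (.node 76680 (.node 76678 (.leaf 0xa0f0002) (.node 76679 (.leaf 0x0) (.leaf 0xf0b0002))) (.node 76681 (.leaf 0x305020202010202000701000b) (.node 76682 (.leaf 0x0) (.leaf 0xe0d0002))))) (.node 76688 (.node 76685 (.node 76684 (.leaf 0x0) (.leaf 0x606010301010200000703040103000e)) (.node 76686 (.leaf 0x0) (.node 76687 (.leaf 0xb0a0f0003) (.leaf 0x0)))) (.node 76691 (.node 76689 (.leaf 0x12b8f012b8b) (.node 76690 (.leaf 0xe0a0002) (.leaf 0x0))) (.node 76692 (.leaf 0x0) (.node 76693 (.leaf 0xf0a0002) (.leaf 0xb0f0002))))))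

def argWS_6797 : Store := (.node 76705 (.node 76699 (.node 76696 (.node 76695 (.leaf 0xe0001) (.leaf 0x12b96)) (.node 76697 (.leaf 0xa0f0b0003) (.node 76698 (.leaf 0x0) (.leaf 0xd0b0002)))) (.node 76702 (.node 76700 (.leaf 0x0) (.node 76701 (.leaf 0x0) (.leaf 0xf0b0a0a0004))) (.node 76703 (.leaf 0xf0b0b0003) (.node 76704 (.leaf 0x12b9e00dcc7) (.leaf 0xa0a0002))))) (.node 76711 (.node 76708 (.node 76706 (.leaf 0x0) (.node 76707 (.leaf 0x102090000000703040103000b) (.leaf 0x0))) (.node 76709 (.leaf 0xe0001) (.node 76710 (.leaf 0xf0b0b0003) (.leaf 0x703080004)))) (.node 76714 (.node 76712 (.leaf 0x0) (.node 76713 (.leaf 0xf0b0b0a0a0005) (.leaf 0x0))) (.node 76715 (.leaf 0xa0f0002) (.node 76716 (.leaf 0x12baa012ba9) (.leaf 0xe0001))))))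

def argWS_6798 : Store := (.node 76694 argWS_6796 argWS_6797)

def argWS_6799 : Store := (.node 76728 (.node 76722 (.node 76719 (.node 76718 (.leaf 0x0) (.leaf 0xf0b0002)) (.node 76720 (.leaf 0x0) (.node 76721 (.leaf 0x0) (.leaf 0xb0f0a0a0004)))) (.node 76725 (.node 76723 (.leaf 0x7010408010802040105000a) (.node 76724 (.leaf 0x0) (.leaf 0x0))) (.node 76726 (.leaf 0x12bb4) (.node 76727 (.leaf 0xe0a0a0003) (.leaf 0x0))))) (.node 76733 (.node 76730 (.node 76729 (.leaf 0xb0001) (.leaf 0x0)) (.node 76731 (.leaf 0x0) (.node 76732 (.leaf 0xe0a0002) (.leaf 0xb0b0a0a0004)))) (.node 76736 (.node 76734 (.leaf 0xf0b0a0003) (.node 76735 (.leaf 0x12bbd012bbc) (.leaf 0xb0b0002))) (.node 76737 (.leaf 0x0) (.node 76738 (.leaf 0xb0a0f0003) (.leaf 0x0))))))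

def argWS_6800 : Store := (.node 76750 (.node 76744 (.node 76741 (.node 76740 (.leaf 0x0) (.leaf 0x50000070209020802040105000c)) (.node 76742 (.leaf 0x0) (.node 76743 (.leaf 0xa0f0b0b0004) (.leaf 0x0)))) (.node 76747 (.node 76745 (.leaf 0xf0b0a0a0004) (.node 76746 (.leaf 0xf0b0b0a0004) (.leaf 0x12bc9012bc8))) (.node 76748 (.leaf 0xe0a0002) (.node 76749 (.leaf 0x0) (.leaf 0x3040308000703040103000a))))) (.node 76756 (.node 76753 (.node 76751 (.leaf 0x0) (.node 76752 (.leaf 0xb0f0002) (.leaf 0xb0a0f0003))) (.node 76754 (.leaf 0x4020603000703040103000b) (.node 76755 (.leaf 0x0) (.leaf 0xb0f0a0a0004)))) (.node 76759 (.node 76757 (.leaf 0x0) (.node 76758 (.leaf 0x12bd4) (.leaf 0x0))) (.node 76760 (.leaf 0xf0a0a0003) (.node 76761 (.leaf 0x0) (.leaf 0x0))))))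

def argWS_6801 : Store := (.node 76739 argWS_6799 argWS_6800)

def argWS_6802 : Store := (.node 76717 argWS_6798 argWS_6801)

def argWS_6803 : Store := (.node 76773 (.node 76767 (.node 76764 (.node 76763 (.leaf 0xf0b0b0a0a0005) (.leaf 0x205020202010007)) (.node 76765 (.leaf 0x0) (.node 76766 (.leaf 0xe0001) (.leaf 0x0)))) (.node 76770 (.node 76768 (.leaf 0xe0001) (.node 76769 (.leaf 0x12bdf012bde) (.leaf 0xf0b0b0a0004))) (.node 76771 (.leaf 0x0) (.node 76772 (.leaf 0xa0f0b0003) (.leaf 0x0))))) (.node 76778 (.node 76775 (.node 76774 (.leaf 0xb0a0f0003) (.leaf 0xb0f0002)) (.node 76776 (.leaf 0x103000206030802040105000b) (.node 76777 (.leaf 0x0) (.leaf 0xb0a0002)))) (.node 76781 (.node 76779 (.leaf 0x0) (.node 76780 (.leaf 0x12bea012be6) (.leaf 0x1050200030306040202000701000d))) (.node 76782 (.leaf 0x0) (.node 76783 (.leaf 0xf0a0a0003) (.leaf 0x0))))))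

def argWS_6804 : Store := (.node 76795 (.node 76789 (.node 76786 (.node 76785 (.leaf 0xf0b0b0a0a0005) (.leaf 0x0)) (.node 76787 (.leaf 0xa0001) (.node 76788 (.leaf 0xe0a0a0003) (.leaf 0xa0a0002)))) (.node 76792 (.node 76790 (.leaf 0x12bf4012bf3) (.node 76791 (.leaf 0xb0a0a0003) (.leaf 0x0))) (.node 76793 (.leaf 0x2020003010102000802040105000d) (.node 76794 (.leaf 0x0) (.leaf 0xd0b0002))))) (.node 76801 (.node 76798 (.node 76796 (.leaf 0xb0b0002) (.node 76797 (.leaf 0xb0f0a0003) (.leaf 0x12bfc))) (.node 76799 (.leaf 0xd0001) (.node 76800 (.leaf 0x0) (.leaf 0xb0f0a0003)))) (.node 76804 (.node 76802 (.leaf 0x0) (.node 76803 (.leaf 0x0) (.leaf 0xb0b0a0a0004))) (.node 76805 (.leaf 0xf0b0b0003) (.node 76806 (.leaf 0xa0f0b0b0004) (.leaf 0x12c05012c04))))))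

def argWS_6805 : Store := (.node 76784 argWS_6803 argWS_6804)

def argWS_6806 : Store := (.node 76818 (.node 76812 (.node 76809 (.node 76808 (.leaf 0x1030105020202010008) (.leaf 0x0)) (.node 76810 (.leaf 0xe0a0a0003) (.node 76811 (.leaf 0x0) (.leaf 0xf0b0a0003)))) (.node 76815 (.node 76813 (.leaf 0x0) (.node 76814 (.leaf 0x0) (.leaf 0xe0d0002))) (.node 76816 (.leaf 0x7010904020005) (.node 76817 (.leaf 0x0) (.leaf 0xf0b0a0003))))) (.node 76823 (.node 76820 (.node 76819 (.leaf 0x0) (.leaf 0x12c12)) (.node 76821 (.leaf 0xf0a0002) (.node 76822 (.leaf 0x0) (.leaf 0xa0f0b0003)))) (.node 76826 (.node 76824 (.leaf 0x0) (.node 76825 (.leaf 0x0) (.leaf 0xb0001))) (.node 76827 (.leaf 0xb0f0002) (.node 76828 (.leaf 0x2040005000703040103000b) (.leaf 0x0))))))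

def argWS_6807 : Store := (.node 76840 (.node 76834 (.node 76831 (.node 76830 (.leaf 0xb0a0002) (.leaf 0x0)) (.node 76832 (.leaf 0x12c1e012c1a) (.node 76833 (.leaf 0xe0a0a0003) (.leaf 0x0)))) (.node 76837 (.node 76835 (.leaf 0xa0f0b0003) (.node 76836 (.leaf 0x0) (.leaf 0x0))) (.node 76838 (.leaf 0xe0a0a0003) (.node 76839 (.leaf 0xa0f0002) (.leaf 0xb0a0a0003))))) (.node 76846 (.node 76843 (.node 76841 (.leaf 0x12c27012c26) (.node 76842 (.leaf 0xf0b0a0a0004) (.leaf 0x0))) (.node 76844 (.leaf 0xa0f0002) (.node 76845 (.leaf 0x0) (.leaf 0x0)))) (.node 76849 (.node 76847 (.leaf 0xb0a0f0003) (.node 76848 (.leaf 0x50000000408010802040105000c) (.leaf 0x0))) (.node 76850 (.leaf 0xe0001) (.node 76851 (.leaf 0x0) (.leaf 0x12c32012c2e))))))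

def argWS_6808 : Store := (.node 76829 argWS_6806 argWS_6807)

def argWS_6809 : Store := (.node 76807 argWS_6805 argWS_6808)

def argWS_6810 : Store := (.node 76762 argWS_6802 argWS_6809)

def argWS_6811 : Store := (.node 76672 argWS_6795 argWS_6810)

def argWS_6812 : Store := (.node 76863 (.node 76857 (.node 76854 (.node 76853 (.leaf 0x0) (.leaf 0xe0001)) (.node 76855 (.leaf 0x0) (.node 76856 (.leaf 0xf0a0a0003) (.leaf 0x0)))) (.node 76860 (.node 76858 (.leaf 0x0) (.node 76859 (.leaf 0xe0a0002) (.leaf 0x8030000090206020202000701000d))) (.node 76861 (.leaf 0x0) (.node 76862 (.leaf 0xf0a0a0003) (.leaf 0x0))))) (.node 76868 (.node 76865 (.node 76864 (.leaf 0xb0a0f0003) (.leaf 0x12c3f012c3e)) (.node 76866 (.leaf 0xb0f0a0003) (.node 76867 (.leaf 0x0) (.leaf 0x602040005000703040103000b)))) (.node 76871 (.node 76869 (.leaf 0x0) (.node 76870 (.leaf 0xb0b0002) (.leaf 0xa0f0002))) (.node 76872 (.leaf 0x608020401050007) (.node 76873 (.leaf 0x0) (.leaf 0x0))))))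

def argWS_6813 : Store := (.node 76885 (.node 76879 (.node 76876 (.node 76875 (.leaf 0x90303010102000202000701000c) (.leaf 0x0)) (.node 76877 (.leaf 0xb0a0a0003) (.node 76878 (.leaf 0x0) (.leaf 0x12c4d012c49)))) (.node 76882 (.node 76880 (.leaf 0xf0b0002) (.node 76881 (.leaf 0x0) (.leaf 0xb0b0002))) (.node 76883 (.leaf 0x0) (.node 76884 (.leaf 0x0) (.leaf 0xb0b0a0a0004))))) (.node 76891 (.node 76888 (.node 76886 (.leaf 0xe0001) (.node 76887 (.leaf 0x12c55) (.leaf 0xe0001))) (.node 76889 (.leaf 0x0) (.node 76890 (.leaf 0xb0a0f0003) (.leaf 0x0)))) (.node 76894 (.node 76892 (.leaf 0x0) (.node 76893 (.leaf 0xf0b0002) (.leaf 0xf0b0a0003))) (.node 76895 (.leaf 0x12c5d) (.node 76896 (.leaf 0xf0b0a0a0004) (.leaf 0x0))))))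

def argWS_6814 : Store := (.node 76874 argWS_6812 argWS_6813)

def argWS_6815 : Store := (.node 76908 (.node 76902 (.node 76899 (.node 76898 (.leaf 0xa0f0b0003) (.leaf 0x0)) (.node 76900 (.leaf 0x0) (.node 76901 (.leaf 0x10300060207020703040103000c) (.leaf 0x0)))) (.node 76905 (.node 76903 (.leaf 0xf0b0b0a0004) (.node 76904 (.leaf 0x0) (.leaf 0x60106010500020007))) (.node 76906 (.leaf 0x0) (.node 76907 (.leaf 0xa0f0002) (.leaf 0x0))))) (.node 76913 (.node 76910 (.node 76909 (.leaf 0x12c6b) (.leaf 0xa0f0b0003)) (.node 76911 (.leaf 0x0) (.node 76912 (.leaf 0xb0001) (.leaf 0x0)))) (.node 76916 (.node 76914 (.leaf 0x0) (.node 76915 (.leaf 0xe0a0a0003) (.leaf 0xe0001))) (.node 76917 (.leaf 0xa0f0b0003) (.node 76918 (.leaf 0x12c74012c73) (.leaf 0xf0001))))))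

def argWS_6816 : Store := (.node 76930 (.node 76924 (.node 76921 (.node 76920 (.leaf 0x0) (.leaf 0xb0f0a0003)) (.node 76922 (.leaf 0x0) (.node 76923 (.leaf 0x0) (.leaf 0x202000408010006)))) (.node 76927 (.node 76925 (.leaf 0x0) (.node 76926 (.leaf 0xb0001) (.leaf 0x0))) (.node 76928 (.leaf 0x80000030306040802040105000c) (.node 76929 (.leaf 0x0) (.leaf 0xf0b0b0a0a0005))))) (.node 76936 (.node 76933 (.node 76931 (.leaf 0x0) (.node 76932 (.leaf 0xf0b0a0a0004) (.leaf 0x0))) (.node 76934 (.leaf 0x12c84012c82) (.node 76935 (.leaf 0xf0b0b0003) (.leaf 0x0)))) (.node 76939 (.node 76937 (.leaf 0x10903090806000007) (.node 76938 (.leaf 0x0) (.leaf 0xa0f0b0003))) (.node 76940 (.leaf 0xb0a0a0003) (.node 76941 (.leaf 0xa0001) (.leaf 0xb0a0a0003))))))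

def argWS_6817 : Store := (.node 76919 argWS_6815 argWS_6816)

def argWS_6818 : Store := (.node 76897 argWS_6814 argWS_6817)

def argWS_6819 : Store := (.node 76953 (.node 76947 (.node 76944 (.node 76943 (.leaf 0x12c8d012c8c) (.leaf 0xf0b0b0a0a0005)) (.node 76945 (.leaf 0x0) (.node 76946 (.leaf 0xa0f0002) (.leaf 0x0)))) (.node 76950 (.node 76948 (.leaf 0x0) (.node 76949 (.leaf 0x4040400050005) (.leaf 0x0))) (.node 76951 (.leaf 0xd0001) (.node 76952 (.leaf 0x0) (.leaf 0xb0b0a0a0004))))) (.node 76958 (.node 76955 (.node 76954 (.leaf 0x12c98) (.leaf 0xb0001)) (.node 76956 (.leaf 0x0) (.node 76957 (.leaf 0x206060207020703040103000b) (.leaf 0x0)))) (.node 76961 (.node 76959 (.leaf 0xb0a0002) (.node 76960 (.leaf 0xa0f0b0b0004) (.leaf 0x80006010500020802040105000c))) (.node 76962 (.leaf 0x0) (.node 76963 (.leaf 0xb0a0f0003) (.leaf 0x0))))))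

def argWS_6820 : Store := (.node 76975 (.node 76969 (.node 76966 (.node 76965 (.leaf 0xa0f0002) (.leaf 0x12ca4012ca3)) (.node 76967 (.leaf 0xd0b0002) (.node 76968 (.leaf 0x0) (.leaf 0xf0b0a0003)))) (.node 76972 (.node 76970 (.leaf 0x0) (.node 76971 (.leaf 0x0) (.leaf 0xb0001))) (.node 76973 (.leaf 0x301090806000006) (.node 76974 (.leaf 0x0) (.leaf 0xf0b0b0003))))) (.node 76981 (.node 76978 (.node 76976 (.leaf 0x0) (.node 76977 (.leaf 0x12caf) (.leaf 0xe0a0002))) (.node 76979 (.leaf 0x0) (.node 76980 (.leaf 0xa0f0b0b0004) (.leaf 0x0)))) (.node 76984 (.node 76982 (.leaf 0x0) (.node 76983 (.leaf 0x3010703060202000701000b) (.leaf 0x0))) (.node 76985 (.leaf 0xb0b0002) (.node 76986 (.leaf 0x0) (.leaf 0x10300020804000202000701000c))))))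

def argWS_6821 : Store := (.node 76964 argWS_6819 argWS_6820)

def argWS_6822 : Store := (.node 76998 (.node 76992 (.node 76989 (.node 76988 (.leaf 0x0) (.leaf 0xb0001)) (.node 76990 (.leaf 0x0) (.node 76991 (.leaf 0x10403080004) (.leaf 0x0)))) (.node 76995 (.node 76993 (.leaf 0xa0f0b0003) (.node 76994 (.leaf 0x0) (.leaf 0x12cc1012cbd))) (.node 76996 (.leaf 0xd0b0b0003) (.node 76997 (.leaf 0x0) (.leaf 0x200020804000802040105000b))))) (.node 77003 (.node 77000 (.node 76999 (.leaf 0x0) (.leaf 0xb0a0002)) (.node 77001 (.leaf 0xb0a0a0003) (.node 77002 (.leaf 0xf0a0a0003) (.leaf 0x10306030500040007)))) (.node 77006 (.node 77004 (.leaf 0x0) (.node 77005 (.leaf 0xa0001) (.leaf 0x0))) (.node 77007 (.leaf 0x12ccd012cc9) (.node 77008 (.leaf 0xf0b0a0a0004) (.leaf 0x0))))))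

def argWS_6823 : Store := (.node 77020 (.node 77014 (.node 77011 (.node 77010 (.leaf 0xd0001) (.leaf 0x0)) (.node 77012 (.leaf 0x0) (.node 77013 (.leaf 0xd0001) (.leaf 0x80101020106060202000701000c)))) (.node 77017 (.node 77015 (.leaf 0x0) (.node 77016 (.leaf 0xf0a0a0003) (.leaf 0x0))) (.node 77018 (.leaf 0xb0b0002) (.node 77019 (.leaf 0x12cd9012cd8) (.leaf 0xb0001))))) (.node 77026 (.node 77023 (.node 77021 (.leaf 0x0) (.node 77022 (.leaf 0xb0a0a0003) (.leaf 0x0))) (.node 77024 (.leaf 0x0) (.node 77025 (.leaf 0xf0a0a0003) (.leaf 0x90201070206000802040105000c)))) (.node 77029 (.node 77027 (.leaf 0x0) (.node 77028 (.leaf 0xb0f0002) (.leaf 0x0))) (.node 77030 (.leaf 0x12ce4001161) (.node 77031 (.leaf 0xb0f0002) (.leaf 0x0))))))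

def argWS_6824 : Store := (.node 77009 argWS_6822 argWS_6823)

def argWS_6825 : Store := (.node 76987 argWS_6821 argWS_6824)

def argWS_6826 : Store := (.node 76942 argWS_6818 argWS_6825)

def argWS_6827 : Store := (.node 77043 (.node 77037 (.node 77034 (.node 77033 (.leaf 0xf0b0002) (.leaf 0x0)) (.node 77035 (.leaf 0x0) (.node 77036 (.leaf 0x60409020602000703040103000c) (.leaf 0x0)))) (.node 77040 (.node 77038 (.leaf 0xb0f0a0a0004) (.node 77039 (.leaf 0x0) (.leaf 0x506020702010006))) (.node 77041 (.leaf 0x0) (.node 77042 (.leaf 0xb0001) (.leaf 0x0))))) (.node 77048 (.node 77045 (.node 77044 (.leaf 0xa0f0002) (.leaf 0x12cf3012cf2)) (.node 77046 (.leaf 0xd0b0b0003) (.node 77047 (.leaf 0x0) (.leaf 0xb0a0002)))) (.node 77051 (.node 77049 (.leaf 0x0) (.node 77050 (.leaf 0x0) (.leaf 0x0))) (.node 77052 (.leaf 0x0) (.node 77053 (.leaf 0x0) (.leaf 0xd0001))))))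

def argWS_6828 : Store := (.node 77065 (.node 77059 (.node 77056 (.node 77055 (.leaf 0x604080102020007010009) (.leaf 0x0)) (.node 77057 (.leaf 0xa0001) (.node 77058 (.leaf 0x0) (.leaf 0x1160f012d01)))) (.node 77062 (.node 77060 (.leaf 0xb0f0a0a0004) (.node 77061 (.leaf 0x0) (.leaf 0xb0a0f0003))) (.node 77063 (.leaf 0x0) (.node 77064 (.leaf 0x0) (.leaf 0xe0001))))) (.node 77071 (.node 77068 (.node 77066 (.leaf 0x60000070209020007) (.node 77067 (.leaf 0x0) (.leaf 0xa0a0002))) (.node 77069 (.leaf 0x0) (.node 77070 (.leaf 0x12d0c) (.leaf 0xb0f0a0003)))) (.node 77074 (.node 77072 (.leaf 0x0) (.node 77073 (.leaf 0xb0f0a0a0004) (.leaf 0x0))) (.node 77075 (.leaf 0x0) (.node 77076 (.leaf 0xf0001) (.leaf 0xf0a0002))))))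

def argWS_6829 : Store := (.node 77054 argWS_6827 argWS_6828)

def argWS_6830 : Store := (.node 77088 (.node 77082 (.node 77079 (.node 77078 (.leaf 0xa0001) (.leaf 0x60003010102000007)) (.node 77080 (.leaf 0x0) (.node 77081 (.leaf 0xb0f0a0003) (.leaf 0x0)))) (.node 77085 (.node 77083 (.leaf 0x12d19012d15) (.node 77084 (.leaf 0xa0f0b0003) (.leaf 0x0))) (.node 77086 (.leaf 0xb0001) (.node 77087 (.leaf 0x0) (.leaf 0x0))))) (.node 77093 (.node 77090 (.node 77089 (.leaf 0xf0a0002) (.leaf 0xd0001)) (.node 77091 (.leaf 0x5030009020602000703040103000e) (.node 77092 (.leaf 0x0) (.leaf 0xb0f0a0003)))) (.node 77096 (.node 77094 (.leaf 0x0) (.node 77095 (.leaf 0x6040904020005) (.leaf 0x0))) (.node 77097 (.leaf 0xf0a0002) (.node 77098 (.leaf 0x0) (.leaf 0x12d29012d25))))))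

def argWS_6831 : Store := (.node 77110 (.node 77104 (.node 77101 (.node 77100 (.leaf 0x5020005020202010008) (.leaf 0x0)) (.node 77102 (.leaf 0xa0001) (.node 77103 (.leaf 0x0) (.leaf 0xe0001)))) (.node 77107 (.node 77105 (.leaf 0x0) (.node 77106 (.leaf 0x0) (.leaf 0x206000300000802040105000b))) (.node 77108 (.leaf 0x0) (.node 77109 (.leaf 0xf0b0002) (.leaf 0x0))))) (.node 77116 (.node 77113 (.node 77111 (.leaf 0x12d35) (.node 77112 (.leaf 0xb0f0a0a0004) (.leaf 0x0))) (.node 77114 (.leaf 0x202090106000703040103000b) (.node 77115 (.leaf 0x0) (.leaf 0xa0a0002)))) (.node 77119 (.node 77117 (.leaf 0xb0a0002) (.node 77118 (.leaf 0x6030106030500040802040105000d) (.leaf 0x0))) (.node 77120 (.leaf 0xf0b0b0a0a0005) (.node 77121 (.leaf 0x0) (.leaf 0x12d4000b913))))))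

def argWS_6832 : Store := (.node 77099 argWS_6830 argWS_6831)

def argWS_6833 : Store := (.node 77077 argWS_6829 argWS_6832)

def argWS_6834 : Store := (.node 77133 (.node 77127 (.node 77124 (.node 77123 (.leaf 0x2040306030500040008) (.leaf 0x0)) (.node 77125 (.leaf 0xe0d0002) (.node 77126 (.leaf 0x0) (.leaf 0xf0b0b0003)))) (.node 77130 (.node 77128 (.leaf 0x0) (.node 77129 (.leaf 0x0) (.leaf 0xa0001))) (.node 77131 (.leaf 0xe0001) (.node 77132 (.leaf 0x12d4a012d49) (.leaf 0xf0b0a0a0004))))) (.node 77138 (.node 77135 (.node 77134 (.leaf 0x0) (.leaf 0xe0a0002)) (.node 77136 (.leaf 0x0) (.node 77137 (.leaf 0x0) (.leaf 0xb0b0a0a0004)))) (.node 77141 (.node 77139 (.leaf 0xb0b0002) (.node 77140 (.leaf 0x60002010606000703040103000d) (.leaf 0x0))) (.node 77142 (.leaf 0xb0a0f0003) (.node 77143 (.leaf 0x0) (.leaf 0xb0b0a0a0004))))))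

def argWS_6835 : Store := (.node 77155 (.node 77149 (.node 77146 (.node 77145 (.leaf 0x12d57012d56) (.leaf 0x9020902000703040103000a)) (.node 77147 (.leaf 0x0) (.node 77148 (.leaf 0xf0a0002) (.leaf 0x0)))) (.node 77152 (.node 77150 (.leaf 0xd0b0002) (.node 77151 (.leaf 0x0) (.leaf 0x0))) (.node 77153 (.leaf 0xd0b0b0003) (.node 77154 (.leaf 0xb0a0002) (.leaf 0x12d61))))) (.node 77161 (.node 77158 (.node 77156 (.leaf 0xb0a0002) (.node 77157 (.leaf 0x0) (.leaf 0xe0001))) (.node 77159 (.leaf 0x0) (.node 77160 (.leaf 0x0) (.leaf 0xa0a0002)))) (.node 77164 (.node 77162 (.leaf 0xa0a0002) (.node 77163 (.leaf 0x20002080400000703040103000d) (.leaf 0x0))) (.node 77165 (.leaf 0xb0f0a0a0004) (.node 77166 (.leaf 0x0) (.leaf 0x12d6d009a3e))))))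

def argWS_6836 : Store := (.node 77144 argWS_6834 argWS_6835)

def argWS_6837 : Store := (.node 77178 (.node 77172 (.node 77169 (.node 77168 (.leaf 0xb0b0002) (.leaf 0x0)) (.node 77170 (.leaf 0x304000003010202000701000b) (.node 77171 (.leaf 0x0) (.leaf 0xf0b0b0003)))) (.node 77175 (.node 77173 (.leaf 0xe0001) (.node 77174 (.leaf 0xb0f0002) (.leaf 0xf0b0b0a0004))) (.node 77176 (.leaf 0x12d76) (.node 77177 (.leaf 0x1020208020401050008) (.leaf 0x0))))) (.node 77184 (.node 77181 (.node 77179 (.leaf 0xb0f0a0a0004) (.node 77180 (.leaf 0x0) (.leaf 0xd0001))) (.node 77182 (.leaf 0x0) (.node 77183 (.leaf 0x0) (.leaf 0xf0b0002)))) (.node 77187 (.node 77185 (.leaf 0xb0a0a0003) (.node 77186 (.leaf 0x40300090806000007) (.leaf 0x0))) (.node 77188 (.leaf 0xa0f0b0b0004) (.node 77189 (.leaf 0x0) (.leaf 0x12d84012d80))))))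

def argWS_6838 : Store := (.node 77201 (.node 77195 (.node 77192 (.node 77191 (.leaf 0xf0001) (.leaf 0x0)) (.node 77193 (.leaf 0xd0b0002) (.node 77194 (.leaf 0x0) (.leaf 0x0)))) (.node 77198 (.node 77196 (.leaf 0xf0b0a0003) (.node 77197 (.leaf 0x903050202020703040103000b) (.leaf 0x0))) (.node 77199 (.leaf 0xf0b0b0a0004) (.node 77200 (.leaf 0x0) (.leaf 0x12d8f))))) (.node 77207 (.node 77204 (.node 77202 (.leaf 0xa0f0b0b0004) (.node 77203 (.leaf 0x0) (.leaf 0xa0f0b0003))) (.node 77205 (.leaf 0x0) (.node 77206 (.leaf 0x0) (.leaf 0xd0b0b0003)))) (.node 77210 (.node 77208 (.leaf 0xf0b0a0003) (.node 77209 (.leaf 0x12d97) (.leaf 0x1010901090202000701000a))) (.node 77211 (.leaf 0x0) (.node 77212 (.leaf 0xa0a0002) (.leaf 0x0))))))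

def argWS_6839 : Store := (.node 77190 argWS_6837 argWS_6838)

def argWS_6840 : Store := (.node 77167 argWS_6836 argWS_6839)

def argWS_6841 : Store := (.node 77122 argWS_6833 argWS_6840)

def argWS_6842 : Store := (.node 77032 argWS_6826 argWS_6841)

def argWS_6843 : Store := (.node 76852 argWS_6811 argWS_6842)

def argWS_6844 : Store := (.node 77224 (.node 77218 (.node 77215 (.node 77214 (.leaf 0xe0a0a0003) (.leaf 0x0)) (.node 77216 (.leaf 0x0) (.node 77217 (.leaf 0xd0b0002) (.leaf 0x40106010500020007)))) (.node 77221 (.node 77219 (.leaf 0x0) (.node 77220 (.leaf 0xf0b0a0a0004) (.leaf 0x0))) (.node 77222 (.leaf 0x12da4) (.node 77223 (.leaf 0xf0001) (.leaf 0x0))))) (.node 77229 (.node 77226 (.node 77225 (.leaf 0xd0b0002) (.leaf 0x0)) (.node 77227 (.leaf 0x0) (.node 77228 (.leaf 0xb0a0f0003) (.leaf 0xd0b0002)))) (.node 77232 (.node 77230 (.leaf 0xb0a0002) (.node 77231 (.leaf 0xe0a0002) (.leaf 0xf0a0a0003))) (.node 77233 (.leaf 0x3000002020007010008) (.node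 77234 (.leaf 0x0) (.leaf 0xa0001))))))

def argWS_6845 : Store := (.node 77246 (.node 77240 (.node 77237 (.node 77236 (.leaf 0x0) (.leaf 0x12db3012daf)) (.node 77238 (.leaf 0x402000003010202000701000b) (.node 77239 (.leaf 0x0) (.leaf 0xa0f0b0b0004)))) (.node 77243 (.node 77241 (.leaf 0x0) (.node 77242 (.leaf 0xd0001) (.leaf 0x0))) (.node 77244 (.leaf 0x0) (.node 77245 (.leaf 0xa0f0b0b0004) (.leaf 0xb0b0002))))) (.node 77252 (.node 77249 (.node 77247 (.leaf 0xb0a0a0003) (.node 77248 (.leaf 0x12dbe012dbd) (.leaf 0xd0001))) (.node 77250 (.leaf 0x0) (.node 77251 (.leaf 0xb0b0a0a0004) (.leaf 0x0)))) (.node 77255 (.node 77253 (.leaf 0x0) (.node 77254 (.leaf 0xe0d0002) (.leaf 0xa0f0b0003))) (.node 77256 (.leaf 0x4010908050802040105000a) (.node 77257 (.leaf 0x0) (.leaf 0xd0001))))))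

def argWS_6846 : Store := (.node 77235 argWS_6844 argWS_6845)

def argWS_6847 : Store := (.node 77269 (.node 77263 (.node 77260 (.node 77259 (.leaf 0x0) (.leaf 0x12dca012dc6)) (.node 77261 (.leaf 0xd0001) (.node 77262 (.leaf 0x0) (.leaf 0xa0f0b0b0004)))) (.node 77266 (.node 77264 (.leaf 0x0) (.node 77265 (.leaf 0x0) (.leaf 0x7030507000902000701000a))) (.node 77267 (.leaf 0x0) (.node 77268 (.leaf 0xb0b0a0a0004) (.leaf 0x0))))) (.node 77274 (.node 77271 (.node 77270 (.leaf 0x2010300090206020802040105000d) (.leaf 0x0)) (.node 77272 (.leaf 0xe0d0002) (.node 77273 (.leaf 0x0) (.leaf 0x12dd8)))) (.node 77277 (.node 77275 (.leaf 0xa0f0b0b0004) (.node 77276 (.leaf 0x0) (.leaf 0xf0b0b0a0004))) (.node 77278 (.leaf 0x0) (.node 77279 (.leaf 0x0) (.leaf 0xb0b0a0003))))))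

def argWS_6848 : Store := (.node 77291 (.node 77285 (.node 77282 (.node 77281 (.leaf 0x12ddf011196) (.leaf 0xe0a0a0003)) (.node 77283 (.leaf 0x0) (.node 77284 (.leaf 0xf0b0a0a0004) (.leaf 0x0)))) (.node 77288 (.node 77286 (.leaf 0x0) (.node 77287 (.leaf 0xb0b0a0003) (.leaf 0xf0b0a0003))) (.node 77289 (.leaf 0xe0a0002) (.node 77290 (.leaf 0x12de8012de7) (.leaf 0xa0a0002))))) (.node 77297 (.node 77294 (.node 77292 (.leaf 0x0) (.node 77293 (.leaf 0xb0f0a0003) (.leaf 0x0))) (.node 77295 (.leaf 0x0) (.node 77296 (.leaf 0xe0a0a0003) (.leaf 0x204030007030401030009)))) (.node 77300 (.node 77298 (.leaf 0x0) (.node 77299 (.leaf 0xa0f0002) (.leaf 0x0))) (.node 77301 (.leaf 0x12df3) (.node 77302 (.leaf 0xe0a0a0003) (.leaf 0x0))))))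

def argWS_6849 : Store := (.node 77280 argWS_6847 argWS_6848)

def argWS_6850 : Store := (.node 77258 argWS_6846 argWS_6849)

def argWS_6851 : Store := (.node 77314 (.node 77308 (.node 77305 (.node 77304 (.leaf 0xe0001) (.leaf 0x0)) (.node 77306 (.leaf 0x0) (.node 77307 (.leaf 0x70206000005) (.leaf 0x0)))) (.node 77311 (.node 77309 (.leaf 0x0) (.node 77310 (.leaf 0xf0b0b0a0a0005) (.leaf 0x12dfd012dfc))) (.node 77312 (.leaf 0x20206020702010802040105000c) (.node 77313 (.leaf 0x0) (.leaf 0xb0001))))) (.node 77319 (.node 77316 (.node 77315 (.leaf 0x0) (.leaf 0xb0a0f0003)) (.node 77317 (.leaf 0x0) (.node 77318 (.leaf 0x0) (.leaf 0x60501020106060802040105000c)))) (.node 77322 (.node 77320 (.leaf 0x0) (.node 77321 (.leaf 0x0) (.leaf 0x12e0800293b))) (.node 77323 (.leaf 0xa0f0b0003) (.node 77324 (.leaf 0x0) (.leaf 0xa0001))))))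

def argWS_6852 : Store := (.node 77336 (.node 77330 (.node 77327 (.node 77326 (.leaf 0x0) (.leaf 0x0)) (.node 77328 (.leaf 0x40400020804000202000701000c) (.node 77329 (.leaf 0x0) (.leaf 0xb0001)))) (.node 77333 (.node 77331 (.leaf 0x0) (.node 77332 (.leaf 0xb0a0a0003) (.leaf 0x4020506010500020008))) (.node 77334 (.leaf 0x0) (.node 77335 (.leaf 0xb0f0a0a0004) (.leaf 0x0))))) (.node 77342 (.node 77339 (.node 77337 (.leaf 0x12e17012e13) (.node 77338 (.leaf 0xb0a0f0003) (.leaf 0x0))) (.node 77340 (.leaf 0xb0001) (.node 77341 (.leaf 0x0) (.leaf 0x0)))) (.node 77345 (.node 77343 (.leaf 0xb0a0f0003) (.node 77344 (.leaf 0x70305020106060007) (.leaf 0x0))) (.node 77346 (.leaf 0xb0b0002) (.node 77347 (.leaf 0x0) (.leaf 0x9030500040802040105000a))))))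

def argWS_6853 : Store := (.node 77325 argWS_6851 argWS_6852)

def argWS_6854 : Store := (.node 77359 (.node 77353 (.node 77350 (.node 77349 (.leaf 0x0) (.leaf 0xf0b0a0003)) (.node 77351 (.leaf 0x0) (.node 77352 (.leaf 0x12e26012e22) (.leaf 0xb0b0a0003)))) (.node 77356 (.node 77354 (.leaf 0x0) (.node 77355 (.leaf 0x1040703060005) (.leaf 0x0))) (.node 77357 (.leaf 0xb0b0a0a0004) (.node 77358 (.leaf 0xf0b0002) (.leaf 0xb0a0a0003))))) (.node 77364 (.node 77361 (.node 77360 (.leaf 0xd0b0002) (.leaf 0x12e2f012e2e)) (.node 77362 (.leaf 0xf0001) (.node 77363 (.leaf 0x0) (.leaf 0x0)))) (.node 77367 (.node 77365 (.leaf 0xf0b0b0a0004) (.node 77366 (.leaf 0xf0b0002) (.leaf 0x20200070009030007))) (.node 77368 (.leaf 0x0) (.node 77369 (.leaf 0x0) (.leaf 0xa0001))))))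

def argWS_6855 : Store := (.node 77381 (.node 77375 (.node 77372 (.node 77371 (.leaf 0x12e39012e38) (.leaf 0xe0a0a0003)) (.node 77373 (.leaf 0x0) (.node 77374 (.leaf 0xb0a0002) (.leaf 0x0)))) (.node 77378 (.node 77376 (.leaf 0x0) (.node 77377 (.leaf 0xe0a0a0003) (.leaf 0x906000408010202000701000b))) (.node 77379 (.leaf 0x0) (.node 77380 (.leaf 0xf0b0b0a0004) (.leaf 0x0))))) (.node 77387 (.node 77384 (.node 77382 (.leaf 0x12e44) (.node 77383 (.leaf 0xb0a0f0003) (.leaf 0x0))) (.node 77385 (.leaf 0x0) (.node 77386 (.leaf 0xe0001) (.leaf 0xd0b0002)))) (.node 77390 (.node 77388 (.leaf 0xf0a0a0003) (.node 77389 (.leaf 0x304010400050202000701000b) (.leaf 0x0))) (.node 77391 (.leaf 0xb0001) (.node 77392 (.leaf 0x0) (.leaf 0x12e4f012e4b))))))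

def argWS_6856 : Store := (.node 77370 argWS_6854 argWS_6855)

def argWS_6857 : Store := (.node 77348 argWS_6853 argWS_6856)

def argWS_6858 : Store := (.node 77303 argWS_6850 argWS_6857)

def argWS_6859 : Store := (.node 77404 (.node 77398 (.node 77395 (.node 77394 (.leaf 0xf0001) (.leaf 0x0)) (.node 77396 (.leaf 0xf0a0002) (.node 77397 (.leaf 0x0) (.leaf 0x0)))) (.node 77401 (.node 77399 (.leaf 0xa0a0002) (.node 77400 (.leaf 0x10106010500020202000701000c) (.leaf 0x0))) (.node 77402 (.leaf 0xa0001) (.node 77403 (.leaf 0x0) (.leaf 0xb0a0a0003))))) (.node 77409 (.node 77406 (.node 77405 (.leaf 0x103060207020703040103000b) (.leaf 0x0)) (.node 77407 (.leaf 0xf0a0002) (.node 77408 (.leaf 0x0) (.leaf 0x12e5f012e5b)))) (.node 77412 (.node 77410 (.leaf 0xe0a0002) (.node 77411 (.leaf 0x0) (.leaf 0xf0a0a0003))) (.node 77413 (.leaf 0x0) (.node 77414 (.leaf 0x0) (.leaf 0xb0b0a0a0004))))))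

def argWS_6860 : Store := (.node 77426 (.node 77420 (.node 77417 (.node 77416 (.leaf 0x903000900090202000701000b) (.leaf 0x0)) (.node 77418 (.leaf 0xe0a0a0003) (.node 77419 (.leaf 0x0) (.leaf 0x12e6a)))) (.node 77423 (.node 77421 (.leaf 0xb0a0a0003) (.node 77422 (.leaf 0x0) (.leaf 0xd0b0b0003))) (.node 77424 (.leaf 0x0) (.node 77425 (.leaf 0x0) (.leaf 0xf0b0a0003))))) (.node 77432 (.node 77429 (.node 77427 (.leaf 0xe0a0002) (.node 77428 (.leaf 0x102080003) (.leaf 0x0))) (.node 77430 (.leaf 0xe0001) (.node 77431 (.leaf 0x0) (.leaf 0x12e76012e72)))) (.node 77435 (.node 77433 (.leaf 0xf0a0002) (.node 77434 (.leaf 0x0) (.leaf 0xd0b0002))) (.node 77436 (.leaf 0x0) (.node 77437 (.leaf 0x0) (.leaf 0xb0b0a0a0004))))))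

def argWS_6861 : Store := (.node 77415 argWS_6859 argWS_6860)

def argWS_6862 : Store := (.node 77449 (.node 77443 (.node 77440 (.node 77439 (.leaf 0xb0001) (.leaf 0xf0a0002)) (.node 77441 (.leaf 0xa0f0b0003) (.node 77442 (.leaf 0x12e80012e7f) (.leaf 0x60200020106060802040105000c)))) (.node 77446 (.node 77444 (.leaf 0x0) (.node 77445 (.leaf 0xd0001) (.leaf 0x0))) (.node 77447 (.leaf 0xf0a0a0003) (.node 77448 (.leaf 0x0) (.leaf 0x0))))) (.node 77454 (.node 77451 (.node 77450 (.leaf 0xb0001) (.leaf 0xf0001)) (.node 77452 (.leaf 0xe0d0002) (.node 77453 (.leaf 0x12e8b012e8a) (.leaf 0xf0b0b0003)))) (.node 77457 (.node 77455 (.leaf 0x0) (.node 77456 (.leaf 0xf0001) (.leaf 0x0))) (.node 77458 (.leaf 0x0) (.node 77459 (.leaf 0xa0f0b0003) (.leaf 0xa0a0002))))))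

def argWS_6863 : Store := (.node 77471 (.node 77465 (.node 77462 (.node 77461 (.leaf 0x12e93) (.leaf 0xe0001)) (.node 77463 (.leaf 0x0) (.node 77464 (.leaf 0xf0001) (.leaf 0x0)))) (.node 77468 (.node 77466 (.leaf 0x0) (.node 77467 (.leaf 0xd0001) (.leaf 0x40207030005))) (.node 77469 (.leaf 0x0) (.node 77470 (.leaf 0xe0a0a0003) (.leaf 0x0))))) (.node 77477 (.node 77474 (.node 77472 (.leaf 0x12e9e) (.node 77473 (.leaf 0xa0a0002) (.leaf 0x0))) (.node 77475 (.leaf 0xf0b0002) (.node 77476 (.leaf 0x0) (.leaf 0x0)))) (.node 77480 (.node 77478 (.leaf 0xb0a0002) (.node 77479 (.leaf 0xa0f0b0b0004) (.leaf 0xb0a0002))) (.node 77481 (.leaf 0x12ea7012ea6) (.node 77482 (.leaf 0xf0b0a0a0004) (.leaf 0x0))))))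

def argWS_6864 : Store := (.node 77460 argWS_6862 argWS_6863)

def argWS_6865 : Store := (.node 77438 argWS_6861 argWS_6864)

def argWS_6866 : Store := (.node 77494 (.node 77488 (.node 77485 (.node 77484 (.leaf 0xd0b0b0003) (.leaf 0x0)) (.node 77486 (.leaf 0x0) (.node 77487 (.leaf 0xf0b0a0003) (.leaf 0xd0001)))) (.node 77491 (.node 77489 (.leaf 0x702080400000703040103000b) (.node 77490 (.leaf 0x0) (.leaf 0x0))) (.node 77492 (.leaf 0x12eb2012eaf) (.node 77493 (.leaf 0xb0f0a0a0004) (.leaf 0x0))))) (.node 77499 (.node 77496 (.node 77495 (.leaf 0xb0a0f0003) (.leaf 0x0)) (.node 77497 (.leaf 0x0) (.node 77498 (.leaf 0xf0b0b0003) (.leaf 0x8000900090006)))) (.node 77502 (.node 77500 (.leaf 0x0) (.node 77501 (.leaf 0xb0b0002) (.leaf 0x0))) (.node 77503 (.leaf 0x12ebd) (.node 77504 (.leaf 0xe0a0002) (.leaf 0x0))))))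

def argWS_6867 : Store := (.node 77516 (.node 77510 (.node 77507 (.node 77506 (.leaf 0xe0a0a0003) (.leaf 0x0)) (.node 77508 (.leaf 0x0) (.node 77509 (.leaf 0xb0b0002) (.leaf 0xf0b0b0a0004)))) (.node 77513 (.node 77511 (.leaf 0x12ec5012ec4) (.node 77512 (.leaf 0x5020102020900000202000701000d) (.leaf 0x0))) (.node 77514 (.leaf 0xe0001) (.node 77515 (.leaf 0x0) (.leaf 0x0))))) (.node 77522 (.node 77519 (.node 77517 (.leaf 0xb0b0a0a0004) (.node 77518 (.leaf 0x202020202090000000703040103000e) (.leaf 0x0))) (.node 77520 (.leaf 0xf0a0a0003) (.node 77521 (.leaf 0x0) (.leaf 0x12ed0)))) (.node 77525 (.node 77523 (.leaf 0x709080502020007010009) (.node 77524 (.leaf 0x0) (.leaf 0xf0b0a0a0004))) (.node 77526 (.leaf 0x0) (.node 77527 (.leaf 0xe0a0a0003) (.leaf 0x0))))))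

def argWS_6868 : Store := (.node 77505 argWS_6866 argWS_6867)

def argWS_6869 : Store := (.node 77539 (.node 77533 (.node 77530 (.node 77529 (.leaf 0x0) (.leaf 0xf0b0002)) (.node 77531 (.leaf 0x7050000030000000703040103000d) (.node 77532 (.leaf 0x0) (.leaf 0xb0b0a0003)))) (.node 77536 (.node 77534 (.leaf 0x0) (.node 77535 (.leaf 0xa0f0b0003) (.leaf 0x12ede012edd))) (.node 77537 (.leaf 0xb0a0f0003) (.node 77538 (.leaf 0x0) (.leaf 0xf0a0a0003))))) (.node 77545 (.node 77542 (.node 77540 (.leaf 0x0) (.node 77541 (.leaf 0x0) (.leaf 0xd0b0002))) (.node 77543 (.leaf 0x800070209020202000701000b) (.node 77544 (.leaf 0x0) (.leaf 0xa0001)))) (.node 77548 (.node 77546 (.leaf 0x0) (.node 77547 (.leaf 0x4020506030500040008) (.leaf 0x0))) (.node 77549 (.leaf 0xf0b0b0003) (.node 77550 (.leaf 0x0) (.leaf 0x12eed012ee9))))))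

def argWS_6870 : Store := (.node 77562 (.node 77556 (.node 77553 (.node 77552 (.leaf 0xf0a0a0003) (.leaf 0x0)) (.node 77554 (.leaf 0xf0b0b0a0a0005) (.node 77555 (.leaf 0x0) (.leaf 0xf0b0b0a0a0005)))) (.node 77559 (.node 77557 (.leaf 0xb0b0a0a0004) (.node 77558 (.leaf 0x12ef4012ef3) (.leaf 0x1090300030306040802040105000d))) (.node 77560 (.leaf 0x0) (.node 77561 (.leaf 0xd0001) (.leaf 0x0))))) (.node 77568 (.node 77565 (.node 77563 (.leaf 0xf0b0b0003) (.node 77564 (.leaf 0x0) (.leaf 0x0))) (.node 77566 (.leaf 0xd0001) (.node 77567 (.leaf 0x202020900090802040105000b) (.leaf 0x0)))) (.node 77571 (.node 77569 (.leaf 0xe0001) (.node 77570 (.leaf 0x0) (.leaf 0x90401070306000703040103000c))) (.node 77572 (.leaf 0x0) (.node 77573 (.leaf 0xa0f0002) (.leaf 0x0))))))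

def argWS_6871 : Store := (.node 77551 argWS_6869 argWS_6870)

def argWS_6872 : Store := (.node 77528 argWS_6868 argWS_6871)

def argWS_6873 : Store := (.node 77483 argWS_6865 argWS_6872)

def argWS_6874 : Store := (.node 77393 argWS_6858 argWS_6873)

def argWS_6875 : Store := (.node 77585 (.node 77579 (.node 77576 (.node 77575 (.leaf 0x12f05012f01) (.leaf 0xd0b0002)) (.node 77577 (.leaf 0x0) (.node 77578 (.leaf 0xa0a0002) (.leaf 0x0)))) (.node 77582 (.node 77580 (.leaf 0x0) (.node 77581 (.leaf 0x90009000009000703040103000d) (.leaf 0x0))) (.node 77583 (.leaf 0xe0a0a0003) (.node 77584 (.leaf 0x0) (.leaf 0xb0f0a0003))))) (.node 77590 (.node 77587 (.node 77586 (.leaf 0xa0f0b0b0004) (.leaf 0x12f11012f10)) (.node 77588 (.leaf 0x0) (.node 77589 (.leaf 0xf0b0a0a0004) (.leaf 0x0)))) (.node 77593 (.node 77591 (.leaf 0x0) (.node 77592 (.leaf 0xf0a0002) (.leaf 0x4030308000703040103000a))) (.node 77594 (.leaf 0x0) (.node 77595 (.leaf 0xd0001) (.leaf 0x0))))))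

def argWS_6876 : Store := (.node 77607 (.node 77601 (.node 77598 (.node 77597 (.leaf 0x20000020804000007) (.leaf 0x0)) (.node 77599 (.leaf 0xa0001) (.node 77600 (.leaf 0x0) (.leaf 0x12f1f012f1b)))) (.node 77604 (.node 77602 (.leaf 0xe0d0002) (.node 77603 (.leaf 0x0) (.leaf 0xb0b0002))) (.node 77605 (.leaf 0x0) (.node 77606 (.leaf 0x0) (.leaf 0xb0f0002))))) (.node 77613 (.node 77610 (.node 77608 (.leaf 0xb0a0002) (.node 77609 (.leaf 0xf0b0b0a0a0005) (.leaf 0xb0f0a0003))) (.node 77611 (.leaf 0x12f29012f28) (.node 77612 (.leaf 0xe0a0002) (.leaf 0x0)))) (.node 77616 (.node 77614 (.leaf 0xb0f0002) (.node 77615 (.leaf 0x0) (.leaf 0x0))) (.node 77617 (.leaf 0xe0001) (.node 77618 (.leaf 0x90201010703060202000701000c) (.leaf 0x0))))))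

def argWS_6877 : Store := (.node 77596 argWS_6875 argWS_6876)

def argWS_6878 : Store := (.node 77630 (.node 77624 (.node 77621 (.node 77620 (.leaf 0xa0f0002) (.leaf 0x0)) (.node 77622 (.leaf 0x12f34) (.node 77623 (.leaf 0xd0b0002) (.leaf 0x0)))) (.node 77627 (.node 77625 (.leaf 0xa0a0002) (.node 77626 (.leaf 0x0) (.leaf 0x0))) (.node 77628 (.leaf 0xf0b0b0a0004) (.node 77629 (.leaf 0xe0a0a0003) (.leaf 0x10d4b012f3c))))) (.node 77635 (.node 77632 (.node 77631 (.leaf 0x0) (.leaf 0xa0f0002)) (.node 77633 (.leaf 0x0) (.node 77634 (.leaf 0x0) (.leaf 0x70006020702010007)))) (.node 77638 (.node 77636 (.leaf 0x0) (.node 77637 (.leaf 0xe0001) (.leaf 0x0))) (.node 77639 (.leaf 0x800000408010802040105000c) (.node 77640 (.leaf 0x0) (.leaf 0xf0a0002))))))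

def argWS_6879 : Store := (.node 77652 (.node 77646 (.node 77643 (.node 77642 (.leaf 0x0) (.leaf 0x12f49)) (.node 77644 (.leaf 0xf0b0b0003) (.node 77645 (.leaf 0x0) (.leaf 0xa0f0b0b0004)))) (.node 77649 (.node 77647 (.leaf 0x0) (.node 77648 (.leaf 0x0) (.leaf 0xb0a0f0003))) (.node 77650 (.leaf 0x9910) (.node 77651 (.leaf 0x8010106030500040802040105000d) (.leaf 0x0))))) (.node 77658 (.node 77655 (.node 77653 (.leaf 0xd0001) (.node 77654 (.leaf 0x0) (.leaf 0xb0a0a0003))) (.node 77656 (.leaf 0x0) (.node 77657 (.leaf 0x0) (.leaf 0x80500090806000202000701000c)))) (.node 77661 (.node 77659 (.leaf 0x0) (.node 77660 (.leaf 0xb0001) (.leaf 0x0))) (.node 77662 (.leaf 0x200070009030802040105000b) (.node 77663 (.leaf 0x0) (.leaf 0xa0001))))))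

def argWS_6880 : Store := (.node 77641 argWS_6878 argWS_6879)

def argWS_6881 : Store := (.node 77619 argWS_6877 argWS_6880)

def argWS_6882 : Store := (.node 77675 (.node 77669 (.node 77666 (.node 77665 (.leaf 0x0) (.leaf 0x12f60012f5c)) (.node 77667 (.leaf 0x9040301010200000703040103000d) (.node 77668 (.leaf 0x0) (.leaf 0xf0a0a0003)))) (.node 77672 (.node 77670 (.leaf 0x0) (.node 77671 (.leaf 0x0) (.leaf 0x2060207020007010008))) (.node 77673 (.leaf 0x0) (.node 77674 (.leaf 0xb0f0a0a0004) (.leaf 0x0))))) (.node 77680 (.node 77677 (.node 77676 (.leaf 0xf0001) (.leaf 0x12f6b012f6a)) (.node 77678 (.leaf 0xa0f0b0003) (.node 77679 (.leaf 0x0) (.leaf 0xa0001)))) (.node 77683 (.node 77681 (.leaf 0x0) (.node 77682 (.leaf 0x0) (.leaf 0xb0b0002))) (.node 77684 (.leaf 0x703050901090802040105000b) (.node 77685 (.leaf 0x0) (.leaf 0xb0a0002))))))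

def argWS_6883 : Store := (.node 77697 (.node 77691 (.node 77688 (.node 77687 (.leaf 0x0) (.leaf 0xa0f0002)) (.node 77689 (.leaf 0x12f77012f76) (.node 77690 (.leaf 0xd0b0002) (.leaf 0x0)))) (.node 77694 (.node 77692 (.leaf 0xb0f0a0a0004) (.node 77693 (.leaf 0x0) (.leaf 0x0))) (.node 77695 (.leaf 0xb0b0a0003) (.node 77696 (.leaf 0xf0b0a0003) (.leaf 0xb0f0a0a0004))))) (.node 77703 (.node 77700 (.node 77698 (.leaf 0x12f80012f7f) (.node 77699 (.leaf 0x7040400050802040105000a) (.leaf 0x0))) (.node 77701 (.leaf 0xf0001) (.node 77702 (.leaf 0x0) (.leaf 0xa0f0b0003)))) (.node 77706 (.node 77704 (.leaf 0x0) (.node 77705 (.leaf 0x0) (.leaf 0xb0b0002))) (.node 77707 (.leaf 0x202020900000802040105000c) (.node 77708 (.leaf 0x0) (.leaf 0x0))))))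

def argWS_6884 : Store := (.node 77686 argWS_6882 argWS_6883)

def argWS_6885 : Store := (.node 77720 (.node 77714 (.node 77711 (.node 77710 (.leaf 0x60205020604000703040103000c) (.leaf 0x0)) (.node 77712 (.leaf 0xe0d0002) (.node 77713 (.leaf 0x0) (.leaf 0x12f90012f8c)))) (.node 77717 (.node 77715 (.leaf 0xb0a0002) (.node 77716 (.leaf 0x0) (.leaf 0xe0d0002))) (.node 77718 (.leaf 0x0) (.node 77719 (.leaf 0x0) (.leaf 0xf0b0b0a0004))))) (.node 77725 (.node 77722 (.node 77721 (.leaf 0xb0001) (.leaf 0x0)) (.node 77723 (.leaf 0x12f99) (.node 77724 (.leaf 0x10201010908050802040105000c) (.leaf 0x0)))) (.node 77728 (.node 77726 (.leaf 0xb0a0a0003) (.node 77727 (.leaf 0x0) (.leaf 0xe0a0002))) (.node 77729 (.leaf 0x0) (.node 77730 (.leaf 0x0) (.leaf 0x7010102000003010802040105000d))))))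

def argWS_6886 : Store := (.node 77742 (.node 77736 (.node 77733 (.node 77732 (.leaf 0x0) (.leaf 0xb0f0a0a0004)) (.node 77734 (.leaf 0x0) (.node 77735 (.leaf 0xb0f0a0003) (.leaf 0x12fa6012fa5)))) (.node 77739 (.node 77737 (.leaf 0xb0f0a0003) (.node 77738 (.leaf 0x0) (.leaf 0xf0001))) (.node 77740 (.leaf 0x0) (.node 77741 (.leaf 0x0) (.leaf 0xd0b0002))))) (.node 77748 (.node 77745 (.node 77743 (.leaf 0xd0001) (.node 77744 (.leaf 0x6010201070009030802040105000d) (.leaf 0x0))) (.node 77746 (.leaf 0xf0a0002) (.node 77747 (.leaf 0x0) (.leaf 0x12e4900efd0)))) (.node 77751 (.node 77749 (.leaf 0xb0a0f0003) (.node 77750 (.leaf 0x0) (.leaf 0xb0b0a0a0004))) (.node 77752 (.leaf 0x0) (.node 77753 (.leaf 0x0) (.leaf 0xf0a0a0003))))))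

def argWS_6887 : Store := (.node 77731 argWS_6885 argWS_6886)

def argWS_6888 : Store := (.node 77709 argWS_6884 argWS_6887)

def argWS_6889 : Store := (.node 77664 argWS_6881 argWS_6888)

def argWS_6890 : Store := (.node 77765 (.node 77759 (.node 77756 (.node 77755 (.leaf 0x602080400000703040103000b) (.leaf 0x0)) (.node 77757 (.leaf 0x0) (.node 77758 (.leaf 0x12fbc) (.leaf 0xa0a0002)))) (.node 77762 (.node 77760 (.leaf 0x0) (.node 77761 (.leaf 0x0) (.leaf 0xb0b0a0003))) (.node 77763 (.leaf 0xf0b0b0a0a0005) (.node 77764 (.leaf 0xd0b0b0003) (.leaf 0x12fc3012fc2))))) (.node 77770 (.node 77767 (.node 77766 (.leaf 0xd0001) (.leaf 0x0)) (.node 77768 (.leaf 0xd0b0b0003) (.node 77769 (.leaf 0x0) (.leaf 0x0)))) (.node 77773 (.node 77771 (.leaf 0xcf82) (.node 77772 (.leaf 0xe0a0002) (.leaf 0x0))) (.node 77774 (.leaf 0xe0a0a0003) (.node 77775 (.leaf 0x0) (.leaf 0x0))))))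

def argWS_6891 : Store := (.node 77787 (.node 77781 (.node 77778 (.node 77777 (.leaf 0x301050002000703040103000b) (.leaf 0x0)) (.node 77779 (.leaf 0xf0b0a0003) (.node 77780 (.leaf 0x0) (.leaf 0xb0f0a0003)))) (.node 77784 (.node 77782 (.leaf 0x12fd4012fd3) (.node 77783 (.leaf 0xb0f0002) (.leaf 0x0))) (.node 77785 (.leaf 0xf0b0002) (.node 77786 (.leaf 0x0) (.leaf 0x0))))) (.node 77793 (.node 77790 (.node 77788 (.leaf 0xf0b0002) (.node 77789 (.leaf 0xb4500d512) (.leaf 0x70009000009000703040103000c))) (.node 77791 (.leaf 0x0) (.node 77792 (.leaf 0xb0b0a0a0004) (.leaf 0x0)))) (.node 77796 (.node 77794 (.leaf 0xe0a0002) (.node 77795 (.leaf 0x0) (.leaf 0x0))) (.node 77797 (.leaf 0x60307030401030007) (.node 77798 (.leaf 0x0) (.leaf 0xf0001))))))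

def argWS_6892 : Store := (.node 77776 argWS_6890 argWS_6891)

def argWS_6893 : Store := (.node 77810 (.node 77804 (.node 77801 (.node 77800 (.leaf 0x0) (.leaf 0x1020106060202000701000a)) (.node 77802 (.leaf 0x0) (.node 77803 (.leaf 0xb0a0f0003) (.leaf 0x0)))) (.node 77807 (.node 77805 (.leaf 0xf0b0b0003) (.node 77806 (.leaf 0x12fec012feb) (.leaf 0xf0b0b0003))) (.node 77808 (.leaf 0x0) (.node 77809 (.leaf 0x2090106060802040105000a) (.leaf 0x0))))) (.node 77815 (.node 77812 (.node 77811 (.leaf 0xb0001) (.leaf 0xf0b0a0003)) (.node 77813 (.leaf 0xf0b0b0003) (.node 77814 (.leaf 0x12ff4012ff3) (.leaf 0xe0d0002)))) (.node 77818 (.node 77816 (.leaf 0x0) (.node 77817 (.leaf 0xe0001) (.leaf 0x0))) (.node 77819 (.leaf 0x0) (.node 77820 (.leaf 0xf0b0a0a0004) (.leaf 0xb0a0f0003))))))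

def argWS_6894 : Store := (.node 77832 (.node 77826 (.node 77823 (.node 77822 (.leaf 0x12ffc0114f3) (.leaf 0xe0d0002)) (.node 77824 (.leaf 0x0) (.node 77825 (.leaf 0xa0f0b0b0004) (.leaf 0x0)))) (.node 77829 (.node 77827 (.leaf 0x0) (.node 77828 (.leaf 0xb0b0a0a0004) (.leaf 0xb0a0002))) (.node 77830 (.leaf 0xd0b0002) (.node 77831 (.leaf 0x13005013004) (.leaf 0xf0b0b0a0a0005))))) (.node 77838 (.node 77835 (.node 77833 (.leaf 0x0) (.node 77834 (.leaf 0xf0b0b0003) (.leaf 0x0))) (.node 77836 (.leaf 0x0) (.node 77837 (.leaf 0xa0f0b0003) (.leaf 0xa0f0b0b0004)))) (.node 77841 (.node 77839 (.leaf 0x60102020804000007) (.node 77840 (.leaf 0x0) (.leaf 0xf0b0b0003))) (.node 77842 (.leaf 0x0) (.node 77843 (.leaf 0x1301101300d) (.leaf 0xd0b0b0003))))))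

def argWS_6895 : Store := (.node 77821 argWS_6893 argWS_6894)

def argWS_6896 : Store := (.node 77799 argWS_6892 argWS_6895)

def argWS_6897 : Store := (.node 77855 (.node 77849 (.node 77846 (.node 77845 (.leaf 0x0) (.leaf 0xd0001)) (.node 77847 (.leaf 0x0) (.node 77848 (.leaf 0x0) (.leaf 0x603010202090000000703040103000e)))) (.node 77852 (.node 77850 (.leaf 0x0) (.node 77851 (.leaf 0xa0f0002) (.leaf 0x0))) (.node 77853 (.leaf 0xf0b0a0a0004) (.node 77854 (.leaf 0x1301c) (.leaf 0xb0a0a0003))))) (.node 77860 (.node 77857 (.node 77856 (.leaf 0x0) (.leaf 0x30000000300000007)) (.node 77858 (.leaf 0x0) (.node 77859 (.leaf 0xf0b0b0a0a0005) (.leaf 0xf0b0b0a0a0005)))) (.node 77863 (.node 77861 (.leaf 0xb0a0002) (.node 77862 (.leaf 0x13024) (.leaf 0x0))) (.node 77864 (.leaf 0xb0b0a0a0004) (.node 77865 (.leaf 0x0) (.leaf 0xf0001))))))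

def argWS_6898 : Store := (.node 77877 (.node 77871 (.node 77868 (.node 77867 (.leaf 0x0) (.leaf 0x0)) (.node 77869 (.leaf 0xb0b0002) (.node 77870 (.leaf 0x30402000003010202000701000c) (.leaf 0x0)))) (.node 77874 (.node 77872 (.leaf 0xe0a0002) (.node 77873 (.leaf 0x0) (.leaf 0xd0b0b0003))) (.node 77875 (.leaf 0x13031013030) (.node 77876 (.leaf 0xa0f0b0003) (.leaf 0x0))))) (.node 77883 (.node 77880 (.node 77878 (.leaf 0xa0f0b0b0004) (.node 77879 (.leaf 0x0) (.leaf 0x0))) (.node 77881 (.leaf 0xb0b0a0003) (.node 77882 (.leaf 0xf0b0b0a0004) (.leaf 0xb0b0a0003)))) (.node 77886 (.node 77884 (.leaf 0x1303a00efaf) (.node 77885 (.leaf 0xf0001) (.leaf 0x0))) (.node 77887 (.leaf 0xa0f0002) (.node 77888 (.leaf 0x0) (.leaf 0x0))))))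

def argWS_6899 : Store := (.node 77866 argWS_6897 argWS_6898)

def argWS_6900 : Store := (.node 77900 (.node 77894 (.node 77891 (.node 77890 (.leaf 0xb0a0a0003) (.leaf 0x90402020900000802040105000c)) (.node 77892 (.leaf 0x0) (.node 77893 (.leaf 0xd0001) (.leaf 0x0)))) (.node 77897 (.node 77895 (.leaf 0xd0b0002) (.node 77896 (.leaf 0x13046013045) (.leaf 0xf0b0b0003))) (.node 77898 (.leaf 0x0) (.node 77899 (.leaf 0xb0f0a0003) (.leaf 0x0))))) (.node 77906 (.node 77903 (.node 77901 (.leaf 0x0) (.node 77902 (.leaf 0xe0d0002) (.leaf 0xf0a0a0003))) (.node 77904 (.leaf 0x50206030500040202000701000c) (.node 77905 (.leaf 0x0) (.leaf 0x0)))) (.node 77909 (.node 77907 (.leaf 0x1305101304e) (.node 77908 (.leaf 0xb0b0a0a0004) (.leaf 0x0))) (.node 77910 (.leaf 0xe0a0002) (.node 77911 (.leaf 0x0) (.leaf 0x0))))))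

def argWS_6901 : Store := (.node 77923 (.node 77917 (.node 77914 (.node 77913 (.leaf 0x60506030500040202000701000c) (.leaf 0x0)) (.node 77915 (.leaf 0xd0001) (.node 77916 (.leaf 0x0) (.leaf 0xf0b0002)))) (.node 77920 (.node 77918 (.leaf 0xb0f0a0003) (.node 77919 (.leaf 0x1305d01305c) (.leaf 0xe0a0002))) (.node 77921 (.leaf 0x0) (.node 77922 (.leaf 0xb0a0a0003) (.leaf 0x0))))) (.node 77929 (.node 77926 (.node 77924 (.leaf 0x0) (.node 77925 (.leaf 0xa0001) (.leaf 0xa0a0002))) (.node 77927 (.leaf 0xe0d0002) (.node 77928 (.leaf 0x13066013065) (.leaf 0xb0a0f0003)))) (.node 77932 (.node 77930 (.leaf 0x0) (.node 77931 (.leaf 0xe0a0a0003) (.leaf 0x0))) (.node 77933 (.leaf 0x0) (.node 77934 (.leaf 0x200000408010007) (.leaf 0x0))))))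

def argWS_6902 : Store := (.node 77912 argWS_6900 argWS_6901)

def argWS_6903 : Store := (.node 77889 argWS_6899 argWS_6902)

def argWS_6904 : Store := (.node 77844 argWS_6896 argWS_6903)

def argWS_6905 : Store := (.node 77754 argWS_6889 argWS_6904)

def argWS_6906 : Store := (.node 77574 argWS_6874 argWS_6905)

def argWS_6907 : Store := (.node 77213 argWS_6843 argWS_6906)

def argWS_6908 : Store := (.node 76492 argWS_6780 argWS_6907)

def argWS_6909 : Store := (.node 77946 (.node 77940 (.node 77937 (.node 77936 (.leaf 0xb0f0a0a0004) (.leaf 0x0)) (.node 77938 (.leaf 0xb0a0f0003) (.node 77939 (.leaf 0x13071013070) (.leaf 0xb0f0a0a0004)))) (.node 77943 (.node 77941 (.leaf 0x0) (.node 77942 (.leaf 0xf0b0b0003) (.leaf 0x0))) (.node 77944 (.leaf 0x0) (.node 77945 (.leaf 0x60402020007010007) (.leaf 0x0))))) (.node 77951 (.node 77948 (.node 77947 (.leaf 0x0) (.leaf 0x304060308020401050009)) (.node 77949 (.leaf 0x0) (.node 77950 (.leaf 0xb0f0a0003) (.leaf 0x0))))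 (.node 77954 (.node 77952 (.leaf 0xf0001) (.node 77953 (.leaf 0x1307f01307e) (.leaf 0xd0001))) (.node 77955 (.leaf 0x0) (.node 77956 (.leaf 0x702010606000703040103000b) (.leaf 0x0))))))

def argWS_6910 : Store := (.node 77968 (.node 77962 (.node 77959 (.node 77958 (.leaf 0xf0a0a0003) (.leaf 0x70500030306040802040105000c)) (.node 77960 (.leaf 0x0) (.node 77961 (.leaf 0xf0b0b0a0004) (.leaf 0x0)))) (.node 77965 (.node 77963 (.leaf 0x901070209020802040105000b) (.node 77964 (.leaf 0x0) (.leaf 0xe0d0002))) (.node 77966 (.leaf 0x0) (.node 77967 (.leaf 0x1308d005250) (.leaf 0xb0001))))) (.node 77974 (.node 77971 (.node 77969 (.leaf 0x0) (.node 77970 (.leaf 0x20601020901060007) (.leaf 0x0))) (.node 77972 (.leaf 0xe0d0002) (.node 77973 (.leaf 0xa0a0002) (.leaf 0x8000000030000000703040103000e)))) (.node 77977 (.node 77975 (.leaf 0x0) (.node 77976 (.leaf 0x0) (.leaf 0x9020106060005))) (.node 77978 (.leaf 0x0) (.node 77979 (.leaf 0xa0a0002) (.leaf 0x0))))))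

def argWS_6911 : Store := (.node 77957 argWS_6909 argWS_6910)

def argWS_6912 : Store := (.node 77991 (.node 77985 (.node 77982 (.node 77981 (.leaf 0x1309b013097) (.leaf 0x207090806000006)) (.node 77983 (.leaf 0x0) (.node 77984 (.leaf 0xb0a0002) (.leaf 0x0)))) (.node 77988 (.node 77986 (.leaf 0xa0a0002) (.node 77987 (.leaf 0x0) (.leaf 0x0))) (.node 77989 (.leaf 0xf0b0a0003) (.node 77990 (.leaf 0xe0d0002) (.leaf 0xa0001))))) (.node 77996 (.node 77993 (.node 77992 (.leaf 0x130a60130a5) (.leaf 0xe0a0a0003)) (.node 77994 (.leaf 0x0) (.node 77995 (.leaf 0xb0a0002) (.leaf 0x0)))) (.node 77999 (.node 77997 (.leaf 0x0) (.node 77998 (.leaf 0xb0b0002) (.leaf 0x3a6d))) (.node 78000 (.leaf 0xf0b0a0003) (.node 78001 (.leaf 0x0) (.leaf 0xf0a0002))))))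

def argWS_6913 : Store := (.node 78013 (.node 78007 (.node 78004 (.node 78003 (.leaf 0x0) (.leaf 0x0)) (.node 78005 (.leaf 0xf0b0002) (.node 78006 (.leaf 0xe0a0a0003) (.leaf 0x130b500e665)))) (.node 78010 (.node 78008 (.leaf 0x2090806000005) (.node 78009 (.leaf 0x0) (.leaf 0xf0b0002))) (.node 78011 (.leaf 0x0) (.node 78012 (.leaf 0xb0b0a0003) (.leaf 0x0))))) (.node 78019 (.node 78016 (.node 78014 (.leaf 0x0) (.node 78015 (.leaf 0xa0f0002) (.leaf 0xf0b0002))) (.node 78017 (.leaf 0xb0b0a0003) (.node 78018 (.leaf 0x0) (.leaf 0x130c100085a)))) (.node 78022 (.node 78020 (.leaf 0xb0f0a0a0004) (.node 78021 (.leaf 0x0) (.leaf 0xb0b0a0003))) (.node 78023 (.leaf 0x0) (.node 78024 (.leaf 0x0) (.leaf 0xf0b0a0003))))))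

def argWS_6914 : Store := (.node 78002 argWS_6912 argWS_6913)

def argWS_6915 : Store := (.node 77980 argWS_6911 argWS_6914)

def argWS_6916 : Store := (.node 78036 (.node 78030 (.node 78027 (.node 78026 (.leaf 0xb0b0a0a0004) (.leaf 0x1030103010102000802040105000d)) (.node 78028 (.leaf 0x0) (.node 78029 (.leaf 0xe0a0a0003) (.leaf 0x0)))) (.node 78033 (.node 78031 (.leaf 0x130cd0130c9) (.node 78032 (.leaf 0xa0f0002) (.leaf 0x0))) (.node 78034 (.leaf 0x800040901090006) (.node 78035 (.leaf 0x0) (.leaf 0xf0b0002))))) (.node 78041 (.node 78038 (.node 78037 (.leaf 0xa0a0002) (.leaf 0x130d4)) (.node 78039 (.leaf 0x104000002080400000703040103000e) (.node 78040 (.leaf 0x0) (.leaf 0xe0d0002)))) (.node 78044 (.node 78042 (.leaf 0x0) (.node 78043 (.leaf 0xe0a0002) (.leaf 0x0))) (.node 78045 (.leaf 0x0) (.node 78046 (.leaf 0xf0001) (.leaf 0x20105020202010007))))))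

def argWS_6917 : Store := (.node 78058 (.node 78052 (.node 78049 (.node 78048 (.leaf 0x0) (.leaf 0xf0b0b0a0a0005)) (.node 78050 (.leaf 0x0) (.node 78051 (.leaf 0x7050900090005) (.leaf 0x0)))) (.node 78055 (.node 78053 (.leaf 0xd0b0002) (.node 78054 (.leaf 0x0) (.leaf 0x130e50130e1))) (.node 78056 (.leaf 0xa0f0b0003) (.node 78057 (.leaf 0x0) (.leaf 0xf0a0a0003))))) (.node 78064 (.node 78061 (.node 78059 (.leaf 0x0) (.node 78060 (.leaf 0x0) (.leaf 0xf0b0b0a0a0005))) (.node 78062 (.leaf 0x130ec) (.node 78063 (.leaf 0xa0f0002) (.leaf 0x0)))) (.node 78067 (.node 78065 (.leaf 0xf0a0002) (.node 78066 (.leaf 0x0) (.leaf 0x0))) (.node 78068 (.leaf 0xb0b0002) (.node 78069 (.leaf 0x702020703000703040103000b) (.leaf 0x0))))))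

def argWS_6918 : Store := (.node 78047 argWS_6916 argWS_6917)

def argWS_6919 : Store := (.node 78081 (.node 78075 (.node 78072 (.node 78071 (.leaf 0xb0f0002) (.leaf 0x0)) (.node 78073 (.leaf 0xd0001) (.node 78074 (.leaf 0x130f80130f7) (.leaf 0xe0a0a0003)))) (.node 78078 (.node 78076 (.leaf 0x0) (.node 78077 (.leaf 0xb0b0002) (.leaf 0x0))) (.node 78079 (.leaf 0x0) (.node 78080 (.leaf 0xd0b0b0003) (.leaf 0xf0b0b0a0004))))) (.node 78086 (.node 78083 (.node 78082 (.leaf 0xb0a0a0003) (.leaf 0x0)) (.node 78084 (.leaf 0x13102013100) (.node 78085 (.leaf 0x1010207030005) (.leaf 0x0)))) (.node 78089 (.node 78087 (.leaf 0xf0b0b0a0004) (.node 78088 (.leaf 0x0) (.leaf 0xb0b0a0003))) (.node 78090 (.leaf 0x0) (.node 78091 (.leaf 0x0) (.leaf 0xe0001))))))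

def argWS_6920 : Store := (.node 78103 (.node 78097 (.node 78094 (.node 78093 (.leaf 0xf0b0b0a0a0005) (.leaf 0x1310c007988)) (.node 78095 (.leaf 0x801090206020802040105000b) (.node 78096 (.leaf 0x0) (.leaf 0xb0a0002)))) (.node 78100 (.node 78098 (.leaf 0x0) (.node 78099 (.leaf 0xb0a0002) (.leaf 0x0))) (.node 78101 (.leaf 0x0) (.node 78102 (.leaf 0xe0a0a0003) (.leaf 0xe0d0002))))) (.node 78109 (.node 78106 (.node 78104 (.leaf 0xb0f0002) (.node 78105 (.leaf 0x13117013116) (.leaf 0xb0f0a0003))) (.node 78107 (.leaf 0x0) (.node 78108 (.leaf 0x201010908050006) (.leaf 0x0)))) (.node 78112 (.node 78110 (.leaf 0xa0f0002) (.node 78111 (.leaf 0xd0b0002) (.leaf 0xf0b0b0a0a0005))) (.node 78113 (.leaf 0x1311f) (.node 78114 (.leaf 0x905060308020401050009) (.leaf 0x0))))))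

def argWS_6921 : Store := (.node 78092 argWS_6919 argWS_6920)

def argWS_6922 : Store := (.node 78070 argWS_6918 argWS_6921)

def argWS_6923 : Store := (.node 78025 argWS_6915 argWS_6922)

def argWS_6924 : Store := (.node 78126 (.node 78120 (.node 78117 (.node 78116 (.leaf 0xb0f0002) (.leaf 0x0)) (.node 78118 (.leaf 0xd0b0002) (.node 78119 (.leaf 0x0) (.leaf 0x0)))) (.node 78123 (.node 78121 (.leaf 0xe0a0002) (.node 78122 (.leaf 0x20500000300000202000701000c) (.leaf 0x0))) (.node 78124 (.leaf 0xf0b0b0003) (.node 78125 (.leaf 0x0) (.leaf 0xb0f0a0003))))) (.node 78131 (.node 78128 (.node 78127 (.leaf 0x1312d01312c) (.leaf 0xf0b0a0003)) (.node 78129 (.leaf 0x0) (.node 78130 (.leaf 0xa0001) (.leaf 0x0)))) (.node 78134 (.node 78132 (.leaf 0x0) (.node 78133 (.leaf 0xb0f0002) (.leaf 0xf0b0b0a0004))) (.node 78135 (.leaf 0xa0f0b0b0004) (.node 78136 (.leaf 0x13136013135) (.leaf 0xd0b0b0003))))))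

def argWS_6925 : Store := (.node 78148 (.node 78142 (.node 78139 (.node 78138 (.leaf 0x0) (.leaf 0xa0f0b0b0004)) (.node 78140 (.leaf 0x0) (.node 78141 (.leaf 0x0) (.leaf 0xb0a0a0003)))) (.node 78145 (.node 78143 (.leaf 0x40400050004) (.node 78144 (.leaf 0x0) (.leaf 0x0))) (.node 78146 (.leaf 0x13140) (.node 78147 (.leaf 0x8050003010102000202000701000d) (.leaf 0x0))))) (.node 78154 (.node 78151 (.node 78149 (.leaf 0xa0f0b0003) (.node 78150 (.leaf 0x0) (.leaf 0xe0a0a0003))) (.node 78152 (.leaf 0x0) (.node 78153 (.leaf 0x0) (.leaf 0xa0f0b0b0004)))) (.node 78157 (.node 78155 (.leaf 0xb0001) (.node 78156 (.leaf 0x1314a) (.leaf 0xd0b0b0003))) (.node 78158 (.leaf 0x0) (.node 78159 (.leaf 0xe0a0a0003) (.leaf 0x0))))))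

def argWS_6926 : Store := (.node 78137 argWS_6924 argWS_6925)

def argWS_6927 : Store := (.node 78171 (.node 78165 (.node 78162 (.node 78161 (.leaf 0x0) (.leaf 0xd0b0b0003)) (.node 78163 (.leaf 0x701010901090802040105000b) (.node 78164 (.leaf 0x0) (.leaf 0xf0001)))) (.node 78168 (.node 78166 (.leaf 0x0) (.node 78167 (.leaf 0xa0f0002) (.leaf 0x13156013155))) (.node 78169 (.leaf 0xf0b0b0a0004) (.node 78170 (.leaf 0x0) (.leaf 0xf0b0b0a0a0005))))) (.node 78176 (.node 78173 (.node 78172 (.leaf 0x0) (.leaf 0x0)) (.node 78174 (.leaf 0x109000003010802040105000b) (.node 78175 (.leaf 0x0) (.leaf 0xa0f0002)))) (.node 78179 (.node 78177 (.leaf 0x0) (.node 78178 (.leaf 0xf0a0a0003) (.leaf 0xf0b0b0a0a0005))) (.node 78180 (.leaf 0x0) (.node 78181 (.leaf 0x13163013161) (.leaf 0xb0b0a0003))))))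

def argWS_6928 : Store := (.node 78193 (.node 78187 (.node 78184 (.node 78183 (.leaf 0x0) (.leaf 0x2000000030306040802040105000d)) (.node 78185 (.leaf 0x0) (.node 78186 (.leaf 0xa0f0b0003) (.leaf 0xf0b0b0a0a0005)))) (.node 78190 (.node 78188 (.leaf 0x6000207030005) (.node 78189 (.leaf 0x0) (.leaf 0x0))) (.node 78191 (.leaf 0xb0b0a0003) (.node 78192 (.leaf 0x1316e01316d) (.leaf 0xb0b0a0003))))) (.node 78199 (.node 78196 (.node 78194 (.leaf 0x0) (.node 78195 (.leaf 0xb0f0002) (.leaf 0x0))) (.node 78197 (.leaf 0x0) (.node 78198 (.leaf 0xe0a0002) (.leaf 0x12dad)))) (.node 78202 (.node 78200 (.leaf 0xd0b0002) (.node 78201 (.leaf 0x0) (.leaf 0xb0a0a0003))) (.node 78203 (.leaf 0x0) (.node 78204 (.leaf 0x0) (.leaf 0x40406010500020802040105000c))))))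

def argWS_6929 : Store := (.node 78182 argWS_6927 argWS_6928)

def argWS_6930 : Store := (.node 78160 argWS_6926 argWS_6929)

def argWS_6931 : Store := (.node 78216 (.node 78210 (.node 78207 (.node 78206 (.leaf 0x0) (.leaf 0xb0b0a0003)) (.node 78208 (.leaf 0x0) (.node 78209 (.leaf 0xf0b0a0003) (.leaf 0x13180)))) (.node 78213 (.node 78211 (.leaf 0xf0a0002) (.node 78212 (.leaf 0x0) (.leaf 0xb0a0002))) (.node 78214 (.leaf 0x0) (.node 78215 (.leaf 0x0) (.leaf 0xf0b0b0a0004))))) (.node 78221 (.node 78218 (.node 78217 (.leaf 0xd0b0002) (.leaf 0xe0a0002)) (.node 78219 (.leaf 0x13189013188) (.node 78220 (.leaf 0x800040207030802040105000b) (.leaf 0x0)))) (.node 78224 (.node 78222 (.leaf 0xb0b0a0003) (.node 78223 (.leaf 0x0) (.leaf 0xb0b0002))) (.node 78225 (.leaf 0x0) (.node 78226 (.leaf 0x0) (.leaf 0xf0a0002))))))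

def argWS_6932 : Store := (.node 78238 (.node 78232 (.node 78229 (.node 78228 (.leaf 0xb0b0a0a0004) (.leaf 0xe0001)) (.node 78230 (.leaf 0x13194013193) (.node 78231 (.leaf 0xb0b0a0003) (.leaf 0x0)))) (.node 78235 (.node 78233 (.leaf 0xb0b0002) (.node 78234 (.leaf 0x0) (.leaf 0x0))) (.node 78236 (.leaf 0x2090105020202010802040105000d) (.node 78237 (.leaf 0x0) (.leaf 0xa0001))))) (.node 78244 (.node 78241 (.node 78239 (.leaf 0x0) (.node 78240 (.leaf 0x509040208020401050009) (.leaf 0x0))) (.node 78242 (.leaf 0xf0a0a0003) (.node 78243 (.leaf 0x0) (.leaf 0x131a201319e)))) (.node 78247 (.node 78245 (.leaf 0xd0001) (.node 78246 (.leaf 0x0) (.leaf 0xb0f0002))) (.node 78248 (.leaf 0x0) (.node 78249 (.leaf 0x0) (.leaf 0x7010206030005))))))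

def argWS_6933 : Store := (.node 78227 argWS_6931 argWS_6932)

def argWS_6934 : Store := (.node 78261 (.node 78255 (.node 78252 (.node 78251 (.leaf 0x0) (.leaf 0x0)) (.node 78253 (.leaf 0x202020207030802040105000b) (.node 78254 (.leaf 0x0) (.leaf 0xb0a0f0003)))) (.node 78258 (.node 78256 (.leaf 0x0) (.node 78257 (.leaf 0xe0001) (.leaf 0x131b00131af))) (.node 78259 (.leaf 0xf0001) (.node 78260 (.leaf 0x0) (.leaf 0x9050306030500040802040105000d))))) (.node 78266 (.node 78263 (.node 78262 (.leaf 0x0) (.leaf 0xd0001)) (.node 78264 (.leaf 0xb0f0a0a0004) (.node 78265 (.leaf 0xe0a0002) (.leaf 0x131b8)))) (.node 78269 (.node 78267 (.leaf 0xf0b0002) (.node 78268 (.leaf 0x0) (.leaf 0xf0b0a0003))) (.node 78270 (.leaf 0x0) (.node 78271 (.leaf 0x0) (.leaf 0xb0f0a0003))))))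

def argWS_6935 : Store := (.node 78283 (.node 78277 (.node 78274 (.node 78273 (.leaf 0x131bf0062d3) (.leaf 0xe0d0002)) (.node 78275 (.leaf 0x0) (.node 78276 (.leaf 0x3040103010102000802040105000d) (.leaf 0x0)))) (.node 78280 (.node 78278 (.leaf 0xe0d0002) (.node 78279 (.leaf 0xb0a0002) (.leaf 0x30407030004))) (.node 78281 (.leaf 0x0) (.node 78282 (.leaf 0xa0f0b0003) (.leaf 0x0))))) (.node 78289 (.node 78286 (.node 78284 (.leaf 0x5000009080600000703040103000d) (.node 78285 (.leaf 0x0) (.leaf 0xf0b0b0003))) (.node 78287 (.leaf 0x0) (.node 78288 (.leaf 0x131ce0131ca) (.leaf 0xf0b0a0003)))) (.node 78292 (.node 78290 (.leaf 0x0) (.node 78291 (.leaf 0xf0001) (.leaf 0x0))) (.node 78293 (.leaf 0x0) (.node 78294 (.leaf 0xf0b0a0003) (.leaf 0x11e9b))))))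

def argWS_6936 : Store := (.node 78272 argWS_6934 argWS_6935)

def argWS_6937 : Store := (.node 78250 argWS_6933 argWS_6936)

def argWS_6938 : Store := (.node 78205 argWS_6930 argWS_6937)

def argWS_6939 : Store := (.node 78115 argWS_6923 argWS_6938)

def argWS_6940 : Store := (.node 78306 (.node 78300 (.node 78297 (.node 78296 (.leaf 0xa0a0002) (.leaf 0x0)) (.node 78298 (.leaf 0xa0a0002) (.node 78299 (.leaf 0x0) (.leaf 0x0)))) (.node 78303 (.node 78301 (.leaf 0xf0001) (.node 78302 (.leaf 0x60102010606000703040103000c) (.leaf 0x0))) (.node 78304 (.leaf 0xe0a0a0003) (.node 78305 (.leaf 0x0) (.leaf 0xf0b0a0003))))) (.node 78311 (.node 78308 (.node 78307 (.leaf 0x0) (.leaf 0x131e20131e0)) (.node 78309 (.leaf 0xf0a0002) (.node 78310 (.leaf 0x0) (.leaf 0xf0b0002)))) (.node 78314 (.node 78312 (.leaf 0x0) (.node 78313 (.leaf 0x0) (.leaf 0xf0b0b0003))) (.node 78315 (.leaf 0xb0f0a0003) (.node 78316 (.leaf 0x704010703060202000701000b) (.leaf 0x0))))))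

def argWS_6941 : Store := (.node 78328 (.node 78322 (.node 78319 (.node 78318 (.leaf 0xb0f0a0003) (.leaf 0x0)) (.node 78320 (.leaf 0x131ee0131ea) (.node 78321 (.leaf 0x201020002020007010009) (.leaf 0x0)))) (.node 78325 (.node 78323 (.leaf 0xb0f0a0a0004) (.node 78324 (.leaf 0x0) (.leaf 0xa0001))) (.node 78326 (.leaf 0x0) (.node 78327 (.leaf 0x0) (.leaf 0x102070206000202000701000b))))) (.node 78334 (.node 78331 (.node 78329 (.leaf 0x0) (.node 78330 (.leaf 0x0) (.leaf 0x5020202010802040105000b))) (.node 78332 (.leaf 0x0) (.node 78333 (.leaf 0xb0b0002) (.leaf 0x0)))) (.node 78337 (.node 78335 (.leaf 0xb0a0002) (.node 78336 (.leaf 0x131fe0131fd) (.leaf 0xd0b0002))) (.node 78338 (.leaf 0x0) (.node 78339 (.leaf 0x606010207020007010009) (.leaf 0x0))))))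

def argWS_6942 : Store := (.node 78317 argWS_6940 argWS_6941)

def argWS_6943 : Store := (.node 78351 (.node 78345 (.node 78342 (.node 78341 (.leaf 0xb0b0a0a0004) (.leaf 0xa0f0b0b0004)) (.node 78343 (.leaf 0x6030408010202000701000a) (.node 78344 (.leaf 0x0) (.leaf 0xb0f0a0a0004)))) (.node 78348 (.node 78346 (.leaf 0x0) (.node 78347 (.leaf 0x13209) (.leaf 0x9040009020602000703040103000d))) (.node 78349 (.leaf 0x0) (.node 78350 (.leaf 0xf0a0a0003) (.leaf 0x0))))) (.node 78356 (.node 78353 (.node 78352 (.leaf 0xf0a0002) (.leaf 0x0)) (.node 78354 (.leaf 0x0) (.node 78355 (.leaf 0xd0b0b0003) (.leaf 0xe0d0002)))) (.node 78359 (.node 78357 (.leaf 0x13213) (.node 78358 (.leaf 0xd0001) (.leaf 0x0))) (.node 78360 (.leaf 0xb0f0a0a0004) (.node 78361 (.leaf 0x0) (.leaf 0x0))))))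

def argWS_6944 : Store := (.node 78373 (.node 78367 (.node 78364 (.node 78363 (.leaf 0xb0f0002) (.leaf 0xd0b0002)) (.node 78365 (.leaf 0xb0b0a0003) (.node 78366 (.leaf 0x70400020804000202000701000c) (.leaf 0x0)))) (.node 78370 (.node 78368 (.leaf 0xb0a0002) (.node 78369 (.leaf 0x0) (.leaf 0x1322001321c))) (.node 78371 (.leaf 0xa0001) (.node 78372 (.leaf 0x0) (.leaf 0xf0b0a0a0004))))) (.node 78379 (.node 78376 (.node 78374 (.leaf 0x0) (.node 78375 (.leaf 0x0) (.leaf 0xb0f0a0003))) (.node 78377 (.leaf 0x4030409000009000703040103000d) (.node 78378 (.leaf 0x0) (.leaf 0xf0a0a0003)))) (.node 78382 (.node 78380 (.leaf 0x0) (.node 78381 (.leaf 0x1322b0055ee) (.leaf 0xf0001))) (.node 78383 (.leaf 0x0) (.node 78384 (.leaf 0xf0b0a0003) (.leaf 0x0))))))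

def argWS_6945 : Store := (.node 78362 argWS_6943 argWS_6944)

def argWS_6946 : Store := (.node 78340 argWS_6942 argWS_6945)

def argWS_6947 : Store := (.node 78396 (.node 78390 (.node 78387 (.node 78386 (.leaf 0x0) (.leaf 0xb0f0a0003)) (.node 78388 (.leaf 0xb0a0f0003) (.node 78389 (.leaf 0x13233) (.leaf 0xb0a0a0003)))) (.node 78393 (.node 78391 (.leaf 0x0) (.node 78392 (.leaf 0x501010904020802040105000b) (.leaf 0x0))) (.node 78394 (.leaf 0xf0001) (.node 78395 (.leaf 0xa0001) (.leaf 0x60401020106060802040105000c))))) (.node 78401 (.node 78398 (.node 78397 (.leaf 0x0) (.leaf 0xd0b0002)) (.node 78399 (.leaf 0x0) (.node 78400 (.leaf 0x200000307030401030009) (.leaf 0x0)))) (.node 78404 (.node 78402 (.leaf 0xf0b0b0a0a0005) (.node 78403 (.leaf 0x0) (.leaf 0x1324201323e))) (.node 78405 (.leaf 0xb0b0002) (.node 78406 (.leaf 0x0) (.leaf 0xd0001))))))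

def argWS_6948 : Store := (.node 78418 (.node 78412 (.node 78409 (.node 78408 (.leaf 0x0) (.leaf 0x0)) (.node 78410 (.leaf 0xf0b0b0a0a0005) (.node 78411 (.leaf 0xf0001) (.leaf 0x1324a0054aa)))) (.node 78415 (.node 78413 (.leaf 0x60101090402000703040103000c) (.node 78414 (.leaf 0x0) (.leaf 0xe0001))) (.node 78416 (.leaf 0x0) (.node 78417 (.leaf 0xa0a0002) (.leaf 0x0))))) (.node 78424 (.node 78421 (.node 78419 (.leaf 0x0) (.node 78420 (.leaf 0xd0b0002) (.leaf 0xb0b0a0003))) (.node 78422 (.leaf 0xd0b0002) (.node 78423 (.leaf 0x13255013254) (.leaf 0x0)))) (.node 78427 (.node 78425 (.leaf 0xe0a0002) (.node 78426 (.leaf 0x0) (.leaf 0x0))) (.node 78428 (.leaf 0xa0001) (.node 78429 (.leaf 0x1ea0) (.leaf 0x903000206030802040105000b))))))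

def argWS_6949 : Store := (.node 78407 argWS_6947 argWS_6948)

def argWS_6950 : Store := (.node 78441 (.node 78435 (.node 78432 (.node 78431 (.leaf 0x0) (.leaf 0xd0b0002)) (.node 78433 (.leaf 0x0) (.node 78434 (.leaf 0xe0d0002) (.leaf 0x0)))) (.node 78438 (.node 78436 (.leaf 0x0) (.node 78437 (.leaf 0xa0f0b0b0004) (.leaf 0xf0b0a0a0004))) (.node 78439 (.leaf 0x13265) (.node 78440 (.leaf 0xa0f0b0003) (.leaf 0x0))))) (.node 78446 (.node 78443 (.node 78442 (.leaf 0x60601070209020202000701000c) (.leaf 0x0)) (.node 78444 (.leaf 0xf0b0002) (.node 78445 (.leaf 0x6050206040202000701000a) (.leaf 0x0)))) (.node 78449 (.node 78447 (.leaf 0xb0a0a0003) (.node 78448 (.leaf 0x0) (.leaf 0xe0001))) (.node 78450 (.leaf 0xe0a0002) (.node 78451 (.leaf 0x13271013270) (.leaf 0xb0f0002))))))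

def argWS_6951 : Store := (.node 78463 (.node 78457 (.node 78454 (.node 78453 (.leaf 0x0) (.leaf 0x50300000300000802040105000d)) (.node 78455 (.leaf 0x0) (.node 78456 (.leaf 0xa0001) (.leaf 0xf0b0a0a0004)))) (.node 78460 (.node 78458 (.leaf 0xf0b0002) (.node 78459 (.leaf 0x13279) (.leaf 0x503090806000202000701000c))) (.node 78461 (.leaf 0x0) (.node 78462 (.leaf 0xb0a0f0003) (.leaf 0x0))))) (.node 78469 (.node 78466 (.node 78464 (.leaf 0x0) (.node 78465 (.leaf 0xb0a0f0003) (.leaf 0xb0f0002))) (.node 78467 (.leaf 0xe0a0a0003) (.node 78468 (.leaf 0x13282013281) (.leaf 0x801030306040202000701000b)))) (.node 78472 (.node 78470 (.leaf 0x0) (.node 78471 (.leaf 0xd0b0b0003) (.leaf 0x0))) (.node 78473 (.leaf 0xa0a0002) (.node 78474 (.leaf 0x0) (.leaf 0x0))))))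

def argWS_6952 : Store := (.node 78452 argWS_6950 argWS_6951)

def argWS_6953 : Store := (.node 78430 argWS_6949 argWS_6952)

def argWS_6954 : Store := (.node 78385 argWS_6946 argWS_6953)

def argWS_6955 : Store := (.node 78486 (.node 78480 (.node 78477 (.node 78476 (.leaf 0x703000502020007010009) (.leaf 0x0)) (.node 78478 (.leaf 0xf0a0002) (.node 78479 (.leaf 0x0) (.leaf 0xf0b0b0003)))) (.node 78483 (.node 78481 (.leaf 0x1328f01328e) (.node 78482 (.leaf 0x80004070206000802040105000c) (.leaf 0x0))) (.node 78484 (.leaf 0xb0f0002) (.node 78485 (.leaf 0x0) (.leaf 0xf0a0002))))) (.node 78491 (.node 78488 (.node 78487 (.leaf 0x0) (.leaf 0x0)) (.node 78489 (.leaf 0x60402080400000703040103000c) (.node 78490 (.leaf 0x0) (.leaf 0xb0b0a0003)))) (.node 78494 (.node 78492 (.leaf 0x0) (.node 78493 (.leaf 0x943901329b) (.leaf 0x20901070209020007))) (.node 78495 (.leaf 0x0) (.node 78496 (.leaf 0xf0b0b0003) (.leaf 0x0))))))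

def argWS_6956 : Store := (.node 78508 (.node 78502 (.node 78499 (.node 78498 (.leaf 0xf0b0b0a0a0005) (.leaf 0x0)) (.node 78500 (.leaf 0x0) (.node 78501 (.leaf 0x2060002020007010008) (.leaf 0x0)))) (.node 78505 (.node 78503 (.leaf 0xb0001) (.node 78504 (.leaf 0x0) (.leaf 0xb0f0a0a0004))) (.node 78506 (.leaf 0xa0a0002) (.node 78507 (.leaf 0x132a90132a8) (.leaf 0xf0a0002))))) (.node 78514 (.node 78511 (.node 78509 (.leaf 0x0) (.node 78510 (.leaf 0xe0a0002) (.leaf 0x0))) (.node 78512 (.leaf 0x0) (.node 78513 (.leaf 0xb0f0a0003) (.leaf 0xb0a0a0003)))) (.node 78517 (.node 78515 (.leaf 0x132b10115c9) (.node 78516 (.leaf 0xa0f0b0003) (.leaf 0x0))) (.node 78518 (.leaf 0xd0b0002) (.node 78519 (.leaf 0x0) (.leaf 0x0))))))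

def argWS_6957 : Store := (.node 78497 argWS_6955 argWS_6956)

def argWS_6958 : Store := (.node 78531 (.node 78525 (.node 78522 (.node 78521 (.leaf 0xb0b0a0003) (.leaf 0xe0a0a0003)) (.node 78523 (.leaf 0x132b9) (.node 78524 (.leaf 0xe0d0002) (.leaf 0x0)))) (.node 78528 (.node 78526 (.leaf 0xb0f0002) (.node 78527 (.leaf 0x0) (.leaf 0x0))) (.node 78529 (.leaf 0xf0b0002) (.node 78530 (.leaf 0xb0f0002) (.leaf 0x132c1))))) (.node 78536 (.node 78533 (.node 78532 (.leaf 0xb0f0002) (.leaf 0x0)) (.node 78534 (.leaf 0xb0001) (.node 78535 (.leaf 0x0) (.leaf 0x0)))) (.node 78539 (.node 78537 (.leaf 0x30700030306040802040105000c) (.node 78538 (.leaf 0x0) (.leaf 0xe0a0002))) (.node 78540 (.leaf 0x0) (.node 78541 (.leaf 0xb0a0f0003) (.leaf 0x12aaf0132cc))))))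

def argWS_6959 : Store := (.node 78553 (.node 78547 (.node 78544 (.node 78543 (.leaf 0xf0b0a0a0004) (.leaf 0x0)) (.node 78545 (.leaf 0x1020900090802040105000a) (.node 78546 (.leaf 0x0) (.leaf 0xb0b0a0a0004)))) (.node 78550 (.node 78548 (.leaf 0x132d2) (.node 78549 (.leaf 0xa0a0002) (.leaf 0x0))) (.node 78551 (.leaf 0xd0001) (.node 78552 (.leaf 0x0) (.leaf 0x0))))) (.node 78559 (.node 78556 (.node 78554 (.leaf 0xf0a0a0003) (.node 78555 (.leaf 0xf0b0b0a0004) (.leaf 0x1103e0132da))) (.node 78557 (.leaf 0xf0001) (.node 78558 (.leaf 0x0) (.leaf 0xa0f0002)))) (.node 78562 (.node 78560 (.leaf 0x0) (.node 78561 (.leaf 0x0) (.leaf 0xb0f0a0003))) (.node 78563 (.leaf 0xb0a0f0003) (.node 78564 (.leaf 0x600000901090802040105000b) (.leaf 0x0))))))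

def argWS_6960 : Store := (.node 78542 argWS_6958 argWS_6959)

def argWS_6961 : Store := (.node 78520 argWS_6957 argWS_6960)

def argWS_6962 : Store := (.node 78576 (.node 78570 (.node 78567 (.node 78566 (.leaf 0xa0f0002) (.leaf 0x0)) (.node 78568 (.leaf 0x132e60132e2) (.node 78569 (.leaf 0x0) (.leaf 0xa0001)))) (.node 78573 (.node 78571 (.leaf 0x0) (.node 78572 (.leaf 0x0) (.leaf 0xe0d0002))) (.node 78574 (.leaf 0xf0b0a0a0004) (.node 78575 (.leaf 0x7010703060005) (.leaf 0x0))))) (.node 78581 (.node 78578 (.node 78577 (.leaf 0xa0f0002) (.leaf 0x0)) (.node 78579 (.leaf 0x132f10132ed) (.node 78580 (.leaf 0xa0001) (.leaf 0x0)))) (.node 78584 (.node 78582 (.leaf 0x0) (.node 78583 (.leaf 0x6000007030401030009) (.leaf 0x0))) (.node 78585 (.leaf 0xb0a0a0003) (.node 78586 (.leaf 0x0) (.leaf 0xe0d0002))))))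

def argWS_6963 : Store := (.node 78598 (.node 78592 (.node 78589 (.node 78588 (.leaf 0x132fa) (.leaf 0xf0b0b0a0004)) (.node 78590 (.leaf 0x0) (.node 78591 (.leaf 0xf0a0002) (.leaf 0x0)))) (.node 78595 (.node 78593 (.leaf 0x0) (.node 78594 (.leaf 0xb0a0a0003) (.leaf 0x30700050206040202000701000c))) (.node 78596 (.leaf 0x0) (.node 78597 (.leaf 0xd0001) (.leaf 0x0))))) (.node 78604 (.node 78601 (.node 78599 (.leaf 0xe0a0a0003) (.node 78600 (.leaf 0x13306013305) (.leaf 0xb0b0a0a0004))) (.node 78602 (.leaf 0x0) (.node 78603 (.leaf 0xb0a0002) (.leaf 0x0)))) (.node 78607 (.node 78605 (.leaf 0x0) (.node 78606 (.leaf 0xb0b0a0003) (.leaf 0xd0b0b0003))) (.node 78608 (.leaf 0x3070308000703040103000a) (.node 78609 (.leaf 0x0) (.leaf 0xf0b0b0003))))))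

def argWS_6964 : Store := (.node 78587 argWS_6962 argWS_6963)

def argWS_6965 : Store := (.node 78621 (.node 78615 (.node 78612 (.node 78611 (.leaf 0x0) (.leaf 0x1331201330e)) (.node 78613 (.leaf 0xf0b0b0a0a0005) (.node 78614 (.leaf 0x0) (.leaf 0xb0a0f0003)))) (.node 78618 (.node 78616 (.leaf 0x0) (.node 78617 (.leaf 0x0) (.leaf 0xa0f0b0b0004))) (.node 78619 (.leaf 0xb0a0002) (.node 78620 (.leaf 0xe0a0a0003) (.leaf 0x1331b01331a))))) (.node 78627 (.node 78624 (.node 78622 (.leaf 0xb0f0002) (.node 78623 (.leaf 0x0) (.leaf 0xb0b0a0003))) (.node 78625 (.leaf 0x0) (.node 78626 (.leaf 0x0) (.leaf 0xb0001)))) (.node 78630 (.node 78628 (.leaf 0xb0001) (.node 78629 (.leaf 0xe0a0a0003) (.leaf 0x13324013323))) (.node 78631 (.leaf 0x20804000007) (.node 78632 (.leaf 0x0) (.leaf 0xb0001))))))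

def argWS_6966 : Store := (.node 78644 (.node 78638 (.node 78635 (.node 78634 (.leaf 0x0) (.leaf 0xd0b0002)) (.node 78636 (.leaf 0x0) (.node 78637 (.leaf 0x0) (.leaf 0xb0a0002)))) (.node 78641 (.node 78639 (.leaf 0xb0f0002) (.node 78640 (.leaf 0xf0b0a0003) (.leaf 0x1332f01332e))) (.node 78642 (.leaf 0xb0b0a0a0004) (.node 78643 (.leaf 0x0) (.leaf 0xb0001))))) (.node 78650 (.node 78647 (.node 78645 (.leaf 0x0) (.node 78646 (.leaf 0x0) (.leaf 0x204020900000006))) (.node 78648 (.leaf 0x0) (.node 78649 (.leaf 0xf0b0002) (.leaf 0x0)))) (.node 78653 (.node 78651 (.leaf 0x90104070206000202000701000c) (.node 78652 (.leaf 0x0) (.leaf 0xd0001))) (.node 78654 (.leaf 0x0) (.node 78655 (.leaf 0x1333d013339) (.leaf 0x90000000300000802040105000d))))))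

def argWS_6967 : Store := (.node 78633 argWS_6965 argWS_6966)

def argWS_6968 : Store := (.node 78610 argWS_6964 argWS_6967)

def argWS_6969 : Store := (.node 78565 argWS_6961 argWS_6968)

def argWS_6970 : Store := (.node 78475 argWS_6954 argWS_6969)

def argWS_6971 : Store := (.node 78295 argWS_6939 argWS_6970)

def argWS_6972 : Store := (.node 78667 (.node 78661 (.node 78658 (.node 78657 (.leaf 0x0) (.leaf 0xf0b0a0003)) (.node 78659 (.leaf 0x0) (.node 78660 (.leaf 0xf0b0a0003) (.leaf 0x0)))) (.node 78664 (.node 78662 (.leaf 0x0) (.node 78663 (.leaf 0xa0a0002) (.leaf 0x13346))) (.node 78665 (.leaf 0xa0f0b0003) (.node 78666 (.leaf 0x0) (.leaf 0xe0d0002))))) (.node 78672 (.node 78669 (.node 78668 (.leaf 0x0) (.leaf 0x0)) (.node 78670 (.leaf 0xf0b0b0a0004) (.node 78671 (.leaf 0xb0a0a0003) (.leaf 0x20506010500020202000701000c)))) (.node 78675 (.node 78673 (.leaf 0x0) (.node 78674 (.leaf 0xf0001) (.leaf 0x0))) (.node 78676 (.leaf 0x1335201334e) (.node 78677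 (.leaf 0xf0a0a0003) (.leaf 0x0))))))

def argWS_6973 : Store := (.node 78689 (.node 78683 (.node 78680 (.node 78679 (.leaf 0x1080007030401030008) (.leaf 0x0)) (.node 78681 (.leaf 0xe0a0a0003) (.node 78682 (.leaf 0xb0f0a0003) (.leaf 0x90301010200000703040103000c)))) (.node 78686 (.node 78684 (.leaf 0x0) (.node 78685 (.leaf 0xb0f0a0a0004) (.leaf 0x0))) (.node 78687 (.leaf 0x1335d) (.node 78688 (.leaf 0xf0b0a0a0004) (.leaf 0x0))))) (.node 78695 (.node 78692 (.node 78690 (.leaf 0x50007030401030008) (.node 78691 (.leaf 0x0) (.leaf 0xf0a0a0003))) (.node 78693 (.leaf 0xb0a0002) (.node 78694 (.leaf 0xb0a0002) (.leaf 0x13365)))) (.node 78698 (.node 78696 (.leaf 0xf0b0b0a0a0005) (.node 78697 (.leaf 0x0) (.leaf 0xb0001))) (.node 78699 (.leaf 0x0) (.node 78700 (.leaf 0x0) (.leaf 0xe0a0a0003))))))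

def argWS_6974 : Store := (.node 78678 argWS_6972 argWS_6973)

def argWS_6975 : Store := (.node 78712 (.node 78706 (.node 78703 (.node 78702 (.leaf 0xf0b0a0003) (.leaf 0xa0f0b0b0004)) (.node 78704 (.leaf 0x1336e01336d) (.node 78705 (.leaf 0xf0001) (.leaf 0x0)))) (.node 78709 (.node 78707 (.leaf 0xf0b0b0003) (.node 78708 (.leaf 0x0) (.leaf 0x0))) (.node 78710 (.leaf 0x206020702010802040105000c) (.node 78711 (.leaf 0x0) (.leaf 0xb0f0a0a0004))))) (.node 78717 (.node 78714 (.node 78713 (.leaf 0x0) (.leaf 0x901050206040202000701000b)) (.node 78715 (.leaf 0x0) (.node 78716 (.leaf 0xb0f0002) (.leaf 0x0)))) (.node 78720 (.node 78718 (.leaf 0x8030006020702010802040105000d) (.node 78719 (.leaf 0x0) (.leaf 0xf0b0b0a0a0005))) (.node 78721 (.leaf 0x0) (.node 78722 (.leaf 0x1338001337c) (.leaf 0xf0b0a0a0004))))))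

def argWS_6976 : Store := (.node 78734 (.node 78728 (.node 78725 (.node 78724 (.leaf 0x0) (.leaf 0x20202010904020202000701000c)) (.node 78726 (.leaf 0x0) (.node 78727 (.leaf 0xb0b0a0a0004) (.leaf 0xf0a0002)))) (.node 78731 (.node 78729 (.leaf 0x3010603050004000703040103000d) (.node 78730 (.leaf 0x0) (.leaf 0xb0b0a0a0004))) (.node 78732 (.leaf 0x0) (.node 78733 (.leaf 0x1338b) (.leaf 0xa0f0b0b0004))))) (.node 78740 (.node 78737 (.node 78735 (.leaf 0x0) (.node 78736 (.leaf 0xf0b0a0003) (.leaf 0x0))) (.node 78738 (.leaf 0x0) (.node 78739 (.leaf 0xf0a0002) (.leaf 0xe0001)))) (.node 78743 (.node 78741 (.leaf 0x13393013392) (.node 78742 (.leaf 0xb0b0002) (.leaf 0x0))) (.node 78744 (.leaf 0xf0001) (.node 78745 (.leaf 0x0) (.leaf 0x0))))))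

def argWS_6977 : Store := (.node 78723 argWS_6975 argWS_6976)

def argWS_6978 : Store := (.node 78701 argWS_6974 argWS_6977)

def argWS_6979 : Store := (.node 78757 (.node 78751 (.node 78748 (.node 78747 (.leaf 0xb0b0a0a0004) (.leaf 0xf0001)) (.node 78749 (.leaf 0x1339b) (.node 78750 (.leaf 0xb0f0002) (.leaf 0x0)))) (.node 78754 (.node 78752 (.leaf 0xf0a0a0003) (.node 78753 (.leaf 0x0) (.leaf 0x0))) (.node 78755 (.leaf 0xa0f0b0b0004) (.node 78756 (.leaf 0x3070000090206020008) (.leaf 0x0))))) (.node 78762 (.node 78759 (.node 78758 (.leaf 0xb0a0002) (.leaf 0x0)) (.node 78760 (.leaf 0xb0b0002) (.node 78761 (.leaf 0x133a70133a6) (.leaf 0xb0b0a0a0004)))) (.node 78765 (.node 78763 (.leaf 0x0) (.node 78764 (.leaf 0xf0b0b0003) (.leaf 0x0))) (.node 78766 (.leaf 0x0) (.node 78767 (.leaf 0x40003070209020802040105000c) (.leaf 0x0))))))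

def argWS_6980 : Store := (.node 78779 (.node 78773 (.node 78770 (.node 78769 (.leaf 0xf0a0002) (.leaf 0x0)) (.node 78771 (.leaf 0x107000400050202000701000b) (.node 78772 (.leaf 0x0) (.leaf 0xf0001)))) (.node 78776 (.node 78774 (.leaf 0x0) (.node 78775 (.leaf 0xf0b0a0003) (.leaf 0x133b60133b5))) (.node 78777 (.leaf 0xa0f0b0003) (.node 78778 (.leaf 0x0) (.leaf 0x2050900090802040105000a))))) (.node 78785 (.node 78782 (.node 78780 (.leaf 0x0) (.node 78781 (.leaf 0xb0001) (.leaf 0xa0f0b0003))) (.node 78783 (.leaf 0xb0a0a0003) (.node 78784 (.leaf 0xa0f0002) (.leaf 0x133bf0133be)))) (.node 78788 (.node 78786 (.leaf 0xb0a0002) (.node 78787 (.leaf 0x0) (.leaf 0xf0001))) (.node 78789 (.leaf 0x0) (.node 78790 (.leaf 0x0) (.leaf 0xb0b0002))))))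

def argWS_6981 : Store := (.node 78768 argWS_6979 argWS_6980)

def argWS_6982 : Store := (.node 78802 (.node 78796 (.node 78793 (.node 78792 (.leaf 0xb0a0f0003) (.leaf 0x403040206020007010009)) (.node 78794 (.leaf 0x0) (.node 78795 (.leaf 0xf0b0b0a0004) (.leaf 0x0)))) (.node 78799 (.node 78797 (.leaf 0x201020900000006) (.node 78798 (.leaf 0x0) (.leaf 0xf0b0b0a0a0005))) (.node 78800 (.leaf 0x0) (.node 78801 (.leaf 0x133cf0133cb) (.leaf 0xa0001))))) (.node 78807 (.node 78804 (.node 78803 (.leaf 0x0) (.leaf 0xf0b0a0003)) (.node 78805 (.leaf 0x0) (.node 78806 (.leaf 0x0) (.leaf 0xe0a0a0003)))) (.node 78810 (.node 78808 (.leaf 0xb0b0a0003) (.node 78809 (.leaf 0xb0f0a0a0004) (.leaf 0x133d80133d7))) (.node 78811 (.leaf 0xa0001) (.node 78812 (.leaf 0x0) (.leaf 0xa0f0b0b0004))))))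

def argWS_6983 : Store := (.node 78824 (.node 78818 (.node 78815 (.node 78814 (.leaf 0x0) (.leaf 0x0)) (.node 78816 (.leaf 0xa0f0002) (.node 78817 (.leaf 0xf0001) (.leaf 0xdc500133e0)))) (.node 78821 (.node 78819 (.leaf 0xb0b0a0003) (.node 78820 (.leaf 0x0) (.leaf 0xe0d0002))) (.node 78822 (.leaf 0x0) (.node 78823 (.leaf 0x0) (.leaf 0xe0a0a0003))))) (.node 78830 (.node 78827 (.node 78825 (.leaf 0xe0a0a0003) (.node 78826 (.leaf 0xf0b0b0a0004) (.leaf 0x133e90133e8))) (.node 78828 (.leaf 0xf0a0002) (.node 78829 (.leaf 0x0) (.leaf 0xe0d0002)))) (.node 78833 (.node 78831 (.leaf 0x0) (.node 78832 (.leaf 0x0) (.leaf 0x9030006030500040802040105000d))) (.node 78834 (.leaf 0x0) (.node 78835 (.leaf 0xb0f0a0003) (.leaf 0x0))))))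

def argWS_6984 : Store := (.node 78813 argWS_6982 argWS_6983)

def argWS_6985 : Store := (.node 78791 argWS_6981 argWS_6984)

def argWS_6986 : Store := (.node 78746 argWS_6978 argWS_6985)

def argWS_6987 : Store := (.node 78847 (.node 78841 (.node 78838 (.node 78837 (.leaf 0xc8da0133f3) (.leaf 0x2000307030401030008)) (.node 78839 (.leaf 0x0) (.node 78840 (.leaf 0xb0f0002) (.leaf 0x0)))) (.node 78844 (.node 78842 (.leaf 0xd0b0002) (.node 78843 (.leaf 0x0) (.leaf 0x0))) (.node 78845 (.leaf 0x907000408010006) (.node 78846 (.leaf 0x0) (.leaf 0xf0b0b0003))))) (.node 78852 (.node 78849 (.node 78848 (.leaf 0x0) (.leaf 0xa0a0002)) (.node 78850 (.leaf 0xa0f0002) (.node 78851 (.leaf 0x13401013400) (.leaf 0xb0b0a0a0004)))) (.node 78855 (.node 78853 (.leaf 0x0) (.node 78854 (.leaf 0xf0b0002) (.leaf 0x0))) (.node 78856 (.leaf 0x0) (.node 78857 (.leaf 0xb0f0002) (.leaf 0xa0001))))))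

def argWS_6988 : Store := (.node 78869 (.node 78863 (.node 78860 (.node 78859 (.leaf 0xe0001) (.leaf 0x1340a013409)) (.node 78861 (.leaf 0xe0a0a0003) (.node 78862 (.leaf 0x0) (.leaf 0xa0f0b0003)))) (.node 78866 (.node 78864 (.leaf 0x0) (.node 78865 (.leaf 0x0) (.leaf 0xa0f0002))) (.node 78867 (.leaf 0x0) (.node 78868 (.leaf 0xb0b0a0a0004) (.leaf 0x13413013412))))) (.node 78875 (.node 78872 (.node 78870 (.leaf 0xa0001) (.node 78871 (.leaf 0x0) (.leaf 0xe0a0a0003))) (.node 78873 (.leaf 0x0) (.node 78874 (.leaf 0x0) (.leaf 0x30007000903000703040103000c)))) (.node 78878 (.node 78876 (.leaf 0x0) (.node 78877 (.leaf 0xd0b0b0003) (.leaf 0x0))) (.node 78879 (.leaf 0x1341d) (.node 78880 (.leaf 0x0) (.leaf 0xa0001))))))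

def argWS_6989 : Store := (.node 78858 argWS_6987 argWS_6988)

def argWS_6990 : Store := (.node 78892 (.node 78886 (.node 78883 (.node 78882 (.leaf 0x0) (.leaf 0x0)) (.node 78884 (.leaf 0x5020007020902000703040103000d) (.node 78885 (.leaf 0x0) (.leaf 0xb0001)))) (.node 78889 (.node 78887 (.leaf 0x0) (.node 78888 (.leaf 0x70000020603000703040103000c) (.leaf 0x0))) (.node 78890 (.leaf 0x0) (.node 78891 (.leaf 0x202020900000006) (.leaf 0x0))))) (.node 78897 (.node 78894 (.node 78893 (.leaf 0x0) (.leaf 0x1342c013429)) (.node 78895 (.leaf 0xf0001) (.node 78896 (.leaf 0x0) (.leaf 0x6040006010500020202000701000d)))) (.node 78900 (.node 78898 (.leaf 0x0) (.node 78899 (.leaf 0xa0001) (.leaf 0xf0b0b0a0a0005))) (.node 78901 (.leaf 0x90201090109000703040103000c) (.node 78902 (.leaf 0x0) (.leaf 0xb0f0a0a0004))))))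

def argWS_6991 : Store := (.node 78914 (.node 78908 (.node 78905 (.node 78904 (.leaf 0x0) (.leaf 0x70305090000090007)) (.node 78906 (.leaf 0x0) (.node 78907 (.leaf 0xa0f0b0b0004) (.leaf 0x0)))) (.node 78911 (.node 78909 (.leaf 0x1343b013437) (.node 78910 (.leaf 0xd0b0002) (.leaf 0x0))) (.node 78912 (.leaf 0xf0b0a0003) (.node 78913 (.leaf 0x0) (.leaf 0x0))))) (.node 78920 (.node 78917 (.node 78915 (.leaf 0xb0001) (.node 78916 (.leaf 0x101010908050006) (.leaf 0x0))) (.node 78918 (.leaf 0xd0b0002) (.node 78919 (.leaf 0x0) (.leaf 0xd0001)))) (.node 78923 (.node 78921 (.leaf 0x13447013446) (.node 78922 (.leaf 0xe0001) (.leaf 0x0))) (.node 78924 (.leaf 0xf0b0a0a0004) (.node 78925 (.leaf 0x0) (.leaf 0x0))))))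

def argWS_6992 : Store := (.node 78903 argWS_6990 argWS_6991)

def argWS_6993 : Store := (.node 78881 argWS_6989 argWS_6992)

def argWS_6994 : Store := (.node 78937 (.node 78931 (.node 78928 (.node 78927 (.leaf 0xe0d0002) (.leaf 0xf0b0b0a0004)) (.node 78929 (.leaf 0x1344f) (.node 78930 (.leaf 0xd0001) (.leaf 0x0)))) (.node 78934 (.node 78932 (.leaf 0xb0b0a0a0004) (.node 78933 (.leaf 0x0) (.leaf 0x0))) (.node 78935 (.leaf 0xf0b0a0a0004) (.node 78936 (.leaf 0xf0a0a0003) (.leaf 0xb0b0a0a0004))))) (.node 78942 (.node 78939 (.node 78938 (.leaf 0x13458013457) (.leaf 0x30109000009000703040103000c)) (.node 78940 (.leaf 0x0) (.node 78941 (.leaf 0xb0001) (.leaf 0x0)))) (.node 78945 (.node 78943 (.leaf 0xf0b0a0003) (.node 78944 (.leaf 0x0) (.leaf 0x0))) (.node 78946 (.leaf 0xf0a0a0003) (.node 78947 (.leaf 0xd0b0b0003) (.leaf 0xa0001))))))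

def argWS_6995 : Store := (.node 78959 (.node 78953 (.node 78950 (.node 78949 (.leaf 0x13463013462) (.leaf 0xf0b0b0003)) (.node 78951 (.leaf 0x0) (.node 78952 (.leaf 0xb0b0a0003) (.leaf 0x0)))) (.node 78956 (.node 78954 (.leaf 0x0) (.node 78955 (.leaf 0xe0a0a0003) (.leaf 0xd0b0002))) (.node 78957 (.leaf 0x1346b) (.node 78958 (.leaf 0xa0001) (.leaf 0x0))))) (.node 78965 (.node 78962 (.node 78960 (.leaf 0xf0b0002) (.node 78961 (.leaf 0x0) (.leaf 0x0))) (.node 78963 (.leaf 0xd0b0002) (.node 78964 (.leaf 0xd0b0002) (.leaf 0x13473013472)))) (.node 78968 (.node 78966 (.leaf 0x80004070209020202000701000c) (.node 78967 (.leaf 0x0) (.leaf 0xb0a0002))) (.node 78969 (.leaf 0x0) (.node 78970 (.leaf 0xb0b0a0003) (.leaf 0x0))))))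

def argWS_6996 : Store := (.node 78948 argWS_6994 argWS_6995)

def argWS_6997 : Store := (.node 78982 (.node 78976 (.node 78973 (.node 78972 (.leaf 0x0) (.leaf 0xf0b0002)) (.node 78974 (.leaf 0xf0b0b0a0004) (.node 78975 (.leaf 0x1347d) (.leaf 0x90300000408010202000701000c)))) (.node 78979 (.node 78977 (.leaf 0x0) (.node 78978 (.leaf 0xd0b0002) (.leaf 0x0))) (.node 78980 (.leaf 0xa0f0002) (.node 78981 (.leaf 0x0) (.leaf 0x0))))) (.node 78988 (.node 78985 (.node 78983 (.leaf 0xf0b0b0a0004) (.node 78984 (.leaf 0xb0f0a0a0004) (.leaf 0xb0f0002))) (.node 78986 (.leaf 0x13488013487) (.node 78987 (.leaf 0xa0f0002) (.leaf 0x0)))) (.node 78991 (.node 78989 (.leaf 0xb0b0a0003) (.node 78990 (.leaf 0x0) (.leaf 0x0))) (.node 78992 (.leaf 0xe0a0a0003) (.node 78993 (.leaf 0x800040206020007010009) (.leaf 0x0))))))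

def argWS_6998 : Store := (.node 79005 (.node 78999 (.node 78996 (.node 78995 (.leaf 0x0) (.leaf 0xd0b0002)) (.node 78997 (.leaf 0x13493013492) (.node 78998 (.leaf 0xf0a0a0003) (.leaf 0x0)))) (.node 79002 (.node 79000 (.leaf 0xf0001) (.node 79001 (.leaf 0x0) (.leaf 0x0))) (.node 79003 (.leaf 0x304030306040006) (.node 79004 (.leaf 0x0) (.leaf 0xe0d0002))))) (.node 79011 (.node 79008 (.node 79006 (.leaf 0x0) (.node 79007 (.leaf 0xb0001) (.leaf 0x1349e00f48a))) (.node 79009 (.leaf 0xf0b0b0003) (.node 79010 (.leaf 0x0) (.leaf 0xb0a0f0003)))) (.node 79014 (.node 79012 (.leaf 0x0) (.node 79013 (.leaf 0x0) (.leaf 0xf0b0b0003))) (.node 79015 (.leaf 0x2090101070306000703040103000d) (.node 79016 (.leaf 0x0) (.leaf 0xb0f0002))))))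

def argWS_6999 : Store := (.node 78994 argWS_6997 argWS_6998)

def argWS_7000 : Store := (.node 78971 argWS_6996 argWS_6999)

def argWS_7001 : Store := (.node 78926 argWS_6993 argWS_7000)

def argWS_7002 : Store := (.node 78836 argWS_6986 argWS_7001)

def argWS_7003 : Store := (.node 79028 (.node 79022 (.node 79019 (.node 79018 (.leaf 0x0) (.leaf 0xa0f0b0003)) (.node 79020 (.leaf 0x134aa0134a9) (.node 79021 (.leaf 0xd0001) (.leaf 0x0)))) (.node 79025 (.node 79023 (.leaf 0xe0a0a0003) (.node 79024 (.leaf 0x0) (.leaf 0x0))) (.node 79026 (.leaf 0xf0b0002) (.node 79027 (.leaf 0xa0f0b0003) (.leaf 0xf0b0b0a0a0005))))) (.node 79033 (.node 79030 (.node 79029 (.leaf 0x134b30134b2) (.leaf 0x805000007030401030009)) (.node 79031 (.leaf 0x0) (.node 79032 (.leaf 0xa0f0002) (.leaf 0x0)))) (.node 79036 (.node 79034 (.leaf 0xf0b0a0003) (.node 79035 (.leaf 0x0) (.leaf 0xb0a0a0003))) (.node 79037 (.leaf 0x40102020900000202000701000c) (.node 79038 (.leaf 0x0) (.leaf 0xf0b0a0003))))))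

def argWS_7004 : Store := (.node 79050 (.node 79044 (.node 79041 (.node 79040 (.leaf 0x0) (.leaf 0x605010900090006)) (.node 79042 (.leaf 0x0) (.node 79043 (.leaf 0xa0001) (.leaf 0x0)))) (.node 79047 (.node 79045 (.leaf 0x134c30134bf) (.node 79046 (.leaf 0xb0f0a0a0004) (.leaf 0x0))) (.node 79048 (.leaf 0xe0a0002) (.node 79049 (.leaf 0x0) (.leaf 0x0))))) (.node 79056 (.node 79053 (.node 79051 (.leaf 0x103000207030802040105000b) (.node 79052 (.leaf 0x0) (.leaf 0xf0001))) (.node 79054 (.leaf 0x0) (.node 79055 (.leaf 0x602010606000703040103000c) (.leaf 0x0)))) (.node 79059 (.node 79057 (.leaf 0xb0a0a0003) (.node 79058 (.leaf 0x0) (.leaf 0x2090306030500040202000701000d))) (.node 79060 (.leaf 0x0) (.node 79061 (.leaf 0xf0b0a0003) (.leaf 0x0))))))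

def argWS_7005 : Store := (.node 79039 argWS_7003 argWS_7004)

def argWS_7006 : Store := (.node 79073 (.node 79067 (.node 79064 (.node 79063 (.leaf 0x134d50134d1) (.leaf 0xb0f0a0003)) (.node 79065 (.leaf 0x0) (.node 79066 (.leaf 0x50703060004) (.leaf 0x0)))) (.node 79070 (.node 79068 (.leaf 0xe0d0002) (.node 79069 (.leaf 0x7010105020604000703040103000d) (.leaf 0x0))) (.node 79071 (.leaf 0xf0a0a0003) (.node 79072 (.leaf 0x0) (.leaf 0x805000000030000000703040103000e))))) (.node 79078 (.node 79075 (.node 79074 (.leaf 0x0) (.leaf 0xa0f0b0b0004)) (.node 79076 (.leaf 0x0) (.node 79077 (.leaf 0x134e30134df) (.leaf 0xf0b0b0a0004)))) (.node 79081 (.node 79079 (.leaf 0x0) (.node 79080 (.leaf 0x0) (.leaf 0xa0001))) (.node 79082 (.leaf 0x9050300030306040802040105000d) (.node 79083 (.leaf 0x0) (.leaf 0xf0b0a0003))))))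

def argWS_7007 : Store := (.node 79095 (.node 79089 (.node 79086 (.node 79085 (.leaf 0x0) (.leaf 0xf0001)) (.node 79087 (.leaf 0x134ed0134ec) (.node 79088 (.leaf 0xa0001) (.leaf 0x0)))) (.node 79092 (.node 79090 (.leaf 0xd0b0b0003) (.node 79091 (.leaf 0x0) (.leaf 0x0))) (.node 79093 (.leaf 0xe0a0a0003) (.node 79094 (.leaf 0x503070209020006) (.leaf 0x0))))) (.node 79101 (.node 79098 (.node 79096 (.leaf 0xf0a0a0003) (.node 79097 (.leaf 0x0) (.leaf 0xb0f0a0003))) (.node 79099 (.leaf 0x134f90134f8) (.node 79100 (.leaf 0xd0001) (.leaf 0x0)))) (.node 79104 (.node 79102 (.leaf 0x101010703060006) (.node 79103 (.leaf 0x0) (.leaf 0xb0a0a0003))) (.node 79105 (.leaf 0xb0001) (.node 79106 (.leaf 0x1e200098ae) (.leaf 0x501040005000703040103000b))))))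

def argWS_7008 : Store := (.node 79084 argWS_7006 argWS_7007)

def argWS_7009 : Store := (.node 79062 argWS_7005 argWS_7008)

def argWS_7010 : Store := (.node 79118 (.node 79112 (.node 79109 (.node 79108 (.leaf 0x0) (.leaf 0xb0001)) (.node 79110 (.leaf 0x0) (.node 79111 (.leaf 0xb0b0a0a0004) (.leaf 0x0)))) (.node 79115 (.node 79113 (.leaf 0x0) (.node 79114 (.leaf 0xb0f0002) (.leaf 0xf0b0b0a0004))) (.node 79116 (.leaf 0x1350a) (.node 79117 (.leaf 0xe0a0a0003) (.leaf 0x0))))) (.node 79123 (.node 79120 (.node 79119 (.leaf 0xa0f0b0b0004) (.leaf 0x0)) (.node 79121 (.leaf 0x0) (.node 79122 (.leaf 0xd0001) (.leaf 0xa0f0002)))) (.node 79126 (.node 79124 (.leaf 0xa0f0b0b0004) (.node 79125 (.leaf 0x13513013512) (.leaf 0x400000408010802040105000b))) (.node 79127 (.leaf 0x0) (.node 79128 (.leaf 0xb0a0a0003) (.leaf 0x0))))))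

def argWS_7011 : Store := (.node 79140 (.node 79134 (.node 79131 (.node 79130 (.leaf 0xd0b0002) (.leaf 0x0)) (.node 79132 (.leaf 0x0) (.node 79133 (.leaf 0xb0b0002) (.leaf 0xe0001)))) (.node 79137 (.node 79135 (.leaf 0xa0f0002) (.node 79136 (.leaf 0x1351e01351d) (.leaf 0xa0a0002))) (.node 79138 (.leaf 0x0) (.node 79139 (.leaf 0x204010207020007010009) (.leaf 0x0))))) (.node 79146 (.node 79143 (.node 79141 (.leaf 0xb0b0a0003) (.node 79142 (.leaf 0xf0a0a0003) (.leaf 0x13525))) (.node 79144 (.leaf 0xb0a0002) (.node 79145 (.leaf 0x0) (.leaf 0xf0b0a0a0004)))) (.node 79149 (.node 79147 (.leaf 0x0) (.node 79148 (.leaf 0x0) (.leaf 0xf0b0b0a0004))) (.node 79150 (.leaf 0xb0a0002) (.node 79151 (.leaf 0x1352d) (.leaf 0xb0f0a0a0004))))))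

def argWS_7012 : Store := (.node 79129 argWS_7010 argWS_7011)

def argWS_7013 : Store := (.node 79163 (.node 79157 (.node 79154 (.node 79153 (.leaf 0x0) (.leaf 0xe0001)) (.node 79155 (.leaf 0x0) (.node 79156 (.leaf 0x0) (.leaf 0xb0a0f0003)))) (.node 79160 (.node 79158 (.leaf 0x60400000408010802040105000c) (.node 79159 (.leaf 0x0) (.leaf 0xb0a0002))) (.node 79161 (.leaf 0x0) (.node 79162 (.leaf 0x10306040004) (.leaf 0x0))))) (.node 79168 (.node 79165 (.node 79164 (.leaf 0xe0d0002) (.leaf 0x0)) (.node 79166 (.leaf 0x1353c013538) (.node 79167 (.leaf 0xe0a0002) (.leaf 0x0)))) (.node 79171 (.node 79169 (.leaf 0x1040009000009000703040103000d) (.node 79170 (.leaf 0x0) (.leaf 0xe0a0a0003))) (.node 79172 (.leaf 0xf0b0b0003) (.node 79173 (.leaf 0xf0001) (.leaf 0x7020207030802040105000a))))))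

def argWS_7014 : Store := (.node 79185 (.node 79179 (.node 79176 (.node 79175 (.leaf 0x0) (.leaf 0xe0a0002)) (.node 79177 (.leaf 0x0) (.node 79178 (.leaf 0x13548013544) (.leaf 0xd0b0002)))) (.node 79182 (.node 79180 (.leaf 0x0) (.node 79181 (.leaf 0x0) (.leaf 0xb0a0f0003))) (.node 79183 (.leaf 0xb0b0a0a0004) (.node 79184 (.leaf 0xd0001) (.leaf 0x1354f))))) (.node 79191 (.node 79188 (.node 79186 (.leaf 0x309000009000703040103000b) (.node 79187 (.leaf 0x0) (.leaf 0xd0b0002))) (.node 79189 (.leaf 0x0) (.node 79190 (.leaf 0xf0b0a0a0004) (.leaf 0x0)))) (.node 79194 (.node 79192 (.leaf 0x0) (.node 79193 (.leaf 0xb0f0a0a0004) (.leaf 0xf0a0a0003))) (.node 79195 (.leaf 0x13559) (.node 79196 (.leaf 0xb0a0a0003) (.leaf 0x0))))))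

def argWS_7015 : Store := (.node 79174 argWS_7013 argWS_7014)

def argWS_7016 : Store := (.node 79152 argWS_7012 argWS_7015)

def argWS_7017 : Store := (.node 79107 argWS_7009 argWS_7016)

def argWS_7018 : Store := (.node 79208 (.node 79202 (.node 79199 (.node 79198 (.leaf 0xf0a0002) (.leaf 0x0)) (.node 79200 (.leaf 0x0) (.node 79201 (.leaf 0xe0a0a0003) (.leaf 0x2000206030005)))) (.node 79205 (.node 79203 (.leaf 0x0) (.node 79204 (.leaf 0xd0001) (.leaf 0x0))) (.node 79206 (.leaf 0x13564) (.node 79207 (.leaf 0xf0b0a0a0004) (.leaf 0x0))))) (.node 79213 (.node 79210 (.node 79209 (.leaf 0xf0a0a0003) (.leaf 0x0)) (.node 79211 (.leaf 0x0) (.node 79212 (.leaf 0x209010900090006) (.leaf 0x0)))) (.node 79216 (.node 79214 (.leaf 0xe0a0a0003) (.node 79215 (.leaf 0x0) (.leaf 0x1356e004626))) (.node 79217 (.leaf 0xd0001) (.node 79218 (.leaf 0x0) (.leaf 0xe0a0002))))))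

def argWS_7019 : Store := (.node 79230 (.node 79224 (.node 79221 (.node 79220 (.leaf 0x0) (.leaf 0x0)) (.node 79222 (.leaf 0x40102020900000202000701000c) (.node 79223 (.leaf 0x0) (.leaf 0xb0a0f0003)))) (.node 79227 (.node 79225 (.leaf 0x0) (.node 79226 (.leaf 0x102020400050802040105000b) (.leaf 0x0))) (.node 79228 (.leaf 0xf0b0a0a0004) (.node 79229 (.leaf 0x0) (.leaf 0x1357c000aba))))) (.node 79236 (.node 79233 (.node 79231 (.leaf 0xd0b0b0003) (.node 79232 (.leaf 0x0) (.leaf 0x9030400050005))) (.node 79234 (.leaf 0x0) (.node 79235 (.leaf 0xb0001) (.leaf 0x1070003080202000701000a)))) (.node 79239 (.node 79237 (.leaf 0x0) (.node 79238 (.leaf 0xd0001) (.leaf 0x0))) (.node 79240 (.leaf 0xf0b0b0003) (.node 79241 (.leaf 0xa0a0002) (.leaf 0x13588013587))))))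

def argWS_7020 : Store := (.node 79219 argWS_7018 argWS_7019)

def argWS_7021 : Store := (.node 79253 (.node 79247 (.node 79244 (.node 79243 (.leaf 0xd0b0b0003) (.leaf 0x0)) (.node 79245 (.leaf 0xf0b0a0003) (.node 79246 (.leaf 0x0) (.leaf 0x0)))) (.node 79250 (.node 79248 (.leaf 0x70200000300000802040105000c) (.node 79249 (.leaf 0x0) (.leaf 0xe0a0a0003))) (.node 79251 (.leaf 0x0) (.node 79252 (.leaf 0x20702000003010202000701000c) (.leaf 0x0))))) (.node 79258 (.node 79255 (.node 79254 (.leaf 0xb0a0002) (.leaf 0x0)) (.node 79256 (.leaf 0x13596013592) (.node 79257 (.leaf 0x10201020901060007) (.leaf 0x0)))) (.node 79261 (.node 79259 (.leaf 0xb0b0a0a0004) (.node 79260 (.leaf 0x0) (.leaf 0xb0f0002))) (.node 79262 (.leaf 0x0) (.node 79263 (.leaf 0x0) (.leaf 0xf0a0002))))))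

def argWS_7022 : Store := (.node 79275 (.node 79269 (.node 79266 (.node 79265 (.leaf 0xb0b0a0003) (.leaf 0x40105020202010202000701000c)) (.node 79267 (.leaf 0x0) (.node 79268 (.leaf 0xf0001) (.leaf 0x0)))) (.node 79272 (.node 79270 (.leaf 0x135a40135a0) (.node 79271 (.leaf 0xb0f0a0a0004) (.leaf 0x0))) (.node 79273 (.leaf 0xb0a0a0003) (.node 79274 (.leaf 0x0) (.leaf 0x0))))) (.node 79281 (.node 79278 (.node 79276 (.leaf 0xf0b0a0003) (.node 79277 (.leaf 0xa0f0b0b0004) (.leaf 0x130be0135ac))) (.node 79279 (.leaf 0xd0001) (.node 79280 (.leaf 0x0) (.leaf 0x10202010606000703040103000c)))) (.node 79284 (.node 79282 (.leaf 0x0) (.node 79283 (.leaf 0xf0b0b0a0a0005) (.leaf 0xa0001))) (.node 79285 (.leaf 0xb0001) (.node 79286 (.leaf 0x135b40135b3) (.leaf 0x907000900090006))))))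

def argWS_7023 : Store := (.node 79264 argWS_7021 argWS_7022)

def argWS_7024 : Store := (.node 79242 argWS_7020 argWS_7023)

def argWS_7025 : Store := (.node 79298 (.node 79292 (.node 79289 (.node 79288 (.leaf 0x0) (.leaf 0xf0b0a0003)) (.node 79290 (.leaf 0x0) (.node 79291 (.leaf 0xa0f0b0003) (.leaf 0x0)))) (.node 79295 (.node 79293 (.leaf 0x0) (.node 79294 (.leaf 0xd0b0002) (.leaf 0x800090000090202000701000b))) (.node 79296 (.leaf 0x0) (.node 79297 (.leaf 0x0) (.leaf 0xe0d0002))))) (.node 79303 (.node 79300 (.node 79299 (.leaf 0x135c10135c0) (.leaf 0xf0b0b0003)) (.node 79301 (.leaf 0x0) (.node 79302 (.leaf 0xf0b0b0003) (.leaf 0x0)))) (.node 79306 (.node 79304 (.leaf 0xe0a0a0003) (.node 79305 (.leaf 0x1030306040202000701000a) (.leaf 0x0))) (.node 79307 (.leaf 0xb0a0a0003) (.node 79308 (.leaf 0x0) (.leaf 0x40304070009030007))))))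

def argWS_7026 : Store := (.node 79320 (.node 79314 (.node 79311 (.node 79310 (.leaf 0x0) (.leaf 0xe0a0a0003)) (.node 79312 (.leaf 0x0) (.node 79313 (.leaf 0x135cf0135cb) (.leaf 0xb0a0002)))) (.node 79317 (.node 79315 (.leaf 0x0) (.node 79316 (.leaf 0xb0b0a0a0004) (.leaf 0x0))) (.node 79318 (.leaf 0x0) (.node 79319 (.leaf 0xf0b0b0a0a0005) (.leaf 0xf0b0a0a0004))))) (.node 79326 (.node 79323 (.node 79321 (.leaf 0x800020901060202000701000c) (.node 79322 (.leaf 0x0) (.leaf 0xd0b0002))) (.node 79324 (.leaf 0x0) (.node 79325 (.leaf 0x135db0135d7) (.leaf 0x3070006010500020202000701000d)))) (.node 79329 (.node 79327 (.leaf 0x0) (.node 79328 (.leaf 0xb0001) (.leaf 0x0))) (.node 79330 (.leaf 0xe0001) (.node 79331 (.leaf 0x0) (.leaf 0xe0001))))))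

def argWS_7027 : Store := (.node 79309 argWS_7025 argWS_7026)

def argWS_7028 : Store := (.node 79343 (.node 79337 (.node 79334 (.node 79333 (.leaf 0xb0b0a0a0004) (.leaf 0x135e4)) (.node 79335 (.leaf 0xf0b0a0a0004) (.node 79336 (.leaf 0x0) (.leaf 0xb0a0a0003)))) (.node 79340 (.node 79338 (.leaf 0x0) (.node 79339 (.leaf 0x0) (.leaf 0xf0b0a0a0004))) (.node 79341 (.leaf 0xa0a0002) (.node 79342 (.leaf 0xf0b0b0003) (.leaf 0x135ed0135ec))))) (.node 79349 (.node 79346 (.node 79344 (.leaf 0x6000207030005) (.node 79345 (.leaf 0x0) (.leaf 0xf0a0002))) (.node 79347 (.leaf 0x0) (.node 79348 (.leaf 0xd0001) (.leaf 0x0)))) (.node 79352 (.node 79350 (.leaf 0x0) (.node 79351 (.leaf 0x40406030500040007) (.leaf 0x0))) (.node 79353 (.leaf 0xf0001) (.node 79354 (.leaf 0x0) (.leaf 0x209020804000202000701000b))))))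

def argWS_7029 : Store := (.node 79366 (.node 79360 (.node 79357 (.node 79356 (.leaf 0x0) (.leaf 0xe0001)) (.node 79358 (.leaf 0x0) (.node 79359 (.leaf 0x1010908050202000701000a) (.leaf 0x0)))) (.node 79363 (.node 79361 (.leaf 0xb0001) (.node 79362 (.leaf 0x0) (.leaf 0x136010135fd))) (.node 79364 (.leaf 0xb0a0a0003) (.node 79365 (.leaf 0x0) (.leaf 0x606010400050202000701000b))))) (.node 79372 (.node 79369 (.node 79367 (.leaf 0x0) (.node 79368 (.leaf 0xe0a0a0003) (.leaf 0xe0001))) (.node 79370 (.leaf 0xb0b0a0a0004) (.node 79371 (.leaf 0xa0f0b0003) (.leaf 0x1360a013609)))) (.node 79375 (.node 79373 (.leaf 0x20205020604000703040103000c) (.node 79374 (.leaf 0x0) (.leaf 0xd0b0002))) (.node 79376 (.leaf 0x0) (.node 79377 (.leaf 0xe0a0a0003) (.leaf 0x0))))))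

def argWS_7030 : Store := (.node 79355 argWS_7028 argWS_7029)

def argWS_7031 : Store := (.node 79332 argWS_7027 argWS_7030)

def argWS_7032 : Store := (.node 79287 argWS_7024 argWS_7031)

def argWS_7033 : Store := (.node 79197 argWS_7017 argWS_7032)

def argWS_7034 : Store := (.node 79017 argWS_7002 argWS_7033)

def argWS_7035 : Store := (.node 78656 argWS_6971 argWS_7034)

def argWS_7036 : Store := (.node 79389 (.node 79383 (.node 79380 (.node 79379 (.leaf 0x0) (.leaf 0x80300000004)) (.node 79381 (.leaf 0x0) (.node 79382 (.leaf 0xf0b0002) (.leaf 0x0)))) (.node 79386 (.node 79384 (.leaf 0x40000090206020202000701000d) (.node 79385 (.leaf 0x0) (.leaf 0xd0b0002))) (.node 79387 (.leaf 0x0) (.node 79388 (.leaf 0x1361a013616) (.leaf 0xf0b0b0a0004))))) (.node 79394 (.node 79391 (.node 79390 (.leaf 0x0) (.leaf 0xb0001)) (.node 79392 (.leaf 0x0) (.node 79393 (.leaf 0x0) (.leaf 0x702070209020006)))) (.node 79397 (.node 79395 (.leaf 0x0) (.node 79396 (.leaf 0x0)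 (.leaf 0xe0a0a0003))) (.node 79398 (.leaf 0x103000002080400000703040103000e) (.node 79399 (.leaf 0x0) (.leaf 0xf0001))))))

def argWS_7037 : Store := (.node 79411 (.node 79405 (.node 79402 (.node 79401 (.leaf 0x0) (.leaf 0x13628013624)) (.node 79403 (.leaf 0xb0b0a0003) (.node 79404 (.leaf 0x0) (.leaf 0x20106020702010802040105000c)))) (.node 79408 (.node 79406 (.leaf 0x0) (.node 79407 (.leaf 0xb0b0002) (.leaf 0xe0d0002))) (.node 79409 (.leaf 0x1030003030604000703040103000d) (.node 79410 (.leaf 0x0) (.leaf 0xa0a0002))))) (.node 79417 (.node 79414 (.node 79412 (.leaf 0x0) (.node 79413 (.leaf 0x13633) (.leaf 0xa0a0002))) (.node 79415 (.leaf 0x0) (.node 79416 (.leaf 0xb0a0a0003) (.leaf 0x0)))) (.node 79420 (.node 79418 (.leaf 0x0) (.node 79419 (.leaf 0xb0a0002) (.leaf 0x7030506020702010202000701000d))) (.node 79421 (.leaf 0x0) (.node 79422 (.leaf 0xf0b0a0003) (.leaf 0x0))))))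

def argWS_7038 : Store := (.node 79400 argWS_7036 argWS_7037)

def argWS_7039 : Store := (.node 79434 (.node 79428 (.node 79425 (.node 79424 (.leaf 0x1363e) (.leaf 0xf0b0b0a0004)) (.node 79426 (.leaf 0x0) (.node 79427 (.leaf 0x20106060802040105000a) (.leaf 0x0)))) (.node 79431 (.node 79429 (.leaf 0xb0a0002) (.node 79430 (.leaf 0xd0001) (.leaf 0xa0f0b0b0004))) (.node 79432 (.leaf 0xf0b0b0003) (.node 79433 (.leaf 0x13647013646) (.leaf 0xf0b0a0003))))) (.node 79439 (.node 79436 (.node 79435 (.leaf 0x0) (.leaf 0xd0b0002)) (.node 79437 (.leaf 0x0) (.node 79438 (.leaf 0x0) (.leaf 0xf0a0a0003)))) (.node 79442 (.node 79440 (.leaf 0x1364e) (.node 79441 (.leaf 0x0) (.leaf 0xa0f0b0b0004))) (.node 79443 (.leaf 0x0) (.node 79444 (.leaf 0x0) (.leaf 0xa0001))))))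

def argWS_7040 : Store := (.node 79456 (.node 79450 (.node 79447 (.node 79446 (.leaf 0x10502020106060802040105000c) (.leaf 0x0)) (.node 79448 (.leaf 0xd0b0002) (.node 79449 (.leaf 0x0) (.leaf 0x13658)))) (.node 79453 (.node 79451 (.leaf 0xf0b0b0a0004) (.node 79452 (.leaf 0x0) (.leaf 0x904070009030802040105000b))) (.node 79454 (.leaf 0x0) (.node 79455 (.leaf 0xb0a0002) (.leaf 0xa0001))))) (.node 79462 (.node 79459 (.node 79457 (.leaf 0x80004060207020703040103000c) (.node 79458 (.leaf 0x0) (.leaf 0x0))) (.node 79460 (.leaf 0x1040003030604000703040103000d) (.node 79461 (.leaf 0x0) (.leaf 0xe0a0a0003)))) (.node 79465 (.node 79463 (.leaf 0x0) (.node 79464 (.leaf 0x13666013662) (.leaf 0xf0b0b0a0004))) (.node 79466 (.leaf 0x0) (.node 79467 (.leaf 0xb0a0a0003) (.leaf 0x0))))))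

def argWS_7041 : Store := (.node 79445 argWS_7039 argWS_7040)

def argWS_7042 : Store := (.node 79423 argWS_7038 argWS_7041)

def argWS_7043 : Store := (.node 79479 (.node 79473 (.node 79470 (.node 79469 (.leaf 0x0) (.leaf 0xe0001)) (.node 79471 (.leaf 0x2020601050002000703040103000d) (.node 79472 (.leaf 0x0) (.leaf 0xf0b0b0a0004)))) (.node 79476 (.node 79474 (.leaf 0x0) (.node 79475 (.leaf 0x13671) (.leaf 0x30306040802040105000a))) (.node 79477 (.leaf 0x0) (.node 79478 (.leaf 0xf0b0002) (.leaf 0x0))))) (.node 79484 (.node 79481 (.node 79480 (.leaf 0xa0f0b0003) (.leaf 0x0)) (.node 79482 (.leaf 0x0) (.node 79483 (.leaf 0xd0b0002) (.leaf 0x6030500040202000701000a)))) (.node 79487 (.node 79485 (.leaf 0x0) (.node 79486 (.leaf 0xf0b0a0003) (.leaf 0x0))) (.node 79488 (.leaf 0x134c801367e) (.node 79489 (.leaf 0xb0a0a0003) (.leaf 0x0))))))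

def argWS_7044 : Store := (.node 79501 (.node 79495 (.node 79492 (.node 79491 (.leaf 0xa0a0002) (.leaf 0x0)) (.node 79493 (.leaf 0x0) (.node 79494 (.leaf 0xf0001) (.leaf 0xb0b0002)))) (.node 79498 (.node 79496 (.leaf 0x105020601050002000703040103000e) (.node 79497 (.leaf 0x0) (.leaf 0xb0a0a0003))) (.node 79499 (.leaf 0x0) (.node 79500 (.leaf 0x1368a013686) (.leaf 0x50105020202010202000701000c))))) (.node 79507 (.node 79504 (.node 79502 (.leaf 0x0) (.node 79503 (.leaf 0xf0a0a0003) (.leaf 0x0))) (.node 79505 (.leaf 0xd0b0b0003) (.node 79506 (.leaf 0x0) (.leaf 0x0)))) (.node 79510 (.node 79508 (.leaf 0xa0f0b0003) (.node 79509 (.leaf 0xf0001) (.leaf 0x60000000300000008))) (.node 79511 (.leaf 0x0) (.node 79512 (.leaf 0x0) (.leaf 0x13697013694))))))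

def argWS_7045 : Store := (.node 79490 argWS_7043 argWS_7044)

def argWS_7046 : Store := (.node 79524 (.node 79518 (.node 79515 (.node 79514 (.leaf 0xa0f0002) (.leaf 0x0)) (.node 79516 (.leaf 0x8020401050006) (.node 79517 (.leaf 0x0) (.leaf 0xf0001)))) (.node 79521 (.node 79519 (.leaf 0xb0a0002) (.node 79520 (.leaf 0x5020604000703040103000b) (.leaf 0x0))) (.node 79522 (.leaf 0xa0a0002) (.node 79523 (.leaf 0x0) (.leaf 0x136a2003d78))))) (.node 79529 (.node 79526 (.node 79525 (.leaf 0xb0a0002) (.leaf 0x0)) (.node 79527 (.leaf 0xd0001) (.node 79528 (.leaf 0x0) (.leaf 0x0)))) (.node 79532 (.node 79530 (.leaf 0xe0d0002) (.node 79531 (.leaf 0xb0a0f0003) (.leaf 0x136aa))) (.node 79533 (.leaf 0xe0001) (.node 79534 (.leaf 0x0) (.leaf 0x0))))))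

def argWS_7047 : Store := (.node 79546 (.node 79540 (.node 79537 (.node 79536 (.leaf 0xd0b0002) (.leaf 0x60502000003010802040105000c)) (.node 79538 (.leaf 0x0) (.node 79539 (.leaf 0xd0b0002) (.leaf 0x0)))) (.node 79543 (.node 79541 (.leaf 0xb0f0002) (.node 79542 (.leaf 0x136b40136b3) (.leaf 0x7070009020007010008))) (.node 79544 (.leaf 0x0) (.node 79545 (.leaf 0xf0b0a0a0004) (.leaf 0x0))))) (.node 79552 (.node 79549 (.node 79547 (.leaf 0xe0a0a0003) (.node 79548 (.leaf 0x0) (.leaf 0x0))) (.node 79550 (.leaf 0x70009020602000703040103000c) (.node 79551 (.leaf 0x0) (.leaf 0x0)))) (.node 79555 (.node 79553 (.leaf 0xf0b0b0003) (.node 79554 (.leaf 0x136c0) (.leaf 0xe0d0002))) (.node 79556 (.leaf 0x0) (.node 79557 (.leaf 0x601020901090006) (.leaf 0x0))))))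

def argWS_7048 : Store := (.node 79535 argWS_7046 argWS_7047)

def argWS_7049 : Store := (.node 79513 argWS_7045 argWS_7048)

def argWS_7050 : Store := (.node 79468 argWS_7042 argWS_7049)

def argWS_7051 : Store := (.node 79569 (.node 79563 (.node 79560 (.node 79559 (.leaf 0xb0b0a0a0004) (.leaf 0xa0f0b0b0004)) (.node 79561 (.leaf 0xd0001) (.node 79562 (.leaf 0x136c8) (.leaf 0xb0a0f0003)))) (.node 79566 (.node 79564 (.leaf 0x0) (.node 79565 (.leaf 0xd0b0b0003) (.leaf 0x0))) (.node 79567 (.leaf 0x0) (.node 79568 (.leaf 0x1020200020804000202000701000d) (.leaf 0x0))))) (.node 79574 (.node 79571 (.node 79570 (.leaf 0x0) (.leaf 0xb0f0002)) (.node 79572 (.leaf 0x30401050206040802040105000c) (.node 79573 (.leaf 0x0) (.leaf 0xe0001)))) (.node 79577 (.node 79575 (.leaf 0x0) (.node 79576 (.leaf 0x136d60136d2) (.leaf 0xb0f0a0003))) (.node 79578 (.leaf 0x0) (.node 79579 (.leaf 0x40205020603000703040103000c) (.leaf 0x0))))))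

def argWS_7052 : Store := (.node 79591 (.node 79585 (.node 79582 (.node 79581 (.leaf 0xd0b0b0003) (.leaf 0xf0a0002)) (.node 79583 (.leaf 0xd0b0002) (.node 79584 (.leaf 0xa0001) (.leaf 0x136df0136de)))) (.node 79588 (.node 79586 (.leaf 0xb0001) (.node 79587 (.leaf 0x0) (.leaf 0xa0f0002))) (.node 79589 (.leaf 0x0) (.node 79590 (.leaf 0x0) (.leaf 0xf0b0b0a0a0005))))) (.node 79597 (.node 79594 (.node 79592 (.leaf 0xe0a0002) (.node 79593 (.leaf 0xf0b0a0003) (.leaf 0x136e80136e7))) (.node 79595 (.leaf 0xb0b0002) (.node 79596 (.leaf 0x0) (.leaf 0xf0b0b0003)))) (.node 79600 (.node 79598 (.leaf 0x0) (.node 79599 (.leaf 0x0) (.leaf 0xd0001))) (.node 79601 (.leaf 0x9020106020702010202000701000d) (.node 79602 (.leaf 0x0) (.leaf 0xb0b0a0003))))))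

def argWS_7053 : Store := (.node 79580 argWS_7051 argWS_7052)

def argWS_7054 : Store := (.node 79614 (.node 79608 (.node 79605 (.node 79604 (.leaf 0x0) (.leaf 0xb0a0002)) (.node 79606 (.leaf 0x136f40136f3) (.node 79607 (.leaf 0xf0b0b0a0004) (.leaf 0x0)))) (.node 79611 (.node 79609 (.leaf 0x20000020804000007) (.node 79610 (.leaf 0x0) (.leaf 0xd0001))) (.node 79612 (.leaf 0xf0a0a0003) (.node 79613 (.leaf 0x500020106060802040105000b) (.leaf 0x0))))) (.node 79619 (.node 79616 (.node 79615 (.leaf 0xe0a0a0003) (.leaf 0x0)) (.node 79617 (.leaf 0xb0f0a0a0004) (.node 79618 (.leaf 0x137000136ff) (.leaf 0xf0a0002)))) (.node 79622 (.node 79620 (.leaf 0x0) (.node 79621 (.leaf 0xa0a0002) (.leaf 0x0))) (.node 79623 (.leaf 0x0) (.node 79624 (.leaf 0xa0f0002) (.leaf 0xf0a0002))))))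

def argWS_7055 : Store := (.node 79636 (.node 79630 (.node 79627 (.node 79626 (.leaf 0x13708) (.leaf 0xe0a0a0003)) (.node 79628 (.leaf 0x0) (.node 79629 (.leaf 0xb0b0a0a0004) (.leaf 0x0)))) (.node 79633 (.node 79631 (.leaf 0x0) (.node 79632 (.leaf 0xb0f0a0003) (.leaf 0xb0a0f0003))) (.node 79634 (.leaf 0x13710) (.node 79635 (.leaf 0xb0a0a0003) (.leaf 0x0))))) (.node 79642 (.node 79639 (.node 79637 (.leaf 0xb0001) (.node 79638 (.leaf 0x0) (.leaf 0x0))) (.node 79640 (.leaf 0xa0f0b0003) (.node 79641 (.leaf 0x101070206000006) (.leaf 0x0)))) (.node 79645 (.node 79643 (.leaf 0xf0a0a0003) (.node 79644 (.leaf 0x0) (.leaf 0xb0a0f0003))) (.node 79646 (.leaf 0x1371c01371b) (.node 79647 (.leaf 0xb0b0002) (.leaf 0x0))))))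

def argWS_7056 : Store := (.node 79625 argWS_7054 argWS_7055)

def argWS_7057 : Store := (.node 79603 argWS_7053 argWS_7056)

def argWS_7058 : Store := (.node 79659 (.node 79653 (.node 79650 (.node 79649 (.leaf 0xa0f0002) (.leaf 0x0)) (.node 79651 (.leaf 0x0) (.node 79652 (.leaf 0xa0f0b0b0004) (.leaf 0x30400030000000703040103000c)))) (.node 79656 (.node 79654 (.leaf 0x0) (.node 79655 (.leaf 0xf0b0a0a0004) (.leaf 0x0))) (.node 79657 (.leaf 0xe0a0a0003) (.node 79658 (.leaf 0x13728013727) (.leaf 0x10202090000090802040105000c))))) (.node 79664 (.node 79661 (.node 79660 (.leaf 0x0) (.leaf 0xf0b0b0a0a0005)) (.node 79662 (.leaf 0x0) (.node 79663 (.leaf 0xa0001) (.leaf 0x0)))) (.node 79667 (.node 79665 (.leaf 0x0) (.node 79666 (.leaf 0xa0001) (.leaf 0x903010904020006))) (.node 79668 (.leaf 0x0) (.node 79669 (.leaf 0xf0a0002) (.leaf 0x0))))))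

def argWS_7059 : Store := (.node 79681 (.node 79675 (.node 79672 (.node 79671 (.leaf 0x13735) (.leaf 0xa0a0002)) (.node 79673 (.leaf 0x0) (.node 79674 (.leaf 0xb0a0a0003) (.leaf 0x0)))) (.node 79678 (.node 79676 (.leaf 0x0) (.node 79677 (.leaf 0xa0f0b0003) (.leaf 0xa0a0002))) (.node 79679 (.leaf 0x70400030306040802040105000c) (.node 79680 (.leaf 0x0) (.leaf 0xd0001))))) (.node 79687 (.node 79684 (.node 79682 (.leaf 0x0) (.node 79683 (.leaf 0x1374101373d) (.leaf 0xb0f0a0a0004))) (.node 79685 (.leaf 0x0) (.node 79686 (.leaf 0xb0f0a0003) (.leaf 0x0)))) (.node 79690 (.node 79688 (.leaf 0x0) (.node 79689 (.leaf 0xb0001) (.leaf 0x200000202090000000703040103000e))) (.node 79691 (.leaf 0x0) (.node 79692 (.leaf 0xf0a0a0003) (.leaf 0x0))))))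

def argWS_7060 : Store := (.node 79670 argWS_7058 argWS_7059)

def argWS_7061 : Store := (.node 79704 (.node 79698 (.node 79695 (.node 79694 (.leaf 0xb0f0a0003) (.leaf 0x1374d01374c)) (.node 79696 (.leaf 0xb0f0a0a0004) (.node 79697 (.leaf 0x0) (.leaf 0xb0f0002)))) (.node 79701 (.node 79699 (.leaf 0x0) (.node 79700 (.leaf 0x0) (.leaf 0x609080508020401050009))) (.node 79702 (.leaf 0x0) (.node 79703 (.leaf 0xb0001) (.leaf 0x0))))) (.node 79710 (.node 79707 (.node 79705 (.leaf 0x135dc) (.node 79706 (.leaf 0xf0001) (.leaf 0x0))) (.node 79708 (.leaf 0xe0d0002) (.node 79709 (.leaf 0x0) (.leaf 0x0)))) (.node 79713 (.node 79711 (.leaf 0xa0f0b0b0004) (.node 79712 (.leaf 0xf0b0002) (.leaf 0xe0a0a0003))) (.node 79714 (.leaf 0x1376001375f) (.node 79715 (.leaf 0x702000408010802040105000b) (.leaf 0x0))))))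

def argWS_7062 : Store := (.node 79727 (.node 79721 (.node 79718 (.node 79717 (.leaf 0xf0b0b0a0004) (.leaf 0x0)) (.node 79719 (.leaf 0xd0001) (.node 79720 (.leaf 0x0) (.leaf 0x0)))) (.node 79724 (.node 79722 (.leaf 0x803000207030802040105000b) (.node 79723 (.leaf 0x0) (.leaf 0x0))) (.node 79725 (.leaf 0xb0a0a0003) (.node 79726 (.leaf 0x1303b01376c) (.leaf 0xd0001))))) (.node 79733 (.node 79730 (.node 79728 (.leaf 0x0) (.node 79729 (.leaf 0x906010703060802040105000b) (.leaf 0x0))) (.node 79731 (.leaf 0xb0a0002) (.node 79732 (.leaf 0xf0a0002) (.leaf 0xb0a0f0003)))) (.node 79736 (.node 79734 (.leaf 0xb0b0a0a0004) (.node 79735 (.leaf 0x13775013774) (.leaf 0xf0a0002))) (.node 79737 (.leaf 0x0) (.node 79738 (.leaf 0xb0b0002) (.leaf 0x0))))))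

def argWS_7063 : Store := (.node 79716 argWS_7061 argWS_7062)

def argWS_7064 : Store := (.node 79693 argWS_7060 argWS_7063)

def argWS_7065 : Store := (.node 79648 argWS_7057 argWS_7064)

def argWS_7066 : Store := (.node 79558 argWS_7050 argWS_7065)

def argWS_7067 : Store := (.node 79750 (.node 79744 (.node 79741 (.node 79740 (.leaf 0x0) (.leaf 0xb0f0a0003)) (.node 79742 (.leaf 0x4030006010500020802040105000d) (.node 79743 (.leaf 0x0) (.leaf 0xb0a0f0003)))) (.node 79747 (.node 79745 (.leaf 0x0) (.node 79746 (.leaf 0x1040003030604000703040103000d) (.leaf 0x0))) (.node 79748 (.leaf 0xf0b0b0a0004) (.node 79749 (.leaf 0x0) (.leaf 0x13784013780))))) (.node 79755 (.node 79752 (.node 79751 (.leaf 0xa0001) (.leaf 0x0)) (.node 79753 (.leaf 0xa0f0002) (.node 79754 (.leaf 0x0) (.leaf 0x0)))) (.node 79758 (.node 79756 (.leaf 0xe0d0002) (.node 79757 (.leaf 0xf0b0b0a0004) (.leaf 0xf0a0002))) (.node 79759 (.leaf 0x1378d01378c) (.node 79760 (.leaf 0x80300020106060802040105000c)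 (.leaf 0x0))))))

def argWS_7068 : Store := (.node 79772 (.node 79766 (.node 79763 (.node 79762 (.leaf 0xb0001) (.leaf 0x0)) (.node 79764 (.leaf 0x0) (.node 79765 (.leaf 0xd0b0002) (.leaf 0xa0f0b0b0004)))) (.node 79769 (.node 79767 (.leaf 0xf0001) (.node 79768 (.leaf 0x13796013795) (.leaf 0xb0b0a0003))) (.node 79770 (.leaf 0x0) (.node 79771 (.leaf 0xf0b0b0a0a0005) (.leaf 0x0))))) (.node 79778 (.node 79775 (.node 79773 (.leaf 0x0) (.node 79774 (.leaf 0xa0001) (.leaf 0xf0b0a0a0004))) (.node 79776 (.leaf 0xd0001) (.node 79777 (.leaf 0x1379f01379e) (.leaf 0xa0f0b0b0004)))) (.node 79781 (.node 79779 (.leaf 0x0) (.node 79780 (.leaf 0xb0b0a0003) (.leaf 0x0))) (.node 79782 (.leaf 0x0) (.node 79783 (.leaf 0x201030003030604000703040103000e) (.leaf 0x0))))))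

def argWS_7069 : Store := (.node 79761 argWS_7067 argWS_7068)

def argWS_7070 : Store := (.node 79795 (.node 79789 (.node 79786 (.node 79785 (.leaf 0xe0001) (.leaf 0x0)) (.node 79787 (.leaf 0xb0a0002) (.node 79788 (.leaf 0x0) (.leaf 0xa0f0b0003)))) (.node 79792 (.node 79790 (.leaf 0x137ac0137ab) (.node 79791 (.leaf 0xe0a0a0003) (.leaf 0x0))) (.node 79793 (.leaf 0x60500090206020202000701000c) (.node 79794 (.leaf 0x0) (.leaf 0xb0a0002))))) (.node 79800 (.node 79797 (.node 79796 (.leaf 0x40205020603000703040103000c) (.leaf 0x0)) (.node 79798 (.leaf 0xf0a0a0003) (.node 79799 (.leaf 0x0) (.leaf 0xf0b0b0a0a0005)))) (.node 79803 (.node 79801 (.leaf 0xe0a0a0003) (.node 79802 (.leaf 0x137b80137b7) (.leaf 0xb0f0a0003))) (.node 79804 (.leaf 0x0) (.node 79805 (.leaf 0x6010201010703060202000701000d) (.leaf 0x0))))))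

def argWS_7071 : Store := (.node 79817 (.node 79811 (.node 79808 (.node 79807 (.leaf 0xd0b0002) (.leaf 0xf0b0002)) (.node 79809 (.leaf 0x0) (.node 79810 (.leaf 0x137c0) (.leaf 0xb0f0a0a0004)))) (.node 79814 (.node 79812 (.leaf 0x0) (.node 79813 (.leaf 0xa0001) (.leaf 0x0))) (.node 79815 (.leaf 0x0) (.node 79816 (.leaf 0xa0f0b0b0004) (.leaf 0xd0b0002))))) (.node 79823 (.node 79820 (.node 79818 (.leaf 0x137c8) (.node 79819 (.leaf 0x60002) (.leaf 0x0))) (.node 79821 (.leaf 0xb0b0a0a0004) (.node 79822 (.leaf 0x0) (.leaf 0xf0b0b0003)))) (.node 79826 (.node 79824 (.leaf 0x0) (.node 79825 (.leaf 0x0) (.leaf 0xa0001))) (.node 79827 (.leaf 0xf0b0b0a0004) (.node 79828 (.leaf 0x137d2) (.leaf 0xd0b0b0003))))))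

def argWS_7072 : Store := (.node 79806 argWS_7070 argWS_7071)

def argWS_7073 : Store := (.node 79784 argWS_7069 argWS_7072)

def argWS_7074 : Store := (.node 79840 (.node 79834 (.node 79831 (.node 79830 (.leaf 0x0) (.leaf 0xf0a0a0003)) (.node 79832 (.leaf 0x0) (.node 79833 (.leaf 0x0) (.leaf 0xb0f0a0003)))) (.node 79837 (.node 79835 (.leaf 0x40300050206040202000701000c) (.node 79836 (.leaf 0x0) (.leaf 0xd0b0002))) (.node 79838 (.leaf 0x0) (.node 79839 (.leaf 0xb0b0002) (.leaf 0x137de0137dd))))) (.node 79845 (.node 79842 (.node 79841 (.leaf 0xd0b0b0003) (.leaf 0x0)) (.node 79843 (.leaf 0xb0a0a0003) (.node 79844 (.leaf 0x0) (.leaf 0x0)))) (.node 79848 (.node 79846 (.leaf 0xf0b0a0003) (.node 79847 (.leaf 0x40007020007010007) (.leaf 0x0))) (.node 79849 (.leaf 0xa0f0002) (.node 79850 (.leaf 0x0) (.leaf 0xe0d0002))))))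

def argWS_7075 : Store := (.node 79862 (.node 79856 (.node 79853 (.node 79852 (.leaf 0x137ea0137e9) (.leaf 0xb0a0f0003)) (.node 79854 (.leaf 0x0) (.node 79855 (.leaf 0xb0a0002) (.leaf 0x0)))) (.node 79859 (.node 79857 (.leaf 0x0) (.node 79858 (.leaf 0x10200020804000007) (.leaf 0x0))) (.node 79860 (.leaf 0xe0001) (.node 79861 (.leaf 0x0) (.leaf 0xa0f0002))))) (.node 79868 (.node 79865 (.node 79863 (.leaf 0x8000000090206020202000701000d) (.node 79864 (.leaf 0x0) (.leaf 0xf0b0b0a0004))) (.node 79866 (.leaf 0x0) (.node 79867 (.leaf 0x137f90137f5) (.leaf 0xb0a0a0003)))) (.node 79871 (.node 79869 (.leaf 0x0) (.node 79870 (.leaf 0x9000603050004000703040103000e) (.leaf 0x0))) (.node 79872 (.leaf 0xa0f0b0b0004) (.node 79873 (.leaf 0xf0b0b0003) (.leaf 0xf0a0a0003))))))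

def argWS_7076 : Store := (.node 79851 argWS_7074 argWS_7075)

def argWS_7077 : Store := (.node 79885 (.node 79879 (.node 79876 (.node 79875 (.leaf 0x13801) (.leaf 0xa0f0b0b0004)) (.node 79877 (.leaf 0x0) (.node 79878 (.leaf 0xd0b0002) (.leaf 0x0)))) (.node 79882 (.node 79880 (.leaf 0x0) (.node 79881 (.leaf 0x6060007030401030008) (.leaf 0x0))) (.node 79883 (.leaf 0xf0b0b0a0a0005) (.node 79884 (.leaf 0x0) (.leaf 0xf0a0a0003))))) (.node 79890 (.node 79887 (.node 79886 (.leaf 0xe0d0002) (.leaf 0x1380d01380c)) (.node 79888 (.leaf 0xb0f0a0a0004) (.node 79889 (.leaf 0x0) (.leaf 0xb0a0002)))) (.node 79893 (.node 79891 (.leaf 0x0) (.node 79892 (.leaf 0x0) (.leaf 0xa0001))) (.node 79894 (.leaf 0xf0b0b0003) (.node 79895 (.leaf 0xb0b0002) (.leaf 0x13816013815))))))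

def argWS_7078 : Store := (.node 79907 (.node 79901 (.node 79898 (.node 79897 (.leaf 0xa0001) (.leaf 0x0)) (.node 79899 (.leaf 0xf0b0a0003) (.node 79900 (.leaf 0x0) (.leaf 0x0)))) (.node 79904 (.node 79902 (.leaf 0xe0a0002) (.node 79903 (.leaf 0x12f29) (.leaf 0x200000301010200000703040103000e))) (.node 79905 (.leaf 0x0) (.node 79906 (.leaf 0xf0b0002) (.leaf 0x0))))) (.node 79913 (.node 79910 (.node 79908 (.leaf 0xe0a0002) (.node 79909 (.leaf 0x0) (.leaf 0x0))) (.node 79911 (.leaf 0x207090000090202000701000b) (.node 79912 (.leaf 0x0) (.leaf 0xd0b0002)))) (.node 79916 (.node 79914 (.leaf 0x0) (.node 79915 (.leaf 0xb0b0002) (.leaf 0xa0a0002))) (.node 79917 (.leaf 0x1382b01382a) (.node 79918 (.leaf 0xb0b0002) (.leaf 0x0))))))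

def argWS_7079 : Store := (.node 79896 argWS_7077 argWS_7078)

def argWS_7080 : Store := (.node 79874 argWS_7076 argWS_7079)

def argWS_7081 : Store := (.node 79829 argWS_7073 argWS_7080)

def argWS_7082 : Store := (.node 79930 (.node 79924 (.node 79921 (.node 79920 (.leaf 0x5070209020802040105000a) (.leaf 0x0)) (.node 79922 (.leaf 0xf0b0b0003) (.node 79923 (.leaf 0xd0001) (.leaf 0x13541)))) (.node 79927 (.node 79925 (.leaf 0xb0f0a0a0004) (.node 79926 (.leaf 0x0) (.leaf 0x10201070306000703040103000c))) (.node 79928 (.leaf 0x0) (.node 79929 (.leaf 0xe0a0a0003) (.leaf 0xb0b0a0003))))) (.node 79935 (.node 79932 (.node 79931 (.leaf 0x1178d01075e) (.leaf 0xb0a0f0003)) (.node 79933 (.leaf 0x0) (.node 79934 (.leaf 0xd0001) (.leaf 0x0)))) (.node 79938 (.node 79936 (.leaf 0x0) (.node 79937 (.leaf 0xb0001) (.leaf 0x20202090106000703040103000c))) (.node 79939 (.leaf 0x0) (.node 79940 (.leaf 0xb0a0f0003) (.leaf 0x0))))))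

def argWS_7083 : Store := (.node 79952 (.node 79946 (.node 79943 (.node 79942 (.leaf 0x13844) (.leaf 0xb0001)) (.node 79944 (.leaf 0x0) (.node 79945 (.leaf 0xf0b0b0a0a0005) (.leaf 0x0)))) (.node 79949 (.node 79947 (.leaf 0x0) (.node 79948 (.leaf 0xf0b0002) (.leaf 0xd0b0002))) (.node 79950 (.leaf 0x1384c) (.node 79951 (.leaf 0xb0a0002) (.leaf 0x0))))) (.node 79958 (.node 79955 (.node 79953 (.leaf 0xb0f0a0003) (.node 79954 (.leaf 0x0) (.leaf 0x0))) (.node 79956 (.leaf 0xf0b0a0003) (.node 79957 (.leaf 0xa0f0002) (.leaf 0x13854)))) (.node 79961 (.node 79959 (.leaf 0xb0a0f0003) (.node 79960 (.leaf 0x0) (.leaf 0x90003010102000202000701000c))) (.node 79962 (.leaf 0x0) (.node 79963 (.leaf 0xb0a0002) (.leaf 0x4000406010500020202000701000d))))))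

def argWS_7084 : Store := (.node 79941 argWS_7082 argWS_7083)

def argWS_7085 : Store := (.node 79975 (.node 79969 (.node 79966 (.node 79965 (.leaf 0x0) (.leaf 0xb0a0a0003)) (.node 79967 (.leaf 0x0) (.node 79968 (.leaf 0x70205020604000703040103000c) (.leaf 0x0)))) (.node 79972 (.node 79970 (.leaf 0xd0b0002) (.node 79971 (.leaf 0x0) (.leaf 0x602060308020401050009))) (.node 79973 (.leaf 0x0) (.node 79974 (.leaf 0xd0b0002) (.leaf 0x0))))) (.node 79980 (.node 79977 (.node 79976 (.leaf 0x13866013862) (.leaf 0xd0001)) (.node 79978 (.leaf 0x0) (.node 79979 (.leaf 0xf0b0a0a0004) (.leaf 0x0)))) (.node 79983 (.node 79981 (.leaf 0x0) (.node 79982 (.leaf 0xb0f0a0a0004) (.leaf 0x206010206020007010009))) (.node 79984 (.leaf 0x0) (.node 79985 (.leaf 0xb0a0002) (.leaf 0x0))))))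

def argWS_7086 : Store := (.node 79997 (.node 79991 (.node 79988 (.node 79987 (.leaf 0x1387101386d) (.leaf 0xe0001)) (.node 79989 (.leaf 0x0) (.node 79990 (.leaf 0xf0a0002) (.leaf 0x0)))) (.node 79994 (.node 79992 (.leaf 0x0) (.node 79993 (.leaf 0xe0a0002) (.leaf 0x13878))) (.node 79995 (.leaf 0xf0b0b0003) (.node 79996 (.leaf 0x0) (.leaf 0xf0a0a0003))))) (.node 80003 (.node 80000 (.node 79998 (.leaf 0x0) (.node 79999 (.leaf 0x0) (.leaf 0xf0a0a0003))) (.node 80001 (.leaf 0xf0a0a0003) (.node 80002 (.leaf 0xf0a0002) (.leaf 0x13881013880)))) (.node 80006 (.node 80004 (.leaf 0xf0b0a0003) (.node 80005 (.leaf 0x0) (.leaf 0xb0a0a0003))) (.node 80007 (.leaf 0x0) (.node 80008 (.leaf 0x0) (.leaf 0xa0f0b0003))))))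

def argWS_7087 : Store := (.node 79986 argWS_7085 argWS_7086)

def argWS_7088 : Store := (.node 79964 argWS_7084 argWS_7087)

def argWS_7089 : Store := (.node 80020 (.node 80014 (.node 80011 (.node 80010 (.leaf 0xa0a0002) (.leaf 0x13889)) (.node 80012 (.leaf 0x50305070209020007) (.node 80013 (.leaf 0x0) (.leaf 0xe0d0002)))) (.node 80017 (.node 80015 (.leaf 0x0) (.node 80016 (.leaf 0xd0b0002) (.leaf 0x0))) (.node 80018 (.leaf 0x0) (.node 80019 (.leaf 0xd0b0002) (.leaf 0x507030004))))) (.node 80025 (.node 80022 (.node 80021 (.leaf 0x0) (.leaf 0xf0b0a0003)) (.node 80023 (.leaf 0x0) (.node 80024 (.leaf 0x2020200090206020802040105000d) (.leaf 0x0)))) (.node 80028 (.node 80026 (.leaf 0xb0f0a0a0004) (.node 80027 (.leaf 0x0) (.leaf 0x1389a013896))) (.node 80029 (.leaf 0xb0f0002) (.node 80030 (.leaf 0x0) (.leaf 0x8000207030006))))))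

def argWS_7090 : Store := (.node 80042 (.node 80036 (.node 80033 (.node 80032 (.leaf 0x0) (.leaf 0xb0001)) (.node 80034 (.leaf 0xf0b0002) (.node 80035 (.leaf 0xa91d00367f) (.leaf 0xa0f0b0b0004)))) (.node 80039 (.node 80037 (.leaf 0x0) (.node 80038 (.leaf 0xf0b0a0003) (.leaf 0x0))) (.node 80040 (.leaf 0x0) (.node 80041 (.leaf 0xb0001) (.leaf 0xb0f0002))))) (.node 80048 (.node 80045 (.node 80043 (.leaf 0x138a90138a8) (.node 80044 (.leaf 0xa0a0002) (.leaf 0x0))) (.node 80046 (.leaf 0x0) (.node 80047 (.leaf 0x900090000090007) (.leaf 0x0)))) (.node 80051 (.node 80049 (.leaf 0x0) (.node 80050 (.leaf 0xf0b0a0a0004) (.leaf 0x138b1))) (.node 80052 (.leaf 0xf0b0b0a0a0005) (.node 80053 (.leaf 0x0) (.leaf 0x50106060004))))))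

def argWS_7091 : Store := (.node 80031 argWS_7089 argWS_7090)

def argWS_7092 : Store := (.node 80065 (.node 80059 (.node 80056 (.node 80055 (.leaf 0x0) (.leaf 0xb0f0002)) (.node 80057 (.leaf 0x50900090004) (.node 80058 (.leaf 0x0) (.leaf 0xd0b0b0003)))) (.node 80062 (.node 80060 (.leaf 0x0) (.node 80061 (.leaf 0xe0a0002) (.leaf 0x138bc0138bb))) (.node 80063 (.leaf 0x70500090206020202000701000c) (.node 80064 (.leaf 0x0) (.leaf 0xe0a0002))))) (.node 80071 (.node 80068 (.node 80066 (.leaf 0x0) (.node 80067 (.leaf 0xa0f0b0b0004) (.leaf 0x0))) (.node 80069 (.leaf 0x0) (.node 80070 (.leaf 0xf0b0a0003) (.leaf 0xe0d0002)))) (.node 80074 (.node 80072 (.leaf 0x138c6) (.node 80073 (.leaf 0x50009020602000703040103000c) (.leaf 0x0))) (.node 80075 (.leaf 0xf0a0a0003) (.node 80076 (.leaf 0x0) (.leaf 0x0))))))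

def argWS_7093 : Store := (.node 80088 (.node 80082 (.node 80079 (.node 80078 (.leaf 0xb0a0a0003) (.leaf 0xe0a0a0003)) (.node 80080 (.leaf 0x138ce) (.node 80081 (.leaf 0xb0f0002) (.leaf 0x0)))) (.node 80085 (.node 80083 (.leaf 0x0) (.node 80084 (.leaf 0xe0001) (.leaf 0xa0f0b0003))) (.node 80086 (.leaf 0xb0a0002) (.node 80087 (.leaf 0x138d50138d4) (.leaf 0xf0001))))) (.node 80094 (.node 80091 (.node 80089 (.leaf 0x0) (.node 80090 (.leaf 0xf0a0a0003) (.leaf 0x0))) (.node 80092 (.leaf 0x0) (.node 80093 (.leaf 0xf0b0b0a0004) (.leaf 0xa0f0b0003)))) (.node 80097 (.node 80095 (.leaf 0xf0b0b0a0004) (.node 80096 (.leaf 0x138de0138dd) (.leaf 0x0))) (.node 80098 (.leaf 0xf0b0b0a0a0005) (.node 80099 (.leaf 0x0) (.leaf 0xf0b0a0003))))))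

def argWS_7094 : Store := (.node 80077 argWS_7092 argWS_7093)

def argWS_7095 : Store := (.node 80054 argWS_7091 argWS_7094)

def argWS_7096 : Store := (.node 80009 argWS_7088 argWS_7095)

def argWS_7097 : Store := (.node 79919 argWS_7081 argWS_7096)

def argWS_7098 : Store := (.node 79739 argWS_7066 argWS_7097)

def argWS_7099 : Store := (.node 80111 (.node 80105 (.node 80102 (.node 80101 (.leaf 0x0) (.leaf 0x0)) (.node 80103 (.leaf 0xa0f0b0003) (.node 80104 (.leaf 0x902060308020401050009) (.leaf 0x0)))) (.node 80108 (.node 80106 (.leaf 0xa0f0b0003) (.node 80107 (.leaf 0x0) (.leaf 0xb0a0a0003))) (.node 80109 (.leaf 0x138eb0138ea) (.node 80110 (.leaf 0xf0b0b0a0004) (.leaf 0x0))))) (.node 80116 (.node 80113 (.node 80112 (.leaf 0xa0001) (.leaf 0x0)) (.node 80114 (.leaf 0x0) (.node 80115 (.leaf 0xa0f0b0003) (.leaf 0xb0f0a0a0004)))) (.node 80119 (.node 80117 (.leaf 0xb0a0f0003) (.node 80118 (.leaf 0x138f40138f3) (.leaf 0xa0f0b0b0004))) (.node 80120 (.leaf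 0x0) (.node 80121 (.leaf 0xa0f0002) (.leaf 0x0))))))

def argWS_7100 : Store := (.node 80133 (.node 80127 (.node 80124 (.node 80123 (.leaf 0x0) (.leaf 0xf0a0a0003)) (.node 80125 (.leaf 0xd0b0002) (.node 80126 (.leaf 0xe0a0002) (.leaf 0x138fd0138fc)))) (.node 80130 (.node 80128 (.leaf 0x6040102010606000703040103000d) (.node 80129 (.leaf 0x0) (.leaf 0xf0a0002))) (.node 80131 (.leaf 0x0) (.node 80132 (.leaf 0xb0f0a0a0004) (.leaf 0x0))))) (.node 80139 (.node 80136 (.node 80134 (.leaf 0x0) (.node 80135 (.leaf 0xe0d0002) (.leaf 0x2090101070306000703040103000d))) (.node 80137 (.leaf 0x0) (.node 80138 (.leaf 0xb0f0002) (.leaf 0x0)))) (.node 80142 (.node 80140 (.leaf 0x1390a001529) (.node 80141 (.leaf 0xf0001) (.leaf 0x0))) (.node 80143 (.leaf 0x207010904020202000701000b) (.node 80144 (.leaf 0x0) (.leaf 0xb0a0a0003))))))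

def argWS_7101 : Store := (.node 80122 argWS_7099 argWS_7100)

def argWS_7102 : Store := (.node 80156 (.node 80150 (.node 80147 (.node 80146 (.leaf 0xb0001) (.leaf 0x50306030500040007)) (.node 80148 (.leaf 0x0) (.node 80149 (.leaf 0xa0001) (.leaf 0x0)))) (.node 80153 (.node 80151 (.leaf 0xe3a0013915) (.node 80152 (.leaf 0xf0b0a0a0004) (.leaf 0x0))) (.node 80154 (.leaf 0xf0b0b0a0a0005) (.node 80155 (.leaf 0x0) (.leaf 0x0))))) (.node 80161 (.node 80158 (.node 80157 (.leaf 0x104020106060802040105000b) (.leaf 0x0)) (.node 80159 (.leaf 0x0) (.node 80160 (.leaf 0x400070009030802040105000c) (.leaf 0x0)))) (.node 80164 (.node 80162 (.leaf 0xd0b0002) (.node 80163 (.leaf 0x0) (.leaf 0xf0b0b0003))) (.node 80165 (.leaf 0x13923013922) (.node 80166 (.leaf 0xf0001) (.leaf 0x0))))))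

def argWS_7103 : Store := (.node 80178 (.node 80172 (.node 80169 (.node 80168 (.leaf 0x6050103010102000802040105000d) (.leaf 0x0)) (.node 80170 (.leaf 0xf0a0002) (.node 80171 (.leaf 0xf0b0b0003) (.leaf 0xf0b0b0a0a0005)))) (.node 80175 (.node 80173 (.leaf 0xa0a0002) (.node 80174 (.leaf 0x1392c01392b) (.leaf 0xb0b0a0003))) (.node 80176 (.leaf 0x0) (.node 80177 (.leaf 0xf0a0a0003) (.leaf 0x0))))) (.node 80184 (.node 80181 (.node 80179 (.leaf 0x0) (.node 80180 (.leaf 0xe0d0002) (.leaf 0xb0b0002))) (.node 80182 (.leaf 0x13934) (.node 80183 (.leaf 0x10202000408010202000701000c) (.leaf 0x0)))) (.node 80187 (.node 80185 (.leaf 0xa0f0002) (.node 80186 (.leaf 0x0) (.leaf 0xf0b0b0003))) (.node 80188 (.leaf 0x0) (.node 80189 (.leaf 0x0) (.leaf 0xf0a0a0003))))))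

def argWS_7104 : Store := (.node 80167 argWS_7102 argWS_7103)

def argWS_7105 : Store := (.node 80145 argWS_7101 argWS_7104)

def argWS_7106 : Store := (.node 80201 (.node 80195 (.node 80192 (.node 80191 (.leaf 0x1393d) (.leaf 0xf0a0a0003)) (.node 80193 (.leaf 0x0) (.node 80194 (.leaf 0xf0b0b0a0004) (.leaf 0x0)))) (.node 80198 (.node 80196 (.leaf 0x0) (.node 80197 (.leaf 0x3000300000202000701000a) (.leaf 0x0))) (.node 80199 (.leaf 0xa0f0b0b0004) (.node 80200 (.leaf 0x0) (.leaf 0x13947))))) (.node 80206 (.node 80203 (.node 80202 (.leaf 0xd0b0b0003) (.leaf 0x0)) (.node 80204 (.leaf 0x503070206000006) (.node 80205 (.leaf 0x0) (.leaf 0xb0b0a0003)))) (.node 80209 (.node 80207 (.leaf 0xd0b0b0003) (.node 80208 (.leaf 0xf0a0a0003) (.leaf 0x20002070206000802040105000c))) (.node 80210 (.leaf 0x0) (.node 80211 (.leaf 0xa0f0b0b0004) (.leaf 0x0))))))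

def argWS_7107 : Store := (.node 80223 (.node 80217 (.node 80214 (.node 80213 (.leaf 0x1395301394f) (.leaf 0x50305090806000802040105000c)) (.node 80215 (.leaf 0x0) (.node 80216 (.leaf 0xb0b0002) (.leaf 0x0)))) (.node 80220 (.node 80218 (.leaf 0xf0b0a0003) (.node 80219 (.leaf 0x0) (.leaf 0x0))) (.node 80221 (.leaf 0xa0f0002) (.node 80222 (.leaf 0xf0b0002) (.leaf 0xb0a0a0003))))) (.node 80229 (.node 80226 (.node 80224 (.leaf 0x1395e01395d) (.node 80225 (.leaf 0xb0b0002) (.leaf 0x0))) (.node 80227 (.leaf 0xf0b0b0a0004) (.node 80228 (.leaf 0x0) (.leaf 0x0)))) (.node 80232 (.node 80230 (.leaf 0xe0d0002) (.node 80231 (.leaf 0xb0a0002) (.leaf 0x1396600d1f0))) (.node 80233 (.leaf 0xf0a0a0003) (.node 80234 (.leaf 0x0) (.leaf 0xf0001))))))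

def argWS_7108 : Store := (.node 80212 argWS_7106 argWS_7107)

def argWS_7109 : Store := (.node 80246 (.node 80240 (.node 80237 (.node 80236 (.leaf 0x0) (.leaf 0x0)) (.node 80238 (.leaf 0xe0001) (.node 80239 (.leaf 0xe0a0a0003) (.leaf 0x40004010703060802040105000c)))) (.node 80243 (.node 80241 (.leaf 0x0) (.node 80242 (.leaf 0xf0b0b0a0a0005) (.leaf 0x0))) (.node 80244 (.leaf 0x1397201396e) (.node 80245 (.leaf 0xf0a0a0003) (.leaf 0x0))))) (.node 80251 (.node 80248 (.node 80247 (.leaf 0xf0b0b0003) (.leaf 0x0)) (.node 80249 (.leaf 0x0) (.node 80250 (.leaf 0x701010908050202000701000b) (.leaf 0x0)))) (.node 80254 (.node 80252 (.leaf 0x0) (.node 80253 (.leaf 0x5030400050005) (.leaf 0x0))) (.node 80255 (.leaf 0xa0a0002) (.node 80256 (.leaf 0x0) (.leaf 0x1397f))))))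

def argWS_7110 : Store := (.node 80268 (.node 80262 (.node 80259 (.node 80258 (.leaf 0xb0b0a0a0004) (.leaf 0x0)) (.node 80260 (.leaf 0x6040904020005) (.node 80261 (.leaf 0x0) (.leaf 0xa0001)))) (.node 80265 (.node 80263 (.leaf 0x2090806000202000701000a) (.node 80264 (.leaf 0x0) (.leaf 0xf0001))) (.node 80266 (.leaf 0x0) (.node 80267 (.leaf 0x604010207030006) (.leaf 0x0))))) (.node 80274 (.node 80271 (.node 80269 (.leaf 0xe0a0a0003) (.node 80270 (.leaf 0x0) (.leaf 0xd0b0b0003))) (.node 80272 (.leaf 0x1398e01398d) (.node 80273 (.leaf 0xf0b0b0a0004) (.leaf 0x0)))) (.node 80277 (.node 80275 (.leaf 0x605010904020006) (.node 80276 (.leaf 0x0) (.leaf 0xf0b0b0a0a0005))) (.node 80278 (.leaf 0xf0b0b0a0a0005) (.node 80279 (.leaf 0x5020106030500040202000701000d) (.leaf 0x0))))))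

def argWS_7111 : Store := (.node 80257 argWS_7109 argWS_7110)

def argWS_7112 : Store := (.node 80235 argWS_7108 argWS_7111)

def argWS_7113 : Store := (.node 80190 argWS_7105 argWS_7112)

def argWS_7114 : Store := (.node 80291 (.node 80285 (.node 80282 (.node 80281 (.leaf 0xa0a0002) (.leaf 0x0)) (.node 80283 (.leaf 0xb0b0a0a0004) (.node 80284 (.leaf 0x1399a013999) (.leaf 0x0)))) (.node 80288 (.node 80286 (.leaf 0xe0a0002) (.node 80287 (.leaf 0x0) (.leaf 0xf0b0002))) (.node 80289 (.leaf 0x0) (.node 80290 (.leaf 0x0) (.leaf 0xe0d0002))))) (.node 80296 (.node 80293 (.node 80292 (.leaf 0x10903040005000703040103000c) (.leaf 0x0)) (.node 80294 (.leaf 0xb0f0a0a0004) (.node 80295 (.leaf 0x0) (.leaf 0x139a6)))) (.node 80299 (.node 80297 (.leaf 0xf0b0b0a0004) (.node 80298 (.leaf 0x0) (.leaf 0xe0001))) (.node 80300 (.leaf 0x0) (.node 80301 (.leaf 0x0) (.leaf 0xf0b0a0003))))))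

def argWS_7115 : Store := (.node 80313 (.node 80307 (.node 80304 (.node 80303 (.leaf 0x10202050206040802040105000c) (.leaf 0x0)) (.node 80305 (.leaf 0xd0b0002) (.node 80306 (.leaf 0x0) (.leaf 0x139b1)))) (.node 80310 (.node 80308 (.leaf 0xd0b0002) (.node 80309 (.leaf 0x0) (.leaf 0xe0a0a0003))) (.node 80311 (.leaf 0x0) (.node 80312 (.leaf 0x0) (.leaf 0xb0a0002))))) (.node 80319 (.node 80316 (.node 80314 (.leaf 0x70305050206040802040105000c) (.node 80315 (.leaf 0x0) (.leaf 0x0))) (.node 80317 (.leaf 0x139bb) (.node 80318 (.leaf 0x50305090806000802040105000c) (.leaf 0x0)))) (.node 80322 (.node 80320 (.leaf 0xf0b0b0003) (.node 80321 (.leaf 0x0) (.leaf 0xa0f0b0b0004))) (.node 80323 (.leaf 0x0) (.node 80324 (.leaf 0x0) (.leaf 0x90201090000090202000701000c))))))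

def argWS_7116 : Store := (.node 80302 argWS_7114 argWS_7115)

def argWS_7117 : Store := (.node 80336 (.node 80330 (.node 80327 (.node 80326 (.leaf 0x0) (.leaf 0xe0d0002)) (.node 80328 (.leaf 0x0) (.node 80329 (.leaf 0x103010202090000000703040103000e) (.leaf 0x0)))) (.node 80333 (.node 80331 (.leaf 0xf0a0a0003) (.node 80332 (.leaf 0x0) (.leaf 0x139cb))) (.node 80334 (.leaf 0xd0b0b0003) (.node 80335 (.leaf 0x0) (.leaf 0xd0001))))) (.node 80341 (.node 80338 (.node 80337 (.leaf 0x0) (.leaf 0x0)) (.node 80339 (.leaf 0xf0b0a0a0004) (.node 80340 (.leaf 0xf0b0b0a0a0005) (.leaf 0x139d3)))) (.node 80344 (.node 80342 (.leaf 0xb0b0a0a0004) (.node 80343 (.leaf 0x0) (.leaf 0xf0a0002))) (.node 80345 (.leaf 0x0) (.node 80346 (.leaf 0x0) (.leaf 0x0))))))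

def argWS_7118 : Store := (.node 80358 (.node 80352 (.node 80349 (.node 80348 (.leaf 0x0) (.leaf 0xb0f0a0a0004)) (.node 80350 (.leaf 0x901020901060006) (.node 80351 (.leaf 0x0) (.leaf 0xf0b0a0a0004)))) (.node 80355 (.node 80353 (.leaf 0x0) (.node 80354 (.leaf 0xe0d0002) (.leaf 0x139e1))) (.node 80356 (.leaf 0xf0a0002) (.node 80357 (.leaf 0x0) (.leaf 0x60103010102000202000701000c))))) (.node 80364 (.node 80361 (.node 80359 (.leaf 0x0) (.node 80360 (.leaf 0xa0a0002) (.leaf 0x9010401070306000703040103000d))) (.node 80362 (.leaf 0x0) (.node 80363 (.leaf 0xb0f0a0003) (.leaf 0x0)))) (.node 80367 (.node 80365 (.leaf 0x139eb) (.node 80366 (.leaf 0x400070206000802040105000c) (.leaf 0x0))) (.node 80368 (.leaf 0xb0a0a0003) (.node 80369 (.leaf 0x0) (.leaf 0xe0a0a0003))))))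

def argWS_7119 : Store := (.node 80347 argWS_7117 argWS_7118)

def argWS_7120 : Store := (.node 80325 argWS_7116 argWS_7119)

def argWS_7121 : Store := (.node 80381 (.node 80375 (.node 80372 (.node 80371 (.leaf 0xb0001) (.leaf 0xa0001)) (.node 80373 (.leaf 0x50000070206000202000701000c) (.node 80374 (.leaf 0x0) (.leaf 0xf0b0b0003)))) (.node 80378 (.node 80376 (.leaf 0x0) (.node 80377 (.leaf 0xb0b0a0a0004) (.leaf 0x139f80139f7))) (.node 80379 (.leaf 0xf0b0b0a0004) (.node 80380 (.leaf 0x0) (.leaf 0xb0b0a0a0004))))) (.node 80386 (.node 80383 (.node 80382 (.leaf 0xd0001) (.leaf 0x605020604000703040103000b)) (.node 80384 (.leaf 0x0) (.node 80385 (.leaf 0xf0a0002) (.leaf 0x0)))) (.node 80389 (.node 80387 (.leaf 0x13a010139fd) (.node 80388 (.leaf 0xa0a0002) (.leaf 0x0))) (.node 80390 (.leaf 0xb0001) (.node 80391 (.leaf 0xd0b0b0003) (.leaf 0x209030802020007010009))))))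

def argWS_7122 : Store := (.node 80403 (.node 80397 (.node 80394 (.node 80393 (.leaf 0x0) (.leaf 0xe0a0002)) (.node 80395 (.leaf 0x0) (.node 80396 (.leaf 0x13a0a) (.leaf 0x5020207030802040105000a)))) (.node 80400 (.node 80398 (.leaf 0x0) (.node 80399 (.leaf 0x0) (.leaf 0x0))) (.node 80401 (.leaf 0x0) (.node 80402 (.leaf 0x0) (.leaf 0x101070209020202000701000b))))) (.node 80409 (.node 80406 (.node 80404 (.leaf 0x0) (.node 80405 (.leaf 0x0) (.leaf 0xf0a0002))) (.node 80407 (.leaf 0x0) (.node 80408 (.leaf 0x202000003010802040105000c) (.leaf 0x0)))) (.node 80412 (.node 80410 (.leaf 0x0) (.node 80411 (.leaf 0xf0a0a0003) (.leaf 0x0))) (.node 80413 (.leaf 0x70901090802040105000a) (.node 80414 (.leaf 0x0) (.leaf 0x0))))))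

def argWS_7123 : Store := (.node 80392 argWS_7121 argWS_7122)

def argWS_7124 : Store := (.node 80426 (.node 80420 (.node 80417 (.node 80416 (.leaf 0xf0b0b0003) (.leaf 0x0)) (.node 80418 (.leaf 0x3060003) (.node 80419 (.leaf 0x0) (.leaf 0x0)))) (.node 80423 (.node 80421 (.leaf 0xe0d0002) (.node 80422 (.leaf 0x0) (.leaf 0x0))) (.node 80424 (.leaf 0x0) (.node 80425 (.leaf 0x0) (.leaf 0x0))))) (.node 80432 (.node 80429 (.node 80427 (.leaf 0x0) (.node 80428 (.leaf 0x0) (.leaf 0x0))) (.node 80430 (.leaf 0x0) (.node 80431 (.leaf 0x0) (.leaf 0x0)))) (.node 80435 (.node 80433 (.leaf 0x0) (.node 80434 (.leaf 0x0) (.leaf 0x0))) (.node 80436 (.leaf 0x0) (.node 80437 (.leaf 0x0) (.leaf 0x0))))))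

def argWS_7125 : Store := (.node 80449 (.node 80443 (.node 80440 (.node 80439 (.leaf 0x0) (.leaf 0x0)) (.node 80441 (.leaf 0x0) (.node 80442 (.leaf 0x0) (.leaf 0x0)))) (.node 80446 (.node 80444 (.leaf 0x0) (.node 80445 (.leaf 0x0) (.leaf 0x0))) (.node 80447 (.leaf 0x0) (.node 80448 (.leaf 0x0) (.leaf 0x0))))) (.node 80455 (.node 80452 (.node 80450 (.leaf 0x0) (.node 80451 (.leaf 0x0) (.leaf 0x0))) (.node 80453 (.leaf 0x0) (.node 80454 (.leaf 0x0) (.leaf 0x0)))) (.node 80458 (.node 80456 (.leaf 0x0) (.node 80457 (.leaf 0x0) (.leaf 0x0))) (.node 80459 (.leaf 0x0) (.node 80460 (.leaf 0x0) (.leaf 0x0))))))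

def argWS_7126 : Store := (.node 80438 argWS_7124 argWS_7125)

def argWS_7127 : Store := (.node 80415 argWS_7123 argWS_7126)

def argWS_7128 : Store := (.node 80370 argWS_7120 argWS_7127)

def argWS_7129 : Store := (.node 80280 argWS_7113 argWS_7128)

def argWS_7130 : Store := (.node 80472 (.node 80466 (.node 80463 (.node 80462 (.leaf 0x0) (.leaf 0x0)) (.node 80464 (.leaf 0x0) (.node 80465 (.leaf 0x0) (.leaf 0x0)))) (.node 80469 (.node 80467 (.leaf 0x0) (.node 80468 (.leaf 0x0) (.leaf 0x0))) (.node 80470 (.leaf 0x0) (.node 80471 (.leaf 0x0) (.leaf 0x0))))) (.node 80477 (.node 80474 (.node 80473 (.leaf 0x0) (.leaf 0x0)) (.node 80475 (.leaf 0x0) (.node 80476 (.leaf 0x0) (.leaf 0x0)))) (.node 80480 (.node 80478 (.leaf 0x0) (.node 80479 (.leaf 0x0) (.leaf 0x0))) (.node 80481 (.leaf 0x0) (.node 80482 (.leaf 0x0) (.leaf 0x0))))))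

def argWS_7131 : Store := (.node 80494 (.node 80488 (.node 80485 (.node 80484 (.leaf 0x0) (.leaf 0x0)) (.node 80486 (.leaf 0x0) (.node 80487 (.leaf 0x0) (.leaf 0x0)))) (.node 80491 (.node 80489 (.leaf 0x0) (.node 80490 (.leaf 0x0) (.leaf 0x0))) (.node 80492 (.leaf 0x0) (.node 80493 (.leaf 0x0) (.leaf 0x0))))) (.node 80500 (.node 80497 (.node 80495 (.leaf 0x0) (.node 80496 (.leaf 0x0) (.leaf 0x0))) (.node 80498 (.leaf 0x0) (.node 80499 (.leaf 0x0) (.leaf 0x0)))) (.node 80503 (.node 80501 (.leaf 0x0) (.node 80502 (.leaf 0x0) (.leaf 0x0))) (.node 80504 (.leaf 0x0) (.node 80505 (.leaf 0xf0b0b0a0004) (.leaf 0xe0a0a0003))))))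

def argWS_7132 : Store := (.node 80483 argWS_7130 argWS_7131)

def argWS_7133 : Store := (.node 80517 (.node 80511 (.node 80508 (.node 80507 (.leaf 0x20002010904020202000701000c) (.leaf 0x0)) (.node 80509 (.leaf 0xd0b0b0003) (.node 80510 (.leaf 0x0) (.leaf 0xb0a0f0003)))) (.node 80514 (.node 80512 (.leaf 0x13a7e013a7d) (.node 80513 (.leaf 0xf0a0002) (.leaf 0x0))) (.node 80515 (.leaf 0xb0b0002) (.node 80516 (.leaf 0x0) (.leaf 0x0))))) (.node 80522 (.node 80519 (.node 80518 (.leaf 0x2000002080400000703040103000e) (.leaf 0x0)) (.node 80520 (.leaf 0xe0d0002) (.node 80521 (.leaf 0x0) (.leaf 0x13a88)))) (.node 80525 (.node 80523 (.leaf 0xe0d0002) (.node 80524 (.leaf 0x0) (.leaf 0xf0b0b0a0004))) (.node 80526 (.leaf 0x0) (.node 80527 (.leaf 0x0) (.leaf 0xf0b0b0003))))))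

def argWS_7134 : Store := (.node 80539 (.node 80533 (.node 80530 (.node 80529 (.leaf 0xb0f0002) (.leaf 0x13a90)) (.node 80531 (.leaf 0xb0a0f0003) (.node 80532 (.leaf 0x0) (.leaf 0xe0a0a0003)))) (.node 80536 (.node 80534 (.leaf 0x0) (.node 80535 (.leaf 0x0) (.leaf 0xd0b0b0003))) (.node 80537 (.leaf 0xb0f0a0003) (.node 80538 (.leaf 0x6010202080400000703040103000d) (.leaf 0x0))))) (.node 80545 (.node 80542 (.node 80540 (.leaf 0xb0f0a0a0004) (.node 80541 (.leaf 0x0) (.leaf 0x13a9c013a98))) (.node 80543 (.leaf 0x0) (.node 80544 (.leaf 0xd0b0b0003) (.leaf 0x0)))) (.node 80548 (.node 80546 (.leaf 0x0) (.node 80547 (.leaf 0xa0001) (.leaf 0x80007000902000701000a))) (.node 80549 (.leaf 0x0) (.node 80550 (.leaf 0xf0b0002) (.leaf 0x0))))))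

def argWS_7135 : Store := (.node 80528 argWS_7133 argWS_7134)

def argWS_7136 : Store := (.node 80506 argWS_7132 argWS_7135)

def argWS_7137 : Store := (.node 80562 (.node 80556 (.node 80553 (.node 80552 (.leaf 0xd0b0b0003) (.leaf 0x13aa7013aa6)) (.node 80554 (.leaf 0x8050007000903000703040103000d) (.node 80555 (.leaf 0x0) (.leaf 0xd0001)))) (.node 80559 (.node 80557 (.leaf 0x0) (.node 80558 (.leaf 0xe0001) (.leaf 0x0))) (.node 80560 (.leaf 0x0) (.node 80561 (.leaf 0xb0f0a0a0004) (.leaf 0x80200070206000007))))) (.node 80567 (.node 80564 (.node 80563 (.leaf 0x0) (.leaf 0x0)) (.node 80565 (.leaf 0x60506030500040202000701000c) (.node 80566 (.leaf 0x0) (.leaf 0xf0a0a0003)))) (.node 80570 (.node 80568 (.leaf 0x0) (.node 80569 (.leaf 0x13ab7013ab3) (.leaf 0xb0b0a0a0004))) (.node 80571 (.leaf 0x0) (.node 80572 (.leaf 0xb0a0f0003) (.leaf 0x0))))))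

def argWS_7138 : Store := (.node 80584 (.node 80578 (.node 80575 (.node 80574 (.leaf 0x0) (.leaf 0xb0b0a0a0004)) (.node 80576 (.leaf 0xf0a0002) (.node 80577 (.leaf 0x13abf) (.leaf 0xa0f0b0003)))) (.node 80581 (.node 80579 (.leaf 0x0) (.node 80580 (.leaf 0xa0f0002) (.leaf 0x0))) (.node 80582 (.leaf 0x0) (.node 80583 (.leaf 0xf0a0a0003) (.leaf 0x301010904020202000701000b))))) (.node 80590 (.node 80587 (.node 80585 (.leaf 0x0) (.node 80586 (.leaf 0x0) (.leaf 0x13ac900eff1))) (.node 80588 (.leaf 0x70009020007010009) (.node 80589 (.leaf 0x0) (.leaf 0xe0001)))) (.node 80593 (.node 80591 (.leaf 0x0) (.node 80592 (.leaf 0xb0b0a0a0004) (.leaf 0x0))) (.node 80594 (.leaf 0x0) (.node 80595 (.leaf 0xb0b0a0a0004) (.leaf 0xb0b0a0a0004))))))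

def argWS_7139 : Store := (.node 80573 argWS_7137 argWS_7138)

def argWS_7140 : Store := (.node 80607 (.node 80601 (.node 80598 (.node 80597 (.leaf 0xf0001) (.leaf 0x13ad4013ad3)) (.node 80599 (.leaf 0xb0b0002) (.node 80600 (.leaf 0x0) (.leaf 0xe0a0a0003)))) (.node 80604 (.node 80602 (.leaf 0x0) (.node 80603 (.leaf 0x0) (.leaf 0xb0a0f0003))) (.node 80605 (.leaf 0x40901090005) (.node 80606 (.leaf 0x0) (.leaf 0xb0001))))) (.node 80612 (.node 80609 (.node 80608 (.leaf 0x0) (.leaf 0x13adf013adb)) (.node 80610 (.leaf 0xb0a0f0003) (.node 80611 (.leaf 0x0) (.leaf 0xb0b0a0a0004)))) (.node 80615 (.node 80613 (.leaf 0x0) (.node 80614 (.leaf 0x0) (.leaf 0xb0f0a0a0004))) (.node 80616 (.leaf 0xf0b0002) (.node 80617 (.leaf 0x108040002020007010009) (.leaf 0x0))))))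

def argWS_7141 : Store := (.node 80629 (.node 80623 (.node 80620 (.node 80619 (.leaf 0xb0f0a0003) (.leaf 0x0)) (.node 80621 (.leaf 0x13aeb013ae7) (.node 80622 (.leaf 0xf0b0b0003) (.leaf 0x0)))) (.node 80626 (.node 80624 (.leaf 0xf0b0a0003) (.node 80625 (.leaf 0x0) (.leaf 0x0))) (.node 80627 (.leaf 0x204000300000006) (.node 80628 (.leaf 0x0) (.leaf 0xf0b0b0003))))) (.node 80635 (.node 80632 (.node 80630 (.leaf 0x0) (.node 80631 (.leaf 0xb0b0002) (.leaf 0x13af6013af5))) (.node 80633 (.leaf 0xb0001) (.node 80634 (.leaf 0x0) (.leaf 0x6010500020202000701000a)))) (.node 80638 (.node 80636 (.leaf 0x0) (.node 80637 (.leaf 0xe0d0002) (.leaf 0xf0b0b0003))) (.node 80639 (.leaf 0x9070207020007010008) (.node 80640 (.leaf 0x0) (.leaf 0xf0b0a0a0004))))))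

def argWS_7142 : Store := (.node 80618 argWS_7140 argWS_7141)

def argWS_7143 : Store := (.node 80596 argWS_7139 argWS_7142)

def argWS_7144 : Store := (.node 80551 argWS_7136 argWS_7143)

def argWS_7145 : Store := (.node 80652 (.node 80646 (.node 80643 (.node 80642 (.leaf 0x0) (.leaf 0xe840013b01)) (.node 80644 (.leaf 0xe0d0002) (.node 80645 (.leaf 0x0) (.leaf 0xd0b0b0003)))) (.node 80649 (.node 80647 (.leaf 0x0) (.node 80648 (.leaf 0x0) (.leaf 0xa0f0b0b0004))) (.node 80650 (.leaf 0x502050206040202000701000b) (.node 80651 (.leaf 0x0) (.leaf 0xf0b0b0a0a0005))))) (.node 80657 (.node 80654 (.node 80653 (.leaf 0x0) (.leaf 0x13b0c)) (.node 80655 (.leaf 0xa0f0002) (.node 80656 (.leaf 0x0) (.leaf 0xb0b0002)))) (.node 80660 (.node 80658 (.leaf 0x0) (.node 80659 (.leaf 0x0) (.leaf 0xa0a0002))) (.node 80661 (.leaf 0xa0a0002) (.node 80662 (.leaf 0x202020601050002000703040103000e) (.leaf 0x0))))))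

def argWS_7146 : Store := (.node 80674 (.node 80668 (.node 80665 (.node 80664 (.leaf 0xf0a0a0003) (.leaf 0x0)) (.node 80666 (.leaf 0x13b18013b14) (.node 80667 (.leaf 0x0) (.leaf 0xf0001)))) (.node 80671 (.node 80669 (.leaf 0x0) (.node 80670 (.leaf 0x0) (.leaf 0x20003010102000202000701000d))) (.node 80672 (.leaf 0x0) (.node 80673 (.leaf 0xd0b0002) (.leaf 0x0))))) (.node 80680 (.node 80677 (.node 80675 (.leaf 0x20000030703040103000a) (.node 80676 (.leaf 0x0) (.leaf 0xa0f0b0b0004))) (.node 80678 (.leaf 0x0) (.node 80679 (.leaf 0x13b25013b21) (.leaf 0xb0a0a0003)))) (.node 80683 (.node 80681 (.leaf 0x0) (.node 80682 (.leaf 0xf0b0a0a0004) (.leaf 0x0))) (.node 80684 (.leaf 0x0) (.node 80685 (.leaf 0x7010103080202000701000a) (.leaf 0x0))))))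

def argWS_7147 : Store := (.node 80663 argWS_7145 argWS_7146)

def argWS_7148 : Store := (.node 80697 (.node 80691 (.node 80688 (.node 80687 (.leaf 0x0) (.leaf 0xd0b0b0003)) (.node 80689 (.leaf 0x13b2f) (.node 80690 (.leaf 0xb0a0002) (.leaf 0x0)))) (.node 80694 (.node 80692 (.leaf 0xf0b0a0a0004) (.node 80693 (.leaf 0x0) (.leaf 0x0))) (.node 80695 (.leaf 0xb0a0002) (.node 80696 (.leaf 0x10d90) (.leaf 0x0))))) (.node 80702 (.node 80699 (.node 80698 (.leaf 0xb0b0a0003) (.leaf 0x0)) (.node 80700 (.leaf 0xb0f0002) (.node 80701 (.leaf 0x0) (.leaf 0x0)))) (.node 80705 (.node 80703 (.leaf 0xf0b0b0a0a0005) (.node 80704 (.leaf 0x3030603050004000703040103000d) (.leaf 0x0))) (.node 80706 (.leaf 0xf0b0b0a0a0005) (.node 80707 (.leaf 0x0) (.leaf 0x13b42004963))))))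

def argWS_7149 : Store := (.node 80719 (.node 80713 (.node 80710 (.node 80709 (.leaf 0xb0b0002) (.leaf 0x0)) (.node 80711 (.leaf 0xf0b0b0a0004) (.node 80712 (.leaf 0x0) (.leaf 0x0)))) (.node 80716 (.node 80714 (.leaf 0xa0f0b0b0004) (.node 80715 (.leaf 0x4030802020007010008) (.leaf 0x0))) (.node 80717 (.leaf 0xa0a0002) (.node 80718 (.leaf 0x0) (.leaf 0x2040105020202010008))))) (.node 80725 (.node 80722 (.node 80720 (.leaf 0x0) (.node 80721 (.leaf 0xf0b0002) (.leaf 0x0))) (.node 80723 (.leaf 0x13b51013b4d) (.node 80724 (.leaf 0x70201090805000703040103000c) (.leaf 0x0)))) (.node 80728 (.node 80726 (.leaf 0xb0a0f0003) (.node 80727 (.leaf 0x0) (.leaf 0xb0f0a0003))) (.node 80729 (.leaf 0x0) (.node 80730 (.leaf 0x0) (.leaf 0xd0001))))))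

def argWS_7150 : Store := (.node 80708 argWS_7148 argWS_7149)

def argWS_7151 : Store := (.node 80686 argWS_7147 argWS_7150)

def argWS_7152 : Store := (.node 80742 (.node 80736 (.node 80733 (.node 80732 (.leaf 0x2070206030005) (.leaf 0x0)) (.node 80734 (.leaf 0xa0f0b0003) (.node 80735 (.leaf 0x0) (.leaf 0x13b5e)))) (.node 80739 (.node 80737 (.leaf 0x8000206040802040105000a) (.node 80738 (.leaf 0x0) (.leaf 0xe0a0a0003))) (.node 80740 (.leaf 0x0) (.node 80741 (.leaf 0xf0b0a0003) (.leaf 0x0))))) (.node 80747 (.node 80744 (.node 80743 (.leaf 0x0) (.leaf 0xf0001)) (.node 80745 (.leaf 0xa0f0b0b0004) (.node 80746 (.leaf 0x13b68) (.leaf 0xa0f0b0003)))) (.node 80750 (.node 80748 (.leaf 0x0) (.node 80749 (.leaf 0xa0f0b0b0004) (.leaf 0x0))) (.node 80751 (.leaf 0x0) (.node 80752 (.leaf 0xd0001) (.leaf 0x205020603000703040103000b))))))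

def argWS_7153 : Store := (.node 80764 (.node 80758 (.node 80755 (.node 80754 (.leaf 0x0) (.leaf 0xb0f0a0003)) (.node 80756 (.leaf 0x0) (.node 80757 (.leaf 0x70308020401050008) (.leaf 0x0)))) (.node 80761 (.node 80759 (.leaf 0xa0f0002) (.node 80760 (.leaf 0x0) (.leaf 0x13b77013b73))) (.node 80762 (.leaf 0xe0d0002) (.node 80763 (.leaf 0x0) (.leaf 0xb0b0a0a0004))))) (.node 80770 (.node 80767 (.node 80765 (.leaf 0x0) (.node 80766 (.leaf 0x0) (.leaf 0xe0d0002))) (.node 80768 (.leaf 0xf0b0a0003) (.node 80769 (.leaf 0xf0b0a0a0004) (.leaf 0x13b80013b7f)))) (.node 80773 (.node 80771 (.leaf 0x402000003010202000701000c) (.node 80772 (.leaf 0x0) (.leaf 0xa0f0002))) (.node 80774 (.leaf 0x0) (.node 80775 (.leaf 0xb0001) (.leaf 0x0))))))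

def argWS_7154 : Store := (.node 80753 argWS_7152 argWS_7153)

def argWS_7155 : Store := (.node 80787 (.node 80781 (.node 80778 (.node 80777 (.leaf 0x0) (.leaf 0x2090300020804000202000701000d)) (.node 80779 (.leaf 0x0) (.node 80780 (.leaf 0xb0a0a0003) (.leaf 0x0)))) (.node 80784 (.node 80782 (.leaf 0xe0a0002) (.node 80783 (.leaf 0xa0001) (.leaf 0x13b8e013b8d))) (.node 80785 (.leaf 0xf0a0002) (.node 80786 (.leaf 0x0) (.leaf 0x3050900090005))))) (.node 80793 (.node 80790 (.node 80788 (.leaf 0x0) (.node 80789 (.leaf 0xb0001) (.leaf 0xf0b0b0003))) (.node 80791 (.leaf 0xa0f0b0b0004) (.node 80792 (.leaf 0x13b96013b95) (.leaf 0xb0b0a0a0004)))) (.node 80796 (.node 80794 (.leaf 0x0) (.node 80795 (.leaf 0xd0b0002) (.leaf 0x0))) (.node 80797 (.leaf 0x0) (.node 80798 (.leaf 0xb0001) (.leaf 0xb0a0f0003))))))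

def argWS_7156 : Store := (.node 80810 (.node 80804 (.node 80801 (.node 80800 (.leaf 0xb0a0f0003) (.leaf 0x13b9f013b9e)) (.node 80802 (.leaf 0xa0f0002) (.node 80803 (.leaf 0x0) (.leaf 0x20205020202010007)))) (.node 80807 (.node 80805 (.leaf 0x0) (.node 80806 (.leaf 0xa0f0b0003) (.leaf 0xf0a0002))) (.node 80808 (.leaf 0xf0001) (.node 80809 (.leaf 0x13ba7) (.leaf 0x2040307000903000703040103000d))))) (.node 80816 (.node 80813 (.node 80811 (.leaf 0x0) (.node 80812 (.leaf 0x0) (.leaf 0xa0f0002))) (.node 80814 (.leaf 0x0) (.node 80815 (.leaf 0x0) (.leaf 0xe0a0002)))) (.node 80819 (.node 80817 (.leaf 0xf0b0a0a0004) (.node 80818 (.leaf 0x600020106060006) (.leaf 0x0))) (.node 80820 (.leaf 0xa0a0002) (.node 80821 (.leaf 0x0) (.leaf 0x13bb4013bb0))))))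

def argWS_7157 : Store := (.node 80799 argWS_7155 argWS_7156)

def argWS_7158 : Store := (.node 80776 argWS_7154 argWS_7157)

def argWS_7159 : Store := (.node 80731 argWS_7151 argWS_7158)

def argWS_7160 : Store := (.node 80641 argWS_7144 argWS_7159)

def argWS_7161 : Store := (.node 80461 argWS_7129 argWS_7160)

def argWS_7162 : Store := (.node 80100 argWS_7098 argWS_7161)

def argWS_7163 : Store := (.node 79378 argWS_7035 argWS_7162)

def argWS_7164 : Store := (.node 77935 argWS_6908 argWS_7163)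

def argWS_7165 : Store := (.node 75049 argWS_6653 argWS_7164)

def argWS_7166 : Store := (.node 80833 (.node 80827 (.node 80824 (.node 80823 (.leaf 0xf0b0a0a0004) (.leaf 0x0)) (.node 80825 (.leaf 0xa0f0b0003) (.node 80826 (.leaf 0x0) (.leaf 0x0)))) (.node 80830 (.node 80828 (.leaf 0xa0f0b0003) (.node 80829 (.leaf 0xa0f0b0b0004) (.leaf 0x13bbc013bbb))) (.node 80831 (.leaf 0x2020200030306040202000701000d) (.node 80832 (.leaf 0x0) (.leaf 0xa0a0002))))) (.node 80838 (.node 80835 (.node 80834 (.leaf 0x0) (.leaf 0xd0b0002)) (.node 80836 (.leaf 0x0) (.node 80837 (.leaf 0x0) (.leaf 0xb0f0a0003)))) (.node 80841 (.node 80839 (.leaf 0x906010908050006) (.node 80840 (.leaf 0x0) (.leaf 0xa0001))) (.node 80842 (.leaf 0x0) (.node 80843 (.leaf 0x13bc9) (.leaf 0xb0f0a0003))))))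

def argWS_7167 : Store := (.node 80855 (.node 80849 (.node 80846 (.node 80845 (.leaf 0x0) (.leaf 0xf0b0a0003)) (.node 80847 (.leaf 0x0) (.node 80848 (.leaf 0x0) (.leaf 0xa0001)))) (.node 80852 (.node 80850 (.leaf 0x103010207020007010009) (.node 80851 (.leaf 0x0) (.leaf 0xa0f0002))) (.node 80853 (.leaf 0x0) (.node 80854 (.leaf 0x13bd4) (.leaf 0xe0a0a0003))))) (.node 80861 (.node 80858 (.node 80856 (.leaf 0x0) (.node 80857 (.leaf 0xb0001) (.leaf 0x0))) (.node 80859 (.leaf 0x0) (.node 80860 (.leaf 0xb0a0a0003) (.leaf 0x60002020900000007)))) (.node 80864 (.node 80862 (.leaf 0x0) (.node 80863 (.leaf 0xf0b0a0a0004) (.leaf 0x0))) (.node 80865 (.leaf 0x13bdf013bdb) (.node 80866 (.leaf 0xb0a0002) (.leaf 0x0))))))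

def argWS_7168 : Store := (.node 80844 argWS_7166 argWS_7167)

def argWS_7169 : Store := (.node 80878 (.node 80872 (.node 80869 (.node 80868 (.leaf 0xa0001) (.leaf 0x0)) (.node 80870 (.leaf 0xb0f0a0003) (.node 80871 (.leaf 0xf0a0002) (.leaf 0xf0a0a0003)))) (.node 80875 (.node 80873 (.leaf 0x13be7013be6) (.node 80874 (.leaf 0xb0b0a0a0004) (.leaf 0x0))) (.node 80876 (.leaf 0xa0f0002) (.node 80877 (.leaf 0x0) (.leaf 0x0))))) (.node 80883 (.node 80880 (.node 80879 (.leaf 0xb0b0a0003) (.leaf 0xe0001)) (.node 80881 (.leaf 0xf0b0b0003) (.node 80882 (.leaf 0x13bf0013bef) (.leaf 0xb0f0a0a0004)))) (.node 80886 (.node 80884 (.leaf 0x0) (.node 80885 (.leaf 0xb0a0a0003) (.leaf 0x0))) (.node 80887 (.leaf 0x0) (.node 80888 (.leaf 0xa0001) (.leaf 0x40400090206020202000701000c))))))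

def argWS_7170 : Store := (.node 80900 (.node 80894 (.node 80891 (.node 80890 (.leaf 0x0) (.leaf 0xb0b0a0a0004)) (.node 80892 (.leaf 0x0) (.node 80893 (.leaf 0x3070901090802040105000a) (.leaf 0x0)))) (.node 80897 (.node 80895 (.leaf 0xf0b0b0a0004) (.node 80896 (.leaf 0x0) (.leaf 0x13bff013bfb))) (.node 80898 (.leaf 0xb0001) (.node 80899 (.leaf 0x0) (.leaf 0xb0b0a0a0004))))) (.node 80906 (.node 80903 (.node 80901 (.leaf 0x0) (.node 80902 (.leaf 0x0) (.leaf 0xa0f0b0003))) (.node 80904 (.leaf 0x90107020902000703040103000c) (.node 80905 (.leaf 0x0) (.leaf 0xb0b0002)))) (.node 80909 (.node 80907 (.leaf 0x0) (.node 80908 (.leaf 0xf0001) (.leaf 0x13c0b013c0a))) (.node 80910 (.leaf 0xf0b0b0a0004) (.node 80911 (.leaf 0x0) (.leaf 0xf0b0a0003))))))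

def argWS_7171 : Store := (.node 80889 argWS_7169 argWS_7170)

def argWS_7172 : Store := (.node 80867 argWS_7168 argWS_7171)

def argWS_7173 : Store := (.node 80923 (.node 80917 (.node 80914 (.node 80913 (.leaf 0x0) (.leaf 0x0)) (.node 80915 (.leaf 0xe0a0002) (.node 80916 (.leaf 0xd0b0002) (.leaf 0x905030901090202000701000b)))) (.node 80920 (.node 80918 (.leaf 0x0) (.node 80919 (.leaf 0xe0a0002) (.leaf 0x0))) (.node 80921 (.leaf 0x13c17013c13) (.node 80922 (.leaf 0xf0a0a0003) (.leaf 0x0))))) (.node 80928 (.node 80925 (.node 80924 (.leaf 0xf0b0a0a0004) (.leaf 0x0)) (.node 80926 (.leaf 0x0) (.node 80927 (.leaf 0xf0b0a0003) (.leaf 0xa0f0002)))) (.node 80931 (.node 80929 (.leaf 0x13c1f013c1e) (.node 80930 (.leaf 0x2070206020007010008) (.leaf 0x0))) (.node 80932 (.leaf 0xf0b0a0a0004) (.node 80933 (.leaf 0x0) (.leaf 0xa0a0002))))))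

def argWS_7174 : Store := (.node 80945 (.node 80939 (.node 80936 (.node 80935 (.leaf 0x0) (.leaf 0x0)) (.node 80937 (.leaf 0xb0f0a0003) (.node 80938 (.leaf 0xa0a0002) (.leaf 0xe2d9013c29)))) (.node 80942 (.node 80940 (.leaf 0xb0b0a0a0004) (.node 80941 (.leaf 0x0) (.leaf 0xe0001))) (.node 80943 (.leaf 0x0) (.node 80944 (.leaf 0x0) (.leaf 0x105020900090202000701000b))))) (.node 80951 (.node 80948 (.node 80946 (.leaf 0x0) (.node 80947 (.leaf 0xa0f0b0003) (.leaf 0x0))) (.node 80949 (.leaf 0x1050205020202010202000701000d) (.node 80950 (.leaf 0x0) (.leaf 0xf0b0b0003)))) (.node 80954 (.node 80952 (.leaf 0x0) (.node 80953 (.leaf 0x304010603050004000703040103000e) (.leaf 0x0))) (.node 80955 (.leaf 0xb0f0a0003) (.node 80956 (.leaf 0x0) (.leaf 0x13c3b013c37))))))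

def argWS_7175 : Store := (.node 80934 argWS_7173 argWS_7174)

def argWS_7176 : Store := (.node 80968 (.node 80962 (.node 80959 (.node 80958 (.leaf 0xa0a0002) (.leaf 0x0)) (.node 80960 (.leaf 0x6000007000902000701000a) (.node 80961 (.leaf 0x0) (.leaf 0xb0a0f0003)))) (.node 80965 (.node 80963 (.leaf 0xf0b0b0a0a0005) (.node 80964 (.leaf 0xf0b0b0003) (.leaf 0x13c43013c42))) (.node 80966 (.leaf 0xf0001) (.node 80967 (.leaf 0x0) (.leaf 0xf0a0a0003))))) (.node 80973 (.node 80970 (.node 80969 (.leaf 0x0) (.leaf 0x0)) (.node 80971 (.leaf 0xf0b0b0a0a0005) (.node 80972 (.leaf 0xb0b0002) (.leaf 0xf0b0b0a0a0005)))) (.node 80976 (.node 80974 (.leaf 0x13c4c013c4b) (.node 80975 (.leaf 0x40309080600000703040103000c) (.leaf 0x0))) (.node 80977 (.leaf 0xa0f0002) (.node 80978 (.leaf 0x0) (.leaf 0xa0f0b0b0004))))))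

def argWS_7177 : Store := (.node 80990 (.node 80984 (.node 80981 (.node 80980 (.leaf 0x0) (.leaf 0x0)) (.node 80982 (.leaf 0xd0001) (.node 80983 (.leaf 0xe0a0a0003) (.leaf 0x13c56)))) (.node 80987 (.node 80985 (.leaf 0xf0b0a0003) (.node 80986 (.leaf 0x0) (.leaf 0xb0b0a0003))) (.node 80988 (.leaf 0x0) (.node 80989 (.leaf 0x0) (.leaf 0x20000030306040008))))) (.node 80996 (.node 80993 (.node 80991 (.leaf 0x0) (.node 80992 (.leaf 0xb0001) (.leaf 0x0))) (.node 80994 (.leaf 0x30507020600000703040103000c) (.node 80995 (.leaf 0x0) (.leaf 0xf0b0b0a0004)))) (.node 80999 (.node 80997 (.leaf 0x0) (.node 80998 (.leaf 0x13c6400c10d) (.leaf 0xb0b0002))) (.node 81000 (.leaf 0x0) (.node 81001 (.leaf 0xa0001) (.leaf 0x0))))))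

def argWS_7178 : Store := (.node 80979 argWS_7176 argWS_7177)

def argWS_7179 : Store := (.node 80957 argWS_7175 argWS_7178)

def argWS_7180 : Store := (.node 80912 argWS_7172 argWS_7179)

def argWS_7181 : Store := (.node 81013 (.node 81007 (.node 81004 (.node 81003 (.leaf 0x0) (.leaf 0xf0b0b0003)) (.node 81005 (.leaf 0x8000406020702010202000701000d) (.node 81006 (.leaf 0x0) (.leaf 0xb0a0f0003)))) (.node 81010 (.node 81008 (.leaf 0x0) (.node 81009 (.leaf 0xe0001) (.leaf 0x13c70013c6f))) (.node 81011 (.leaf 0xa0f0002) (.node 81012 (.leaf 0x0) (.leaf 0xf0a0a0003))))) (.node 81018 (.node 81015 (.node 81014 (.leaf 0x0) (.leaf 0x0)) (.node 81016 (.leaf 0xa0001) (.node 81017 (.leaf 0xb0b0002) (.leaf 0xb0001)))) (.node 81021 (.node 81019 (.leaf 0x13c79013c78) (.node 81020 (.leaf 0xe0a0a0003) (.leaf 0x0))) (.node 81022 (.leaf 0xb0001) (.node 81023 (.leaf 0x0) (.leaf 0x0))))))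

def argWS_7182 : Store := (.node 81035 (.node 81029 (.node 81026 (.node 81025 (.leaf 0xb0b0002) (.leaf 0x2090300090206020202000701000d)) (.node 81027 (.leaf 0x0) (.node 81028 (.leaf 0xb0a0f0003) (.leaf 0x0)))) (.node 81032 (.node 81030 (.leaf 0x700070206000802040105000b) (.node 81031 (.leaf 0x0) (.leaf 0xa0001))) (.node 81033 (.leaf 0x0) (.node 81034 (.leaf 0x13c88013c84) (.leaf 0xe0001))))) (.node 81041 (.node 81038 (.node 81036 (.leaf 0x0) (.node 81037 (.leaf 0xf0b0b0003) (.leaf 0x0))) (.node 81039 (.leaf 0x0) (.node 81040 (.leaf 0xd0b0002) (.leaf 0xf0b0b0a0a0005)))) (.node 81044 (.node 81042 (.leaf 0x12d77013c90) (.node 81043 (.leaf 0xf0001) (.leaf 0x0))) (.node 81045 (.leaf 0xa0f0002) (.node 81046 (.leaf 0x0) (.leaf 0x0))))))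

def argWS_7183 : Store := (.node 81024 argWS_7181 argWS_7182)

def argWS_7184 : Store := (.node 81058 (.node 81052 (.node 81049 (.node 81048 (.leaf 0xb0a0a0003) (.leaf 0x6000202090000000703040103000d)) (.node 81050 (.leaf 0x0) (.node 81051 (.leaf 0xe0001) (.leaf 0x0)))) (.node 81055 (.node 81053 (.leaf 0xb0a0002) (.node 81054 (.leaf 0x13c9c013c9b) (.leaf 0xa0f0b0003))) (.node 81056 (.leaf 0x0) (.node 81057 (.leaf 0xd0b0002) (.leaf 0x0))))) (.node 81063 (.node 81060 (.node 81059 (.leaf 0x0) (.leaf 0xf0b0b0a0a0005)) (.node 81061 (.leaf 0x2000000090206020202000701000d) (.node 81062 (.leaf 0x0) (.leaf 0xb0a0f0003)))) (.node 81066 (.node 81064 (.leaf 0x0) (.node 81065 (.leaf 0x13ca7) (.leaf 0xf0b0a0a0004))) (.node 81067 (.leaf 0x0) (.node 81068 (.leaf 0x0) (.leaf 0xe0001))))))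

def argWS_7185 : Store := (.node 81080 (.node 81074 (.node 81071 (.node 81070 (.leaf 0x503070206000202000701000c) (.leaf 0x0)) (.node 81072 (.leaf 0x0) (.node 81073 (.leaf 0x11459013caf) (.leaf 0x60201090109000703040103000c)))) (.node 81077 (.node 81075 (.leaf 0x0) (.node 81076 (.leaf 0xd0001) (.leaf 0x0))) (.node 81078 (.leaf 0xd0b0b0003) (.node 81079 (.leaf 0x0) (.leaf 0x0))))) (.node 81086 (.node 81083 (.node 81081 (.leaf 0xe0a0002) (.node 81082 (.leaf 0x3050901090202000701000a) (.leaf 0x0))) (.node 81084 (.leaf 0xe0d0002) (.node 81085 (.leaf 0x0) (.leaf 0x13cbc)))) (.node 81089 (.node 81087 (.leaf 0xb0a0a0003) (.node 81088 (.leaf 0x0) (.leaf 0xf0b0a0a0004))) (.node 81090 (.leaf 0x0) (.node 81091 (.leaf 0x0) (.leaf 0x4000300000300000202000701000d))))))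

def argWS_7186 : Store := (.node 81069 argWS_7184 argWS_7185)

def argWS_7187 : Store := (.node 81047 argWS_7183 argWS_7186)

def argWS_7188 : Store := (.node 81103 (.node 81097 (.node 81094 (.node 81093 (.leaf 0x0) (.leaf 0x0)) (.node 81095 (.leaf 0x40004060207020703040103000c) (.node 81096 (.leaf 0x0) (.leaf 0xf0b0b0003)))) (.node 81100 (.node 81098 (.leaf 0x0) (.node 81099 (.leaf 0xb0001) (.leaf 0x13cca013cc9))) (.node 81101 (.leaf 0x0) (.node 81102 (.leaf 0x9070006020702010008) (.leaf 0x0))))) (.node 81108 (.node 81105 (.node 81104 (.leaf 0xf0b0b0003) (.leaf 0xd0b0002)) (.node 81106 (.leaf 0xf0001) (.node 81107 (.leaf 0xa0a0002) (.leaf 0x13cd2013cd1)))) (.node 81111 (.node 81109 (.leaf 0x605010603050004000703040103000e) (.node 81110 (.leaf 0x0) (.leaf 0xb0001))) (.node 81112 (.leaf 0x0) (.node 81113 (.leaf 0xd0001) (.leaf 0x0))))))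

def argWS_7189 : Store := (.node 81125 (.node 81119 (.node 81116 (.node 81115 (.leaf 0x0) (.leaf 0xe0d0002)) (.node 81117 (.leaf 0x2020006020702010202000701000d) (.node 81118 (.leaf 0x0) (.leaf 0xb0f0a0003)))) (.node 81122 (.node 81120 (.leaf 0x0) (.node 81121 (.leaf 0x13cdf) (.leaf 0xf0b0b0a0004))) (.node 81123 (.leaf 0x0) (.node 81124 (.leaf 0xb0a0f0003) (.leaf 0x0))))) (.node 81131 (.node 81128 (.node 81126 (.leaf 0x0) (.node 81127 (.leaf 0xa0f0b0b0004) (.leaf 0xf0b0a0a0004))) (.node 81129 (.leaf 0x13ce7) (.node 81130 (.leaf 0xf0a0a0003) (.leaf 0x0)))) (.node 81134 (.node 81132 (.leaf 0x90000090206020008) (.node 81133 (.leaf 0x0) (.leaf 0xb0f0002))) (.node 81135 (.leaf 0xa0f0b0003) (.node 81136 (.leaf 0xd0001) (.leaf 0xf0b0a0a0004))))))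

def argWS_7190 : Store := (.node 81114 argWS_7188 argWS_7189)

def argWS_7191 : Store := (.node 81148 (.node 81142 (.node 81139 (.node 81138 (.leaf 0x13cf0013cef) (.leaf 0xe0d0002)) (.node 81140 (.leaf 0x0) (.node 81141 (.leaf 0x0) (.leaf 0xb0b0002)))) (.node 81145 (.node 81143 (.leaf 0x503000408010007) (.node 81144 (.leaf 0x0) (.leaf 0xe0001))) (.node 81146 (.leaf 0x0) (.node 81147 (.leaf 0xf0b0a0003) (.leaf 0xf0b0b0a0a0005))))) (.node 81153 (.node 81150 (.node 81149 (.leaf 0x13cfb013cfa) (.leaf 0xa0a0002)) (.node 81151 (.leaf 0x0) (.node 81152 (.leaf 0xf0b0a0003) (.leaf 0x0)))) (.node 81156 (.node 81154 (.leaf 0x0) (.node 81155 (.leaf 0xb0f0002) (.leaf 0x109000902020007010009))) (.node 81157 (.leaf 0x0) (.node 81158 (.leaf 0xd0001) (.leaf 0x0))))))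

def argWS_7192 : Store := (.node 81170 (.node 81164 (.node 81161 (.node 81160 (.leaf 0x4000306020702010008) (.leaf 0x0)) (.node 81162 (.leaf 0xb0f0a0a0004) (.node 81163 (.leaf 0x0) (.leaf 0x13d0a013d06)))) (.node 81167 (.node 81165 (.leaf 0x303050004000703040103000b) (.node 81166 (.leaf 0x0) (.leaf 0xf0b0b0a0004))) (.node 81168 (.leaf 0x0) (.node 81169 (.leaf 0xf0b0b0a0004) (.leaf 0x0))))) (.node 81176 (.node 81173 (.node 81171 (.leaf 0x0) (.node 81172 (.leaf 0xb0f0a0003) (.leaf 0xf0b0a0a0004))) (.node 81174 (.leaf 0xe0d0002) (.node 81175 (.leaf 0x13d15013d14) (.leaf 0xb0b0a0003)))) (.node 81179 (.node 81177 (.leaf 0x0) (.node 81178 (.leaf 0xb0f0a0003) (.leaf 0x0))) (.node 81180 (.leaf 0x0) (.node 81181 (.leaf 0x505020202010006) (.leaf 0x0))))))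

def argWS_7193 : Store := (.node 81159 argWS_7191 argWS_7192)

def argWS_7194 : Store := (.node 81137 argWS_7190 argWS_7193)

def argWS_7195 : Store := (.node 81092 argWS_7187 argWS_7194)

def argWS_7196 : Store := (.node 81002 argWS_7180 argWS_7195)

def argWS_7197 : Store := (.node 81193 (.node 81187 (.node 81184 (.node 81183 (.leaf 0x0) (.leaf 0xb0b0002)) (.node 81185 (.leaf 0xd0001) (.node 81186 (.leaf 0x13d20013d1f) (.leaf 0xb0001)))) (.node 81190 (.node 81188 (.leaf 0x0) (.node 81189 (.leaf 0x2020207020600000703040103000d) (.leaf 0x0))) (.node 81191 (.leaf 0xa0a0002) (.node 81192 (.leaf 0xf0a0002) (.leaf 0x5030507000903000703040103000d))))) (.node 81198 (.node 81195 (.node 81194 (.leaf 0x0) (.leaf 0xb0a0002)) (.node 81196 (.leaf 0x0) (.node 81197 (.leaf 0x13d2b) (.leaf 0x9030009020602000703040103000d)))) (.node 81201 (.node 81199 (.leaf 0x0) (.node 81200 (.leaf 0xf0b0002) (.leaf 0x0))) (.node 81202 (.leaf 0x0) (.node 81203 (.leaf 0x90400000300000202000701000c)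 (.leaf 0x0))))))

def argWS_7198 : Store := (.node 81215 (.node 81209 (.node 81206 (.node 81205 (.leaf 0xd0001) (.leaf 0x0)) (.node 81207 (.leaf 0xa0f0b0b0004) (.node 81208 (.leaf 0xf0a0002) (.leaf 0x13d37013d36)))) (.node 81212 (.node 81210 (.leaf 0xb0f0a0a0004) (.node 81211 (.leaf 0x0) (.leaf 0x90300070206000202000701000c))) (.node 81213 (.leaf 0x0) (.node 81214 (.leaf 0xa0f0b0003) (.leaf 0xa0f0002))))) (.node 81221 (.node 81218 (.node 81216 (.leaf 0xf0b0b0a0a0005) (.node 81217 (.leaf 0xb0f0a0a0004) (.leaf 0x13d40013d3f))) (.node 81219 (.leaf 0xf0b0a0a0004) (.node 81220 (.leaf 0x0) (.leaf 0x80508020401050008)))) (.node 81224 (.node 81222 (.leaf 0x0) (.node 81223 (.leaf 0xf0b0a0a0004) (.leaf 0xf0001))) (.node 81225 (.leaf 0xd0b0002) (.node 81226 (.leaf 0xf0a0a0003) (.leaf 0x13d49013d48))))))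

def argWS_7199 : Store := (.node 81204 argWS_7197 argWS_7198)

def argWS_7200 : Store := (.node 81238 (.node 81232 (.node 81229 (.node 81228 (.leaf 0xb0f0002) (.leaf 0x0)) (.node 81230 (.leaf 0x901090802040105000a) (.node 81231 (.leaf 0x0) (.leaf 0x0)))) (.node 81235 (.node 81233 (.leaf 0x0) (.node 81234 (.leaf 0xd0b0002) (.leaf 0xf0b0002))) (.node 81236 (.leaf 0x13d52) (.node 81237 (.leaf 0xb0f0a0003) (.leaf 0x0))))) (.node 81243 (.node 81240 (.node 81239 (.leaf 0x0) (.leaf 0x0)) (.node 81241 (.leaf 0x60503010102000202000701000c) (.node 81242 (.leaf 0x0) (.leaf 0x0)))) (.node 81246 (.node 81244 (.leaf 0x0) (.node 81245 (.leaf 0x0) (.leaf 0x0))) (.node 81247 (.leaf 0x0) (.node 81248 (.leaf 0x0) (.leaf 0x0))))))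

def argWS_7201 : Store := (.node 81260 (.node 81254 (.node 81251 (.node 81250 (.leaf 0x0) (.leaf 0x0)) (.node 81252 (.leaf 0x0) (.node 81253 (.leaf 0x0) (.leaf 0x0)))) (.node 81257 (.node 81255 (.leaf 0x0) (.node 81256 (.leaf 0x0) (.leaf 0x0))) (.node 81258 (.leaf 0x0) (.node 81259 (.leaf 0x0) (.leaf 0x0))))) (.node 81266 (.node 81263 (.node 81261 (.leaf 0x0) (.node 81262 (.leaf 0x0) (.leaf 0x0))) (.node 81264 (.leaf 0x0) (.node 81265 (.leaf 0x0) (.leaf 0x0)))) (.node 81269 (.node 81267 (.leaf 0x0) (.node 81268 (.leaf 0x0) (.leaf 0x0))) (.node 81270 (.leaf 0x0) (.node 81271 (.leaf 0x0) (.leaf 0xa0a0002))))))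

def argWS_7202 : Store := (.node 81249 argWS_7200 argWS_7201)

def argWS_7203 : Store := (.node 81227 argWS_7199 argWS_7202)

def argWS_7204 : Store := (.node 81283 (.node 81277 (.node 81274 (.node 81273 (.leaf 0xf0a0002) (.leaf 0xa0f0b0003)) (.node 81275 (.leaf 0x13d79013d78) (.node 81276 (.leaf 0x20106010500020007) (.leaf 0x0)))) (.node 81280 (.node 81278 (.leaf 0xa0001) (.node 81279 (.leaf 0x0) (.leaf 0xb0f0a0003))) (.node 81281 (.leaf 0x0) (.node 81282 (.leaf 0x0) (.leaf 0xb0a0002))))) (.node 81288 (.node 81285 (.node 81284 (.leaf 0xe0a0a0003) (.leaf 0x13d83)) (.node 81286 (.leaf 0x1070400050202000701000a) (.node 81287 (.leaf 0x0) (.leaf 0xf0a0a0003)))) (.node 81291 (.node 81289 (.leaf 0x0) (.node 81290 (.leaf 0xa0f0b0b0004) (.leaf 0x0))) (.node 81292 (.leaf 0x0) (.node 81293 (.leaf 0x10502000408010202000701000c) (.leaf 0x0))))))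

def argWS_7205 : Store := (.node 81305 (.node 81299 (.node 81296 (.node 81295 (.leaf 0xf0b0a0003) (.leaf 0x0)) (.node 81297 (.leaf 0xa0001) (.node 81298 (.leaf 0xf0b0a0a0004) (.leaf 0x13d91013d90)))) (.node 81302 (.node 81300 (.leaf 0xd0b0002) (.node 81301 (.leaf 0x0) (.leaf 0x101090806000006))) (.node 81303 (.leaf 0x0) (.node 81304 (.leaf 0xb0b0002) (.leaf 0xf0b0002))))) (.node 81311 (.node 81308 (.node 81306 (.leaf 0xf0a0a0003) (.node 81307 (.leaf 0x13d99) (.leaf 0xa0f0b0003))) (.node 81309 (.leaf 0x0) (.node 81310 (.leaf 0xb0f0a0a0004) (.leaf 0x0)))) (.node 81314 (.node 81312 (.leaf 0x0) (.node 81313 (.leaf 0x8000009080600000703040103000d) (.leaf 0x0))) (.node 81315 (.leaf 0xf0b0b0003) (.node 81316 (.leaf 0x0) (.leaf 0x20603010102000202000701000c))))))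

def argWS_7206 : Store := (.node 81294 argWS_7204 argWS_7205)

def argWS_7207 : Store := (.node 81328 (.node 81322 (.node 81319 (.node 81318 (.leaf 0x0) (.leaf 0xf0b0a0003)) (.node 81320 (.leaf 0x0) (.node 81321 (.leaf 0x13da7013da3) (.leaf 0xe0a0002)))) (.node 81325 (.node 81323 (.leaf 0x0) (.node 81324 (.leaf 0xb0b0002) (.leaf 0x0))) (.node 81326 (.leaf 0x0) (.node 81327 (.leaf 0xb0f0002) (.leaf 0xb0a0a0003))))) (.node 81333 (.node 81330 (.node 81329 (.leaf 0xa0f0002) (.leaf 0x13db0013daf)) (.node 81331 (.leaf 0xa0001) (.node 81332 (.leaf 0x0) (.leaf 0xb0b0a0a0004)))) (.node 81336 (.node 81334 (.leaf 0x0) (.node 81335 (.leaf 0x0) (.leaf 0xf0b0b0a0a0005))) (.node 81337 (.leaf 0x13db7) (.node 81338 (.leaf 0xb0a0a0003) (.leaf 0x0))))))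

def argWS_7208 : Store := (.node 81350 (.node 81344 (.node 81341 (.node 81340 (.leaf 0xb0a0002) (.leaf 0x0)) (.node 81342 (.leaf 0x0) (.node 81343 (.leaf 0xb0f0002) (.leaf 0xf0001)))) (.node 81347 (.node 81345 (.leaf 0x13dbf00a726) (.node 81346 (.leaf 0xf0a0002) (.leaf 0x0))) (.node 81348 (.leaf 0xb0001) (.node 81349 (.leaf 0x0) (.leaf 0x0))))) (.node 81356 (.node 81353 (.node 81351 (.leaf 0xf0b0002) (.node 81352 (.leaf 0xa0a0002) (.leaf 0x13dc7))) (.node 81354 (.leaf 0xa0f0b0b0004) (.node 81355 (.leaf 0x0) (.leaf 0xf0001)))) (.node 81359 (.node 81357 (.leaf 0x0) (.node 81358 (.leaf 0x0) (.leaf 0xf0b0b0a0a0005))) (.node 81360 (.leaf 0xf0001) (.node 81361 (.leaf 0x13dcf) (.leaf 0xf0a0002))))))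

def argWS_7209 : Store := (.node 81339 argWS_7207 argWS_7208)

def argWS_7210 : Store := (.node 81317 argWS_7206 argWS_7209)

def argWS_7211 : Store := (.node 81272 argWS_7203 argWS_7210)

def argWS_7212 : Store := (.node 81373 (.node 81367 (.node 81364 (.node 81363 (.leaf 0x0) (.leaf 0xb0001)) (.node 81365 (.leaf 0x0) (.node 81366 (.leaf 0x0) (.leaf 0xf0b0b0a0a0005)))) (.node 81370 (.node 81368 (.leaf 0x689b) (.node 81369 (.leaf 0x7000000090206020802040105000d) (.leaf 0x0))) (.node 81371 (.leaf 0xa0a0002) (.node 81372 (.leaf 0x0) (.leaf 0xb0f0a0a0004))))) (.node 81378 (.node 81375 (.node 81374 (.leaf 0x0) (.leaf 0x0)) (.node 81376 (.leaf 0xe0a0a0003) (.node 81377 (.leaf 0xb0b0a0003) (.leaf 0x13de0)))) (.node 81381 (.node 81379 (.leaf 0xf0b0a0003) (.node 81380 (.leaf 0x0) (.leaf 0xf0b0b0a0004))) (.node 81382 (.leaf 0x0) (.node 81383 (.leaf 0x0) (.leaf 0x2060106030500040202000701000d))))))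

def argWS_7213 : Store := (.node 81395 (.node 81389 (.node 81386 (.node 81385 (.leaf 0x0) (.leaf 0xa0f0002)) (.node 81387 (.leaf 0x0) (.node 81388 (.leaf 0x4040900090202000701000a) (.leaf 0x0)))) (.node 81392 (.node 81390 (.leaf 0xd0b0b0003) (.node 81391 (.leaf 0x0) (.leaf 0x13dee013dea))) (.node 81393 (.leaf 0xf0b0a0a0004) (.node 81394 (.leaf 0x0) (.leaf 0xa0a0002))))) (.node 81401 (.node 81398 (.node 81396 (.leaf 0x0) (.node 81397 (.leaf 0x0) (.leaf 0xd0b0002))) (.node 81399 (.leaf 0x13df5012bdf) (.node 81400 (.leaf 0xa0f0b0003) (.leaf 0x0)))) (.node 81404 (.node 81402 (.leaf 0xf0001) (.node 81403 (.leaf 0x0) (.leaf 0x0))) (.node 81405 (.leaf 0xe0a0002) (.node 81406 (.leaf 0xa0f0b0003) (.leaf 0xe0a0002))))))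

def argWS_7214 : Store := (.node 81384 argWS_7212 argWS_7213)

def argWS_7215 : Store := (.node 81418 (.node 81412 (.node 81409 (.node 81408 (.leaf 0x13dfe013dfd) (.leaf 0xf0b0002)) (.node 81410 (.leaf 0x0) (.node 81411 (.leaf 0xb0f0a0003) (.leaf 0x0)))) (.node 81415 (.node 81413 (.leaf 0x0) (.node 81414 (.leaf 0x60007000903000703040103000d) (.leaf 0x0))) (.node 81416 (.leaf 0xb0b0002) (.node 81417 (.leaf 0x0) (.leaf 0x9070007020600000703040103000d))))) (.node 81423 (.node 81420 (.node 81419 (.leaf 0x0) (.leaf 0xe0a0002)) (.node 81421 (.leaf 0x0) (.node 81422 (.leaf 0xd0b0002) (.leaf 0x13e0d013e0c)))) (.node 81426 (.node 81424 (.leaf 0x0) (.node 81425 (.leaf 0xb0b0002) (.leaf 0x0))) (.node 81427 (.leaf 0x0) (.node 81428 (.leaf 0x4000402010606000703040103000d) (.leaf 0x0))))))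

def argWS_7216 : Store := (.node 81440 (.node 81434 (.node 81431 (.node 81430 (.leaf 0xd0b0002) (.leaf 0x0)) (.node 81432 (.leaf 0xb0a0a0003) (.node 81433 (.leaf 0xf0a0a0003) (.leaf 0x13e18013e17)))) (.node 81437 (.node 81435 (.leaf 0x0) (.node 81436 (.leaf 0xb0a0002) (.leaf 0x0))) (.node 81438 (.leaf 0x0) (.node 81439 (.leaf 0xe0d0002) (.leaf 0xf0b0b0a0a0005))))) (.node 81446 (.node 81443 (.node 81441 (.leaf 0x503040005000703040103000b) (.node 81442 (.leaf 0x0) (.leaf 0xf0a0a0003))) (.node 81444 (.leaf 0x0) (.node 81445 (.leaf 0x13e23013e1f) (.leaf 0xe0001)))) (.node 81449 (.node 81447 (.leaf 0x0) (.node 81448 (.leaf 0xb0b0a0003) (.leaf 0x0))) (.node 81450 (.leaf 0x0) (.node 81451 (.leaf 0xb0f0a0a0004) (.leaf 0xb0f0a0003))))))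

def argWS_7217 : Store := (.node 81429 argWS_7215 argWS_7216)

def argWS_7218 : Store := (.node 81407 argWS_7214 argWS_7217)

def argWS_7219 : Store := (.node 81463 (.node 81457 (.node 81454 (.node 81453 (.leaf 0x603090206020802040105000b) (.leaf 0x0)) (.node 81455 (.leaf 0xb0f0a0003) (.node 81456 (.leaf 0x0) (.leaf 0x13e2f013e2b)))) (.node 81460 (.node 81458 (.leaf 0xb0f0a0003) (.node 81459 (.leaf 0x0) (.leaf 0xd0001))) (.node 81461 (.leaf 0x0) (.node 81462 (.leaf 0x0) (.leaf 0xa0f0b0b0004))))) (.node 81468 (.node 81465 (.node 81464 (.leaf 0x10301070306000703040103000c) (.leaf 0x0)) (.node 81466 (.leaf 0xb0a0a0003) (.node 81467 (.leaf 0x0) (.leaf 0x13e3a)))) (.node 81471 (.node 81469 (.leaf 0xb0b0a0a0004) (.node 81470 (.leaf 0x0) (.leaf 0xa0f0b0b0004))) (.node 81472 (.leaf 0x0) (.node 81473 (.leaf 0x0) (.leaf 0xf0001))))))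

def argWS_7220 : Store := (.node 81485 (.node 81479 (.node 81476 (.node 81475 (.leaf 0xf0b0002) (.leaf 0x13e42)) (.node 81477 (.leaf 0x2040005000703040103000b) (.node 81478 (.leaf 0x0) (.leaf 0xe0d0002)))) (.node 81482 (.node 81480 (.leaf 0x0) (.node 81481 (.leaf 0xf0b0002) (.leaf 0x0))) (.node 81483 (.leaf 0x0) (.node 81484 (.leaf 0xf0b0b0003) (.leaf 0xe0d0002))))) (.node 81491 (.node 81488 (.node 81486 (.leaf 0x13e4c) (.node 81487 (.leaf 0xb0b0a0003) (.leaf 0x0))) (.node 81489 (.leaf 0xb0f0a0003) (.node 81490 (.leaf 0x0) (.leaf 0x0)))) (.node 81494 (.node 81492 (.leaf 0xa0f0b0003) (.node 81493 (.leaf 0x800020106060802040105000c) (.leaf 0x0))) (.node 81495 (.leaf 0xa0f0b0b0004) (.node 81496 (.leaf 0x0) (.leaf 0x305010908050202000701000b))))))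

def argWS_7221 : Store := (.node 81474 argWS_7219 argWS_7220)

def argWS_7222 : Store := (.node 81508 (.node 81502 (.node 81499 (.node 81498 (.leaf 0x0) (.leaf 0xb0b0002)) (.node 81500 (.leaf 0x0) (.node 81501 (.leaf 0x13e5b013e57) (.leaf 0x301070009030802040105000b)))) (.node 81505 (.node 81503 (.leaf 0x0) (.node 81504 (.leaf 0xb0a0f0003) (.leaf 0x0))) (.node 81506 (.leaf 0xb0b0a0a0004) (.node 81507 (.leaf 0x0) (.leaf 0x0))))) (.node 81514 (.node 81511 (.node 81509 (.leaf 0xf0b0a0003) (.node 81510 (.leaf 0xd0001) (.leaf 0xa0a0002))) (.node 81512 (.leaf 0x13e66013e65) (.node 81513 (.leaf 0x0) (.leaf 0xa0f0b0b0004)))) (.node 81517 (.node 81515 (.leaf 0x0) (.node 81516 (.leaf 0x0) (.leaf 0xb0b0002))) (.node 81518 (.leaf 0xb0f0a0003) (.node 81519 (.leaf 0x8020000000300000802040105000d) (.leaf 0x0))))))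

def argWS_7223 : Store := (.node 81531 (.node 81525 (.node 81522 (.node 81521 (.leaf 0xe0d0002) (.leaf 0x0)) (.node 81523 (.leaf 0x13e71013e6d) (.node 81524 (.leaf 0xe0001) (.leaf 0x0)))) (.node 81528 (.node 81526 (.leaf 0x0) (.node 81527 (.leaf 0xb0f0a0a0004) (.leaf 0xb0f0002))) (.node 81529 (.leaf 0xd0b0b0003) (.node 81530 (.leaf 0x13e78013e77) (.leaf 0x0))))) (.node 81537 (.node 81534 (.node 81532 (.leaf 0xf0b0a0a0004) (.node 81533 (.leaf 0x0) (.leaf 0x0))) (.node 81535 (.leaf 0x209010003) (.node 81536 (.leaf 0x0) (.leaf 0xe0a0002)))) (.node 81540 (.node 81538 (.leaf 0x0) (.node 81539 (.leaf 0x200050007030401030009) (.leaf 0x0))) (.node 81541 (.leaf 0xa0a0002) (.node 81542 (.leaf 0x0) (.leaf 0x13e85))))))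

def argWS_7224 : Store := (.node 81520 argWS_7222 argWS_7223)

def argWS_7225 : Store := (.node 81497 argWS_7221 argWS_7224)

def argWS_7226 : Store := (.node 81452 argWS_7218 argWS_7225)

def argWS_7227 : Store := (.node 81362 argWS_7211 argWS_7226)

def argWS_7228 : Store := (.node 81182 argWS_7196 argWS_7227)

def argWS_7229 : Store := (.node 81554 (.node 81548 (.node 81545 (.node 81544 (.leaf 0xf0a0002) (.leaf 0x0)) (.node 81546 (.leaf 0xb0f0002) (.node 81547 (.leaf 0x0) (.leaf 0x0)))) (.node 81551 (.node 81549 (.leaf 0xd0001) (.node 81550 (.leaf 0xb0f0002) (.leaf 0x40205020000030703040103000c))) (.node 81552 (.leaf 0x0) (.node 81553 (.leaf 0x0) (.leaf 0x13e90013e8d))))) (.node 81559 (.node 81556 (.node 81555 (.leaf 0xf0b0b0a0a0005) (.leaf 0x0)) (.node 81557 (.leaf 0xf0b0b0003) (.node 81558 (.leaf 0x0) (.leaf 0x0)))) (.node 81562 (.node 81560 (.leaf 0x602000401050006) (.node 81561 (.leaf 0x0) (.leaf 0xe0a0002))) (.node 81563 (.leaf 0x0) (.node 81564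 (.leaf 0x10502050206040202000701000c) (.leaf 0x0))))))

def argWS_7230 : Store := (.node 81576 (.node 81570 (.node 81567 (.node 81566 (.leaf 0x0) (.leaf 0x13e9d013e9a)) (.node 81568 (.leaf 0xd0b0b0003) (.node 81569 (.leaf 0x0) (.leaf 0xb0a0a0003)))) (.node 81573 (.node 81571 (.leaf 0x0) (.node 81572 (.leaf 0x0) (.leaf 0xd0001))) (.node 81574 (.leaf 0x206000300000006) (.node 81575 (.leaf 0x0) (.leaf 0x0))))) (.node 81582 (.node 81579 (.node 81577 (.leaf 0x13ea700c4ec) (.node 81578 (.leaf 0x603010400050202000701000b) (.leaf 0x0))) (.node 81580 (.leaf 0xf0b0002) (.node 81581 (.leaf 0x0) (.leaf 0xe0a0a0003)))) (.node 81585 (.node 81583 (.leaf 0x0) (.node 81584 (.leaf 0x0) (.leaf 0x80500070206000802040105000c))) (.node 81586 (.leaf 0x0) (.node 81587 (.leaf 0xf0b0002) (.leaf 0x0))))))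

def argWS_7231 : Store := (.node 81565 argWS_7229 argWS_7230)

def argWS_7232 : Store := (.node 81599 (.node 81593 (.node 81590 (.node 81589 (.leaf 0x805000202090000000703040103000e) (.leaf 0x0)) (.node 81591 (.leaf 0xa0f0b0b0004) (.node 81592 (.leaf 0x0) (.leaf 0xf0b0b0a0004)))) (.node 81596 (.node 81594 (.leaf 0x13eb8013eb7) (.node 81595 (.leaf 0xf0b0b0a0a0005) (.leaf 0x0))) (.node 81597 (.leaf 0x8020002020007010008) (.node 81598 (.leaf 0x0) (.leaf 0xa0f0b0b0004))))) (.node 81604 (.node 81601 (.node 81600 (.leaf 0x1030900090202000701000a) (.leaf 0x0)) (.node 81602 (.leaf 0xd0b0b0003) (.node 81603 (.leaf 0x0) (.leaf 0xe0d0002)))) (.node 81607 (.node 81605 (.leaf 0x50305020202010202000701000c) (.node 81606 (.leaf 0x0) (.leaf 0x0))) (.node 81608 (.leaf 0x13ec6013ec3) (.node 81609 (.leaf 0xd0b0b0003) (.leaf 0x0))))))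

def argWS_7233 : Store := (.node 81621 (.node 81615 (.node 81612 (.node 81611 (.leaf 0x500040003) (.leaf 0x0)) (.node 81613 (.leaf 0xa0001) (.node 81614 (.leaf 0xf0a0002) (.leaf 0xb0a0002)))) (.node 81618 (.node 81616 (.leaf 0x13ece) (.node 81617 (.leaf 0xb0b0a0a0004) (.leaf 0x0))) (.node 81619 (.leaf 0xb0a0a0003) (.node 81620 (.leaf 0x0) (.leaf 0x0))))) (.node 81627 (.node 81624 (.node 81622 (.leaf 0xd0001) (.node 81623 (.leaf 0x205070206000006) (.leaf 0x0))) (.node 81625 (.leaf 0xb0a0f0003) (.node 81626 (.leaf 0x0) (.leaf 0x13ed9)))) (.node 81630 (.node 81628 (.leaf 0xb0a0f0003) (.node 81629 (.leaf 0x0) (.leaf 0x304010904020006))) (.node 81631 (.leaf 0x0) (.node 81632 (.leaf 0xf0001) (.leaf 0x503070209020202000701000b))))))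

def argWS_7234 : Store := (.node 81610 argWS_7232 argWS_7233)

def argWS_7235 : Store := (.node 81588 argWS_7231 argWS_7234)

def argWS_7236 : Store := (.node 81644 (.node 81638 (.node 81635 (.node 81634 (.leaf 0x0) (.leaf 0xf0b0b0a0a0005)) (.node 81636 (.leaf 0x0) (.node 81637 (.leaf 0x13916) (.leaf 0xb0f0a0003)))) (.node 81641 (.node 81639 (.leaf 0x0) (.node 81640 (.leaf 0x202000408010802040105000b) (.leaf 0x0))) (.node 81642 (.leaf 0xf0b0a0003) (.node 81643 (.leaf 0x70209080600000703040103000c) (.leaf 0x0))))) (.node 81649 (.node 81646 (.node 81645 (.leaf 0xf0b0002) (.leaf 0x0)) (.node 81647 (.leaf 0xd0b0b0003) (.node 81648 (.leaf 0xa0f0002) (.leaf 0x13eef013eee)))) (.node 81652 (.node 81650 (.leaf 0xb0001) (.node 81651 (.leaf 0x0) (.leaf 0xe0001))) (.node 81653 (.leaf 0x0) (.node 81654 (.leaf 0xa0f0b0003) (.leaf 0xb0b0a0003))))))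

def argWS_7237 : Store := (.node 81666 (.node 81660 (.node 81657 (.node 81656 (.leaf 0x13ef6) (.leaf 0xf0001)) (.node 81658 (.leaf 0x0) (.node 81659 (.leaf 0xf0b0a0003) (.leaf 0x0)))) (.node 81663 (.node 81661 (.leaf 0x0) (.node 81662 (.leaf 0xb0f0a0003) (.leaf 0xb0a0002))) (.node 81664 (.leaf 0x1384e013efe) (.node 81665 (.leaf 0xa0f0002) (.leaf 0x0))))) (.node 81672 (.node 81669 (.node 81667 (.leaf 0xe0a0002) (.node 81668 (.leaf 0x0) (.leaf 0x0))) (.node 81670 (.leaf 0xd0b0b0003) (.node 81671 (.leaf 0x4000900090202000701000a) (.leaf 0x0)))) (.node 81675 (.node 81673 (.leaf 0xf0b0b0003) (.node 81674 (.leaf 0x0) (.leaf 0xb0001))) (.node 81676 (.leaf 0x13f0a013f09) (.node 81677 (.leaf 0x60502000003010202000701000c) (.leaf 0x0))))))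

def argWS_7238 : Store := (.node 81655 argWS_7236 argWS_7237)

def argWS_7239 : Store := (.node 81689 (.node 81683 (.node 81680 (.node 81679 (.leaf 0xa0f0b0003) (.leaf 0x0)) (.node 81681 (.leaf 0xb0f0002) (.node 81682 (.leaf 0x0) (.leaf 0x0)))) (.node 81686 (.node 81684 (.leaf 0xa0f0b0003) (.node 81685 (.leaf 0xb0001) (.leaf 0x13f14))) (.node 81687 (.leaf 0x3040103080202000701000a) (.node 81688 (.leaf 0x0) (.leaf 0xf0b0b0a0004))))) (.node 81694 (.node 81691 (.node 81690 (.leaf 0x0) (.leaf 0xf0b0b0a0a0005)) (.node 81692 (.leaf 0x0) (.node 81693 (.leaf 0x0) (.leaf 0xa0f0002)))) (.node 81697 (.node 81695 (.leaf 0x60501090402000703040103000c) (.node 81696 (.leaf 0x0) (.leaf 0xa0a0002))) (.node 81698 (.leaf 0x0) (.node 81699 (.leaf 0xe0a0002) (.leaf 0x13f22013f21))))))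

def argWS_7240 : Store := (.node 81711 (.node 81705 (.node 81702 (.node 81701 (.leaf 0x90103010102000202000701000c) (.leaf 0x0)) (.node 81703 (.leaf 0xa0a0002) (.node 81704 (.leaf 0x0) (.leaf 0xa0f0b0b0004)))) (.node 81708 (.node 81706 (.leaf 0x0) (.node 81707 (.leaf 0x0) (.leaf 0xb0f0002))) (.node 81709 (.leaf 0xd0001) (.node 81710 (.leaf 0xe0001) (.leaf 0x13f2d013f2c))))) (.node 81717 (.node 81714 (.node 81712 (.leaf 0xf0a0a0003) (.node 81713 (.leaf 0x0) (.leaf 0xb0f0a0003))) (.node 81715 (.leaf 0x0) (.node 81716 (.leaf 0x0) (.leaf 0x40202020007010007)))) (.node 81720 (.node 81718 (.leaf 0x0) (.node 81719 (.leaf 0x0) (.leaf 0xe0d0002))) (.node 81721 (.leaf 0x13f37) (.node 81722 (.leaf 0xb0b0002) (.leaf 0x0))))))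

def argWS_7241 : Store := (.node 81700 argWS_7239 argWS_7240)

def argWS_7242 : Store := (.node 81678 argWS_7238 argWS_7241)

def argWS_7243 : Store := (.node 81633 argWS_7235 argWS_7242)

def argWS_7244 : Store := (.node 81734 (.node 81728 (.node 81725 (.node 81724 (.leaf 0xd0b0b0003) (.leaf 0x0)) (.node 81726 (.leaf 0x0) (.node 81727 (.leaf 0xb0a0a0003) (.leaf 0xb0b0002)))) (.node 81731 (.node 81729 (.leaf 0x5010401050005) (.node 81730 (.leaf 0x0) (.leaf 0xb0f0002))) (.node 81732 (.leaf 0x0) (.node 81733 (.leaf 0x13f43013f3f) (.leaf 0xa0001))))) (.node 81739 (.node 81736 (.node 81735 (.leaf 0x0) (.leaf 0xe0a0002)) (.node 81737 (.leaf 0x0) (.node 81738 (.leaf 0x0) (.leaf 0x10705020202010007)))) (.node 81742 (.node 81740 (.leaf 0x0) (.node 81741 (.leaf 0xb0a0f0003) (.leaf 0x0))) (.node 81743 (.leaf 0xf0b0a0a0004) (.node 81744 (.leaf 0xb0f0002) (.leaf 0x13f4f013f4e))))))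

def argWS_7245 : Store := (.node 81756 (.node 81750 (.node 81747 (.node 81746 (.leaf 0xf0b0b0a0a0005) (.leaf 0x0)) (.node 81748 (.leaf 0xf0b0b0a0004) (.node 81749 (.leaf 0x0) (.leaf 0x0)))) (.node 81753 (.node 81751 (.leaf 0xb0a0f0003) (.node 81752 (.leaf 0x6e9c) (.leaf 0x6010201040005000703040103000d))) (.node 81754 (.leaf 0x0) (.node 81755 (.leaf 0xa0f0002) (.leaf 0x0))))) (.node 81762 (.node 81759 (.node 81757 (.leaf 0xe0d0002) (.node 81758 (.leaf 0x0) (.leaf 0x0))) (.node 81760 (.leaf 0xf0b0b0a0a0005) (.node 81761 (.leaf 0xf0b0002) (.leaf 0xd0b0b0003)))) (.node 81765 (.node 81763 (.leaf 0x13f61013f60) (.node 81764 (.leaf 0xd0b0b0003) (.leaf 0x0))) (.node 81766 (.leaf 0xe0d0002) (.node 81767 (.leaf 0x0) (.leaf 0x0))))))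

def argWS_7246 : Store := (.node 81745 argWS_7244 argWS_7245)

def argWS_7247 : Store := (.node 81779 (.node 81773 (.node 81770 (.node 81769 (.leaf 0x50300000300000202000701000d) (.leaf 0x0)) (.node 81771 (.leaf 0xb0001) (.node 81772 (.leaf 0x0) (.leaf 0xa0f0b0003)))) (.node 81776 (.node 81774 (.leaf 0x13f6c) (.node 81775 (.leaf 0xf0b0b0003) (.leaf 0x0))) (.node 81777 (.leaf 0x2090106010500020202000701000d) (.node 81778 (.leaf 0x0) (.leaf 0xb0001))))) (.node 81784 (.node 81781 (.node 81780 (.leaf 0xa0f0b0003) (.leaf 0xf0a0a0003)) (.node 81782 (.leaf 0xb0a0a0003) (.node 81783 (.leaf 0x13f75013f74) (.leaf 0xa0f0b0003)))) (.node 81787 (.node 81785 (.leaf 0x0) (.node 81786 (.leaf 0xb0f0002) (.leaf 0x0))) (.node 81788 (.leaf 0x0) (.node 81789 (.leaf 0x50202010606000703040103000c) (.leaf 0x0))))))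

def argWS_7248 : Store := (.node 81801 (.node 81795 (.node 81792 (.node 81791 (.leaf 0xb0b0a0003) (.leaf 0x0)) (.node 81793 (.leaf 0x6050102020900000202000701000d) (.node 81794 (.leaf 0x0) (.leaf 0x0)))) (.node 81798 (.node 81796 (.leaf 0x13b32013f82) (.node 81797 (.leaf 0xf0b0b0a0a0005) (.leaf 0x0))) (.node 81799 (.leaf 0x40003010904020007) (.node 81800 (.leaf 0x0) (.leaf 0xb0f0a0a0004))))) (.node 81807 (.node 81804 (.node 81802 (.leaf 0xf0b0b0a0a0005) (.node 81803 (.leaf 0xf0001) (.leaf 0xe0d0002))) (.node 81805 (.leaf 0x13f8b013f8a) (.node 81806 (.leaf 0xb0f0a0a0004) (.leaf 0x0)))) (.node 81810 (.node 81808 (.leaf 0xd0001) (.node 81809 (.leaf 0x0) (.leaf 0x0))) (.node 81811 (.leaf 0x90103080004) (.node 81812 (.leaf 0x0) (.leaf 0xd0b0002))))))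

def argWS_7249 : Store := (.node 81790 argWS_7247 argWS_7248)

def argWS_7250 : Store := (.node 81768 argWS_7246 argWS_7249)

def argWS_7251 : Store := (.node 81824 (.node 81818 (.node 81815 (.node 81814 (.leaf 0x0) (.leaf 0x13e10)) (.node 81816 (.leaf 0xb0b0a0a0004) (.node 81817 (.leaf 0x0) (.leaf 0xf0a0002)))) (.node 81821 (.node 81819 (.leaf 0x0) (.node 81820 (.leaf 0x0) (.leaf 0xf0a0a0003))) (.node 81822 (.leaf 0xa0f0b0b0004) (.node 81823 (.leaf 0x60201010703060202000701000c) (.leaf 0x0))))) (.node 81829 (.node 81826 (.node 81825 (.leaf 0xb0b0a0a0004) (.leaf 0x0)) (.node 81827 (.leaf 0x13fa1013f9d) (.node 81828 (.leaf 0xe0d0002) (.leaf 0x0)))) (.node 81832 (.node 81830 (.leaf 0xf0b0b0003) (.node 81831 (.leaf 0x0) (.leaf 0x0))) (.node 81833 (.leaf 0xe0a0a0003) (.node 81834 (.leaf 0x307030003) (.leaf 0x0))))))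

def argWS_7252 : Store := (.node 81846 (.node 81840 (.node 81837 (.node 81836 (.leaf 0xe0a0a0003) (.leaf 0x0)) (.node 81838 (.leaf 0x13fac) (.node 81839 (.leaf 0xe0001) (.leaf 0x0)))) (.node 81843 (.node 81841 (.leaf 0xf0001) (.node 81842 (.leaf 0x0) (.leaf 0x0))) (.node 81844 (.leaf 0x303090806000802040105000b) (.node 81845 (.leaf 0x0) (.leaf 0xf0b0a0003))))) (.node 81852 (.node 81849 (.node 81847 (.leaf 0x0) (.node 81848 (.leaf 0xb0b0002) (.leaf 0x13fb7))) (.node 81850 (.leaf 0xf0b0b0a0a0005) (.node 81851 (.leaf 0x0) (.leaf 0x20403050206040007)))) (.node 81855 (.node 81853 (.leaf 0x0) (.node 81854 (.leaf 0xf0b0b0003) (.leaf 0xb0f0002))) (.node 81856 (.leaf 0xb0a0f0003) (.node 81857 (.leaf 0x0) (.leaf 0x13fc0))))))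

def argWS_7253 : Store := (.node 81835 argWS_7251 argWS_7252)

def argWS_7254 : Store := (.node 81869 (.node 81863 (.node 81860 (.node 81859 (.leaf 0xb0b0002) (.leaf 0x0)) (.node 81861 (.leaf 0xf0b0a0a0004) (.node 81862 (.leaf 0x0) (.leaf 0x0)))) (.node 81866 (.node 81864 (.leaf 0xe0a0002) (.node 81865 (.leaf 0xa0f0002) (.leaf 0x403040400050006))) (.node 81867 (.leaf 0x0) (.node 81868 (.leaf 0xb0b0002) (.leaf 0x0))))) (.node 81875 (.node 81872 (.node 81870 (.leaf 0x13fcc013fc8) (.node 81871 (.leaf 0xa0a0002) (.leaf 0x0))) (.node 81873 (.leaf 0xb0f0a0a0004) (.node 81874 (.leaf 0x0) (.leaf 0x0)))) (.node 81878 (.node 81876 (.leaf 0xb0f0a0a0004) (.node 81877 (.leaf 0x60209020602000703040103000c) (.leaf 0x0))) (.node 81879 (.leaf 0xf0b0b0a0a0005) (.node 81880 (.leaf 0x0) (.leaf 0x13fd7))))))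

def argWS_7255 : Store := (.node 81892 (.node 81886 (.node 81883 (.node 81882 (.leaf 0xe0a0a0003) (.leaf 0x0)) (.node 81884 (.leaf 0xd0b0b0003) (.node 81885 (.leaf 0x0) (.leaf 0x0)))) (.node 81889 (.node 81887 (.leaf 0xb0a0002) (.node 81888 (.leaf 0x301010703060802040105000b) (.leaf 0x0))) (.node 81890 (.leaf 0x0) (.node 81891 (.leaf 0x13fe1) (.leaf 0xb0f0a0a0004))))) (.node 81898 (.node 81895 (.node 81893 (.leaf 0x0) (.node 81894 (.leaf 0xf0b0b0a0a0005) (.leaf 0x0))) (.node 81896 (.leaf 0x0) (.node 81897 (.leaf 0xf0b0b0003) (.leaf 0x608040002020007010009)))) (.node 81901 (.node 81899 (.leaf 0x0) (.node 81900 (.leaf 0xf0b0a0003) (.leaf 0x0))) (.node 81902 (.leaf 0x13fec0046c3) (.node 81903 (.leaf 0xf0a0a0003) (.leaf 0x0))))))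

def argWS_7256 : Store := (.node 81881 argWS_7254 argWS_7255)

def argWS_7257 : Store := (.node 81858 argWS_7253 argWS_7256)

def argWS_7258 : Store := (.node 81813 argWS_7250 argWS_7257)

def argWS_7259 : Store := (.node 81723 argWS_7243 argWS_7258)

def argWS_7260 : Store := (.node 81915 (.node 81909 (.node 81906 (.node 81905 (.leaf 0xa0a0002) (.leaf 0x0)) (.node 81907 (.leaf 0x0) (.node 81908 (.leaf 0xe0a0002) (.leaf 0x601020102020900000202000701000e)))) (.node 81912 (.node 81910 (.leaf 0x0) (.node 81911 (.leaf 0xd0b0b0003) (.leaf 0x0))) (.node 81913 (.leaf 0xb0001) (.node 81914 (.leaf 0x13ff8013ff7) (.leaf 0xa0f0b0b0004))))) (.node 81920 (.node 81917 (.node 81916 (.leaf 0x0) (.leaf 0xf0a0a0003)) (.node 81918 (.leaf 0x0) (.node 81919 (.leaf 0x0) (.leaf 0xb0f0a0a0004)))) (.node 81923 (.node 81921 (.leaf 0xb0a0002) (.node 81922 (.leaf 0x60000070206000007) (.leaf 0x0))) (.node 81924 (.leaf 0xf0b0b0003) (.node 81925 (.leaf 0x0) (.leaf 0x14004014000))))))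

def argWS_7261 : Store := (.node 81937 (.node 81931 (.node 81928 (.node 81927 (.leaf 0xb0b0a0a0004) (.leaf 0x0)) (.node 81929 (.leaf 0xa0001) (.node 81930 (.leaf 0x0) (.leaf 0x0)))) (.node 81934 (.node 81932 (.leaf 0x60105020202010202000701000c) (.node 81933 (.leaf 0x0) (.leaf 0xb0f0a0003))) (.node 81935 (.leaf 0x0) (.node 81936 (.leaf 0x1400e) (.leaf 0xf0001))))) (.node 81943 (.node 81940 (.node 81938 (.leaf 0x0) (.node 81939 (.leaf 0x1090806000202000701000a) (.leaf 0x0))) (.node 81941 (.leaf 0xa0001) (.node 81942 (.leaf 0xf0b0b0a0a0005) (.leaf 0xf0b0002)))) (.node 81946 (.node 81944 (.leaf 0x202000202090000000703040103000e) (.node 81945 (.leaf 0x0) (.leaf 0xb0a0a0003))) (.node 81947 (.leaf 0x0) (.node 81948 (.leaf 0x1401a014016) (.leaf 0xd0001))))))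

def argWS_7262 : Store := (.node 81926 argWS_7260 argWS_7261)

def argWS_7263 : Store := (.node 81960 (.node 81954 (.node 81951 (.node 81950 (.leaf 0x0) (.leaf 0xf0a0002)) (.node 81952 (.leaf 0x0) (.node 81953 (.leaf 0x0) (.leaf 0xb0b0a0003)))) (.node 81957 (.node 81955 (.leaf 0xa0f0b0b0004) (.node 81956 (.leaf 0x304070009020007010009) (.leaf 0x0))) (.node 81958 (.leaf 0xb0f0002) (.node 81959 (.leaf 0x0) (.leaf 0x14026014022))))) (.node 81965 (.node 81962 (.node 81961 (.leaf 0xf0b0b0a0004) (.leaf 0x0)) (.node 81963 (.leaf 0xf0a0002) (.node 81964 (.leaf 0x0) (.leaf 0x0)))) (.node 81968 (.node 81966 (.leaf 0xe0a0a0003) (.node 81967 (.leaf 0x204020804000006) (.leaf 0x0))) (.node 81969 (.leaf 0x0) (.node 81970 (.leaf 0x14030) (.leaf 0xa0001))))))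

def argWS_7264 : Store := (.node 81982 (.node 81976 (.node 81973 (.node 81972 (.leaf 0x0) (.leaf 0x30403070009030802040105000c)) (.node 81974 (.leaf 0x0) (.node 81975 (.leaf 0xa0f0002) (.leaf 0xe0001)))) (.node 81979 (.node 81977 (.leaf 0xb0a0002) (.node 81978 (.leaf 0x14038) (.leaf 0xa0f0b0b0004))) (.node 81980 (.leaf 0x0) (.node 81981 (.leaf 0xb0b0a0a0004) (.leaf 0x0))))) (.node 81988 (.node 81985 (.node 81983 (.leaf 0x0) (.node 81984 (.leaf 0xf0b0b0003) (.leaf 0xe0a0002))) (.node 81986 (.leaf 0xb0a0a0003) (.node 81987 (.leaf 0x14041014040) (.leaf 0xf0b0b0a0004)))) (.node 81991 (.node 81989 (.leaf 0x0) (.node 81990 (.leaf 0xb0b0a0003) (.leaf 0x0))) (.node 81992 (.leaf 0x0) (.node 81993 (.leaf 0x900070206000202000701000b) (.leaf 0x0))))))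

def argWS_7265 : Store := (.node 81971 argWS_7263 argWS_7264)

def argWS_7266 : Store := (.node 81949 argWS_7262 argWS_7265)

def argWS_7267 : Store := (.node 82005 (.node 81999 (.node 81996 (.node 81995 (.leaf 0xf0a0002) (.leaf 0x0)) (.node 81997 (.leaf 0xb0b0002) (.node 81998 (.leaf 0x1404c01404b) (.leaf 0xd0b0b0003)))) (.node 82002 (.node 82000 (.leaf 0x0) (.node 82001 (.leaf 0xb0b0a0a0004) (.leaf 0x0))) (.node 82003 (.leaf 0x0) (.node 82004 (.leaf 0xf0b0b0003) (.leaf 0xf0b0b0003))))) (.node 82010 (.node 82007 (.node 82006 (.leaf 0x40308020401050007) (.leaf 0x0)) (.node 82008 (.leaf 0x0) (.node 82009 (.leaf 0x14057014054) (.leaf 0xd0b0002)))) (.node 82013 (.node 82011 (.leaf 0x0) (.node 82012 (.leaf 0xa0f0b0003) (.leaf 0x0))) (.node 82014 (.leaf 0x0) (.node 82015 (.leaf 0xb0a0002) (.leaf 0x50201070009030007))))))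

def argWS_7268 : Store := (.node 82027 (.node 82021 (.node 82018 (.node 82017 (.leaf 0x0) (.leaf 0xf0b0b0003)) (.node 82019 (.leaf 0x0) (.node 82020 (.leaf 0x1070002020900000202000701000d) (.leaf 0x0)))) (.node 82024 (.node 82022 (.leaf 0xe0a0a0003) (.node 82023 (.leaf 0x0) (.leaf 0x14066014062))) (.node 82025 (.leaf 0xb0b0002) (.node 82026 (.leaf 0x0) (.leaf 0xf0001))))) (.node 82033 (.node 82030 (.node 82028 (.leaf 0x0) (.node 82029 (.leaf 0x0) (.leaf 0xb0b0a0003))) (.node 82031 (.leaf 0x80000000300000007) (.node 82032 (.leaf 0x0) (.leaf 0xb0a0f0003)))) (.node 82036 (.node 82034 (.leaf 0x0) (.node 82035 (.leaf 0xfe30014071) (.leaf 0xe0a0a0003))) (.node 82037 (.leaf 0x0) (.node 82038 (.leaf 0xd0b0002) (.leaf 0x0))))))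

def argWS_7269 : Store := (.node 82016 argWS_7267 argWS_7268)

def argWS_7270 : Store := (.node 82050 (.node 82044 (.node 82041 (.node 82040 (.leaf 0x0) (.leaf 0xb0f0a0a0004)) (.node 82042 (.leaf 0x205020900090802040105000b) (.node 82043 (.leaf 0x0) (.leaf 0x0)))) (.node 82047 (.node 82045 (.leaf 0xf0b0b0003) (.node 82046 (.leaf 0x1407c01407b) (.leaf 0xf0b0002))) (.node 82048 (.leaf 0x0) (.node 82049 (.leaf 0xf0b0b0003) (.leaf 0x0))))) (.node 82055 (.node 82052 (.node 82051 (.leaf 0x0) (.leaf 0x907000408010202000701000b)) (.node 82053 (.leaf 0x0) (.node 82054 (.leaf 0xf0b0b0a0a0005) (.leaf 0x0)))) (.node 82058 (.node 82056 (.leaf 0x14086) (.node 82057 (.leaf 0xf0b0b0003) (.leaf 0x0))) (.node 82059 (.leaf 0xb0f0a0003) (.node 82060 (.leaf 0x0) (.leaf 0x0))))))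

def argWS_7271 : Store := (.node 82072 (.node 82066 (.node 82063 (.node 82062 (.leaf 0xe0d0002) (.leaf 0xf0b0002)) (.node 82064 (.leaf 0x1408e01408d) (.node 82065 (.leaf 0xb0a0f0003) (.leaf 0x0)))) (.node 82069 (.node 82067 (.leaf 0xb0b0a0003) (.node 82068 (.leaf 0x0) (.leaf 0x0))) (.node 82070 (.leaf 0x0) (.node 82071 (.leaf 0x0) (.leaf 0xd0b0002))))) (.node 82078 (.node 82075 (.node 82073 (.leaf 0xb0b0a0003) (.node 82074 (.leaf 0x14098) (.leaf 0x209010901090802040105000b))) (.node 82076 (.leaf 0x0) (.node 82077 (.leaf 0xb0b0a0003) (.leaf 0x0)))) (.node 82081 (.node 82079 (.leaf 0xe0001) (.node 82080 (.leaf 0x0) (.leaf 0x0))) (.node 82082 (.leaf 0xa0001) (.node 82083 (.leaf 0x8020005020202010802040105000d) (.leaf 0x0))))))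

def argWS_7272 : Store := (.node 82061 argWS_7270 argWS_7271)

def argWS_7273 : Store := (.node 82039 argWS_7269 argWS_7272)

def argWS_7274 : Store := (.node 81994 argWS_7266 argWS_7273)

def argWS_7275 : Store := (.node 82095 (.node 82089 (.node 82086 (.node 82085 (.leaf 0xb0a0f0003) (.leaf 0x0)) (.node 82087 (.leaf 0xf0b0002) (.node 82088 (.leaf 0x140a60140a5) (.leaf 0xe0a0002)))) (.node 82092 (.node 82090 (.leaf 0x0) (.node 82091 (.leaf 0x0) (.leaf 0x0))) (.node 82093 (.leaf 0x6010400050202000701000a) (.node 82094 (.leaf 0x0) (.leaf 0x0))))) (.node 82100 (.node 82097 (.node 82096 (.leaf 0xe0001) (.leaf 0x0)) (.node 82098 (.leaf 0x0) (.node 82099 (.leaf 0x0) (.leaf 0x0)))) (.node 82103 (.node 82101 (.leaf 0x0) (.node 82102 (.leaf 0x0) (.leaf 0x0))) (.node 82104 (.leaf 0x0) (.node 82105 (.leaf 0x0) (.leaf 0x0))))))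

def argWS_7276 : Store := (.node 82117 (.node 82111 (.node 82108 (.node 82107 (.leaf 0x0) (.leaf 0x0)) (.node 82109 (.leaf 0x0) (.node 82110 (.leaf 0x0) (.leaf 0x0)))) (.node 82114 (.node 82112 (.leaf 0x0) (.node 82113 (.leaf 0x0) (.leaf 0x0))) (.node 82115 (.leaf 0x0) (.node 82116 (.leaf 0x0) (.leaf 0x0))))) (.node 82123 (.node 82120 (.node 82118 (.leaf 0x0) (.node 82119 (.leaf 0x0) (.leaf 0x0))) (.node 82121 (.leaf 0x0) (.node 82122 (.leaf 0x0) (.leaf 0x0)))) (.node 82126 (.node 82124 (.leaf 0x0) (.node 82125 (.leaf 0x0) (.leaf 0x0))) (.node 82127 (.leaf 0x0) (.node 82128 (.leaf 0x0) (.leaf 0x0))))))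

def argWS_7277 : Store := (.node 82106 argWS_7275 argWS_7276)

def argWS_7278 : Store := (.node 82140 (.node 82134 (.node 82131 (.node 82130 (.leaf 0x0) (.leaf 0x0)) (.node 82132 (.leaf 0x0) (.node 82133 (.leaf 0xb0a0a0003) (.leaf 0xb0b0002)))) (.node 82137 (.node 82135 (.leaf 0x140d50140d4) (.node 82136 (.leaf 0xb0f0a0a0004) (.leaf 0x0))) (.node 82138 (.leaf 0xf0b0002) (.node 82139 (.leaf 0x0) (.leaf 0x0))))) (.node 82145 (.node 82142 (.node 82141 (.leaf 0x2090307020902000703040103000d) (.leaf 0x0)) (.node 82143 (.leaf 0xe0d0002) (.node 82144 (.leaf 0x0) (.leaf 0xf0b0002)))) (.node 82148 (.node 82146 (.leaf 0x140e000a799) (.node 82147 (.leaf 0xb0b0002) (.leaf 0x0))) (.node 82149 (.leaf 0xf0b0b0003) (.node 82150 (.leaf 0x0) (.leaf 0x0))))))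

def argWS_7279 : Store := (.node 82162 (.node 82156 (.node 82153 (.node 82152 (.leaf 0xf0001) (.leaf 0x1070908050202000701000a)) (.node 82154 (.leaf 0x0) (.node 82155 (.leaf 0xe0a0002) (.leaf 0x0)))) (.node 82159 (.node 82157 (.leaf 0x13e1b0140eb) (.node 82158 (.leaf 0xf0b0002) (.leaf 0x0))) (.node 82160 (.leaf 0xf0b0b0a0a0005) (.node 82161 (.leaf 0x0) (.leaf 0x0))))) (.node 82168 (.node 82165 (.node 82163 (.leaf 0xf0b0a0a0004) (.node 82164 (.leaf 0x4040206030802040105000a) (.leaf 0x0))) (.node 82166 (.leaf 0xd0b0b0003) (.node 82167 (.leaf 0x0) (.leaf 0x140f6)))) (.node 82171 (.node 82169 (.leaf 0xb0f0002) (.node 82170 (.leaf 0x0) (.leaf 0x2000603050004000703040103000e))) (.node 82172 (.leaf 0x0) (.node 82173 (.leaf 0xf0b0a0a0004) (.leaf 0xf0b0b0a0a0005))))))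

def argWS_7280 : Store := (.node 82151 argWS_7278 argWS_7279)

def argWS_7281 : Store := (.node 82129 argWS_7277 argWS_7280)

def argWS_7282 : Store := (.node 82185 (.node 82179 (.node 82176 (.node 82175 (.leaf 0x901050206040202000701000b) (.leaf 0x0)) (.node 82177 (.leaf 0xb0f0002) (.node 82178 (.leaf 0x0) (.leaf 0x6000908050202000701000a)))) (.node 82182 (.node 82180 (.leaf 0x0) (.node 82181 (.leaf 0xa0f0b0b0004) (.leaf 0x0))) (.node 82183 (.leaf 0x14105014101) (.node 82184 (.leaf 0xb0b0a0003) (.leaf 0x0))))) (.node 82190 (.node 82187 (.node 82186 (.leaf 0x9050300030306040802040105000d) (.leaf 0x0)) (.node 82188 (.leaf 0xf0a0a0003) (.node 82189 (.leaf 0x3070703060802040105000a) (.leaf 0x0)))) (.node 82193 (.node 82191 (.leaf 0x0) (.node 82192 (.leaf 0x6020908050802040105000a) (.leaf 0x0))) (.node 82194 (.leaf 0xf0b0a0a0004) (.node 82195 (.leaf 0x0) (.leaf 0xd0b0002))))))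

def argWS_7283 : Store := (.node 82207 (.node 82201 (.node 82198 (.node 82197 (.leaf 0x14113014112) (.leaf 0xa0a0002)) (.node 82199 (.leaf 0x0) (.node 82200 (.leaf 0xe0001) (.leaf 0x0)))) (.node 82204 (.node 82202 (.leaf 0x0) (.node 82203 (.leaf 0xf0b0a0a0004) (.leaf 0xf0b0b0a0a0005))) (.node 82205 (.leaf 0xb0001) (.node 82206 (.leaf 0x1411c01411b) (.leaf 0xb0f0a0a0004))))) (.node 82213 (.node 82210 (.node 82208 (.leaf 0x0) (.node 82209 (.leaf 0xb0001) (.leaf 0x0))) (.node 82211 (.leaf 0x0) (.node 82212 (.leaf 0xe0d0002) (.leaf 0x901040004080703040103000b)))) (.node 82216 (.node 82214 (.leaf 0x0) (.node 82215 (.leaf 0xf0a0002) (.leaf 0x0))) (.node 82217 (.leaf 0x14127) (.node 82218 (.leaf 0xe0d0002) (.leaf 0x0))))))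

def argWS_7284 : Store := (.node 82196 argWS_7282 argWS_7283)

def argWS_7285 : Store := (.node 82230 (.node 82224 (.node 82221 (.node 82220 (.leaf 0xa0f0b0b0004) (.leaf 0x0)) (.node 82222 (.leaf 0x0) (.node 82223 (.leaf 0xb0f0a0003) (.leaf 0x2020202020900000008)))) (.node 82227 (.node 82225 (.leaf 0x0) (.node 82226 (.leaf 0xf0a0002) (.leaf 0x0))) (.node 82228 (.leaf 0x600030306040802040105000b) (.node 82229 (.leaf 0x0) (.leaf 0xf0001))))) (.node 82236 (.node 82233 (.node 82231 (.leaf 0x0) (.node 82232 (.leaf 0x14136014132) (.leaf 0xe0d0002))) (.node 82234 (.leaf 0x0) (.node 82235 (.leaf 0x0) (.leaf 0xf0b0a0a0004)))) (.node 82239 (.node 82237 (.leaf 0xf0b0b0003) (.node 82238 (.leaf 0xe0a0002) (.leaf 0x1413d01413c))) (.node 82240 (.leaf 0x606010900090006) (.node 82241 (.leaf 0x0) (.leaf 0xe0a0a0003))))))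

def argWS_7286 : Store := (.node 82253 (.node 82247 (.node 82244 (.node 82243 (.leaf 0x0) (.leaf 0xb0b0a0a0004)) (.node 82245 (.leaf 0x0) (.node 82246 (.leaf 0x0) (.leaf 0xb0a0f0003)))) (.node 82250 (.node 82248 (.leaf 0x1020206030802040105000a) (.node 82249 (.leaf 0x0) (.leaf 0xe0a0002))) (.node 82251 (.leaf 0x0) (.node 82252 (.leaf 0xf0b0b0003) (.leaf 0x1414b01414a))))) (.node 82259 (.node 82256 (.node 82254 (.leaf 0x4020509080600000703040103000d) (.node 82255 (.leaf 0x0) (.leaf 0xf0a0a0003))) (.node 82257 (.leaf 0x0) (.node 82258 (.leaf 0xf0b0a0003) (.leaf 0x0)))) (.node 82262 (.node 82260 (.leaf 0x0) (.node 82261 (.leaf 0xa0f0002) (.leaf 0x1040006020702010202000701000d))) (.node 82263 (.leaf 0x0) (.node 82264 (.leaf 0xd0b0002) (.leaf 0x0))))))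

def argWS_7287 : Store := (.node 82242 argWS_7285 argWS_7286)

def argWS_7288 : Store := (.node 82219 argWS_7284 argWS_7287)

def argWS_7289 : Store := (.node 82174 argWS_7281 argWS_7288)

def argWS_7290 : Store := (.node 82084 argWS_7274 argWS_7289)

def argWS_7291 : Store := (.node 81904 argWS_7259 argWS_7290)

def argWS_7292 : Store := (.node 81543 argWS_7228 argWS_7291)

def argWS_7293 : Store := (.node 82276 (.node 82270 (.node 82267 (.node 82266 (.leaf 0xb0f0002) (.leaf 0x14159014158)) (.node 82268 (.leaf 0xf0001) (.node 82269 (.leaf 0x0) (.leaf 0xf0b0002)))) (.node 82273 (.node 82271 (.leaf 0x0) (.node 82272 (.leaf 0x0) (.leaf 0xb0f0002))) (.node 82274 (.leaf 0x90104020000030703040103000c) (.node 82275 (.leaf 0x0) (.leaf 0xb0a0002))))) (.node 82281 (.node 82278 (.node 82277 (.leaf 0x0) (.leaf 0x14164013faf)) (.node 82279 (.leaf 0xf0b0b0003) (.node 82280 (.leaf 0x0) (.leaf 0xa0001)))) (.node 82284 (.node 82282 (.leaf 0x0) (.node 82283 (.leaf 0x0)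 (.leaf 0xb0f0a0003))) (.node 82285 (.leaf 0xb0a0a0003) (.node 82286 (.leaf 0xf0001) (.leaf 0x1416d01416c))))))

def argWS_7294 : Store := (.node 82298 (.node 82292 (.node 82289 (.node 82288 (.leaf 0x6010200020804000802040105000d) (.leaf 0x0)) (.node 82290 (.leaf 0xa0a0002) (.node 82291 (.leaf 0x0) (.leaf 0xb0a0002)))) (.node 82295 (.node 82293 (.leaf 0x0) (.node 82294 (.leaf 0x0) (.leaf 0xb0a0002))) (.node 82296 (.leaf 0xf0a0a0003) (.node 82297 (.leaf 0x14177) (.leaf 0xf0a0002))))) (.node 82304 (.node 82301 (.node 82299 (.leaf 0x0) (.node 82300 (.leaf 0xb0b0002) (.leaf 0x0))) (.node 82302 (.leaf 0x0) (.node 82303 (.leaf 0xe0001) (.leaf 0x40009000009000703040103000c)))) (.node 82307 (.node 82305 (.leaf 0x0) (.node 82306 (.leaf 0xb0f0a0a0004) (.leaf 0x0))) (.node 82308 (.leaf 0x14182) (.node 82309 (.leaf 0xb0a0f0003) (.leaf 0x0))))))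

def argWS_7295 : Store := (.node 82287 argWS_7293 argWS_7294)

def argWS_7296 : Store := (.node 82321 (.node 82315 (.node 82312 (.node 82311 (.leaf 0x0) (.leaf 0xf0b0b0a0a0005)) (.node 82313 (.leaf 0xf0b0a0003) (.node 82314 (.leaf 0xb0b0a0a0004) (.leaf 0x14189014188)))) (.node 82318 (.node 82316 (.leaf 0xb0f0a0a0004) (.node 82317 (.leaf 0x0) (.leaf 0xb0001))) (.node 82319 (.leaf 0x0) (.node 82320 (.leaf 0x0) (.leaf 0xf0b0a0a0004))))) (.node 82326 (.node 82323 (.node 82322 (.leaf 0xd0001) (.leaf 0x14191)) (.node 82324 (.leaf 0xb0a0a0003) (.node 82325 (.leaf 0x0) (.leaf 0xb0f0002)))) (.node 82329 (.node 82327 (.leaf 0x0) (.node 82328 (.leaf 0x0) (.leaf 0x2040108020401050008))) (.node 82330 (.leaf 0x0) (.node 82331 (.leaf 0xf0001) (.leaf 0x0))))))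

def argWS_7297 : Store := (.node 82343 (.node 82337 (.node 82334 (.node 82333 (.leaf 0xb0a0f0003) (.leaf 0xa0001)) (.node 82335 (.leaf 0x1419d01419c) (.node 82336 (.leaf 0xf0b0b0a0004) (.leaf 0x0)))) (.node 82340 (.node 82338 (.leaf 0xa0001) (.node 82339 (.leaf 0x0) (.leaf 0x0))) (.node 82341 (.leaf 0xe0d0002) (.node 82342 (.leaf 0x1040206030005) (.leaf 0x0))))) (.node 82349 (.node 82346 (.node 82344 (.leaf 0xb0001) (.node 82345 (.leaf 0x0) (.leaf 0xe0a0002))) (.node 82347 (.leaf 0x141a90141a8) (.node 82348 (.leaf 0xe0a0002) (.leaf 0x0)))) (.node 82352 (.node 82350 (.leaf 0xb0a0a0003) (.node 82351 (.leaf 0x0) (.leaf 0x0))) (.node 82353 (.leaf 0xd0001) (.node 82354 (.leaf 0xb0b0a0003) (.leaf 0x141b1))))))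

def argWS_7298 : Store := (.node 82332 argWS_7296 argWS_7297)

def argWS_7299 : Store := (.node 82310 argWS_7295 argWS_7298)

def argWS_7300 : Store := (.node 82366 (.node 82360 (.node 82357 (.node 82356 (.leaf 0xb0f0002) (.leaf 0x0)) (.node 82358 (.leaf 0x606010900090202000701000b) (.node 82359 (.leaf 0x0) (.leaf 0xb0b0a0003)))) (.node 82363 (.node 82361 (.leaf 0xb0b0002) (.node 82362 (.leaf 0xe0a0002) (.leaf 0x0))) (.node 82364 (.leaf 0xb0a0a0003) (.node 82365 (.leaf 0x141bb0141ba) (.leaf 0xf0b0002))))) (.node 82371 (.node 82368 (.node 82367 (.leaf 0x0) (.leaf 0xb0b0a0a0004)) (.node 82369 (.leaf 0x0) (.node 82370 (.leaf 0x0) (.leaf 0xb0a0002)))) (.node 82374 (.node 82372 (.leaf 0xf0b0a0003) (.node 82373 (.leaf 0x903060402020007010009) (.leaf 0x0))) (.node 82375 (.leaf 0xd0b0b0003) (.node 82376 (.leaf 0x0) (.leaf 0x141c70141c3))))))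

def argWS_7301 : Store := (.node 82388 (.node 82382 (.node 82379 (.node 82378 (.leaf 0xb0f0a0003) (.leaf 0x0)) (.node 82380 (.leaf 0x10207020902000703040103000c) (.node 82381 (.leaf 0x0) (.leaf 0xb0001)))) (.node 82385 (.node 82383 (.leaf 0xb0b0a0a0004) (.node 82384 (.leaf 0x209020901060202000701000b) (.leaf 0x0))) (.node 82386 (.leaf 0xa0f0002) (.node 82387 (.leaf 0x0) (.leaf 0x69aa0141d2))))) (.node 82394 (.node 82391 (.node 82389 (.leaf 0xe0a0a0003) (.node 82390 (.leaf 0x0) (.leaf 0xf0b0b0003))) (.node 82392 (.leaf 0x0) (.node 82393 (.leaf 0x0) (.leaf 0xd0001)))) (.node 82397 (.node 82395 (.leaf 0x2010300000300000202000701000d) (.node 82396 (.leaf 0x0) (.leaf 0xa0a0002))) (.node 82398 (.leaf 0x0) (.node 82399 (.leaf 0x141dd) (.leaf 0xb0f0a0a0004))))))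

def argWS_7302 : Store := (.node 82377 argWS_7300 argWS_7301)

def argWS_7303 : Store := (.node 82411 (.node 82405 (.node 82402 (.node 82401 (.leaf 0x0) (.leaf 0xb0b0002)) (.node 82403 (.leaf 0x0) (.node 82404 (.leaf 0x0) (.leaf 0x0)))) (.node 82408 (.node 82406 (.leaf 0x0) (.node 82407 (.leaf 0x0) (.leaf 0xb0f0a0a0004))) (.node 82409 (.leaf 0xf0b0002) (.node 82410 (.leaf 0x30901090802040105000a) (.leaf 0x0))))) (.node 82416 (.node 82413 (.node 82412 (.leaf 0xa0f0b0b0004) (.leaf 0x0)) (.node 82414 (.leaf 0xb0a0002) (.node 82415 (.leaf 0x141ed0141ec) (.leaf 0x805000400050802040105000b)))) (.node 82419 (.node 82417 (.leaf 0x0) (.node 82418 (.leaf 0xf0b0002) (.leaf 0x0))) (.node 82420 (.leaf 0xb0a0002) (.node 82421 (.leaf 0x0) (.leaf 0x0))))))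

def argWS_7304 : Store := (.node 82433 (.node 82427 (.node 82424 (.node 82423 (.leaf 0xa0f0b0003) (.leaf 0xf0b0a0a0004)) (.node 82425 (.leaf 0xb0b0a0003) (.node 82426 (.leaf 0xe0001) (.leaf 0xa0f0b0003)))) (.node 82430 (.node 82428 (.leaf 0xb0b0a0003) (.node 82429 (.leaf 0x141fb) (.leaf 0xa0f0b0b0004))) (.node 82431 (.leaf 0x0) (.node 82432 (.leaf 0xe0001) (.leaf 0x0))))) (.node 82439 (.node 82436 (.node 82434 (.leaf 0x0) (.node 82435 (.leaf 0xd0001) (.leaf 0xf0b0b0003))) (.node 82437 (.leaf 0x20003080005) (.node 82438 (.leaf 0x0) (.leaf 0x0)))) (.node 82442 (.node 82440 (.leaf 0x142060005c2) (.node 82441 (.leaf 0x1030105020202010008) (.leaf 0x0))) (.node 82443 (.leaf 0x0) (.node 82444 (.leaf 0x0) (.leaf 0x0))))))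

def argWS_7305 : Store := (.node 82422 argWS_7303 argWS_7304)

def argWS_7306 : Store := (.node 82400 argWS_7302 argWS_7305)

def argWS_7307 : Store := (.node 82355 argWS_7299 argWS_7306)

def argWS_7308 : Store := (.node 82456 (.node 82450 (.node 82447 (.node 82446 (.leaf 0x5020005020202010202000701000d) (.leaf 0x600070009030802040105000b)) (.node 82448 (.leaf 0x0) (.node 82449 (.leaf 0x9030901090005) (.leaf 0x0)))) (.node 82453 (.node 82451 (.leaf 0xa0f0b0003) (.node 82452 (.leaf 0x0) (.leaf 0xf0a0002))) (.node 82454 (.leaf 0x14214014213) (.node 82455 (.leaf 0xb0f0002) (.leaf 0x0))))) (.node 82461 (.node 82458 (.node 82457 (.leaf 0x7000408010006) (.leaf 0x0)) (.node 82459 (.leaf 0xe0a0002) (.node 82460 (.leaf 0xf0b0b0a0004) (.leaf 0xe0001)))) (.node 82464 (.node 82462 (.leaf 0x1421c0141fc) (.node 82463 (.leaf 0xf0b0b0a0a0005) (.leaf 0x0))) (.node 82465 (.leaf 0xb0b0a0a0004) (.node 82466 (.leaf 0x0) (.leaf 0x0))))))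

def argWS_7309 : Store := (.node 82478 (.node 82472 (.node 82469 (.node 82468 (.leaf 0xb0b0a0003) (.leaf 0x141ee009775)) (.node 82470 (.leaf 0x400050206040202000701000c) (.node 82471 (.leaf 0x0) (.leaf 0xf0b0002)))) (.node 82475 (.node 82473 (.leaf 0x0) (.node 82474 (.leaf 0xb0f0a0003) (.leaf 0x0))) (.node 82476 (.leaf 0x0) (.node 82477 (.leaf 0xb0001) (.leaf 0x10200090206020802040105000c))))) (.node 82484 (.node 82481 (.node 82479 (.leaf 0x0) (.node 82480 (.leaf 0xd0001) (.leaf 0x0))) (.node 82482 (.leaf 0x1423001422c) (.node 82483 (.leaf 0x20406030500040202000701000c) (.leaf 0x0)))) (.node 82487 (.node 82485 (.leaf 0xb0f0a0003) (.node 82486 (.leaf 0x0) (.leaf 0x90707000903000703040103000c))) (.node 82488 (.leaf 0x0) (.node 82489 (.leaf 0xf0b0b0a0a0005) (.leaf 0xb0a0f0003))))))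

def argWS_7310 : Store := (.node 82467 argWS_7308 argWS_7309)

def argWS_7311 : Store := (.node 82501 (.node 82495 (.node 82492 (.node 82491 (.leaf 0xd8a6014239) (.leaf 0xd0b0002)) (.node 82493 (.leaf 0x0) (.node 82494 (.leaf 0xf0b0b0a0a0005) (.leaf 0x0)))) (.node 82498 (.node 82496 (.leaf 0x0) (.node 82497 (.leaf 0xb0001) (.leaf 0x5030500000300000802040105000d))) (.node 82499 (.leaf 0x0) (.node 82500 (.leaf 0xd0b0b0003) (.leaf 0x0))))) (.node 82506 (.node 82503 (.node 82502 (.leaf 0x142440020d4) (.leaf 0xf0b0002)) (.node 82504 (.leaf 0x0) (.node 82505 (.leaf 0x2000006030500040008) (.leaf 0x0)))) (.node 82509 (.node 82507 (.leaf 0xb0001) (.node 82508 (.leaf 0xd0b0b0003) (.leaf 0xd0b0002))) (.node 82510 (.leaf 0xa0a0002) (.node 82511 (.leaf 0x1424d01424c) (.leaf 0xb0b0a0003))))))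

def argWS_7312 : Store := (.node 82523 (.node 82517 (.node 82514 (.node 82513 (.leaf 0x0) (.leaf 0x0)) (.node 82515 (.leaf 0x6030105020604000703040103000d) (.node 82516 (.leaf 0x0) (.leaf 0xe0d0002)))) (.node 82520 (.node 82518 (.leaf 0x0) (.node 82519 (.leaf 0xf0b0b0003) (.leaf 0x4020500000300000008))) (.node 82521 (.leaf 0x0) (.node 82522 (.leaf 0xb0f0002) (.leaf 0x0))))) (.node 82529 (.node 82526 (.node 82524 (.leaf 0x1425a014256) (.node 82525 (.leaf 0x604010900090202000701000b) (.leaf 0x0))) (.node 82527 (.leaf 0xe0001) (.node 82528 (.leaf 0x0) (.leaf 0x1030500040802040105000a)))) (.node 82532 (.node 82530 (.leaf 0x0) (.node 82531 (.leaf 0xf0001) (.leaf 0xb0b0002))) (.node 82533 (.leaf 0x101010904020006) (.node 82534 (.leaf 0x0) (.leaf 0xf0001))))))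

def argWS_7313 : Store := (.node 82512 argWS_7311 argWS_7312)

def argWS_7314 : Store := (.node 82490 argWS_7310 argWS_7313)

def argWS_7315 : Store := (.node 82546 (.node 82540 (.node 82537 (.node 82536 (.leaf 0x0) (.leaf 0x14267)) (.node 82538 (.leaf 0xa0f0002) (.node 82539 (.leaf 0x0) (.leaf 0xf0b0a0003)))) (.node 82543 (.node 82541 (.leaf 0x0) (.node 82542 (.leaf 0xf0a0a0003) (.leaf 0x60502020900000802040105000c))) (.node 82544 (.leaf 0x0) (.node 82545 (.leaf 0xa0f0b0003) (.leaf 0x0))))) (.node 82551 (.node 82548 (.node 82547 (.leaf 0x14271) (.leaf 0x90806000802040105000b)) (.node 82549 (.leaf 0x0) (.node 82550 (.leaf 0xb0f0a0003) (.leaf 0x0)))) (.node 82554 (.node 82552 (.leaf 0x502090000000703040103000b) (.node 82553 (.leaf 0x0) (.leaf 0xb0b0a0003))) (.node 82555 (.leaf 0xd0b0002) (.node 82556 (.leaf 0x301090805000703040103000b) (.leaf 0x0))))))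

def argWS_7316 : Store := (.node 82568 (.node 82562 (.node 82559 (.node 82558 (.leaf 0xd0b0b0003) (.leaf 0x0)) (.node 82560 (.leaf 0x1427e00136f) (.node 82561 (.leaf 0xa0f0b0003) (.leaf 0x0)))) (.node 82565 (.node 82563 (.leaf 0xb0a0a0003) (.node 82564 (.leaf 0x0) (.leaf 0x0))) (.node 82566 (.leaf 0x5020900090202000701000a) (.node 82567 (.leaf 0x0) (.leaf 0x0))))) (.node 82574 (.node 82571 (.node 82569 (.leaf 0x8000009020602000703040103000e) (.node 82570 (.leaf 0x0) (.leaf 0xe0d0002))) (.node 82572 (.leaf 0x0) (.node 82573 (.leaf 0xf0001) (.leaf 0x1428c01428b)))) (.node 82577 (.node 82575 (.leaf 0x7020603000703040103000a) (.node 82576 (.leaf 0x0) (.leaf 0xa0a0002))) (.node 82578 (.leaf 0x0) (.node 82579 (.leaf 0x104020106060006) (.leaf 0x0))))))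

def argWS_7317 : Store := (.node 82557 argWS_7315 argWS_7316)

def argWS_7318 : Store := (.node 82591 (.node 82585 (.node 82582 (.node 82581 (.leaf 0xd0b0b0003) (.leaf 0x60006030500040802040105000c)) (.node 82583 (.leaf 0x0) (.node 82584 (.leaf 0xd0b0b0003) (.leaf 0x0)))) (.node 82588 (.node 82586 (.leaf 0x2020202090106000703040103000d) (.node 82587 (.leaf 0x0) (.leaf 0xf0001))) (.node 82589 (.leaf 0x0) (.node 82590 (.leaf 0x60200070206000007) (.leaf 0x0))))) (.node 82596 (.node 82593 (.node 82592 (.leaf 0xb0f0002) (.leaf 0x0)) (.node 82594 (.leaf 0x142a001429c) (.node 82595 (.leaf 0xa0a0002) (.leaf 0x0)))) (.node 82599 (.node 82597 (.leaf 0xf0b0a0003) (.node 82598 (.leaf 0xe0d0002) (.leaf 0x2010601050002000703040103000d))) (.node 82600 (.leaf 0x0) (.node 82601 (.leaf 0xa0a0002) (.leaf 0x0))))))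

def argWS_7319 : Store := (.node 82613 (.node 82607 (.node 82604 (.node 82603 (.leaf 0x142a9011669) (.leaf 0x10207020600000703040103000c)) (.node 82605 (.leaf 0x0) (.node 82606 (.leaf 0xb0a0002) (.leaf 0x0)))) (.node 82610 (.node 82608 (.leaf 0x0) (.node 82609 (.leaf 0x0) (.leaf 0x60401010703060007))) (.node 82611 (.leaf 0x204010901090006) (.node 82612 (.leaf 0x0) (.leaf 0x204010901090006))))) (.node 82619 (.node 82616 (.node 82614 (.leaf 0x0) (.node 82615 (.leaf 0x204010901090006) (.leaf 0x0))) (.node 82617 (.leaf 0x204010901090006) (.node 82618 (.leaf 0x0) (.leaf 0x204010901090006)))) (.node 82622 (.node 82620 (.leaf 0x0) (.node 82621 (.leaf 0x204010901090006) (.leaf 0x0))) (.node 82623 (.leaf 0x204010901090006) (.node 82624 (.leaf 0x0) (.leaf 0x204010901090006))))))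

def argWS_7320 : Store := (.node 82602 argWS_7318 argWS_7319)

def argWS_7321 : Store := (.node 82580 argWS_7317 argWS_7320)

def argWS_7322 : Store := (.node 82535 argWS_7314 argWS_7321)

def argWS_7323 : Store := (.node 82445 argWS_7307 argWS_7322)

def argWS_7324 : Store := (.node 82636 (.node 82630 (.node 82627 (.node 82626 (.leaf 0x0) (.leaf 0x204010901090006)) (.node 82628 (.leaf 0x0) (.node 82629 (.leaf 0x204010901090006) (.leaf 0x0)))) (.node 82633 (.node 82631 (.leaf 0x204010901090006) (.node 82632 (.leaf 0x0) (.leaf 0x3030002))) (.node 82634 (.leaf 0x0) (.node 82635 (.leaf 0xe0d0002) (.leaf 0x3010003))))) (.node 82641 (.node 82638 (.node 82637 (.leaf 0x0) (.leaf 0xb0001)) (.node 82639 (.leaf 0x3070002000003010802040105000d) (.node 82640 (.leaf 0x0) (.leaf 0xb0f0a0003)))) (.node 82644 (.node 82642 (.leaf 0x10300070209020007) (.node 82643 (.leaf 0x0) (.leaf 0xa0f0b0003))) (.node 82645 (.leaf 0x3040002) (.node 82646 (.leaf 0x0) (.leaf 0xb0001))))))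

def argWS_7325 : Store := (.node 82658 (.node 82652 (.node 82649 (.node 82648 (.leaf 0x2000006010500020802040105000d) (.leaf 0x0)) (.node 82650 (.leaf 0xa0a0002) (.node 82651 (.leaf 0x1020206020702010802040105000d) (.leaf 0x0)))) (.node 82655 (.node 82653 (.leaf 0xd0b0b0003) (.node 82654 (.leaf 0x700070206000202000701000b) (.leaf 0x0))) (.node 82656 (.leaf 0xe0001) (.node 82657 (.leaf 0xf0b0b0a0004) (.leaf 0x307090000090202000701000b))))) (.node 82664 (.node 82661 (.node 82659 (.leaf 0x0) (.node 82660 (.leaf 0xf0a0002) (.leaf 0x0))) (.node 82662 (.leaf 0xf0b0a0a0004) (.node 82663 (.leaf 0x142e5) (.leaf 0xe0a0002)))) (.node 82667 (.node 82665 (.leaf 0x0) (.node 82666 (.leaf 0xf0b0002) (.leaf 0x0))) (.node 82668 (.leaf 0x0) (.node 82669 (.leaf 0xd0b0002) (.leaf 0x90006020702010007))))))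

def argWS_7326 : Store := (.node 82647 argWS_7324 argWS_7325)

def argWS_7327 : Store := (.node 82681 (.node 82675 (.node 82672 (.node 82671 (.leaf 0x0) (.leaf 0xf0b0b0a0004)) (.node 82673 (.leaf 0x0) (.node 82674 (.leaf 0x80004010904020802040105000c) (.leaf 0x0)))) (.node 82678 (.node 82676 (.leaf 0xa0001) (.node 82677 (.leaf 0x0) (.leaf 0x142f40142f0))) (.node 82679 (.leaf 0xb0a0002) (.node 82680 (.leaf 0x0) (.leaf 0xf0a0a0003))))) (.node 82686 (.node 82683 (.node 82682 (.leaf 0x0) (.leaf 0x0)) (.node 82684 (.leaf 0x6020002010606000703040103000d) (.node 82685 (.leaf 0x0) (.leaf 0x0)))) (.node 82689 (.node 82687 (.leaf 0x5020000020804000802040105000d) (.node 82688 (.leaf 0x0) (.leaf 0xe0001))) (.node 82690 (.leaf 0x0) (.node 82691 (.leaf 0x9040207030802040105000a) (.leaf 0x0))))))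

def argWS_7328 : Store := (.node 82703 (.node 82697 (.node 82694 (.node 82693 (.leaf 0xb0f0002) (.leaf 0x0)) (.node 82695 (.leaf 0x14305014301) (.node 82696 (.leaf 0xb0f0a0003) (.leaf 0x0)))) (.node 82700 (.node 82698 (.leaf 0x9000207030005) (.node 82699 (.leaf 0x0) (.leaf 0xf0b0b0a0004))) (.node 82701 (.leaf 0x90300090806000007) (.node 82702 (.leaf 0x0) (.leaf 0xb0a0a0003))))) (.node 82709 (.node 82706 (.node 82704 (.leaf 0x0) (.node 82705 (.leaf 0xb0a0002) (.leaf 0x0))) (.node 82707 (.leaf 0xa0001) (.node 82708 (.leaf 0x14312014311) (.leaf 0xa0f0002)))) (.node 82712 (.node 82710 (.leaf 0x0) (.node 82711 (.leaf 0x90104090806000802040105000c) (.leaf 0x0))) (.node 82713 (.leaf 0xa0f0b0003) (.node 82714 (.leaf 0x80101020106060007) (.leaf 0x0))))))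

def argWS_7329 : Store := (.node 82692 argWS_7327 argWS_7328)

def argWS_7330 : Store := (.node 82670 argWS_7326 argWS_7329)

def argWS_7331 : Store := (.node 82726 (.node 82720 (.node 82717 (.node 82716 (.leaf 0xb0a0a0003) (.leaf 0x0)) (.node 82718 (.leaf 0xd0b0002) (.node 82719 (.leaf 0x1431d) (.leaf 0xa0f0b0003)))) (.node 82723 (.node 82721 (.leaf 0x0) (.node 82722 (.leaf 0x9030000090206020202000701000d) (.leaf 0x0))) (.node 82724 (.leaf 0xd0001) (.node 82725 (.leaf 0xb0b0002) (.leaf 0xa0f0b0b0004))))) (.node 82731 (.node 82728 (.node 82727 (.leaf 0x606a) (.leaf 0x103000408010202000701000b)) (.node 82729 (.leaf 0x0) (.node 82730 (.leaf 0xb0b0002) (.leaf 0x0)))) (.node 82734 (.node 82732 (.leaf 0xf0b0002) (.node 82733 (.leaf 0x0) (.leaf 0x0))) (.node 82735 (.leaf 0xb0a0a0003) (.node 82736 (.leaf 0x50202020900000007) (.leaf 0x0))))))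

def argWS_7332 : Store := (.node 82748 (.node 82742 (.node 82739 (.node 82738 (.leaf 0xf0001) (.leaf 0x0)) (.node 82740 (.leaf 0xf0b0b0a0004) (.node 82741 (.leaf 0xd0b0002) (.leaf 0x14334014333)))) (.node 82745 (.node 82743 (.leaf 0xf0b0b0a0004) (.node 82744 (.leaf 0x0) (.leaf 0xb0a0002))) (.node 82746 (.leaf 0x0) (.node 82747 (.leaf 0x0) (.leaf 0x6040101090805000703040103000d))))) (.node 82754 (.node 82751 (.node 82749 (.leaf 0x0) (.node 82750 (.leaf 0xb0a0002) (.leaf 0xd0001))) (.node 82752 (.leaf 0xf0b0a0003) (.node 82753 (.leaf 0xe0d0002) (.leaf 0x1434001433f)))) (.node 82757 (.node 82755 (.leaf 0xd0b0002) (.node 82756 (.leaf 0x0) (.leaf 0xd0b0002))) (.node 82758 (.leaf 0x0) (.node 82759 (.leaf 0x0) (.leaf 0xe0a0a0003))))))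

def argWS_7333 : Store := (.node 82737 argWS_7331 argWS_7332)

def argWS_7334 : Store := (.node 82771 (.node 82765 (.node 82762 (.node 82761 (.leaf 0xf0b0b0a0004) (.leaf 0x14348014347)) (.node 82763 (.leaf 0xf0b0b0003) (.node 82764 (.leaf 0x0) (.leaf 0xb0b0002)))) (.node 82768 (.node 82766 (.leaf 0x0) (.node 82767 (.leaf 0x0) (.leaf 0xa0f0002))) (.node 82769 (.leaf 0xf0b0b0a0004) (.node 82770 (.leaf 0xe0001) (.leaf 0x14351014350))))) (.node 82776 (.node 82773 (.node 82772 (.leaf 0x10202020000030703040103000c) (.leaf 0x0)) (.node 82774 (.leaf 0xd0001) (.node 82775 (.leaf 0x0) (.leaf 0xb0b0a0003)))) (.node 82779 (.node 82777 (.leaf 0x0) (.node 82778 (.leaf 0x0) (.leaf 0x90002000003010202000701000d))) (.node 82780 (.leaf 0x0) (.node 82781 (.leaf 0x0) (.leaf 0xb0b0002))))))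

def argWS_7335 : Store := (.node 82793 (.node 82787 (.node 82784 (.node 82783 (.leaf 0xb0f0a0a0004) (.leaf 0x1435e01435d)) (.node 82785 (.leaf 0x40300040005000703040103000c) (.node 82786 (.leaf 0x0) (.leaf 0xe0a0a0003)))) (.node 82790 (.node 82788 (.leaf 0x0) (.node 82789 (.leaf 0x207090806000006) (.leaf 0x0))) (.node 82791 (.leaf 0xf0001) (.node 82792 (.leaf 0x7000408010005) (.leaf 0x0))))) (.node 82799 (.node 82796 (.node 82794 (.leaf 0x0) (.node 82795 (.leaf 0xb0001) (.leaf 0xa0001))) (.node 82797 (.leaf 0x1436b01436a) (.node 82798 (.leaf 0xe0001) (.leaf 0x0)))) (.node 82802 (.node 82800 (.leaf 0x207090000090802040105000b) (.node 82801 (.leaf 0x0) (.leaf 0xe0a0a0003))) (.node 82803 (.leaf 0x20606030500040202000701000c) (.node 82804 (.leaf 0x0) (.leaf 0x0))))))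

def argWS_7336 : Store := (.node 82782 argWS_7334 argWS_7335)

def argWS_7337 : Store := (.node 82760 argWS_7333 argWS_7336)

def argWS_7338 : Store := (.node 82715 argWS_7330 argWS_7337)

def argWS_7339 : Store := (.node 82816 (.node 82810 (.node 82807 (.node 82806 (.leaf 0x90403080004) (.leaf 0x0)) (.node 82808 (.leaf 0xb0a0a0003) (.node 82809 (.leaf 0x0) (.leaf 0x1437800943a)))) (.node 82813 (.node 82811 (.leaf 0x400030301010200000703040103000e) (.node 82812 (.leaf 0x0) (.leaf 0xb0a0002))) (.node 82814 (.leaf 0x0) (.node 82815 (.leaf 0x104000003030604000703040103000e) (.leaf 0x0))))) (.node 82821 (.node 82818 (.node 82817 (.leaf 0xb0f0002) (.leaf 0x20401070009030007)) (.node 82819 (.leaf 0x0) (.node 82820 (.leaf 0xf0b0b0003) (.leaf 0x0)))) (.node 82824 (.node 82822 (.leaf 0xf0b0a0003) (.node 82823 (.leaf 0x14385) (.leaf 0x604000002080400000703040103000e))) (.node 82825 (.leaf 0x0) (.node 82826 (.leaf 0xb0f0a0a0004) (.leaf 0x0))))))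

def argWS_7340 : Store := (.node 82838 (.node 82832 (.node 82829 (.node 82828 (.leaf 0x4020506010500020008) (.leaf 0x0)) (.node 82830 (.leaf 0xf0b0b0a0004) (.node 82831 (.leaf 0x2000206030500040802040105000d) (.leaf 0x0)))) (.node 82835 (.node 82833 (.leaf 0xb0a0f0003) (.node 82834 (.leaf 0x0) (.leaf 0x60401090000090007))) (.node 82836 (.leaf 0x0) (.node 82837 (.leaf 0xa0f0002) (.leaf 0x0))))) (.node 82844 (.node 82841 (.node 82839 (.leaf 0x1439500c142) (.node 82840 (.leaf 0x6010202080400000703040103000d) (.leaf 0x0))) (.node 82842 (.leaf 0xb0f0a0a0004) (.node 82843 (.leaf 0x0) (.leaf 0x103010904020202000701000b)))) (.node 82847 (.node 82845 (.leaf 0x0) (.node 82846 (.leaf 0xa0001) (.leaf 0xd0001))) (.node 82848 (.leaf 0x1439e) (.node 82849 (.leaf 0xf0b0002) (.leaf 0x0))))))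

def argWS_7341 : Store := (.node 82827 argWS_7339 argWS_7340)

def argWS_7342 : Store := (.node 82861 (.node 82855 (.node 82852 (.node 82851 (.leaf 0xa0f0b0003) (.leaf 0x0)) (.node 82853 (.leaf 0x0) (.node 82854 (.leaf 0x502010603050004000703040103000e) (.leaf 0x0)))) (.node 82858 (.node 82856 (.leaf 0x0) (.node 82857 (.leaf 0xd0b0b0003) (.leaf 0xf0001))) (.node 82859 (.leaf 0x143a90143a8) (.node 82860 (.leaf 0xb0b0a0a0004) (.leaf 0x0))))) (.node 82866 (.node 82863 (.node 82862 (.leaf 0x4000003010005) (.leaf 0x0)) (.node 82864 (.leaf 0xd0b0b0003) (.node 82865 (.leaf 0xa0a0002) (.leaf 0x0)))) (.node 82869 (.node 82867 (.leaf 0xf0a0a0003) (.node 82868 (.leaf 0x143b2) (.leaf 0xb0a0002))) (.node 82870 (.leaf 0x0) (.node 82871 (.leaf 0x904030802020007010009) (.leaf 0x0))))))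

def argWS_7343 : Store := (.node 82883 (.node 82877 (.node 82874 (.node 82873 (.leaf 0xe0d0002) (.leaf 0xb0b0a0a0004)) (.node 82875 (.leaf 0xf0a0002) (.node 82876 (.leaf 0x2060408020401050008) (.leaf 0x0)))) (.node 82880 (.node 82878 (.leaf 0xf0a0002) (.node 82879 (.leaf 0x0) (.leaf 0x143be0143ba))) (.node 82881 (.leaf 0xd0b0002) (.node 82882 (.leaf 0x0) (.leaf 0x6000006020702010802040105000d))))) (.node 82889 (.node 82886 (.node 82884 (.leaf 0x0) (.node 82885 (.leaf 0xa0f0002) (.leaf 0x309040202020007010009))) (.node 82887 (.leaf 0x0) (.node 82888 (.leaf 0xb0f0a0003) (.leaf 0x0)))) (.node 82892 (.node 82890 (.leaf 0xf0001) (.node 82891 (.leaf 0x143c9) (.leaf 0x6020702010802040105000b))) (.node 82893 (.leaf 0x0) (.node 82894 (.leaf 0xb0f0a0003) (.leaf 0x0))))))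

def argWS_7344 : Store := (.node 82872 argWS_7342 argWS_7343)

def argWS_7345 : Store := (.node 82850 argWS_7341 argWS_7344)

def argWS_7346 : Store := (.node 82906 (.node 82900 (.node 82897 (.node 82896 (.leaf 0x60207030005) (.leaf 0x0)) (.node 82898 (.leaf 0xb0f0002) (.node 82899 (.leaf 0x7000000090206020008) (.leaf 0x0)))) (.node 82903 (.node 82901 (.leaf 0x0) (.node 82902 (.leaf 0xb0f0002) (.leaf 0x143d5))) (.node 82904 (.leaf 0x403080007030401030009) (.node 82905 (.leaf 0x0) (.leaf 0xd0001))))) (.node 82911 (.node 82908 (.node 82907 (.leaf 0x0) (.leaf 0x702010703060202000701000b)) (.node 82909 (.leaf 0x0) (.node 82910 (.leaf 0xe0d0002) (.leaf 0x900000408010202000701000b)))) (.node 82914 (.node 82912 (.leaf 0x0) (.node 82913 (.leaf 0xe0a0002) (.leaf 0x0))) (.node 82915 (.leaf 0xe0a0002) (.node 82916 (.leaf 0x600000400050006) (.leaf 0x0))))))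

def argWS_7347 : Store := (.node 82928 (.node 82922 (.node 82919 (.node 82918 (.leaf 0xe0a0a0003) (.leaf 0x0)) (.node 82920 (.leaf 0x143e60143e2) (.node 82921 (.leaf 0xb0b0a0a0004) (.leaf 0x0)))) (.node 82925 (.node 82923 (.leaf 0x604010308000703040103000b) (.node 82924 (.leaf 0x0) (.leaf 0xb0a0002))) (.node 82926 (.leaf 0xf0a0002) (.node 82927 (.leaf 0xb0a0f0003) (.leaf 0xb0f0a0003))))) (.node 82934 (.node 82931 (.node 82929 (.leaf 0x143ef0143ee) (.node 82930 (.leaf 0xa0f0002) (.leaf 0x0))) (.node 82932 (.leaf 0xa0f0b0b0004) (.node 82933 (.leaf 0x0) (.leaf 0x0)))) (.node 82937 (.node 82935 (.leaf 0x6010206030005) (.node 82936 (.leaf 0x0) (.leaf 0x0))) (.node 82938 (.leaf 0xe0a0002) (.node 82939 (.leaf 0x3070209020202000701000b) (.leaf 0x0))))))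

def argWS_7348 : Store := (.node 82917 argWS_7346 argWS_7347)

def argWS_7349 : Store := (.node 82951 (.node 82945 (.node 82942 (.node 82941 (.leaf 0xf0b0b0a0a0005) (.leaf 0x0)) (.node 82943 (.leaf 0x143fd0143f9) (.node 82944 (.leaf 0x70000020804000802040105000c) (.leaf 0x0)))) (.node 82948 (.node 82946 (.leaf 0xf0b0002) (.node 82947 (.leaf 0x0) (.leaf 0xf0001))) (.node 82949 (.leaf 0x0) (.node 82950 (.leaf 0x0) (.leaf 0x1351e))))) (.node 82957 (.node 82954 (.node 82952 (.leaf 0xf0a0a0003) (.node 82953 (.leaf 0x0) (.leaf 0xd0001))) (.node 82955 (.leaf 0x0) (.node 82956 (.leaf 0x0) (.leaf 0xe0001)))) (.node 82960 (.node 82958 (.leaf 0x609000908020401050009) (.node 82959 (.leaf 0x0) (.leaf 0x0))) (.node 82961 (.leaf 0x1440f) (.node 82962 (.leaf 0x4030400050802040105000a) (.leaf 0x0))))))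

def argWS_7350 : Store := (.node 82974 (.node 82968 (.node 82965 (.node 82964 (.leaf 0xd0b0b0003) (.leaf 0x0)) (.node 82966 (.leaf 0x9040901090802040105000a) (.node 82967 (.leaf 0x0) (.leaf 0xd0001)))) (.node 82971 (.node 82969 (.leaf 0xa0f0b0b0004) (.node 82970 (.leaf 0x50000030306040802040105000c) (.leaf 0x0))) (.node 82972 (.leaf 0xb0b0a0003) (.node 82973 (.leaf 0x0) (.leaf 0x1441c))))) (.node 82980 (.node 82977 (.node 82975 (.leaf 0x204010904020202000701000b) (.node 82976 (.leaf 0x0) (.leaf 0xe0a0002))) (.node 82978 (.leaf 0x0) (.node 82979 (.leaf 0xe0a0002) (.leaf 0x0)))) (.node 82983 (.node 82981 (.leaf 0x0) (.node 82982 (.leaf 0x4030908050202000701000a) (.leaf 0x0))) (.node 82984 (.leaf 0xf0b0a0003) (.node 82985 (.leaf 0x0) (.leaf 0xf0001))))))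

def argWS_7351 : Store := (.node 82963 argWS_7349 argWS_7350)

def argWS_7352 : Store := (.node 82940 argWS_7348 argWS_7351)

def argWS_7353 : Store := (.node 82895 argWS_7345 argWS_7352)

def argWS_7354 : Store := (.node 82805 argWS_7338 argWS_7353)

def argWS_7355 : Store := (.node 82625 argWS_7323 argWS_7354)

def argWS_7356 : Store := (.node 82997 (.node 82991 (.node 82988 (.node 82987 (.leaf 0x14429) (.leaf 0xa0f0b0b0004)) (.node 82989 (.leaf 0x0) (.node 82990 (.leaf 0x305070009030802040105000b) (.leaf 0x0)))) (.node 82994 (.node 82992 (.leaf 0xf0a0002) (.node 82993 (.leaf 0xd0001) (.leaf 0xf0a0002))) (.node 82995 (.leaf 0x101020603000703040103000b) (.node 82996 (.leaf 0x0) (.leaf 0xb0001))))) (.node 83002 (.node 82999 (.node 82998 (.leaf 0x0) (.leaf 0x60001)) (.node 83000 (.leaf 0x0) (.node 83001 (.leaf 0x14437014431) (.leaf 0xf0b0b0003)))) (.node 83005 (.node 83003 (.leaf 0x0) (.node 83004 (.leaf 0x901060004) (.leaf 0x0))) (.node 83006 (.leaf 0xa0001)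 (.node 83007 (.leaf 0xe0d0002) (.leaf 0xb0b0002))))))

def argWS_7357 : Store := (.node 83019 (.node 83013 (.node 83010 (.node 83009 (.leaf 0x3040005000703040103000a) (.leaf 0x0)) (.node 83011 (.leaf 0xa0a0002) (.node 83012 (.leaf 0x0) (.leaf 0x1444301443f)))) (.node 83016 (.node 83014 (.leaf 0xa0f0b0b0004) (.node 83015 (.leaf 0x0) (.leaf 0xb0f0002))) (.node 83017 (.leaf 0x0) (.node 83018 (.leaf 0x0) (.leaf 0x305010904020202000701000b))))) (.node 83025 (.node 83022 (.node 83020 (.leaf 0x0) (.node 83021 (.leaf 0x0) (.leaf 0x2000006010500020008))) (.node 83023 (.leaf 0x0) (.node 83024 (.leaf 0xb0a0002) (.leaf 0x0)))) (.node 83028 (.node 83026 (.leaf 0x14450) (.node 83027 (.leaf 0xb0f0a0a0004) (.leaf 0x0))) (.node 83029 (.leaf 0x104000400050006) (.node 83030 (.leaf 0x0) (.leaf 0xf0b0b0a0a0005))))))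

def argWS_7358 : Store := (.node 83008 argWS_7356 argWS_7357)

def argWS_7359 : Store := (.node 83042 (.node 83036 (.node 83033 (.node 83032 (.leaf 0xb0f0a0003) (.leaf 0x601020901060202000701000b)) (.node 83034 (.leaf 0x0) (.node 83035 (.leaf 0xf0b0a0a0004) (.leaf 0x0)))) (.node 83039 (.node 83037 (.leaf 0x7030608020401050009) (.node 83038 (.leaf 0x0) (.leaf 0xb0001))) (.node 83040 (.leaf 0x0) (.node 83041 (.leaf 0x1445f01445b) (.leaf 0xa0001))))) (.node 83047 (.node 83044 (.node 83043 (.leaf 0x0) (.leaf 0x0)) (.node 83045 (.leaf 0xd0b0b0003) (.node 83046 (.leaf 0x40003010102000802040105000d) (.leaf 0x0)))) (.node 83050 (.node 83048 (.leaf 0xa0f0b0b0004) (.node 83049 (.leaf 0x0) (.leaf 0x14468))) (.node 83051 (.leaf 0xb0b0002) (.node 83052 (.leaf 0x0) (.leaf 0xf0b0002))))))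

def argWS_7360 : Store := (.node 83064 (.node 83058 (.node 83055 (.node 83054 (.leaf 0x0) (.leaf 0x0)) (.node 83056 (.leaf 0x40400090206020202000701000c) (.node 83057 (.leaf 0x0) (.leaf 0x0)))) (.node 83061 (.node 83059 (.leaf 0xf0b0002) (.node 83060 (.leaf 0x14472) (.leaf 0xd0001))) (.node 83062 (.leaf 0x0) (.node 83063 (.leaf 0x5000202090000000703040103000d) (.leaf 0x0))))) (.node 83070 (.node 83067 (.node 83065 (.leaf 0xf0001) (.node 83066 (.leaf 0x1040908050202000701000a) (.leaf 0x0))) (.node 83068 (.leaf 0xf0b0b0a0a0005) (.node 83069 (.leaf 0x0) (.leaf 0xf0001)))) (.node 83073 (.node 83071 (.leaf 0xa0f0b0b0004) (.node 83072 (.leaf 0x1447e01447d) (.leaf 0xb0b0002))) (.node 83074 (.leaf 0x0) (.node 83075 (.leaf 0x0) (.leaf 0xe0d0002))))))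

def argWS_7361 : Store := (.node 83053 argWS_7359 argWS_7360)

def argWS_7362 : Store := (.node 83031 argWS_7358 argWS_7361)

def argWS_7363 : Store := (.node 83087 (.node 83081 (.node 83078 (.node 83077 (.leaf 0xa0f0002) (.leaf 0x14484)) (.node 83079 (.leaf 0xb0b0002) (.node 83080 (.leaf 0x0) (.leaf 0xb0a0a0003)))) (.node 83084 (.node 83082 (.leaf 0x0) (.node 83083 (.leaf 0x0) (.leaf 0xf0a0a0003))) (.node 83085 (.leaf 0x9000900090202000701000b) (.node 83086 (.leaf 0x0) (.leaf 0xf0b0002))))) (.node 83092 (.node 83089 (.node 83088 (.leaf 0x0) (.leaf 0x200030306040202000701000c)) (.node 83090 (.leaf 0x0) (.node 83091 (.leaf 0xf0a0002) (.leaf 0x0)))) (.node 83095 (.node 83093 (.leaf 0x1449301448f) (.node 83094 (.leaf 0xb0a0002) (.leaf 0x0))) (.node 83096 (.leaf 0xb0001) (.node 83097 (.leaf 0x0) (.leaf 0x0))))))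

def argWS_7364 : Store := (.node 83109 (.node 83103 (.node 83100 (.node 83099 (.leaf 0xb0a0a0003) (.leaf 0xf0b0b0a0004)) (.node 83101 (.leaf 0xd0b0002) (.node 83102 (.leaf 0x1449c01449b) (.leaf 0xb0f0002)))) (.node 83106 (.node 83104 (.leaf 0x0) (.node 83105 (.leaf 0xe0a0002) (.leaf 0x0))) (.node 83107 (.leaf 0x0) (.node 83108 (.leaf 0x30006010500020007) (.leaf 0x0))))) (.node 83115 (.node 83112 (.node 83110 (.leaf 0xa0a0002) (.node 83111 (.leaf 0x0) (.leaf 0x30002000003010007))) (.node 83113 (.leaf 0x0) (.node 83114 (.leaf 0x0) (.leaf 0x144a90144a6)))) (.node 83118 (.node 83116 (.leaf 0xa0f0002) (.node 83117 (.leaf 0x0) (.leaf 0x0))) (.node 83119 (.leaf 0xd0001) (.node 83120 (.leaf 0xa0f0b0b0004) (.leaf 0x144af0012c0))))))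

def argWS_7365 : Store := (.node 83098 argWS_7363 argWS_7364)

def argWS_7366 : Store := (.node 83132 (.node 83126 (.node 83123 (.node 83122 (.leaf 0xb0b0a0003) (.leaf 0x0)) (.node 83124 (.leaf 0xb0001) (.node 83125 (.leaf 0x0) (.leaf 0x0)))) (.node 83129 (.node 83127 (.leaf 0xf0b0b0003) (.node 83128 (.leaf 0xb0a0002) (.leaf 0x144b7))) (.node 83130 (.leaf 0xb0b0a0a0004) (.node 83131 (.leaf 0x0) (.leaf 0xf0b0002))))) (.node 83137 (.node 83134 (.node 83133 (.leaf 0x0) (.leaf 0x0)) (.node 83135 (.leaf 0xf0a0002) (.node 83136 (.leaf 0x20502050206040802040105000c) (.leaf 0x0)))) (.node 83140 (.node 83138 (.leaf 0xa0001) (.node 83139 (.leaf 0x0) (.leaf 0x144c2))) (.node 83141 (.leaf 0xb0f0a0a0004) (.node 83142 (.leaf 0x0) (.leaf 0x40406010500020202000701000c))))))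

def argWS_7367 : Store := (.node 83154 (.node 83148 (.node 83145 (.node 83144 (.leaf 0x0) (.leaf 0xe0a0002)) (.node 83146 (.leaf 0xb0f0a0a0004) (.node 83147 (.leaf 0x60501070209020802040105000c) (.leaf 0x0)))) (.node 83151 (.node 83149 (.leaf 0xf0b0002) (.node 83150 (.leaf 0x0) (.leaf 0x144cd))) (.node 83152 (.leaf 0xb0b0002) (.node 83153 (.leaf 0x0) (.leaf 0x0))))) (.node 83160 (.node 83157 (.node 83155 (.leaf 0xb0b0a0003) (.node 83156 (.leaf 0xe0001) (.leaf 0x144d3))) (.node 83158 (.leaf 0xd0001) (.node 83159 (.leaf 0x0) (.leaf 0xf0b0002)))) (.node 83163 (.node 83161 (.leaf 0x0) (.node 83162 (.leaf 0x0) (.leaf 0xa0f0002))) (.node 83164 (.leaf 0x70202000003010007) (.node 83165 (.leaf 0x0) (.leaf 0xb0f0a0a0004))))))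

def argWS_7368 : Store := (.node 83143 argWS_7366 argWS_7367)

def argWS_7369 : Store := (.node 83121 argWS_7365 argWS_7368)

def argWS_7370 : Store := (.node 83076 argWS_7362 argWS_7369)

def argWS_7371 : Store := (.node 83177 (.node 83171 (.node 83168 (.node 83167 (.leaf 0x0) (.leaf 0xf0b0a0003)) (.node 83169 (.leaf 0x144df0144de) (.node 83170 (.leaf 0xa0001) (.leaf 0x0)))) (.node 83174 (.node 83172 (.leaf 0xe0a0a0003) (.node 83173 (.leaf 0x0) (.leaf 0x0))) (.node 83175 (.leaf 0xb0b0a0003) (.node 83176 (.leaf 0xe0001) (.leaf 0xe0a0002))))) (.node 83182 (.node 83179 (.node 83178 (.leaf 0x144e80144e7) (.leaf 0xb0a0f0003)) (.node 83180 (.leaf 0x0) (.node 83181 (.leaf 0xf0a0a0003) (.leaf 0x0)))) (.node 83185 (.node 83183 (.leaf 0x0) (.node 83184 (.leaf 0x800000007030401030009) (.leaf 0x0))) (.node 83186 (.leaf 0xf0a0002) (.node 83187 (.leaf 0x0) (.leaf 0xb0b0002))))))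

def argWS_7372 : Store := (.node 83199 (.node 83193 (.node 83190 (.node 83189 (.leaf 0x144f30144f2) (.leaf 0xd0b0b0003)) (.node 83191 (.leaf 0x0) (.node 83192 (.leaf 0xa0a0002) (.leaf 0x0)))) (.node 83196 (.node 83194 (.leaf 0x0) (.node 83195 (.leaf 0xb0f0002) (.leaf 0xb0001))) (.node 83197 (.leaf 0xb0f0002) (.node 83198 (.leaf 0x144fc0144fb) (.leaf 0x70305070206000007))))) (.node 83205 (.node 83202 (.node 83200 (.leaf 0x0) (.node 83201 (.leaf 0xf0b0a0a0004) (.leaf 0x0))) (.node 83203 (.leaf 0xf0b0b0003) (.node 83204 (.leaf 0x0) (.leaf 0x0)))) (.node 83208 (.node 83206 (.leaf 0xb0a0a0003) (.node 83207 (.leaf 0xa0f0002) (.leaf 0xb0a0f0003))) (.node 83209 (.leaf 0x14507014506) (.node 83210 (.leaf 0x40300020804000007) (.leaf 0x0))))))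

def argWS_7373 : Store := (.node 83188 argWS_7371 argWS_7372)

def argWS_7374 : Store := (.node 83222 (.node 83216 (.node 83213 (.node 83212 (.leaf 0xb0b0002) (.leaf 0x0)) (.node 83214 (.leaf 0xa0f0b0b0004) (.node 83215 (.leaf 0x0) (.leaf 0x0)))) (.node 83219 (.node 83217 (.leaf 0x0) (.node 83218 (.leaf 0x0) (.leaf 0xd0001))) (.node 83220 (.leaf 0xa0f0b0003) (.node 83221 (.leaf 0x50305020202010202000701000d) (.leaf 0x0))))) (.node 83227 (.node 83224 (.node 83223 (.leaf 0x0) (.leaf 0x14516)) (.node 83225 (.leaf 0xa0f0002) (.node 83226 (.leaf 0xb0b0a0a0004) (.leaf 0x10903090000090007)))) (.node 83230 (.node 83228 (.leaf 0x0) (.node 83229 (.leaf 0x0) (.leaf 0xb0b0002))) (.node 83231 (.leaf 0x1451d01451c) (.node 83232 (.leaf 0x3070400050202000701000a) (.leaf 0x0))))))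

def argWS_7375 : Store := (.node 83244 (.node 83238 (.node 83235 (.node 83234 (.leaf 0x0) (.leaf 0x0)) (.node 83236 (.leaf 0x0) (.node 83237 (.leaf 0x0) (.leaf 0x20202090806000802040105000c)))) (.node 83241 (.node 83239 (.leaf 0x0) (.node 83240 (.leaf 0x0) (.leaf 0xb0a0f0003))) (.node 83242 (.leaf 0x0) (.node 83243 (.leaf 0x600070306000703040103000b) (.leaf 0x6000003030604000703040103000d))))) (.node 83250 (.node 83247 (.node 83245 (.leaf 0x0) (.node 83246 (.leaf 0x0) (.leaf 0x0))) (.node 83248 (.leaf 0xf0b0b0a0004) (.node 83249 (.leaf 0x0) (.leaf 0x0)))) (.node 83253 (.node 83251 (.leaf 0x0) (.node 83252 (.leaf 0x0) (.leaf 0x0))) (.node 83254 (.leaf 0x0) (.node 83255 (.leaf 0x0) (.leaf 0x0))))))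

def argWS_7376 : Store := (.node 83233 argWS_7374 argWS_7375)

def argWS_7377 : Store := (.node 83211 argWS_7373 argWS_7376)

def argWS_7378 : Store := (.node 83267 (.node 83261 (.node 83258 (.node 83257 (.leaf 0x0) (.leaf 0x0)) (.node 83259 (.leaf 0x0) (.node 83260 (.leaf 0x0) (.leaf 0x0)))) (.node 83264 (.node 83262 (.leaf 0x0) (.node 83263 (.leaf 0x0) (.leaf 0x0))) (.node 83265 (.leaf 0x0) (.node 83266 (.leaf 0x0) (.leaf 0x0))))) (.node 83272 (.node 83269 (.node 83268 (.leaf 0x0) (.leaf 0x0)) (.node 83270 (.leaf 0x0) (.node 83271 (.leaf 0x0) (.leaf 0x0)))) (.node 83275 (.node 83273 (.leaf 0x0) (.node 83274 (.leaf 0x0) (.leaf 0x0))) (.node 83276 (.leaf 0x0) (.node 83277 (.leaf 0x0) (.leaf 0x8050002020900000008))))))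

def argWS_7379 : Store := (.node 83289 (.node 83283 (.node 83280 (.node 83279 (.leaf 0x0) (.leaf 0xd0b0b0003)) (.node 83281 (.leaf 0x0) (.node 83282 (.leaf 0x2000207020600000703040103000d) (.leaf 0x0)))) (.node 83286 (.node 83284 (.leaf 0xb0b0a0003) (.node 83285 (.leaf 0x0) (.leaf 0x14554))) (.node 83287 (.leaf 0x0) (.node 83288 (.leaf 0xa0001) (.leaf 0x0))))) (.node 83295 (.node 83292 (.node 83290 (.leaf 0x0) (.node 83291 (.leaf 0xd0001) (.leaf 0xd0b0002))) (.node 83293 (.leaf 0x6020007000902000701000a) (.node 83294 (.leaf 0x0) (.leaf 0xf0a0002)))) (.node 83298 (.node 83296 (.leaf 0x0) (.node 83297 (.leaf 0x1455f01455b) (.leaf 0x604010207020007010009))) (.node 83299 (.leaf 0x0) (.node 83300 (.leaf 0xe0a0002) (.leaf 0x0))))))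

def argWS_7380 : Store := (.node 83278 argWS_7378 argWS_7379)

def argWS_7381 : Store := (.node 83312 (.node 83306 (.node 83303 (.node 83302 (.leaf 0xf0b0b0a0a0005) (.leaf 0x0)) (.node 83304 (.leaf 0x0) (.node 83305 (.leaf 0xa0f0b0003) (.leaf 0x1446900ee32)))) (.node 83309 (.node 83307 (.leaf 0x0) (.node 83308 (.leaf 0xf0b0b0a0004) (.leaf 0x0))) (.node 83310 (.leaf 0x0) (.node 83311 (.leaf 0x0) (.leaf 0x0))))) (.node 83318 (.node 83315 (.node 83313 (.leaf 0xb0b0002) (.node 83314 (.leaf 0x5030004080703040103000a) (.leaf 0x0))) (.node 83316 (.leaf 0xa0a0002) (.node 83317 (.leaf 0x0) (.leaf 0xb0b0a0a0004)))) (.node 83321 (.node 83319 (.leaf 0x14575014574) (.node 83320 (.leaf 0xb0b0a0003) (.leaf 0x0))) (.node 83322 (.leaf 0x0) (.node 83323 (.leaf 0x0) (.leaf 0x200000408010802040105000b))))))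

def argWS_7382 : Store := (.node 83335 (.node 83329 (.node 83326 (.node 83325 (.leaf 0x0) (.leaf 0x0)) (.node 83327 (.leaf 0xb0f0a0a0004) (.node 83328 (.leaf 0x0) (.leaf 0x0)))) (.node 83332 (.node 83330 (.leaf 0x0) (.node 83331 (.leaf 0x0) (.leaf 0xb0a0f0003))) (.node 83333 (.leaf 0x14583) (.node 83334 (.leaf 0xd0b0002) (.leaf 0x0))))) (.node 83341 (.node 83338 (.node 83336 (.leaf 0xf0b0a0a0004) (.node 83337 (.leaf 0x0) (.leaf 0x0))) (.node 83339 (.leaf 0x0) (.node 83340 (.leaf 0x0) (.leaf 0xe0a0002)))) (.node 83344 (.node 83342 (.leaf 0x60105020202010202000701000c) (.node 83343 (.leaf 0x0) (.leaf 0xb0f0a0003))) (.node 83345 (.leaf 0x0) (.node 83346 (.leaf 0x1459000b46e) (.leaf 0xa0001))))))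

def argWS_7383 : Store := (.node 83324 argWS_7381 argWS_7382)

def argWS_7384 : Store := (.node 83301 argWS_7380 argWS_7383)

def argWS_7385 : Store := (.node 83256 argWS_7377 argWS_7384)

def argWS_7386 : Store := (.node 83166 argWS_7370 argWS_7385)

def argWS_7387 : Store := (.node 83358 (.node 83352 (.node 83349 (.node 83348 (.leaf 0x0) (.leaf 0xf0b0002)) (.node 83350 (.leaf 0x0) (.node 83351 (.leaf 0x0) (.leaf 0xa0f0b0003)))) (.node 83355 (.node 83353 (.leaf 0xf0b0a0a0004) (.node 83354 (.leaf 0x145980103af) (.leaf 0xf0b0b0a0a0005))) (.node 83356 (.leaf 0x0) (.node 83357 (.leaf 0xb0f0002) (.leaf 0x0))))) (.node 83363 (.node 83360 (.node 83359 (.leaf 0x0) (.leaf 0xf0001)) (.node 83361 (.leaf 0x60102010901090007) (.node 83362 (.leaf 0x0) (.leaf 0xf0b0b0a0004)))) (.node 83366 (.node 83364 (.leaf 0x0) (.node 83365 (.leaf 0x145a3) (.leaf 0x70402090106000703040103000c))) (.node 83367 (.leaf 0x0) (.node 83368 (.leaf 0xa0f0b0003) (.leaf 0x0))))))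

def argWS_7388 : Store := (.node 83380 (.node 83374 (.node 83371 (.node 83370 (.leaf 0x0) (.leaf 0x0)) (.node 83372 (.leaf 0x0) (.node 83373 (.leaf 0x7010901090202000701000a) (.leaf 0x0)))) (.node 83377 (.node 83375 (.leaf 0x0) (.node 83376 (.leaf 0xa0f0b0b0004) (.leaf 0x0))) (.node 83378 (.leaf 0x0) (.node 83379 (.leaf 0x0) (.leaf 0xa0001))))) (.node 83386 (.node 83383 (.node 83381 (.leaf 0xb0a0002) (.node 83382 (.leaf 0xf0b0a0003) (.leaf 0x145b50145b4))) (.node 83384 (.leaf 0xa0a0002) (.node 83385 (.leaf 0x0) (.leaf 0xd0001)))) (.node 83389 (.node 83387 (.leaf 0x0) (.node 83388 (.leaf 0x0) (.leaf 0xb0a0002))) (.node 83390 (.leaf 0xf0b0a0003) (.node 83391 (.leaf 0x0) (.leaf 0xf0a0002))))))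

def argWS_7389 : Store := (.node 83369 argWS_7387 argWS_7388)

def argWS_7390 : Store := (.node 83403 (.node 83397 (.node 83394 (.node 83393 (.leaf 0x145bf0145be) (.leaf 0x3040102020900000202000701000d)) (.node 83395 (.leaf 0x0) (.node 83396 (.leaf 0xf0b0a0a0004) (.leaf 0x0)))) (.node 83400 (.node 83398 (.leaf 0xa0f0b0b0004) (.node 83399 (.leaf 0x0) (.leaf 0x0))) (.node 83401 (.leaf 0xf0b0b0003) (.node 83402 (.leaf 0x2000000000300000802040105000d) (.leaf 0x0))))) (.node 83408 (.node 83405 (.node 83404 (.leaf 0xd0001) (.leaf 0x0)) (.node 83406 (.leaf 0x145cc) (.node 83407 (.leaf 0xf0a0a0003) (.leaf 0x0)))) (.node 83411 (.node 83409 (.leaf 0x0) (.node 83410 (.leaf 0xe0a0002) (.leaf 0x802000400050202000701000b))) (.node 83412 (.leaf 0x0) (.node 83413 (.leaf 0xf0b0b0a0a0005) (.leaf 0x0))))))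

def argWS_7391 : Store := (.node 83425 (.node 83419 (.node 83416 (.node 83415 (.leaf 0x7010105020202010202000701000d) (.leaf 0x0)) (.node 83417 (.leaf 0xb0001) (.node 83418 (.leaf 0x0) (.leaf 0x145d90145d5)))) (.node 83422 (.node 83420 (.leaf 0xb0a0f0003) (.node 83421 (.leaf 0x0) (.leaf 0xf0a0a0003))) (.node 83423 (.leaf 0x0) (.node 83424 (.leaf 0x0) (.leaf 0xf0b0b0a0004))))) (.node 83431 (.node 83428 (.node 83426 (.leaf 0xa0f0b0b0004) (.node 83427 (.leaf 0x309010902020007010009) (.leaf 0x0))) (.node 83429 (.leaf 0xe0a0a0003) (.node 83430 (.leaf 0x0) (.leaf 0x145e50145e1)))) (.node 83434 (.node 83432 (.leaf 0xb0b0a0a0004) (.node 83433 (.leaf 0x0) (.leaf 0x0))) (.node 83435 (.leaf 0xf0b0a0003) (.node 83436 (.leaf 0xa0f0002) (.leaf 0x145eb))))))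

def argWS_7392 : Store := (.node 83414 argWS_7390 argWS_7391)

def argWS_7393 : Store := (.node 83392 argWS_7389 argWS_7392)

def argWS_7394 : Store := (.node 83448 (.node 83442 (.node 83439 (.node 83438 (.leaf 0xd0001) (.leaf 0x0)) (.node 83440 (.leaf 0xe0001) (.node 83441 (.leaf 0x0) (.leaf 0x0)))) (.node 83445 (.node 83443 (.leaf 0xb0a0a0003) (.node 83444 (.leaf 0x2050802020007010008) (.leaf 0x0))) (.node 83446 (.leaf 0xe0a0002) (.node 83447 (.leaf 0x0) (.leaf 0xa0001))))) (.node 83453 (.node 83450 (.node 83449 (.leaf 0x145f70145f6) (.leaf 0xe0a0002)) (.node 83451 (.leaf 0x0) (.node 83452 (.leaf 0xf0b0002) (.leaf 0x0)))) (.node 83456 (.node 83454 (.leaf 0x0) (.node 83455 (.leaf 0xa0a0002) (.leaf 0xf0b0b0a0a0005))) (.node 83457 (.leaf 0xb0b0002) (.node 83458 (.leaf 0x146000145ff) (.leaf 0xf0b0002))))))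

def argWS_7395 : Store := (.node 83470 (.node 83464 (.node 83461 (.node 83460 (.leaf 0x0) (.leaf 0xb0b0002)) (.node 83462 (.leaf 0x0) (.node 83463 (.leaf 0x0) (.leaf 0xf0b0a0a0004)))) (.node 83467 (.node 83465 (.leaf 0xa0f0b0b0004) (.node 83466 (.leaf 0xe0001) (.leaf 0x14609014608))) (.node 83468 (.leaf 0xa0f0b0003) (.node 83469 (.leaf 0x0) (.leaf 0xb0001))))) (.node 83476 (.node 83473 (.node 83471 (.leaf 0x0) (.node 83472 (.leaf 0x0) (.leaf 0xf0b0a0a0004))) (.node 83474 (.leaf 0xa0a0002) (.node 83475 (.leaf 0x14611) (.leaf 0xb0f0a0003)))) (.node 83479 (.node 83477 (.leaf 0x0) (.node 83478 (.leaf 0xa0f0b0003) (.leaf 0x0))) (.node 83480 (.leaf 0x0) (.node 83481 (.leaf 0x0) (.leaf 0x0))))))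

def argWS_7396 : Store := (.node 83459 argWS_7394 argWS_7395)

def argWS_7397 : Store := (.node 83493 (.node 83487 (.node 83484 (.node 83483 (.leaf 0xf0b0b0003) (.leaf 0xd0001)) (.node 83485 (.leaf 0x1461b) (.node 83486 (.leaf 0xa0f0002) (.leaf 0x0)))) (.node 83490 (.node 83488 (.leaf 0x0) (.node 83489 (.leaf 0x0) (.leaf 0x109010902020007010009))) (.node 83491 (.leaf 0x0) (.node 83492 (.leaf 0x0) (.leaf 0xb0001))))) (.node 83498 (.node 83495 (.node 83494 (.leaf 0x0) (.leaf 0x0)) (.node 83496 (.leaf 0x0) (.node 83497 (.leaf 0x0) (.leaf 0x0)))) (.node 83501 (.node 83499 (.leaf 0x0) (.node 83500 (.leaf 0xb0001) (.leaf 0xe86000eeb2))) (.node 83502 (.leaf 0xb0a0002) (.node 83503 (.leaf 0x0) (.leaf 0x0))))))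

def argWS_7398 : Store := (.node 83515 (.node 83509 (.node 83506 (.node 83505 (.leaf 0x0) (.leaf 0x20406030004)) (.node 83507 (.leaf 0x0) (.node 83508 (.leaf 0x0) (.leaf 0xf0b0b0003)))) (.node 83512 (.node 83510 (.leaf 0x0) (.node 83511 (.leaf 0x0) (.leaf 0x0))) (.node 83513 (.leaf 0x0) (.node 83514 (.leaf 0xd0b0002) (.leaf 0xd0b0b0003))))) (.node 83521 (.node 83518 (.node 83516 (.leaf 0xf0a0a0003) (.node 83517 (.leaf 0x1463b01463a) (.leaf 0xa0001))) (.node 83519 (.leaf 0x0) (.node 83520 (.leaf 0x0) (.leaf 0x0)))) (.node 83524 (.node 83522 (.leaf 0x800090109000703040103000b) (.node 83523 (.leaf 0x0) (.leaf 0x0))) (.node 83525 (.leaf 0xf0b0002) (.node 83526 (.leaf 0x0) (.leaf 0x0))))))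

def argWS_7399 : Store := (.node 83504 argWS_7397 argWS_7398)

def argWS_7400 : Store := (.node 83482 argWS_7396 argWS_7399)

def argWS_7401 : Store := (.node 83437 argWS_7393 argWS_7400)

def argWS_7402 : Store := (.node 83538 (.node 83532 (.node 83529 (.node 83528 (.leaf 0x0) (.leaf 0x0)) (.node 83530 (.leaf 0xb0b0a0a0004) (.node 83531 (.leaf 0xb0f0a0a0004) (.leaf 0xf0b0002)))) (.node 83535 (.node 83533 (.leaf 0x1464b01464a) (.node 83534 (.leaf 0xd0b0b0003) (.leaf 0x0))) (.node 83536 (.leaf 0x0) (.node 83537 (.leaf 0x0) (.leaf 0x8020003010102000802040105000d))))) (.node 83543 (.node 83540 (.node 83539 (.leaf 0x0) (.leaf 0x0)) (.node 83541 (.leaf 0xf0b0b0a0004) (.node 83542 (.leaf 0x0) (.leaf 0x0)))) (.node 83546 (.node 83544 (.leaf 0x0) (.node 83545 (.leaf 0x0) (.leaf 0xb0b0002))) (.node 83547 (.leaf 0xe0a0002) (.node 83548 (.leaf 0x1465a) (.leaf 0x7020400050802040105000a))))))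

def argWS_7403 : Store := (.node 83560 (.node 83554 (.node 83551 (.node 83550 (.leaf 0x0) (.leaf 0xb0001)) (.node 83552 (.leaf 0x0) (.node 83553 (.leaf 0x0) (.leaf 0x0)))) (.node 83557 (.node 83555 (.leaf 0x0) (.node 83556 (.leaf 0x10400090000090202000701000c) (.leaf 0x0))) (.node 83558 (.leaf 0x0) (.node 83559 (.leaf 0xf0b0b0a0a0005) (.leaf 0x0))))) (.node 83566 (.node 83563 (.node 83561 (.leaf 0x0) (.node 83562 (.leaf 0x0) (.leaf 0x0))) (.node 83564 (.leaf 0xe0d0002) (.node 83565 (.leaf 0xb0b0a0a0004) (.leaf 0xf0b0002)))) (.node 83569 (.node 83567 (.leaf 0x1466d01466c) (.node 83568 (.leaf 0x802000900090006) (.leaf 0x0))) (.node 83570 (.leaf 0xd0b0b0003) (.node 83571 (.leaf 0x0) (.leaf 0x0))))))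

def argWS_7404 : Store := (.node 83549 argWS_7402 argWS_7403)

def argWS_7405 : Store := (.node 83583 (.node 83577 (.node 83574 (.node 83573 (.leaf 0x0) (.leaf 0x0)) (.node 83575 (.leaf 0x50202090000000703040103000c) (.node 83576 (.leaf 0x0) (.leaf 0x0)))) (.node 83580 (.node 83578 (.leaf 0xf0b0b0003) (.node 83579 (.leaf 0x0) (.leaf 0x0))) (.node 83581 (.leaf 0x0) (.node 83582 (.leaf 0x0) (.leaf 0xb0b0a0a0004))))) (.node 83588 (.node 83585 (.node 83584 (.leaf 0xf0b0b0a0a0005) (.leaf 0x1467f)) (.node 83586 (.leaf 0xa0001) (.node 83587 (.leaf 0x7050002) (.leaf 0x0)))) (.node 83591 (.node 83589 (.leaf 0x0) (.node 83590 (.leaf 0x0) (.leaf 0x0))) (.node 83592 (.leaf 0x40105020604000703040103000c) (.node 83593 (.leaf 0x0) (.leaf 0x0))))))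

def argWS_7406 : Store := (.node 83605 (.node 83599 (.node 83596 (.node 83595 (.leaf 0xe0d0002) (.leaf 0x0)) (.node 83597 (.leaf 0x0) (.node 83598 (.leaf 0x0) (.leaf 0x0)))) (.node 83602 (.node 83600 (.leaf 0xf0001) (.node 83601 (.leaf 0xf0a0002) (.leaf 0xb0a0002))) (.node 83603 (.leaf 0x14691014690) (.node 83604 (.leaf 0xa0a0002) (.leaf 0x0))))) (.node 83611 (.node 83608 (.node 83606 (.leaf 0x0) (.node 83607 (.leaf 0x0) (.leaf 0x5030505020604000703040103000d))) (.node 83609 (.leaf 0x0) (.node 83610 (.leaf 0x0) (.leaf 0xf0a0a0003)))) (.node 83614 (.node 83612 (.leaf 0x0) (.node 83613 (.leaf 0x0) (.leaf 0x0))) (.node 83615 (.leaf 0x0) (.node 83616 (.leaf 0xf0b0a0a0004) (.leaf 0xa0f0b0003))))))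

def argWS_7407 : Store := (.node 83594 argWS_7405 argWS_7406)

def argWS_7408 : Store := (.node 83572 argWS_7404 argWS_7407)

def argWS_7409 : Store := (.node 83628 (.node 83622 (.node 83619 (.node 83618 (.leaf 0xe0001) (.leaf 0x146a10146a0)) (.node 83620 (.leaf 0x0) (.node 83621 (.leaf 0x0) (.leaf 0x9000003030604000703040103000d)))) (.node 83625 (.node 83623 (.leaf 0x0) (.node 83624 (.leaf 0x0) (.leaf 0xa0f0b0b0004))) (.node 83626 (.leaf 0x0) (.node 83627 (.leaf 0x0) (.leaf 0x0))))) (.node 83633 (.node 83630 (.node 83629 (.leaf 0x0) (.leaf 0xf0001)) (.node 83631 (.leaf 0xf0a0002) (.node 83632 (.leaf 0xc20f0146ae) (.leaf 0x10200020804000202000701000c)))) (.node 83636 (.node 83634 (.leaf 0x0) (.node 83635 (.leaf 0xb0f0a0003) (.leaf 0x0))) (.node 83637 (.leaf 0x0) (.node 83638 (.leaf 0x0) (.leaf 0x0))))))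

def argWS_7410 : Store := (.node 83650 (.node 83644 (.node 83641 (.node 83640 (.leaf 0x60301020603000703040103000c) (.leaf 0x0)) (.node 83642 (.leaf 0x0) (.node 83643 (.leaf 0xb0f0002) (.leaf 0x0)))) (.node 83647 (.node 83645 (.leaf 0x0) (.node 83646 (.leaf 0x0) (.leaf 0x0))) (.node 83648 (.leaf 0xb0a0002) (.node 83649 (.leaf 0xb0f0a0a0004) (.leaf 0x103210146c0))))) (.node 83656 (.node 83653 (.node 83651 (.leaf 0xb0b0a0003) (.node 83652 (.leaf 0x0) (.leaf 0x0))) (.node 83654 (.leaf 0x0) (.node 83655 (.leaf 0x7090805000703040103000a) (.leaf 0x0)))) (.node 83659 (.node 83657 (.leaf 0x0) (.node 83658 (.leaf 0xf0b0002) (.leaf 0x0))) (.node 83660 (.leaf 0x0) (.node 83661 (.leaf 0x0) (.leaf 0x0))))))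

def argWS_7411 : Store := (.node 83639 argWS_7409 argWS_7410)

def argWS_7412 : Store := (.node 83673 (.node 83667 (.node 83664 (.node 83663 (.leaf 0xb0f0a0a0004) (.leaf 0xf0b0a0003)) (.node 83665 (.leaf 0xf0b0a0003) (.node 83666 (.leaf 0x146d00146cf) (.leaf 0x503070009030006)))) (.node 83670 (.node 83668 (.leaf 0x0) (.node 83669 (.leaf 0xf0a0a0003) (.leaf 0x0))) (.node 83671 (.leaf 0x0) (.node 83672 (.leaf 0x0) (.leaf 0x0))))) (.node 83679 (.node 83676 (.node 83674 (.leaf 0x901050202020703040103000b) (.node 83675 (.leaf 0x0) (.leaf 0x0))) (.node 83677 (.leaf 0xa0f0b0003) (.node 83678 (.leaf 0x0) (.leaf 0x0)))) (.node 83682 (.node 83680 (.leaf 0x0) (.node 83681 (.leaf 0x0) (.leaf 0xb0f0002))) (.node 83683 (.leaf 0xe441) (.node 83684 (.leaf 0xe0001) (.leaf 0x0))))))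

def argWS_7413 : Store := (.node 83696 (.node 83690 (.node 83687 (.node 83686 (.leaf 0x0) (.leaf 0x0)) (.node 83688 (.leaf 0x3030604000703040103000c) (.node 83689 (.leaf 0x0) (.leaf 0x0)))) (.node 83693 (.node 83691 (.leaf 0xb0001) (.node 83692 (.leaf 0x0) (.leaf 0x0))) (.node 83694 (.leaf 0x0) (.node 83695 (.leaf 0x0) (.leaf 0xb0001))))) (.node 83702 (.node 83699 (.node 83697 (.leaf 0xf0a0002) (.node 83698 (.leaf 0xe0d0002) (.leaf 0x146f10146f0))) (.node 83700 (.leaf 0x20103090806000202000701000c) (.node 83701 (.leaf 0x0) (.leaf 0xb0b0002)))) (.node 83705 (.node 83703 (.leaf 0x0) (.node 83704 (.leaf 0x0) (.leaf 0x0))) (.node 83706 (.leaf 0x0) (.node 83707 (.leaf 0x8050009080600000703040103000d) (.leaf 0x0))))))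

def argWS_7414 : Store := (.node 83685 argWS_7412 argWS_7413)

def argWS_7415 : Store := (.node 83662 argWS_7411 argWS_7414)

def argWS_7416 : Store := (.node 83617 argWS_7408 argWS_7415)

def argWS_7417 : Store := (.node 83527 argWS_7401 argWS_7416)

def argWS_7418 : Store := (.node 83347 argWS_7386 argWS_7417)

def argWS_7419 : Store := (.node 82986 argWS_7355 argWS_7418)

def argWS_7420 : Store := (.node 82265 argWS_7292 argWS_7419)

def argWS_7421 : Store := (.node 83719 (.node 83713 (.node 83710 (.node 83709 (.leaf 0x0) (.leaf 0xd0b0b0003)) (.node 83711 (.leaf 0x0) (.node 83712 (.leaf 0x0) (.leaf 0x0)))) (.node 83716 (.node 83714 (.leaf 0x0) (.node 83715 (.leaf 0x0) (.leaf 0x0))) (.node 83717 (.leaf 0x0) (.node 83718 (.leaf 0x0) (.leaf 0x0))))) (.node 83724 (.node 83721 (.node 83720 (.leaf 0x0) (.leaf 0x0)) (.node 83722 (.leaf 0x0) (.node 83723 (.leaf 0x0) (.leaf 0x0)))) (.node 83727 (.node 83725 (.leaf 0x0) (.node 83726 (.leaf 0x0) (.leaf 0x0)))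 (.node 83728 (.leaf 0x0) (.node 83729 (.leaf 0x0) (.leaf 0x0))))))

def argWS_7422 : Store := (.node 83741 (.node 83735 (.node 83732 (.node 83731 (.leaf 0x0) (.leaf 0x0)) (.node 83733 (.leaf 0x0) (.node 83734 (.leaf 0x0) (.leaf 0x0)))) (.node 83738 (.node 83736 (.leaf 0x0) (.node 83737 (.leaf 0x0) (.leaf 0x0))) (.node 83739 (.leaf 0x0) (.node 83740 (.leaf 0x0) (.leaf 0x0))))) (.node 83747 (.node 83744 (.node 83742 (.leaf 0x0) (.node 83743 (.leaf 0x0) (.leaf 0x0))) (.node 83745 (.leaf 0x0) (.node 83746 (.leaf 0x0) (.leaf 0x0)))) (.node 83750 (.node 83748 (.leaf 0x0) (.node 83749 (.leaf 0x0) (.leaf 0x0))) (.node 83751 (.leaf 0x0) (.node 83752 (.leaf 0x0) (.leaf 0x0))))))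

def argWS_7423 : Store := (.node 83730 argWS_7421 argWS_7422)

def argWS_7424 : Store := (.node 83764 (.node 83758 (.node 83755 (.node 83754 (.leaf 0x0) (.leaf 0x0)) (.node 83756 (.leaf 0x0) (.node 83757 (.leaf 0x0) (.leaf 0x0)))) (.node 83761 (.node 83759 (.leaf 0x0) (.node 83760 (.leaf 0x0) (.leaf 0x0))) (.node 83762 (.leaf 0x0) (.node 83763 (.leaf 0x0) (.leaf 0x0))))) (.node 83769 (.node 83766 (.node 83765 (.leaf 0x0) (.leaf 0x0)) (.node 83767 (.leaf 0x0) (.node 83768 (.leaf 0x0) (.leaf 0x0)))) (.node 83772 (.node 83770 (.leaf 0x0) (.node 83771 (.leaf 0x0) (.leaf 0x0))) (.node 83773 (.leaf 0x0) (.node 83774 (.leaf 0x0) (.leaf 0x0))))))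

def argWS_7425 : Store := (.node 83786 (.node 83780 (.node 83777 (.node 83776 (.leaf 0x0) (.leaf 0x0)) (.node 83778 (.leaf 0x0) (.node 83779 (.leaf 0x0) (.leaf 0x0)))) (.node 83783 (.node 83781 (.leaf 0x0) (.node 83782 (.leaf 0x0) (.leaf 0x0))) (.node 83784 (.leaf 0x0) (.node 83785 (.leaf 0x0) (.leaf 0x0))))) (.node 83792 (.node 83789 (.node 83787 (.leaf 0x0) (.node 83788 (.leaf 0x0) (.leaf 0x0))) (.node 83790 (.leaf 0x0) (.node 83791 (.leaf 0x0) (.leaf 0x0)))) (.node 83795 (.node 83793 (.leaf 0x0) (.node 83794 (.leaf 0x0) (.leaf 0x0))) (.node 83796 (.leaf 0x0) (.node 83797 (.leaf 0x0) (.leaf 0x0))))))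

def argWS_7426 : Store := (.node 83775 argWS_7424 argWS_7425)

def argWS_7427 : Store := (.node 83753 argWS_7423 argWS_7426)

def argWS_7428 : Store := (.node 83809 (.node 83803 (.node 83800 (.node 83799 (.leaf 0x0) (.leaf 0x0)) (.node 83801 (.leaf 0x0) (.node 83802 (.leaf 0x0) (.leaf 0x0)))) (.node 83806 (.node 83804 (.leaf 0x0) (.node 83805 (.leaf 0x0) (.leaf 0x0))) (.node 83807 (.leaf 0x0) (.node 83808 (.leaf 0x0) (.leaf 0x0))))) (.node 83814 (.node 83811 (.node 83810 (.leaf 0x0) (.leaf 0x0)) (.node 83812 (.leaf 0x0) (.node 83813 (.leaf 0x0) (.leaf 0x0)))) (.node 83817 (.node 83815 (.leaf 0x0) (.node 83816 (.leaf 0x0) (.leaf 0x0))) (.node 83818 (.leaf 0x0) (.node 83819 (.leaf 0x0) (.leaf 0x0))))))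

def argWS_7429 : Store := (.node 83831 (.node 83825 (.node 83822 (.node 83821 (.leaf 0x0) (.leaf 0x0)) (.node 83823 (.leaf 0x0) (.node 83824 (.leaf 0x0) (.leaf 0x0)))) (.node 83828 (.node 83826 (.leaf 0x0) (.node 83827 (.leaf 0x0) (.leaf 0x0))) (.node 83829 (.leaf 0x0) (.node 83830 (.leaf 0x0) (.leaf 0x0))))) (.node 83837 (.node 83834 (.node 83832 (.leaf 0x0) (.node 83833 (.leaf 0x0) (.leaf 0x0))) (.node 83835 (.leaf 0x0) (.node 83836 (.leaf 0x0) (.leaf 0x0)))) (.node 83840 (.node 83838 (.leaf 0x0) (.node 83839 (.leaf 0x0) (.leaf 0x0))) (.node 83841 (.leaf 0x0) (.node 83842 (.leaf 0x0) (.leaf 0x0))))))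

def argWS_7430 : Store := (.node 83820 argWS_7428 argWS_7429)

def argWS_7431 : Store := (.node 83854 (.node 83848 (.node 83845 (.node 83844 (.leaf 0x0) (.leaf 0x0)) (.node 83846 (.leaf 0x0) (.node 83847 (.leaf 0x0) (.leaf 0x0)))) (.node 83851 (.node 83849 (.leaf 0x0) (.node 83850 (.leaf 0x0) (.leaf 0x0))) (.node 83852 (.leaf 0x0) (.node 83853 (.leaf 0x0) (.leaf 0x0))))) (.node 83859 (.node 83856 (.node 83855 (.leaf 0x0) (.leaf 0x0)) (.node 83857 (.leaf 0x0) (.node 83858 (.leaf 0x0) (.leaf 0x0)))) (.node 83862 (.node 83860 (.leaf 0x0) (.node 83861 (.leaf 0x0) (.leaf 0x0))) (.node 83863 (.leaf 0x0) (.node 83864 (.leaf 0x0) (.leaf 0x0))))))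

def argWS_7432 : Store := (.node 83876 (.node 83870 (.node 83867 (.node 83866 (.leaf 0x0) (.leaf 0x0)) (.node 83868 (.leaf 0x0) (.node 83869 (.leaf 0x0) (.leaf 0x0)))) (.node 83873 (.node 83871 (.leaf 0x0) (.node 83872 (.leaf 0x0) (.leaf 0x0))) (.node 83874 (.leaf 0x0) (.node 83875 (.leaf 0x0) (.leaf 0x0))))) (.node 83882 (.node 83879 (.node 83877 (.leaf 0x0) (.node 83878 (.leaf 0x0) (.leaf 0x0))) (.node 83880 (.leaf 0x0) (.node 83881 (.leaf 0x0) (.leaf 0x0)))) (.node 83885 (.node 83883 (.leaf 0x0) (.node 83884 (.leaf 0x0) (.leaf 0x0))) (.node 83886 (.leaf 0x0) (.node 83887 (.leaf 0x0) (.leaf 0x0))))))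

def argWS_7433 : Store := (.node 83865 argWS_7431 argWS_7432)

def argWS_7434 : Store := (.node 83843 argWS_7430 argWS_7433)

def argWS_7435 : Store := (.node 83798 argWS_7427 argWS_7434)

def argWS_7436 : Store := (.node 83899 (.node 83893 (.node 83890 (.node 83889 (.leaf 0x0) (.leaf 0x0)) (.node 83891 (.leaf 0x0) (.node 83892 (.leaf 0x0) (.leaf 0x0)))) (.node 83896 (.node 83894 (.leaf 0x0) (.node 83895 (.leaf 0x0) (.leaf 0x0))) (.node 83897 (.leaf 0x0) (.node 83898 (.leaf 0x0) (.leaf 0x0))))) (.node 83904 (.node 83901 (.node 83900 (.leaf 0x0) (.leaf 0x0)) (.node 83902 (.leaf 0x0) (.node 83903 (.leaf 0x0) (.leaf 0x0)))) (.node 83907 (.node 83905 (.leaf 0x0) (.node 83906 (.leaf 0x0) (.leaf 0x0))) (.node 83908 (.leaf 0x0) (.node 83909 (.leaf 0x0) (.leaf 0x0))))))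

def argWS_7437 : Store := (.node 83921 (.node 83915 (.node 83912 (.node 83911 (.leaf 0x0) (.leaf 0x0)) (.node 83913 (.leaf 0x0) (.node 83914 (.leaf 0x0) (.leaf 0x0)))) (.node 83918 (.node 83916 (.leaf 0x0) (.node 83917 (.leaf 0x0) (.leaf 0x0))) (.node 83919 (.leaf 0xf0b0002) (.node 83920 (.leaf 0xe0a0a0003) (.leaf 0x147cf))))) (.node 83927 (.node 83924 (.node 83922 (.leaf 0xb0b0002) (.node 83923 (.leaf 0x0) (.leaf 0x0))) (.node 83925 (.leaf 0x0) (.node 83926 (.leaf 0x204090806000802040105000b) (.leaf 0x0)))) (.node 83930 (.node 83928 (.leaf 0x0) (.node 83929 (.leaf 0xe0d0002) (.leaf 0x0))) (.node 83931 (.leaf 0x0) (.node 83932 (.leaf 0x0) (.leaf 0x0))))))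

def argWS_7438 : Store := (.node 83910 argWS_7436 argWS_7437)

def argWS_7439 : Store := (.node 83944 (.node 83938 (.node 83935 (.node 83934 (.leaf 0x0) (.leaf 0x0)) (.node 83936 (.leaf 0xb0b0a0a0004) (.node 83937 (.leaf 0xf0b0b0a0a0005) (.leaf 0x147e0)))) (.node 83941 (.node 83939 (.leaf 0xf0b0b0a0a0005) (.node 83940 (.leaf 0x0) (.leaf 0x0))) (.node 83942 (.leaf 0x0) (.node 83943 (.leaf 0x2090109000703040103000a) (.leaf 0x0))))) (.node 83949 (.node 83946 (.node 83945 (.leaf 0x0) (.leaf 0x0)) (.node 83947 (.leaf 0x0) (.node 83948 (.leaf 0x0) (.leaf 0x10001)))) (.node 83952 (.node 83950 (.leaf 0x30001) (.node 83951 (.leaf 0x90001) (.leaf 0x1010002))) (.node 83953 (.leaf 0x1030002) (.node 83954 (.leaf 0x1090002) (.leaf 0x30002))))))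

def argWS_7440 : Store := (.node 83966 (.node 83960 (.node 83957 (.node 83956 (.leaf 0x20002) (.leaf 0x3030002)) (.node 83958 (.leaf 0x2010002) (.node 83959 (.leaf 0x2000002) (.leaf 0x9010002)))) (.node 83963 (.node 83961 (.leaf 0x9020106060802040105000a) (.node 83962 (.leaf 0x103010003) (.leaf 0x70108020401050007))) (.node 83964 (.leaf 0x102020003) (.node 83965 (.leaf 0x604010400050202000701000b) (.leaf 0x5000206020007010008))))) (.node 83972 (.node 83969 (.node 83967 (.leaf 0x602090402000703040103000b) (.node 83968 (.leaf 0x700070206000202000701000b) (.leaf 0x104000003))) (.node 83970 (.leaf 0x2040206020007010008) (.node 83971 (.leaf 0x5000000000300000802040105000d) (.leaf 0x2020000090206020008)))) (.node 83975 (.node 83973 (.leaf 0x6040106010500020202000701000d) (.node 83974 (.leaf 0x300070209020006) (.leaf 0x204000408010202000701000b))) (.node 83976 (.leaf 0x3010003) (.node 83977 (.leaf 0x7020009020602000703040103000d) (.leaf 0x3070002000003010802040105000d))))))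

def argWS_7441 : Store := (.node 83955 argWS_7439 argWS_7440)

def argWS_7442 : Store := (.node 83933 argWS_7438 argWS_7441)

def argWS_7443 : Store := (.node 83989 (.node 83983 (.node 83980 (.node 83979 (.leaf 0x2000003) (.leaf 0x202020003)) (.node 83981 (.leaf 0x602010301010200000703040103000e) (.node 83982 (.leaf 0x304030003) (.leaf 0x402020900000202000701000b)))) (.node 83986 (.node 83984 (.leaf 0x4000202020703040103000a) (.node 83985 (.leaf 0x907020901060802040105000b) (.leaf 0x606010400050802040105000b))) (.node 83987 (.leaf 0x30106030500040202000701000c) (.node 83988 (.leaf 0x10001) (.leaf 0x30001))))) (.node 83994 (.node 83991 (.node 83990 (.leaf 0x20001) (.leaf 0x1010002)) (.node 83992 (.leaf 0x1030002) (.node 83993 (.leaf 0x1070002) (.leaf 0x1090002)))) (.node 83997 (.node 83995 (.leaf 0x20002) (.node 83996 (.leaf 0x3000002) (.leaf 0x3030002))) (.node 83998 (.leaf 0x2010002) (.node 83999 (.leaf 0x2000002) (.leaf 0x9010002))))))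

def argWS_7444 : Store := (.node 84011 (.node 84005 (.node 84002 (.node 84001 (.leaf 0x20002090106000703040103000d) (.leaf 0x9020106060802040105000a)) (.node 84003 (.leaf 0x103010003) (.node 84004 (.leaf 0x70108020401050007) (.leaf 0x600030000000703040103000b)))) (.node 84008 (.node 84006 (.leaf 0x2040105020202010202000701000d) (.node 84007 (.leaf 0x604010400050202000701000b) (.leaf 0x5000206020007010008))) (.node 84009 (.leaf 0x602090402000703040103000b) (.node 84010 (.leaf 0x8050703060202000701000a) (.leaf 0x700070206000202000701000b))))) (.node 84017 (.node 84014 (.node 84012 (.leaf 0x104000003) (.node 84013 (.leaf 0x2040206020007010008) (.leaf 0x5000000000300000802040105000d))) (.node 84015 (.leaf 0x107000003) (.node 84016 (.leaf 0x2020000090206020008) (.leaf 0x6040106010500020202000701000d)))) (.node 84020 (.node 84018 (.leaf 0x20500020804000007) (.node 84019 (.leaf 0x300070209020006) (.leaf 0x204000408010202000701000b))) (.node 84021 (.leaf 0x7000005020604000703040103000d)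 (.node 84022 (.leaf 0x3010003) (.leaf 0x7020009020602000703040103000d))))))

def argWS_7445 : Store := (.node 84000 argWS_7443 argWS_7444)

def argWS_7446 : Store := (.node 84034 (.node 84028 (.node 84025 (.node 84024 (.leaf 0x3070002000003010802040105000d) (.leaf 0x2000003)) (.node 84026 (.leaf 0x10300020106060202000701000c) (.node 84027 (.leaf 0x5030003) (.leaf 0x6030003)))) (.node 84031 (.node 84029 (.leaf 0x1030106030500040202000701000d) (.node 84030 (.leaf 0x2020202010005) (.leaf 0x602010301010200000703040103000e))) (.node 84032 (.leaf 0x304030003) (.node 84033 (.leaf 0x2000006010500020802040105000d) (.leaf 0x1020206020702010802040105000d))))) (.node 84039 (.node 84036 (.node 84035 (.leaf 0x8020908050202000701000a) (.leaf 0x903000003)) (.node 84037 (.leaf 0x3010005) (.node 84038 (.leaf 0x402020900000202000701000b) (.leaf 0x4000202020703040103000a)))) (.node 84042 (.node 84040 (.leaf 0x907020901060802040105000b) (.node 84041 (.leaf 0x704010904020802040105000b)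 (.leaf 0x4030009020602000703040103000d))) (.node 84043 (.leaf 0x8050000000300000802040105000d) (.node 84044 (.leaf 0x606010400050802040105000b) (.leaf 0x30106030500040202000701000c))))))

def argWS_7447 : Store := (.node 84056 (.node 84050 (.node 84047 (.node 84046 (.leaf 0x9070202090000000703040103000d) (.leaf 0x10001)) (.node 84048 (.leaf 0x1) (.node 84049 (.leaf 0x30001) (.leaf 0x1030002)))) (.node 84053 (.node 84051 (.leaf 0x1090002) (.node 84052 (.leaf 0x2) (.leaf 0x30002))) (.node 84054 (.leaf 0x20002) (.node 84055 (.leaf 0x90002) (.leaf 0x3030002))))) (.node 84062 (.node 84059 (.node 84057 (.leaf 0x3070002) (.node 84058 (.leaf 0x9010002) (.leaf 0x9000002))) (.node 84060 (.leaf 0x20002090106000703040103000d) (.node 84061 (.leaf 0x103010003) (.leaf 0x70108020401050007)))) (.node 84065 (.node 84063 (.leaf 0x600030000000703040103000b) (.node 84064 (.leaf 0x102020003) (.leaf 0x2040105020202010202000701000d))) (.node 84066 (.leaf 0x604010400050202000701000b)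 (.node 84067 (.leaf 0x5000206020007010008) (.leaf 0x602090402000703040103000b))))))

def argWS_7448 : Store := (.node 84045 argWS_7446 argWS_7447)

def argWS_7449 : Store := (.node 84023 argWS_7445 argWS_7448)

def argWS_7450 : Store := (.node 83978 argWS_7442 argWS_7449)

def argWS_7451 : Store := (.node 83888 argWS_7435 argWS_7450)

def argWS_7452 : Store := (.node 84079 (.node 84073 (.node 84070 (.node 84069 (.leaf 0x700070206000202000701000b) (.leaf 0x104000003)) (.node 84071 (.leaf 0x2040206020007010008) (.node 84072 (.leaf 0x5000000000300000802040105000d) (.leaf 0x107000003)))) (.node 84076 (.node 84074 (.leaf 0x107030003) (.node 84075 (.leaf 0x2020000090206020008) (.leaf 0x6040106010500020202000701000d))) (.node 84077 (.leaf 0x300070209020006) (.node 84078 (.leaf 0x204000408010202000701000b) (.leaf 0x7000005020604000703040103000d))))) (.node 84084 (.node 84081 (.node 84080 (.leaf 0x3010003) (.leaf 0x7020009020602000703040103000d)) (.node 84082 (.leaf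 0x3070002000003010802040105000d) (.node 84083 (.leaf 0x2000003) (.leaf 0x90300020901060007)))) (.node 84087 (.node 84085 (.leaf 0x4000003) (.node 84086 (.leaf 0x4010206020007010008) (.leaf 0x8020007020902000703040103000d))) (.node 84088 (.leaf 0x1030106030500040202000701000d) (.node 84089 (.leaf 0x202020003) (.leaf 0x602010301010200000703040103000e))))))

def argWS_7453 : Store := (.node 84101 (.node 84095 (.node 84092 (.node 84091 (.leaf 0x304030003) (.leaf 0x2000006010500020802040105000d)) (.node 84093 (.leaf 0x1020206020702010802040105000d) (.node 84094 (.leaf 0x402020207030401030009) (.leaf 0x202000003)))) (.node 84098 (.node 84096 (.leaf 0x4000202020703040103000a) (.node 84097 (.leaf 0x907020901060802040105000b) (.leaf 0x604000901090006))) (.node 84099 (.leaf 0x8020703060202000701000a) (.node 84100 (.leaf 0x606010400050802040105000b) (.leaf 0x30106030500040202000701000c))))) (.node 84107 (.node 84104 (.node 84102 (.leaf 0x600070306000703040103000b)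 (.node 84103 (.leaf 0x10001) (.leaf 0x30001))) (.node 84105 (.leaf 0x20001) (.node 84106 (.leaf 0x90001) (.leaf 0x1090002)))) (.node 84110 (.node 84108 (.leaf 0x20002) (.node 84109 (.leaf 0x10001) (.leaf 0x30001))) (.node 84111 (.leaf 0x20001) (.node 84112 (.leaf 0x1010002) (.leaf 0x1030002))))))

def argWS_7454 : Store := (.node 84090 argWS_7452 argWS_7453)

def argWS_7455 : Store := (.node 84124 (.node 84118 (.node 84115 (.node 84114 (.leaf 0x1020002) (.leaf 0x1050002)) (.node 84116 (.leaf 0x1090002) (.node 84117 (.leaf 0x30002) (.leaf 0x20002)))) (.node 84121 (.node 84119 (.leaf 0x3010002) (.node 84120 (.leaf 0x3030002) (.leaf 0x2010002))) (.node 84122 (.leaf 0x2000002) (.node 84123 (.leaf 0x9010002) (.leaf 0x9020106060802040105000a))))) (.node 84129 (.node 84126 (.node 84125 (.leaf 0x70108020401050007) (.leaf 0x6020401050005)) (.node 84127 (.leaf 0x102020003) (.node 84128 (.leaf 0x604010400050202000701000b) (.leaf 0x5000206020007010008)))) (.node 84132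 (.node 84130 (.leaf 0x602090402000703040103000b) (.node 84131 (.leaf 0x105020003) (.leaf 0x700070206000202000701000b))) (.node 84133 (.leaf 0x104000003) (.node 84134 (.leaf 0x2040206020007010008) (.leaf 0x5000000000300000802040105000d))))))

def argWS_7456 : Store := (.node 84146 (.node 84140 (.node 84137 (.node 84136 (.leaf 0x107000003) (.leaf 0x60601090806000007)) (.node 84138 (.leaf 0x6040106010500020202000701000d) (.node 84139 (.leaf 0x300070209020006) (.leaf 0x204000408010202000701000b)))) (.node 84143 (.node 84141 (.leaf 0x109030003) (.node 84142 (.leaf 0x1030106010500020802040105000d) (.leaf 0x105020901090006))) (.node 84144 (.leaf 0x7020009020602000703040103000d) (.node 84145 (.leaf 0x3070002000003010802040105000d) (.leaf 0x2000003))))) (.node 84152 (.node 84149 (.node 84147 (.leaf 0x10300020106060202000701000c) (.node 84148 (.leaf 0x4020003) (.leaf 0x6030003))) (.node 84150 (.leaf 0x902060402020007010009) (.node 84151 (.leaf 0x202020003) (.leaf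 0x602010301010200000703040103000e)))) (.node 84155 (.node 84153 (.leaf 0x304030003) (.node 84154 (.leaf 0x2000006010500020802040105000d) (.leaf 0x1020206020702010802040105000d))) (.node 84156 (.leaf 0x402020207030401030009) (.node 84157 (.leaf 0x604000900090802040105000b) (.leaf 0x3030900090005))))))

def argWS_7457 : Store := (.node 84135 argWS_7455 argWS_7456)

def argWS_7458 : Store := (.node 84113 argWS_7454 argWS_7457)

def argWS_7459 : Store := (.node 84169 (.node 84163 (.node 84160 (.node 84159 (.leaf 0x402020900000202000701000b) (.leaf 0x4000202020703040103000a)) (.node 84161 (.leaf 0x907020901060802040105000b) (.node 84162 (.leaf 0x602010904020006) (.leaf 0x40009000009000703040103000d)))) (.node 84166 (.node 84164 (.leaf 0x4030009020602000703040103000d) (.node 84165 (.leaf 0x606010400050802040105000b) (.leaf 0x30106030500040202000701000c))) (.node 84167 (.leaf 0x200000300000006) (.node 84168 (.leaf 0x10001) (.leaf 0x1))))) (.node 84174 (.node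 84171 (.node 84170 (.leaf 0x30001) (.leaf 0x1030002)) (.node 84172 (.leaf 0x1090002) (.node 84173 (.leaf 0x2) (.leaf 0x30002)))) (.node 84177 (.node 84175 (.leaf 0x20002) (.node 84176 (.leaf 0x90002) (.leaf 0x3030002))) (.node 84178 (.leaf 0x3070002) (.node 84179 (.leaf 0x2010002) (.leaf 0x2000002))))))

def argWS_7460 : Store := (.node 84191 (.node 84185 (.node 84182 (.node 84181 (.leaf 0x9010002) (.leaf 0x9000002)) (.node 84183 (.leaf 0x20002090106000703040103000d) (.node 84184 (.leaf 0x103010003) (.leaf 0x70108020401050007)))) (.node 84188 (.node 84186 (.leaf 0x600030000000703040103000b) (.node 84187 (.leaf 0x102020003) (.leaf 0x604010400050202000701000b))) (.node 84189 (.leaf 0x5000206020007010008) (.node 84190 (.leaf 0x602090402000703040103000b) (.leaf 0x700070206000202000701000b))))) (.node 84197 (.node 84194 (.node 84192 (.leaf 0x104000003) (.node 84193 (.leaf 0x2040206020007010008) (.leaf 0x5000000000300000802040105000d))) (.node 84195 (.leaf 0x107000003)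 (.node 84196 (.leaf 0x107030003) (.leaf 0x70802020007010007)))) (.node 84200 (.node 84198 (.leaf 0x2020000090206020008) (.node 84199 (.leaf 0x6040106010500020202000701000d) (.leaf 0x300070209020006))) (.node 84201 (.leaf 0x204000408010202000701000b) (.node 84202 (.leaf 0x7000005020604000703040103000d) (.leaf 0x3010003))))))

def argWS_7461 : Store := (.node 84180 argWS_7459 argWS_7460)

def argWS_7462 : Store := (.node 84214 (.node 84208 (.node 84205 (.node 84204 (.leaf 0x7020009020602000703040103000d) (.leaf 0x3070002000003010802040105000d)) (.node 84206 (.leaf 0x2000003) (.node 84207 (.leaf 0x90300020901060007) (.leaf 0x4000003)))) (.node 84211 (.node 84209 (.leaf 0x4010206020007010008) (.node 84210 (.leaf 0x8020007020902000703040103000d) (.leaf 0x1030106030500040202000701000d))) (.node 84212 (.leaf 0x202020003) (.node 84213 (.leaf 0x602010301010200000703040103000e) (.leaf 0x501060608020401050009))))) (.node 84219 (.node 84216 (.node 84215 (.leaf 0x2000006010500020802040105000d)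 (.leaf 0x1020206020702010802040105000d)) (.node 84217 (.leaf 0x402020207030401030009) (.node 84218 (.leaf 0x202000003) (.leaf 0x402020900000202000701000b)))) (.node 84222 (.node 84220 (.leaf 0x4000202020703040103000a) (.node 84221 (.leaf 0x907020901060802040105000b) (.leaf 0x604000901090006))) (.node 84223 (.leaf 0x8020703060202000701000a) (.node 84224 (.leaf 0x606010400050802040105000b) (.leaf 0x30106030500040202000701000c))))))

def argWS_7463 : Store := (.node 84236 (.node 84230 (.node 84227 (.node 84226 (.leaf 0x10001) (.leaf 0x30001)) (.node 84228 (.leaf 0x20001) (.node 84229 (.leaf 0x90001) (.leaf 0x1010002)))) (.node 84233 (.node 84231 (.leaf 0x1030002) (.node 84232 (.leaf 0x1070002) (.leaf 0x30002))) (.node 84234 (.leaf 0x20002) (.node 84235 (.leaf 0x3000002) (.leaf 0x2010002))))) (.node 84242 (.node 84239 (.node 84237 (.leaf 0x2000002) (.node 84238 (.leaf 0x9010002) (.leaf 0x20002090106000703040103000d))) (.node 84240 (.leaf 0x9020106060802040105000a)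 (.node 84241 (.leaf 0x103010003) (.leaf 0x600030000000703040103000b)))) (.node 84245 (.node 84243 (.leaf 0x102020003) (.node 84244 (.leaf 0x2040105020202010202000701000d) (.leaf 0x604010400050202000701000b))) (.node 84246 (.leaf 0x5000206020007010008) (.node 84247 (.leaf 0x602090402000703040103000b) (.leaf 0x8050703060202000701000a))))))

def argWS_7464 : Store := (.node 84225 argWS_7462 argWS_7463)

def argWS_7465 : Store := (.node 84203 argWS_7461 argWS_7464)

def argWS_7466 : Store := (.node 84158 argWS_7458 argWS_7465)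

def argWS_7467 : Store := (.node 84259 (.node 84253 (.node 84250 (.node 84249 (.leaf 0x700070206000202000701000b) (.leaf 0x104000003)) (.node 84251 (.leaf 0x5000000000300000802040105000d) (.node 84252 (.leaf 0x107000003) (.leaf 0x107030003)))) (.node 84256 (.node 84254 (.leaf 0x2020000090206020008) (.node 84255 (.leaf 0x20500020804000007) (.leaf 0x300070209020006))) (.node 84257 (.leaf 0x204000408010202000701000b) (.node 84258 (.leaf 0x0) (.leaf 0x7000005020604000703040103000d))))) (.node 84264 (.node 84261 (.node 84260 (.leaf 0x3010003) (.leaf 0x7020009020602000703040103000d)) (.node 84262 (.leaf 0x3070002000003010802040105000d) (.node 84263 (.leaf 0x2000003) (.leaf 0x10300020106060202000701000c)))) (.node 84267 (.node 84265 (.leaf 0x5030003) (.node 84266 (.leaf 0x6030003) (.leaf 0x1030106030500040202000701000d))) (.node 84268 (.leaf 0x202020003) (.node 84269 (.leaf 0x602010301010200000703040103000e) (.leaf 0x304030003))))))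

def argWS_7468 : Store := (.node 84281 (.node 84275 (.node 84272 (.node 84271 (.leaf 0x2000006010500020802040105000d) (.leaf 0x8020908050202000701000a)) (.node 84273 (.leaf 0x903000003) (.node 84274 (.leaf 0x3010005) (.leaf 0x402020900000202000701000b)))) (.node 84278 (.node 84276 (.leaf 0x907020901060802040105000b) (.node 84277 (.leaf 0x704010904020802040105000b) (.leaf 0x4030009020602000703040103000d))) (.node 84279 (.leaf 0x8050000000300000802040105000d) (.node 84280 (.leaf 0x606010400050802040105000b) (.leaf 0x30106030500040202000701000c))))) (.node 84287 (.node 84284 (.node 84282 (.leaf 0x9070202090000000703040103000d) (.node 84283 (.leaf 0x10001) (.leaf 0x1))) (.node 84285 (.leaf 0x30001) (.node 84286 (.leaf 0x20001) (.leaf 0x1020002)))) (.node 84290 (.node 84288 (.leaf 0x1090002) (.node 84289 (.leaf 0x2) (.leaf 0x30002))) (.node 84291 (.leaf 0x20002) (.node 84292 (.leaf 0x50002) (.leaf 0x90002))))))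

def argWS_7469 : Store := (.node 84270 argWS_7467 argWS_7468)

def argWS_7470 : Store := (.node 84304 (.node 84298 (.node 84295 (.node 84294 (.leaf 0x3010002) (.leaf 0x2000002)) (.node 84296 (.leaf 0x2020002) (.node 84297 (.leaf 0x2070002) (.leaf 0x6020401050005)))) (.node 84301 (.node 84299 (.leaf 0x102020003) (.node 84300 (.leaf 0x2040105020202010202000701000d) (.leaf 0x10001))) (.node 84302 (.leaf 0x1) (.node 84303 (.leaf 0x30001) (.leaf 0x20001))))) (.node 84309 (.node 84306 (.node 84305 (.leaf 0x90001) (.leaf 0x1010002)) (.node 84307 (.leaf 0x1030002) (.node 84308 (.leaf 0x1070002) (.leaf 0x1090002)))) (.node 84312 (.node 84310 (.leaf 0x2) (.node 84311 (.leaf 0x30002) (.leaf 0x20002))) (.node 84313 (.leaf 0x90002) (.node 84314 (.leaf 0x3030002) (.leaf 0x3070002))))))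

def argWS_7471 : Store := (.node 84326 (.node 84320 (.node 84317 (.node 84316 (.leaf 0x702020901060202000701000b) (.leaf 0x2000002)) (.node 84318 (.leaf 0x2020002) (.node 84319 (.leaf 0x9010002) (.leaf 0x9000002)))) (.node 84323 (.node 84321 (.leaf 0x30106010500020802040105000c) (.node 84322 (.leaf 0x9020106060802040105000a) (.leaf 0x103010003))) (.node 84324 (.leaf 0x70108020401050007) (.node 84325 (.leaf 0x600030000000703040103000b) (.leaf 0x102020003))))) (.node 84332 (.node 84329 (.node 84327 (.leaf 0x5000206020007010008) (.node 84328 (.leaf 0x602090402000703040103000b) (.leaf 0x104000003))) (.node 84330 (.leaf 0x0) (.node 84331 (.leaf 0x2040206020007010008) (.leaf 0x5000000000300000802040105000d)))) (.node 84335 (.node 84333 (.leaf 0x107000003) (.node 84334 (.leaf 0x107030003) (.leaf 0x70802020007010007))) (.node 84336 (.leaf 0x2020000090206020008) (.node 84337 (.leaf 0x700090402000703040103000b) (.leaf 0x402020900000202000701000c))))))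

def argWS_7472 : Store := (.node 84315 argWS_7470 argWS_7471)

def argWS_7473 : Store := (.node 84293 argWS_7469 argWS_7472)

def argWS_7474 : Store := (.node 84349 (.node 84343 (.node 84340 (.node 84339 (.leaf 0x6040106010500020202000701000d) (.leaf 0x20500020804000007)) (.node 84341 (.leaf 0x700000900090802040105000b) (.node 84342 (.leaf 0x300070209020006) (.leaf 0x204000408010202000701000b)))) (.node 84346 (.node 84344 (.leaf 0x7000005020604000703040103000d) (.node 84345 (.leaf 0x1030106010500020802040105000d) (.leaf 0x20002090106000703040103000c))) (.node 84347 (.leaf 0x90003) (.node 84348 (.leaf 0x3010003) (.leaf 0x3080003))))) (.node 84354 (.node 84351 (.node 84350 (.leaf 0x7020009020602000703040103000d) (.leaf 0x3070002000003010802040105000d)) (.node 84352 (.leaf 0x2000003) (.node 84353 (.leaf 0x404090000090202000701000b) (.leaf 0x10300020106060202000701000c)))) (.node 84357 (.node 84355 (.leaf 0x80200020000030703040103000c) (.node 84356 (.leaf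 0x90300020901060007) (.leaf 0x4000003))) (.node 84358 (.leaf 0x4010206020007010008) (.node 84359 (.leaf 0x7030003) (.leaf 0x6030003))))))

def argWS_7475 : Store := (.node 84371 (.node 84365 (.node 84362 (.node 84361 (.leaf 0x8020007020902000703040103000d) (.leaf 0x8000003)) (.node 84363 (.leaf 0x1030106030500040202000701000d) (.node 84364 (.leaf 0x300000003) (.leaf 0x902060402020007010009)))) (.node 84368 (.node 84366 (.leaf 0x2020202010005) (.node 84367 (.leaf 0x202020003) (.leaf 0x602010301010200000703040103000e))) (.node 84369 (.leaf 0x501060608020401050009) (.node 84370 (.leaf 0x304030003) (.leaf 0x2000006010500020802040105000d))))) (.node 84377 (.node 84374 (.node 84372 (.leaf 0x6000901090802040105000b) (.node 84373 (.leaf 0x107000401050006) (.leaf 0x402020207030401030009))) (.node 84375 (.leaf 0x202000003) (.node 84376 (.leaf 0x500090000090006) (.leaf 0x7000000000300000008)))) (.node 84380 (.node 84378 (.leaf 0x204030003) (.node 84379 (.leaf 0x207030003)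 (.leaf 0x206030003))) (.node 84381 (.leaf 0x8020908050202000701000a) (.node 84382 (.leaf 0x502020804000006) (.leaf 0x903000003))))))

def argWS_7476 : Store := (.node 84360 argWS_7474 argWS_7475)

def argWS_7477 : Store := (.node 84394 (.node 84388 (.node 84385 (.node 84384 (.leaf 0x3010005) (.leaf 0x702090000090202000701000b)) (.node 84386 (.leaf 0x604000900090802040105000b) (.node 84387 (.leaf 0x3040101090805000703040103000d) (.leaf 0x402020900000202000701000b)))) (.node 84391 (.node 84389 (.leaf 0x4000202020703040103000a) (.node 84390 (.leaf 0x907020901060802040105000b) (.leaf 0x704010904020802040105000b))) (.node 84392 (.leaf 0x10303080004) (.node 84393 (.leaf 0x307090806000006) (.leaf 0x3070002020900000202000701000d))))) (.node 84400 (.node 84397 (.node 84395 (.leaf 0x4030009020602000703040103000d) (.node 84396 (.leaf 0x8020703060202000701000a) (.leaf 0x8050000000300000802040105000d))) (.node 84398 (.leaf 0x606010400050802040105000b) (.node 84399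 (.leaf 0x90705020202010007) (.leaf 0x9070202090000000703040103000d)))) (.node 84403 (.node 84401 (.leaf 0x204010900090006) (.node 84402 (.leaf 0x1) (.leaf 0x30001))) (.node 84404 (.leaf 0x20001) (.node 84405 (.leaf 0x1010002) (.leaf 0x1030002))))))

def argWS_7478 : Store := (.node 84417 (.node 84411 (.node 84408 (.node 84407 (.leaf 0x1020002) (.leaf 0x1070002)) (.node 84409 (.leaf 0x1090002) (.node 84410 (.leaf 0x30002) (.leaf 0x70002)))) (.node 84414 (.node 84412 (.leaf 0x90002) (.node 84413 (.leaf 0x3000002) (.leaf 0x3050002))) (.node 84415 (.leaf 0x2010002) (.node 84416 (.leaf 0x2050002) (.leaf 0x9010002))))) (.node 84423 (.node 84420 (.node 84418 (.leaf 0x9000002) (.node 84419 (.leaf 0x30106010500020802040105000c) (.leaf 0x9020106060802040105000a))) (.node 84421 (.leaf 0x70108020401050007) (.node 84422 (.leaf 0x6020401050005) (.leaf 0x7020000030000000703040103000d)))) (.node 84426 (.node 84424 (.leaf 0x5000206020007010008) (.node 84425 (.leaf 0x602090402000703040103000b)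 (.leaf 0x105020003))) (.node 84427 (.leaf 0x2040206020007010008) (.node 84428 (.leaf 0x5000000000300000802040105000d) (.leaf 0x107000003))))))

def argWS_7479 : Store := (.node 84406 argWS_7477 argWS_7478)

def argWS_7480 : Store := (.node 84383 argWS_7476 argWS_7479)

def argWS_7481 : Store := (.node 84338 argWS_7473 argWS_7480)

def argWS_7482 : Store := (.node 84248 argWS_7466 argWS_7481)

def argWS_7483 : Store := (.node 84068 argWS_7451 argWS_7482)

def argWS_7484 : Store := (.node 84440 (.node 84434 (.node 84431 (.node 84430 (.leaf 0x700090402000703040103000b) (.leaf 0x204000408010202000701000b)) (.node 84432 (.leaf 0x7000005020604000703040103000d) (.node 84433 (.leaf 0x90003) (.leaf 0x90300020901060007)))) (.node 84437 (.node 84435 (.leaf 0x4000003) (.node 84436 (.leaf 0x307050206040802040105000b) (.leaf 0x6000003))) (.node 84438 (.leaf 0x1030106030500040202000701000d) (.node 84439 (.leaf 0x602010301010200000703040103000e) (.leaf 0x7000000000300000008)))))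 (.node 84445 (.node 84442 (.node 84441 (.leaf 0x30401090806000802040105000c) (.leaf 0x10001)) (.node 84443 (.leaf 0x1) (.node 84444 (.leaf 0x30001) (.leaf 0x20001)))) (.node 84448 (.node 84446 (.leaf 0x1010002) (.node 84447 (.leaf 0x1030002) (.leaf 0x1020002))) (.node 84449 (.leaf 0x1070002) (.node 84450 (.leaf 0x30002) (.leaf 0x20002))))))

def argWS_7485 : Store := (.node 84462 (.node 84456 (.node 84453 (.node 84452 (.leaf 0x70002) (.leaf 0x90002)) (.node 84454 (.leaf 0x3010002) (.node 84455 (.leaf 0x3030002) (.leaf 0x2010002)))) (.node 84459 (.node 84457 (.leaf 0x2020002) (.node 84458 (.leaf 0x2050002) (.leaf 0x9000002))) (.node 84460 (.leaf 0x30106010500020802040105000c) (.node 84461 (.leaf 0x9020106060802040105000a) (.leaf 0x103010003))))) (.node 84468 (.node 84465 (.node 84463 (.leaf 0x70108020401050007) (.node 84464 (.leaf 0x600030000000703040103000b) (.leaf 0x102020003))) (.node 84466 (.leaf 0x2040105020202010202000701000d) (.node 84467 (.leaf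 0x8050703060202000701000a) (.leaf 0x2040206020007010008)))) (.node 84471 (.node 84469 (.leaf 0x107000003) (.node 84470 (.leaf 0x6040106010500020202000701000d) (.leaf 0x7020009020602000703040103000d))) (.node 84472 (.leaf 0x109030601050002000703040103000e) (.node 84473 (.leaf 0x10300020106060202000701000c) (.leaf 0x90300020901060007))))))

def argWS_7486 : Store := (.node 84451 argWS_7484 argWS_7485)

def argWS_7487 : Store := (.node 84485 (.node 84479 (.node 84476 (.node 84475 (.leaf 0x4000003) (.leaf 0x20401010703060802040105000c)) (.node 84477 (.leaf 0x9000003) (.node 84478 (.leaf 0x202020003) (.leaf 0x204030003)))) (.node 84482 (.node 84480 (.leaf 0x1030002020900000802040105000d) (.node 84481 (.leaf 0x207030003) (.leaf 0x8020908050202000701000a))) (.node 84483 (.leaf 0x10001) (.node 84484 (.leaf 0x30001) (.leaf 0x20001))))) (.node 84490 (.node 84487 (.node 84486 (.leaf 0x90001) (.leaf 0x1010002)) (.node 84488 (.leaf 0x1030002) (.node 84489 (.leaf 0x1020002)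 (.leaf 0x1070002)))) (.node 84493 (.node 84491 (.leaf 0x1080002) (.node 84492 (.leaf 0x1090002) (.leaf 0x20002))) (.node 84494 (.leaf 0x3010002) (.node 84495 (.leaf 0x3000002) (.leaf 0x3030002))))))

def argWS_7488 : Store := (.node 84507 (.node 84501 (.node 84498 (.node 84497 (.leaf 0x3050002) (.leaf 0x3070002)) (.node 84499 (.leaf 0x2010002) (.node 84500 (.leaf 0x2000002) (.leaf 0x9010002)))) (.node 84504 (.node 84502 (.leaf 0x20002090106000703040103000d) (.node 84503 (.leaf 0x90201070009030007) (.leaf 0x9020106060802040105000a))) (.node 84505 (.leaf 0x103010003) (.node 84506 (.leaf 0x70108020401050007) (.leaf 0x6020401050005))))) (.node 84513 (.node 84510 (.node 84508 (.leaf 0x600030000000703040103000b) (.node 84509 (.leaf 0x103080003) (.leaf 0x102020003))) (.node 84511 (.leaf 0x2040105020202010202000701000d) (.node 84512 (.leaf 0x604010400050202000701000b) (.leaf 0x602090402000703040103000b)))) (.node 84516 (.node 84514 (.leaf 0x105020003) (.node 84515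 (.leaf 0x8050703060202000701000a) (.leaf 0x700070206000202000701000b))) (.node 84517 (.leaf 0x104000003) (.node 84518 (.leaf 0x2040206020007010008) (.leaf 0x5000000000300000802040105000d))))))

def argWS_7489 : Store := (.node 84496 argWS_7487 argWS_7488)

def argWS_7490 : Store := (.node 84474 argWS_7486 argWS_7489)

def argWS_7491 : Store := (.node 84530 (.node 84524 (.node 84521 (.node 84520 (.leaf 0x107000003) (.leaf 0x2020000090206020008)) (.node 84522 (.leaf 0x402020900000202000701000c) (.node 84523 (.leaf 0x20500020804000007) (.leaf 0x300070209020006)))) (.node 84527 (.node 84525 (.leaf 0x204000408010202000701000b) (.node 84526 (.leaf 0x109030003) (.leaf 0x1030106010500020802040105000d))) (.node 84528 (.leaf 0x20002090106000703040103000c) (.node 84529 (.leaf 0x3010003) (.leaf 0x105020901090006))))) (.node 84535 (.node 84532 (.node 84531 (.leaf 0x104020603000703040103000b) (.leaf 0x7020009020602000703040103000d)) (.node 84533 (.leaf 0x3070002000003010802040105000d)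 (.node 84534 (.leaf 0x109030601050002000703040103000e) (.leaf 0x10300020106060202000701000c)))) (.node 84538 (.node 84536 (.leaf 0x5030003) (.node 84537 (.leaf 0x50000070209020007) (.leaf 0x107090805000703040103000b))) (.node 84539 (.leaf 0x702070209020802040105000b) (.node 84540 (.leaf 0x6030003) (.leaf 0x60000020106060007))))))

def argWS_7492 : Store := (.node 84552 (.node 84546 (.node 84543 (.node 84542 (.leaf 0x1030106030500040202000701000d) (.leaf 0x7010207030005)) (.node 84544 (.leaf 0x902060402020007010009) (.node 84545 (.leaf 0x2020202010005) (.leaf 0x202020003)))) (.node 84549 (.node 84547 (.leaf 0x4020500090206020802040105000d) (.node 84548 (.leaf 0x200070306000703040103000b) (.leaf 0x602010301010200000703040103000e))) (.node 84550 (.leaf 0x304030003) (.node 84551 (.leaf 0x1020206020702010802040105000d) (.leaf 0x402020207030401030009))))) (.node 84558 (.node 84555 (.node 84553 (.leaf 0x201090003) (.node 84554 (.leaf 0x200080003) (.leaf 0x8020908050202000701000a)))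 (.node 84556 (.leaf 0x502020804000006) (.node 84557 (.leaf 0x903000003) (.leaf 0x3010005)))) (.node 84561 (.node 84559 (.leaf 0x3030900090005) (.node 84560 (.leaf 0x5020901090202000701000a) (.leaf 0x3040101090805000703040103000d))) (.node 84562 (.leaf 0x10300070209020007) (.node 84563 (.leaf 0x602010904020006) (.leaf 0x704010904020802040105000b))))))

def argWS_7493 : Store := (.node 84541 argWS_7491 argWS_7492)

def argWS_7494 : Store := (.node 84575 (.node 84569 (.node 84566 (.node 84565 (.leaf 0x10303080004) (.leaf 0x3040301090805000703040103000d)) (.node 84567 (.leaf 0x4040603050004000703040103000d) (.node 84568 (.leaf 0x20403070209020202000701000c) (.leaf 0x20200000408010007)))) (.node 84572 (.node 84570 (.leaf 0x8020703060202000701000a) (.node 84571 (.leaf 0x8050000000300000802040105000d) (.leaf 0x3040207020007010008))) (.node 84573 (.leaf 0x10401050004) (.node 84574 (.leaf 0x406030500040006) (.leaf 0x3090009000703040103000b))))) (.node 84580 (.node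 84577 (.node 84576 (.leaf 0x90705020202010007) (.leaf 0x30106030500040202000701000c)) (.node 84578 (.leaf 0x10101090805000703040103000c) (.node 84579 (.leaf 0x6050105020604000703040103000d) (.leaf 0x70901090802040105000a)))) (.node 84583 (.node 84581 (.leaf 0x200000300000006) (.node 84582 (.leaf 0x10001) (.leaf 0x30001))) (.node 84584 (.leaf 0x20001) (.node 84585 (.leaf 0x1030002) (.leaf 0x1020002))))))

def argWS_7495 : Store := (.node 84597 (.node 84591 (.node 84588 (.node 84587 (.leaf 0x1070002) (.leaf 0x1090002)) (.node 84589 (.leaf 0x30002) (.node 84590 (.leaf 0x20002) (.leaf 0x70002)))) (.node 84594 (.node 84592 (.leaf 0x90002) (.node 84593 (.leaf 0x3010002) (.leaf 0x3000002))) (.node 84595 (.leaf 0x3030002) (.node 84596 (.leaf 0x3050002) (.leaf 0x2010002))))) (.node 84603 (.node 84600 (.node 84598 (.leaf 0x2000002) (.node 84599 (.leaf 0x2020002) (.leaf 0x2050002))) (.node 84601 (.leaf 0x9010002) (.node 84602 (.leaf 0x9000002) (.leaf 0x30106010500020802040105000c))))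 (.node 84606 (.node 84604 (.leaf 0x20002090106000703040103000d) (.node 84605 (.leaf 0x9020106060802040105000a) (.leaf 0x103010003))) (.node 84607 (.leaf 0x70108020401050007) (.node 84608 (.leaf 0x6020401050005) (.leaf 0x600030000000703040103000b))))))

def argWS_7496 : Store := (.node 84586 argWS_7494 argWS_7495)

def argWS_7497 : Store := (.node 84564 argWS_7493 argWS_7496)

def argWS_7498 : Store := (.node 84519 argWS_7490 argWS_7497)

def argWS_7499 : Store := (.node 84620 (.node 84614 (.node 84611 (.node 84610 (.leaf 0x7020000030000000703040103000d) (.leaf 0x102020003)) (.node 84612 (.leaf 0x2040105020202010202000701000d) (.node 84613 (.leaf 0x604010400050202000701000b) (.leaf 0x5000206020007010008)))) (.node 84617 (.node 84615 (.leaf 0x602090402000703040103000b) (.node 84616 (.leaf 0x105020003) (.leaf 0x8050703060202000701000a))) (.node 84618 (.leaf 0x104000003) (.node 84619 (.leaf 0x2040206020007010008) (.leaf 0x5000000000300000802040105000d)))))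 (.node 84625 (.node 84622 (.node 84621 (.leaf 0x107000003) (.leaf 0x0)) (.node 84623 (.leaf 0x107030003) (.node 84624 (.leaf 0x2020000090206020008) (.leaf 0x700090402000703040103000b)))) (.node 84628 (.node 84626 (.leaf 0x6040106010500020202000701000d) (.node 84627 (.leaf 0x20500020804000007) (.leaf 0x300070209020006))) (.node 84629 (.leaf 0x204000408010202000701000b) (.node 84630 (.leaf 0x109030003) (.leaf 0x3010003))))))

def argWS_7500 : Store := (.node 84642 (.node 84636 (.node 84633 (.node 84632 (.leaf 0x3070002000003010802040105000d) (.leaf 0x2000003)) (.node 84634 (.leaf 0x109030601050002000703040103000e) (.node 84635 (.leaf 0x10300020106060202000701000c) (.leaf 0x80200020000030703040103000c)))) (.node 84639 (.node 84637 (.leaf 0x5030003) (.node 84638 (.leaf 0x2050206030500040008) (.leaf 0x90300020901060007))) (.node 84640 (.leaf 0x4000003) (.node 84641 (.leaf 0x107090805000703040103000b) (.leaf 0x4010206020007010008))))) (.node 84648 (.node 84645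 (.node 84643 (.leaf 0x702070209020802040105000b) (.node 84644 (.leaf 0x307050206040802040105000b) (.leaf 0x6000003))) (.node 84646 (.leaf 0x6030003) (.node 84647 (.leaf 0x8000003) (.leaf 0x20401010703060802040105000c)))) (.node 84651 (.node 84649 (.leaf 0x9000003) (.node 84650 (.leaf 0x1030106030500040202000701000d) (.leaf 0x7010207030005))) (.node 84652 (.leaf 0x2020202010005) (.node 84653 (.leaf 0x1040900090802040105000a) (.leaf 0x602010301010200000703040103000e))))))

def argWS_7501 : Store := (.node 84631 argWS_7499 argWS_7500)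

def argWS_7502 : Store := (.node 84665 (.node 84659 (.node 84656 (.node 84655 (.leaf 0x501060608020401050009) (.leaf 0x304030003)) (.node 84657 (.leaf 0x2000006010500020802040105000d) (.node 84658 (.leaf 0x1020206020702010802040105000d) (.leaf 0x201090003)))) (.node 84662 (.node 84660 (.leaf 0x202000003) (.node 84661 (.leaf 0x7000000000300000008) (.leaf 0x204030003))) (.node 84663 (.leaf 0x1030002020900000802040105000d) (.node 84664 (.leaf 0x207030003) (.leaf 0x8020908050202000701000a))))) (.node 84670 (.node 84667 (.node 84666 (.leaf 0x7030502020900000008) (.leaf 0x903000003)) (.node 84668 (.leaf 0x3010005) (.node 84669 (.leaf 0x90102020900000202000701000c) (.leaf 0x402020900000202000701000b)))) (.node 84673 (.node 84671 (.leaf 0x4000202020703040103000a) (.node 84672 (.leaf 0x907020901060802040105000b) (.leaf 0x602010904020006))) (.node 84674 (.leaf 0x704010904020802040105000b) (.node 84675 (.leaf 0x307090806000006) (.leaf 0x4030009020602000703040103000d))))))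

def argWS_7503 : Store := (.node 84687 (.node 84681 (.node 84678 (.node 84677 (.leaf 0x908050007030401030009) (.leaf 0x90306020702010802040105000c)) (.node 84679 (.leaf 0x503040005000703040103000c) (.node 84680 (.leaf 0x906090000090202000701000b) (.leaf 0x102010908050802040105000b)))) (.node 84684 (.node 84682 (.leaf 0x800070209020006) (.node 84683 (.leaf 0x606010400050802040105000b) (.leaf 0x30401090806000802040105000c))) (.node 84685 (.leaf 0x20902020900000202000701000c) (.node 84686 (.leaf 0x30106030500040202000701000c) (.leaf 0x10101090805000703040103000c))))) (.node 84693 (.node 84690 (.node 84688 (.leaf 0x4000400030306040008) (.node 84689 (.leaf 0x8000004080703040103000b) (.leaf 0x9070202090000000703040103000d))) (.node 84691 (.leaf 0x0) (.node 84692 (.leaf 0x10001) (.leaf 0x1)))) (.node 84696 (.node 84694 (.leaf 0x30001) (.node 84695 (.leaf 0x20001) (.leaf 0x90001))) (.node 84697 (.leaf 0x1010002) (.node 84698 (.leaf 0x1020002) (.leaf 0x1050002))))))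

def argWS_7504 : Store := (.node 84676 argWS_7502 argWS_7503)

def argWS_7505 : Store := (.node 84654 argWS_7501 argWS_7504)

def argWS_7506 : Store := (.node 84710 (.node 84704 (.node 84701 (.node 84700 (.leaf 0x1090002) (.leaf 0x2)) (.node 84702 (.leaf 0x30002) (.node 84703 (.leaf 0x20002) (.leaf 0x50002)))) (.node 84707 (.node 84705 (.leaf 0x3010002) (.node 84706 (.leaf 0x3030002) (.leaf 0x3070002))) (.node 84708 (.leaf 0x2010002) (.node 84709 (.leaf 0x2000002) (.leaf 0x2020002))))) (.node 84715 (.node 84712 (.node 84711 (.leaf 0x2070002) (.leaf 0x9010002)) (.node 84713 (.leaf 0x20002090106000703040103000d) (.node 84714 (.leaf 0x9020106060802040105000a) (.leaf 0x6020401050005)))) (.node 84718 (.node 84716 (.leaf 0x102020003) (.node 84717 (.leaf 0x2040105020202010202000701000d) (.leaf 0x604010400050202000701000b))) (.node 84719 (.leaf 0x5000206020007010008) (.node 84720 (.leaf 0x700070206000202000701000b) (.leaf 0x104000003))))))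

def argWS_7507 : Store := (.node 84732 (.node 84726 (.node 84723 (.node 84722 (.leaf 0x5000000000300000802040105000d) (.leaf 0x107030003)) (.node 84724 (.leaf 0x109030003) (.node 84725 (.leaf 0x7000005020604000703040103000d) (.leaf 0x3010003)))) (.node 84729 (.node 84727 (.leaf 0x7020009020602000703040103000d) (.node 84728 (.leaf 0x3070002000003010802040105000d) (.leaf 0x2000003))) (.node 84730 (.leaf 0x4000003) (.node 84731 (.leaf 0x40202010004) (.leaf 0x20401010703060802040105000c))))) (.node 84738 (.node 84735 (.node 84733 (.leaf 0x60000020106060007) (.node 84734 (.leaf 0x202020003) (.leaf 0x10001))) (.node 84736 (.leaf 0x1) (.node 84737 (.leaf 0x30001) (.leaf 0x20001)))) (.node 84741 (.node 84739 (.leaf 0x1010002) (.node 84740 (.leaf 0x1030002) (.leaf 0x1020002))) (.node 84742 (.leaf 0x1090002) (.node 84743 (.leaf 0x2) (.leaf 0x30002))))))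

def argWS_7508 : Store := (.node 84721 argWS_7506 argWS_7507)

def argWS_7509 : Store := (.node 84755 (.node 84749 (.node 84746 (.node 84745 (.leaf 0x20002) (.leaf 0x50002)) (.node 84747 (.leaf 0x90002) (.node 84748 (.leaf 0x3010002) (.leaf 0x3030002)))) (.node 84752 (.node 84750 (.leaf 0x2010002) (.node 84751 (.leaf 0x2000002) (.leaf 0x2020002))) (.node 84753 (.leaf 0x2070002) (.node 84754 (.leaf 0x9000002) (.leaf 0x9020106060802040105000a))))) (.node 84761 (.node 84758 (.node 84756 (.leaf 0x103010003) (.node 84757 (.leaf 0x70108020401050007) (.leaf 0x6020401050005))) (.node 84759 (.leaf 0x7020000030000000703040103000d) (.node 84760 (.leaf 0x2040105020202010202000701000d) (.leaf 0x105020003)))) (.node 84764 (.node 84762 (.leaf 0x60601090806000007) (.node 84763 (.leaf 0x6040106010500020202000701000d) (.leaf 0x109030601050002000703040103000e))) (.node 84765 (.leaf 0x10300020106060202000701000c) (.node 84766 (.leaf 0x90300020901060007) (.leaf 0x4000003))))))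

def argWS_7510 : Store := (.node 84778 (.node 84772 (.node 84769 (.node 84768 (.leaf 0x4020003) (.leaf 0x40202010004)) (.node 84770 (.leaf 0x20401010703060802040105000c) (.node 84771 (.leaf 0x9000003) (.leaf 0x202020003)))) (.node 84775 (.node 84773 (.leaf 0x500090000090006) (.node 84774 (.leaf 0x204030003) (.leaf 0x1030002020900000802040105000d))) (.node 84776 (.leaf 0x206030003) (.node 84777 (.leaf 0x602010904020006) (.leaf 0x10001))))) (.node 84784 (.node 84781 (.node 84779 (.leaf 0x1) (.node 84780 (.leaf 0x30001) (.leaf 0x20001))) (.node 84782 (.leaf 0x90001) (.node 84783 (.leaf 0x1010002) (.leaf 0x1030002)))) (.node 84787 (.node 84785 (.leaf 0x1020002) (.node 84786 (.leaf 0x1070002) (.leaf 0x1090002))) (.node 84788 (.leaf 0x30002) (.node 84789 (.leaf 0x20002) (.leaf 0x70002))))))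

def argWS_7511 : Store := (.node 84767 argWS_7509 argWS_7510)

def argWS_7512 : Store := (.node 84744 argWS_7508 argWS_7511)

def argWS_7513 : Store := (.node 84699 argWS_7505 argWS_7512)

def argWS_7514 : Store := (.node 84609 argWS_7498 argWS_7513)

def argWS_7515 : Store := (.node 84801 (.node 84795 (.node 84792 (.node 84791 (.leaf 0x90002) (.leaf 0x3010002)) (.node 84793 (.leaf 0x3000002) (.node 84794 (.leaf 0x3030002) (.leaf 0x3050002)))) (.node 84798 (.node 84796 (.leaf 0x2010002) (.node 84797 (.leaf 0x2000002) (.leaf 0x2020002))) (.node 84799 (.leaf 0x9010002) (.node 84800 (.leaf 0x30106010500020802040105000c) (.leaf 0x20002090106000703040103000d))))) (.node 84806 (.node 84803 (.node 84802 (.leaf 0x9020106060802040105000a) (.leaf 0x103010003)) (.node 84804 (.leaf 0x70108020401050007) (.node 84805 (.leaf 0x6020401050005) (.leaf 0x600030000000703040103000b)))) (.node 84809 (.node 84807 (.leaf 0x7020000030000000703040103000d) (.node 84808 (.leaf 0x2040105020202010202000701000d)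 (.leaf 0x604010400050202000701000b))) (.node 84810 (.leaf 0x5000206020007010008) (.node 84811 (.leaf 0x602090402000703040103000b) (.leaf 0x105020003))))))

def argWS_7516 : Store := (.node 84823 (.node 84817 (.node 84814 (.node 84813 (.leaf 0x8050703060202000701000a) (.leaf 0x700070206000202000701000b)) (.node 84815 (.leaf 0x104000003) (.node 84816 (.leaf 0x2040206020007010008) (.leaf 0x5000000000300000802040105000d)))) (.node 84820 (.node 84818 (.leaf 0x107000003) (.node 84819 (.leaf 0x107030003) (.leaf 0x700090402000703040103000b))) (.node 84821 (.leaf 0x6040106010500020202000701000d) (.node 84822 (.leaf 0x20500020804000007) (.leaf 0x204000408010202000701000b))))) (.node 84829 (.node 84826 (.node 84824 (.leaf 0x109030003) (.node 84825 (.leaf 0x7000005020604000703040103000d) (.leaf 0x90003))) (.node 84827 (.leaf 0x7020009020602000703040103000d) (.node 84828 (.leaf 0x3070002000003010802040105000d) (.leaf 0x2000003)))) (.node 84832 (.node 84830 (.leaf 0x10300020106060202000701000c)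 (.node 84831 (.leaf 0x80200020000030703040103000c) (.leaf 0x2050206030500040008))) (.node 84833 (.leaf 0x90300020901060007) (.node 84834 (.leaf 0x4000003) (.leaf 0x4010206020007010008))))))

def argWS_7517 : Store := (.node 84812 argWS_7515 argWS_7516)

def argWS_7518 : Store := (.node 84846 (.node 84840 (.node 84837 (.node 84836 (.leaf 0x702070209020802040105000b) (.leaf 0x307050206040802040105000b)) (.node 84838 (.leaf 0x6000003) (.node 84839 (.leaf 0x6030003) (.leaf 0x8000003)))) (.node 84843 (.node 84841 (.leaf 0x20401010703060802040105000c) (.node 84842 (.leaf 0x9000003) (.leaf 0x1030106030500040202000701000d))) (.node 84844 (.leaf 0x7010207030005) (.node 84845 (.leaf 0x2020202010005) (.leaf 0x1040900090802040105000a))))) (.node 84851 (.node 84848 (.node 84847 (.leaf 0x202020003) (.leaf 0x501060608020401050009)) (.node 84849 (.leaf 0x2000006010500020802040105000d) (.node 84850 (.leaf 0x1020206020702010802040105000d) (.leaf 0x202000003)))) (.node 84854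 (.node 84852 (.leaf 0x500090000090006) (.node 84853 (.leaf 0x7000000000300000008) (.leaf 0x1030002020900000802040105000d))) (.node 84855 (.leaf 0x207030003) (.node 84856 (.leaf 0x206030003) (.leaf 0x8020908050202000701000a))))))

def argWS_7519 : Store := (.node 84868 (.node 84862 (.node 84859 (.node 84858 (.leaf 0x7030502020900000008) (.leaf 0x903000003)) (.node 84860 (.leaf 0x3010005) (.node 84861 (.leaf 0x90102020900000202000701000c) (.leaf 0x4000202020703040103000a)))) (.node 84865 (.node 84863 (.leaf 0x907020901060802040105000b) (.node 84864 (.leaf 0x602010904020006) (.leaf 0x704010904020802040105000b))) (.node 84866 (.leaf 0x307090806000006) (.node 84867 (.leaf 0x4030009020602000703040103000d) (.leaf 0x908050007030401030009))))) (.node 84874 (.node 84871 (.node 84869 (.leaf 0x20200020804000007) (.node 84870 (.leaf 0x20403070209020202000701000c) (.leaf 0x90306020702010802040105000c))) (.node 84872 (.leaf 0x503040005000703040103000c) (.node 84873 (.leaf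 0x8050000000300000802040105000d) (.leaf 0x906090000090202000701000b)))) (.node 84877 (.node 84875 (.leaf 0x800070209020006) (.node 84876 (.leaf 0x606010400050802040105000b) (.leaf 0x30401090806000802040105000c))) (.node 84878 (.leaf 0x20902020900000202000701000c) (.node 84879 (.leaf 0x10101090805000703040103000c) (.leaf 0x6050105020604000703040103000d))))))

def argWS_7520 : Store := (.node 84857 argWS_7518 argWS_7519)

def argWS_7521 : Store := (.node 84835 argWS_7517 argWS_7520)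

def argWS_7522 : Store := (.node 84891 (.node 84885 (.node 84882 (.node 84881 (.leaf 0x9070202090000000703040103000d) (.leaf 0x1)) (.node 84883 (.leaf 0x30001) (.node 84884 (.leaf 0x20001) (.leaf 0x90001)))) (.node 84888 (.node 84886 (.leaf 0x1010002) (.node 84887 (.leaf 0x1030002) (.leaf 0x1020002))) (.node 84889 (.leaf 0x1070002) (.node 84890 (.leaf 0x1090002) (.leaf 0x20002))))) (.node 84896 (.node 84893 (.node 84892 (.leaf 0x70002) (.leaf 0x3010002)) (.node 84894 (.leaf 0x3000002) (.node 84895 (.leaf 0x3030002) (.leaf 0x3050002)))) (.node 84899 (.node 84897 (.leaf 0x2010002) (.node 84898 (.leaf 0x2000002) (.leaf 0x2020002))) (.node 84900 (.leaf 0x2050002) (.node 84901 (.leaf 0x9010002) (.leaf 0x9000002))))))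

def argWS_7523 : Store := (.node 84913 (.node 84907 (.node 84904 (.node 84903 (.leaf 0x20002090106000703040103000d) (.leaf 0x9020106060802040105000a)) (.node 84905 (.leaf 0x103010003) (.node 84906 (.leaf 0x70108020401050007) (.leaf 0x6020401050005)))) (.node 84910 (.node 84908 (.leaf 0x600030000000703040103000b) (.node 84909 (.leaf 0x7020000030000000703040103000d) (.leaf 0x604010400050202000701000b))) (.node 84911 (.leaf 0x5000206020007010008) (.node 84912 (.leaf 0x105020003) (.leaf 0x8050703060202000701000a))))) (.node 84919 (.node 84916 (.node 84914 (.leaf 0x104000003) (.node 84915 (.leaf 0x2040206020007010008) (.leaf 0x5000000000300000802040105000d))) (.node 84917 (.leaf 0x107000003) (.node 84918 (.leaf 0x107030003) (.leaf 0x2020000090206020008)))) (.node 84922 (.node 84920 (.leaf 0x700090402000703040103000b) (.node 84921 (.leaf 0x6040106010500020202000701000d) (.leaf 0x20500020804000007))) (.node 84923 (.leaf 0x204000408010202000701000b) (.node 84924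 (.leaf 0x7000005020604000703040103000d) (.leaf 0x90003))))))

def argWS_7524 : Store := (.node 84902 argWS_7522 argWS_7523)

def argWS_7525 : Store := (.node 84936 (.node 84930 (.node 84927 (.node 84926 (.leaf 0x7020009020602000703040103000d) (.leaf 0x3070002000003010802040105000d)) (.node 84928 (.leaf 0x2000003) (.node 84929 (.leaf 0x109030601050002000703040103000e) (.leaf 0x10300020106060202000701000c)))) (.node 84933 (.node 84931 (.leaf 0x80200020000030703040103000c) (.node 84932 (.leaf 0x5030003) (.leaf 0x2050206030500040008))) (.node 84934 (.leaf 0x4000003) (.node 84935 (.leaf 0x4010206020007010008) (.leaf 0x7030003))))) (.node 84941 (.node 84938 (.node 84937 (.leaf 0x307050206040802040105000b) (.leaf 0x6000003)) (.node 84939 (.leaf 0x6030003) (.node 84940 (.leaf 0x8000003) (.leaf 0x20401010703060802040105000c)))) (.node 84944 (.node 84942 (.leaf 0x9000003) (.node 84943 (.leaf 0x1030106030500040202000701000d) (.leaf 0x7010207030005))) (.node 84945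 (.leaf 0x2020202010005) (.node 84946 (.leaf 0x1040900090802040105000a) (.leaf 0x202020003))))))

def argWS_7526 : Store := (.node 84958 (.node 84952 (.node 84949 (.node 84948 (.leaf 0x501060608020401050009) (.leaf 0x304030003)) (.node 84950 (.leaf 0x2000006010500020802040105000d) (.node 84951 (.leaf 0x1020206020702010802040105000d) (.leaf 0x201090003)))) (.node 84955 (.node 84953 (.leaf 0x202000003) (.node 84954 (.leaf 0x500090000090006) (.leaf 0x7000000000300000008))) (.node 84956 (.leaf 0x204030003) (.node 84957 (.leaf 0x1030002020900000802040105000d) (.leaf 0x207030003))))) (.node 84964 (.node 84961 (.node 84959 (.leaf 0x8020908050202000701000a) (.node 84960 (.leaf 0x7030502020900000008) (.leaf 0x903000003))) (.node 84962 (.leaf 0x3010005) (.node 84963 (.leaf 0x90102020900000202000701000c) (.leaf 0x907020901060802040105000b)))) (.node 84967 (.node 84965 (.leaf 0x602010904020006) (.node 84966 (.leaf 0x704010904020802040105000b) (.leaf 0x307090806000006)))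 (.node 84968 (.leaf 0x908050007030401030009) (.node 84969 (.leaf 0x20200020804000007) (.leaf 0x20403070209020202000701000c))))))

def argWS_7527 : Store := (.node 84947 argWS_7525 argWS_7526)

def argWS_7528 : Store := (.node 84925 argWS_7524 argWS_7527)

def argWS_7529 : Store := (.node 84880 argWS_7521 argWS_7528)

def argWS_7530 : Store := (.node 84981 (.node 84975 (.node 84972 (.node 84971 (.leaf 0x90306020702010802040105000c) (.leaf 0x503040005000703040103000c)) (.node 84973 (.leaf 0x8050000000300000802040105000d) (.node 84974 (.leaf 0x102010908050802040105000b) (.leaf 0x800070209020006)))) (.node 84978 (.node 84976 (.leaf 0x606010400050802040105000b) (.node 84977 (.leaf 0x30401090806000802040105000c) (.leaf 0x20902020900000202000701000c))) (.node 84979 (.leaf 0x30106030500040202000701000c) (.node 84980 (.leaf 0x6050105020604000703040103000d) (.leaf 0x4000400030306040008))))) (.node 84986 (.node 84983 (.node 84982 (.leaf 0x8000004080703040103000b)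 (.leaf 0x9070202090000000703040103000d)) (.node 84984 (.leaf 0x10001) (.node 84985 (.leaf 0x1) (.leaf 0x30001)))) (.node 84989 (.node 84987 (.leaf 0x20001) (.node 84988 (.leaf 0x1010002) (.leaf 0x1030002))) (.node 84990 (.leaf 0x1070002) (.node 84991 (.leaf 0x1080002) (.leaf 0x1090002))))))

def argWS_7531 : Store := (.node 85003 (.node 84997 (.node 84994 (.node 84993 (.leaf 0x90002) (.leaf 0x3030002)) (.node 84995 (.leaf 0x3070002) (.node 84996 (.leaf 0x2020002) (.leaf 0x9020106060802040105000a)))) (.node 85000 (.node 84998 (.leaf 0x70108020401050007) (.node 84999 (.leaf 0x103080003) (.leaf 0x102020003))) (.node 85001 (.leaf 0x602090402000703040103000b) (.node 85002 (.leaf 0x70802020007010007) (.leaf 0x6040106010500020202000701000d))))) (.node 85009 (.node 85006 (.node 85004 (.leaf 0x20500020804000007) (.node 85005 (.leaf 0x7030003) (.leaf 0x6000901090802040105000b))) (.node 85007 (.leaf 0x10001) (.node 85008 (.leaf 0x1) (.leaf 0x20001)))) (.node 85012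 (.node 85010 (.leaf 0x1010002) (.node 85011 (.leaf 0x1070002) (.leaf 0x2))) (.node 85013 (.leaf 0x10001) (.node 85014 (.leaf 0x1) (.leaf 0x30001))))))

def argWS_7532 : Store := (.node 84992 argWS_7530 argWS_7531)

def argWS_7533 : Store := (.node 85026 (.node 85020 (.node 85017 (.node 85016 (.leaf 0x20001) (.leaf 0x1010002)) (.node 85018 (.leaf 0x1030002) (.node 85019 (.leaf 0x1020002) (.leaf 0x1070002)))) (.node 85023 (.node 85021 (.leaf 0x1090002) (.node 85022 (.leaf 0x30002) (.leaf 0x20002))) (.node 85024 (.leaf 0x70002) (.node 85025 (.leaf 0x90002) (.leaf 0x3010002))))) (.node 85031 (.node 85028 (.node 85027 (.leaf 0x3030002) (.leaf 0x2010002)) (.node 85029 (.leaf 0x2020002) (.node 85030 (.leaf 0x2050002) (.leaf 0x9000002)))) (.node 85034 (.node 85032 (.leaf 0x30106010500020802040105000c) (.node 85033 (.leaf 0x9020106060802040105000a) (.leaf 0x103010003))) (.node 85035 (.leaf 0x70108020401050007) (.node 85036 (.leaf 0x600030000000703040103000b) (.leaf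 0x7020000030000000703040103000d))))))

def argWS_7534 : Store := (.node 85048 (.node 85042 (.node 85039 (.node 85038 (.leaf 0x102020003) (.leaf 0x2040105020202010202000701000d)) (.node 85040 (.leaf 0x8050703060202000701000a) (.node 85041 (.leaf 0x2040206020007010008) (.leaf 0x107000003)))) (.node 85045 (.node 85043 (.leaf 0x7020009020602000703040103000d) (.node 85044 (.leaf 0x109030601050002000703040103000e) (.leaf 0x10300020106060202000701000c))) (.node 85046 (.leaf 0x90300020901060007) (.node 85047 (.leaf 0x20401010703060802040105000c) (.leaf 0x9000003))))) (.node 85054 (.node 85051 (.node 85049 (.leaf 0x204030003) (.node 85050 (.leaf 0x1030002020900000802040105000d) (.leaf 0x207030003))) (.node 85052 (.leaf 0x206030003) (.node 85053 (.leaf 0x8020908050202000701000a) (.leaf 0x10001)))) (.node 85057 (.node 85055 (.leaf 0x1) (.node 85056 (.leaf 0x30001) (.leaf 0x20001))) (.node 85058 (.leaf 0x90001) (.node 85059 (.leaf 0x1010002) (.leaf 0x1070002))))))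

def argWS_7535 : Store := (.node 85037 argWS_7533 argWS_7534)

def argWS_7536 : Store := (.node 85015 argWS_7532 argWS_7535)

def argWS_7537 : Store := (.node 85071 (.node 85065 (.node 85062 (.node 85061 (.leaf 0x2090603050004000703040103000d) (.leaf 0x0)) (.node 85063 (.leaf 0x1080002) (.node 85064 (.leaf 0x1090002) (.leaf 0x2)))) (.node 85068 (.node 85066 (.leaf 0x30002) (.node 85067 (.leaf 0x20002) (.leaf 0x90002))) (.node 85069 (.leaf 0x3030002) (.node 85070 (.leaf 0x3070002) (.leaf 0x702020901060202000701000b))))) (.node 85076 (.node 85073 (.node 85072 (.leaf 0x2010002) (.leaf 0x2000002)) (.node 85074 (.leaf 0x2020002) (.node 85075 (.leaf 0x9010002) (.leaf 0x9000002)))) (.node 85079 (.node 85077 (.leaf 0x30106010500020802040105000c) (.node 85078 (.leaf 0x20002090106000703040103000d) (.leaf 0x9020106060802040105000a))) (.node 85080 (.leaf 0x103010003) (.node 85081 (.leaf 0x70108020401050007) (.leaf 0x600030000000703040103000b))))))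

def argWS_7538 : Store := (.node 85093 (.node 85087 (.node 85084 (.node 85083 (.leaf 0x103080003) (.leaf 0x102020003)) (.node 85085 (.leaf 0x2040105020202010202000701000d) (.node 85086 (.leaf 0x604010400050202000701000b) (.leaf 0x5000206020007010008)))) (.node 85090 (.node 85088 (.leaf 0x602090402000703040103000b) (.node 85089 (.leaf 0x8050703060202000701000a) (.leaf 0x2040206020007010008))) (.node 85091 (.leaf 0x107000003) (.node 85092 (.leaf 0x107030003) (.leaf 0x70802020007010007))))) (.node 85099 (.node 85096 (.node 85094 (.leaf 0x2020000090206020008) (.node 85095 (.leaf 0x700090402000703040103000b) (.leaf 0x402020900000202000701000c))) (.node 85097 (.leaf 0x6040106010500020202000701000d) (.node 85098 (.leaf 0x700000900090802040105000b) (.leaf 0x300070209020006)))) (.node 85102 (.node 85100 (.leaf 0x204000408010202000701000b) (.node 85101 (.leaf 0x7000005020604000703040103000d) (.leaf 0x1030106010500020802040105000d))) (.node 85103 (.leaf 0x20002090106000703040103000c)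 (.node 85104 (.leaf 0x90003) (.leaf 0x3010003))))))

def argWS_7539 : Store := (.node 85082 argWS_7537 argWS_7538)

def argWS_7540 : Store := (.node 85116 (.node 85110 (.node 85107 (.node 85106 (.leaf 0x3080003) (.leaf 0x7020009020602000703040103000d)) (.node 85108 (.leaf 0x3070002000003010802040105000d) (.node 85109 (.leaf 0x2000003) (.leaf 0x404090000090202000701000b)))) (.node 85113 (.node 85111 (.leaf 0x10300020106060202000701000c) (.node 85112 (.leaf 0x5030003) (.leaf 0x90300020901060007))) (.node 85114 (.leaf 0x4000003) (.node 85115 (.leaf 0x4010206020007010008) (.leaf 0x6030003))))) (.node 85122 (.node 85119 (.node 85117 (.leaf 0x8000003) (.node 85118 (.leaf 0x1030106030500040202000701000d) (.leaf 0x300000003))) (.node 85120 (.leaf 0x2020202010005) (.node 85121 (.leaf 0x202020003) (.leaf 0x602010301010200000703040103000e)))) (.node 85125 (.node 85123 (.leaf 0x501060608020401050009) (.node 85124 (.leaf 0x304030003) (.leaf 0x2000006010500020802040105000d)))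 (.node 85126 (.leaf 0x6000901090802040105000b) (.node 85127 (.leaf 0x1020206020702010802040105000d) (.leaf 0x107000401050006))))))

def argWS_7541 : Store := (.node 85139 (.node 85133 (.node 85130 (.node 85129 (.leaf 0x202000003) (.leaf 0x500090000090006)) (.node 85131 (.leaf 0x204030003) (.node 85132 (.leaf 0x207030003) (.leaf 0x206030003)))) (.node 85136 (.node 85134 (.leaf 0x8020908050202000701000a) (.node 85135 (.leaf 0x502020804000006) (.leaf 0x3010005))) (.node 85137 (.leaf 0x702090000090202000701000b) (.node 85138 (.leaf 0x604000900090802040105000b) (.leaf 0x3040101090805000703040103000d))))) (.node 85145 (.node 85142 (.node 85140 (.leaf 0x402020900000202000701000b) (.node 85141 (.leaf 0x907020901060802040105000b) (.leaf 0x704010904020802040105000b))) (.node 85143 (.leaf 0x10303080004) (.node 85144 (.leaf 0x307090806000006) (.leaf 0x3070002020900000202000701000d)))) (.node 85148 (.node 85146 (.leaf 0x4030009020602000703040103000d) (.node 85147 (.leaf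 0x8020703060202000701000a) (.leaf 0x8050000000300000802040105000d))) (.node 85149 (.leaf 0x10901090004) (.node 85150 (.leaf 0x90705020202010007) (.leaf 0x30106030500040202000701000c))))))

def argWS_7542 : Store := (.node 85128 argWS_7540 argWS_7541)

def argWS_7543 : Store := (.node 85105 argWS_7539 argWS_7542)

def argWS_7544 : Store := (.node 85060 argWS_7536 argWS_7543)

def argWS_7545 : Store := (.node 84970 argWS_7529 argWS_7544)

def argWS_7546 : Store := (.node 84790 argWS_7514 argWS_7545)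

def argWS_7547 : Store := (.node 84429 argWS_7483 argWS_7546)

def argWS_7548 : Store := (.node 85162 (.node 85156 (.node 85153 (.node 85152 (.leaf 0x9070202090000000703040103000d) (.leaf 0x600070306000703040103000b)) (.node 85154 (.leaf 0x204010900090006) (.node 85155 (.leaf 0x10001) (.leaf 0x1)))) (.node 85159 (.node 85157 (.leaf 0x30001) (.node 85158 (.leaf 0x1010002) (.leaf 0x1030002))) (.node 85160 (.leaf 0x1020002) (.node 85161 (.leaf 0x1050002) (.leaf 0x1060002))))) (.node 85167 (.node 85164 (.node 85163 (.leaf 0x1080002) (.leaf 0x1090002)) (.node 85165 (.leaf 0x2) (.node 85166 (.leaf 0x20002) (.leaf 0x80002)))) (.node 85170 (.node 85168 (.leaf 0x90002) (.node 85169 (.leaf 0x3010002) (.leaf 0x3030002))) (.node 85171 (.leaf 0x3050002) (.node 85172 (.leaf 0x3070002) (.leaf 0x3060002))))))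

def argWS_7549 : Store := (.node 85184 (.node 85178 (.node 85175 (.node 85174 (.leaf 0x702020901060202000701000b) (.leaf 0x2010002)) (.node 85176 (.leaf 0x2000002) (.node 85177 (.leaf 0x9000002) (.leaf 0x20002090106000703040103000d)))) (.node 85181 (.node 85179 (.leaf 0x101060003) (.node 85180 (.leaf 0x9020106060802040105000a) (.leaf 0x103010003))) (.node 85182 (.leaf 0x70108020401050007) (.node 85183 (.leaf 0x6020401050005) (.leaf 0x600030000000703040103000b))))) (.node 85190 (.node 85187 (.node 85185 (.leaf 0x7000005020202010802040105000d) (.node 85186 (.leaf 0x103080003) (.leaf 0x7020000030000000703040103000d))) (.node 85188 (.leaf 0x2060207030802040105000a) (.node 85189 (.leaf 0x2040105020202010202000701000d) (.leaf 0x604010400050202000701000b)))) (.node 85193 (.node 85191 (.leaf 0x602090402000703040103000b) (.node 85192 (.leaf 0x700070206000202000701000b) (.leaf 0x104000003))) (.node 85194 (.leaf 0x502000207030006) (.node 85195 (.leaf 0x107000003)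 (.leaf 0x107030003))))))

def argWS_7550 : Store := (.node 85173 argWS_7548 argWS_7549)

def argWS_7551 : Store := (.node 85207 (.node 85201 (.node 85198 (.node 85197 (.leaf 0x70802020007010007) (.leaf 0x60601090806000007)) (.node 85199 (.leaf 0x700090402000703040103000b) (.node 85200 (.leaf 0x402020900000202000701000c) (.leaf 0x205070206000006)))) (.node 85204 (.node 85202 (.leaf 0x20500020804000007) (.node 85203 (.leaf 0x700000900090802040105000b) (.leaf 0x300070209020006))) (.node 85205 (.leaf 0x7000005020604000703040103000d) (.node 85206 (.leaf 0x1030106010500020802040105000d) (.leaf 0x20002090106000703040103000c))))) (.node 85212 (.node 85209 (.node 85208 (.leaf 0x90003) (.leaf 0x105020901090006)) (.node 85210 (.leaf 0x104020603000703040103000b) (.node 85211 (.leaf 0x902010901090802040105000b) (.leaf 0x3060003)))) (.node 85215 (.node 85213 (.leaf 0x3080003) (.node 85214 (.leaf 0x7020009020602000703040103000d) (.leaf 0x3070002000003010802040105000d)))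 (.node 85216 (.leaf 0x2000003) (.node 85217 (.leaf 0x900000408010202000701000b) (.leaf 0x109030601050002000703040103000e))))))

def argWS_7552 : Store := (.node 85229 (.node 85223 (.node 85220 (.node 85219 (.leaf 0x206010703060802040105000b) (.leaf 0x404090000090202000701000b)) (.node 85221 (.leaf 0x5030003) (.node 85222 (.leaf 0x50000070209020007) (.leaf 0x90300020901060007)))) (.node 85226 (.node 85224 (.leaf 0x107090805000703040103000b) (.node 85225 (.leaf 0x4020003) (.leaf 0x7030003))) (.node 85227 (.leaf 0x702070209020802040105000b) (.node 85228 (.leaf 0x6030003) (.leaf 0x8020007020902000703040103000d))))) (.node 85235 (.node 85232 (.node 85230 (.leaf 0x60908050005) (.node 85231 (.leaf 0x20401010703060802040105000c) (.leaf 0x60000020106060007))) (.node 85233 (.leaf 0x1030106030500040202000701000d) (.node 85234 (.leaf 0x102010901090202000701000b) (.leaf 0x300000003)))) (.node 85238 (.node 85236 (.leaf 0x7010207030005) (.node 85237 (.leaf 0x902060402020007010009)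 (.leaf 0x1040900090802040105000a))) (.node 85239 (.leaf 0x202020003) (.node 85240 (.leaf 0x4020500090206020802040105000d) (.leaf 0x20105020604000703040103000c))))))

def argWS_7553 : Store := (.node 85218 argWS_7551 argWS_7552)

def argWS_7554 : Store := (.node 85196 argWS_7550 argWS_7553)

def argWS_7555 : Store := (.node 85252 (.node 85246 (.node 85243 (.node 85242 (.leaf 0x200070306000703040103000b) (.leaf 0x602010301010200000703040103000e)) (.node 85244 (.leaf 0x501060608020401050009) (.node 85245 (.leaf 0x70000020901060007) (.leaf 0x2000006010500020802040105000d)))) (.node 85249 (.node 85247 (.leaf 0x1020206020702010802040105000d) (.node 85248 (.leaf 0x402020207030401030009) (.leaf 0x201060003))) (.node 85250 (.leaf 0x200020003) (.node 85251 (.leaf 0x200080003) (.leaf 0x200090003))))) (.node 85257 (.node 85254 (.node 85253 (.leaf 0x202000003) (.leaf 0x500090000090006)) (.node 85255 (.leaf 0x7000000000300000008) (.node 85256 (.leaf 0x1030002020900000802040105000d)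 (.leaf 0x207030003)))) (.node 85260 (.node 85258 (.leaf 0x206010003) (.node 85259 (.leaf 0x206030003) (.leaf 0x209020003))) (.node 85261 (.leaf 0x809040208020401050009) (.node 85262 (.leaf 0x8020908050202000701000a) (.leaf 0x502020804000006))))))

def argWS_7556 : Store := (.node 85274 (.node 85268 (.node 85265 (.node 85264 (.leaf 0x901090003) (.leaf 0x900000003)) (.node 85266 (.leaf 0x6050102000003010202000701000d) (.node 85267 (.leaf 0x6080102020007010008) (.leaf 0x900090003)))) (.node 85271 (.node 85269 (.leaf 0x6000703060802040105000a) (.node 85270 (.leaf 0x3010005) (.leaf 0x90102020900000202000701000c))) (.node 85272 (.leaf 0x3030900090005) (.node 85273 (.leaf 0x5020901090202000701000a) (.leaf 0x70500030306040202000701000c))))) (.node 85280 (.node 85277 (.node 85275 (.leaf 0x70101090009000703040103000c) (.node 85276 (.leaf 0x10300070209020007) (.leaf 0x602010904020006))) (.node 85278 (.leaf 0x604000901090006) (.node 85279 (.leaf 0x8010408010802040105000a)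 (.leaf 0x6010202020900000802040105000d)))) (.node 85283 (.node 85281 (.leaf 0x1020105020604000703040103000d) (.node 85282 (.leaf 0x600020000030703040103000b) (.leaf 0x3040301090805000703040103000d))) (.node 85284 (.leaf 0x4040603050004000703040103000d) (.node 85285 (.leaf 0x908050007030401030009) (.leaf 0x20901070209020007))))))

def argWS_7557 : Store := (.node 85263 argWS_7555 argWS_7556)

def argWS_7558 : Store := (.node 85297 (.node 85291 (.node 85288 (.node 85287 (.leaf 0x9010207030802040105000a) (.leaf 0x20403070209020202000701000c)) (.node 85289 (.leaf 0x8020703060202000701000a) (.node 85290 (.leaf 0x503040005000703040103000c) (.leaf 0x109030901090202000701000b)))) (.node 85294 (.node 85292 (.leaf 0x7070209020202000701000a) (.node 85293 (.leaf 0x9030900090005) (.leaf 0x20006030500040007))) (.node 85295 (.leaf 0x906090000090202000701000b) (.node 85296 (.leaf 0x20002010904020802040105000c) (.leaf 0x102010908050802040105000b))))) (.node 85302 (.node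 85299 (.node 85298 (.leaf 0x10401050004) (.leaf 0x4040004080703040103000a)) (.node 85300 (.leaf 0x400090806000202000701000c) (.node 85301 (.leaf 0x40103010102000007) (.leaf 0x4020506030500040202000701000d)))) (.node 85305 (.node 85303 (.leaf 0x20206000004) (.node 85304 (.leaf 0x8000403010102000202000701000d) (.leaf 0x8000703060202000701000a))) (.node 85306 (.leaf 0x30306020702010007) (.node 85307 (.leaf 0x3090009000703040103000b) (.leaf 0x3010703060006))))))

def argWS_7559 : Store := (.node 85319 (.node 85313 (.node 85310 (.node 85309 (.leaf 0x3010400050005) (.leaf 0x10901090004)) (.node 85311 (.leaf 0x701070009020007010009) (.node 85312 (.leaf 0x502010401050006) (.leaf 0x30106030500040202000701000c)))) (.node 85316 (.node 85314 (.leaf 0x10402000003010802040105000c) (.node 85315 (.leaf 0x60102010904020802040105000c) (.leaf 0x10101090805000703040103000c))) (.node 85317 (.leaf 0x800000408010802040105000b) (.node 85318 (.leaf 0x30002020900000802040105000c)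 (.leaf 0x304030308000703040103000b))))) (.node 85325 (.node 85322 (.node 85320 (.leaf 0x70901090802040105000a) (.node 85321 (.leaf 0x30406020007010007) (.leaf 0x9070202090000000703040103000d))) (.node 85323 (.leaf 0x600070306000703040103000b) (.node 85324 (.leaf 0x2060101090805000703040103000d) (.leaf 0x60301020106060802040105000c)))) (.node 85328 (.node 85326 (.leaf 0x400090206020007) (.node 85327 (.leaf 0x1) (.leaf 0x30001))) (.node 85329 (.leaf 0x20001) (.node 85330 (.leaf 0x1010002) (.leaf 0x1020002))))))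

def argWS_7560 : Store := (.node 85308 argWS_7558 argWS_7559)

def argWS_7561 : Store := (.node 85286 argWS_7557 argWS_7560)

def argWS_7562 : Store := (.node 85241 argWS_7554 argWS_7561)

def argWS_7563 : Store := (.node 85342 (.node 85336 (.node 85333 (.node 85332 (.leaf 0x1040002) (.leaf 0x1070002)) (.node 85334 (.leaf 0x1090002) (.node 85335 (.leaf 0x2) (.leaf 0x30002)))) (.node 85339 (.node 85337 (.leaf 0x20002) (.node 85338 (.leaf 0x70002) (.leaf 0x60002))) (.node 85340 (.leaf 0x90002) (.node 85341 (.leaf 0x3010002) (.leaf 0x3000002))))) (.node 85347 (.node 85344 (.node 85343 (.leaf 0x3030002) (.leaf 0x3050002)) (.node 85345 (.leaf 0x3070002) (.node 85346 (.leaf 0x2010002) (.leaf 0x2000002)))) (.node 85350 (.node 85348 (.leaf 0x2020002) (.node 85349 (.leaf 0x2050002) (.leaf 0x2040002))) (.node 85351 (.leaf 0x2070002) (.node 85352 (.leaf 0x9010002) (.leaf 0x9000002))))))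

def argWS_7564 : Store := (.node 85364 (.node 85358 (.node 85355 (.node 85354 (.leaf 0x30106010500020802040105000c) (.leaf 0x20002090106000703040103000d)) (.node 85356 (.leaf 0x9020106060802040105000a) (.node 85357 (.leaf 0x103010003) (.leaf 0x6020401050005)))) (.node 85361 (.node 85359 (.leaf 0x700020804000202000701000c) (.node 85360 (.leaf 0x600030000000703040103000b) (.leaf 0x7020000030000000703040103000d))) (.node 85362 (.leaf 0x102020003) (.node 85363 (.leaf 0x4000409000009000703040103000d) (.leaf 0x2060207030802040105000a))))) (.node 85370 (.node 85367 (.node 85365 (.leaf 0x2040105020202010202000701000d) (.node 85366 (.leaf 0x604010400050202000701000b) (.leaf 0x5000206020007010008))) (.node 85368 (.leaf 0x602090402000703040103000b) (.node 85369 (.leaf 0x8050703060202000701000a) (.leaf 0x104000003)))) (.node 85373 (.node 85371 (.leaf 0x2040206020007010008) (.node 85372 (.leaf 0x5000000000300000802040105000d) (.leaf 0x107000003))) (.node 85374 (.leaf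 0x70802020007010007) (.node 85375 (.leaf 0x60601090806000007) (.leaf 0x2020000090206020008))))))

def argWS_7565 : Store := (.node 85353 argWS_7563 argWS_7564)

def argWS_7566 : Store := (.node 85387 (.node 85381 (.node 85378 (.node 85377 (.leaf 0x700090402000703040103000b) (.leaf 0x6040106010500020202000701000d)) (.node 85379 (.leaf 0x20500020804000007) (.node 85380 (.leaf 0x204000408010202000701000b) (.leaf 0x109030003)))) (.node 85384 (.node 85382 (.leaf 0x3010003) (.node 85383 (.leaf 0x105020901090006) (.leaf 0x902010901090802040105000b))) (.node 85385 (.leaf 0x3060003) (.node 85386 (.leaf 0x7020009020602000703040103000d) (.leaf 0x3070002000003010802040105000d))))) (.node 85392 (.node 85389 (.node 85388 (.leaf 0x2000003) (.leaf 0x900000408010202000701000b)) (.node 85390 (.leaf 0x206010703060802040105000b) (.node 85391 (.leaf 0x10300020106060202000701000c) (.leaf 0x80200020000030703040103000c)))) (.node 85395 (.node 85393 (.leaf 0x5030003) (.node 85394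 (.leaf 0x2050206030500040008) (.leaf 0x90300020901060007))) (.node 85396 (.leaf 0x107090805000703040103000b) (.node 85397 (.leaf 0x6000000090206020802040105000d) (.leaf 0x4010206020007010008))))))

def argWS_7567 : Store := (.node 85409 (.node 85403 (.node 85400 (.node 85399 (.leaf 0x7030003) (.leaf 0x702070209020802040105000b)) (.node 85401 (.leaf 0x40202010004) (.node 85402 (.leaf 0x6000003) (.leaf 0x8020007020902000703040103000d)))) (.node 85406 (.node 85404 (.leaf 0x8000003) (.node 85405 (.leaf 0x9000003) (.leaf 0x209010908050202000701000b))) (.node 85407 (.leaf 0x1030106030500040202000701000d) (.node 85408 (.leaf 0x102010901090202000701000b) (.leaf 0x702020703000703040103000b))))) (.node 85415 (.node 85412 (.node 85410 (.leaf 0x7010207030005) (.node 85411 (.leaf 0x70209080600000703040103000c) (.leaf 0x1040900090802040105000a))) (.node 85413 (.leaf 0x202020003) (.node 85414 (.leaf 0x4020500090206020802040105000d) (.leaf 0x200070306000703040103000b))))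 (.node 85418 (.node 85416 (.leaf 0x602010301010200000703040103000e) (.node 85417 (.leaf 0x501060608020401050009) (.leaf 0x70000020901060007))) (.node 85419 (.leaf 0x304030003) (.node 85420 (.leaf 0x307000003) (.leaf 0x2000006010500020802040105000d))))))

def argWS_7568 : Store := (.node 85398 argWS_7566 argWS_7567)

def argWS_7569 : Store := (.node 85376 argWS_7565 argWS_7568)

def argWS_7570 : Store := (.node 85432 (.node 85426 (.node 85423 (.node 85422 (.leaf 0x9000206020007010008) (.leaf 0x306030003)) (.node 85424 (.leaf 0x1020206020702010802040105000d) (.node 85425 (.leaf 0x300090000090202000701000b) (.leaf 0x201090003)))) (.node 85429 (.node 85427 (.leaf 0x20908050005) (.node 85428 (.leaf 0x200020003) (.leaf 0x10406030500040202000701000c))) (.node 85430 (.leaf 0x200090003) (.node 85431 (.leaf 0x906020000030703040103000b) (.leaf 0x101050202020703040103000b))))) (.node 85437 (.node 85434 (.node 85433 (.leaf 0x500090000090006) (.leaf 0x7000000000300000008))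 (.node 85435 (.leaf 0x204030003) (.node 85436 (.leaf 0x1030002020900000802040105000d) (.leaf 0x207030003)))) (.node 85440 (.node 85438 (.leaf 0x206010003) (.node 85439 (.leaf 0x206030003) (.leaf 0x209020003))) (.node 85441 (.leaf 0x8020908050202000701000a) (.node 85442 (.leaf 0x901090003) (.leaf 0x900000003))))))

def argWS_7571 : Store := (.node 85454 (.node 85448 (.node 85445 (.node 85444 (.leaf 0x80004090009000703040103000c) (.leaf 0x206090000090202000701000b)) (.node 85446 (.leaf 0x900090003) (.node 85447 (.leaf 0x702090000090202000701000b) (.leaf 0x604000900090802040105000b)))) (.node 85451 (.node 85449 (.leaf 0x609080600000703040103000b) (.node 85450 (.leaf 0x90102020900000202000701000c) (.leaf 0x3030900090005))) (.node 85452 (.leaf 0x5020901090202000701000a) (.node 85453 (.leaf 0x40300000300000007) (.leaf 0x702060207020703040103000b))))) (.node 85460 (.node 85457 (.node 85455 (.leaf 0x70500030306040202000701000c) (.node 85456 (.leaf 0x402020900000202000701000b)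 (.leaf 0x4000202020703040103000a))) (.node 85458 (.leaf 0x907020901060802040105000b) (.node 85459 (.leaf 0x6010202020900000802040105000d) (.leaf 0x600020000030703040103000b)))) (.node 85463 (.node 85461 (.leaf 0x20000000300000202000701000d) (.node 85462 (.leaf 0x307090806000006) (.leaf 0x3070002020900000202000701000d))) (.node 85464 (.leaf 0x20901070209020007) (.node 85465 (.leaf 0x20200020804000007) (.leaf 0x9010207030802040105000a))))))

def argWS_7572 : Store := (.node 85443 argWS_7570 argWS_7571)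

def argWS_7573 : Store := (.node 85477 (.node 85471 (.node 85468 (.node 85467 (.leaf 0x800040206030006) (.leaf 0x90306020702010802040105000c)) (.node 85469 (.leaf 0x10206030004) (.node 85470 (.leaf 0x7040003030604000703040103000d) (.leaf 0x8050000000300000802040105000d)))) (.node 85474 (.node 85472 (.leaf 0x906090000090202000701000b) (.node 85473 (.leaf 0x3040207020007010008) (.leaf 0x102010908050802040105000b))) (.node 85475 (.leaf 0x20601010908050202000701000c) (.node 85476 (.leaf 0x60000000300000008) (.leaf 0x800070209020006))))) (.node 85483 (.node 85480 (.node 85478 (.leaf 0x400090806000202000701000c) (.node 85479 (.leaf 0x20000090000090802040105000c) (.leaf 0x606010400050802040105000b))) (.node 85481 (.leaf 0x4020506030500040202000701000d) (.node 85482 (.leaf 0x8050008020401050008) (.leaf 0x6010900090802040105000a)))) (.node 85486 (.node 85484 (.leaf 0x30401090806000802040105000c) (.node 85485 (.leaf 0x20505020202010202000701000c) (.leaf 0x5090000090802040105000a)))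 (.node 85487 (.leaf 0x10900090004) (.node 85488 (.leaf 0x401070009030006) (.leaf 0x2040103010102000802040105000d))))))

def argWS_7574 : Store := (.node 85500 (.node 85494 (.node 85491 (.node 85490 (.leaf 0x903000901090006) (.leaf 0x20902020900000202000701000c)) (.node 85492 (.leaf 0x502010401050006) (.node 85493 (.leaf 0x30106030500040202000701000c) (.leaf 0x10101090805000703040103000c)))) (.node 85497 (.node 85495 (.leaf 0x1030009000009000703040103000d) (.node 85496 (.leaf 0x30002020900000802040105000c) (.leaf 0x209020004))) (.node 85498 (.leaf 0x5030900090202000701000b) (.node 85499 (.leaf 0x8000004080703040103000b) (.leaf 0x9070202090000000703040103000d))))) (.node 85506 (.node 85503 (.node 85501 (.leaf 0x70200020804000802040105000c) (.node 85502 (.leaf 0x90201070206000202000701000c) (.leaf 0x50300020804000802040105000d))) (.node 85504 (.leaf 0x2060101090805000703040103000d) (.node 85505 (.leaf 0x60301020106060802040105000c) (.leaf 0x9040807030401030008))))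 (.node 85509 (.node 85507 (.leaf 0x400090206020007) (.node 85508 (.leaf 0x7050308000703040103000a) (.leaf 0x10001))) (.node 85510 (.leaf 0x30001) (.node 85511 (.leaf 0x20001) (.leaf 0x1010002))))))

def argWS_7575 : Store := (.node 85489 argWS_7573 argWS_7574)

def argWS_7576 : Store := (.node 85466 argWS_7572 argWS_7575)

def argWS_7577 : Store := (.node 85421 argWS_7569 argWS_7576)

def argWS_7578 : Store := (.node 85331 argWS_7562 argWS_7577)

def argWS_7579 : Store := (.node 85523 (.node 85517 (.node 85514 (.node 85513 (.leaf 0x1020002) (.leaf 0x1040002)) (.node 85515 (.leaf 0x1070002) (.node 85516 (.leaf 0x1080002) (.leaf 0x1090002)))) (.node 85520 (.node 85518 (.leaf 0x30002) (.node 85519 (.leaf 0x3000002) (.leaf 0x3030002))) (.node 85521 (.leaf 0x3050002) (.node 85522 (.leaf 0x3040002) (.leaf 0x3060002))))) (.node 85528 (.node 85525 (.node 85524 (.leaf 0x2010002) (.leaf 0x2000002)) (.node 85526 (.leaf 0x2020002) (.node 85527 (.leaf 0x9030002) (.leaf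 0x60904020004)))) (.node 85531 (.node 85529 (.leaf 0x30106010500020802040105000c) (.node 85530 (.leaf 0x20002090106000703040103000d) (.leaf 0x90201070009030007))) (.node 85532 (.leaf 0x9020106060802040105000a) (.node 85533 (.leaf 0x103010003) (.leaf 0x70108020401050007))))))

def argWS_7580 : Store := (.node 85545 (.node 85539 (.node 85536 (.node 85535 (.leaf 0x700020804000202000701000c) (.leaf 0x600030000000703040103000b)) (.node 85537 (.leaf 0x7000005020202010802040105000d) (.node 85538 (.leaf 0x103080003) (.leaf 0x7020000030000000703040103000d)))) (.node 85542 (.node 85540 (.leaf 0x102010003) (.node 85541 (.leaf 0x4000409000009000703040103000d) (.leaf 0x2040105020202010202000701000d))) (.node 85543 (.leaf 0x604010400050202000701000b) (.node 85544 (.leaf 0x5000206020007010008) (.leaf 0x202070206000202000701000b))))) (.node 85551 (.node 85548 (.node 85546 (.leaf 0x8050703060202000701000a) (.node 85547 (.leaf 0x104000003) (.leaf 0x502000207030006))) (.node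 85549 (.leaf 0x5000000000300000802040105000d) (.node 85550 (.leaf 0x107000003) (.leaf 0x107030003)))) (.node 85554 (.node 85552 (.leaf 0x70802020007010007) (.node 85553 (.leaf 0x60601090806000007) (.leaf 0x2020000090206020008))) (.node 85555 (.leaf 0x402020900000202000701000c) (.node 85556 (.leaf 0x205070206000006) (.leaf 0x6040106010500020202000701000d))))))

def argWS_7581 : Store := (.node 85534 argWS_7579 argWS_7580)

def argWS_7582 : Store := (.node 85568 (.node 85562 (.node 85559 (.node 85558 (.leaf 0x20500020804000007) (.leaf 0x700000900090802040105000b)) (.node 85560 (.leaf 0x300070209020006) (.node 85561 (.leaf 0x204000408010202000701000b) (.leaf 0x109030003)))) (.node 85565 (.node 85563 (.leaf 0x20002090106000703040103000c) (.node 85564 (.leaf 0x3010003) (.leaf 0x105020901090006))) (.node 85566 (.leaf 0x3060003) (.node 85567 (.leaf 0x3080003) (.leaf 0x7020009020602000703040103000d))))) (.node 85573 (.node 85570 (.node 85569 (.leaf 0x2000003)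 (.leaf 0x4040206020007010008)) (.node 85571 (.leaf 0x900000408010202000701000b) (.node 85572 (.leaf 0x109030601050002000703040103000e) (.leaf 0x206010703060802040105000b)))) (.node 85576 (.node 85574 (.leaf 0x404090000090202000701000b) (.node 85575 (.leaf 0x5030003) (.leaf 0x50000070209020007))) (.node 85577 (.leaf 0x4020003) (.node 85578 (.leaf 0x702070209020802040105000b) (.leaf 0x6030003))))))

def argWS_7583 : Store := (.node 85590 (.node 85584 (.node 85581 (.node 85580 (.leaf 0x209010908050202000701000b) (.leaf 0x1030106030500040202000701000d)) (.node 85582 (.leaf 0x301050003) (.node 85583 (.leaf 0x7010207030005) (.leaf 0x70209080600000703040103000c)))) (.node 85587 (.node 85585 (.leaf 0x2020202010005) (.node 85586 (.leaf 0x602010301010200000703040103000e) (.leaf 0x70000020901060007))) (.node 85588 (.leaf 0x304030003) (.node 85589 (.leaf 0x2000006010500020802040105000d) (.leaf 0x9000206020007010008))))) (.node 85596 (.node 85593 (.node 85591 (.leaf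 0x1020206020702010802040105000d) (.node 85592 (.leaf 0x201030003) (.leaf 0x402020207030401030009))) (.node 85594 (.leaf 0x402060402020007010009) (.node 85595 (.leaf 0x201090003) (.leaf 0x200090003)))) (.node 85599 (.node 85597 (.leaf 0x500090000090006) (.node 85598 (.leaf 0x204030003) (.leaf 0x209020003))) (.node 85600 (.leaf 0x3050206030802040105000a) (.node 85601 (.leaf 0x809040208020401050009) (.leaf 0x8020908050202000701000a))))))

def argWS_7584 : Store := (.node 85579 argWS_7582 argWS_7583)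

def argWS_7585 : Store := (.node 85557 argWS_7581 argWS_7584)

def argWS_7586 : Store := (.node 85613 (.node 85607 (.node 85604 (.node 85603 (.leaf 0x901060003) (.leaf 0x901090003)) (.node 85605 (.leaf 0x903000003) (.node 85606 (.leaf 0x3010005) (.leaf 0x609080600000703040103000b)))) (.node 85610 (.node 85608 (.leaf 0x702060207020703040103000b) (.node 85609 (.leaf 0x402020900000202000701000b) (.leaf 0x70101090009000703040103000c))) (.node 85611 (.leaf 0x10300070209020007) (.node 85612 (.leaf 0x4000202020703040103000a) (.leaf 0x2020202090106000703040103000d))))) (.node 85618 (.node 85615 (.node 85614 (.leaf 0x907020901060802040105000b) (.leaf 0x3090806000006)) (.node 85616 (.leaf 0x602010904020006) (.node 85617 (.leaf 0x10500020004) (.leaf 0x604000901090006)))) (.node 85621 (.node 85619 (.leaf 0x40004000408010802040105000c) (.node 85620 (.leaf 0x6010202020900000802040105000d) (.leaf 0x40009000009000703040103000d))) (.node 85622 (.leaf 0x1020105020604000703040103000d)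 (.node 85623 (.leaf 0x704010904020802040105000b) (.leaf 0x600020000030703040103000b))))))

def argWS_7587 : Store := (.node 85635 (.node 85629 (.node 85626 (.node 85625 (.leaf 0x10303080004) (.leaf 0x30700000408010202000701000c)) (.node 85627 (.leaf 0x60401010908050802040105000c) (.node 85628 (.leaf 0x4040603050004000703040103000d) (.leaf 0x3070002020900000202000701000d)))) (.node 85632 (.node 85630 (.leaf 0x204010904020006) (.node 85631 (.leaf 0x4030009020602000703040103000d) (.leaf 0x2040102000003010202000701000d))) (.node 85633 (.leaf 0x80500090806000202000701000c) (.node 85634 (.leaf 0x9010207030802040105000a) (.leaf 0x20200000408010007))))) (.node 85641 (.node 85638 (.node 85636 (.leaf 0x800040206030006) (.node 85637 (.leaf 0x7040003030604000703040103000d) (.leaf 0x20202090106000703040103000c))) (.node 85639 (.leaf 0x8050000000300000802040105000d) (.node 85640 (.leaf 0x90206020202000701000b) (.leaf 0x7070209020202000701000a)))) (.node 85644 (.node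 85642 (.leaf 0x200090206020202000701000c) (.node 85643 (.leaf 0x9030900090005) (.leaf 0x20006030500040007))) (.node 85645 (.leaf 0x8000406030500040802040105000d) (.node 85646 (.leaf 0x605010308000703040103000b) (.leaf 0x3040207020007010008))))))

def argWS_7588 : Store := (.node 85624 argWS_7586 argWS_7587)

def argWS_7589 : Store := (.node 85658 (.node 85652 (.node 85649 (.node 85648 (.leaf 0x20002010904020802040105000c) (.leaf 0x20906020702010202000701000c)) (.node 85650 (.leaf 0x102010908050802040105000b) (.node 85651 (.leaf 0x20601010908050202000701000c) (.leaf 0x10401050004)))) (.node 85655 (.node 85653 (.leaf 0x40103010102000007) (.node 85654 (.leaf 0x606010400050802040105000b) (.leaf 0x20206000004))) (.node 85656 (.leaf 0x2090301070306000703040103000d) (.node 85657 (.leaf 0x90009000009000703040103000c) (.leaf 0x6000006020702010802040105000d))))) (.node 85663 (.node 85660 (.node 85659 (.leaf 0x8000703060202000701000a) (.leaf 0x1020200000300000008))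 (.node 85661 (.leaf 0x3090009000703040103000b) (.node 85662 (.leaf 0x20400090206020007) (.leaf 0x60106030500040802040105000c)))) (.node 85666 (.node 85664 (.leaf 0x701070009020007010009) (.node 85665 (.leaf 0x206020901060802040105000b) (.leaf 0x90705020202010007))) (.node 85667 (.leaf 0x2020602000703040103000a) (.node 85668 (.leaf 0x10101090805000703040103000c) (.leaf 0x6050105020604000703040103000d))))))

def argWS_7590 : Store := (.node 85680 (.node 85674 (.node 85671 (.node 85670 (.leaf 0x7030500000300000008) (.leaf 0x406030500040202000701000b)) (.node 85672 (.leaf 0x204030003030604000703040103000e) (.node 85673 (.leaf 0x30002020900000802040105000c) (.leaf 0x304030308000703040103000b)))) (.node 85677 (.node 85675 (.leaf 0x90201070206000202000701000c) (.node 85676 (.leaf 0x80000020901060802040105000c) (.leaf 0x400030009020602000703040103000e))) (.node 85678 (.leaf 0x10001) (.node 85679 (.leaf 0x30001) (.leaf 0x90001))))) (.node 85686 (.node 85683 (.node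 85681 (.leaf 0x1010002) (.node 85682 (.leaf 0x1030002) (.leaf 0x1020002))) (.node 85684 (.leaf 0x2) (.node 85685 (.leaf 0x30002) (.leaf 0x20002)))) (.node 85689 (.node 85687 (.leaf 0x50002) (.node 85688 (.leaf 0x70002) (.leaf 0x3000002))) (.node 85690 (.leaf 0x3030002) (.node 85691 (.leaf 0x3050002) (.leaf 0x3070002))))))

def argWS_7591 : Store := (.node 85669 argWS_7589 argWS_7590)

def argWS_7592 : Store := (.node 85647 argWS_7588 argWS_7591)

def argWS_7593 : Store := (.node 85602 argWS_7585 argWS_7592)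

def argWS_7594 : Store := (.node 85703 (.node 85697 (.node 85694 (.node 85693 (.leaf 0x702020901060202000701000b) (.leaf 0x2010002)) (.node 85695 (.leaf 0x2000002) (.node 85696 (.leaf 0x2050002) (.leaf 0x2070002)))) (.node 85700 (.node 85698 (.leaf 0x2090002) (.node 85699 (.leaf 0x9010002) (.leaf 0x9000002))) (.node 85701 (.leaf 0x30106010500020802040105000c) (.node 85702 (.leaf 0x20002090106000703040103000d) (.leaf 0x90201070009030007))))) (.node 85708 (.node 85705 (.node 85704 (.leaf 0x9020106060802040105000a) (.leaf 0x103010003)) (.node 85706 (.leaf 0x70108020401050007) (.node 85707 (.leaf 0x6020401050005) (.leaf 0x0)))) (.node 85711 (.node 85709 (.leaf 0x103080003) (.node 85710 (.leaf 0x102020003) (.leaf 0x604010400050202000701000b))) (.node 85712 (.leaf 0x5000206020007010008) (.node 85713 (.leaf 0x105020003) (.leaf 0x700070206000202000701000b))))))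

def argWS_7595 : Store := (.node 85725 (.node 85719 (.node 85716 (.node 85715 (.leaf 0x104000003) (.leaf 0x2040206020007010008)) (.node 85717 (.leaf 0x107000003) (.node 85718 (.leaf 0x70802020007010007) (.leaf 0x60601090806000007)))) (.node 85722 (.node 85720 (.leaf 0x2020000090206020008) (.node 85721 (.leaf 0x700090402000703040103000b) (.leaf 0x402020900000202000701000c))) (.node 85723 (.leaf 0x6040106010500020202000701000d) (.node 85724 (.leaf 0x20500020804000007) (.leaf 0x700000900090802040105000b))))) (.node 85731 (.node 85728 (.node 85726 (.leaf 0x300070209020006) (.node 85727 (.leaf 0x204000408010202000701000b) (.leaf 0x7000005020604000703040103000d))) (.node 85729 (.leaf 0x20002090106000703040103000c) (.node 85730 (.leaf 0x90003) (.leaf 0x3010003)))) (.node 85734 (.node 85732 (.leaf 0x105020901090006) (.node 85733 (.leaf 0x3080003) (.leaf 0x3070002000003010802040105000d))) (.node 85735 (.leaf 0x2000003) (.node 85736 (.leaf 0x109030601050002000703040103000e)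 (.leaf 0x10300020106060202000701000c))))))

def argWS_7596 : Store := (.node 85714 argWS_7594 argWS_7595)

def argWS_7597 : Store := (.node 85748 (.node 85742 (.node 85739 (.node 85738 (.leaf 0x80200020000030703040103000c) (.leaf 0x5030003)) (.node 85740 (.leaf 0x50000070209020007) (.node 85741 (.leaf 0x2050206030500040008) (.leaf 0x90300020901060007)))) (.node 85745 (.node 85743 (.leaf 0x107090805000703040103000b) (.node 85744 (.leaf 0x4010206020007010008) (.leaf 0x702070209020802040105000b))) (.node 85746 (.leaf 0x40202010004) (.node 85747 (.leaf 0x6000003) (.leaf 0x6030003))))) (.node 85753 (.node 85750 (.node 85749 (.leaf 0x8020007020902000703040103000d) (.leaf 0x60908050005)) (.node 85751 (.leaf 0x20401010703060802040105000c) (.node 85752 (.leaf 0x60000020106060007) (.leaf 0x1030106030500040202000701000d)))) (.node 85756 (.node 85754 (.leaf 0x103010207030802040105000b) (.node 85755 (.leaf 0x300000003) (.leaf 0x7010207030005))) (.node 85757 (.leaf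 0x902060402020007010009) (.node 85758 (.leaf 0x2020202010005) (.leaf 0x1040900090802040105000a))))))

def argWS_7598 : Store := (.node 85770 (.node 85764 (.node 85761 (.node 85760 (.leaf 0x200070306000703040103000b) (.leaf 0x501060608020401050009)) (.node 85762 (.leaf 0x304030003) (.node 85763 (.leaf 0x107000401050006) (.leaf 0x10502070206000802040105000c)))) (.node 85767 (.node 85765 (.leaf 0x201090003) (.node 85766 (.leaf 0x20908050005) (.leaf 0x200080003))) (.node 85768 (.leaf 0x200090003) (.node 85769 (.leaf 0x202000003) (.leaf 0x906020000030703040103000b))))) (.node 85776 (.node 85773 (.node 85771 (.leaf 0x500090000090006) (.node 85772 (.leaf 0x1030002020900000802040105000d) (.leaf 0x207030003))) (.node 85774 (.leaf 0x209010003) (.node 85775 (.leaf 0x601070206000202000701000b) (.leaf 0x3050206030802040105000a)))) (.node 85779 (.node 85777 (.leaf 0x8020908050202000701000a) (.node 85778 (.leaf 0x502020804000006) (.leaf 0x6050102000003010202000701000d)))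 (.node 85780 (.leaf 0x8000901090202000701000a) (.node 85781 (.leaf 0x7030502020900000008) (.leaf 0x6080102020007010008))))))

def argWS_7599 : Store := (.node 85759 argWS_7597 argWS_7598)

def argWS_7600 : Store := (.node 85737 argWS_7596 argWS_7599)

def argWS_7601 : Store := (.node 85793 (.node 85787 (.node 85784 (.node 85783 (.leaf 0x903000003) (.leaf 0x3010005)) (.node 85785 (.leaf 0x500000000030000000703040103000e) (.node 85786 (.leaf 0x3030900090005) (.leaf 0x5020901090202000701000a)))) (.node 85790 (.node 85788 (.leaf 0x70500030306040202000701000c) (.node 85789 (.leaf 0x3040101090805000703040103000d) (.leaf 0x402020900000202000701000b))) (.node 85791 (.leaf 0x10300070209020007) (.node 85792 (.leaf 0x4000202020703040103000a) (.leaf 0x602010904020006))))) (.node 85798 (.node 85795 (.node 85794 (.leaf 0x40009000009000703040103000d) (.leaf 0x10303080004)) (.node 85796 (.leaf 0x20202020901060802040105000c) (.node 85797 (.leaf 0x3040301090805000703040103000d)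 (.leaf 0x307090806000006)))) (.node 85801 (.node 85799 (.leaf 0x4040603050004000703040103000d) (.node 85800 (.leaf 0x20106030500040802040105000c) (.leaf 0x3070002020900000202000701000d))) (.node 85802 (.leaf 0x307000206030802040105000b) (.node 85803 (.leaf 0x6000901090802040105000a) (.leaf 0x908050007030401030009))))))

def argWS_7602 : Store := (.node 85815 (.node 85809 (.node 85806 (.node 85805 (.leaf 0x20901070209020007) (.leaf 0x20200020804000007)) (.node 85807 (.leaf 0x20200000408010007) (.node 85808 (.leaf 0x90306020702010802040105000c) (.leaf 0x10206030004)))) (.node 85812 (.node 85810 (.leaf 0x605020804000202000701000b) (.node 85811 (.leaf 0x8020703060202000701000a) (.leaf 0x503040005000703040103000c))) (.node 85813 (.leaf 0x8050000000300000802040105000d) (.node 85814 (.leaf 0x906090000090202000701000b) (.leaf 0x3040207020007010008))))) (.node 85821 (.node 85818 (.node 85816 (.leaf 0x401090009000703040103000b) (.node 85817 (.leaf 0x20601010908050202000701000c)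 (.leaf 0x10401050004))) (.node 85819 (.leaf 0x5020000020804000202000701000d) (.node 85820 (.leaf 0x800070209020006) (.leaf 0x406030500040006)))) (.node 85824 (.node 85822 (.leaf 0x606010400050802040105000b) (.node 85823 (.leaf 0x2090301070306000703040103000d) (.leaf 0x30401090806000802040105000c))) (.node 85825 (.leaf 0x409040202020007010009) (.node 85826 (.leaf 0x4020505020202010802040105000d) (.leaf 0x3090009000703040103000b))))))

def argWS_7603 : Store := (.node 85804 argWS_7601 argWS_7602)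

def argWS_7604 : Store := (.node 85838 (.node 85832 (.node 85829 (.node 85828 (.leaf 0x60106030500040802040105000c) (.leaf 0x5090000090802040105000a)) (.node 85830 (.leaf 0x9000601050002000703040103000e) (.node 85831 (.leaf 0x10901090004) (.leaf 0x90705020202010007)))) (.node 85835 (.node 85833 (.leaf 0x903000901090006) (.node 85834 (.leaf 0x60102010904020802040105000c) (.leaf 0x10101090805000703040103000c))) (.node 85836 (.leaf 0x6050105020604000703040103000d) (.node 85837 (.leaf 0x1030009000009000703040103000d) (.leaf 0x30002020900000802040105000c))))) (.node 85844 (.node 85841 (.node 85839 (.leaf 0x4000400030306040008) (.node 85840 (.leaf 0x80000090206020008) (.leaf 0x70901090802040105000a))) (.node 85842 (.leaf 0x8000004080703040103000b) (.node 85843 (.leaf 0x202000003010802040105000c) (.leaf 0x204010900090006)))) (.node 85847 (.node 85845 (.leaf 0x60301010200000703040103000d) (.node 85846 (.leaf 0x30001) (.leaf 0x90001))) (.node 85848 (.leaf 0x1030002)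 (.node 85849 (.leaf 0x1020002) (.leaf 0x1050002))))))

def argWS_7605 : Store := (.node 85861 (.node 85855 (.node 85852 (.node 85851 (.leaf 0x1070002) (.leaf 0x1080002)) (.node 85853 (.leaf 0x1090002) (.node 85854 (.leaf 0x20002) (.leaf 0x50002)))) (.node 85858 (.node 85856 (.leaf 0x70002) (.node 85857 (.leaf 0x80002) (.leaf 0x90002))) (.node 85859 (.leaf 0x3010002) (.node 85860 (.leaf 0x3000002) (.leaf 0x3030002))))) (.node 85867 (.node 85864 (.node 85862 (.leaf 0x3050002) (.node 85863 (.leaf 0x3070002) (.leaf 0x702020901060202000701000b))) (.node 85865 (.leaf 0x2010002) (.node 85866 (.leaf 0x2000002) (.leaf 0x2020002)))) (.node 85870 (.node 85868 (.leaf 0x2050002) (.node 85869 (.leaf 0x2090002) (.leaf 0x9010002))) (.node 85871 (.leaf 0x9000002) (.node 85872 (.leaf 0x20002090106000703040103000d) (.leaf 0x90201070009030007))))))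

def argWS_7606 : Store := (.node 85850 argWS_7604 argWS_7605)

def argWS_7607 : Store := (.node 85827 argWS_7603 argWS_7606)

def argWS_7608 : Store := (.node 85782 argWS_7600 argWS_7607)

def argWS_7609 : Store := (.node 85692 argWS_7593 argWS_7608)

def argWS_7610 : Store := (.node 85512 argWS_7578 argWS_7609)

def argWS_7611 : Store := (.node 85884 (.node 85878 (.node 85875 (.node 85874 (.leaf 0x9020106060802040105000a) (.leaf 0x103010003)) (.node 85876 (.leaf 0x70108020401050007) (.node 85877 (.leaf 0x103080003) (.leaf 0x7020000030000000703040103000d)))) (.node 85881 (.node 85879 (.leaf 0x604010400050202000701000b) (.node 85880 (.leaf 0x8050703060202000701000a) (.leaf 0x700070206000202000701000b))) (.node 85882 (.leaf 0x104000003) (.node 85883 (.leaf 0x9030002020900000202000701000d) (.leaf 0x107000003))))) (.node 85889 (.node 85886 (.node 85885 (.leaf 0x107030003) (.leaf 0x70802020007010007)) (.node 85887 (.leaf 0x60601090806000007) (.node 85888 (.leaf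 0x2020000090206020008) (.leaf 0x700090402000703040103000b)))) (.node 85892 (.node 85890 (.leaf 0x402020900000202000701000c) (.node 85891 (.leaf 0x6040106010500020202000701000d) (.leaf 0x20500020804000007))) (.node 85893 (.leaf 0x700000900090802040105000b) (.node 85894 (.leaf 0x204000408010202000701000b) (.leaf 0x109030003))))))

def argWS_7612 : Store := (.node 85906 (.node 85900 (.node 85897 (.node 85896 (.leaf 0x7000005020604000703040103000d) (.leaf 0x20002090106000703040103000c)) (.node 85898 (.leaf 0x90003) (.node 85899 (.leaf 0x105020901090006) (.leaf 0x104020603000703040103000b)))) (.node 85903 (.node 85901 (.leaf 0x3080003) (.node 85902 (.leaf 0x7020009020602000703040103000d) (.leaf 0x3070002000003010802040105000d))) (.node 85904 (.leaf 0x2000003) (.node 85905 (.leaf 0x109030601050002000703040103000e) (.leaf 0x10300020106060202000701000c))))) (.node 85912 (.node 85909 (.node 85907 (.leaf 0x80200020000030703040103000c) (.node 85908 (.leaf 0x5030003)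 (.leaf 0x50000070209020007))) (.node 85910 (.leaf 0x2050206030500040008) (.node 85911 (.leaf 0x90300020901060007) (.leaf 0x4000003)))) (.node 85915 (.node 85913 (.leaf 0x107090805000703040103000b) (.node 85914 (.leaf 0x4020003) (.leaf 0x7030003))) (.node 85916 (.leaf 0x702070209020802040105000b) (.node 85917 (.leaf 0x40202010004) (.leaf 0x307050206040802040105000b))))))

def argWS_7613 : Store := (.node 85895 argWS_7611 argWS_7612)

def argWS_7614 : Store := (.node 85929 (.node 85923 (.node 85920 (.node 85919 (.leaf 0x6030003) (.leaf 0x8020007020902000703040103000d)) (.node 85921 (.leaf 0x60908050005) (.node 85922 (.leaf 0x20401010703060802040105000c) (.leaf 0x9000003)))) (.node 85926 (.node 85924 (.leaf 0x60000020106060007) (.node 85925 (.leaf 0x1030106030500040202000701000d) (.leaf 0x103010207030802040105000b))) (.node 85927 (.leaf 0x300000003) (.node 85928 (.leaf 0x902060402020007010009) (.leaf 0x1040900090802040105000a))))) (.node 85934 (.node 85931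 (.node 85930 (.leaf 0x4020500090206020802040105000d) (.leaf 0x602010301010200000703040103000e)) (.node 85932 (.leaf 0x304030003) (.node 85933 (.leaf 0x2000006010500020802040105000d) (.leaf 0x6000901090802040105000b)))) (.node 85937 (.node 85935 (.leaf 0x1020206020702010802040105000d) (.node 85936 (.leaf 0x402020207030401030009) (.leaf 0x201090003))) (.node 85938 (.leaf 0x20908050005) (.node 85939 (.leaf 0x202000003) (.leaf 0x906020000030703040103000b))))))

def argWS_7615 : Store := (.node 85951 (.node 85945 (.node 85942 (.node 85941 (.leaf 0x101050202020703040103000b) (.leaf 0x500090000090006)) (.node 85943 (.leaf 0x7000000000300000008) (.node 85944 (.leaf 0x204030003) (.leaf 0x1030002020900000802040105000d)))) (.node 85948 (.node 85946 (.leaf 0x207030003) (.node 85947 (.leaf 0x206030003) (.leaf 0x209010003))) (.node 85949 (.leaf 0x601070206000202000701000b) (.node 85950 (.leaf 0x3050206030802040105000a) (.leaf 0x8020908050202000701000a))))) (.node 85957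 (.node 85954 (.node 85952 (.leaf 0x502020804000006) (.node 85953 (.leaf 0x6050102000003010202000701000d) (.leaf 0x7030502020900000008))) (.node 85955 (.leaf 0x6080102020007010008) (.node 85956 (.leaf 0x903000003) (.leaf 0x3010005)))) (.node 85960 (.node 85958 (.leaf 0x500000000030000000703040103000e) (.node 85959 (.leaf 0x702090000090202000701000b) (.leaf 0x604000900090802040105000b))) (.node 85961 (.leaf 0x90102020900000202000701000c) (.node 85962 (.leaf 0x3030900090005) (.leaf 0x5020901090202000701000a))))))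

def argWS_7616 : Store := (.node 85940 argWS_7614 argWS_7615)

def argWS_7617 : Store := (.node 85918 argWS_7613 argWS_7616)

def argWS_7618 : Store := (.node 85974 (.node 85968 (.node 85965 (.node 85964 (.leaf 0x70500030306040202000701000c) (.leaf 0x3040101090805000703040103000d)) (.node 85966 (.leaf 0x402020900000202000701000b) (.node 85967 (.leaf 0x10300070209020007) (.leaf 0x4000202020703040103000a)))) (.node 85971 (.node 85969 (.leaf 0x602010904020006) (.node 85970 (.leaf 0x604000901090006) (.leaf 0x40009000009000703040103000d))) (.node 85972 (.leaf 0x704010904020802040105000b) (.node 85973 (.leaf 0x20202020901060802040105000c) (.leaf 0x3040301090805000703040103000d))))) (.node 85979 (.node 85976 (.node 85975 (.leaf 0x4040603050004000703040103000d) (.leaf 0x20106030500040802040105000c)) (.node 85977 (.leaf 0x3070002020900000202000701000d) (.node 85978 (.leaf 0x307000206030802040105000b) (.leaf 0x6000901090802040105000a)))) (.node 85982 (.node 85980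 (.leaf 0x4030009020602000703040103000d) (.node 85981 (.leaf 0x908050007030401030009) (.leaf 0x20901070209020007))) (.node 85983 (.leaf 0x20200020804000007) (.node 85984 (.leaf 0x20403070209020202000701000c) (.leaf 0x10206030004))))))

def argWS_7619 : Store := (.node 85996 (.node 85990 (.node 85987 (.node 85986 (.leaf 0x605020804000202000701000b) (.leaf 0x8020703060202000701000a)) (.node 85988 (.leaf 0x503040005000703040103000c) (.node 85989 (.leaf 0x8050000000300000802040105000d) (.leaf 0x906090000090202000701000b)))) (.node 85993 (.node 85991 (.leaf 0x3040207020007010008) (.node 85992 (.leaf 0x401090009000703040103000b) (.leaf 0x10401050004))) (.node 85994 (.leaf 0x5020000020804000202000701000d) (.node 85995 (.leaf 0x800070209020006) (.leaf 0x406030500040006))))) (.node 86002 (.node 85999 (.node 85997 (.leaf 0x409040202020007010009) (.node 85998 (.leaf 0x3090009000703040103000b) (.leaf 0x60106030500040802040105000c))) (.node 86000 (.leaf 0x5090000090802040105000a)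 (.node 86001 (.leaf 0x9000601050002000703040103000e) (.leaf 0x10901090004)))) (.node 86005 (.node 86003 (.leaf 0x20902020900000202000701000c) (.node 86004 (.leaf 0x502010401050006) (.leaf 0x10101090805000703040103000c))) (.node 86006 (.leaf 0x1030009000009000703040103000d) (.node 86007 (.leaf 0x30002020900000802040105000c) (.leaf 0x4000400030306040008))))))

def argWS_7620 : Store := (.node 85985 argWS_7618 argWS_7619)

def argWS_7621 : Store := (.node 86019 (.node 86013 (.node 86010 (.node 86009 (.leaf 0x80000090206020008) (.leaf 0x40004060207020703040103000c)) (.node 86011 (.leaf 0x8000004080703040103000b) (.node 86012 (.leaf 0x9070202090000000703040103000d) (.leaf 0x50300020804000802040105000d)))) (.node 86016 (.node 86014 (.leaf 0x80101020106060802040105000c) (.node 86015 (.leaf 0x202000003010802040105000c) (.leaf 0x204010900090006))) (.node 86017 (.leaf 0x60301010200000703040103000d) (.node 86018 (.leaf 0x1) (.leaf 0x30001))))) (.node 86024 (.node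 86021 (.node 86020 (.leaf 0x20001) (.leaf 0x1010002)) (.node 86022 (.leaf 0x1020002) (.node 86023 (.leaf 0x1050002) (.leaf 0x1070002)))) (.node 86027 (.node 86025 (.leaf 0x1080002) (.node 86026 (.leaf 0x1090002) (.leaf 0x2))) (.node 86028 (.leaf 0x30002) (.node 86029 (.leaf 0x20002) (.leaf 0x50002))))))

def argWS_7622 : Store := (.node 86041 (.node 86035 (.node 86032 (.node 86031 (.leaf 0x70002) (.leaf 0x80002)) (.node 86033 (.leaf 0x90002) (.node 86034 (.leaf 0x3010002) (.leaf 0x3000002)))) (.node 86038 (.node 86036 (.leaf 0x3030002) (.node 86037 (.leaf 0x3070002) (.leaf 0x702020901060202000701000b))) (.node 86039 (.leaf 0x2010002) (.node 86040 (.leaf 0x2000002) (.leaf 0x2020002))))) (.node 86047 (.node 86044 (.node 86042 (.leaf 0x2050002) (.node 86043 (.leaf 0x2090002) (.leaf 0x9010002))) (.node 86045 (.leaf 0x9000002) (.node 86046 (.leaf 0x30106010500020802040105000c) (.leaf 0x90201070009030007)))) (.node 86050 (.node 86048 (.leaf 0x9020106060802040105000a)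 (.node 86049 (.leaf 0x600030000000703040103000b) (.leaf 0x102020003))) (.node 86051 (.leaf 0x2040105020202010202000701000d) (.node 86052 (.leaf 0x604010400050202000701000b) (.leaf 0x602090402000703040103000b))))))

def argWS_7623 : Store := (.node 86030 argWS_7621 argWS_7622)

def argWS_7624 : Store := (.node 86008 argWS_7620 argWS_7623)

def argWS_7625 : Store := (.node 85963 argWS_7617 argWS_7624)

def argWS_7626 : Store := (.node 86064 (.node 86058 (.node 86055 (.node 86054 (.leaf 0x105020003) (.leaf 0x8050703060202000701000a)) (.node 86056 (.leaf 0x104000003) (.node 86057 (.leaf 0x9030002020900000202000701000d) (.leaf 0x2040206020007010008)))) (.node 86061 (.node 86059 (.leaf 0x107000003) (.node 86060 (.leaf 0x107030003) (.leaf 0x70802020007010007))) (.node 86062 (.leaf 0x60601090806000007) (.node 86063 (.leaf 0x700090402000703040103000b) (.leaf 0x402020900000202000701000c))))) (.node 86069 (.node 86066 (.node 86065 (.leaf 0x6040106010500020202000701000d)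 (.leaf 0x20500020804000007)) (.node 86067 (.leaf 0x700000900090802040105000b) (.node 86068 (.leaf 0x204000408010202000701000b) (.leaf 0x109030003)))) (.node 86072 (.node 86070 (.leaf 0x7000005020604000703040103000d) (.node 86071 (.leaf 0x1030106010500020802040105000d) (.leaf 0x20002090106000703040103000c))) (.node 86073 (.leaf 0x105020901090006) (.node 86074 (.leaf 0x3080003) (.leaf 0x7020009020602000703040103000d))))))

def argWS_7627 : Store := (.node 86086 (.node 86080 (.node 86077 (.node 86076 (.leaf 0x2000003) (.leaf 0x109030601050002000703040103000e)) (.node 86078 (.leaf 0x404090000090202000701000b) (.node 86079 (.leaf 0x80200020000030703040103000c) (.leaf 0x5030003)))) (.node 86083 (.node 86081 (.leaf 0x2050206030500040008) (.node 86082 (.leaf 0x90300020901060007) (.leaf 0x107090805000703040103000b))) (.node 86084 (.leaf 0x4010206020007010008) (.node 86085 (.leaf 0x7030003) (.leaf 0x702070209020802040105000b))))) (.node 86092 (.node 86089 (.node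 86087 (.leaf 0x40202010004) (.node 86088 (.leaf 0x307050206040802040105000b) (.leaf 0x8020007020902000703040103000d))) (.node 86090 (.leaf 0x8000003) (.node 86091 (.leaf 0x60908050005) (.leaf 0x20401010703060802040105000c)))) (.node 86095 (.node 86093 (.leaf 0x9000003) (.node 86094 (.leaf 0x60000020106060007) (.leaf 0x1030106030500040202000701000d))) (.node 86096 (.leaf 0x103010207030802040105000b) (.node 86097 (.leaf 0x300000003) (.leaf 0x7010207030005))))))

def argWS_7628 : Store := (.node 86075 argWS_7626 argWS_7627)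

def argWS_7629 : Store := (.node 86109 (.node 86103 (.node 86100 (.node 86099 (.leaf 0x902060402020007010009) (.leaf 0x2020202010005)) (.node 86101 (.leaf 0x1040900090802040105000a) (.node 86102 (.leaf 0x202020003) (.leaf 0x200070306000703040103000b)))) (.node 86106 (.node 86104 (.leaf 0x602010301010200000703040103000e) (.node 86105 (.leaf 0x304030003) (.leaf 0x6000901090802040105000b))) (.node 86107 (.leaf 0x107000401050006) (.node 86108 (.leaf 0x402020207030401030009) (.leaf 0x10502070206000802040105000c))))) (.node 86114 (.node 86111 (.node 86110 (.leaf 0x201090003) (.leaf 0x200080003)) (.node 86112 (.leaf 0x200090003) (.node 86113 (.leaf 0x202000003) (.leaf 0x906020000030703040103000b)))) (.node 86117 (.node 86115 (.leaf 0x101050202020703040103000b) (.node 86116 (.leaf 0x500090000090006) (.leaf 0x7000000000300000008))) (.node 86118 (.leaf 0x204030003) (.node 86119 (.leaf 0x207030003) (.leaf 0x209010003))))))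

def argWS_7630 : Store := (.node 86131 (.node 86125 (.node 86122 (.node 86121 (.leaf 0x3050206030802040105000a) (.leaf 0x8020908050202000701000a)) (.node 86123 (.leaf 0x502020804000006) (.node 86124 (.leaf 0x6050102000003010202000701000d) (.leaf 0x8000901090202000701000a)))) (.node 86128 (.node 86126 (.leaf 0x7030502020900000008) (.node 86127 (.leaf 0x6080102020007010008) (.leaf 0x903000003))) (.node 86129 (.leaf 0x3010005) (.node 86130 (.leaf 0x500000000030000000703040103000e) (.leaf 0x702090000090202000701000b))))) (.node 86137 (.node 86134 (.node 86132 (.leaf 0x604000900090802040105000b) (.node 86133 (.leaf 0x90102020900000202000701000c) (.leaf 0x3030900090005))) (.node 86135 (.leaf 0x5020901090202000701000a) (.node 86136 (.leaf 0x70500030306040202000701000c) (.leaf 0x3040101090805000703040103000d)))) (.node 86140 (.node 86138 (.leaf 0x10300070209020007) (.node 86139 (.leaf 0x4000202020703040103000a) (.leaf 0x602010904020006))) (.node 86141 (.leaf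 0x604000901090006) (.node 86142 (.leaf 0x40009000009000703040103000d) (.leaf 0x704010904020802040105000b))))))

def argWS_7631 : Store := (.node 86120 argWS_7629 argWS_7630)

def argWS_7632 : Store := (.node 86098 argWS_7628 argWS_7631)

def argWS_7633 : Store := (.node 86154 (.node 86148 (.node 86145 (.node 86144 (.leaf 0x10303080004) (.leaf 0x20202020901060802040105000c)) (.node 86146 (.leaf 0x307090806000006) (.node 86147 (.leaf 0x4040603050004000703040103000d) (.leaf 0x20106030500040802040105000c)))) (.node 86151 (.node 86149 (.leaf 0x4030009020602000703040103000d) (.node 86150 (.leaf 0x908050007030401030009) (.leaf 0x20200020804000007))) (.node 86152 (.leaf 0x20200000408010007) (.node 86153 (.leaf 0x90306020702010802040105000c) (.leaf 0x10206030004))))) (.node 86159 (.node 86156 (.node 86155 (.leaf 0x605020804000202000701000b) (.leaf 0x8020703060202000701000a)) (.node 86157 (.leaf 0x503040005000703040103000c) (.node 86158 (.leaf 0x8050000000300000802040105000d)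 (.leaf 0x906090000090202000701000b)))) (.node 86162 (.node 86160 (.leaf 0x3040207020007010008) (.node 86161 (.leaf 0x401090009000703040103000b) (.leaf 0x102010908050802040105000b))) (.node 86163 (.leaf 0x20601010908050202000701000c) (.node 86164 (.leaf 0x10401050004) (.leaf 0x5020000020804000202000701000d))))))

def argWS_7634 : Store := (.node 86176 (.node 86170 (.node 86167 (.node 86166 (.leaf 0x800070209020006) (.leaf 0x606010400050802040105000b)) (.node 86168 (.leaf 0x2090301070306000703040103000d) (.node 86169 (.leaf 0x30401090806000802040105000c) (.leaf 0x90009000009000703040103000c)))) (.node 86173 (.node 86171 (.leaf 0x409040202020007010009) (.node 86172 (.leaf 0x4020505020202010802040105000d) (.leaf 0x3090009000703040103000b))) (.node 86174 (.leaf 0x60106030500040802040105000c) (.node 86175 (.leaf 0x5090000090802040105000a) (.leaf 0x9000601050002000703040103000e))))) (.node 86182 (.node 86179 (.node 86177 (.leaf 0x10901090004) (.node 86178 (.leaf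 0x701070009020007010009) (.leaf 0x90705020202010007))) (.node 86180 (.leaf 0x903000901090006) (.node 86181 (.leaf 0x20902020900000202000701000c) (.leaf 0x502010401050006)))) (.node 86185 (.node 86183 (.leaf 0x30106030500040202000701000c) (.node 86184 (.leaf 0x60102010904020802040105000c) (.leaf 0x10101090805000703040103000c))) (.node 86186 (.leaf 0x6050105020604000703040103000d) (.node 86187 (.leaf 0x1030009000009000703040103000d) (.leaf 0x4000400030306040008))))))

def argWS_7635 : Store := (.node 86165 argWS_7633 argWS_7634)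

def argWS_7636 : Store := (.node 86199 (.node 86193 (.node 86190 (.node 86189 (.leaf 0x80000090206020008) (.leaf 0x70901090802040105000a)) (.node 86191 (.leaf 0x8000004080703040103000b) (.node 86192 (.leaf 0x9070202090000000703040103000d) (.leaf 0x50300020804000802040105000d)))) (.node 86196 (.node 86194 (.leaf 0x80101020106060802040105000c) (.node 86195 (.leaf 0x204010900090006) (.leaf 0x200000300000006))) (.node 86197 (.leaf 0x60301010200000703040103000d) (.node 86198 (.leaf 0x10001) (.leaf 0x1))))) (.node 86205 (.node 86202 (.node 86200 (.leaf 0x1010002) (.node 86201 (.leaf 0x1030002) (.leaf 0x1020002))) (.node 86203 (.leaf 0x1050002) (.node 86204 (.leaf 0x1080002) (.leaf 0x30002)))) (.node 86208 (.node 86206 (.leaf 0x20002) (.node 86207 (.leaf 0x50002) (.leaf 0x70002))) (.node 86209 (.leaf 0x90002) (.node 86210 (.leaf 0x3010002) (.leaf 0x3030002))))))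

def argWS_7637 : Store := (.node 86222 (.node 86216 (.node 86213 (.node 86212 (.leaf 0x3070002) (.leaf 0x2000002)) (.node 86214 (.leaf 0x2020002) (.node 86215 (.leaf 0x2050002) (.leaf 0x2090002)))) (.node 86219 (.node 86217 (.leaf 0x9000002) (.node 86218 (.leaf 0x30106010500020802040105000c) (.leaf 0x90201070009030007))) (.node 86220 (.leaf 0x9020106060802040105000a) (.node 86221 (.leaf 0x103010003) (.leaf 0x70108020401050007))))) (.node 86228 (.node 86225 (.node 86223 (.leaf 0x6020401050005) (.node 86224 (.leaf 0x103080003) (.leaf 0x7020000030000000703040103000d))) (.node 86226 (.leaf 0x102080003) (.node 86227 (.leaf 0x2040105020202010202000701000d) (.leaf 0x604010400050202000701000b)))) (.node 86231 (.node 86229 (.leaf 0x602090402000703040103000b) (.node 86230 (.leaf 0x8050703060202000701000a) (.leaf 0x700070206000202000701000b))) (.node 86232 (.leaf 0x104000003) (.node 86233 (.leaf 0x9030002020900000202000701000d) (.leaf 0x2040206020007010008))))))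

def argWS_7638 : Store := (.node 86211 argWS_7636 argWS_7637)

def argWS_7639 : Store := (.node 86188 argWS_7635 argWS_7638)

def argWS_7640 : Store := (.node 86143 argWS_7632 argWS_7639)

def argWS_7641 : Store := (.node 86053 argWS_7625 argWS_7640)

def argWS_7642 : Store := (.node 86245 (.node 86239 (.node 86236 (.node 86235 (.leaf 0x5000000000300000802040105000d) (.leaf 0x107000003)) (.node 86237 (.leaf 0x107030003) (.node 86238 (.leaf 0x70802020007010007) (.leaf 0x60601090806000007)))) (.node 86242 (.node 86240 (.leaf 0x2020000090206020008) (.node 86241 (.leaf 0x700090402000703040103000b) (.leaf 0x6040106010500020202000701000d))) (.node 86243 (.leaf 0x20500020804000007) (.node 86244 (.leaf 0x700000900090802040105000b) (.leaf 0x300070209020006))))) (.node 86250 (.node 86247 (.node 86246 (.leaf 0x204000408010202000701000b) (.leaf 0x109030003)) (.node 86248 (.leaf 0x7000005020604000703040103000d) (.node 86249 (.leaf 0x1030106010500020802040105000d)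 (.leaf 0x20002090106000703040103000c)))) (.node 86253 (.node 86251 (.leaf 0x3010003) (.node 86252 (.leaf 0x105020901090006) (.leaf 0x104020603000703040103000b))) (.node 86254 (.leaf 0x7020009020602000703040103000d) (.node 86255 (.leaf 0x3070002000003010802040105000d) (.leaf 0x2000003))))))

def argWS_7643 : Store := (.node 86267 (.node 86261 (.node 86258 (.node 86257 (.leaf 0x109030601050002000703040103000e) (.leaf 0x404090000090202000701000b)) (.node 86259 (.leaf 0x10300020106060202000701000c) (.node 86260 (.leaf 0x5030003) (.leaf 0x50000070209020007)))) (.node 86264 (.node 86262 (.leaf 0x2050206030500040008) (.node 86263 (.leaf 0x90300020901060007) (.leaf 0x4000003))) (.node 86265 (.leaf 0x107090805000703040103000b) (.node 86266 (.leaf 0x4020003) (.leaf 0x7030003))))) (.node 86273 (.node 86270 (.node 86268 (.leaf 0x702070209020802040105000b) (.node 86269 (.leaf 0x6030003) (.leaf 0x8000003))) (.node 86271 (.leaf 0x60908050005) (.node 86272 (.leaf 0x9000003)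 (.leaf 0x60000020106060007)))) (.node 86276 (.node 86274 (.leaf 0x1030106030500040202000701000d) (.node 86275 (.leaf 0x103010207030802040105000b) (.leaf 0x300000003))) (.node 86277 (.leaf 0x7010207030005) (.node 86278 (.leaf 0x902060402020007010009) (.leaf 0x2020202010005))))))

def argWS_7644 : Store := (.node 86256 argWS_7642 argWS_7643)

def argWS_7645 : Store := (.node 86290 (.node 86284 (.node 86281 (.node 86280 (.leaf 0x1040900090802040105000a) (.leaf 0x200070306000703040103000b)) (.node 86282 (.leaf 0x501060608020401050009) (.node 86283 (.leaf 0x304030003) (.leaf 0x2000006010500020802040105000d)))) (.node 86287 (.node 86285 (.leaf 0x6000901090802040105000b) (.node 86286 (.leaf 0x107000401050006) (.leaf 0x402020207030401030009))) (.node 86288 (.leaf 0x10502070206000802040105000c) (.node 86289 (.leaf 0x201090003) (.leaf 0x200080003))))) (.node 86295 (.node 86292 (.node 86291 (.leaf 0x202000003) (.leaf 0x101050202020703040103000b)) (.node 86293 (.leaf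 0x7000000000300000008) (.node 86294 (.leaf 0x206030003) (.leaf 0x209010003)))) (.node 86298 (.node 86296 (.leaf 0x3050206030802040105000a) (.node 86297 (.leaf 0x8020908050202000701000a) (.leaf 0x502020804000006))) (.node 86299 (.leaf 0x6050102000003010202000701000d) (.node 86300 (.leaf 0x8000901090202000701000a) (.leaf 0x7030502020900000008))))))

def argWS_7646 : Store := (.node 86312 (.node 86306 (.node 86303 (.node 86302 (.leaf 0x903000003) (.leaf 0x3010005)) (.node 86304 (.leaf 0x500000000030000000703040103000e) (.node 86305 (.leaf 0x702090000090202000701000b) (.leaf 0x90102020900000202000701000c)))) (.node 86309 (.node 86307 (.leaf 0x3030900090005) (.node 86308 (.leaf 0x5020901090202000701000a) (.leaf 0x70500030306040202000701000c))) (.node 86310 (.leaf 0x3040101090805000703040103000d) (.node 86311 (.leaf 0x4000202020703040103000a) (.leaf 0x907020901060802040105000b))))) (.node 86318 (.node 86315 (.node 86313 (.leaf 0x602010904020006) (.node 86314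 (.leaf 0x40009000009000703040103000d) (.leaf 0x704010904020802040105000b))) (.node 86316 (.leaf 0x10303080004) (.node 86317 (.leaf 0x20202020901060802040105000c) (.leaf 0x3040301090805000703040103000d)))) (.node 86321 (.node 86319 (.leaf 0x4040603050004000703040103000d) (.node 86320 (.leaf 0x20106030500040802040105000c) (.leaf 0x3070002020900000202000701000d))) (.node 86322 (.leaf 0x307000206030802040105000b) (.node 86323 (.leaf 0x4030009020602000703040103000d) (.leaf 0x908050007030401030009))))))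

def argWS_7647 : Store := (.node 86301 argWS_7645 argWS_7646)

def argWS_7648 : Store := (.node 86279 argWS_7644 argWS_7647)

def argWS_7649 : Store := (.node 86335 (.node 86329 (.node 86326 (.node 86325 (.leaf 0x20403070209020202000701000c) (.leaf 0x10206030004)) (.node 86327 (.leaf 0x605020804000202000701000b) (.node 86328 (.leaf 0x503040005000703040103000c) (.leaf 0x8050000000300000802040105000d)))) (.node 86332 (.node 86330 (.leaf 0x906090000090202000701000b) (.node 86331 (.leaf 0x3040207020007010008) (.leaf 0x401090009000703040103000b))) (.node 86333 (.leaf 0x102010908050802040105000b) (.node 86334 (.leaf 0x20601010908050202000701000c) (.leaf 0x5020000020804000202000701000d))))) (.node 86340 (.node 86337 (.node 86336 (.leaf 0x800070209020006) (.leaf 0x406030500040006)) (.node 86338 (.leaf 0x606010400050802040105000b) (.node 86339 (.leaf 0x90009000009000703040103000c) (.leaf 0x9000601050002000703040103000e)))) (.node 86343 (.node 86341 (.leaf 0x10901090004)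 (.node 86342 (.leaf 0x701070009020007010009) (.leaf 0x903000901090006))) (.node 86344 (.leaf 0x20902020900000202000701000c) (.node 86345 (.leaf 0x502010401050006) (.leaf 0x60102010904020802040105000c))))))

def argWS_7650 : Store := (.node 86357 (.node 86351 (.node 86348 (.node 86347 (.leaf 0x10101090805000703040103000c) (.leaf 0x6050105020604000703040103000d)) (.node 86349 (.leaf 0x1030009000009000703040103000d) (.node 86350 (.leaf 0x30002020900000802040105000c) (.leaf 0x4000400030306040008)))) (.node 86354 (.node 86352 (.leaf 0x80000090206020008) (.node 86353 (.leaf 0x70901090802040105000a) (.leaf 0x40004060207020703040103000c))) (.node 86355 (.leaf 0x9070202090000000703040103000d) (.node 86356 (.leaf 0x50300020804000802040105000d) (.leaf 0x80101020106060802040105000c))))) (.node 86363 (.node 86360 (.node 86358 (.leaf 0x204010900090006) (.node 86359 (.leaf 0x200000300000006) (.leaf 0x400030009020602000703040103000e))) (.node 86361 (.leaf 0x10001) (.node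 86362 (.leaf 0x1) (.leaf 0x30001)))) (.node 86366 (.node 86364 (.leaf 0x20001) (.node 86365 (.leaf 0x1030002) (.leaf 0x1050002))) (.node 86367 (.leaf 0x1070002) (.node 86368 (.leaf 0x1080002) (.leaf 0x1090002))))))

def argWS_7651 : Store := (.node 86346 argWS_7649 argWS_7650)

def argWS_7652 : Store := (.node 86380 (.node 86374 (.node 86371 (.node 86370 (.leaf 0x2) (.leaf 0x30002)) (.node 86372 (.leaf 0x20002) (.node 86373 (.leaf 0x50002) (.leaf 0x80002)))) (.node 86377 (.node 86375 (.leaf 0x90002) (.node 86376 (.leaf 0x3010002) (.leaf 0x3000002))) (.node 86378 (.leaf 0x3030002) (.node 86379 (.leaf 0x3050002) (.leaf 0x3070002))))) (.node 86385 (.node 86382 (.node 86381 (.leaf 0x702020901060202000701000b) (.leaf 0x2010002)) (.node 86383 (.leaf 0x2000002) (.node 86384 (.leaf 0x2020002) (.leaf 0x2050002)))) (.node 86388 (.node 86386 (.leaf 0x2070002) (.node 86387 (.leaf 0x9010002) (.leaf 0x9000002))) (.node 86389 (.leaf 0x30106010500020802040105000c) (.node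 86390 (.leaf 0x103010003) (.leaf 0x6020401050005))))))

def argWS_7653 : Store := (.node 86402 (.node 86396 (.node 86393 (.node 86392 (.leaf 0x103080003) (.leaf 0x7020000030000000703040103000d)) (.node 86394 (.leaf 0x102020003) (.node 86395 (.leaf 0x102080003) (.leaf 0x2040105020202010202000701000d)))) (.node 86399 (.node 86397 (.leaf 0x604010400050202000701000b) (.node 86398 (.leaf 0x5000206020007010008) (.leaf 0x105020003))) (.node 86400 (.leaf 0x8050703060202000701000a) (.node 86401 (.leaf 0x700070206000202000701000b) (.leaf 0x9030002020900000202000701000d))))) (.node 86408 (.node 86405 (.node 86403 (.leaf 0x2040206020007010008) (.node 86404 (.leaf 0x5000000000300000802040105000d) (.leaf 0x60601090806000007))) (.node 86406 (.leaf 0x700090402000703040103000b) (.node 86407 (.leaf 0x402020900000202000701000c) (.leaf 0x6040106010500020202000701000d)))) (.node 86411 (.node 86409 (.leaf 0x20500020804000007) (.node 86410 (.leaf 0x700000900090802040105000b)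 (.leaf 0x204000408010202000701000b))) (.node 86412 (.leaf 0x109030003) (.node 86413 (.leaf 0x7000005020604000703040103000d) (.leaf 0x1030106010500020802040105000d))))))

def argWS_7654 : Store := (.node 86391 argWS_7652 argWS_7653)

def argWS_7655 : Store := (.node 86369 argWS_7651 argWS_7654)

def argWS_7656 : Store := (.node 86324 argWS_7648 argWS_7655)

def argWS_7657 : Store := (.node 86425 (.node 86419 (.node 86416 (.node 86415 (.leaf 0x20002090106000703040103000c) (.leaf 0x90003)) (.node 86417 (.leaf 0x105020901090006) (.node 86418 (.leaf 0x3080003) (.leaf 0x3070002000003010802040105000d)))) (.node 86422 (.node 86420 (.leaf 0x2000003) (.node 86421 (.leaf 0x109030601050002000703040103000e) (.leaf 0x404090000090202000701000b))) (.node 86423 (.leaf 0x10300020106060202000701000c) (.node 86424 (.leaf 0x80200020000030703040103000c) (.leaf 0x5030003))))) (.node 86430 (.node 86427 (.node 86426 (.leaf 0x50000070209020007) (.leaf 0x2050206030500040008)) (.node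 86428 (.leaf 0x4000003) (.node 86429 (.leaf 0x107090805000703040103000b) (.leaf 0x4020003)))) (.node 86433 (.node 86431 (.leaf 0x7030003) (.node 86432 (.leaf 0x702070209020802040105000b) (.leaf 0x40202010004))) (.node 86434 (.leaf 0x307050206040802040105000b) (.node 86435 (.leaf 0x6000003) (.leaf 0x6030003))))))

def argWS_7658 : Store := (.node 86447 (.node 86441 (.node 86438 (.node 86437 (.leaf 0x60908050005) (.leaf 0x20401010703060802040105000c)) (.node 86439 (.leaf 0x9000003) (.node 86440 (.leaf 0x60000020106060007) (.leaf 0x1030106030500040202000701000d)))) (.node 86444 (.node 86442 (.leaf 0x103010207030802040105000b) (.node 86443 (.leaf 0x300000003) (.leaf 0x7010207030005))) (.node 86445 (.leaf 0x902060402020007010009) (.node 86446 (.leaf 0x1040900090802040105000a) (.leaf 0x4020500090206020802040105000d))))) (.node 86453 (.node 86450 (.node 86448 (.leaf 0x200070306000703040103000b) (.node 86449 (.leaf 0x602010301010200000703040103000e) (.leaf 0x501060608020401050009)))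 (.node 86451 (.leaf 0x2000006010500020802040105000d) (.node 86452 (.leaf 0x6000901090802040105000b) (.leaf 0x1020206020702010802040105000d)))) (.node 86456 (.node 86454 (.leaf 0x107000401050006) (.node 86455 (.leaf 0x402020207030401030009) (.leaf 0x201090003))) (.node 86457 (.leaf 0x20908050005) (.node 86458 (.leaf 0x200080003) (.leaf 0x200090003))))))

def argWS_7659 : Store := (.node 86436 argWS_7657 argWS_7658)

def argWS_7660 : Store := (.node 86470 (.node 86464 (.node 86461 (.node 86460 (.leaf 0x202000003) (.leaf 0x906020000030703040103000b)) (.node 86462 (.leaf 0x101050202020703040103000b) (.node 86463 (.leaf 0x500090000090006) (.leaf 0x207030003)))) (.node 86467 (.node 86465 (.leaf 0x209010003) (.node 86466 (.leaf 0x601070206000202000701000b) (.leaf 0x8020908050202000701000a))) (.node 86468 (.leaf 0x502020804000006) (.node 86469 (.leaf 0x6050102000003010202000701000d) (.leaf 0x8000901090202000701000a))))) (.node 86475 (.node 86472 (.node 86471 (.leaf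 0x7030502020900000008) (.leaf 0x6080102020007010008)) (.node 86473 (.leaf 0x903000003) (.node 86474 (.leaf 0x3010005) (.leaf 0x702090000090202000701000b)))) (.node 86478 (.node 86476 (.leaf 0x604000900090802040105000b) (.node 86477 (.leaf 0x3030900090005) (.leaf 0x5020901090202000701000a))) (.node 86479 (.leaf 0x3040101090805000703040103000d) (.node 86480 (.leaf 0x402020900000202000701000b) (.leaf 0x10300070209020007))))))

def argWS_7661 : Store := (.node 86492 (.node 86486 (.node 86483 (.node 86482 (.leaf 0x907020901060802040105000b) (.leaf 0x40009000009000703040103000d)) (.node 86484 (.leaf 0x704010904020802040105000b) (.node 86485 (.leaf 0x10303080004) (.leaf 0x20202020901060802040105000c)))) (.node 86489 (.node 86487 (.leaf 0x3040301090805000703040103000d) (.node 86488 (.leaf 0x307090806000006) (.leaf 0x4040603050004000703040103000d))) (.node 86490 (.leaf 0x307000206030802040105000b) (.node 86491 (.leaf 0x6000901090802040105000a) (.leaf 0x4030009020602000703040103000d)))))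 (.node 86498 (.node 86495 (.node 86493 (.leaf 0x908050007030401030009) (.node 86494 (.leaf 0x20901070209020007) (.leaf 0x20200020804000007))) (.node 86496 (.leaf 0x20403070209020202000701000c) (.node 86497 (.leaf 0x90306020702010802040105000c) (.leaf 0x10206030004)))) (.node 86501 (.node 86499 (.leaf 0x8020703060202000701000a) (.node 86500 (.leaf 0x503040005000703040103000c) (.leaf 0x8050000000300000802040105000d))) (.node 86502 (.leaf 0x906090000090202000701000b) (.node 86503 (.leaf 0x3040207020007010008) (.leaf 0x401090009000703040103000b))))))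

def argWS_7662 : Store := (.node 86481 argWS_7660 argWS_7661)

def argWS_7663 : Store := (.node 86459 argWS_7659 argWS_7662)

def argWS_7664 : Store := (.node 86515 (.node 86509 (.node 86506 (.node 86505 (.leaf 0x102010908050802040105000b) (.leaf 0x20601010908050202000701000c)) (.node 86507 (.leaf 0x10401050004) (.node 86508 (.leaf 0x5020000020804000202000701000d) (.leaf 0x606010400050802040105000b)))) (.node 86512 (.node 86510 (.leaf 0x2090301070306000703040103000d) (.node 86511 (.leaf 0x30401090806000802040105000c) (.leaf 0x409040202020007010009))) (.node 86513 (.leaf 0x4020505020202010802040105000d) (.node 86514 (.leaf 0x3090009000703040103000b) (.leaf 0x60106030500040802040105000c))))) (.node 86520 (.node 86517 (.node 86516 (.leaf 0x5090000090802040105000a) (.leaf 0x9000601050002000703040103000e)) (.node 86518 (.leaf 0x10901090004) (.node 86519 (.leaf 0x701070009020007010009) (.leaf 0x903000901090006)))) (.node 86523 (.node 86521 (.leaf 0x20902020900000202000701000c)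 (.node 86522 (.leaf 0x1030009000009000703040103000d) (.leaf 0x30002020900000802040105000c))) (.node 86524 (.leaf 0x4000400030306040008) (.node 86525 (.leaf 0x80000090206020008) (.leaf 0x70901090802040105000a))))))

def argWS_7665 : Store := (.node 86537 (.node 86531 (.node 86528 (.node 86527 (.leaf 0x40004060207020703040103000c) (.leaf 0x8000004080703040103000b)) (.node 86529 (.leaf 0x9070202090000000703040103000d) (.node 86530 (.leaf 0x50300020804000802040105000d) (.leaf 0x204010900090006)))) (.node 86534 (.node 86532 (.leaf 0x200000300000006) (.node 86533 (.leaf 0x60301010200000703040103000d) (.leaf 0x1))) (.node 86535 (.leaf 0x20001) (.node 86536 (.leaf 0x90001) (.leaf 0x1010002))))) (.node 86543 (.node 86540 (.node 86538 (.leaf 0x1020002) (.node 86539 (.leaf 0x1070002) (.leaf 0x1080002))) (.node 86541 (.leaf 0x1090002) (.node 86542 (.leaf 0x2) (.leaf 0x30002)))) (.node 86546 (.node 86544 (.leaf 0x20002) (.node 86545 (.leaf 0x70002) (.leaf 0x80002)))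 (.node 86547 (.leaf 0x3010002) (.node 86548 (.leaf 0x3030002) (.leaf 0x3050002))))))

def argWS_7666 : Store := (.node 86526 argWS_7664 argWS_7665)

def argWS_7667 : Store := (.node 86560 (.node 86554 (.node 86551 (.node 86550 (.leaf 0x702020901060202000701000b) (.leaf 0x2010002)) (.node 86552 (.leaf 0x2020002) (.node 86553 (.leaf 0x2050002) (.leaf 0x2070002)))) (.node 86557 (.node 86555 (.leaf 0x9010002) (.node 86556 (.leaf 0x30106010500020802040105000c) (.leaf 0x20002090106000703040103000d))) (.node 86558 (.leaf 0x9020106060802040105000a) (.node 86559 (.leaf 0x70108020401050007) (.leaf 0x6020401050005))))) (.node 86566 (.node 86563 (.node 86561 (.leaf 0x103080003) (.node 86562 (.leaf 0x102020003) (.leaf 0x5000206020007010008))) (.node 86564 (.leaf 0x602090402000703040103000b) (.node 86565 (.leaf 0x105020003) (.leaf 0x8050703060202000701000a)))) (.node 86569 (.node 86567 (.leaf 0x104000003) (.node 86568 (.leaf 0x9030002020900000202000701000d) (.leaf 0x2040206020007010008)))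 (.node 86570 (.leaf 0x5000000000300000802040105000d) (.node 86571 (.leaf 0x107000003) (.leaf 0x107030003))))))

def argWS_7668 : Store := (.node 86583 (.node 86577 (.node 86574 (.node 86573 (.leaf 0x70802020007010007) (.leaf 0x60601090806000007)) (.node 86575 (.leaf 0x2020000090206020008) (.node 86576 (.leaf 0x700090402000703040103000b) (.leaf 0x402020900000202000701000c)))) (.node 86580 (.node 86578 (.leaf 0x20500020804000007) (.node 86579 (.leaf 0x700000900090802040105000b) (.leaf 0x300070209020006))) (.node 86581 (.leaf 0x204000408010202000701000b) (.node 86582 (.leaf 0x109030003) (.leaf 0x7000005020604000703040103000d))))) (.node 86589 (.node 86586 (.node 86584 (.leaf 0x1030106010500020802040105000d) (.node 86585 (.leaf 0x20002090106000703040103000c) (.leaf 0x3010003))) (.node 86587 (.leaf 0x105020901090006) (.node 86588 (.leaf 0x104020603000703040103000b) (.leaf 0x3080003)))) (.node 86592 (.node 86590 (.leaf 0x7020009020602000703040103000d) (.node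 86591 (.leaf 0x3070002000003010802040105000d) (.leaf 0x2000003))) (.node 86593 (.leaf 0x109030601050002000703040103000e) (.node 86594 (.leaf 0x10300020106060202000701000c) (.leaf 0x80200020000030703040103000c))))))

def argWS_7669 : Store := (.node 86572 argWS_7667 argWS_7668)

def argWS_7670 : Store := (.node 86549 argWS_7666 argWS_7669)

def argWS_7671 : Store := (.node 86504 argWS_7663 argWS_7670)

def argWS_7672 : Store := (.node 86414 argWS_7656 argWS_7671)

def argWS_7673 : Store := (.node 86234 argWS_7641 argWS_7672)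

def argWS_7674 : Store := (.node 85873 argWS_7610 argWS_7673)

def argWS_7675 : Store := (.node 85151 argWS_7547 argWS_7674)

def argWS_7676 : Store := (.node 83708 argWS_7420 argWS_7675)

def argWS_7677 : Store := (.node 86606 (.node 86600 (.node 86597 (.node 86596 (.leaf 0x5030003) (.leaf 0x2050206030500040008)) (.node 86598 (.leaf 0x90300020901060007) (.node 86599 (.leaf 0x4000003) (.leaf 0x107090805000703040103000b)))) (.node 86603 (.node 86601 (.leaf 0x4020003) (.node 86602 (.leaf 0x4010206020007010008) (.leaf 0x7030003))) (.node 86604 (.leaf 0x702070209020802040105000b) (.node 86605 (.leaf 0x40202010004) (.leaf 0x6000003))))) (.node 86611 (.node 86608 (.node 86607 (.leaf 0x6030003) (.leaf 0x8020007020902000703040103000d)) (.node 86609 (.leaf 0x60908050005) (.node 86610 (.leaf 0x60000020106060007) (.leaf 0x1030106030500040202000701000d)))) (.node 86614 (.node 86612 (.leaf 0x103010207030802040105000b) (.node 86613 (.leaf 0x300000003) (.leaf 0x7010207030005)))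 (.node 86615 (.leaf 0x902060402020007010009) (.node 86616 (.leaf 0x4020500090206020802040105000d) (.leaf 0x200070306000703040103000b))))))

def argWS_7678 : Store := (.node 86628 (.node 86622 (.node 86619 (.node 86618 (.leaf 0x602010301010200000703040103000e) (.leaf 0x501060608020401050009)) (.node 86620 (.leaf 0x304030003) (.node 86621 (.leaf 0x2000006010500020802040105000d) (.leaf 0x6000901090802040105000b)))) (.node 86625 (.node 86623 (.leaf 0x1020206020702010802040105000d) (.node 86624 (.leaf 0x402020207030401030009) (.leaf 0x10502070206000802040105000c))) (.node 86626 (.leaf 0x201090003) (.node 86627 (.leaf 0x200080003) (.leaf 0x202000003))))) (.node 86634 (.node 86631 (.node 86629 (.leaf 0x500090000090006) (.node 86630 (.leaf 0x7000000000300000008) (.leaf 0x204030003))) (.node 86632 (.leaf 0x1030002020900000802040105000d) (.node 86633 (.leaf 0x207030003) (.leaf 0x206030003)))) (.node 86637 (.node 86635 (.leaf 0x209010003) (.node 86636 (.leaf 0x601070206000202000701000b)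 (.leaf 0x3050206030802040105000a))) (.node 86638 (.leaf 0x8020908050202000701000a) (.node 86639 (.leaf 0x502020804000006) (.leaf 0x6050102000003010202000701000d))))))

def argWS_7679 : Store := (.node 86617 argWS_7677 argWS_7678)

def argWS_7680 : Store := (.node 86651 (.node 86645 (.node 86642 (.node 86641 (.leaf 0x8000901090202000701000a) (.leaf 0x7030502020900000008)) (.node 86643 (.leaf 0x6080102020007010008) (.node 86644 (.leaf 0x903000003) (.leaf 0x3010005)))) (.node 86648 (.node 86646 (.leaf 0x500000000030000000703040103000e) (.node 86647 (.leaf 0x702090000090202000701000b) (.leaf 0x604000900090802040105000b))) (.node 86649 (.leaf 0x90102020900000202000701000c) (.node 86650 (.leaf 0x3030900090005) (.leaf 0x70500030306040202000701000c))))) (.node 86656 (.node 86653 (.node 86652 (.leaf 0x3040101090805000703040103000d) (.leaf 0x10300070209020007)) (.node 86654 (.leaf 0x4000202020703040103000a) (.node 86655 (.leaf 0x907020901060802040105000b) (.leaf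 0x602010904020006)))) (.node 86659 (.node 86657 (.leaf 0x604000901090006) (.node 86658 (.leaf 0x704010904020802040105000b) (.leaf 0x10303080004))) (.node 86660 (.leaf 0x20202020901060802040105000c) (.node 86661 (.leaf 0x20106030500040802040105000c) (.leaf 0x3070002020900000202000701000d))))))

def argWS_7681 : Store := (.node 86673 (.node 86667 (.node 86664 (.node 86663 (.leaf 0x6000901090802040105000a) (.leaf 0x4030009020602000703040103000d)) (.node 86665 (.leaf 0x908050007030401030009) (.node 86666 (.leaf 0x20200020804000007) (.leaf 0x20403070209020202000701000c)))) (.node 86670 (.node 86668 (.leaf 0x20200000408010007) (.node 86669 (.leaf 0x605020804000202000701000b) (.leaf 0x503040005000703040103000c))) (.node 86671 (.leaf 0x8050000000300000802040105000d) (.node 86672 (.leaf 0x906090000090202000701000b) (.leaf 0x3040207020007010008))))) (.node 86679 (.node 86676 (.node 86674 (.leaf 0x401090009000703040103000b) (.node 86675 (.leaf 0x102010908050802040105000b)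 (.leaf 0x20601010908050202000701000c))) (.node 86677 (.leaf 0x10401050004) (.node 86678 (.leaf 0x5020000020804000202000701000d) (.leaf 0x800070209020006)))) (.node 86682 (.node 86680 (.leaf 0x606010400050802040105000b) (.node 86681 (.leaf 0x2090301070306000703040103000d) (.leaf 0x30401090806000802040105000c))) (.node 86683 (.leaf 0x90009000009000703040103000c) (.node 86684 (.leaf 0x4020505020202010802040105000d) (.leaf 0x3090009000703040103000b))))))

def argWS_7682 : Store := (.node 86662 argWS_7680 argWS_7681)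

def argWS_7683 : Store := (.node 86640 argWS_7679 argWS_7682)

def argWS_7684 : Store := (.node 86696 (.node 86690 (.node 86687 (.node 86686 (.leaf 0x60106030500040802040105000c) (.leaf 0x9000601050002000703040103000e)) (.node 86688 (.leaf 0x701070009020007010009) (.node 86689 (.leaf 0x903000901090006) (.leaf 0x20902020900000202000701000c)))) (.node 86693 (.node 86691 (.leaf 0x502010401050006) (.node 86692 (.leaf 0x30106030500040202000701000c) (.leaf 0x60102010904020802040105000c))) (.node 86694 (.leaf 0x10101090805000703040103000c) (.node 86695 (.leaf 0x1030009000009000703040103000d) (.leaf 0x30002020900000802040105000c))))) (.node 86701 (.node 86698 (.node 86697 (.leaf 0x70901090802040105000a) (.leaf 0x40004060207020703040103000c)) (.node 86699 (.leaf 0x50300020804000802040105000d) (.node 86700 (.leaf 0x80101020106060802040105000c) (.leaf 0x400030009020602000703040103000e)))) (.node 86704 (.node 86702 (.leaf 0x60301010200000703040103000d) (.node 86703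 (.leaf 0x20001) (.leaf 0x90001))) (.node 86705 (.leaf 0x1030002) (.node 86706 (.leaf 0x1020002) (.leaf 0x1050002))))))

def argWS_7685 : Store := (.node 86718 (.node 86712 (.node 86709 (.node 86708 (.leaf 0x1070002) (.leaf 0x1080002)) (.node 86710 (.leaf 0x1090002) (.node 86711 (.leaf 0x2) (.leaf 0x30002)))) (.node 86715 (.node 86713 (.leaf 0x20002) (.node 86714 (.leaf 0x50002) (.leaf 0x70002))) (.node 86716 (.leaf 0x80002) (.node 86717 (.leaf 0x90002) (.leaf 0x3010002))))) (.node 86724 (.node 86721 (.node 86719 (.leaf 0x3000002) (.node 86720 (.leaf 0x3030002) (.leaf 0x3050002))) (.node 86722 (.leaf 0x3070002) (.node 86723 (.leaf 0x702020901060202000701000b) (.leaf 0x2010002)))) (.node 86727 (.node 86725 (.leaf 0x2000002) (.node 86726 (.leaf 0x2020002) (.leaf 0x2050002))) (.node 86728 (.leaf 0x2070002) (.node 86729 (.leaf 0x2090002) (.leaf 0x9010002))))))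

def argWS_7686 : Store := (.node 86707 argWS_7684 argWS_7685)

def argWS_7687 : Store := (.node 86741 (.node 86735 (.node 86732 (.node 86731 (.leaf 0x9000002) (.leaf 0x30106010500020802040105000c)) (.node 86733 (.leaf 0x90201070009030007) (.node 86734 (.leaf 0x9020106060802040105000a) (.leaf 0x103010003)))) (.node 86738 (.node 86736 (.leaf 0x6020401050005) (.node 86737 (.leaf 0x600030000000703040103000b) (.leaf 0x102020003))) (.node 86739 (.leaf 0x2040105020202010202000701000d) (.node 86740 (.leaf 0x604010400050202000701000b) (.leaf 0x602090402000703040103000b))))) (.node 86746 (.node 86743 (.node 86742 (.leaf 0x105020003) (.leaf 0x700070206000202000701000b)) (.node 86744 (.leaf 0x2040206020007010008) (.node 86745 (.leaf 0x107000003) (.leaf 0x107030003)))) (.node 86749 (.node 86747 (.leaf 0x70802020007010007) (.node 86748 (.leaf 0x60601090806000007) (.leaf 0x2020000090206020008))) (.node 86750 (.leaf 0x700090402000703040103000b) (.node 86751 (.leaf 0x402020900000202000701000c)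 (.leaf 0x20500020804000007))))))

def argWS_7688 : Store := (.node 86763 (.node 86757 (.node 86754 (.node 86753 (.leaf 0x700000900090802040105000b) (.leaf 0x300070209020006)) (.node 86755 (.leaf 0x204000408010202000701000b) (.node 86756 (.leaf 0x109030003) (.leaf 0x1030106010500020802040105000d)))) (.node 86760 (.node 86758 (.leaf 0x20002090106000703040103000c) (.node 86759 (.leaf 0x90003) (.leaf 0x3010003))) (.node 86761 (.leaf 0x105020901090006) (.node 86762 (.leaf 0x104020603000703040103000b) (.leaf 0x3080003))))) (.node 86769 (.node 86766 (.node 86764 (.leaf 0x7020009020602000703040103000d) (.node 86765 (.leaf 0x2000003) (.leaf 0x109030601050002000703040103000e))) (.node 86767 (.leaf 0x404090000090202000701000b) (.node 86768 (.leaf 0x10300020106060202000701000c) (.leaf 0x50000070209020007)))) (.node 86772 (.node 86770 (.leaf 0x2050206030500040008) (.node 86771 (.leaf 0x90300020901060007) (.leaf 0x107090805000703040103000b))) (.node 86773 (.leaf 0x4020003)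 (.node 86774 (.leaf 0x4010206020007010008) (.leaf 0x40202010004))))))

def argWS_7689 : Store := (.node 86752 argWS_7687 argWS_7688)

def argWS_7690 : Store := (.node 86730 argWS_7686 argWS_7689)

def argWS_7691 : Store := (.node 86685 argWS_7683 argWS_7690)

def argWS_7692 : Store := (.node 86786 (.node 86780 (.node 86777 (.node 86776 (.leaf 0x307050206040802040105000b) (.leaf 0x6000003)) (.node 86778 (.leaf 0x6030003) (.node 86779 (.leaf 0x8020007020902000703040103000d) (.leaf 0x8000003)))) (.node 86783 (.node 86781 (.leaf 0x20401010703060802040105000c) (.node 86782 (.leaf 0x9000003) (.leaf 0x60000020106060007))) (.node 86784 (.leaf 0x103010207030802040105000b) (.node 86785 (.leaf 0x902060402020007010009) (.leaf 0x2020202010005))))) (.node 86791 (.node 86788 (.node 86787 (.leaf 0x4020500090206020802040105000d) (.leaf 0x200070306000703040103000b)) (.node 86789 (.leaf 0x602010301010200000703040103000e) (.node 86790 (.leaf 0x501060608020401050009) (.leaf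 0x304030003)))) (.node 86794 (.node 86792 (.leaf 0x6000901090802040105000b) (.node 86793 (.leaf 0x107000401050006) (.leaf 0x402020207030401030009))) (.node 86795 (.leaf 0x10502070206000802040105000c) (.node 86796 (.leaf 0x20908050005) (.leaf 0x200080003))))))

def argWS_7693 : Store := (.node 86808 (.node 86802 (.node 86799 (.node 86798 (.leaf 0x202000003) (.leaf 0x906020000030703040103000b)) (.node 86800 (.leaf 0x101050202020703040103000b) (.node 86801 (.leaf 0x500090000090006) (.leaf 0x7000000000300000008)))) (.node 86805 (.node 86803 (.leaf 0x1030002020900000802040105000d) (.node 86804 (.leaf 0x601070206000202000701000b) (.leaf 0x502020804000006))) (.node 86806 (.leaf 0x6050102000003010202000701000d) (.node 86807 (.leaf 0x8000901090202000701000a) (.leaf 0x7030502020900000008))))) (.node 86814 (.node 86811 (.node 86809 (.leaf 0x6080102020007010008) (.node 86810 (.leaf 0x500000000030000000703040103000e) (.leaf 0x702090000090202000701000b))) (.node 86812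 (.leaf 0x90102020900000202000701000c) (.node 86813 (.leaf 0x3030900090005) (.leaf 0x3040101090805000703040103000d)))) (.node 86817 (.node 86815 (.leaf 0x402020900000202000701000b) (.node 86816 (.leaf 0x10300070209020007) (.leaf 0x4000202020703040103000a))) (.node 86818 (.leaf 0x907020901060802040105000b) (.node 86819 (.leaf 0x602010904020006) (.leaf 0x40009000009000703040103000d))))))

def argWS_7694 : Store := (.node 86797 argWS_7692 argWS_7693)

def argWS_7695 : Store := (.node 86831 (.node 86825 (.node 86822 (.node 86821 (.leaf 0x704010904020802040105000b) (.leaf 0x10303080004)) (.node 86823 (.leaf 0x20202020901060802040105000c) (.node 86824 (.leaf 0x307090806000006) (.leaf 0x4040603050004000703040103000d)))) (.node 86828 (.node 86826 (.leaf 0x6000901090802040105000a) (.node 86827 (.leaf 0x4030009020602000703040103000d) (.leaf 0x908050007030401030009))) (.node 86829 (.leaf 0x20200020804000007) (.node 86830 (.leaf 0x20403070209020202000701000c) (.leaf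 0x20200000408010007))))) (.node 86836 (.node 86833 (.node 86832 (.leaf 0x90306020702010802040105000c) (.leaf 0x605020804000202000701000b)) (.node 86834 (.leaf 0x503040005000703040103000c) (.node 86835 (.leaf 0x8050000000300000802040105000d) (.leaf 0x906090000090202000701000b)))) (.node 86839 (.node 86837 (.leaf 0x3040207020007010008) (.node 86838 (.leaf 0x102010908050802040105000b) (.leaf 0x20601010908050202000701000c))) (.node 86840 (.leaf 0x10401050004) (.node 86841 (.leaf 0x5020000020804000202000701000d) (.leaf 0x800070209020006))))))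

def argWS_7696 : Store := (.node 86853 (.node 86847 (.node 86844 (.node 86843 (.leaf 0x406030500040006) (.leaf 0x606010400050802040105000b)) (.node 86845 (.leaf 0x2090301070306000703040103000d) (.node 86846 (.leaf 0x3090009000703040103000b) (.leaf 0x60106030500040802040105000c)))) (.node 86850 (.node 86848 (.leaf 0x5090000090802040105000a) (.node 86849 (.leaf 0x10901090004) (.leaf 0x90705020202010007))) (.node 86851 (.leaf 0x903000901090006) (.node 86852 (.leaf 0x20902020900000202000701000c) (.leaf 0x30106030500040202000701000c))))) (.node 86859 (.node 86856 (.node 86854 (.leaf 0x6050105020604000703040103000d) (.node 86855 (.leaf 0x1030009000009000703040103000d) (.leaf 0x30002020900000802040105000c))) (.node 86857 (.leaf 0x4000400030306040008) (.node 86858 (.leaf 0x80000090206020008) (.leaf 0x70901090802040105000a)))) (.node 86862 (.node 86860 (.leaf 0x40004060207020703040103000c) (.node 86861 (.leaf 0x8000004080703040103000b) (.leaf 0x9070202090000000703040103000d)))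 (.node 86863 (.leaf 0x50300020804000802040105000d) (.node 86864 (.leaf 0x204010900090006) (.leaf 0x200000300000006))))))

def argWS_7697 : Store := (.node 86842 argWS_7695 argWS_7696)

def argWS_7698 : Store := (.node 86820 argWS_7694 argWS_7697)

def argWS_7699 : Store := (.node 86876 (.node 86870 (.node 86867 (.node 86866 (.leaf 0x400030009020602000703040103000e) (.leaf 0x60301010200000703040103000d)) (.node 86868 (.leaf 0x10001) (.node 86869 (.leaf 0x1) (.leaf 0x30001)))) (.node 86873 (.node 86871 (.leaf 0x20001) (.node 86872 (.leaf 0x1010002) (.leaf 0x1020002))) (.node 86874 (.leaf 0x1070002) (.node 86875 (.leaf 0x1080002) (.leaf 0x1090002))))) (.node 86881 (.node 86878 (.node 86877 (.leaf 0x2) (.leaf 0x30002)) (.node 86879 (.leaf 0x20002) (.node 86880 (.leaf 0x50002) (.leaf 0x70002)))) (.node 86884 (.node 86882 (.leaf 0x80002) (.node 86883 (.leaf 0x3010002) (.leaf 0x3000002))) (.node 86885 (.leaf 0x2010002) (.node 86886 (.leaf 0x2000002) (.leaf 0x2050002))))))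

def argWS_7700 : Store := (.node 86898 (.node 86892 (.node 86889 (.node 86888 (.leaf 0x2090002) (.leaf 0x9010002)) (.node 86890 (.leaf 0x30106010500020802040105000c) (.node 86891 (.leaf 0x102020003) (.leaf 0x102080003)))) (.node 86895 (.node 86893 (.leaf 0x2040105020202010202000701000d) (.node 86894 (.leaf 0x604010400050202000701000b) (.leaf 0x5000206020007010008))) (.node 86896 (.leaf 0x602090402000703040103000b) (.node 86897 (.leaf 0x105020003) (.leaf 0x9030002020900000202000701000d))))) (.node 86904 (.node 86901 (.node 86899 (.leaf 0x2040206020007010008) (.node 86900 (.leaf 0x5000000000300000802040105000d) (.leaf 0x2020000090206020008))) (.node 86902 (.leaf 0x402020900000202000701000c) (.node 86903 (.leaf 0x6040106010500020202000701000d) (.leaf 0x700000900090802040105000b)))) (.node 86907 (.node 86905 (.leaf 0x109030003) (.node 86906 (.leaf 0x90003) (.leaf 0x105020901090006))) (.node 86908 (.leaf 0x3080003) (.node 86909 (.leaf 0x7020009020602000703040103000d)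 (.leaf 0x2000003))))))

def argWS_7701 : Store := (.node 86887 argWS_7699 argWS_7700)

def argWS_7702 : Store := (.node 86921 (.node 86915 (.node 86912 (.node 86911 (.leaf 0x2020202010005) (.leaf 0x502020804000006)) (.node 86913 (.leaf 0x7030502020900000008) (.node 86914 (.leaf 0x10001) (.leaf 0x30001)))) (.node 86918 (.node 86916 (.leaf 0x90001) (.node 86917 (.leaf 0x1030002) (.leaf 0x1020002))) (.node 86919 (.leaf 0x1050002) (.node 86920 (.leaf 0x1070002) (.leaf 0x1080002))))) (.node 86926 (.node 86923 (.node 86922 (.leaf 0x1090002) (.leaf 0x2)) (.node 86924 (.leaf 0x30002) (.node 86925 (.leaf 0x20002) (.leaf 0x50002)))) (.node 86929 (.node 86927 (.leaf 0x70002) (.node 86928 (.leaf 0x3010002) (.leaf 0x3000002))) (.node 86930 (.leaf 0x3030002) (.node 86931 (.leaf 0x3070002) (.leaf 0x702020901060202000701000b))))))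

def argWS_7703 : Store := (.node 86943 (.node 86937 (.node 86934 (.node 86933 (.leaf 0x2010002) (.leaf 0x2000002)) (.node 86935 (.leaf 0x2020002) (.node 86936 (.leaf 0x2050002) (.leaf 0x2070002)))) (.node 86940 (.node 86938 (.leaf 0x2090002) (.node 86939 (.leaf 0x9010002) (.leaf 0x9000002))) (.node 86941 (.leaf 0x30106010500020802040105000c) (.node 86942 (.leaf 0x20002090106000703040103000d) (.leaf 0x90201070009030007))))) (.node 86949 (.node 86946 (.node 86944 (.leaf 0x9020106060802040105000a) (.node 86945 (.leaf 0x103010003) (.leaf 0x70108020401050007))) (.node 86947 (.leaf 0x6020401050005) (.node 86948 (.leaf 0x600030000000703040103000b) (.leaf 0x103080003)))) (.node 86952 (.node 86950 (.leaf 0x7020000030000000703040103000d) (.node 86951 (.leaf 0x102020003) (.leaf 0x102080003))) (.node 86953 (.leaf 0x2040105020202010202000701000d) (.node 86954 (.leaf 0x604010400050202000701000b) (.leaf 0x5000206020007010008))))))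

def argWS_7704 : Store := (.node 86932 argWS_7702 argWS_7703)

def argWS_7705 : Store := (.node 86910 argWS_7701 argWS_7704)

def argWS_7706 : Store := (.node 86865 argWS_7698 argWS_7705)

def argWS_7707 : Store := (.node 86775 argWS_7691 argWS_7706)

def argWS_7708 : Store := (.node 86966 (.node 86960 (.node 86957 (.node 86956 (.leaf 0x8050703060202000701000a) (.leaf 0x700070206000202000701000b)) (.node 86958 (.leaf 0x104000003) (.node 86959 (.leaf 0x2040206020007010008) (.leaf 0x5000000000300000802040105000d)))) (.node 86963 (.node 86961 (.leaf 0x107000003) (.node 86962 (.leaf 0x107030003) (.leaf 0x70802020007010007))) (.node 86964 (.leaf 0x60601090806000007) (.node 86965 (.leaf 0x2020000090206020008) (.leaf 0x700090402000703040103000b))))) (.node 86971 (.node 86968 (.node 86967 (.leaf 0x402020900000202000701000c) (.leaf 0x20500020804000007)) (.node 86969 (.leaf 0x700000900090802040105000b) (.node 86970 (.leaf 0x204000408010202000701000b) (.leaf 0x109030003))))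 (.node 86974 (.node 86972 (.leaf 0x7000005020604000703040103000d) (.node 86973 (.leaf 0x1030106010500020802040105000d) (.leaf 0x104020603000703040103000b))) (.node 86975 (.leaf 0x3080003) (.node 86976 (.leaf 0x3070002000003010802040105000d) (.leaf 0x2000003))))))

def argWS_7709 : Store := (.node 86988 (.node 86982 (.node 86979 (.node 86978 (.leaf 0x109030601050002000703040103000e) (.leaf 0x404090000090202000701000b)) (.node 86980 (.leaf 0x10300020106060202000701000c) (.node 86981 (.leaf 0x80200020000030703040103000c) (.leaf 0x5030003)))) (.node 86985 (.node 86983 (.leaf 0x50000070209020007) (.node 86984 (.leaf 0x2050206030500040008) (.leaf 0x90300020901060007))) (.node 86986 (.leaf 0x4000003) (.node 86987 (.leaf 0x4020003) (.leaf 0x4010206020007010008))))) (.node 86994 (.node 86991 (.node 86989 (.leaf 0x7030003) (.node 86990 (.leaf 0x702070209020802040105000b) (.leaf 0x40202010004))) (.node 86992 (.leaf 0x307050206040802040105000b) (.node 86993 (.leaf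 0x6000003) (.leaf 0x8020007020902000703040103000d)))) (.node 86997 (.node 86995 (.leaf 0x8000003) (.node 86996 (.leaf 0x20401010703060802040105000c) (.leaf 0x60000020106060007))) (.node 86998 (.leaf 0x1030106030500040202000701000d) (.node 86999 (.leaf 0x103010207030802040105000b) (.leaf 0x300000003))))))

def argWS_7710 : Store := (.node 86977 argWS_7708 argWS_7709)

def argWS_7711 : Store := (.node 87011 (.node 87005 (.node 87002 (.node 87001 (.leaf 0x7010207030005) (.leaf 0x2020202010005)) (.node 87003 (.leaf 0x4020500090206020802040105000d) (.node 87004 (.leaf 0x200070306000703040103000b) (.leaf 0x501060608020401050009)))) (.node 87008 (.node 87006 (.leaf 0x304030003) (.node 87007 (.leaf 0x2000006010500020802040105000d) (.leaf 0x107000401050006))) (.node 87009 (.leaf 0x402020207030401030009) (.node 87010 (.leaf 0x10502070206000802040105000c) (.leaf 0x20908050005))))) (.node 87016 (.node 87013 (.node 87012 (.leaf 0x200080003) (.leaf 0x200090003)) (.node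 87014 (.leaf 0x202000003) (.node 87015 (.leaf 0x906020000030703040103000b) (.leaf 0x101050202020703040103000b)))) (.node 87019 (.node 87017 (.leaf 0x500090000090006) (.node 87018 (.leaf 0x7000000000300000008) (.leaf 0x204030003))) (.node 87020 (.leaf 0x1030002020900000802040105000d) (.node 87021 (.leaf 0x207030003) (.leaf 0x209010003))))))

def argWS_7712 : Store := (.node 87033 (.node 87027 (.node 87024 (.node 87023 (.leaf 0x601070206000202000701000b) (.leaf 0x3050206030802040105000a)) (.node 87025 (.leaf 0x8020908050202000701000a) (.node 87026 (.leaf 0x502020804000006) (.leaf 0x6050102000003010202000701000d)))) (.node 87030 (.node 87028 (.leaf 0x8000901090202000701000a) (.node 87029 (.leaf 0x6080102020007010008) (.leaf 0x903000003))) (.node 87031 (.leaf 0x702090000090202000701000b) (.node 87032 (.leaf 0x604000900090802040105000b) (.leaf 0x90102020900000202000701000c))))) (.node 87039 (.node 87036 (.node 87034 (.leaf 0x5020901090202000701000a) (.node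 87035 (.leaf 0x402020900000202000701000b) (.leaf 0x4000202020703040103000a))) (.node 87037 (.leaf 0x907020901060802040105000b) (.node 87038 (.leaf 0x602010904020006) (.leaf 0x604000901090006)))) (.node 87042 (.node 87040 (.leaf 0x704010904020802040105000b) (.node 87041 (.leaf 0x10303080004) (.leaf 0x20202020901060802040105000c))) (.node 87043 (.leaf 0x307090806000006) (.node 87044 (.leaf 0x4040603050004000703040103000d) (.leaf 0x20106030500040802040105000c))))))

def argWS_7713 : Store := (.node 87022 argWS_7711 argWS_7712)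

def argWS_7714 : Store := (.node 87000 argWS_7710 argWS_7713)

def argWS_7715 : Store := (.node 87056 (.node 87050 (.node 87047 (.node 87046 (.leaf 0x3070002020900000202000701000d) (.leaf 0x307000206030802040105000b)) (.node 87048 (.leaf 0x6000901090802040105000a) (.node 87049 (.leaf 0x4030009020602000703040103000d) (.leaf 0x908050007030401030009)))) (.node 87053 (.node 87051 (.leaf 0x20200020804000007) (.node 87052 (.leaf 0x20403070209020202000701000c) (.leaf 0x20200000408010007))) (.node 87054 (.leaf 0x90306020702010802040105000c) (.node 87055 (.leaf 0x10206030004) (.leaf 0x8050000000300000802040105000d))))) (.node 87061 (.node 87058 (.node 87057 (.leaf 0x906090000090202000701000b) (.leaf 0x3040207020007010008)) (.node 87059 (.leaf 0x401090009000703040103000b) (.node 87060 (.leaf 0x102010908050802040105000b) (.leaf 0x20601010908050202000701000c)))) (.node 87064 (.node 87062 (.leaf 0x10401050004) (.node 87063 (.leaf 0x5020000020804000202000701000d) (.leaf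 0x800070209020006))) (.node 87065 (.leaf 0x406030500040006) (.node 87066 (.leaf 0x606010400050802040105000b) (.leaf 0x2090301070306000703040103000d))))))

def argWS_7716 : Store := (.node 87078 (.node 87072 (.node 87069 (.node 87068 (.leaf 0x30401090806000802040105000c) (.leaf 0x4020505020202010802040105000d)) (.node 87070 (.leaf 0x5090000090802040105000a) (.node 87071 (.leaf 0x9000601050002000703040103000e) (.leaf 0x701070009020007010009)))) (.node 87075 (.node 87073 (.leaf 0x90705020202010007) (.node 87074 (.leaf 0x903000901090006) (.leaf 0x502010401050006))) (.node 87076 (.leaf 0x60102010904020802040105000c) (.node 87077 (.leaf 0x1030009000009000703040103000d) (.leaf 0x30002020900000802040105000c))))) (.node 87084 (.node 87081 (.node 87079 (.leaf 0x80000090206020008) (.node 87080 (.leaf 0x70901090802040105000a) (.leaf 0x40004060207020703040103000c))) (.node 87082 (.leaf 0x8000004080703040103000b) (.node 87083 (.leaf 0x9070202090000000703040103000d)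 (.leaf 0x600070306000703040103000b)))) (.node 87087 (.node 87085 (.leaf 0x50300020804000802040105000d) (.node 87086 (.leaf 0x80101020106060802040105000c) (.leaf 0x202000003010802040105000c))) (.node 87088 (.leaf 0x204010900090006) (.node 87089 (.leaf 0x200000300000006) (.leaf 0x400030009020602000703040103000e))))))

def argWS_7717 : Store := (.node 87067 argWS_7715 argWS_7716)

def argWS_7718 : Store := (.node 87101 (.node 87095 (.node 87092 (.node 87091 (.leaf 0x60301010200000703040103000d) (.leaf 0x10001)) (.node 87093 (.leaf 0x1) (.node 87094 (.leaf 0x20001) (.leaf 0x90001)))) (.node 87098 (.node 87096 (.leaf 0x1010002) (.node 87097 (.leaf 0x1050002) (.leaf 0x1070002))) (.node 87099 (.leaf 0x1080002) (.node 87100 (.leaf 0x30002) (.leaf 0x20002))))) (.node 87106 (.node 87103 (.node 87102 (.leaf 0x80002) (.leaf 0x90002)) (.node 87104 (.leaf 0x3010002) (.node 87105 (.leaf 0x3000002) (.leaf 0x3050002)))) (.node 87109 (.node 87107 (.leaf 0x3070002) (.node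 87108 (.leaf 0x702020901060202000701000b) (.leaf 0x2010002))) (.node 87110 (.leaf 0x2090002) (.node 87111 (.leaf 0x9010002) (.leaf 0x9000002))))))

def argWS_7719 : Store := (.node 87123 (.node 87117 (.node 87114 (.node 87113 (.leaf 0x30106010500020802040105000c) (.leaf 0x20002090106000703040103000d)) (.node 87115 (.leaf 0x90201070009030007) (.node 87116 (.leaf 0x9020106060802040105000a) (.leaf 0x103010003)))) (.node 87120 (.node 87118 (.leaf 0x70108020401050007) (.node 87119 (.leaf 0x6020401050005) (.leaf 0x600030000000703040103000b))) (.node 87121 (.leaf 0x103080003) (.node 87122 (.leaf 0x7020000030000000703040103000d) (.leaf 0x102020003))))) (.node 87129 (.node 87126 (.node 87124 (.leaf 0x102080003) (.node 87125 (.leaf 0x2040105020202010202000701000d) (.leaf 0x604010400050202000701000b))) (.node 87127 (.leaf 0x602090402000703040103000b) (.node 87128 (.leaf 0x105020003) (.leaf 0x8050703060202000701000a)))) (.node 87132 (.node 87130 (.leaf 0x700070206000202000701000b)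 (.node 87131 (.leaf 0x104000003) (.leaf 0x9030002020900000202000701000d))) (.node 87133 (.leaf 0x2040206020007010008) (.node 87134 (.leaf 0x5000000000300000802040105000d) (.leaf 0x107000003))))))

def argWS_7720 : Store := (.node 87112 argWS_7718 argWS_7719)

def argWS_7721 : Store := (.node 87090 argWS_7717 argWS_7720)

def argWS_7722 : Store := (.node 87045 argWS_7714 argWS_7721)

def argWS_7723 : Store := (.node 87146 (.node 87140 (.node 87137 (.node 87136 (.leaf 0x107030003) (.leaf 0x60601090806000007)) (.node 87138 (.leaf 0x700090402000703040103000b) (.node 87139 (.leaf 0x402020900000202000701000c) (.leaf 0x6040106010500020202000701000d)))) (.node 87143 (.node 87141 (.leaf 0x20500020804000007) (.node 87142 (.leaf 0x700000900090802040105000b) (.leaf 0x300070209020006))) (.node 87144 (.leaf 0x204000408010202000701000b) (.node 87145 (.leaf 0x109030003) (.leaf 0x7000005020604000703040103000d))))) (.node 87151 (.node 87148 (.node 87147 (.leaf 0x1030106010500020802040105000d)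 (.leaf 0x104020603000703040103000b)) (.node 87149 (.leaf 0x3080003) (.node 87150 (.leaf 0x7020009020602000703040103000d) (.leaf 0x3070002000003010802040105000d)))) (.node 87154 (.node 87152 (.leaf 0x109030601050002000703040103000e) (.node 87153 (.leaf 0x404090000090202000701000b) (.leaf 0x10300020106060202000701000c))) (.node 87155 (.leaf 0x80200020000030703040103000c) (.node 87156 (.leaf 0x50000070209020007) (.leaf 0x2050206030500040008))))))

def argWS_7724 : Store := (.node 87168 (.node 87162 (.node 87159 (.node 87158 (.leaf 0x90300020901060007) (.leaf 0x107090805000703040103000b)) (.node 87160 (.leaf 0x4020003) (.node 87161 (.leaf 0x4010206020007010008) (.leaf 0x7030003)))) (.node 87165 (.node 87163 (.leaf 0x702070209020802040105000b) (.node 87164 (.leaf 0x40202010004) (.leaf 0x307050206040802040105000b))) (.node 87166 (.leaf 0x8000003) (.node 87167 (.leaf 0x60908050005) (.leaf 0x20401010703060802040105000c))))) (.node 87174 (.node 87171 (.node 87169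 (.leaf 0x9000003) (.node 87170 (.leaf 0x1030106030500040202000701000d) (.leaf 0x902060402020007010009))) (.node 87172 (.leaf 0x2020202010005) (.node 87173 (.leaf 0x1040900090802040105000a) (.leaf 0x202020003)))) (.node 87177 (.node 87175 (.leaf 0x4020500090206020802040105000d) (.node 87176 (.leaf 0x200070306000703040103000b) (.leaf 0x602010301010200000703040103000e))) (.node 87178 (.leaf 0x304030003) (.node 87179 (.leaf 0x2000006010500020802040105000d) (.leaf 0x1020206020702010802040105000d))))))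

def argWS_7725 : Store := (.node 87157 argWS_7723 argWS_7724)

def argWS_7726 : Store := (.node 87191 (.node 87185 (.node 87182 (.node 87181 (.leaf 0x107000401050006) (.leaf 0x402020207030401030009)) (.node 87183 (.leaf 0x10502070206000802040105000c) (.node 87184 (.leaf 0x201090003) (.leaf 0x20908050005)))) (.node 87188 (.node 87186 (.leaf 0x200080003) (.node 87187 (.leaf 0x200090003) (.leaf 0x202000003))) (.node 87189 (.leaf 0x906020000030703040103000b) (.node 87190 (.leaf 0x500090000090006) (.leaf 0x7000000000300000008))))) (.node 87196 (.node 87193 (.node 87192 (.leaf 0x204030003) (.leaf 0x206030003)) (.node 87194 (.leaf 0x209010003) (.node 87195 (.leaf 0x601070206000202000701000b) (.leaf 0x8020908050202000701000a)))) (.node 87199 (.node 87197 (.leaf 0x502020804000006) (.node 87198 (.leaf 0x6050102000003010202000701000d) (.leaf 0x7030502020900000008))) (.node 87200 (.leaf 0x6080102020007010008) (.node 87201 (.leaf 0x903000003) (.leaf 0x702090000090202000701000b))))))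

def argWS_7727 : Store := (.node 87213 (.node 87207 (.node 87204 (.node 87203 (.leaf 0x90102020900000202000701000c) (.leaf 0x3030900090005)) (.node 87205 (.leaf 0x70500030306040202000701000c) (.node 87206 (.leaf 0x10300070209020007) (.leaf 0x4000202020703040103000a)))) (.node 87210 (.node 87208 (.leaf 0x907020901060802040105000b) (.node 87209 (.leaf 0x604000901090006) (.leaf 0x40009000009000703040103000d))) (.node 87211 (.leaf 0x704010904020802040105000b) (.node 87212 (.leaf 0x10303080004) (.leaf 0x20202020901060802040105000c))))) (.node 87219 (.node 87216 (.node 87214 (.leaf 0x4040603050004000703040103000d) (.node 87215 (.leaf 0x20106030500040802040105000c) (.leaf 0x3070002020900000202000701000d))) (.node 87217 (.leaf 0x307000206030802040105000b) (.node 87218 (.leaf 0x6000901090802040105000a) (.leaf 0x908050007030401030009)))) (.node 87222 (.node 87220 (.leaf 0x20901070209020007) (.node 87221 (.leaf 0x20403070209020202000701000c) (.leaf 0x20200000408010007)))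 (.node 87223 (.leaf 0x90306020702010802040105000c) (.node 87224 (.leaf 0x8020703060202000701000a) (.leaf 0x503040005000703040103000c))))))

def argWS_7728 : Store := (.node 87202 argWS_7726 argWS_7727)

def argWS_7729 : Store := (.node 87180 argWS_7725 argWS_7728)

def argWS_7730 : Store := (.node 87236 (.node 87230 (.node 87227 (.node 87226 (.leaf 0x906090000090202000701000b) (.leaf 0x3040207020007010008)) (.node 87228 (.leaf 0x401090009000703040103000b) (.node 87229 (.leaf 0x10401050004) (.leaf 0x5020000020804000202000701000d)))) (.node 87233 (.node 87231 (.leaf 0x800070209020006) (.node 87232 (.leaf 0x606010400050802040105000b) (.leaf 0x2090301070306000703040103000d))) (.node 87234 (.leaf 0x30401090806000802040105000c) (.node 87235 (.leaf 0x90009000009000703040103000c) (.leaf 0x409040202020007010009))))) (.node 87241 (.node 87238 (.node 87237 (.leaf 0x4020505020202010802040105000d) (.leaf 0x3090009000703040103000b)) (.node 87239 (.leaf 0x60106030500040802040105000c)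 (.node 87240 (.leaf 0x5090000090802040105000a) (.leaf 0x10901090004)))) (.node 87244 (.node 87242 (.leaf 0x701070009020007010009) (.node 87243 (.leaf 0x90705020202010007) (.leaf 0x20902020900000202000701000c))) (.node 87245 (.leaf 0x502010401050006) (.node 87246 (.leaf 0x30106030500040202000701000c) (.leaf 0x60102010904020802040105000c))))))

def argWS_7731 : Store := (.node 87258 (.node 87252 (.node 87249 (.node 87248 (.leaf 0x10101090805000703040103000c) (.leaf 0x6050105020604000703040103000d)) (.node 87250 (.leaf 0x1030009000009000703040103000d) (.node 87251 (.leaf 0x30002020900000802040105000c) (.leaf 0x4000400030306040008)))) (.node 87255 (.node 87253 (.leaf 0x80000090206020008) (.node 87254 (.leaf 0x70901090802040105000a) (.leaf 0x8000004080703040103000b))) (.node 87256 (.leaf 0x9070202090000000703040103000d) (.node 87257 (.leaf 0x50300020804000802040105000d) (.leaf 0x202000003010802040105000c))))) (.node 87264 (.node 87261 (.node 87259 (.leaf 0x400030009020602000703040103000e)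 (.node 87260 (.leaf 0x60301010200000703040103000d) (.leaf 0x10001))) (.node 87262 (.leaf 0x1) (.node 87263 (.leaf 0x30001) (.leaf 0x20001)))) (.node 87267 (.node 87265 (.leaf 0x90001) (.node 87266 (.leaf 0x1030002) (.leaf 0x1020002))) (.node 87268 (.leaf 0x1070002) (.node 87269 (.leaf 0x2) (.leaf 0x30002))))))

def argWS_7732 : Store := (.node 87247 argWS_7730 argWS_7731)

def argWS_7733 : Store := (.node 87281 (.node 87275 (.node 87272 (.node 87271 (.leaf 0x20002) (.leaf 0x70002)) (.node 87273 (.leaf 0x80002) (.node 87274 (.leaf 0x90002) (.leaf 0x3010002)))) (.node 87278 (.node 87276 (.leaf 0x3000002) (.node 87277 (.leaf 0x3030002) (.leaf 0x3050002))) (.node 87279 (.leaf 0x702020901060202000701000b) (.node 87280 (.leaf 0x2010002) (.leaf 0x2000002))))) (.node 87287 (.node 87284 (.node 87282 (.leaf 0x2020002) (.node 87283 (.leaf 0x2050002) (.leaf 0x2090002))) (.node 87285 (.leaf 0x9010002) (.node 87286 (.leaf 0x9000002) (.leaf 0x30106010500020802040105000c))))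 (.node 87290 (.node 87288 (.leaf 0x90201070009030007) (.node 87289 (.leaf 0x9020106060802040105000a) (.leaf 0x70108020401050007))) (.node 87291 (.leaf 0x6020401050005) (.node 87292 (.leaf 0x600030000000703040103000b) (.leaf 0x103080003))))))

def argWS_7734 : Store := (.node 87304 (.node 87298 (.node 87295 (.node 87294 (.leaf 0x7020000030000000703040103000d) (.leaf 0x102020003)) (.node 87296 (.leaf 0x102080003) (.node 87297 (.leaf 0x2040105020202010202000701000d) (.leaf 0x604010400050202000701000b)))) (.node 87301 (.node 87299 (.leaf 0x5000206020007010008) (.node 87300 (.leaf 0x602090402000703040103000b) (.leaf 0x105020003))) (.node 87302 (.leaf 0x8050703060202000701000a) (.node 87303 (.leaf 0x700070206000202000701000b) (.leaf 0x104000003))))) (.node 87310 (.node 87307 (.node 87305 (.leaf 0x9030002020900000202000701000d) (.node 87306 (.leaf 0x2040206020007010008) (.leaf 0x5000000000300000802040105000d))) (.node 87308 (.leaf 0x107000003) (.node 87309 (.leaf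 0x107030003) (.leaf 0x70802020007010007)))) (.node 87313 (.node 87311 (.leaf 0x60601090806000007) (.node 87312 (.leaf 0x2020000090206020008) (.leaf 0x700090402000703040103000b))) (.node 87314 (.leaf 0x402020900000202000701000c) (.node 87315 (.leaf 0x20500020804000007) (.leaf 0x700000900090802040105000b))))))

def argWS_7735 : Store := (.node 87293 argWS_7733 argWS_7734)

def argWS_7736 : Store := (.node 87270 argWS_7732 argWS_7735)

def argWS_7737 : Store := (.node 87225 argWS_7729 argWS_7736)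

def argWS_7738 : Store := (.node 87135 argWS_7722 argWS_7737)

def argWS_7739 : Store := (.node 86955 argWS_7707 argWS_7738)

def argWS_7740 : Store := (.node 87327 (.node 87321 (.node 87318 (.node 87317 (.leaf 0x300070209020006) (.leaf 0x204000408010202000701000b)) (.node 87319 (.leaf 0x109030003) (.node 87320 (.leaf 0x7000005020604000703040103000d) (.leaf 0x1030106010500020802040105000d)))) (.node 87324 (.node 87322 (.leaf 0x20002090106000703040103000c) (.node 87323 (.leaf 0x90003) (.leaf 0x3010003))) (.node 87325 (.leaf 0x105020901090006) (.node 87326 (.leaf 0x104020603000703040103000b) (.leaf 0x3080003))))) (.node 87332 (.node 87329 (.node 87328 (.leaf 0x3070002000003010802040105000d) (.leaf 0x2000003)) (.node 87330 (.leaf 0x109030601050002000703040103000e) (.node 87331 (.leaf 0x404090000090202000701000b) (.leaf 0x80200020000030703040103000c)))) (.node 87335 (.node 87333 (.leaf 0x5030003) (.node 87334 (.leaf 0x50000070209020007) (.leaf 0x2050206030500040008)))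 (.node 87336 (.leaf 0x4020003) (.node 87337 (.leaf 0x4010206020007010008) (.leaf 0x7030003))))))

def argWS_7741 : Store := (.node 87349 (.node 87343 (.node 87340 (.node 87339 (.leaf 0x702070209020802040105000b) (.leaf 0x6000003)) (.node 87341 (.leaf 0x6030003) (.node 87342 (.leaf 0x8000003) (.leaf 0x60908050005)))) (.node 87346 (.node 87344 (.leaf 0x20401010703060802040105000c) (.node 87345 (.leaf 0x9000003) (.leaf 0x60000020106060007))) (.node 87347 (.leaf 0x1030106030500040202000701000d) (.node 87348 (.leaf 0x103010207030802040105000b) (.leaf 0x300000003))))) (.node 87355 (.node 87352 (.node 87350 (.leaf 0x7010207030005) (.node 87351 (.leaf 0x2020202010005) (.leaf 0x1040900090802040105000a))) (.node 87353 (.leaf 0x4020500090206020802040105000d) (.node 87354 (.leaf 0x200070306000703040103000b) (.leaf 0x501060608020401050009)))) (.node 87358 (.node 87356 (.leaf 0x304030003) (.node 87357 (.leaf 0x2000006010500020802040105000d) (.leaf 0x6000901090802040105000b)))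 (.node 87359 (.leaf 0x1020206020702010802040105000d) (.node 87360 (.leaf 0x107000401050006) (.leaf 0x402020207030401030009))))))

def argWS_7742 : Store := (.node 87338 argWS_7740 argWS_7741)

def argWS_7743 : Store := (.node 87372 (.node 87366 (.node 87363 (.node 87362 (.leaf 0x20908050005) (.leaf 0x200090003)) (.node 87364 (.leaf 0x906020000030703040103000b) (.node 87365 (.leaf 0x101050202020703040103000b) (.leaf 0x500090000090006)))) (.node 87369 (.node 87367 (.leaf 0x7000000000300000008) (.node 87368 (.leaf 0x204030003) (.leaf 0x207030003))) (.node 87370 (.leaf 0x206030003) (.node 87371 (.leaf 0x209010003) (.leaf 0x601070206000202000701000b))))) (.node 87377 (.node 87374 (.node 87373 (.leaf 0x3050206030802040105000a) (.leaf 0x8020908050202000701000a)) (.node 87375 (.leaf 0x502020804000006) (.node 87376 (.leaf 0x6050102000003010202000701000d) (.leaf 0x6080102020007010008)))) (.node 87380 (.node 87378 (.leaf 0x903000003) (.node 87379 (.leaf 0x3010005)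 (.leaf 0x500000000030000000703040103000e))) (.node 87381 (.leaf 0x702090000090202000701000b) (.node 87382 (.leaf 0x604000900090802040105000b) (.leaf 0x90102020900000202000701000c))))))

def argWS_7744 : Store := (.node 87394 (.node 87388 (.node 87385 (.node 87384 (.leaf 0x3030900090005) (.leaf 0x5020901090202000701000a)) (.node 87386 (.leaf 0x402020900000202000701000b) (.node 87387 (.leaf 0x10300070209020007) (.leaf 0x4000202020703040103000a)))) (.node 87391 (.node 87389 (.leaf 0x907020901060802040105000b) (.node 87390 (.leaf 0x602010904020006) (.leaf 0x604000901090006))) (.node 87392 (.leaf 0x40009000009000703040103000d) (.node 87393 (.leaf 0x704010904020802040105000b) (.leaf 0x10303080004))))) (.node 87400 (.node 87397 (.node 87395 (.leaf 0x20202020901060802040105000c) (.node 87396 (.leaf 0x3040301090805000703040103000d) (.leaf 0x307090806000006))) (.node 87398 (.leaf 0x4040603050004000703040103000d) (.node 87399 (.leaf 0x20106030500040802040105000c)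 (.leaf 0x307000206030802040105000b)))) (.node 87403 (.node 87401 (.leaf 0x6000901090802040105000a) (.node 87402 (.leaf 0x4030009020602000703040103000d) (.leaf 0x908050007030401030009))) (.node 87404 (.leaf 0x20901070209020007) (.node 87405 (.leaf 0x20200020804000007) (.leaf 0x20403070209020202000701000c))))))

def argWS_7745 : Store := (.node 87383 argWS_7743 argWS_7744)

def argWS_7746 : Store := (.node 87361 argWS_7742 argWS_7745)

def argWS_7747 : Store := (.node 87417 (.node 87411 (.node 87408 (.node 87407 (.leaf 0x20200000408010007) (.leaf 0x90306020702010802040105000c)) (.node 87409 (.leaf 0x10206030004) (.node 87410 (.leaf 0x605020804000202000701000b) (.leaf 0x8020703060202000701000a)))) (.node 87414 (.node 87412 (.leaf 0x503040005000703040103000c) (.node 87413 (.leaf 0x8050000000300000802040105000d) (.leaf 0x906090000090202000701000b))) (.node 87415 (.leaf 0x3040207020007010008) (.node 87416 (.leaf 0x401090009000703040103000b) (.leaf 0x102010908050802040105000b)))))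 (.node 87422 (.node 87419 (.node 87418 (.leaf 0x20601010908050202000701000c) (.leaf 0x10401050004)) (.node 87420 (.leaf 0x5020000020804000202000701000d) (.node 87421 (.leaf 0x800070209020006) (.leaf 0x2090301070306000703040103000d)))) (.node 87425 (.node 87423 (.leaf 0x30401090806000802040105000c) (.node 87424 (.leaf 0x3090009000703040103000b) (.leaf 0x60106030500040802040105000c))) (.node 87426 (.leaf 0x5090000090802040105000a) (.node 87427 (.leaf 0x9000601050002000703040103000e) (.leaf 0x10901090004))))))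

def argWS_7748 : Store := (.node 87439 (.node 87433 (.node 87430 (.node 87429 (.leaf 0x701070009020007010009) (.leaf 0x90705020202010007)) (.node 87431 (.leaf 0x903000901090006) (.node 87432 (.leaf 0x20902020900000202000701000c) (.leaf 0x502010401050006)))) (.node 87436 (.node 87434 (.leaf 0x1030009000009000703040103000d) (.node 87435 (.leaf 0x30002020900000802040105000c) (.leaf 0x4000400030306040008))) (.node 87437 (.leaf 0x70901090802040105000a) (.node 87438 (.leaf 0x40004060207020703040103000c) (.leaf 0x8000004080703040103000b))))) (.node 87445 (.node 87442 (.node 87440 (.leaf 0x9070202090000000703040103000d) (.node 87441 (.leaf 0x204010900090006) (.leaf 0x200000300000006))) (.node 87443 (.leaf 0x10001) (.node 87444 (.leaf 0x1) (.leaf 0x30001)))) (.node 87448 (.node 87446 (.leaf 0x20001) (.node 87447 (.leaf 0x1010002) (.leaf 0x1030002))) (.node 87449 (.leaf 0x1020002) (.node 87450 (.leaf 0x1050002) (.leaf 0x1070002))))))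

def argWS_7749 : Store := (.node 87428 argWS_7747 argWS_7748)

def argWS_7750 : Store := (.node 87462 (.node 87456 (.node 87453 (.node 87452 (.leaf 0x1080002) (.leaf 0x1090002)) (.node 87454 (.leaf 0x0) (.node 87455 (.leaf 0x2) (.leaf 0x30002)))) (.node 87459 (.node 87457 (.leaf 0x20002) (.node 87458 (.leaf 0x50002) (.leaf 0x80002))) (.node 87460 (.leaf 0x3010002) (.node 87461 (.leaf 0x3030002) (.leaf 0x702020901060202000701000b))))) (.node 87467 (.node 87464 (.node 87463 (.leaf 0x2010002) (.leaf 0x2020002)) (.node 87465 (.leaf 0x2050002) (.node 87466 (.leaf 0x2090002) (.leaf 0x90201070009030007)))) (.node 87470 (.node 87468 (.leaf 0x9020106060802040105000a) (.node 87469 (.leaf 0x70108020401050007) (.leaf 0x6020401050005))) (.node 87471 (.leaf 0x7020000030000000703040103000d) (.node 87472 (.leaf 0x102020003) (.leaf 0x2040105020202010202000701000d))))))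

def argWS_7751 : Store := (.node 87484 (.node 87478 (.node 87475 (.node 87474 (.leaf 0x105020003) (.leaf 0x8050703060202000701000a)) (.node 87476 (.leaf 0x107000003) (.node 87477 (.leaf 0x2020000090206020008) (.leaf 0x6040106010500020202000701000d)))) (.node 87481 (.node 87479 (.leaf 0x300070209020006) (.node 87480 (.leaf 0x90003) (.leaf 0x3010003))) (.node 87482 (.leaf 0x105020901090006) (.node 87483 (.leaf 0x3070002000003010802040105000d) (.leaf 0x404090000090202000701000b))))) (.node 87490 (.node 87487 (.node 87485 (.leaf 0x80200020000030703040103000c) (.node 87486 (.leaf 0x107090805000703040103000b) (.leaf 0x20401010703060802040105000c))) (.node 87488 (.leaf 0x502020804000006) (.node 87489 (.leaf 0x8000901090202000701000a) (.leaf 0x90102020900000202000701000c)))) (.node 87493 (.node 87491 (.leaf 0x10001) (.node 87492 (.leaf 0x1) (.leaf 0x30001))) (.node 87494 (.leaf 0x20001) (.node 87495 (.leaf 0x1010002) (.leaf 0x1030002))))))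

def argWS_7752 : Store := (.node 87473 argWS_7750 argWS_7751)

def argWS_7753 : Store := (.node 87451 argWS_7749 argWS_7752)

def argWS_7754 : Store := (.node 87406 argWS_7746 argWS_7753)

def argWS_7755 : Store := (.node 87507 (.node 87501 (.node 87498 (.node 87497 (.leaf 0x1020002) (.leaf 0x1050002)) (.node 87499 (.leaf 0x1070002) (.node 87500 (.leaf 0x1080002) (.leaf 0x2)))) (.node 87504 (.node 87502 (.leaf 0x30002) (.node 87503 (.leaf 0x20002) (.leaf 0x50002))) (.node 87505 (.leaf 0x90002) (.node 87506 (.leaf 0x3010002) (.leaf 0x3000002))))) (.node 87512 (.node 87509 (.node 87508 (.leaf 0x3030002) (.leaf 0x3070002)) (.node 87510 (.leaf 0x702020901060202000701000b) (.node 87511 (.leaf 0x2010002) (.leaf 0x2000002)))) (.node 87515 (.node 87513 (.leaf 0x2050002) (.node 87514 (.leaf 0x2070002) (.leaf 0x2090002))) (.node 87516 (.leaf 0x9010002) (.node 87517 (.leaf 0x9000002) (.leaf 0x30106010500020802040105000c))))))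

def argWS_7756 : Store := (.node 87529 (.node 87523 (.node 87520 (.node 87519 (.leaf 0x20002090106000703040103000d) (.leaf 0x9020106060802040105000a)) (.node 87521 (.leaf 0x103010003) (.node 87522 (.leaf 0x70108020401050007) (.leaf 0x6020401050005)))) (.node 87526 (.node 87524 (.leaf 0x600030000000703040103000b) (.node 87525 (.leaf 0x103080003) (.leaf 0x102080003))) (.node 87527 (.leaf 0x2040105020202010202000701000d) (.node 87528 (.leaf 0x604010400050202000701000b) (.leaf 0x5000206020007010008))))) (.node 87535 (.node 87532 (.node 87530 (.leaf 0x602090402000703040103000b) (.node 87531 (.leaf 0x105020003) (.leaf 0x8050703060202000701000a))) (.node 87533 (.leaf 0x700070206000202000701000b) (.node 87534 (.leaf 0x9030002020900000202000701000d) (.leaf 0x2040206020007010008)))) (.node 87538 (.node 87536 (.leaf 0x5000000000300000802040105000d) (.node 87537 (.leaf 0x107030003) (.leaf 0x70802020007010007))) (.node 87539 (.leaf 0x2020000090206020008) (.node 87540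 (.leaf 0x700090402000703040103000b) (.leaf 0x6040106010500020202000701000d))))))

def argWS_7757 : Store := (.node 87518 argWS_7755 argWS_7756)

def argWS_7758 : Store := (.node 87552 (.node 87546 (.node 87543 (.node 87542 (.leaf 0x20500020804000007) (.leaf 0x700000900090802040105000b)) (.node 87544 (.leaf 0x300070209020006) (.node 87545 (.leaf 0x204000408010202000701000b) (.leaf 0x109030003)))) (.node 87549 (.node 87547 (.leaf 0x1030106010500020802040105000d) (.node 87548 (.leaf 0x20002090106000703040103000c) (.leaf 0x90003))) (.node 87550 (.leaf 0x3080003) (.node 87551 (.leaf 0x7020009020602000703040103000d) (.leaf 0x2000003))))) (.node 87557 (.node 87554 (.node 87553 (.leaf 0x109030601050002000703040103000e) (.leaf 0x404090000090202000701000b)) (.node 87555 (.leaf 0x10300020106060202000701000c) (.node 87556 (.leaf 0x80200020000030703040103000c) (.leaf 0x5030003)))) (.node 87560 (.node 87558 (.leaf 0x50000070209020007) (.node 87559 (.leaf 0x2050206030500040008)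 (.leaf 0x90300020901060007))) (.node 87561 (.leaf 0x4000003) (.node 87562 (.leaf 0x107090805000703040103000b) (.leaf 0x4020003))))))

def argWS_7759 : Store := (.node 87574 (.node 87568 (.node 87565 (.node 87564 (.leaf 0x7030003) (.leaf 0x702070209020802040105000b)) (.node 87566 (.leaf 0x40202010004) (.node 87567 (.leaf 0x307050206040802040105000b) (.leaf 0x6000003)))) (.node 87571 (.node 87569 (.leaf 0x6030003) (.node 87570 (.leaf 0x8020007020902000703040103000d) (.leaf 0x8000003))) (.node 87572 (.leaf 0x20401010703060802040105000c) (.node 87573 (.leaf 0x9000003) (.leaf 0x60000020106060007))))) (.node 87580 (.node 87577 (.node 87575 (.leaf 0x1030106030500040202000701000d) (.node 87576 (.leaf 0x300000003) (.leaf 0x7010207030005))) (.node 87578 (.leaf 0x902060402020007010009) (.node 87579 (.leaf 0x2020202010005) (.leaf 0x1040900090802040105000a)))) (.node 87583 (.node 87581 (.leaf 0x202020003) (.node 87582 (.leaf 0x4020500090206020802040105000d) (.leaf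 0x200070306000703040103000b))) (.node 87584 (.leaf 0x602010301010200000703040103000e) (.node 87585 (.leaf 0x501060608020401050009) (.leaf 0x304030003))))))

def argWS_7760 : Store := (.node 87563 argWS_7758 argWS_7759)

def argWS_7761 : Store := (.node 87541 argWS_7757 argWS_7760)

def argWS_7762 : Store := (.node 87597 (.node 87591 (.node 87588 (.node 87587 (.leaf 0x2000006010500020802040105000d) (.leaf 0x1020206020702010802040105000d)) (.node 87589 (.leaf 0x0) (.node 87590 (.leaf 0x107000401050006) (.leaf 0x402020207030401030009)))) (.node 87594 (.node 87592 (.leaf 0x10502070206000802040105000c) (.node 87593 (.leaf 0x201090003) (.leaf 0x20908050005))) (.node 87595 (.leaf 0x200080003) (.node 87596 (.leaf 0x200090003) (.leaf 0x202000003))))) (.node 87602 (.node 87599 (.node 87598 (.leaf 0x906020000030703040103000b) (.leaf 0x101050202020703040103000b)) (.node 87600 (.leaf 0x204030003) (.node 87601 (.leaf 0x1030002020900000802040105000d) (.leaf 0x207030003))))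 (.node 87605 (.node 87603 (.leaf 0x206030003) (.node 87604 (.leaf 0x601070206000202000701000b) (.leaf 0x3050206030802040105000a))) (.node 87606 (.leaf 0x8020908050202000701000a) (.node 87607 (.leaf 0x502020804000006) (.leaf 0x6050102000003010202000701000d))))))

def argWS_7763 : Store := (.node 87619 (.node 87613 (.node 87610 (.node 87609 (.leaf 0x8000901090202000701000a) (.leaf 0x7030502020900000008)) (.node 87611 (.leaf 0x903000003) (.node 87612 (.leaf 0x3010005) (.leaf 0x500000000030000000703040103000e)))) (.node 87616 (.node 87614 (.leaf 0x702090000090202000701000b) (.node 87615 (.leaf 0x604000900090802040105000b) (.leaf 0x3030900090005))) (.node 87617 (.leaf 0x5020901090202000701000a) (.node 87618 (.leaf 0x70500030306040202000701000c) (.leaf 0x3040101090805000703040103000d))))) (.node 87625 (.node 87622 (.node 87620 (.leaf 0x402020900000202000701000b) (.node 87621 (.leaf 0x10300070209020007) (.leaf 0x907020901060802040105000b))) (.node 87623 (.leaf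 0x602010904020006) (.node 87624 (.leaf 0x604000901090006) (.leaf 0x40009000009000703040103000d)))) (.node 87628 (.node 87626 (.leaf 0x704010904020802040105000b) (.node 87627 (.leaf 0x10303080004) (.leaf 0x20202020901060802040105000c))) (.node 87629 (.leaf 0x3040301090805000703040103000d) (.node 87630 (.leaf 0x307090806000006) (.leaf 0x4040603050004000703040103000d))))))

def argWS_7764 : Store := (.node 87608 argWS_7762 argWS_7763)

def argWS_7765 : Store := (.node 87642 (.node 87636 (.node 87633 (.node 87632 (.leaf 0x3070002020900000202000701000d) (.leaf 0x307000206030802040105000b)) (.node 87634 (.leaf 0x6000901090802040105000a) (.node 87635 (.leaf 0x4030009020602000703040103000d) (.leaf 0x908050007030401030009)))) (.node 87639 (.node 87637 (.leaf 0x20901070209020007) (.node 87638 (.leaf 0x20200020804000007) (.leaf 0x20403070209020202000701000c))) (.node 87640 (.leaf 0x20200000408010007) (.node 87641 (.leaf 0x90306020702010802040105000c) (.leaf 0x10206030004)))))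 (.node 87648 (.node 87645 (.node 87643 (.leaf 0x605020804000202000701000b) (.node 87644 (.leaf 0x8020703060202000701000a) (.leaf 0x503040005000703040103000c))) (.node 87646 (.leaf 0x8050000000300000802040105000d) (.node 87647 (.leaf 0x906090000090202000701000b) (.leaf 0x401090009000703040103000b)))) (.node 87651 (.node 87649 (.leaf 0x102010908050802040105000b) (.node 87650 (.leaf 0x20601010908050202000701000c) (.leaf 0x800070209020006))) (.node 87652 (.leaf 0x606010400050802040105000b) (.node 87653 (.leaf 0x2090301070306000703040103000d) (.leaf 0x30401090806000802040105000c))))))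

def argWS_7766 : Store := (.node 87665 (.node 87659 (.node 87656 (.node 87655 (.leaf 0x409040202020007010009) (.leaf 0x4020505020202010802040105000d)) (.node 87657 (.leaf 0x3090009000703040103000b) (.node 87658 (.leaf 0x60106030500040802040105000c) (.leaf 0x5090000090802040105000a)))) (.node 87662 (.node 87660 (.leaf 0x10901090004) (.node 87661 (.leaf 0x701070009020007010009) (.leaf 0x90705020202010007))) (.node 87663 (.leaf 0x903000901090006) (.node 87664 (.leaf 0x20902020900000202000701000c) (.leaf 0x60102010904020802040105000c))))) (.node 87671 (.node 87668 (.node 87666 (.leaf 0x10101090805000703040103000c) (.node 87667 (.leaf 0x30002020900000802040105000c) (.leaf 0x70901090802040105000a))) (.node 87669 (.leaf 0x40004060207020703040103000c) (.node 87670 (.leaf 0x8000004080703040103000b) (.leaf 0x9070202090000000703040103000d)))) (.node 87674 (.node 87672 (.leaf 0x600070306000703040103000b) (.node 87673 (.leaf 0x50300020804000802040105000d) (.leaf 0x80101020106060802040105000c)))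 (.node 87675 (.leaf 0x204010900090006) (.node 87676 (.leaf 0x200000300000006) (.leaf 0x400030009020602000703040103000e))))))

def argWS_7767 : Store := (.node 87654 argWS_7765 argWS_7766)

def argWS_7768 : Store := (.node 87631 argWS_7764 argWS_7767)

def argWS_7769 : Store := (.node 87586 argWS_7761 argWS_7768)

def argWS_7770 : Store := (.node 87496 argWS_7754 argWS_7769)

def argWS_7771 : Store := (.node 87688 (.node 87682 (.node 87679 (.node 87678 (.leaf 0x60301010200000703040103000d) (.leaf 0x1)) (.node 87680 (.leaf 0x20001) (.node 87681 (.leaf 0x90001) (.leaf 0x1030002)))) (.node 87685 (.node 87683 (.leaf 0x1020002) (.node 87684 (.leaf 0x1050002) (.leaf 0x1090002))) (.node 87686 (.leaf 0x2) (.node 87687 (.leaf 0x30002) (.leaf 0x50002))))) (.node 87693 (.node 87690 (.node 87689 (.leaf 0x70002) (.leaf 0x90002)) (.node 87691 (.leaf 0x3010002) (.node 87692 (.leaf 0x3000002) (.leaf 0x3030002)))) (.node 87696 (.node 87694 (.leaf 0x3050002) (.node 87695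 (.leaf 0x3070002) (.leaf 0x702020901060202000701000b))) (.node 87697 (.leaf 0x2010002) (.node 87698 (.leaf 0x2000002) (.leaf 0x2020002))))))

def argWS_7772 : Store := (.node 87710 (.node 87704 (.node 87701 (.node 87700 (.leaf 0x2050002) (.leaf 0x2070002)) (.node 87702 (.leaf 0x2090002) (.node 87703 (.leaf 0x9010002) (.leaf 0x9000002)))) (.node 87707 (.node 87705 (.leaf 0x20002090106000703040103000d) (.node 87706 (.leaf 0x90201070009030007) (.leaf 0x9020106060802040105000a))) (.node 87708 (.leaf 0x103010003) (.node 87709 (.leaf 0x70108020401050007) (.leaf 0x6020401050005))))) (.node 87716 (.node 87713 (.node 87711 (.leaf 0x103080003) (.node 87712 (.leaf 0x7020000030000000703040103000d) (.leaf 0x102020003))) (.node 87714 (.leaf 0x102080003) (.node 87715 (.leaf 0x2040105020202010202000701000d) (.leaf 0x604010400050202000701000b)))) (.node 87719 (.node 87717 (.leaf 0x5000206020007010008) (.node 87718 (.leaf 0x602090402000703040103000b) (.leaf 0x105020003)))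 (.node 87720 (.leaf 0x8050703060202000701000a) (.node 87721 (.leaf 0x700070206000202000701000b) (.leaf 0x9030002020900000202000701000d))))))

def argWS_7773 : Store := (.node 87699 argWS_7771 argWS_7772)

def argWS_7774 : Store := (.node 87733 (.node 87727 (.node 87724 (.node 87723 (.leaf 0x2040206020007010008) (.leaf 0x5000000000300000802040105000d)) (.node 87725 (.leaf 0x107030003) (.node 87726 (.leaf 0x70802020007010007) (.leaf 0x60601090806000007)))) (.node 87730 (.node 87728 (.leaf 0x2020000090206020008) (.node 87729 (.leaf 0x700090402000703040103000b) (.leaf 0x402020900000202000701000c))) (.node 87731 (.leaf 0x20500020804000007) (.node 87732 (.leaf 0x700000900090802040105000b) (.leaf 0x300070209020006))))) (.node 87738 (.node 87735 (.node 87734 (.leaf 0x109030003) (.leaf 0x7000005020604000703040103000d)) (.node 87736 (.leaf 0x1030106010500020802040105000d) (.node 87737 (.leaf 0x20002090106000703040103000c) (.leaf 0x90003)))) (.node 87741 (.node 87739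 (.leaf 0x3010003) (.node 87740 (.leaf 0x105020901090006) (.leaf 0x104020603000703040103000b))) (.node 87742 (.leaf 0x7020009020602000703040103000d) (.node 87743 (.leaf 0x3070002000003010802040105000d) (.leaf 0x2000003))))))

def argWS_7775 : Store := (.node 87755 (.node 87749 (.node 87746 (.node 87745 (.leaf 0x404090000090202000701000b) (.leaf 0x10300020106060202000701000c)) (.node 87747 (.leaf 0x80200020000030703040103000c) (.node 87748 (.leaf 0x5030003) (.leaf 0x50000070209020007)))) (.node 87752 (.node 87750 (.leaf 0x2050206030500040008) (.node 87751 (.leaf 0x90300020901060007) (.leaf 0x4000003))) (.node 87753 (.leaf 0x107090805000703040103000b) (.node 87754 (.leaf 0x4020003) (.leaf 0x4010206020007010008))))) (.node 87761 (.node 87758 (.node 87756 (.leaf 0x7030003) (.node 87757 (.leaf 0x702070209020802040105000b) (.leaf 0x40202010004))) (.node 87759 (.leaf 0x6030003) (.node 87760 (.leaf 0x8020007020902000703040103000d) (.leaf 0x20401010703060802040105000c))))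 (.node 87764 (.node 87762 (.leaf 0x9000003) (.node 87763 (.leaf 0x60000020106060007) (.leaf 0x1030106030500040202000701000d))) (.node 87765 (.leaf 0x103010207030802040105000b) (.node 87766 (.leaf 0x300000003) (.leaf 0x7010207030005))))))

def argWS_7776 : Store := (.node 87744 argWS_7774 argWS_7775)

def argWS_7777 : Store := (.node 87722 argWS_7773 argWS_7776)

def argWS_7778 : Store := (.node 87778 (.node 87772 (.node 87769 (.node 87768 (.leaf 0x2020202010005) (.leaf 0x202020003)) (.node 87770 (.leaf 0x200070306000703040103000b) (.node 87771 (.leaf 0x602010301010200000703040103000e) (.leaf 0x304030003)))) (.node 87775 (.node 87773 (.leaf 0x2000006010500020802040105000d) (.node 87774 (.leaf 0x6000901090802040105000b) (.leaf 0x1020206020702010802040105000d))) (.node 87776 (.leaf 0x402020207030401030009) (.node 87777 (.leaf 0x201090003) (.leaf 0x20908050005))))) (.node 87783 (.node 87780 (.node 87779 (.leaf 0x200080003) (.leaf 0x200090003)) (.node 87781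 (.leaf 0x906020000030703040103000b) (.node 87782 (.leaf 0x101050202020703040103000b) (.leaf 0x500090000090006)))) (.node 87786 (.node 87784 (.leaf 0x7000000000300000008) (.node 87785 (.leaf 0x204030003) (.leaf 0x1030002020900000802040105000d))) (.node 87787 (.leaf 0x206030003) (.node 87788 (.leaf 0x8020908050202000701000a) (.leaf 0x502020804000006))))))

def argWS_7779 : Store := (.node 87800 (.node 87794 (.node 87791 (.node 87790 (.leaf 0x6050102000003010202000701000d) (.leaf 0x8000901090202000701000a)) (.node 87792 (.leaf 0x7030502020900000008) (.node 87793 (.leaf 0x903000003) (.leaf 0x3010005)))) (.node 87797 (.node 87795 (.leaf 0x500000000030000000703040103000e) (.node 87796 (.leaf 0x702090000090202000701000b) (.leaf 0x604000900090802040105000b))) (.node 87798 (.leaf 0x90102020900000202000701000c) (.node 87799 (.leaf 0x3030900090005) (.leaf 0x5020901090202000701000a))))) (.node 87806 (.node 87803 (.node 87801 (.leaf 0x70500030306040202000701000c) (.node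 87802 (.leaf 0x3040101090805000703040103000d) (.leaf 0x10300070209020007))) (.node 87804 (.leaf 0x602010904020006) (.node 87805 (.leaf 0x604000901090006) (.leaf 0x10303080004)))) (.node 87809 (.node 87807 (.leaf 0x20202020901060802040105000c) (.node 87808 (.leaf 0x3040301090805000703040103000d) (.leaf 0x307090806000006))) (.node 87810 (.leaf 0x20106030500040802040105000c) (.node 87811 (.leaf 0x3070002020900000202000701000d) (.leaf 0x6000901090802040105000a))))))

def argWS_7780 : Store := (.node 87789 argWS_7778 argWS_7779)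

def argWS_7781 : Store := (.node 87823 (.node 87817 (.node 87814 (.node 87813 (.leaf 0x4030009020602000703040103000d) (.leaf 0x908050007030401030009)) (.node 87815 (.leaf 0x20901070209020007) (.node 87816 (.leaf 0x20200020804000007) (.leaf 0x20403070209020202000701000c)))) (.node 87820 (.node 87818 (.leaf 0x20200000408010007) (.node 87819 (.leaf 0x10206030004) (.leaf 0x8020703060202000701000a))) (.node 87821 (.leaf 0x503040005000703040103000c) (.node 87822 (.leaf 0x906090000090202000701000b) (.leaf 0x3040207020007010008))))) (.node 87828 (.node 87825 (.node 87824 (.leaf 0x401090009000703040103000b) (.leaf 0x102010908050802040105000b)) (.node 87826 (.leaf 0x20601010908050202000701000c) (.node 87827 (.leaf 0x10401050004) (.leaf 0x5020000020804000202000701000d)))) (.node 87831 (.node 87829 (.leaf 0x800070209020006) (.node 87830 (.leaf 0x406030500040006) (.leaf 0x606010400050802040105000b))) (.node 87832 (.leaf 0x2090301070306000703040103000d) (.node 87833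 (.leaf 0x30401090806000802040105000c) (.leaf 0x90009000009000703040103000c))))))

def argWS_7782 : Store := (.node 87845 (.node 87839 (.node 87836 (.node 87835 (.leaf 0x409040202020007010009) (.leaf 0x4020505020202010802040105000d)) (.node 87837 (.leaf 0x5090000090802040105000a) (.node 87838 (.leaf 0x9000601050002000703040103000e) (.leaf 0x10901090004)))) (.node 87842 (.node 87840 (.leaf 0x701070009020007010009) (.node 87841 (.leaf 0x90705020202010007) (.leaf 0x903000901090006))) (.node 87843 (.leaf 0x20902020900000202000701000c) (.node 87844 (.leaf 0x30106030500040202000701000c) (.leaf 0x60102010904020802040105000c))))) (.node 87851 (.node 87848 (.node 87846 (.leaf 0x10101090805000703040103000c) (.node 87847 (.leaf 0x1030009000009000703040103000d) (.leaf 0x4000400030306040008))) (.node 87849 (.leaf 0x80000090206020008) (.node 87850 (.leaf 0x9070202090000000703040103000d) (.leaf 0x50300020804000802040105000d)))) (.node 87854 (.node 87852 (.leaf 0x80101020106060802040105000c)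 (.node 87853 (.leaf 0x204010900090006) (.leaf 0x200000300000006))) (.node 87855 (.leaf 0x60301010200000703040103000d) (.node 87856 (.leaf 0x1) (.leaf 0x30001))))))

def argWS_7783 : Store := (.node 87834 argWS_7781 argWS_7782)

def argWS_7784 : Store := (.node 87812 argWS_7780 argWS_7783)

def argWS_7785 : Store := (.node 87767 argWS_7777 argWS_7784)

def argWS_7786 : Store := (.node 87868 (.node 87862 (.node 87859 (.node 87858 (.leaf 0x1010002) (.leaf 0x1030002)) (.node 87860 (.leaf 0x1050002) (.node 87861 (.leaf 0x1070002) (.leaf 0x1080002)))) (.node 87865 (.node 87863 (.leaf 0x2) (.node 87864 (.leaf 0x30002) (.leaf 0x20002))) (.node 87866 (.leaf 0x50002) (.node 87867 (.leaf 0x80002) (.leaf 0x90002))))) (.node 87873 (.node 87870 (.node 87869 (.leaf 0x3010002) (.leaf 0x3000002)) (.node 87871 (.leaf 0x3030002) (.node 87872 (.leaf 0x3070002) (.leaf 0x702020901060202000701000b)))) (.node 87876 (.node 87874 (.leaf 0x2010002) (.node 87875 (.leaf 0x2000002)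 (.leaf 0x2020002))) (.node 87877 (.leaf 0x2070002) (.node 87878 (.leaf 0x2090002) (.leaf 0x9010002))))))

def argWS_7787 : Store := (.node 87890 (.node 87884 (.node 87881 (.node 87880 (.leaf 0x9000002) (.leaf 0x30106010500020802040105000c)) (.node 87882 (.leaf 0x9020106060802040105000a) (.node 87883 (.leaf 0x70108020401050007) (.leaf 0x6020401050005)))) (.node 87887 (.node 87885 (.leaf 0x103080003) (.node 87886 (.leaf 0x7020000030000000703040103000d) (.leaf 0x102020003))) (.node 87888 (.leaf 0x102080003) (.node 87889 (.leaf 0x604010400050202000701000b) (.leaf 0x5000206020007010008))))) (.node 87896 (.node 87893 (.node 87891 (.leaf 0x602090402000703040103000b) (.node 87892 (.leaf 0x8050703060202000701000a) (.leaf 0x700070206000202000701000b))) (.node 87894 (.leaf 0x104000003) (.node 87895 (.leaf 0x9030002020900000202000701000d) (.leaf 0x2040206020007010008)))) (.node 87899 (.node 87897 (.leaf 0x5000000000300000802040105000d) (.node 87898 (.leaf 0x107000003)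 (.leaf 0x107030003))) (.node 87900 (.leaf 0x70802020007010007) (.node 87901 (.leaf 0x60601090806000007) (.leaf 0x2020000090206020008))))))

def argWS_7788 : Store := (.node 87879 argWS_7786 argWS_7787)

def argWS_7789 : Store := (.node 87913 (.node 87907 (.node 87904 (.node 87903 (.leaf 0x700090402000703040103000b) (.leaf 0x402020900000202000701000c)) (.node 87905 (.leaf 0x6040106010500020202000701000d) (.node 87906 (.leaf 0x700000900090802040105000b) (.leaf 0x300070209020006)))) (.node 87910 (.node 87908 (.leaf 0x1030106010500020802040105000d) (.node 87909 (.leaf 0x20002090106000703040103000c) (.leaf 0x90003))) (.node 87911 (.leaf 0x105020901090006) (.node 87912 (.leaf 0x104020603000703040103000b) (.leaf 0x3080003))))) (.node 87918 (.node 87915 (.node 87914 (.leaf 0x7020009020602000703040103000d) (.leaf 0x3070002000003010802040105000d)) (.node 87916 (.leaf 0x2000003) (.node 87917 (.leaf 0x109030601050002000703040103000e) (.leaf 0x404090000090202000701000b))))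 (.node 87921 (.node 87919 (.leaf 0x10300020106060202000701000c) (.node 87920 (.leaf 0x5030003) (.leaf 0x2050206030500040008))) (.node 87922 (.leaf 0x90300020901060007) (.node 87923 (.leaf 0x107090805000703040103000b) (.leaf 0x4020003))))))

def argWS_7790 : Store := (.node 87935 (.node 87929 (.node 87926 (.node 87925 (.leaf 0x4010206020007010008) (.leaf 0x7030003)) (.node 87927 (.leaf 0x702070209020802040105000b) (.node 87928 (.leaf 0x40202010004) (.leaf 0x6000003)))) (.node 87932 (.node 87930 (.leaf 0x6030003) (.node 87931 (.leaf 0x8020007020902000703040103000d) (.leaf 0x60908050005))) (.node 87933 (.leaf 0x20401010703060802040105000c) (.node 87934 (.leaf 0x9000003) (.leaf 0x60000020106060007))))) (.node 87941 (.node 87938 (.node 87936 (.leaf 0x103010207030802040105000b) (.node 87937 (.leaf 0x300000003) (.leaf 0x7010207030005))) (.node 87939 (.leaf 0x902060402020007010009) (.node 87940 (.leaf 0x2020202010005) (.leaf 0x202020003)))) (.node 87944 (.node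 87942 (.leaf 0x4020500090206020802040105000d) (.node 87943 (.leaf 0x501060608020401050009) (.leaf 0x304030003))) (.node 87945 (.leaf 0x2000006010500020802040105000d) (.node 87946 (.leaf 0x6000901090802040105000b) (.leaf 0x107000401050006))))))

def argWS_7791 : Store := (.node 87924 argWS_7789 argWS_7790)

def argWS_7792 : Store := (.node 87902 argWS_7788 argWS_7791)

def argWS_7793 : Store := (.node 87958 (.node 87952 (.node 87949 (.node 87948 (.leaf 0x402020207030401030009) (.leaf 0x10502070206000802040105000c)) (.node 87950 (.leaf 0x201090003) (.node 87951 (.leaf 0x20908050005) (.leaf 0x200080003)))) (.node 87955 (.node 87953 (.leaf 0x200090003) (.node 87954 (.leaf 0x202000003) (.leaf 0x906020000030703040103000b))) (.node 87956 (.leaf 0x101050202020703040103000b) (.node 87957 (.leaf 0x500090000090006) (.leaf 0x7000000000300000008))))) (.node 87963 (.node 87960 (.node 87959 (.leaf 0x204030003) (.leaf 0x1030002020900000802040105000d)) (.node 87961 (.leaf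 0x207030003) (.node 87962 (.leaf 0x206030003) (.leaf 0x209010003)))) (.node 87966 (.node 87964 (.leaf 0x601070206000202000701000b) (.node 87965 (.leaf 0x3050206030802040105000a) (.leaf 0x8020908050202000701000a))) (.node 87967 (.leaf 0x502020804000006) (.node 87968 (.leaf 0x6050102000003010202000701000d) (.leaf 0x8000901090202000701000a))))))

def argWS_7794 : Store := (.node 87980 (.node 87974 (.node 87971 (.node 87970 (.leaf 0x7030502020900000008) (.leaf 0x3010005)) (.node 87972 (.leaf 0x500000000030000000703040103000e) (.node 87973 (.leaf 0x702090000090202000701000b) (.leaf 0x604000900090802040105000b)))) (.node 87977 (.node 87975 (.leaf 0x90102020900000202000701000c) (.node 87976 (.leaf 0x3030900090005) (.leaf 0x5020901090202000701000a))) (.node 87978 (.leaf 0x70500030306040202000701000c) (.node 87979 (.leaf 0x3040101090805000703040103000d) (.leaf 0x10300070209020007))))) (.node 87986 (.node 87983 (.node 87981 (.leaf 0x4000202020703040103000a) (.node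 87982 (.leaf 0x602010904020006) (.leaf 0x40009000009000703040103000d))) (.node 87984 (.leaf 0x704010904020802040105000b) (.node 87985 (.leaf 0x20202020901060802040105000c) (.leaf 0x307090806000006)))) (.node 87989 (.node 87987 (.leaf 0x3070002020900000202000701000d) (.node 87988 (.leaf 0x307000206030802040105000b) (.leaf 0x4030009020602000703040103000d))) (.node 87990 (.leaf 0x908050007030401030009) (.node 87991 (.leaf 0x20901070209020007) (.leaf 0x20200020804000007))))))

def argWS_7795 : Store := (.node 87969 argWS_7793 argWS_7794)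

def argWS_7796 : Store := (.node 88003 (.node 87997 (.node 87994 (.node 87993 (.leaf 0x20403070209020202000701000c) (.leaf 0x20200000408010007)) (.node 87995 (.leaf 0x90306020702010802040105000c) (.node 87996 (.leaf 0x10206030004) (.leaf 0x605020804000202000701000b)))) (.node 88000 (.node 87998 (.leaf 0x8020703060202000701000a) (.node 87999 (.leaf 0x503040005000703040103000c) (.leaf 0x8050000000300000802040105000d))) (.node 88001 (.leaf 0x906090000090202000701000b) (.node 88002 (.leaf 0x3040207020007010008) (.leaf 0x401090009000703040103000b))))) (.node 88009 (.node 88006 (.node 88004 (.leaf 0x102010908050802040105000b) (.node 88005 (.leaf 0x20601010908050202000701000c) (.leaf 0x10401050004))) (.node 88007 (.leaf 0x800070209020006) (.node 88008 (.leaf 0x406030500040006) (.leaf 0x606010400050802040105000b)))) (.node 88012 (.node 88010 (.leaf 0x2090301070306000703040103000d) (.node 88011 (.leaf 0x409040202020007010009) (.leaf 0x3090009000703040103000b)))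 (.node 88013 (.leaf 0x60106030500040802040105000c) (.node 88014 (.leaf 0x5090000090802040105000a) (.leaf 0x9000601050002000703040103000e))))))

def argWS_7797 : Store := (.node 88026 (.node 88020 (.node 88017 (.node 88016 (.leaf 0x10901090004) (.leaf 0x701070009020007010009)) (.node 88018 (.leaf 0x90705020202010007) (.node 88019 (.leaf 0x903000901090006) (.leaf 0x20902020900000202000701000c)))) (.node 88023 (.node 88021 (.leaf 0x502010401050006) (.node 88022 (.leaf 0x30106030500040202000701000c) (.leaf 0x60102010904020802040105000c))) (.node 88024 (.leaf 0x10101090805000703040103000c) (.node 88025 (.leaf 0x6050105020604000703040103000d) (.leaf 0x1030009000009000703040103000d))))) (.node 88032 (.node 88029 (.node 88027 (.leaf 0x30002020900000802040105000c) (.node 88028 (.leaf 0x4000400030306040008) (.leaf 0x80000090206020008))) (.node 88030 (.leaf 0x70901090802040105000a) (.node 88031 (.leaf 0x40004060207020703040103000c) (.leaf 0x8000004080703040103000b))))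 (.node 88035 (.node 88033 (.leaf 0x9070202090000000703040103000d) (.node 88034 (.leaf 0x600070306000703040103000b) (.leaf 0x50300020804000802040105000d))) (.node 88036 (.leaf 0x80101020106060802040105000c) (.node 88037 (.leaf 0x200000300000006) (.leaf 0x60301010200000703040103000d))))))

def argWS_7798 : Store := (.node 88015 argWS_7796 argWS_7797)

def argWS_7799 : Store := (.node 87992 argWS_7795 argWS_7798)

def argWS_7800 : Store := (.node 87947 argWS_7792 argWS_7799)

def argWS_7801 : Store := (.node 87857 argWS_7785 argWS_7800)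

def argWS_7802 : Store := (.node 87677 argWS_7770 argWS_7801)

def argWS_7803 : Store := (.node 87316 argWS_7739 argWS_7802)

def argWS_7804 : Store := (.node 88049 (.node 88043 (.node 88040 (.node 88039 (.leaf 0x10001) (.leaf 0x1)) (.node 88041 (.leaf 0x30001) (.node 88042 (.leaf 0x1010002) (.leaf 0x1030002)))) (.node 88046 (.node 88044 (.leaf 0x1050002) (.node 88045 (.leaf 0x1070002) (.leaf 0x1080002))) (.node 88047 (.leaf 0x1090002) (.node 88048 (.leaf 0x2) (.leaf 0x50002))))) (.node 88054 (.node 88051 (.node 88050 (.leaf 0x70002) (.leaf 0x90002)) (.node 88052 (.leaf 0x3010002) (.node 88053 (.leaf 0x3000002) (.leaf 0x3030002)))) (.node 88057 (.node 88055 (.leaf 0x3050002) (.node 88056 (.leaf 0x3070002) (.leaf 0x702020901060202000701000b))) (.node 88058 (.leaf 0x2020002) (.node 88059 (.leaf 0x2050002) (.leaf 0x2070002))))))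

def argWS_7805 : Store := (.node 88071 (.node 88065 (.node 88062 (.node 88061 (.leaf 0x2090002) (.leaf 0x9010002)) (.node 88063 (.leaf 0x9000002) (.node 88064 (.leaf 0x20002090106000703040103000d) (.leaf 0x90201070009030007)))) (.node 88068 (.node 88066 (.leaf 0x9020106060802040105000a) (.node 88067 (.leaf 0x103010003) (.leaf 0x70108020401050007))) (.node 88069 (.leaf 0x6020401050005) (.node 88070 (.leaf 0x600030000000703040103000b) (.leaf 0x103080003))))) (.node 88077 (.node 88074 (.node 88072 (.leaf 0x7020000030000000703040103000d) (.node 88073 (.leaf 0x102020003) (.leaf 0x2040105020202010202000701000d))) (.node 88075 (.leaf 0x604010400050202000701000b) (.node 88076 (.leaf 0x5000206020007010008) (.leaf 0x602090402000703040103000b)))) (.node 88080 (.node 88078 (.leaf 0x105020003) (.node 88079 (.leaf 0x8050703060202000701000a) (.leaf 0x9030002020900000202000701000d))) (.node 88081 (.leaf 0x2040206020007010008) (.node 88082 (.leaf 0x107000003) (.leaf 0x107030003))))))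

def argWS_7806 : Store := (.node 88060 argWS_7804 argWS_7805)

def argWS_7807 : Store := (.node 88094 (.node 88088 (.node 88085 (.node 88084 (.leaf 0x70802020007010007) (.leaf 0x60601090806000007)) (.node 88086 (.leaf 0x2020000090206020008) (.node 88087 (.leaf 0x402020900000202000701000c) (.leaf 0x6040106010500020202000701000d)))) (.node 88091 (.node 88089 (.leaf 0x20500020804000007) (.node 88090 (.leaf 0x204000408010202000701000b) (.leaf 0x109030003))) (.node 88092 (.leaf 0x7000005020604000703040103000d) (.node 88093 (.leaf 0x20002090106000703040103000c) (.leaf 0x90003))))) (.node 88099 (.node 88096 (.node 88095 (.leaf 0x3010003) (.leaf 0x104020603000703040103000b)) (.node 88097 (.leaf 0x3080003) (.node 88098 (.leaf 0x7020009020602000703040103000d) (.leaf 0x3070002000003010802040105000d)))) (.node 88102 (.node 88100 (.leaf 0x2000003) (.node 88101 (.leaf 0x109030601050002000703040103000e) (.leaf 0x404090000090202000701000b))) (.node 88103 (.leaf 0x80200020000030703040103000c)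 (.node 88104 (.leaf 0x5030003) (.leaf 0x50000070209020007))))))

def argWS_7808 : Store := (.node 88116 (.node 88110 (.node 88107 (.node 88106 (.leaf 0x90300020901060007) (.leaf 0x4000003)) (.node 88108 (.leaf 0x107090805000703040103000b) (.node 88109 (.leaf 0x4010206020007010008) (.leaf 0x7030003)))) (.node 88113 (.node 88111 (.leaf 0x702070209020802040105000b) (.node 88112 (.leaf 0x40202010004) (.leaf 0x307050206040802040105000b))) (.node 88114 (.leaf 0x6000003) (.node 88115 (.leaf 0x6030003) (.leaf 0x8000003))))) (.node 88122 (.node 88119 (.node 88117 (.leaf 0x60908050005) (.node 88118 (.leaf 0x9000003) (.leaf 0x60000020106060007))) (.node 88120 (.leaf 0x300000003) (.node 88121 (.leaf 0x902060402020007010009) (.leaf 0x1040900090802040105000a)))) (.node 88125 (.node 88123 (.leaf 0x202020003) (.node 88124 (.leaf 0x4020500090206020802040105000d) (.leaf 0x200070306000703040103000b))) (.node 88126 (.leaf 0x501060608020401050009) (.node 88127 (.leaf 0x304030003)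 (.leaf 0x2000006010500020802040105000d))))))

def argWS_7809 : Store := (.node 88105 argWS_7807 argWS_7808)

def argWS_7810 : Store := (.node 88083 argWS_7806 argWS_7809)

def argWS_7811 : Store := (.node 88139 (.node 88133 (.node 88130 (.node 88129 (.leaf 0x6000901090802040105000b) (.leaf 0x107000401050006)) (.node 88131 (.leaf 0x10502070206000802040105000c) (.node 88132 (.leaf 0x20908050005) (.leaf 0x200080003)))) (.node 88136 (.node 88134 (.leaf 0x202000003) (.node 88135 (.leaf 0x101050202020703040103000b) (.leaf 0x7000000000300000008))) (.node 88137 (.leaf 0x204030003) (.node 88138 (.leaf 0x207030003) (.leaf 0x209010003))))) (.node 88144 (.node 88141 (.node 88140 (.leaf 0x601070206000202000701000b) (.leaf 0x3050206030802040105000a)) (.node 88142 (.leaf 0x8020908050202000701000a) (.node 88143 (.leaf 0x502020804000006) (.leaf 0x8000901090202000701000a)))) (.node 88147 (.node 88145 (.leaf 0x7030502020900000008) (.node 88146 (.leaf 0x6080102020007010008)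 (.leaf 0x903000003))) (.node 88148 (.leaf 0x3010005) (.node 88149 (.leaf 0x500000000030000000703040103000e) (.leaf 0x702090000090202000701000b))))))

def argWS_7812 : Store := (.node 88161 (.node 88155 (.node 88152 (.node 88151 (.leaf 0x604000900090802040105000b) (.leaf 0x90102020900000202000701000c)) (.node 88153 (.leaf 0x3030900090005) (.node 88154 (.leaf 0x5020901090202000701000a) (.leaf 0x70500030306040202000701000c)))) (.node 88158 (.node 88156 (.leaf 0x3040101090805000703040103000d) (.node 88157 (.leaf 0x402020900000202000701000b) (.leaf 0x10300070209020007))) (.node 88159 (.leaf 0x4000202020703040103000a) (.node 88160 (.leaf 0x907020901060802040105000b) (.leaf 0x602010904020006))))) (.node 88167 (.node 88164 (.node 88162 (.leaf 0x604000901090006) (.node 88163 (.leaf 0x40009000009000703040103000d) (.leaf 0x704010904020802040105000b))) (.node 88165 (.leaf 0x10303080004) (.node 88166 (.leaf 0x20202020901060802040105000c) (.leaf 0x3040301090805000703040103000d))))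 (.node 88170 (.node 88168 (.leaf 0x307090806000006) (.node 88169 (.leaf 0x4040603050004000703040103000d) (.leaf 0x307000206030802040105000b))) (.node 88171 (.leaf 0x6000901090802040105000a) (.node 88172 (.leaf 0x20901070209020007) (.leaf 0x20200020804000007))))))

def argWS_7813 : Store := (.node 88150 argWS_7811 argWS_7812)

def argWS_7814 : Store := (.node 88184 (.node 88178 (.node 88175 (.node 88174 (.leaf 0x20403070209020202000701000c) (.leaf 0x20200000408010007)) (.node 88176 (.leaf 0x90306020702010802040105000c) (.node 88177 (.leaf 0x8020703060202000701000a) (.leaf 0x503040005000703040103000c)))) (.node 88181 (.node 88179 (.leaf 0x8050000000300000802040105000d) (.node 88180 (.leaf 0x906090000090202000701000b) (.leaf 0x3040207020007010008))) (.node 88182 (.leaf 0x401090009000703040103000b) (.node 88183 (.leaf 0x20601010908050202000701000c) (.leaf 0x10401050004))))) (.node 88189 (.node 88186 (.node 88185 (.leaf 0x5020000020804000202000701000d) (.leaf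 0x800070209020006)) (.node 88187 (.leaf 0x406030500040006) (.node 88188 (.leaf 0x606010400050802040105000b) (.leaf 0x2090301070306000703040103000d)))) (.node 88192 (.node 88190 (.leaf 0x30401090806000802040105000c) (.node 88191 (.leaf 0x90009000009000703040103000c) (.leaf 0x409040202020007010009))) (.node 88193 (.leaf 0x4020505020202010802040105000d) (.node 88194 (.leaf 0x3090009000703040103000b) (.leaf 0x60106030500040802040105000c))))))

def argWS_7815 : Store := (.node 88206 (.node 88200 (.node 88197 (.node 88196 (.leaf 0x5090000090802040105000a) (.leaf 0x9000601050002000703040103000e)) (.node 88198 (.leaf 0x10901090004) (.node 88199 (.leaf 0x701070009020007010009) (.leaf 0x90705020202010007)))) (.node 88203 (.node 88201 (.leaf 0x502010401050006) (.node 88202 (.leaf 0x30106030500040202000701000c) (.leaf 0x10101090805000703040103000c))) (.node 88204 (.leaf 0x6050105020604000703040103000d) (.node 88205 (.leaf 0x1030009000009000703040103000d) (.leaf 0x30002020900000802040105000c)))))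 (.node 88212 (.node 88209 (.node 88207 (.leaf 0x4000400030306040008) (.node 88208 (.leaf 0x80000090206020008) (.leaf 0x70901090802040105000a))) (.node 88210 (.leaf 0x600070306000703040103000b) (.node 88211 (.leaf 0x50300020804000802040105000d) (.leaf 0x80101020106060802040105000c)))) (.node 88215 (.node 88213 (.leaf 0x400030009020602000703040103000e) (.node 88214 (.leaf 0x10001) (.leaf 0x1))) (.node 88216 (.leaf 0x30001) (.node 88217 (.leaf 0x1010002) (.leaf 0x1020002))))))

def argWS_7816 : Store := (.node 88195 argWS_7814 argWS_7815)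

def argWS_7817 : Store := (.node 88173 argWS_7813 argWS_7816)

def argWS_7818 : Store := (.node 88128 argWS_7810 argWS_7817)

def argWS_7819 : Store := (.node 88229 (.node 88223 (.node 88220 (.node 88219 (.leaf 0x1050002) (.leaf 0x1070002)) (.node 88221 (.leaf 0x1080002) (.node 88222 (.leaf 0x1090002) (.leaf 0x2)))) (.node 88226 (.node 88224 (.leaf 0x30002) (.node 88225 (.leaf 0x20002) (.leaf 0x50002))) (.node 88227 (.leaf 0x70002) (.node 88228 (.leaf 0x80002) (.leaf 0x90002))))) (.node 88234 (.node 88231 (.node 88230 (.leaf 0x3000002) (.leaf 0x3030002)) (.node 88232 (.leaf 0x3050002) (.node 88233 (.leaf 0x3070002) (.leaf 0x702020901060202000701000b)))) (.node 88237 (.node 88235 (.leaf 0x2010002) (.node 88236 (.leaf 0x2020002) (.leaf 0x2050002))) (.node 88238 (.leaf 0x2070002) (.node 88239 (.leaf 0x9010002) (.leaf 0x9000002))))))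

def argWS_7820 : Store := (.node 88251 (.node 88245 (.node 88242 (.node 88241 (.leaf 0x30106010500020802040105000c) (.leaf 0x20002090106000703040103000d)) (.node 88243 (.leaf 0x9020106060802040105000a) (.node 88244 (.leaf 0x70108020401050007) (.leaf 0x600030000000703040103000b)))) (.node 88248 (.node 88246 (.leaf 0x103080003) (.node 88247 (.leaf 0x7020000030000000703040103000d) (.leaf 0x102020003))) (.node 88249 (.leaf 0x102080003) (.node 88250 (.leaf 0x2040105020202010202000701000d) (.leaf 0x105020003))))) (.node 88257 (.node 88254 (.node 88252 (.leaf 0x8050703060202000701000a) (.node 88253 (.leaf 0x700070206000202000701000b) (.leaf 0x9030002020900000202000701000d))) (.node 88255 (.leaf 0x2040206020007010008) (.node 88256 (.leaf 0x107000003) (.leaf 0x70802020007010007)))) (.node 88260 (.node 88258 (.leaf 0x60601090806000007) (.node 88259 (.leaf 0x700090402000703040103000b) (.leaf 0x402020900000202000701000c))) (.node 88261 (.leaf 0x6040106010500020202000701000d)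 (.node 88262 (.leaf 0x20500020804000007) (.leaf 0x700000900090802040105000b))))))

def argWS_7821 : Store := (.node 88240 argWS_7819 argWS_7820)

def argWS_7822 : Store := (.node 88274 (.node 88268 (.node 88265 (.node 88264 (.leaf 0x300070209020006) (.leaf 0x7000005020604000703040103000d)) (.node 88266 (.leaf 0x1030106010500020802040105000d) (.node 88267 (.leaf 0x20002090106000703040103000c) (.leaf 0x90003)))) (.node 88271 (.node 88269 (.leaf 0x3010003) (.node 88270 (.leaf 0x105020901090006) (.leaf 0x104020603000703040103000b))) (.node 88272 (.leaf 0x3070002000003010802040105000d) (.node 88273 (.leaf 0x109030601050002000703040103000e) (.leaf 0x404090000090202000701000b))))) (.node 88279 (.node 88276 (.node 88275 (.leaf 0x80200020000030703040103000c) (.leaf 0x5030003)) (.node 88277 (.leaf 0x2050206030500040008) (.node 88278 (.leaf 0x90300020901060007) (.leaf 0x4000003)))) (.node 88282 (.node 88280 (.leaf 0x107090805000703040103000b) (.node 88281 (.leaf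 0x4020003) (.leaf 0x4010206020007010008))) (.node 88283 (.leaf 0x702070209020802040105000b) (.node 88284 (.leaf 0x40202010004) (.leaf 0x6000003))))))

def argWS_7823 : Store := (.node 88296 (.node 88290 (.node 88287 (.node 88286 (.leaf 0x6030003) (.leaf 0x8020007020902000703040103000d)) (.node 88288 (.leaf 0x8000003) (.node 88289 (.leaf 0x60908050005) (.leaf 0x9000003)))) (.node 88293 (.node 88291 (.leaf 0x60000020106060007) (.node 88292 (.leaf 0x1030106030500040202000701000d) (.leaf 0x300000003))) (.node 88294 (.leaf 0x7010207030005) (.node 88295 (.leaf 0x902060402020007010009) (.leaf 0x2020202010005))))) (.node 88302 (.node 88299 (.node 88297 (.leaf 0x1040900090802040105000a) (.node 88298 (.leaf 0x202020003) (.leaf 0x4020500090206020802040105000d))) (.node 88300 (.leaf 0x501060608020401050009) (.node 88301 (.leaf 0x304030003) (.leaf 0x2000006010500020802040105000d)))) (.node 88305 (.node 88303 (.leaf 0x6000901090802040105000b) (.node 88304 (.leaf 0x1020206020702010802040105000d)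 (.leaf 0x107000401050006))) (.node 88306 (.leaf 0x402020207030401030009) (.node 88307 (.leaf 0x10502070206000802040105000c) (.leaf 0x201090003))))))

def argWS_7824 : Store := (.node 88285 argWS_7822 argWS_7823)

def argWS_7825 : Store := (.node 88263 argWS_7821 argWS_7824)

def argWS_7826 : Store := (.node 88319 (.node 88313 (.node 88310 (.node 88309 (.leaf 0x200080003) (.leaf 0x202000003)) (.node 88311 (.leaf 0x906020000030703040103000b) (.node 88312 (.leaf 0x101050202020703040103000b) (.leaf 0x500090000090006)))) (.node 88316 (.node 88314 (.leaf 0x206030003) (.node 88315 (.leaf 0x209010003) (.leaf 0x601070206000202000701000b))) (.node 88317 (.leaf 0x3050206030802040105000a) (.node 88318 (.leaf 0x6050102000003010202000701000d) (.leaf 0x8000901090202000701000a))))) (.node 88324 (.node 88321 (.node 88320 (.leaf 0x6080102020007010008) (.leaf 0x903000003)) (.node 88322 (.leaf 0x3010005) (.node 88323 (.leaf 0x702090000090202000701000b) (.leaf 0x90102020900000202000701000c))))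 (.node 88327 (.node 88325 (.leaf 0x70500030306040202000701000c) (.node 88326 (.leaf 0x3040101090805000703040103000d) (.leaf 0x10300070209020007))) (.node 88328 (.leaf 0x4000202020703040103000a) (.node 88329 (.leaf 0x907020901060802040105000b) (.leaf 0x602010904020006))))))

def argWS_7827 : Store := (.node 88341 (.node 88335 (.node 88332 (.node 88331 (.leaf 0x604000901090006) (.leaf 0x40009000009000703040103000d)) (.node 88333 (.leaf 0x704010904020802040105000b) (.node 88334 (.leaf 0x10303080004) (.leaf 0x20202020901060802040105000c)))) (.node 88338 (.node 88336 (.leaf 0x307090806000006) (.node 88337 (.leaf 0x4040603050004000703040103000d) (.leaf 0x20106030500040802040105000c))) (.node 88339 (.leaf 0x307000206030802040105000b) (.node 88340 (.leaf 0x4030009020602000703040103000d) (.leaf 0x908050007030401030009))))) (.node 88347 (.node 88344 (.node 88342 (.leaf 0x20200020804000007) (.node 88343 (.leaf 0x20403070209020202000701000c) (.leaf 0x90306020702010802040105000c)))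 (.node 88345 (.leaf 0x10206030004) (.node 88346 (.leaf 0x605020804000202000701000b) (.leaf 0x503040005000703040103000c)))) (.node 88350 (.node 88348 (.leaf 0x8050000000300000802040105000d) (.node 88349 (.leaf 0x906090000090202000701000b) (.leaf 0x3040207020007010008))) (.node 88351 (.leaf 0x401090009000703040103000b) (.node 88352 (.leaf 0x20601010908050202000701000c) (.leaf 0x10401050004))))))

def argWS_7828 : Store := (.node 88330 argWS_7826 argWS_7827)

def argWS_7829 : Store := (.node 88364 (.node 88358 (.node 88355 (.node 88354 (.leaf 0x5020000020804000202000701000d) (.leaf 0x800070209020006)) (.node 88356 (.leaf 0x406030500040006) (.node 88357 (.leaf 0x2090301070306000703040103000d) (.leaf 0x30401090806000802040105000c)))) (.node 88361 (.node 88359 (.leaf 0x90009000009000703040103000c) (.node 88360 (.leaf 0x409040202020007010009) (.leaf 0x4020505020202010802040105000d))) (.node 88362 (.leaf 0x3090009000703040103000b) (.node 88363 (.leaf 0x60106030500040802040105000c)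 (.leaf 0x5090000090802040105000a))))) (.node 88370 (.node 88367 (.node 88365 (.leaf 0x10901090004) (.node 88366 (.leaf 0x701070009020007010009) (.leaf 0x90705020202010007))) (.node 88368 (.leaf 0x903000901090006) (.node 88369 (.leaf 0x20902020900000202000701000c) (.leaf 0x502010401050006)))) (.node 88373 (.node 88371 (.leaf 0x30106030500040202000701000c) (.node 88372 (.leaf 0x10101090805000703040103000c) (.leaf 0x1030009000009000703040103000d))) (.node 88374 (.leaf 0x30002020900000802040105000c) (.node 88375 (.leaf 0x80000090206020008) (.leaf 0x70901090802040105000a))))))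

def argWS_7830 : Store := (.node 88387 (.node 88381 (.node 88378 (.node 88377 (.leaf 0x40004060207020703040103000c) (.leaf 0x8000004080703040103000b)) (.node 88379 (.leaf 0x9070202090000000703040103000d) (.node 88380 (.leaf 0x600070306000703040103000b) (.leaf 0x50300020804000802040105000d)))) (.node 88384 (.node 88382 (.leaf 0x80101020106060802040105000c) (.node 88383 (.leaf 0x204010900090006) (.leaf 0x200000300000006))) (.node 88385 (.leaf 0x60301010200000703040103000d) (.node 88386 (.leaf 0x1) (.leaf 0x30001))))) (.node 88393 (.node 88390 (.node 88388 (.leaf 0x20001) (.node 88389 (.leaf 0x90001) (.leaf 0x1010002))) (.node 88391 (.leaf 0x1030002) (.node 88392 (.leaf 0x1020002) (.leaf 0x1050002)))) (.node 88396 (.node 88394 (.leaf 0x1070002) (.node 88395 (.leaf 0x1080002) (.leaf 0x1090002))) (.node 88397 (.leaf 0x2) (.node 88398 (.leaf 0x30002) (.leaf 0x20002))))))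

def argWS_7831 : Store := (.node 88376 argWS_7829 argWS_7830)

def argWS_7832 : Store := (.node 88353 argWS_7828 argWS_7831)

def argWS_7833 : Store := (.node 88308 argWS_7825 argWS_7832)

def argWS_7834 : Store := (.node 88218 argWS_7818 argWS_7833)

def argWS_7835 : Store := (.node 88410 (.node 88404 (.node 88401 (.node 88400 (.leaf 0x50002) (.leaf 0x70002)) (.node 88402 (.leaf 0x90002) (.node 88403 (.leaf 0x3010002) (.leaf 0x3030002)))) (.node 88407 (.node 88405 (.leaf 0x3050002) (.node 88406 (.leaf 0x3070002) (.leaf 0x2010002))) (.node 88408 (.leaf 0x2000002) (.node 88409 (.leaf 0x2020002) (.leaf 0x2050002))))) (.node 88415 (.node 88412 (.node 88411 (.leaf 0x2090002) (.leaf 0x9010002)) (.node 88413 (.leaf 0x9000002) (.node 88414 (.leaf 0x30106010500020802040105000c) (.leaf 0x20002090106000703040103000d)))) (.node 88418 (.node 88416 (.leaf 0x90201070009030007) (.node 88417 (.leaf 0x9020106060802040105000a) (.leaf 0x103010003))) (.node 88419 (.leaf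 0x70108020401050007) (.node 88420 (.leaf 0x6020401050005) (.leaf 0x600030000000703040103000b))))))

def argWS_7836 : Store := (.node 88432 (.node 88426 (.node 88423 (.node 88422 (.leaf 0x103080003) (.leaf 0x7020000030000000703040103000d)) (.node 88424 (.leaf 0x102020003) (.node 88425 (.leaf 0x102080003) (.leaf 0x2040105020202010202000701000d)))) (.node 88429 (.node 88427 (.leaf 0x604010400050202000701000b) (.node 88428 (.leaf 0x5000206020007010008) (.leaf 0x105020003))) (.node 88430 (.leaf 0x8050703060202000701000a) (.node 88431 (.leaf 0x700070206000202000701000b) (.leaf 0x104000003))))) (.node 88438 (.node 88435 (.node 88433 (.leaf 0x9030002020900000202000701000d) (.node 88434 (.leaf 0x2040206020007010008) (.leaf 0x5000000000300000802040105000d))) (.node 88436 (.leaf 0x107030003) (.node 88437 (.leaf 0x70802020007010007) (.leaf 0x60601090806000007)))) (.node 88441 (.node 88439 (.leaf 0x2020000090206020008) (.node 88440 (.leaf 0x700090402000703040103000b)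 (.leaf 0x402020900000202000701000c))) (.node 88442 (.leaf 0x20500020804000007) (.node 88443 (.leaf 0x700000900090802040105000b) (.leaf 0x300070209020006))))))

def argWS_7837 : Store := (.node 88421 argWS_7835 argWS_7836)

def argWS_7838 : Store := (.node 88455 (.node 88449 (.node 88446 (.node 88445 (.leaf 0x7000005020604000703040103000d) (.leaf 0x105020901090006)) (.node 88447 (.leaf 0x104020603000703040103000b) (.node 88448 (.leaf 0x3080003) (.leaf 0x7020009020602000703040103000d)))) (.node 88452 (.node 88450 (.leaf 0x3070002000003010802040105000d) (.node 88451 (.leaf 0x2000003) (.leaf 0x109030601050002000703040103000e))) (.node 88453 (.leaf 0x404090000090202000701000b) (.node 88454 (.leaf 0x80200020000030703040103000c) (.leaf 0x5030003))))) (.node 88460 (.node 88457 (.node 88456 (.leaf 0x50000070209020007) (.leaf 0x2050206030500040008)) (.node 88458 (.leaf 0x90300020901060007) (.node 88459 (.leaf 0x4000003) (.leaf 0x107090805000703040103000b)))) (.node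 88463 (.node 88461 (.leaf 0x4010206020007010008) (.node 88462 (.leaf 0x702070209020802040105000b) (.leaf 0x40202010004))) (.node 88464 (.leaf 0x6030003) (.node 88465 (.leaf 0x8020007020902000703040103000d) (.leaf 0x60908050005))))))

def argWS_7839 : Store := (.node 88477 (.node 88471 (.node 88468 (.node 88467 (.leaf 0x20401010703060802040105000c) (.leaf 0x9000003)) (.node 88469 (.leaf 0x60000020106060007) (.node 88470 (.leaf 0x1030106030500040202000701000d) (.leaf 0x300000003)))) (.node 88474 (.node 88472 (.leaf 0x2020202010005) (.node 88473 (.leaf 0x1040900090802040105000a) (.leaf 0x202020003))) (.node 88475 (.leaf 0x200070306000703040103000b) (.node 88476 (.leaf 0x501060608020401050009) (.leaf 0x304030003))))) (.node 88483 (.node 88480 (.node 88478 (.leaf 0x2000006010500020802040105000d) (.node 88479 (.leaf 0x6000901090802040105000b) (.leaf 0x1020206020702010802040105000d))) (.node 88481 (.leaf 0x10502070206000802040105000c) (.node 88482 (.leaf 0x201090003)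 (.leaf 0x20908050005)))) (.node 88486 (.node 88484 (.leaf 0x200080003) (.node 88485 (.leaf 0x200090003) (.leaf 0x906020000030703040103000b))) (.node 88487 (.leaf 0x500090000090006) (.node 88488 (.leaf 0x7000000000300000008) (.leaf 0x1030002020900000802040105000d))))))

def argWS_7840 : Store := (.node 88466 argWS_7838 argWS_7839)

def argWS_7841 : Store := (.node 88444 argWS_7837 argWS_7840)

def argWS_7842 : Store := (.node 88500 (.node 88494 (.node 88491 (.node 88490 (.leaf 0x207030003) (.leaf 0x206030003)) (.node 88492 (.leaf 0x209010003) (.node 88493 (.leaf 0x3050206030802040105000a) (.leaf 0x8020908050202000701000a)))) (.node 88497 (.node 88495 (.leaf 0x502020804000006) (.node 88496 (.leaf 0x6050102000003010202000701000d) (.leaf 0x7030502020900000008))) (.node 88498 (.leaf 0x6080102020007010008) (.node 88499 (.leaf 0x903000003) (.leaf 0x3010005))))) (.node 88505 (.node 88502 (.node 88501 (.leaf 0x500000000030000000703040103000e) (.leaf 0x702090000090202000701000b))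 (.node 88503 (.leaf 0x604000900090802040105000b) (.node 88504 (.leaf 0x90102020900000202000701000c) (.leaf 0x3030900090005)))) (.node 88508 (.node 88506 (.leaf 0x70500030306040202000701000c) (.node 88507 (.leaf 0x3040101090805000703040103000d) (.leaf 0x402020900000202000701000b))) (.node 88509 (.leaf 0x10300070209020007) (.node 88510 (.leaf 0x907020901060802040105000b) (.leaf 0x602010904020006))))))

def argWS_7843 : Store := (.node 88522 (.node 88516 (.node 88513 (.node 88512 (.leaf 0x40009000009000703040103000d) (.leaf 0x704010904020802040105000b)) (.node 88514 (.leaf 0x10303080004) (.node 88515 (.leaf 0x3070002020900000202000701000d) (.leaf 0x307000206030802040105000b)))) (.node 88519 (.node 88517 (.leaf 0x6000901090802040105000a) (.node 88518 (.leaf 0x4030009020602000703040103000d) (.leaf 0x908050007030401030009))) (.node 88520 (.leaf 0x20901070209020007) (.node 88521 (.leaf 0x20200020804000007) (.leaf 0x20403070209020202000701000c))))) (.node 88528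 (.node 88525 (.node 88523 (.leaf 0x90306020702010802040105000c) (.node 88524 (.leaf 0x10206030004) (.leaf 0x605020804000202000701000b))) (.node 88526 (.leaf 0x8020703060202000701000a) (.node 88527 (.leaf 0x503040005000703040103000c) (.leaf 0x8050000000300000802040105000d)))) (.node 88531 (.node 88529 (.leaf 0x906090000090202000701000b) (.node 88530 (.leaf 0x3040207020007010008) (.leaf 0x401090009000703040103000b))) (.node 88532 (.leaf 0x102010908050802040105000b) (.node 88533 (.leaf 0x20601010908050202000701000c) (.leaf 0x10401050004))))))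

def argWS_7844 : Store := (.node 88511 argWS_7842 argWS_7843)

def argWS_7845 : Store := (.node 88545 (.node 88539 (.node 88536 (.node 88535 (.leaf 0x5020000020804000202000701000d) (.leaf 0x800070209020006)) (.node 88537 (.leaf 0x406030500040006) (.node 88538 (.leaf 0x606010400050802040105000b) (.leaf 0x2090301070306000703040103000d)))) (.node 88542 (.node 88540 (.leaf 0x30401090806000802040105000c) (.node 88541 (.leaf 0x90009000009000703040103000c) (.leaf 0x409040202020007010009))) (.node 88543 (.leaf 0x3090009000703040103000b) (.node 88544 (.leaf 0x60106030500040802040105000c) (.leaf 0x5090000090802040105000a))))) (.node 88550 (.node 88547 (.node 88546 (.leaf 0x9000601050002000703040103000e) (.leaf 0x10901090004)) (.node 88548 (.leaf 0x90705020202010007) (.node 88549 (.leaf 0x903000901090006) (.leaf 0x20902020900000202000701000c)))) (.node 88553 (.node 88551 (.leaf 0x502010401050006) (.node 88552 (.leaf 0x10101090805000703040103000c) (.leaf 0x1030009000009000703040103000d)))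 (.node 88554 (.leaf 0x4000400030306040008) (.node 88555 (.leaf 0x80000090206020008) (.leaf 0x70901090802040105000a))))))

def argWS_7846 : Store := (.node 88567 (.node 88561 (.node 88558 (.node 88557 (.leaf 0x8000004080703040103000b) (.leaf 0x600070306000703040103000b)) (.node 88559 (.leaf 0x50300020804000802040105000d) (.node 88560 (.leaf 0x202000003010802040105000c) (.leaf 0x204010900090006)))) (.node 88564 (.node 88562 (.leaf 0x400030009020602000703040103000e) (.node 88563 (.leaf 0x60301010200000703040103000d) (.leaf 0x10001))) (.node 88565 (.leaf 0x1) (.node 88566 (.leaf 0x30001) (.leaf 0x20001))))) (.node 88573 (.node 88570 (.node 88568 (.leaf 0x1030002) (.node 88569 (.leaf 0x1050002) (.leaf 0x1080002))) (.node 88571 (.leaf 0x1090002) (.node 88572 (.leaf 0x30002) (.leaf 0x20002)))) (.node 88576 (.node 88574 (.leaf 0x90002) (.node 88575 (.leaf 0x3010002) (.leaf 0x2000002))) (.node 88577 (.leaf 0x2050002) (.node 88578 (.leaf 0x20002090106000703040103000d)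 (.leaf 0x70108020401050007))))))

def argWS_7847 : Store := (.node 88556 argWS_7845 argWS_7846)

def argWS_7848 : Store := (.node 88534 argWS_7844 argWS_7847)

def argWS_7849 : Store := (.node 88489 argWS_7841 argWS_7848)

def argWS_7850 : Store := (.node 88590 (.node 88584 (.node 88581 (.node 88580 (.leaf 0x3070002000003010802040105000d) (.leaf 0x10001)) (.node 88582 (.leaf 0x1) (.node 88583 (.leaf 0x30001) (.leaf 0x20001)))) (.node 88587 (.node 88585 (.leaf 0x1010002) (.node 88586 (.leaf 0x1030002) (.leaf 0x1020002))) (.node 88588 (.leaf 0x1050002) (.node 88589 (.leaf 0x1080002) (.leaf 0x1090002))))) (.node 88595 (.node 88592 (.node 88591 (.leaf 0x2) (.leaf 0x30002)) (.node 88593 (.leaf 0x20002) (.node 88594 (.leaf 0x50002) (.leaf 0x70002)))) (.node 88598 (.node 88596 (.leaf 0x80002) (.node 88597 (.leaf 0x90002) (.leaf 0x3010002))) (.node 88599 (.leaf 0x3000002) (.node 88600 (.leaf 0x3030002) (.leaf 0x3050002))))))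

def argWS_7851 : Store := (.node 88612 (.node 88606 (.node 88603 (.node 88602 (.leaf 0x3070002) (.leaf 0x702020901060202000701000b)) (.node 88604 (.leaf 0x2010002) (.node 88605 (.leaf 0x2000002) (.leaf 0x2020002)))) (.node 88609 (.node 88607 (.leaf 0x2050002) (.node 88608 (.leaf 0x2070002) (.leaf 0x2090002))) (.node 88610 (.leaf 0x9010002) (.node 88611 (.leaf 0x9000002) (.leaf 0x30106010500020802040105000c))))) (.node 88618 (.node 88615 (.node 88613 (.leaf 0x20002090106000703040103000d) (.node 88614 (.leaf 0x90201070009030007) (.leaf 0x9020106060802040105000a))) (.node 88616 (.leaf 0x70108020401050007) (.node 88617 (.leaf 0x6020401050005) (.leaf 0x600030000000703040103000b)))) (.node 88621 (.node 88619 (.leaf 0x7020000030000000703040103000d) (.node 88620 (.leaf 0x102020003) (.leaf 0x2040105020202010202000701000d))) (.node 88622 (.leaf 0x604010400050202000701000b) (.node 88623 (.leaf 0x5000206020007010008) (.leaf 0x602090402000703040103000b))))))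

def argWS_7852 : Store := (.node 88601 argWS_7850 argWS_7851)

def argWS_7853 : Store := (.node 88635 (.node 88629 (.node 88626 (.node 88625 (.leaf 0x105020003) (.leaf 0x8050703060202000701000a)) (.node 88627 (.leaf 0x104000003) (.node 88628 (.leaf 0x9030002020900000202000701000d) (.leaf 0x2040206020007010008)))) (.node 88632 (.node 88630 (.leaf 0x5000000000300000802040105000d) (.node 88631 (.leaf 0x107000003) (.leaf 0x107030003))) (.node 88633 (.leaf 0x70802020007010007) (.node 88634 (.leaf 0x60601090806000007) (.leaf 0x402020900000202000701000c))))) (.node 88640 (.node 88637 (.node 88636 (.leaf 0x6040106010500020202000701000d) (.leaf 0x20500020804000007)) (.node 88638 (.leaf 0x700000900090802040105000b) (.node 88639 (.leaf 0x300070209020006) (.leaf 0x204000408010202000701000b)))) (.node 88643 (.node 88641 (.leaf 0x109030003) (.node 88642 (.leaf 0x1030106010500020802040105000d) (.leaf 0x20002090106000703040103000c))) (.node 88644 (.leaf 0x90003) (.node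 88645 (.leaf 0x105020901090006) (.leaf 0x104020603000703040103000b))))))

def argWS_7854 : Store := (.node 88657 (.node 88651 (.node 88648 (.node 88647 (.leaf 0x3080003) (.leaf 0x7020009020602000703040103000d)) (.node 88649 (.leaf 0x3070002000003010802040105000d) (.node 88650 (.leaf 0x109030601050002000703040103000e) (.leaf 0x404090000090202000701000b)))) (.node 88654 (.node 88652 (.leaf 0x10300020106060202000701000c) (.node 88653 (.leaf 0x80200020000030703040103000c) (.leaf 0x5030003))) (.node 88655 (.leaf 0x50000070209020007) (.node 88656 (.leaf 0x90300020901060007) (.leaf 0x4000003))))) (.node 88663 (.node 88660 (.node 88658 (.leaf 0x107090805000703040103000b) (.node 88659 (.leaf 0x4020003) (.leaf 0x4010206020007010008))) (.node 88661 (.leaf 0x7030003) (.node 88662 (.leaf 0x702070209020802040105000b) (.leaf 0x40202010004)))) (.node 88666 (.node 88664 (.leaf 0x307050206040802040105000b) (.node 88665 (.leaf 0x6000003) (.leaf 0x8020007020902000703040103000d)))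 (.node 88667 (.leaf 0x60908050005) (.node 88668 (.leaf 0x20401010703060802040105000c) (.leaf 0x9000003))))))

def argWS_7855 : Store := (.node 88646 argWS_7853 argWS_7854)

def argWS_7856 : Store := (.node 88624 argWS_7852 argWS_7855)

def argWS_7857 : Store := (.node 88680 (.node 88674 (.node 88671 (.node 88670 (.leaf 0x60000020106060007) (.leaf 0x1030106030500040202000701000d)) (.node 88672 (.leaf 0x103010207030802040105000b) (.node 88673 (.leaf 0x300000003) (.leaf 0x2020202010005)))) (.node 88677 (.node 88675 (.leaf 0x1040900090802040105000a) (.node 88676 (.leaf 0x4020500090206020802040105000d) (.leaf 0x200070306000703040103000b))) (.node 88678 (.leaf 0x602010301010200000703040103000e) (.node 88679 (.leaf 0x501060608020401050009) (.leaf 0x304030003))))) (.node 88685 (.node 88682 (.node 88681 (.leaf 0x2000006010500020802040105000d) (.leaf 0x6000901090802040105000b)) (.node 88683 (.leaf 0x1020206020702010802040105000d) (.node 88684 (.leaf 0x107000401050006)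 (.leaf 0x10502070206000802040105000c)))) (.node 88688 (.node 88686 (.leaf 0x201090003) (.node 88687 (.leaf 0x20908050005) (.leaf 0x200090003))) (.node 88689 (.leaf 0x202000003) (.node 88690 (.leaf 0x906020000030703040103000b) (.leaf 0x101050202020703040103000b))))))

def argWS_7858 : Store := (.node 88702 (.node 88696 (.node 88693 (.node 88692 (.leaf 0x500090000090006) (.leaf 0x204030003)) (.node 88694 (.leaf 0x1030002020900000802040105000d) (.node 88695 (.leaf 0x207030003) (.leaf 0x206030003)))) (.node 88699 (.node 88697 (.leaf 0x601070206000202000701000b) (.node 88698 (.leaf 0x3050206030802040105000a) (.leaf 0x502020804000006))) (.node 88700 (.leaf 0x6050102000003010202000701000d) (.node 88701 (.leaf 0x8000901090202000701000a) (.leaf 0x6080102020007010008))))) (.node 88708 (.node 88705 (.node 88703 (.leaf 0x903000003) (.node 88704 (.leaf 0x3010005) (.leaf 0x500000000030000000703040103000e))) (.node 88706 (.leaf 0x702090000090202000701000b) (.node 88707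 (.leaf 0x604000900090802040105000b) (.leaf 0x90102020900000202000701000c)))) (.node 88711 (.node 88709 (.leaf 0x3030900090005) (.node 88710 (.leaf 0x5020901090202000701000a) (.leaf 0x70500030306040202000701000c))) (.node 88712 (.leaf 0x3040101090805000703040103000d) (.node 88713 (.leaf 0x402020900000202000701000b) (.leaf 0x4000202020703040103000a))))))

def argWS_7859 : Store := (.node 88691 argWS_7857 argWS_7858)

def argWS_7860 : Store := (.node 88725 (.node 88719 (.node 88716 (.node 88715 (.leaf 0x907020901060802040105000b) (.leaf 0x604000901090006)) (.node 88717 (.leaf 0x40009000009000703040103000d) (.node 88718 (.leaf 0x704010904020802040105000b) (.leaf 0x10303080004)))) (.node 88722 (.node 88720 (.leaf 0x3040301090805000703040103000d) (.node 88721 (.leaf 0x307090806000006) (.leaf 0x4040603050004000703040103000d))) (.node 88723 (.leaf 0x3070002020900000202000701000d) (.node 88724 (.leaf 0x4030009020602000703040103000d) (.leaf 0x20200020804000007)))))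 (.node 88731 (.node 88728 (.node 88726 (.leaf 0x20403070209020202000701000c) (.node 88727 (.leaf 0x90306020702010802040105000c) (.leaf 0x10206030004))) (.node 88729 (.leaf 0x605020804000202000701000b) (.node 88730 (.leaf 0x8020703060202000701000a) (.leaf 0x503040005000703040103000c)))) (.node 88734 (.node 88732 (.leaf 0x8050000000300000802040105000d) (.node 88733 (.leaf 0x906090000090202000701000b) (.leaf 0x3040207020007010008))) (.node 88735 (.leaf 0x401090009000703040103000b) (.node 88736 (.leaf 0x102010908050802040105000b) (.leaf 0x20601010908050202000701000c))))))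

def argWS_7861 : Store := (.node 88748 (.node 88742 (.node 88739 (.node 88738 (.leaf 0x5020000020804000202000701000d) (.leaf 0x800070209020006)) (.node 88740 (.leaf 0x406030500040006) (.node 88741 (.leaf 0x606010400050802040105000b) (.leaf 0x30401090806000802040105000c)))) (.node 88745 (.node 88743 (.leaf 0x90009000009000703040103000c) (.node 88744 (.leaf 0x409040202020007010009) (.leaf 0x3090009000703040103000b))) (.node 88746 (.leaf 0x9000601050002000703040103000e) (.node 88747 (.leaf 0x10901090004) (.leaf 0x701070009020007010009))))) (.node 88754 (.node 88751 (.node 88749 (.leaf 0x903000901090006) (.node 88750 (.leaf 0x20902020900000202000701000c) (.leaf 0x502010401050006))) (.node 88752 (.leaf 0x30106030500040202000701000c) (.node 88753 (.leaf 0x60102010904020802040105000c) (.leaf 0x10101090805000703040103000c)))) (.node 88757 (.node 88755 (.leaf 0x6050105020604000703040103000d) (.node 88756 (.leaf 0x4000400030306040008) (.leaf 0x80000090206020008)))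 (.node 88758 (.leaf 0x70901090802040105000a) (.node 88759 (.leaf 0x40004060207020703040103000c) (.leaf 0x8000004080703040103000b))))))

def argWS_7862 : Store := (.node 88737 argWS_7860 argWS_7861)

def argWS_7863 : Store := (.node 88714 argWS_7859 argWS_7862)

def argWS_7864 : Store := (.node 88669 argWS_7856 argWS_7863)

def argWS_7865 : Store := (.node 88579 argWS_7849 argWS_7864)

def argWS_7866 : Store := (.node 88399 argWS_7834 argWS_7865)

def argWS_7867 : Store := (.node 88771 (.node 88765 (.node 88762 (.node 88761 (.leaf 0x9070202090000000703040103000d) (.leaf 0x50300020804000802040105000d)) (.node 88763 (.leaf 0x80101020106060802040105000c) (.node 88764 (.leaf 0x204010900090006) (.leaf 0x200000300000006)))) (.node 88768 (.node 88766 (.leaf 0x400030009020602000703040103000e) (.node 88767 (.leaf 0x60301010200000703040103000d) (.leaf 0x10001))) (.node 88769 (.leaf 0x1) (.node 88770 (.leaf 0x30001) (.leaf 0x20001))))) (.node 88776 (.node 88773 (.node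 88772 (.leaf 0x1010002) (.leaf 0x1030002)) (.node 88774 (.leaf 0x1050002) (.node 88775 (.leaf 0x1070002) (.leaf 0x1090002)))) (.node 88779 (.node 88777 (.leaf 0x2) (.node 88778 (.leaf 0x30002) (.leaf 0x20002))) (.node 88780 (.leaf 0x50002) (.node 88781 (.leaf 0x70002) (.leaf 0x80002))))))

def argWS_7868 : Store := (.node 88793 (.node 88787 (.node 88784 (.node 88783 (.leaf 0x90002) (.leaf 0x3010002)) (.node 88785 (.leaf 0x3000002) (.node 88786 (.leaf 0x702020901060202000701000b) (.leaf 0x2010002)))) (.node 88790 (.node 88788 (.leaf 0x2020002) (.node 88789 (.leaf 0x2050002) (.leaf 0x2090002))) (.node 88791 (.leaf 0x20002090106000703040103000d) (.node 88792 (.leaf 0x6020401050005) (.leaf 0x600030000000703040103000b))))) (.node 88799 (.node 88796 (.node 88794 (.leaf 0x103080003) (.node 88795 (.leaf 0x7020000030000000703040103000d) (.leaf 0x102020003))) (.node 88797 (.leaf 0x102080003) (.node 88798 (.leaf 0x5000206020007010008) (.leaf 0x602090402000703040103000b))))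 (.node 88802 (.node 88800 (.leaf 0x105020003) (.node 88801 (.leaf 0x700070206000202000701000b) (.leaf 0x2040206020007010008))) (.node 88803 (.leaf 0x402020900000202000701000c) (.node 88804 (.leaf 0x6040106010500020202000701000d) (.leaf 0x90003))))))

def argWS_7869 : Store := (.node 88782 argWS_7867 argWS_7868)

def argWS_7870 : Store := (.node 88816 (.node 88810 (.node 88807 (.node 88806 (.leaf 0x3070002000003010802040105000d) (.leaf 0x5030003)) (.node 88808 (.leaf 0x4020003) (.node 88809 (.leaf 0x200090003) (.leaf 0x10001)))) (.node 88813 (.node 88811 (.leaf 0x1) (.node 88812 (.leaf 0x30001) (.leaf 0x20001))) (.node 88814 (.leaf 0x90001) (.node 88815 (.leaf 0x1010002) (.leaf 0x1030002))))) (.node 88821 (.node 88818 (.node 88817 (.leaf 0x1020002) (.leaf 0x1050002)) (.node 88819 (.leaf 0x1070002) (.node 88820 (.leaf 0x1090002) (.leaf 0x30002)))) (.node 88824 (.node 88822 (.leaf 0x20002) (.node 88823 (.leaf 0x80002) (.leaf 0x90002))) (.node 88825 (.leaf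 0x3010002) (.node 88826 (.leaf 0x3000002) (.leaf 0x3030002))))))

def argWS_7871 : Store := (.node 88838 (.node 88832 (.node 88829 (.node 88828 (.leaf 0x3070002) (.leaf 0x702020901060202000701000b)) (.node 88830 (.leaf 0x2000002) (.node 88831 (.leaf 0x2020002) (.leaf 0x2050002)))) (.node 88835 (.node 88833 (.leaf 0x2070002) (.node 88834 (.leaf 0x2090002) (.leaf 0x9010002))) (.node 88836 (.leaf 0x9000002) (.node 88837 (.leaf 0x30106010500020802040105000c) (.leaf 0x20002090106000703040103000d))))) (.node 88844 (.node 88841 (.node 88839 (.leaf 0x90201070009030007) (.node 88840 (.leaf 0x9020106060802040105000a) (.leaf 0x103010003))) (.node 88842 (.leaf 0x600030000000703040103000b) (.node 88843 (.leaf 0x103080003) (.leaf 0x7020000030000000703040103000d)))) (.node 88847 (.node 88845 (.leaf 0x102020003) (.node 88846 (.leaf 0x102080003) (.leaf 0x604010400050202000701000b))) (.node 88848 (.leaf 0x5000206020007010008) (.node 88849 (.leaf 0x602090402000703040103000b)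 (.leaf 0x105020003))))))

def argWS_7872 : Store := (.node 88827 argWS_7870 argWS_7871)

def argWS_7873 : Store := (.node 88805 argWS_7869 argWS_7872)

def argWS_7874 : Store := (.node 88861 (.node 88855 (.node 88852 (.node 88851 (.leaf 0x700070206000202000701000b) (.leaf 0x9030002020900000202000701000d)) (.node 88853 (.leaf 0x107000003) (.node 88854 (.leaf 0x107030003) (.leaf 0x70802020007010007)))) (.node 88858 (.node 88856 (.leaf 0x60601090806000007) (.node 88857 (.leaf 0x2020000090206020008) (.leaf 0x700090402000703040103000b))) (.node 88859 (.leaf 0x20500020804000007) (.node 88860 (.leaf 0x700000900090802040105000b) (.leaf 0x300070209020006))))) (.node 88866 (.node 88863 (.node 88862 (.leaf 0x109030003) (.leaf 0x7000005020604000703040103000d)) (.node 88864 (.leaf 0x90003) (.node 88865 (.leaf 0x3010003) (.leaf 0x105020901090006)))) (.node 88869 (.node 88867 (.leaf 0x104020603000703040103000b) (.node 88868 (.leaf 0x3080003) (.leaf 0x3070002000003010802040105000d)))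 (.node 88870 (.leaf 0x404090000090202000701000b) (.node 88871 (.leaf 0x5030003) (.leaf 0x50000070209020007))))))

def argWS_7875 : Store := (.node 88883 (.node 88877 (.node 88874 (.node 88873 (.leaf 0x2050206030500040008) (.leaf 0x4000003)) (.node 88875 (.leaf 0x107090805000703040103000b) (.node 88876 (.leaf 0x4010206020007010008) (.leaf 0x7030003)))) (.node 88880 (.node 88878 (.leaf 0x40202010004) (.node 88879 (.leaf 0x307050206040802040105000b) (.leaf 0x6000003))) (.node 88881 (.leaf 0x6030003) (.node 88882 (.leaf 0x60908050005) (.leaf 0x20401010703060802040105000c))))) (.node 88889 (.node 88886 (.node 88884 (.leaf 0x60000020106060007) (.node 88885 (.leaf 0x1030106030500040202000701000d) (.leaf 0x300000003))) (.node 88887 (.leaf 0x7010207030005) (.node 88888 (.leaf 0x902060402020007010009) (.leaf 0x2020202010005)))) (.node 88892 (.node 88890 (.leaf 0x1040900090802040105000a) (.node 88891 (.leaf 0x4020500090206020802040105000d) (.leaf 0x200070306000703040103000b)))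 (.node 88893 (.leaf 0x602010301010200000703040103000e) (.node 88894 (.leaf 0x304030003) (.leaf 0x2000006010500020802040105000d))))))

def argWS_7876 : Store := (.node 88872 argWS_7874 argWS_7875)

def argWS_7877 : Store := (.node 88906 (.node 88900 (.node 88897 (.node 88896 (.leaf 0x6000901090802040105000b) (.leaf 0x1020206020702010802040105000d)) (.node 88898 (.leaf 0x107000401050006) (.node 88899 (.leaf 0x402020207030401030009) (.leaf 0x10502070206000802040105000c)))) (.node 88903 (.node 88901 (.leaf 0x201090003) (.node 88902 (.leaf 0x200080003) (.leaf 0x202000003))) (.node 88904 (.leaf 0x906020000030703040103000b) (.node 88905 (.leaf 0x101050202020703040103000b) (.leaf 0x7000000000300000008))))) (.node 88911 (.node 88908 (.node 88907 (.leaf 0x207030003) (.leaf 0x206030003)) (.node 88909 (.leaf 0x209010003) (.node 88910 (.leaf 0x601070206000202000701000b) (.leaf 0x8020908050202000701000a)))) (.node 88914 (.node 88912 (.leaf 0x502020804000006) (.node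 88913 (.leaf 0x6050102000003010202000701000d) (.leaf 0x8000901090202000701000a))) (.node 88915 (.leaf 0x6080102020007010008) (.node 88916 (.leaf 0x903000003) (.leaf 0x3010005))))))

def argWS_7878 : Store := (.node 88928 (.node 88922 (.node 88919 (.node 88918 (.leaf 0x702090000090202000701000b) (.leaf 0x604000900090802040105000b)) (.node 88920 (.leaf 0x90102020900000202000701000c) (.node 88921 (.leaf 0x5020901090202000701000a) (.leaf 0x3040101090805000703040103000d)))) (.node 88925 (.node 88923 (.leaf 0x402020900000202000701000b) (.node 88924 (.leaf 0x10300070209020007) (.leaf 0x907020901060802040105000b))) (.node 88926 (.leaf 0x602010904020006) (.node 88927 (.leaf 0x704010904020802040105000b) (.leaf 0x10303080004))))) (.node 88934 (.node 88931 (.node 88929 (.leaf 0x20202020901060802040105000c) (.node 88930 (.leaf 0x307090806000006) (.leaf 0x4040603050004000703040103000d))) (.node 88932 (.leaf 0x20106030500040802040105000c) (.node 88933 (.leaf 0x3070002020900000202000701000d)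 (.leaf 0x307000206030802040105000b)))) (.node 88937 (.node 88935 (.leaf 0x908050007030401030009) (.node 88936 (.leaf 0x20200000408010007) (.leaf 0x90306020702010802040105000c))) (.node 88938 (.leaf 0x10206030004) (.node 88939 (.leaf 0x8020703060202000701000a) (.leaf 0x503040005000703040103000c))))))

def argWS_7879 : Store := (.node 88917 argWS_7877 argWS_7878)

def argWS_7880 : Store := (.node 88895 argWS_7876 argWS_7879)

def argWS_7881 : Store := (.node 88850 argWS_7873 argWS_7880)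

def argWS_7882 : Store := (.node 88951 (.node 88945 (.node 88942 (.node 88941 (.leaf 0x8050000000300000802040105000d) (.leaf 0x906090000090202000701000b)) (.node 88943 (.leaf 0x3040207020007010008) (.node 88944 (.leaf 0x401090009000703040103000b) (.leaf 0x102010908050802040105000b)))) (.node 88948 (.node 88946 (.leaf 0x20601010908050202000701000c) (.node 88947 (.leaf 0x10401050004) (.leaf 0x5020000020804000202000701000d))) (.node 88949 (.leaf 0x406030500040006) (.node 88950 (.leaf 0x606010400050802040105000b) (.leaf 0x2090301070306000703040103000d))))) (.node 88956 (.node 88953 (.node 88952 (.leaf 0x30401090806000802040105000c) (.leaf 0x90009000009000703040103000c)) (.node 88954 (.leaf 0x4020505020202010802040105000d) (.node 88955 (.leaf 0x3090009000703040103000b) (.leaf 0x60106030500040802040105000c)))) (.node 88959 (.node 88957 (.leaf 0x9000601050002000703040103000e) (.node 88958 (.leaf 0x701070009020007010009) (.leaf 0x90705020202010007))) (.node 88960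 (.leaf 0x903000901090006) (.node 88961 (.leaf 0x502010401050006) (.leaf 0x30106030500040202000701000c))))))

def argWS_7883 : Store := (.node 88973 (.node 88967 (.node 88964 (.node 88963 (.leaf 0x60102010904020802040105000c) (.leaf 0x10101090805000703040103000c)) (.node 88965 (.leaf 0x1030009000009000703040103000d) (.node 88966 (.leaf 0x30002020900000802040105000c) (.leaf 0x4000400030306040008)))) (.node 88970 (.node 88968 (.leaf 0x80000090206020008) (.node 88969 (.leaf 0x70901090802040105000a) (.leaf 0x40004060207020703040103000c))) (.node 88971 (.leaf 0x8000004080703040103000b) (.node 88972 (.leaf 0x9070202090000000703040103000d) (.leaf 0x600070306000703040103000b))))) (.node 88979 (.node 88976 (.node 88974 (.leaf 0x50300020804000802040105000d) (.node 88975 (.leaf 0x80101020106060802040105000c) (.leaf 0x204010900090006))) (.node 88977 (.leaf 0x200000300000006) (.node 88978 (.leaf 0x400030009020602000703040103000e) (.leaf 0x60301010200000703040103000d))))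 (.node 88982 (.node 88980 (.leaf 0x10001) (.node 88981 (.leaf 0x1) (.leaf 0x30001))) (.node 88983 (.leaf 0x20001) (.node 88984 (.leaf 0x1010002) (.leaf 0x1030002))))))

def argWS_7884 : Store := (.node 88962 argWS_7882 argWS_7883)

def argWS_7885 : Store := (.node 88996 (.node 88990 (.node 88987 (.node 88986 (.leaf 0x1020002) (.leaf 0x1050002)) (.node 88988 (.leaf 0x1070002) (.node 88989 (.leaf 0x1080002) (.leaf 0x1090002)))) (.node 88993 (.node 88991 (.leaf 0x2) (.node 88992 (.leaf 0x30002) (.leaf 0x50002))) (.node 88994 (.leaf 0x3010002) (.node 88995 (.leaf 0x3000002) (.leaf 0x3030002))))) (.node 89001 (.node 88998 (.node 88997 (.leaf 0x3050002) (.leaf 0x2010002)) (.node 88999 (.leaf 0x2000002) (.node 89000 (.leaf 0x2050002) (.leaf 0x2090002)))) (.node 89004 (.node 89002 (.leaf 0x9010002) (.node 89003 (.leaf 0x30106010500020802040105000c) (.leaf 0x90201070009030007))) (.node 89005 (.leaf 0x9020106060802040105000a) (.node 89006 (.leaf 0x600030000000703040103000b)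 (.leaf 0x102080003))))))

def argWS_7886 : Store := (.node 89018 (.node 89012 (.node 89009 (.node 89008 (.leaf 0x604010400050202000701000b) (.leaf 0x602090402000703040103000b)) (.node 89010 (.leaf 0x104000003) (.node 89011 (.leaf 0x2040206020007010008) (.leaf 0x107030003)))) (.node 89015 (.node 89013 (.leaf 0x700090402000703040103000b) (.node 89014 (.leaf 0x6040106010500020202000701000d) (.leaf 0x700000900090802040105000b))) (.node 89016 (.leaf 0x109030003) (.node 89017 (.leaf 0x7000005020604000703040103000d) (.leaf 0x1030106010500020802040105000d))))) (.node 89024 (.node 89021 (.node 89019 (.leaf 0x20002090106000703040103000c) (.node 89020 (.leaf 0x90003) (.leaf 0x105020901090006))) (.node 89022 (.leaf 0x3070002000003010802040105000d) (.node 89023 (.leaf 0x2000003) (.leaf 0x402020207030401030009)))) (.node 89027 (.node 89025 (.leaf 0x204030003) (.node 89026 (.leaf 0x60106030500040802040105000c) (.leaf 0x1))) (.node 89028 (.leaf 0x20001) (.node 89029 (.leaf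 0x90001) (.leaf 0x1010002))))))

def argWS_7887 : Store := (.node 89007 argWS_7885 argWS_7886)

def argWS_7888 : Store := (.node 88985 argWS_7884 argWS_7887)

def argWS_7889 : Store := (.node 89041 (.node 89035 (.node 89032 (.node 89031 (.leaf 0x1030002) (.leaf 0x1020002)) (.node 89033 (.leaf 0x1050002) (.node 89034 (.leaf 0x1070002) (.leaf 0x1080002)))) (.node 89038 (.node 89036 (.leaf 0x1090002) (.node 89037 (.leaf 0x2) (.leaf 0x20002))) (.node 89039 (.leaf 0x50002) (.node 89040 (.leaf 0x70002) (.leaf 0x80002))))) (.node 89046 (.node 89043 (.node 89042 (.leaf 0x90002) (.leaf 0x3010002)) (.node 89044 (.leaf 0x3000002) (.node 89045 (.leaf 0x3070002) (.leaf 0x702020901060202000701000b)))) (.node 89049 (.node 89047 (.leaf 0x2000002) (.node 89048 (.leaf 0x2020002) (.leaf 0x2050002))) (.node 89050 (.leaf 0x2090002) (.node 89051 (.leaf 0x30106010500020802040105000c) (.leaf 0x20002090106000703040103000d))))))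

def argWS_7890 : Store := (.node 89063 (.node 89057 (.node 89054 (.node 89053 (.leaf 0x9020106060802040105000a) (.leaf 0x103010003)) (.node 89055 (.leaf 0x70108020401050007) (.node 89056 (.leaf 0x6020401050005) (.leaf 0x600030000000703040103000b)))) (.node 89060 (.node 89058 (.leaf 0x103080003) (.node 89059 (.leaf 0x7020000030000000703040103000d) (.leaf 0x102020003))) (.node 89061 (.leaf 0x102080003) (.node 89062 (.leaf 0x2040105020202010202000701000d) (.leaf 0x604010400050202000701000b))))) (.node 89069 (.node 89066 (.node 89064 (.leaf 0x602090402000703040103000b) (.node 89065 (.leaf 0x105020003) (.leaf 0x8050703060202000701000a))) (.node 89067 (.leaf 0x700070206000202000701000b) (.node 89068 (.leaf 0x104000003) (.leaf 0x9030002020900000202000701000d)))) (.node 89072 (.node 89070 (.leaf 0x5000000000300000802040105000d) (.node 89071 (.leaf 0x107000003) (.leaf 0x107030003))) (.node 89073 (.leaf 0x60601090806000007) (.node 89074 (.leaf 0x2020000090206020008)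 (.leaf 0x700090402000703040103000b))))))

def argWS_7891 : Store := (.node 89052 argWS_7889 argWS_7890)

def argWS_7892 : Store := (.node 89086 (.node 89080 (.node 89077 (.node 89076 (.leaf 0x402020900000202000701000c) (.leaf 0x20500020804000007)) (.node 89078 (.leaf 0x700000900090802040105000b) (.node 89079 (.leaf 0x204000408010202000701000b) (.leaf 0x7000005020604000703040103000d)))) (.node 89083 (.node 89081 (.leaf 0x1030106010500020802040105000d) (.node 89082 (.leaf 0x20002090106000703040103000c) (.leaf 0x90003))) (.node 89084 (.leaf 0x3010003) (.node 89085 (.leaf 0x105020901090006) (.leaf 0x104020603000703040103000b))))) (.node 89092 (.node 89089 (.node 89087 (.leaf 0x3080003) (.node 89088 (.leaf 0x7020009020602000703040103000d) (.leaf 0x2000003))) (.node 89090 (.leaf 0x109030601050002000703040103000e) (.node 89091 (.leaf 0x404090000090202000701000b) (.leaf 0x10300020106060202000701000c)))) (.node 89095 (.node 89093 (.leaf 0x80200020000030703040103000c)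 (.node 89094 (.leaf 0x5030003) (.leaf 0x50000070209020007))) (.node 89096 (.leaf 0x2050206030500040008) (.node 89097 (.leaf 0x4000003) (.leaf 0x107090805000703040103000b))))))

def argWS_7893 : Store := (.node 89109 (.node 89103 (.node 89100 (.node 89099 (.leaf 0x4020003) (.leaf 0x4010206020007010008)) (.node 89101 (.leaf 0x7030003) (.node 89102 (.leaf 0x702070209020802040105000b) (.leaf 0x40202010004)))) (.node 89106 (.node 89104 (.leaf 0x307050206040802040105000b) (.node 89105 (.leaf 0x6000003) (.leaf 0x8020007020902000703040103000d))) (.node 89107 (.leaf 0x8000003) (.node 89108 (.leaf 0x60908050005) (.leaf 0x20401010703060802040105000c))))) (.node 89115 (.node 89112 (.node 89110 (.leaf 0x9000003) (.node 89111 (.leaf 0x60000020106060007) (.leaf 0x1030106030500040202000701000d))) (.node 89113 (.leaf 0x103010207030802040105000b) (.node 89114 (.leaf 0x300000003) (.leaf 0x7010207030005)))) (.node 89118 (.node 89116 (.leaf 0x902060402020007010009) (.node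 89117 (.leaf 0x2020202010005) (.leaf 0x1040900090802040105000a))) (.node 89119 (.leaf 0x202020003) (.node 89120 (.leaf 0x200070306000703040103000b) (.leaf 0x602010301010200000703040103000e))))))

def argWS_7894 : Store := (.node 89098 argWS_7892 argWS_7893)

def argWS_7895 : Store := (.node 89075 argWS_7891 argWS_7894)

def argWS_7896 : Store := (.node 89030 argWS_7888 argWS_7895)

def argWS_7897 : Store := (.node 88940 argWS_7881 argWS_7896)

def argWS_7898 : Store := (.node 89132 (.node 89126 (.node 89123 (.node 89122 (.leaf 0x501060608020401050009) (.leaf 0x304030003)) (.node 89124 (.leaf 0x2000006010500020802040105000d) (.node 89125 (.leaf 0x6000901090802040105000b) (.leaf 0x107000401050006)))) (.node 89129 (.node 89127 (.leaf 0x402020207030401030009) (.node 89128 (.leaf 0x10502070206000802040105000c) (.leaf 0x201090003))) (.node 89130 (.leaf 0x20908050005) (.node 89131 (.leaf 0x200080003) (.leaf 0x200090003))))) (.node 89137 (.node 89134 (.node 89133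 (.leaf 0x202000003) (.leaf 0x101050202020703040103000b)) (.node 89135 (.leaf 0x500090000090006) (.node 89136 (.leaf 0x7000000000300000008) (.leaf 0x204030003)))) (.node 89140 (.node 89138 (.leaf 0x1030002020900000802040105000d) (.node 89139 (.leaf 0x206030003) (.leaf 0x3050206030802040105000a))) (.node 89141 (.leaf 0x8020908050202000701000a) (.node 89142 (.leaf 0x502020804000006) (.leaf 0x6050102000003010202000701000d))))))

def argWS_7899 : Store := (.node 89154 (.node 89148 (.node 89145 (.node 89144 (.leaf 0x8000901090202000701000a) (.leaf 0x6080102020007010008)) (.node 89146 (.leaf 0x903000003) (.node 89147 (.leaf 0x3010005) (.leaf 0x500000000030000000703040103000e)))) (.node 89151 (.node 89149 (.leaf 0x604000900090802040105000b) (.node 89150 (.leaf 0x90102020900000202000701000c) (.leaf 0x5020901090202000701000a))) (.node 89152 (.leaf 0x3040101090805000703040103000d) (.node 89153 (.leaf 0x4000202020703040103000a) (.leaf 0x602010904020006))))) (.node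 89160 (.node 89157 (.node 89155 (.leaf 0x40009000009000703040103000d) (.node 89156 (.leaf 0x704010904020802040105000b) (.leaf 0x10303080004))) (.node 89158 (.leaf 0x3040301090805000703040103000d) (.node 89159 (.leaf 0x307090806000006) (.leaf 0x4040603050004000703040103000d)))) (.node 89163 (.node 89161 (.leaf 0x20106030500040802040105000c) (.node 89162 (.leaf 0x307000206030802040105000b) (.leaf 0x4030009020602000703040103000d))) (.node 89164 (.leaf 0x20901070209020007) (.node 89165 (.leaf 0x20200020804000007) (.leaf 0x20403070209020202000701000c))))))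

def argWS_7900 : Store := (.node 89143 argWS_7898 argWS_7899)

def argWS_7901 : Store := (.node 89177 (.node 89171 (.node 89168 (.node 89167 (.leaf 0x20200000408010007) (.leaf 0x90306020702010802040105000c)) (.node 89169 (.leaf 0x605020804000202000701000b) (.node 89170 (.leaf 0x8020703060202000701000a) (.leaf 0x503040005000703040103000c)))) (.node 89174 (.node 89172 (.leaf 0x8050000000300000802040105000d) (.node 89173 (.leaf 0x906090000090202000701000b) (.leaf 0x3040207020007010008))) (.node 89175 (.leaf 0x102010908050802040105000b) (.node 89176 (.leaf 0x5020000020804000202000701000d) (.leaf 0x800070209020006))))) (.node 89182 (.node 89179 (.node 89178 (.leaf 0x406030500040006) (.leaf 0x606010400050802040105000b)) (.node 89180 (.leaf 0x30401090806000802040105000c) (.node 89181 (.leaf 0x409040202020007010009) (.leaf 0x4020505020202010802040105000d)))) (.node 89185 (.node 89183 (.leaf 0x5090000090802040105000a) (.node 89184 (.leaf 0x9000601050002000703040103000e)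 (.leaf 0x10901090004))) (.node 89186 (.leaf 0x701070009020007010009) (.node 89187 (.leaf 0x90705020202010007) (.leaf 0x903000901090006))))))

def argWS_7902 : Store := (.node 89199 (.node 89193 (.node 89190 (.node 89189 (.leaf 0x502010401050006) (.leaf 0x60102010904020802040105000c)) (.node 89191 (.leaf 0x10101090805000703040103000c) (.node 89192 (.leaf 0x6050105020604000703040103000d) (.leaf 0x30002020900000802040105000c)))) (.node 89196 (.node 89194 (.leaf 0x4000400030306040008) (.node 89195 (.leaf 0x80000090206020008) (.leaf 0x70901090802040105000a))) (.node 89197 (.leaf 0x40004060207020703040103000c) (.node 89198 (.leaf 0x9070202090000000703040103000d) (.leaf 0x600070306000703040103000b))))) (.node 89205 (.node 89202 (.node 89200 (.leaf 0x50300020804000802040105000d) (.node 89201 (.leaf 0x80101020106060802040105000c) (.leaf 0x202000003010802040105000c))) (.node 89203 (.leaf 0x204010900090006) (.node 89204 (.leaf 0x200000300000006) (.leaf 0x60301010200000703040103000d))))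 (.node 89208 (.node 89206 (.leaf 0x10001) (.node 89207 (.leaf 0x1) (.leaf 0x30001))) (.node 89209 (.leaf 0x20001) (.node 89210 (.leaf 0x1050002) (.leaf 0x1070002))))))

def argWS_7903 : Store := (.node 89188 argWS_7901 argWS_7902)

def argWS_7904 : Store := (.node 89166 argWS_7900 argWS_7903)

def argWS_7905 : Store := (.node 89222 (.node 89216 (.node 89213 (.node 89212 (.leaf 0x1080002) (.leaf 0x1090002)) (.node 89214 (.leaf 0x2) (.node 89215 (.leaf 0x30002) (.leaf 0x20002)))) (.node 89219 (.node 89217 (.leaf 0x50002) (.node 89218 (.leaf 0x80002) (.leaf 0x90002))) (.node 89220 (.leaf 0x3010002) (.node 89221 (.leaf 0x3000002) (.leaf 0x3030002))))) (.node 89227 (.node 89224 (.node 89223 (.leaf 0x3050002) (.leaf 0x3070002)) (.node 89225 (.leaf 0x702020901060202000701000b) (.node 89226 (.leaf 0x2010002) (.leaf 0x2000002)))) (.node 89230 (.node 89228 (.leaf 0x2020002) (.node 89229 (.leaf 0x2070002) (.leaf 0x9010002))) (.node 89231 (.leaf 0x30106010500020802040105000c)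 (.node 89232 (.leaf 0x20002090106000703040103000d) (.leaf 0x90201070009030007))))))

def argWS_7906 : Store := (.node 89244 (.node 89238 (.node 89235 (.node 89234 (.leaf 0x9020106060802040105000a) (.leaf 0x103010003)) (.node 89236 (.leaf 0x70108020401050007) (.node 89237 (.leaf 0x600030000000703040103000b) (.leaf 0x103080003)))) (.node 89241 (.node 89239 (.leaf 0x7020000030000000703040103000d) (.node 89240 (.leaf 0x102020003) (.leaf 0x602090402000703040103000b))) (.node 89242 (.leaf 0x105020003) (.node 89243 (.leaf 0x8050703060202000701000a) (.leaf 0x700070206000202000701000b))))) (.node 89250 (.node 89247 (.node 89245 (.leaf 0x9030002020900000202000701000d) (.node 89246 (.leaf 0x107000003) (.leaf 0x107030003))) (.node 89248 (.leaf 0x70802020007010007) (.node 89249 (.leaf 0x60601090806000007) (.leaf 0x2020000090206020008)))) (.node 89253 (.node 89251 (.leaf 0x700090402000703040103000b) (.node 89252 (.leaf 0x6040106010500020202000701000d) (.leaf 0x20500020804000007)))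 (.node 89254 (.leaf 0x300070209020006) (.node 89255 (.leaf 0x204000408010202000701000b) (.leaf 0x7000005020604000703040103000d))))))

def argWS_7907 : Store := (.node 89233 argWS_7905 argWS_7906)

def argWS_7908 : Store := (.node 89267 (.node 89261 (.node 89258 (.node 89257 (.leaf 0x1030106010500020802040105000d) (.leaf 0x90003)) (.node 89259 (.leaf 0x90403010102000202000701000c) (.node 89260 (.leaf 0x0) (.leaf 0x105020901090006)))) (.node 89264 (.node 89262 (.leaf 0x3080003) (.node 89263 (.leaf 0x7020009020602000703040103000d) (.leaf 0x3070002000003010802040105000d))) (.node 89265 (.leaf 0x2000003) (.node 89266 (.leaf 0x109030601050002000703040103000e) (.leaf 0x404090000090202000701000b))))) (.node 89272 (.node 89269 (.node 89268 (.leaf 0x10300020106060202000701000c) (.leaf 0x80200020000030703040103000c)) (.node 89270 (.leaf 0x5030003) (.node 89271 (.leaf 0x50000070209020007) (.leaf 0x2050206030500040008)))) (.node 89275 (.node 89273 (.leaf 0x90300020901060007)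 (.node 89274 (.leaf 0x4000003) (.leaf 0x107090805000703040103000b))) (.node 89276 (.leaf 0x4020003) (.node 89277 (.leaf 0x4010206020007010008) (.leaf 0x7030003))))))

def argWS_7909 : Store := (.node 89289 (.node 89283 (.node 89280 (.node 89279 (.leaf 0x40202010004) (.leaf 0x8020007020902000703040103000d)) (.node 89281 (.leaf 0x8000003) (.node 89282 (.leaf 0x60908050005) (.leaf 0x20401010703060802040105000c)))) (.node 89286 (.node 89284 (.leaf 0x9000003) (.node 89285 (.leaf 0x60000020106060007) (.leaf 0x1030106030500040202000701000d))) (.node 89287 (.leaf 0x103010207030802040105000b) (.node 89288 (.leaf 0x300000003) (.leaf 0x902060402020007010009))))) (.node 89295 (.node 89292 (.node 89290 (.leaf 0x2020202010005) (.node 89291 (.leaf 0x1040900090802040105000a) (.leaf 0x200070306000703040103000b))) (.node 89293 (.leaf 0x602010301010200000703040103000e) (.node 89294 (.leaf 0x501060608020401050009) (.leaf 0x6000901090802040105000b)))) (.node 89298 (.node 89296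 (.leaf 0x107000401050006) (.node 89297 (.leaf 0x402020207030401030009) (.leaf 0x201090003))) (.node 89299 (.leaf 0x20908050005) (.node 89300 (.leaf 0x200080003) (.leaf 0x200090003))))))

def argWS_7910 : Store := (.node 89278 argWS_7908 argWS_7909)

def argWS_7911 : Store := (.node 89256 argWS_7907 argWS_7910)

def argWS_7912 : Store := (.node 89211 argWS_7904 argWS_7911)

def argWS_7913 : Store := (.node 89312 (.node 89306 (.node 89303 (.node 89302 (.leaf 0x202000003) (.leaf 0x906020000030703040103000b)) (.node 89304 (.leaf 0x101050202020703040103000b) (.node 89305 (.leaf 0x500090000090006) (.leaf 0x7000000000300000008)))) (.node 89309 (.node 89307 (.leaf 0x204030003) (.node 89308 (.leaf 0x1030002020900000802040105000d) (.leaf 0x207030003))) (.node 89310 (.leaf 0x209010003) (.node 89311 (.leaf 0x601070206000202000701000b) (.leaf 0x3050206030802040105000a))))) (.node 89317 (.node 89314 (.node 89313 (.leaf 0x8020908050202000701000a) (.leaf 0x502020804000006))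 (.node 89315 (.leaf 0x6050102000003010202000701000d) (.node 89316 (.leaf 0x8000901090202000701000a) (.leaf 0x7030502020900000008)))) (.node 89320 (.node 89318 (.leaf 0x6080102020007010008) (.node 89319 (.leaf 0x903000003) (.leaf 0x3010005))) (.node 89321 (.leaf 0x500000000030000000703040103000e) (.node 89322 (.leaf 0x702090000090202000701000b) (.leaf 0x604000900090802040105000b))))))

def argWS_7914 : Store := (.node 89334 (.node 89328 (.node 89325 (.node 89324 (.leaf 0x90102020900000202000701000c) (.leaf 0x5020901090202000701000a)) (.node 89326 (.leaf 0x70500030306040202000701000c) (.node 89327 (.leaf 0x402020900000202000701000b) (.leaf 0x10300070209020007)))) (.node 89331 (.node 89329 (.leaf 0x4000202020703040103000a) (.node 89330 (.leaf 0x907020901060802040105000b) (.leaf 0x40009000009000703040103000d))) (.node 89332 (.leaf 0x704010904020802040105000b) (.node 89333 (.leaf 0x20202020901060802040105000c) (.leaf 0x3040301090805000703040103000d))))) (.node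 89340 (.node 89337 (.node 89335 (.leaf 0x307090806000006) (.node 89336 (.leaf 0x20106030500040802040105000c) (.leaf 0x3070002020900000202000701000d))) (.node 89338 (.leaf 0x307000206030802040105000b) (.node 89339 (.leaf 0x20901070209020007) (.leaf 0x20200020804000007)))) (.node 89343 (.node 89341 (.leaf 0x20200000408010007) (.node 89342 (.leaf 0x90306020702010802040105000c) (.leaf 0x503040005000703040103000c))) (.node 89344 (.leaf 0x8050000000300000802040105000d) (.node 89345 (.leaf 0x906090000090202000701000b) (.leaf 0x3040207020007010008))))))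

def argWS_7915 : Store := (.node 89323 argWS_7913 argWS_7914)

def argWS_7916 : Store := (.node 89357 (.node 89351 (.node 89348 (.node 89347 (.leaf 0x401090009000703040103000b) (.leaf 0x102010908050802040105000b)) (.node 89349 (.leaf 0x10401050004) (.node 89350 (.leaf 0x5020000020804000202000701000d) (.leaf 0x406030500040006)))) (.node 89354 (.node 89352 (.leaf 0x606010400050802040105000b) (.node 89353 (.leaf 0x2090301070306000703040103000d) (.leaf 0x30401090806000802040105000c))) (.node 89355 (.leaf 0x3090009000703040103000b) (.node 89356 (.leaf 0x60106030500040802040105000c) (.leaf 0x9000601050002000703040103000e))))) (.node 89362 (.node 89359 (.node 89358 (.leaf 0x10901090004) (.leaf 0x701070009020007010009)) (.node 89360 (.leaf 0x90705020202010007) (.node 89361 (.leaf 0x903000901090006) (.leaf 0x20902020900000202000701000c)))) (.node 89365 (.node 89363 (.leaf 0x30106030500040202000701000c) (.node 89364 (.leaf 0x60102010904020802040105000c) (.leaf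 0x1030009000009000703040103000d))) (.node 89366 (.leaf 0x4000400030306040008) (.node 89367 (.leaf 0x80000090206020008) (.leaf 0x70901090802040105000a))))))

def argWS_7917 : Store := (.node 89379 (.node 89373 (.node 89370 (.node 89369 (.leaf 0x8000004080703040103000b) (.leaf 0x9070202090000000703040103000d)) (.node 89371 (.leaf 0x50300020804000802040105000d) (.node 89372 (.leaf 0x80101020106060802040105000c) (.leaf 0x202000003010802040105000c)))) (.node 89376 (.node 89374 (.leaf 0x200000300000006) (.node 89375 (.leaf 0x10001) (.leaf 0x1))) (.node 89377 (.leaf 0x30001) (.node 89378 (.leaf 0x20001) (.leaf 0x1010002))))) (.node 89385 (.node 89382 (.node 89380 (.leaf 0x1030002) (.node 89381 (.leaf 0x1020002) (.leaf 0x1050002))) (.node 89383 (.leaf 0x1070002) (.node 89384 (.leaf 0x1080002) (.leaf 0x1090002)))) (.node 89388 (.node 89386 (.leaf 0x2) (.node 89387 (.leaf 0x30002) (.leaf 0x20002))) (.node 89389 (.leaf 0x50002) (.node 89390 (.leaf 0x70002) (.leaf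 0x80002))))))

def argWS_7918 : Store := (.node 89368 argWS_7916 argWS_7917)

def argWS_7919 : Store := (.node 89346 argWS_7915 argWS_7918)

def argWS_7920 : Store := (.node 89402 (.node 89396 (.node 89393 (.node 89392 (.leaf 0x90002) (.leaf 0x3010002)) (.node 89394 (.leaf 0x3000002) (.node 89395 (.leaf 0x3050002) (.leaf 0x702020901060202000701000b)))) (.node 89399 (.node 89397 (.leaf 0x2000002) (.node 89398 (.leaf 0x2020002) (.leaf 0x2050002))) (.node 89400 (.leaf 0x9010002) (.node 89401 (.leaf 0x30106010500020802040105000c) (.leaf 0x6020401050005))))) (.node 89407 (.node 89404 (.node 89403 (.leaf 0x102080003) (.leaf 0x2040105020202010202000701000d)) (.node 89405 (.leaf 0x602090402000703040103000b) (.node 89406 (.leaf 0x104000003) (.leaf 0x2040206020007010008)))) (.node 89410 (.node 89408 (.leaf 0x107030003) (.node 89409 (.leaf 0x402020900000202000701000c) (.leaf 0x20500020804000007))) (.node 89411 (.leaf 0x90003) (.node 89412 (.leaf 0x105020901090006)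 (.leaf 0x104020603000703040103000b))))))

def argWS_7921 : Store := (.node 89424 (.node 89418 (.node 89415 (.node 89414 (.leaf 0x10300020106060202000701000c) (.leaf 0x5030003)) (.node 89416 (.leaf 0x7030003) (.node 89417 (.leaf 0x702070209020802040105000b) (.leaf 0x8000003)))) (.node 89421 (.node 89419 (.leaf 0x206030003) (.node 89420 (.leaf 0x800070209020006) (.leaf 0x10001))) (.node 89422 (.leaf 0x1) (.node 89423 (.leaf 0x30001) (.leaf 0x20001))))) (.node 89430 (.node 89427 (.node 89425 (.leaf 0x90001) (.node 89426 (.leaf 0x1010002) (.leaf 0x1030002))) (.node 89428 (.leaf 0x1040002) (.node 89429 (.leaf 0x1060002) (.leaf 0x1090002)))) (.node 89433 (.node 89431 (.leaf 0x2) (.node 89432 (.leaf 0x30002) (.leaf 0x50002))) (.node 89434 (.leaf 0x40002) (.node 89435 (.leaf 0x60002) (.leaf 0x90002))))))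

def argWS_7922 : Store := (.node 89413 argWS_7920 argWS_7921)

def argWS_7923 : Store := (.node 89447 (.node 89441 (.node 89438 (.node 89437 (.leaf 0x3000002) (.leaf 0x3030002)) (.node 89439 (.leaf 0x3050002) (.node 89440 (.leaf 0x3070002) (.leaf 0x2020002)))) (.node 89444 (.node 89442 (.leaf 0x2050002) (.node 89443 (.leaf 0x2070002) (.leaf 0x9010002))) (.node 89445 (.leaf 0x9000002) (.node 89446 (.leaf 0x20002090106000703040103000d) (.leaf 0x5010904020005))))) (.node 89453 (.node 89450 (.node 89448 (.leaf 0x101060003) (.node 89449 (.leaf 0x9020106060802040105000a) (.leaf 0x6020401050005))) (.node 89451 (.leaf 0x700020804000202000701000c) (.node 89452 (.leaf 0x600030000000703040103000b) (.leaf 0x7000005020202010802040105000d)))) (.node 89456 (.node 89454 (.leaf 0x7020000030000000703040103000d) (.node 89455 (.leaf 0x102020003) (.leaf 0x4000409000009000703040103000d))) (.node 89457 (.leaf 0x2060207030802040105000a) (.node 89458 (.leaf 0x0) (.leaf 0x5000206020007010008))))))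

def argWS_7924 : Store := (.node 89470 (.node 89464 (.node 89461 (.node 89460 (.leaf 0x602090402000703040103000b) (.leaf 0x105020003)) (.node 89462 (.leaf 0x8050703060202000701000a) (.node 89463 (.leaf 0x104000003) (.leaf 0x2040206020007010008)))) (.node 89467 (.node 89465 (.leaf 0x5000000000300000802040105000d) (.node 89466 (.leaf 0x107000003) (.leaf 0x70802020007010007))) (.node 89468 (.leaf 0x2020000090206020008) (.node 89469 (.leaf 0x205070206000006) (.leaf 0x6040106010500020202000701000d))))) (.node 89476 (.node 89473 (.node 89471 (.leaf 0x300070209020006) (.node 89472 (.leaf 0x204000408010202000701000b) (.leaf 0x7000005020604000703040103000d))) (.node 89474 (.leaf 0x1030106010500020802040105000d) (.node 89475 (.leaf 0x3010003) (.leaf 0x105020901090006)))) (.node 89479 (.node 89477 (.leaf 0x7020009020602000703040103000d) (.node 89478 (.leaf 0x3070002000003010802040105000d) (.leaf 0x2000003))) (.node 89480 (.leaf 0x900000408010202000701000b) (.node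 89481 (.leaf 0x109030601050002000703040103000e) (.leaf 0x206010703060802040105000b))))))

def argWS_7925 : Store := (.node 89459 argWS_7923 argWS_7924)

def argWS_7926 : Store := (.node 89436 argWS_7922 argWS_7925)

def argWS_7927 : Store := (.node 89391 argWS_7919 argWS_7926)

def argWS_7928 : Store := (.node 89301 argWS_7912 argWS_7927)

def argWS_7929 : Store := (.node 89121 argWS_7897 argWS_7928)

def argWS_7930 : Store := (.node 88760 argWS_7866 argWS_7929)

def argWS_7931 : Store := (.node 88038 argWS_7803 argWS_7930)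

def argWS_7932 : Store := (.node 89493 (.node 89487 (.node 89484 (.node 89483 (.leaf 0x10300020106060202000701000c) (.leaf 0x50000070209020007)) (.node 89485 (.leaf 0x2050206030500040008) (.node 89486 (.leaf 0x90300020901060007) (.leaf 0x107090805000703040103000b)))) (.node 89490 (.node 89488 (.leaf 0x4020003) (.node 89489 (.leaf 0x4010206020007010008) (.leaf 0x7030003))) (.node 89491 (.leaf 0x40202010004) (.node 89492 (.leaf 0x8020007020902000703040103000d) (.leaf 0x20401010703060802040105000c))))) (.node 89498 (.node 89495 (.node 89494 (.leaf 0x60000020106060007) (.leaf 0x1030106030500040202000701000d)) (.node 89496 (.leaf 0x102010901090202000701000b) (.node 89497 (.leaf 0x300000003) (.leaf 0x902060402020007010009)))) (.node 89501 (.node 89499 (.leaf 0x1040900090802040105000a) (.node 89500 (.leaf 0x202020003) (.leaf 0x4020500090206020802040105000d))) (.node 89502 (.leaf 0x200070306000703040103000b) (.node 89503 (.leaf 0x602010301010200000703040103000e)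 (.leaf 0x501060608020401050009))))))

def argWS_7933 : Store := (.node 89515 (.node 89509 (.node 89506 (.node 89505 (.leaf 0x304030003) (.leaf 0x306030003)) (.node 89507 (.leaf 0x1020206020702010802040105000d) (.node 89508 (.leaf 0x402020207030401030009) (.leaf 0x300090000090202000701000b)))) (.node 89512 (.node 89510 (.leaf 0x10502070206000802040105000c) (.node 89511 (.leaf 0x10406030500040202000701000c) (.leaf 0x200090003))) (.node 89513 (.leaf 0x906020000030703040103000b) (.node 89514 (.leaf 0x101050202020703040103000b) (.leaf 0x7000000000300000008))))) (.node 89521 (.node 89518 (.node 89516 (.leaf 0x204030003) (.node 89517 (.leaf 0x1030002020900000802040105000d) (.leaf 0x207030003))) (.node 89519 (.leaf 0x206030003) (.node 89520 (.leaf 0x209020003) (.leaf 0x3050206030802040105000a)))) (.node 89524 (.node 89522 (.leaf 0x901090003) (.node 89523 (.leaf 0x900000003) (.leaf 0x6050102000003010202000701000d))) (.node 89525 (.leaf 0x8000901090202000701000a)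 (.node 89526 (.leaf 0x206090000090202000701000b) (.leaf 0x3010005))))))

def argWS_7934 : Store := (.node 89504 argWS_7932 argWS_7933)

def argWS_7935 : Store := (.node 89538 (.node 89532 (.node 89529 (.node 89528 (.leaf 0x702090000090202000701000b) (.leaf 0x604000900090802040105000b)) (.node 89530 (.leaf 0x609080600000703040103000b) (.node 89531 (.leaf 0x901020604000703040103000b) (.leaf 0x5020901090202000701000a)))) (.node 89535 (.node 89533 (.leaf 0x40300000300000007) (.node 89534 (.leaf 0x702060207020703040103000b) (.leaf 0x70101090009000703040103000c))) (.node 89536 (.leaf 0x4000202020703040103000a) (.node 89537 (.leaf 0x907020901060802040105000b) (.leaf 0x3090806000006))))) (.node 89543 (.node 89540 (.node 89539 (.leaf 0x602010904020006) (.leaf 0x1020105020604000703040103000d)) (.node 89541 (.leaf 0x40304000408010007) (.node 89542 (.leaf 0x20000000300000202000701000d) (.leaf 0x60401010908050802040105000c)))) (.node 89546 (.node 89544 (.leaf 0x307090806000006)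 (.node 89545 (.leaf 0x204010904020006) (.leaf 0x6000901090802040105000a))) (.node 89547 (.leaf 0x4030009020602000703040103000d) (.node 89548 (.leaf 0x908050007030401030009) (.leaf 0x80500090806000202000701000c))))))

def argWS_7936 : Store := (.node 89560 (.node 89554 (.node 89551 (.node 89550 (.leaf 0x9010207030802040105000a) (.leaf 0x20403070209020202000701000c)) (.node 89552 (.leaf 0x20200000408010007) (.node 89553 (.leaf 0x800040206030006) (.leaf 0x605020804000202000701000b)))) (.node 89557 (.node 89555 (.leaf 0x8020703060202000701000a) (.node 89556 (.leaf 0x90206020202000701000b) (.leaf 0x20002010904020802040105000c))) (.node 89558 (.leaf 0x60000000300000008) (.node 89559 (.leaf 0x800070209020006) (.leaf 0x406030500040006))))) (.node 89566 (.node 89563 (.node 89561 (.leaf 0x606010400050802040105000b) (.node 89562 (.leaf 0x4020506030500040202000701000d) (.leaf 0x20505020202010202000701000c))) (.node 89564 (.leaf 0x5090000090802040105000a) (.node 89565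 (.leaf 0x20506010500020007) (.leaf 0x10901090004)))) (.node 89569 (.node 89567 (.leaf 0x701070009020007010009) (.node 89568 (.leaf 0x6050601050002000703040103000d) (.leaf 0x90705020202010007))) (.node 89570 (.leaf 0x903000901090006) (.node 89571 (.leaf 0x30106030500040202000701000c) (.leaf 0x10402000003010802040105000c))))))

def argWS_7937 : Store := (.node 89549 argWS_7935 argWS_7936)

def argWS_7938 : Store := (.node 89527 argWS_7934 argWS_7937)

def argWS_7939 : Store := (.node 89583 (.node 89577 (.node 89574 (.node 89573 (.leaf 0x802000900090202000701000b) (.leaf 0x2020602000703040103000a)) (.node 89575 (.leaf 0x7030500000300000008) (.node 89576 (.leaf 0x1030009000009000703040103000d) (.leaf 0x204030003030604000703040103000e)))) (.node 89580 (.node 89578 (.leaf 0x209020004) (.node 89579 (.leaf 0x8000004080703040103000b) (.leaf 0x104020703000703040103000b))) (.node 89581 (.leaf 0x107070206000802040105000b) (.node 89582 (.leaf 0x80101020106060802040105000c)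 (.leaf 0x60301020106060802040105000c))))) (.node 89588 (.node 89585 (.node 89584 (.leaf 0x200000300000006) (.leaf 0x901040900090802040105000b)) (.node 89586 (.leaf 0x1) (.node 89587 (.leaf 0x30001) (.leaf 0x20001)))) (.node 89591 (.node 89589 (.leaf 0x1010002) (.node 89590 (.leaf 0x1020002) (.leaf 0x1040002))) (.node 89592 (.leaf 0x1060002) (.node 89593 (.leaf 0x1090002) (.leaf 0x2))))))

def argWS_7940 : Store := (.node 89605 (.node 89599 (.node 89596 (.node 89595 (.leaf 0x30002) (.leaf 0x50002)) (.node 89597 (.leaf 0x40002) (.node 89598 (.leaf 0x60002) (.leaf 0x90002)))) (.node 89602 (.node 89600 (.leaf 0x3010002) (.node 89601 (.leaf 0x3000002) (.leaf 0x3030002))) (.node 89603 (.leaf 0x3050002) (.node 89604 (.leaf 0x3070002) (.leaf 0x3060002))))) (.node 89611 (.node 89608 (.node 89606 (.leaf 0x2010002) (.node 89607 (.leaf 0x2000002) (.leaf 0x2020002))) (.node 89609 (.leaf 0x2070002) (.node 89610 (.leaf 0x9010002) (.leaf 0x9000002)))) (.node 89614 (.node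 89612 (.leaf 0x5010904020005) (.node 89613 (.leaf 0x101060003) (.leaf 0x9020106060802040105000a))) (.node 89615 (.leaf 0x70108020401050007) (.node 89616 (.leaf 0x6020401050005) (.leaf 0x700020804000202000701000c))))))

def argWS_7941 : Store := (.node 89594 argWS_7939 argWS_7940)

def argWS_7942 : Store := (.node 89628 (.node 89622 (.node 89619 (.node 89618 (.leaf 0x600030000000703040103000b) (.leaf 0x7000005020202010802040105000d)) (.node 89620 (.leaf 0x102020003) (.node 89621 (.leaf 0x2060207030802040105000a) (.leaf 0x2040105020202010202000701000d)))) (.node 89625 (.node 89623 (.leaf 0x604010400050202000701000b) (.node 89624 (.leaf 0x5000206020007010008) (.leaf 0x602090402000703040103000b))) (.node 89626 (.leaf 0x105020003) (.node 89627 (.leaf 0x8050703060202000701000a) (.leaf 0x2040206020007010008))))) (.node 89633 (.node 89630 (.node 89629 (.leaf 0x107000003) (.leaf 0x107030003)) (.node 89631 (.leaf 0x70802020007010007) (.node 89632 (.leaf 0x60601090806000007)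 (.leaf 0x20500020804000007)))) (.node 89636 (.node 89634 (.leaf 0x300070209020006) (.node 89635 (.leaf 0x204000408010202000701000b) (.leaf 0x109030003))) (.node 89637 (.leaf 0x7000005020604000703040103000d) (.node 89638 (.leaf 0x1030106010500020802040105000d) (.leaf 0x20002090106000703040103000c))))))

def argWS_7943 : Store := (.node 89650 (.node 89644 (.node 89641 (.node 89640 (.leaf 0x3010003) (.leaf 0x104020603000703040103000b)) (.node 89642 (.leaf 0x902010901090802040105000b) (.node 89643 (.leaf 0x3060003) (.leaf 0x7020009020602000703040103000d)))) (.node 89647 (.node 89645 (.leaf 0x3070002000003010802040105000d) (.node 89646 (.leaf 0x4040206020007010008) (.leaf 0x900000408010202000701000b))) (.node 89648 (.leaf 0x109030601050002000703040103000e) (.node 89649 (.leaf 0x206010703060802040105000b) (.leaf 0x10300020106060202000701000c))))) (.node 89656 (.node 89653 (.node 89651 (.leaf 0x80200020000030703040103000c) (.node 89652 (.leaf 0x5030003) (.leaf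 0x50000070209020007))) (.node 89654 (.leaf 0x2050206030500040008) (.node 89655 (.leaf 0x4000003) (.leaf 0x107090805000703040103000b)))) (.node 89659 (.node 89657 (.leaf 0x4020003) (.node 89658 (.leaf 0x4010206020007010008) (.leaf 0x7030003))) (.node 89660 (.leaf 0x702070209020802040105000b) (.node 89661 (.leaf 0x40202010004) (.leaf 0x6000003))))))

def argWS_7944 : Store := (.node 89639 argWS_7942 argWS_7943)

def argWS_7945 : Store := (.node 89617 argWS_7941 argWS_7944)

def argWS_7946 : Store := (.node 89572 argWS_7938 argWS_7945)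

def argWS_7947 : Store := (.node 89673 (.node 89667 (.node 89664 (.node 89663 (.leaf 0x6030003) (.leaf 0x80908050005)) (.node 89665 (.leaf 0x8020007020902000703040103000d) (.node 89666 (.leaf 0x20401010703060802040105000c) (.leaf 0x9000003)))) (.node 89670 (.node 89668 (.leaf 0x60000020106060007) (.node 89669 (.leaf 0x1030106030500040202000701000d) (.leaf 0x301050003))) (.node 89671 (.leaf 0x102010901090202000701000b) (.node 89672 (.leaf 0x702020703000703040103000b) (.leaf 0x300000003))))) (.node 89678 (.node 89675 (.node 89674 (.leaf 0x7010207030005) (.leaf 0x902060402020007010009)) (.node 89676 (.leaf 0x202020003) (.node 89677 (.leaf 0x4020500090206020802040105000d) (.leaf 0x200070306000703040103000b)))) (.node 89681 (.node 89679 (.leaf 0x602010301010200000703040103000e) (.node 89680 (.leaf 0x501060608020401050009) (.leaf 0x70000020901060007))) (.node 89682 (.leaf 0x304030003) (.node 89683 (.leaf 0x307000003) (.leaf 0x2000006010500020802040105000d))))))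

def argWS_7948 : Store := (.node 89695 (.node 89689 (.node 89686 (.node 89685 (.leaf 0x306030003) (.leaf 0x1020206020702010802040105000d)) (.node 89687 (.leaf 0x201030003) (.node 89688 (.leaf 0x402020207030401030009) (.leaf 0x10502070206000802040105000c)))) (.node 89692 (.node 89690 (.leaf 0x201060003) (.node 89691 (.leaf 0x200050003) (.leaf 0x10406030500040202000701000c))) (.node 89693 (.leaf 0x200090003) (.node 89694 (.leaf 0x202000003) (.leaf 0x906020000030703040103000b))))) (.node 89701 (.node 89698 (.node 89696 (.leaf 0x7000000000300000008) (.node 89697 (.leaf 0x204030003) (.leaf 0x207030003))) (.node 89699 (.leaf 0x206010003) (.node 89700 (.leaf 0x3050206030802040105000a) (.leaf 0x809040208020401050009)))) (.node 89704 (.node 89702 (.leaf 0x901060003) (.node 89703 (.leaf 0x901090003) (.leaf 0x900000003))) (.node 89705 (.leaf 0x80004090009000703040103000c) (.node 89706 (.leaf 0x206090000090202000701000b) (.leaf 0x900090003))))))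

def argWS_7949 : Store := (.node 89684 argWS_7947 argWS_7948)

def argWS_7950 : Store := (.node 89718 (.node 89712 (.node 89709 (.node 89708 (.leaf 0x3010005) (.leaf 0x702090000090202000701000b)) (.node 89710 (.leaf 0x604000900090802040105000b) (.node 89711 (.leaf 0x90102020900000202000701000c) (.leaf 0x901020604000703040103000b)))) (.node 89715 (.node 89713 (.leaf 0x5020901090202000701000a) (.node 89714 (.leaf 0x702060207020703040103000b) (.leaf 0x70101090009000703040103000c))) (.node 89716 (.leaf 0x4000202020703040103000a) (.node 89717 (.leaf 0x907020901060802040105000b) (.leaf 0x3090806000006))))) (.node 89723 (.node 89720 (.node 89719 (.leaf 0x602010904020006) (.leaf 0x604000901090006)) (.node 89721 (.leaf 0x6010202020900000802040105000d) (.node 89722 (.leaf 0x1020105020604000703040103000d) (.leaf 0x40304000408010007)))) (.node 89726 (.node 89724 (.leaf 0x20000000300000202000701000d) (.node 89725 (.leaf 0x60401010908050802040105000c) (.leaf 0x204010904020006)))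 (.node 89727 (.leaf 0x6000901090802040105000a) (.node 89728 (.leaf 0x4030009020602000703040103000d) (.leaf 0x908050007030401030009))))))

def argWS_7951 : Store := (.node 89740 (.node 89734 (.node 89731 (.node 89730 (.leaf 0x9010207030802040105000a) (.leaf 0x20403070209020202000701000c)) (.node 89732 (.leaf 0x20200000408010007) (.node 89733 (.leaf 0x605020804000202000701000b) (.leaf 0x8020703060202000701000a)))) (.node 89737 (.node 89735 (.leaf 0x503040005000703040103000c) (.node 89736 (.leaf 0x90206020202000701000b) (.leaf 0x20002010904020802040105000c))) (.node 89738 (.leaf 0x20601010908050202000701000c) (.node 89739 (.leaf 0x60000000300000008) (.leaf 0x800070209020006))))) (.node 89746 (.node 89743 (.node 89741 (.leaf 0x406030500040006) (.node 89742 (.leaf 0x40103010102000007) (.leaf 0x606010400050802040105000b))) (.node 89744 (.leaf 0x4020506030500040202000701000d) (.node 89745 (.leaf 0x20505020202010202000701000c) (.leaf 0x10901090004)))) (.node 89749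 (.node 89747 (.leaf 0x6050601050002000703040103000d) (.node 89748 (.leaf 0x90705020202010007) (.leaf 0x903000901090006))) (.node 89750 (.leaf 0x30106030500040202000701000c) (.node 89751 (.leaf 0x10402000003010802040105000c) (.leaf 0x802000900090202000701000b))))))

def argWS_7952 : Store := (.node 89729 argWS_7950 argWS_7951)

def argWS_7953 : Store := (.node 89707 argWS_7949 argWS_7952)

def argWS_7954 : Store := (.node 89763 (.node 89757 (.node 89754 (.node 89753 (.leaf 0x2020602000703040103000a) (.leaf 0x7030500000300000008)) (.node 89755 (.leaf 0x1030009000009000703040103000d) (.node 89756 (.leaf 0x209020004) (.leaf 0x304030308000703040103000b)))) (.node 89760 (.node 89758 (.leaf 0x8000004080703040103000b) (.node 89759 (.leaf 0x8020005020202010008) (.leaf 0x104020703000703040103000b))) (.node 89761 (.leaf 0x105020206020007010009) (.node 89762 (.leaf 0x107070206000802040105000b) (.leaf 0x80101020106060802040105000c))))) (.node 89768 (.node 89765 (.node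 89764 (.leaf 0x2060101090805000703040103000d) (.leaf 0x200000300000006)) (.node 89766 (.leaf 0x906020106060202000701000b) (.node 89767 (.leaf 0x10001) (.leaf 0x1)))) (.node 89771 (.node 89769 (.leaf 0x30001) (.node 89770 (.leaf 0x20001) (.leaf 0x1010002))) (.node 89772 (.leaf 0x1030002) (.node 89773 (.leaf 0x1020002) (.leaf 0x1050002))))))

def argWS_7955 : Store := (.node 89785 (.node 89779 (.node 89776 (.node 89775 (.leaf 0x1040002) (.leaf 0x1060002)) (.node 89777 (.leaf 0x1090002) (.node 89778 (.leaf 0x2) (.leaf 0x20002)))) (.node 89782 (.node 89780 (.leaf 0x50002) (.node 89781 (.leaf 0x40002) (.leaf 0x90002))) (.node 89783 (.leaf 0x3000002) (.node 89784 (.leaf 0x3030002) (.leaf 0x3070002))))) (.node 89791 (.node 89788 (.node 89786 (.leaf 0x2010002) (.node 89787 (.leaf 0x2050002) (.leaf 0x2070002))) (.node 89789 (.leaf 0x2060002) (.node 89790 (.leaf 0x9000002) (.leaf 0x20002090106000703040103000d)))) (.node 89794 (.node 89792 (.leaf 0x5010904020005)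 (.node 89793 (.leaf 0x101060003) (.leaf 0x9020106060802040105000a))) (.node 89795 (.leaf 0x103010003) (.node 89796 (.leaf 0x70108020401050007) (.leaf 0x6020401050005))))))

def argWS_7956 : Store := (.node 89774 argWS_7954 argWS_7955)

def argWS_7957 : Store := (.node 89808 (.node 89802 (.node 89799 (.node 89798 (.leaf 0x700020804000202000701000c) (.leaf 0x600030000000703040103000b)) (.node 89800 (.leaf 0x7000005020202010802040105000d) (.node 89801 (.leaf 0x102020003) (.leaf 0x4000409000009000703040103000d)))) (.node 89805 (.node 89803 (.leaf 0x2060207030802040105000a) (.node 89804 (.leaf 0x2040105020202010202000701000d) (.leaf 0x604010400050202000701000b))) (.node 89806 (.leaf 0x5000206020007010008) (.node 89807 (.leaf 0x602090402000703040103000b) (.leaf 0x8050703060202000701000a))))) (.node 89813 (.node 89810 (.node 89809 (.leaf 0x700070206000202000701000b) (.leaf 0x104000003)) (.node 89811 (.leaf 0x2040206020007010008) (.node 89812 (.leaf 0x5000000000300000802040105000d)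 (.leaf 0x107000003)))) (.node 89816 (.node 89814 (.leaf 0x107030003) (.node 89815 (.leaf 0x70802020007010007) (.leaf 0x60601090806000007))) (.node 89817 (.leaf 0x205070206000006) (.node 89818 (.leaf 0x6040106010500020202000701000d) (.leaf 0x20500020804000007))))))

def argWS_7958 : Store := (.node 89830 (.node 89824 (.node 89821 (.node 89820 (.leaf 0x300070209020006) (.leaf 0x204000408010202000701000b)) (.node 89822 (.leaf 0x109030003) (.node 89823 (.leaf 0x7000005020604000703040103000d) (.leaf 0x1030106010500020802040105000d)))) (.node 89827 (.node 89825 (.leaf 0x3010003) (.node 89826 (.leaf 0x105020901090006) (.leaf 0x902010901090802040105000b))) (.node 89828 (.leaf 0x7020009020602000703040103000d) (.node 89829 (.leaf 0x3070002000003010802040105000d) (.leaf 0x2000003))))) (.node 89836 (.node 89833 (.node 89831 (.leaf 0x4040206020007010008) (.node 89832 (.leaf 0x900000408010202000701000b) (.leaf 0x109030601050002000703040103000e))) (.node 89834 (.leaf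 0x206010703060802040105000b) (.node 89835 (.leaf 0x10300020106060202000701000c) (.leaf 0x80200020000030703040103000c)))) (.node 89839 (.node 89837 (.leaf 0x5030003) (.node 89838 (.leaf 0x2050206030500040008) (.leaf 0x90300020901060007))) (.node 89840 (.leaf 0x4010206020007010008) (.node 89841 (.leaf 0x702070209020802040105000b) (.leaf 0x40202010004))))))

def argWS_7959 : Store := (.node 89819 argWS_7957 argWS_7958)

def argWS_7960 : Store := (.node 89797 argWS_7956 argWS_7959)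

def argWS_7961 : Store := (.node 89752 argWS_7953 argWS_7960)

def argWS_7962 : Store := (.node 89662 argWS_7946 argWS_7961)

def argWS_7963 : Store := (.node 89853 (.node 89847 (.node 89844 (.node 89843 (.leaf 0x6030003) (.leaf 0x80908050005)) (.node 89845 (.leaf 0x8020007020902000703040103000d) (.node 89846 (.leaf 0x8000003) (.leaf 0x20401010703060802040105000c)))) (.node 89850 (.node 89848 (.leaf 0x9000003) (.node 89849 (.leaf 0x60000020106060007) (.leaf 0x1030106030500040202000701000d))) (.node 89851 (.leaf 0x102010901090202000701000b) (.node 89852 (.leaf 0x702020703000703040103000b) (.leaf 0x300000003))))) (.node 89858 (.node 89855 (.node 89854 (.leaf 0x7010207030005) (.leaf 0x902060402020007010009)) (.node 89856 (.leaf 0x1040900090802040105000a) (.node 89857 (.leaf 0x202020003) (.leaf 0x4020500090206020802040105000d)))) (.node 89861 (.node 89859 (.leaf 0x200070306000703040103000b) (.node 89860 (.leaf 0x602010301010200000703040103000e) (.leaf 0x501060608020401050009)))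 (.node 89862 (.leaf 0x70000020901060007) (.node 89863 (.leaf 0x304030003) (.leaf 0x2000006010500020802040105000d))))))

def argWS_7964 : Store := (.node 89875 (.node 89869 (.node 89866 (.node 89865 (.leaf 0x306030003) (.leaf 0x1020206020702010802040105000d)) (.node 89867 (.leaf 0x201030003) (.node 89868 (.leaf 0x402020207030401030009) (.leaf 0x300090000090202000701000b)))) (.node 89872 (.node 89870 (.leaf 0x10502070206000802040105000c) (.node 89871 (.leaf 0x201060003) (.leaf 0x20908050005))) (.node 89873 (.leaf 0x10406030500040202000701000c) (.node 89874 (.leaf 0x202000003) (.leaf 0x101050202020703040103000b))))) (.node 89881 (.node 89878 (.node 89876 (.leaf 0x500090000090006) (.node 89877 (.leaf 0x7000000000300000008) (.leaf 0x204030003))) (.node 89879 (.leaf 0x1030002020900000802040105000d) (.node 89880 (.leaf 0x207030003) (.leaf 0x206010003)))) (.node 89884 (.node 89882 (.leaf 0x206030003) (.node 89883 (.leaf 0x3050206030802040105000a) (.leaf 0x809040208020401050009)))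 (.node 89885 (.leaf 0x901060003) (.node 89886 (.leaf 0x8000901090202000701000a) (.leaf 0x206090000090202000701000b))))))

def argWS_7965 : Store := (.node 89864 argWS_7963 argWS_7964)

def argWS_7966 : Store := (.node 89898 (.node 89892 (.node 89889 (.node 89888 (.leaf 0x900090003) (.leaf 0x3010005)) (.node 89890 (.leaf 0x702090000090202000701000b) (.node 89891 (.leaf 0x604000900090802040105000b) (.leaf 0x609080600000703040103000b)))) (.node 89895 (.node 89893 (.leaf 0x702060207020703040103000b) (.node 89894 (.leaf 0x70101090009000703040103000c) (.leaf 0x4000202020703040103000a))) (.node 89896 (.leaf 0x602010904020006) (.node 89897 (.leaf 0x6010202020900000802040105000d) (.leaf 0x1020105020604000703040103000d))))) (.node 89903 (.node 89900 (.node 89899 (.leaf 0x40304000408010007) (.leaf 0x20000000300000202000701000d)) (.node 89901 (.leaf 0x60401010908050802040105000c) (.node 89902 (.leaf 0x307090806000006) (.leaf 0x204010904020006)))) (.node 89906 (.node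 89904 (.leaf 0x6000901090802040105000a) (.node 89905 (.leaf 0x4030009020602000703040103000d) (.leaf 0x80500090806000202000701000c))) (.node 89907 (.leaf 0x20403070209020202000701000c) (.node 89908 (.leaf 0x0) (.leaf 0x20200000408010007))))))

def argWS_7967 : Store := (.node 89920 (.node 89914 (.node 89911 (.node 89910 (.leaf 0x800040206030006) (.leaf 0x605020804000202000701000b)) (.node 89912 (.leaf 0x8020703060202000701000a) (.node 89913 (.leaf 0x503040005000703040103000c) (.leaf 0x90206020202000701000b)))) (.node 89917 (.node 89915 (.leaf 0x20002010904020802040105000c) (.node 89916 (.leaf 0x20601010908050202000701000c) (.leaf 0x60000000300000008))) (.node 89918 (.leaf 0x5020000020804000202000701000d) (.node 89919 (.leaf 0x406030500040006) (.leaf 0x40103010102000007))))) (.node 89926 (.node 89923 (.node 89921 (.leaf 0x606010400050802040105000b) (.node 89922 (.leaf 0x4020506030500040202000701000d) (.leaf 0x20505020202010202000701000c))) (.node 89924 (.leaf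 0x9000601050002000703040103000e) (.node 89925 (.leaf 0x10901090004) (.leaf 0x701070009020007010009)))) (.node 89929 (.node 89927 (.leaf 0x6050601050002000703040103000d) (.node 89928 (.leaf 0x10900090004) (.leaf 0x903000901090006))) (.node 89930 (.leaf 0x30106030500040202000701000c) (.node 89931 (.leaf 0x10402000003010802040105000c) (.leaf 0x802000900090202000701000b))))))

def argWS_7968 : Store := (.node 89909 argWS_7966 argWS_7967)

def argWS_7969 : Store := (.node 89887 argWS_7965 argWS_7968)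

def argWS_7970 : Store := (.node 89943 (.node 89937 (.node 89934 (.node 89933 (.leaf 0x2020602000703040103000a) (.leaf 0x1030009000009000703040103000d)) (.node 89935 (.leaf 0x204030003030604000703040103000e) (.node 89936 (.leaf 0x209020004) (.leaf 0x304030308000703040103000b)))) (.node 89940 (.node 89938 (.leaf 0x107070206000802040105000b) (.node 89939 (.leaf 0x600070306000703040103000b) (.leaf 0x80101020106060802040105000c))) (.node 89941 (.leaf 0x2060101090805000703040103000d) (.node 89942 (.leaf 0x200000300000006) (.leaf 0x901040900090802040105000b))))) (.node 89948 (.node 89945 (.node 89944 (.leaf 0x906020106060202000701000b) (.leaf 0x30001)) (.node 89946 (.leaf 0x90001) (.node 89947 (.leaf 0x1010002) (.leaf 0x1030002)))) (.node 89951 (.node 89949 (.leaf 0x1020002) (.node 89950 (.leaf 0x1040002) (.leaf 0x1070002))) (.node 89952 (.leaf 0x1090002) (.node 89953 (.leaf 0x2) (.leaf 0x30002))))))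

def argWS_7971 : Store := (.node 89965 (.node 89959 (.node 89956 (.node 89955 (.leaf 0x20002) (.leaf 0x50002)) (.node 89957 (.leaf 0x40002) (.node 89958 (.leaf 0x70002) (.leaf 0x90002)))) (.node 89962 (.node 89960 (.leaf 0x3010002) (.node 89961 (.leaf 0x3000002) (.leaf 0x3030002))) (.node 89963 (.leaf 0x3040002) (.node 89964 (.leaf 0x3070002) (.leaf 0x3060002))))) (.node 89971 (.node 89968 (.node 89966 (.leaf 0x2010002) (.node 89967 (.leaf 0x2000002) (.leaf 0x2040002))) (.node 89969 (.leaf 0x2070002) (.node 89970 (.leaf 0x2060002) (.leaf 0x9010002)))) (.node 89974 (.node 89972 (.leaf 0x9000002) (.node 89973 (.leaf 0x30106010500020802040105000c) (.leaf 0x20002090106000703040103000d))) (.node 89975 (.leaf 0x90201070009030007) (.node 89976 (.leaf 0x103010003) (.leaf 0x70108020401050007))))))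

def argWS_7972 : Store := (.node 89954 argWS_7970 argWS_7971)

def argWS_7973 : Store := (.node 89988 (.node 89982 (.node 89979 (.node 89978 (.leaf 0x6020401050005) (.leaf 0x600030000000703040103000b)) (.node 89980 (.leaf 0x7000005020202010802040105000d) (.node 89981 (.leaf 0x102020003) (.leaf 0x4000409000009000703040103000d)))) (.node 89985 (.node 89983 (.leaf 0x2060207030802040105000a) (.node 89984 (.leaf 0x2040105020202010202000701000d) (.leaf 0x602090402000703040103000b))) (.node 89986 (.leaf 0x105020003) (.node 89987 (.leaf 0x700070206000202000701000b) (.leaf 0x104000003))))) (.node 89993 (.node 89990 (.node 89989 (.leaf 0x2040206020007010008) (.leaf 0x502000207030006)) (.node 89991 (.leaf 0x107000003) (.node 89992 (.leaf 0x107030003) (.leaf 0x70802020007010007)))) (.node 89996 (.node 89994 (.leaf 0x60601090806000007) (.node 89995 (.leaf 0x2020000090206020008) (.leaf 0x402020900000202000701000c))) (.node 89997 (.leaf 0x6040106010500020202000701000d)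 (.node 89998 (.leaf 0x300070209020006) (.leaf 0x204000408010202000701000b))))))

def argWS_7974 : Store := (.node 90010 (.node 90004 (.node 90001 (.node 90000 (.leaf 0x109030003) (.leaf 0x7000005020604000703040103000d)) (.node 90002 (.leaf 0x90003) (.node 90003 (.leaf 0x105020901090006) (.leaf 0x104020603000703040103000b)))) (.node 90007 (.node 90005 (.leaf 0x7020009020602000703040103000d) (.node 90006 (.leaf 0x3070002000003010802040105000d) (.leaf 0x900000408010202000701000b))) (.node 90008 (.leaf 0x109030601050002000703040103000e) (.node 90009 (.leaf 0x206010703060802040105000b) (.leaf 0x10300020106060202000701000c))))) (.node 90016 (.node 90013 (.node 90011 (.leaf 0x5030003) (.node 90012 (.leaf 0x50000070209020007) (.leaf 0x90300020901060007))) (.node 90014 (.leaf 0x107090805000703040103000b) (.node 90015 (.leaf 0x4020003) (.leaf 0x6000000090206020802040105000d)))) (.node 90019 (.node 90017 (.leaf 0x702070209020802040105000b) (.node 90018 (.leaf 0x40202010004)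 (.leaf 0x307050206040802040105000b))) (.node 90020 (.leaf 0x6000003) (.node 90021 (.leaf 0x8020007020902000703040103000d) (.leaf 0x8000003))))))

def argWS_7975 : Store := (.node 89999 argWS_7973 argWS_7974)

def argWS_7976 : Store := (.node 89977 argWS_7972 argWS_7975)

def argWS_7977 : Store := (.node 89932 argWS_7969 argWS_7976)

def argWS_7978 : Store := (.node 90033 (.node 90027 (.node 90024 (.node 90023 (.leaf 0x20401010703060802040105000c) (.leaf 0x209010908050202000701000b)) (.node 90025 (.leaf 0x60000020106060007) (.node 90026 (.leaf 0x1030106030500040202000701000d) (.leaf 0x301050003)))) (.node 90030 (.node 90028 (.leaf 0x102010901090202000701000b) (.node 90029 (.leaf 0x702020703000703040103000b) (.leaf 0x902060402020007010009))) (.node 90031 (.leaf 0x70209080600000703040103000c) (.node 90032 (.leaf 0x1040900090802040105000a) (.leaf 0x202020003))))) (.node 90038 (.node 90035 (.node 90034 (.leaf 0x602010301010200000703040103000e) (.leaf 0x501060608020401050009))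 (.node 90036 (.leaf 0x70000020901060007) (.node 90037 (.leaf 0x304030003) (.leaf 0x307000003)))) (.node 90041 (.node 90039 (.leaf 0x2000006010500020802040105000d) (.node 90040 (.leaf 0x9000206020007010008) (.leaf 0x306030003))) (.node 90042 (.leaf 0x1020206020702010802040105000d) (.node 90043 (.leaf 0x402020207030401030009) (.leaf 0x201060003))))))

def argWS_7979 : Store := (.node 90055 (.node 90049 (.node 90046 (.node 90045 (.leaf 0x201090003) (.leaf 0x200020003)) (.node 90047 (.leaf 0x10406030500040202000701000c) (.node 90048 (.leaf 0x202000003) (.leaf 0x30105020604000703040103000c)))) (.node 90052 (.node 90050 (.leaf 0x500090000090006) (.node 90051 (.leaf 0x204030003) (.leaf 0x1030002020900000802040105000d))) (.node 90053 (.leaf 0x207030003) (.node 90054 (.leaf 0x206010003) (.leaf 0x206030003))))) (.node 90061 (.node 90058 (.node 90056 (.leaf 0x8020908050202000701000a) (.node 90057 (.leaf 0x900000003) (.leaf 0x80004090009000703040103000c))) (.node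 90059 (.leaf 0x7030502020900000008) (.node 90060 (.leaf 0x900090003) (.leaf 0x301010200000703040103000d)))) (.node 90064 (.node 90062 (.leaf 0x702090000090202000701000b) (.node 90063 (.leaf 0x604000900090802040105000b) (.leaf 0x90102020900000202000701000c))) (.node 90065 (.leaf 0x3030900090005) (.node 90066 (.leaf 0x40300000300000007) (.leaf 0x702060207020703040103000b))))))

def argWS_7980 : Store := (.node 90044 argWS_7978 argWS_7979)

def argWS_7981 : Store := (.node 90078 (.node 90072 (.node 90069 (.node 90068 (.leaf 0x70500030306040202000701000c) (.leaf 0x3040101090805000703040103000d)) (.node 90070 (.leaf 0x402020900000202000701000b) (.node 90071 (.leaf 0x4000202020703040103000a) (.leaf 0x907020901060802040105000b)))) (.node 90075 (.node 90073 (.leaf 0x10500020004) (.node 90074 (.leaf 0x8010408010802040105000a) (.leaf 0x6010202020900000802040105000d))) (.node 90076 (.leaf 0x40009000009000703040103000d) (.node 90077 (.leaf 0x1020105020604000703040103000d)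 (.leaf 0x3040301090805000703040103000d))))) (.node 90083 (.node 90080 (.node 90079 (.leaf 0x60401010908050802040105000c) (.leaf 0x4040603050004000703040103000d)) (.node 90081 (.leaf 0x204010904020006) (.node 90082 (.leaf 0x6000901090802040105000a) (.leaf 0x4030009020602000703040103000d)))) (.node 90086 (.node 90084 (.leaf 0x908050007030401030009) (.node 90085 (.leaf 0x20403070209020202000701000c) (.leaf 0x90306020702010802040105000c))) (.node 90087 (.leaf 0x10206030004) (.node 90088 (.leaf 0x503040005000703040103000c) (.leaf 0x20200000300000802040105000c))))))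

def argWS_7982 : Store := (.node 90100 (.node 90094 (.node 90091 (.node 90090 (.leaf 0x200090206020202000701000c) (.leaf 0x9030900090005)) (.node 90092 (.leaf 0x605010308000703040103000b) (.node 90093 (.leaf 0x3040207020007010008) (.leaf 0x40103010102000007)))) (.node 90097 (.node 90095 (.leaf 0x606010400050802040105000b) (.node 90096 (.leaf 0x4020506030500040202000701000d) (.leaf 0x20206000004))) (.node 90098 (.leaf 0x6010900090802040105000a) (.node 90099 (.leaf 0x4020505020202010802040105000d) (.leaf 0x3090009000703040103000b))))) (.node 90106 (.node 90103 (.node 90101 (.leaf 0x3010400050005) (.node 90102 (.leaf 0x9000601050002000703040103000e) (.leaf 0x701070009020007010009))) (.node 90104 (.leaf 0x401070009030006) (.node 90105 (.leaf 0x30106030500040202000701000c) (.leaf 0x2020602000703040103000a)))) (.node 90109 (.node 90107 (.leaf 0x30002020900000802040105000c) (.node 90108 (.leaf 0x10202010703060802040105000c) (.leaf 0x307000301010200000703040103000e)))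 (.node 90110 (.leaf 0x400050004) (.node 90111 (.leaf 0x200020603000703040103000b) (.leaf 0x304030308000703040103000b))))))

def argWS_7983 : Store := (.node 90089 argWS_7981 argWS_7982)

def argWS_7984 : Store := (.node 90067 argWS_7980 argWS_7983)

def argWS_7985 : Store := (.node 90123 (.node 90117 (.node 90114 (.node 90113 (.leaf 0x70200020804000802040105000c) (.leaf 0x600070306000703040103000b)) (.node 90115 (.leaf 0x2010307020600000703040103000d) (.node 90116 (.leaf 0x2060101090805000703040103000d) (.leaf 0x200000300000006)))) (.node 90120 (.node 90118 (.leaf 0x400090206020007) (.node 90119 (.leaf 0x104000900090006) (.leaf 0x60102010901090007))) (.node 90121 (.leaf 0x10001) (.node 90122 (.leaf 0x30001) (.leaf 0x20001))))) (.node 90128 (.node 90125 (.node 90124 (.leaf 0x1030002) (.leaf 0x1020002)) (.node 90126 (.leaf 0x1050002) (.node 90127 (.leaf 0x1040002) (.leaf 0x1060002)))) (.node 90131 (.node 90129 (.leaf 0x1090002) (.node 90130 (.leaf 0x2) (.leaf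 0x30002))) (.node 90132 (.leaf 0x50002) (.node 90133 (.leaf 0x40002) (.leaf 0x60002))))))

def argWS_7986 : Store := (.node 90145 (.node 90139 (.node 90136 (.node 90135 (.leaf 0x90002) (.leaf 0x3010002)) (.node 90137 (.leaf 0x3000002) (.node 90138 (.leaf 0x3050002) (.leaf 0x3070002)))) (.node 90142 (.node 90140 (.leaf 0x3060002) (.node 90141 (.leaf 0x2010002) (.leaf 0x2000002))) (.node 90143 (.leaf 0x2020002) (.node 90144 (.leaf 0x2070002) (.leaf 0x2060002))))) (.node 90151 (.node 90148 (.node 90146 (.leaf 0x9010002) (.node 90147 (.leaf 0x9000002) (.leaf 0x5010904020005))) (.node 90149 (.leaf 0x9020106060802040105000a) (.node 90150 (.leaf 0x103010003) (.leaf 0x6020401050005)))) (.node 90154 (.node 90152 (.leaf 0x700020804000202000701000c) (.node 90153 (.leaf 0x7020000030000000703040103000d) (.leaf 0x2060207030802040105000a))) (.node 90155 (.leaf 0x604010400050202000701000b) (.node 90156 (.leaf 0x5000206020007010008) (.leaf 0x602090402000703040103000b))))))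

def argWS_7987 : Store := (.node 90134 argWS_7985 argWS_7986)

def argWS_7988 : Store := (.node 90168 (.node 90162 (.node 90159 (.node 90158 (.leaf 0x105020003) (.leaf 0x104000003)) (.node 90160 (.leaf 0x107000003) (.node 90161 (.leaf 0x70802020007010007) (.leaf 0x60601090806000007)))) (.node 90165 (.node 90163 (.leaf 0x2020000090206020008) (.node 90164 (.leaf 0x205070206000006) (.leaf 0x20500020804000007))) (.node 90166 (.leaf 0x300070209020006) (.node 90167 (.leaf 0x204000408010202000701000b) (.leaf 0x109030003))))) (.node 90174 (.node 90171 (.node 90169 (.leaf 0x1030106010500020802040105000d) (.node 90170 (.leaf 0x20002090106000703040103000c) (.leaf 0x3010003))) (.node 90172 (.leaf 0x105020901090006) (.node 90173 (.leaf 0x3060003) (.leaf 0x7020009020602000703040103000d)))) (.node 90177 (.node 90175 (.leaf 0x2000003) (.node 90176 (.leaf 0x4040206020007010008) (.leaf 0x900000408010202000701000b))) (.node 90178 (.leaf 0x109030601050002000703040103000e)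 (.node 90179 (.leaf 0x10300020106060202000701000c) (.leaf 0x80200020000030703040103000c))))))

def argWS_7989 : Store := (.node 90191 (.node 90185 (.node 90182 (.node 90181 (.leaf 0x5030003) (.leaf 0x50000070209020007)) (.node 90183 (.leaf 0x2050206030500040008) (.node 90184 (.leaf 0x90300020901060007) (.leaf 0x107090805000703040103000b)))) (.node 90188 (.node 90186 (.leaf 0x4020003) (.node 90187 (.leaf 0x4010206020007010008) (.leaf 0x702070209020802040105000b))) (.node 90189 (.leaf 0x40202010004) (.node 90190 (.leaf 0x6030003) (.leaf 0x80908050005))))) (.node 90197 (.node 90194 (.node 90192 (.leaf 0x8020007020902000703040103000d) (.node 90193 (.leaf 0x60000020106060007) (.leaf 0x1030106030500040202000701000d))) (.node 90195 (.leaf 0x102010901090202000701000b) (.node 90196 (.leaf 0x702020703000703040103000b) (.leaf 0x300000003)))) (.node 90200 (.node 90198 (.leaf 0x7010207030005) (.node 90199 (.leaf 0x902060402020007010009) (.leaf 0x1040900090802040105000a)))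 (.node 90201 (.leaf 0x4020500090206020802040105000d) (.node 90202 (.leaf 0x200070306000703040103000b) (.leaf 0x501060608020401050009))))))

def argWS_7990 : Store := (.node 90180 argWS_7988 argWS_7989)

def argWS_7991 : Store := (.node 90157 argWS_7987 argWS_7990)

def argWS_7992 : Store := (.node 90112 argWS_7984 argWS_7991)

def argWS_7993 : Store := (.node 90022 argWS_7977 argWS_7992)

def argWS_7994 : Store := (.node 89842 argWS_7962 argWS_7993)

def argWS_7995 : Store := (.node 90214 (.node 90208 (.node 90205 (.node 90204 (.leaf 0x70000020901060007) (.leaf 0x304030003)) (.node 90206 (.leaf 0x306030003) (.node 90207 (.leaf 0x201030003) (.leaf 0x300090000090202000701000b)))) (.node 90211 (.node 90209 (.leaf 0x10502070206000802040105000c) (.node 90210 (.leaf 0x201060003) (.leaf 0x20908050005))) (.node 90212 (.leaf 0x200050003) (.node 90213 (.leaf 0x10406030500040202000701000c) (.leaf 0x906020000030703040103000b))))) (.node 90219 (.node 90216 (.node 90215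 (.leaf 0x7000000000300000008) (.leaf 0x204030003)) (.node 90217 (.leaf 0x1030002020900000802040105000d) (.node 90218 (.leaf 0x206010003) (.leaf 0x206030003)))) (.node 90222 (.node 90220 (.leaf 0x3050206030802040105000a) (.node 90221 (.leaf 0x901060003) (.leaf 0x901090003))) (.node 90223 (.leaf 0x900000003) (.node 90224 (.leaf 0x6050102000003010202000701000d) (.leaf 0x8000901090202000701000a))))))

def argWS_7996 : Store := (.node 90236 (.node 90230 (.node 90227 (.node 90226 (.leaf 0x206090000090202000701000b) (.leaf 0x900090003)) (.node 90228 (.leaf 0x609080600000703040103000b) (.node 90229 (.leaf 0x40300000300000007) (.leaf 0x4000202020703040103000a)))) (.node 90233 (.node 90231 (.leaf 0x907020901060802040105000b) (.node 90232 (.leaf 0x3090806000006) (.leaf 0x602010904020006))) (.node 90234 (.leaf 0x604000901090006) (.node 90235 (.leaf 0x6010202020900000802040105000d) (.leaf 0x40009000009000703040103000d))))) (.node 90242 (.node 90239 (.node 90237 (.leaf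 0x40304000408010007) (.node 90238 (.leaf 0x20000000300000202000701000d) (.leaf 0x60401010908050802040105000c))) (.node 90240 (.leaf 0x307090806000006) (.node 90241 (.leaf 0x4030009020602000703040103000d) (.leaf 0x908050007030401030009)))) (.node 90245 (.node 90243 (.leaf 0x20403070209020202000701000c) (.node 90244 (.leaf 0x20200000408010007) (.leaf 0x800040206030006))) (.node 90246 (.leaf 0x8020703060202000701000a) (.node 90247 (.leaf 0x503040005000703040103000c) (.leaf 0x20002010904020802040105000c))))))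

def argWS_7997 : Store := (.node 90225 argWS_7995 argWS_7996)

def argWS_7998 : Store := (.node 90259 (.node 90253 (.node 90250 (.node 90249 (.leaf 0x20601010908050202000701000c) (.leaf 0x60000000300000008)) (.node 90251 (.leaf 0x800070209020006) (.node 90252 (.leaf 0x20505020202010202000701000c) (.leaf 0x5090000090802040105000a)))) (.node 90256 (.node 90254 (.leaf 0x9000601050002000703040103000e) (.node 90255 (.leaf 0x10901090004) (.leaf 0x701070009020007010009))) (.node 90257 (.leaf 0x6050601050002000703040103000d) (.node 90258 (.leaf 0x10900090004) (.leaf 0x90705020202010007))))) (.node 90264 (.node 90261 (.node 90260 (.leaf 0x903000901090006) (.leaf 0x30106030500040202000701000c)) (.node 90262 (.leaf 0x10402000003010802040105000c) (.node 90263 (.leaf 0x802000900090202000701000b) (.leaf 0x7030500000300000008)))) (.node 90267 (.node 90265 (.leaf 0x204030003030604000703040103000e) (.node 90266 (.leaf 0x209020004) (.leaf 0x304030308000703040103000b)))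 (.node 90268 (.leaf 0x8000004080703040103000b) (.node 90269 (.leaf 0x8020005020202010008) (.leaf 0x104020703000703040103000b))))))

def argWS_7999 : Store := (.node 90281 (.node 90275 (.node 90272 (.node 90271 (.leaf 0x105020206020007010009) (.leaf 0x107070206000802040105000b)) (.node 90273 (.leaf 0x600070306000703040103000b) (.node 90274 (.leaf 0x2060101090805000703040103000d) (.leaf 0x60301020106060802040105000c)))) (.node 90278 (.node 90276 (.leaf 0x200000300000006) (.node 90277 (.leaf 0x1) (.leaf 0x1010002))) (.node 90279 (.leaf 0x1030002) (.node 90280 (.leaf 0x1020002) (.leaf 0x1050002))))) (.node 90287 (.node 90284 (.node 90282 (.leaf 0x1040002) (.node 90283 (.leaf 0x1070002) (.leaf 0x1090002))) (.node 90285 (.leaf 0x2) (.node 90286 (.leaf 0x30002) (.leaf 0x50002)))) (.node 90290 (.node 90288 (.leaf 0x40002) (.node 90289 (.leaf 0x70002) (.leaf 0x90002))) (.node 90291 (.leaf 0x3000002) (.node 90292 (.leaf 0x3030002) (.leaf 0x3040002))))))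

def argWS_8000 : Store := (.node 90270 argWS_7998 argWS_7999)

def argWS_8001 : Store := (.node 90248 argWS_7997 argWS_8000)

def argWS_8002 : Store := (.node 90304 (.node 90298 (.node 90295 (.node 90294 (.leaf 0x3070002) (.leaf 0x2010002)) (.node 90296 (.leaf 0x2020002) (.node 90297 (.leaf 0x2040002) (.leaf 0x2070002)))) (.node 90301 (.node 90299 (.leaf 0x9010002) (.node 90300 (.leaf 0x9000002) (.leaf 0x20002090106000703040103000d))) (.node 90302 (.leaf 0x90201070009030007) (.node 90303 (.leaf 0x9020106060802040105000a) (.leaf 0x70108020401050007))))) (.node 90309 (.node 90306 (.node 90305 (.leaf 0x6020401050005) (.leaf 0x700020804000202000701000c)) (.node 90307 (.leaf 0x600030000000703040103000b) (.node 90308 (.leaf 0x7000005020202010802040105000d) (.leaf 0x7020000030000000703040103000d)))) (.node 90312 (.node 90310 (.leaf 0x102020003) (.node 90311 (.leaf 0x2060207030802040105000a) (.leaf 0x2040105020202010202000701000d))) (.node 90313 (.leaf 0x5000206020007010008)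 (.node 90314 (.leaf 0x602090402000703040103000b) (.leaf 0x700070206000202000701000b))))))

def argWS_8003 : Store := (.node 90326 (.node 90320 (.node 90317 (.node 90316 (.leaf 0x104000003) (.leaf 0x2040206020007010008)) (.node 90318 (.leaf 0x502000207030006) (.node 90319 (.leaf 0x5000000000300000802040105000d) (.leaf 0x107000003)))) (.node 90323 (.node 90321 (.leaf 0x107030003) (.node 90322 (.leaf 0x70802020007010007) (.leaf 0x60601090806000007))) (.node 90324 (.leaf 0x2020000090206020008) (.node 90325 (.leaf 0x700090402000703040103000b) (.leaf 0x402020900000202000701000c))))) (.node 90332 (.node 90329 (.node 90327 (.leaf 0x205070206000006) (.node 90328 (.leaf 0x6040106010500020202000701000d) (.leaf 0x300070209020006))) (.node 90330 (.leaf 0x204000408010202000701000b) (.node 90331 (.leaf 0x1030106010500020802040105000d) (.leaf 0x90003)))) (.node 90335 (.node 90333 (.leaf 0x3010003) (.node 90334 (.leaf 0x7020009020602000703040103000d) (.leaf 0x2000003)))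 (.node 90336 (.leaf 0x900000408010202000701000b) (.node 90337 (.leaf 0x109030601050002000703040103000e) (.leaf 0x206010703060802040105000b))))))

def argWS_8004 : Store := (.node 90315 argWS_8002 argWS_8003)

def argWS_8005 : Store := (.node 90349 (.node 90343 (.node 90340 (.node 90339 (.leaf 0x10300020106060202000701000c) (.leaf 0x5030003)) (.node 90341 (.leaf 0x50000070209020007) (.node 90342 (.leaf 0x4000003) (.leaf 0x107090805000703040103000b)))) (.node 90346 (.node 90344 (.leaf 0x4020003) (.node 90345 (.leaf 0x6000000090206020802040105000d) (.leaf 0x4010206020007010008))) (.node 90347 (.leaf 0x702070209020802040105000b) (.node 90348 (.leaf 0x40202010004) (.leaf 0x307050206040802040105000b))))) (.node 90354 (.node 90351 (.node 90350 (.leaf 0x6000003) (.leaf 0x6030003)) (.node 90352 (.leaf 0x8000003) (.node 90353 (.leaf 0x20401010703060802040105000c) (.leaf 0x9000003)))) (.node 90357 (.node 90355 (.leaf 0x209010908050202000701000b) (.node 90356 (.leaf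 0x60000020106060007) (.leaf 0x1030106030500040202000701000d))) (.node 90358 (.leaf 0x301050003) (.node 90359 (.leaf 0x102010901090202000701000b) (.leaf 0x702020703000703040103000b))))))

def argWS_8006 : Store := (.node 90371 (.node 90365 (.node 90362 (.node 90361 (.leaf 0x902060402020007010009) (.leaf 0x70209080600000703040103000c)) (.node 90363 (.leaf 0x1040900090802040105000a) (.node 90364 (.leaf 0x20105020604000703040103000c) (.leaf 0x501060608020401050009)))) (.node 90368 (.node 90366 (.leaf 0x70000020901060007) (.node 90367 (.leaf 0x304030003) (.leaf 0x307000003))) (.node 90369 (.leaf 0x2000006010500020802040105000d) (.node 90370 (.leaf 0x9000206020007010008) (.leaf 0x306030003))))) (.node 90377 (.node 90374 (.node 90372 (.leaf 0x1020206020702010802040105000d) (.node 90373 (.leaf 0x201030003) (.leaf 0x402020207030401030009))) (.node 90375 (.leaf 0x10502070206000802040105000c) (.node 90376 (.leaf 0x201090003) (.leaf 0x200050003)))) (.node 90380 (.node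 90378 (.leaf 0x500090000090006) (.node 90379 (.leaf 0x204030003) (.leaf 0x1030002020900000802040105000d))) (.node 90381 (.leaf 0x207030003) (.node 90382 (.leaf 0x206010003) (.leaf 0x206030003))))))

def argWS_8007 : Store := (.node 90360 argWS_8005 argWS_8006)

def argWS_8008 : Store := (.node 90338 argWS_8004 argWS_8007)

def argWS_8009 : Store := (.node 90293 argWS_8001 argWS_8008)

def argWS_8010 : Store := (.node 90394 (.node 90388 (.node 90385 (.node 90384 (.leaf 0x809040208020401050009) (.leaf 0x8020908050202000701000a)) (.node 90386 (.leaf 0x900000003) (.node 90387 (.leaf 0x80004090009000703040103000c) (.leaf 0x7030502020900000008)))) (.node 90391 (.node 90389 (.leaf 0x900090003) (.node 90390 (.leaf 0x903000003) (.leaf 0x301010200000703040103000d))) (.node 90392 (.leaf 0x6000703060802040105000a) (.node 90393 (.leaf 0x3070006020702010008) (.leaf 0x604000900090802040105000b))))) (.node 90399 (.node 90396 (.node 90395 (.leaf 0x90102020900000202000701000c)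 (.leaf 0x3030900090005)) (.node 90397 (.leaf 0x702060207020703040103000b) (.node 90398 (.leaf 0x70500030306040202000701000c) (.leaf 0x3040101090805000703040103000d)))) (.node 90402 (.node 90400 (.leaf 0x402020900000202000701000b) (.node 90401 (.leaf 0x4000202020703040103000a) (.leaf 0x6010202020900000802040105000d))) (.node 90403 (.leaf 0x1020105020604000703040103000d) (.node 90404 (.leaf 0x20000000300000202000701000d) (.leaf 0x6000901090802040105000a))))))

def argWS_8011 : Store := (.node 90416 (.node 90410 (.node 90407 (.node 90406 (.leaf 0x4030009020602000703040103000d) (.leaf 0x800040206030006)) (.node 90408 (.leaf 0x90306020702010802040105000c) (.node 90409 (.leaf 0x10206030004) (.leaf 0x503040005000703040103000c)))) (.node 90413 (.node 90411 (.leaf 0x20200000300000802040105000c) (.node 90412 (.leaf 0x200090206020202000701000c) (.leaf 0x9030900090005))) (.node 90414 (.leaf 0x20006030500040007) (.node 90415 (.leaf 0x605010308000703040103000b) (.leaf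 0x3040207020007010008))))) (.node 90422 (.node 90419 (.node 90417 (.leaf 0x10401050004) (.node 90418 (.leaf 0x406030500040006) (.leaf 0x40103010102000007))) (.node 90420 (.leaf 0x606010400050802040105000b) (.node 90421 (.leaf 0x4020506030500040202000701000d) (.leaf 0x20206000004)))) (.node 90425 (.node 90423 (.leaf 0x6010900090802040105000a) (.node 90424 (.leaf 0x4020505020202010802040105000d) (.leaf 0x3090009000703040103000b))) (.node 90426 (.leaf 0x60106030500040802040105000c) (.node 90427 (.leaf 0x3010400050005) (.leaf 0x9000601050002000703040103000e))))))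

def argWS_8012 : Store := (.node 90405 argWS_8010 argWS_8011)

def argWS_8013 : Store := (.node 90439 (.node 90433 (.node 90430 (.node 90429 (.leaf 0x701070009020007010009) (.leaf 0x401070009030006)) (.node 90431 (.leaf 0x30106030500040202000701000c) (.node 90432 (.leaf 0x10202010703060802040105000c) (.leaf 0x307000301010200000703040103000e)))) (.node 90436 (.node 90434 (.leaf 0x304030308000703040103000b) (.node 90435 (.leaf 0x80004090806000007) (.leaf 0x8000004080703040103000b))) (.node 90437 (.leaf 0x105020206020007010009) (.node 90438 (.leaf 0x70200020804000802040105000c) (.leaf 0x90201070206000202000701000c))))) (.node 90444 (.node 90441 (.node 90440 (.leaf 0x2060101090805000703040103000d) (.leaf 0x200000300000006)) (.node 90442 (.leaf 0x400090206020007) (.node 90443 (.leaf 0x104000900090006) (.leaf 0x80300000408010202000701000c)))) (.node 90447 (.node 90445 (.leaf 0x10001) (.node 90446 (.leaf 0x1) (.leaf 0x30001))) (.node 90448 (.leaf 0x20001) (.node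 90449 (.leaf 0x1020002) (.leaf 0x1040002))))))

def argWS_8014 : Store := (.node 90461 (.node 90455 (.node 90452 (.node 90451 (.leaf 0x1070002) (.leaf 0x30002)) (.node 90453 (.leaf 0x40002) (.node 90454 (.leaf 0x70002) (.leaf 0x60002)))) (.node 90458 (.node 90456 (.leaf 0x90002) (.node 90457 (.leaf 0x3000002) (.leaf 0x3050002))) (.node 90459 (.leaf 0x3040002) (.node 90460 (.leaf 0x2000002) (.leaf 0x2050002))))) (.node 90467 (.node 90464 (.node 90462 (.leaf 0x9010002) (.node 90463 (.leaf 0x30106010500020802040105000c) (.leaf 0x20002090106000703040103000d))) (.node 90465 (.leaf 0x90201070009030007) (.node 90466 (.leaf 0x9020106060802040105000a) (.leaf 0x103010003)))) (.node 90470 (.node 90468 (.leaf 0x6020401050005) (.node 90469 (.leaf 0x600030000000703040103000b) (.leaf 0x7000005020202010802040105000d))) (.node 90471 (.leaf 0x2060207030802040105000a) (.node 90472 (.leaf 0x602090402000703040103000b) (.leaf 0x8050703060202000701000a))))))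

def argWS_8015 : Store := (.node 90450 argWS_8013 argWS_8014)

def argWS_8016 : Store := (.node 90428 argWS_8012 argWS_8015)

def argWS_8017 : Store := (.node 90484 (.node 90478 (.node 90475 (.node 90474 (.leaf 0x700070206000202000701000b) (.leaf 0x2040206020007010008)) (.node 90476 (.leaf 0x700090402000703040103000b) (.node 90477 (.leaf 0x204000408010202000701000b) (.leaf 0x3010003)))) (.node 90481 (.node 90479 (.leaf 0x902010901090802040105000b) (.node 90480 (.leaf 0x7020009020602000703040103000d) (.leaf 0x3070002000003010802040105000d))) (.node 90482 (.leaf 0x900000408010202000701000b) (.node 90483 (.leaf 0x206010703060802040105000b) (.leaf 0x50000070209020007))))) (.node 90489 (.node 90486 (.node 90485 (.leaf 0x2050206030500040008) (.leaf 0x4000003)) (.node 90487 (.leaf 0x4010206020007010008) (.node 90488 (.leaf 0x40202010004) (.leaf 0x307050206040802040105000b)))) (.node 90492 (.node 90490 (.leaf 0x8020007020902000703040103000d) (.node 90491 (.leaf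 0x8000003) (.leaf 0x9000003))) (.node 90493 (.leaf 0x209010908050202000701000b) (.node 90494 (.leaf 0x1030106030500040202000701000d) (.leaf 0x301050003))))))

def argWS_8018 : Store := (.node 90506 (.node 90500 (.node 90497 (.node 90496 (.leaf 0x102010901090202000701000b) (.leaf 0x300000003)) (.node 90498 (.leaf 0x7010207030005) (.node 90499 (.leaf 0x70209080600000703040103000c) (.leaf 0x1040900090802040105000a)))) (.node 90503 (.node 90501 (.leaf 0x202020003) (.node 90502 (.leaf 0x4020500090206020802040105000d) (.leaf 0x501060608020401050009))) (.node 90504 (.leaf 0x304030003) (.node 90505 (.leaf 0x307000003) (.leaf 0x2000006010500020802040105000d))))) (.node 90512 (.node 90509 (.node 90507 (.leaf 0x306030003) (.node 90508 (.leaf 0x300090000090202000701000b) (.leaf 0x201090003))) (.node 90510 (.leaf 0x20908050005) (.node 90511 (.leaf 0x200020003) (.leaf 0x200050003)))) (.node 90515 (.node 90513 (.leaf 0x200090003) (.node 90514 (.leaf 0x202000003) (.leaf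 0x906020000030703040103000b))) (.node 90516 (.leaf 0x500090000090006) (.node 90517 (.leaf 0x7000000000300000008) (.leaf 0x204030003))))))

def argWS_8019 : Store := (.node 90495 argWS_8017 argWS_8018)

def argWS_8020 : Store := (.node 90529 (.node 90523 (.node 90520 (.node 90519 (.leaf 0x1030002020900000802040105000d) (.leaf 0x207030003)) (.node 90521 (.leaf 0x206030003) (.node 90522 (.leaf 0x8020908050202000701000a) (.leaf 0x901060003)))) (.node 90526 (.node 90524 (.leaf 0x901090003) (.node 90525 (.leaf 0x900000003) (.leaf 0x80004090009000703040103000c))) (.node 90527 (.leaf 0x900090003) (.node 90528 (.leaf 0x903000003) (.leaf 0x3010005))))) (.node 90535 (.node 90532 (.node 90530 (.leaf 0x604000900090802040105000b) (.node 90531 (.leaf 0x40300000300000007) (.leaf 0x402020900000202000701000b))) (.node 90533 (.leaf 0x4000202020703040103000a) (.node 90534 (.leaf 0x907020901060802040105000b) (.leaf 0x3090806000006)))) (.node 90538 (.node 90536 (.leaf 0x602010904020006)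 (.node 90537 (.leaf 0x10500020004) (.leaf 0x704010904020802040105000b))) (.node 90539 (.leaf 0x20000000300000202000701000d) (.node 90540 (.leaf 0x307090806000006) (.leaf 0x204010904020006))))))

def argWS_8021 : Store := (.node 90552 (.node 90546 (.node 90543 (.node 90542 (.leaf 0x9010207030802040105000a) (.leaf 0x20200000408010007)) (.node 90544 (.leaf 0x90306020702010802040105000c) (.node 90545 (.leaf 0x10206030004) (.leaf 0x503040005000703040103000c)))) (.node 90549 (.node 90547 (.leaf 0x90206020202000701000b) (.node 90548 (.leaf 0x906090000090202000701000b) (.leaf 0x102010908050802040105000b))) (.node 90550 (.leaf 0x20601010908050202000701000c) (.node 90551 (.leaf 0x60000000300000008) (.leaf 0x20000090000090802040105000c))))) (.node 90558 (.node 90555 (.node 90553 (.leaf 0x4020506030500040202000701000d) (.node 90554 (.leaf 0x8050008020401050008) (.leaf 0x6010900090802040105000a))) (.node 90556 (.leaf 0x20505020202010202000701000c) (.node 90557 (.leaf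 0x5090000090802040105000a) (.leaf 0x701070009020007010009)))) (.node 90561 (.node 90559 (.leaf 0x401070009030006) (.node 90560 (.leaf 0x20902020900000202000701000c) (.leaf 0x502010401050006))) (.node 90562 (.leaf 0x10101090805000703040103000c) (.node 90563 (.leaf 0x6050105020604000703040103000d) (.leaf 0x204030003030604000703040103000e))))))

def argWS_8022 : Store := (.node 90541 argWS_8020 argWS_8021)

def argWS_8023 : Store := (.node 90518 argWS_8019 argWS_8022)

def argWS_8024 : Store := (.node 90473 argWS_8016 argWS_8023)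

def argWS_8025 : Store := (.node 90383 argWS_8009 argWS_8024)

def argWS_8026 : Store := (.node 90575 (.node 90569 (.node 90566 (.node 90565 (.leaf 0x209020004) (.leaf 0x1080007030401030008)) (.node 90567 (.leaf 0x8000004080703040103000b) (.node 90568 (.leaf 0x9070202090000000703040103000d) (.leaf 0x70200020804000802040105000c)))) (.node 90572 (.node 90570 (.leaf 0x90201070206000202000701000c) (.node 90571 (.leaf 0x2060101090805000703040103000d) (.leaf 0x400090206020007))) (.node 90573 (.leaf 0x10001) (.node 90574 (.leaf 0x1) (.leaf 0x30001))))) (.node 90580 (.node 90577 (.node 90576 (.leaf 0x20001) (.leaf 0x1010002)) (.node 90578 (.leaf 0x1030002) (.node 90579 (.leaf 0x0) (.leaf 0x1020002)))) (.node 90583 (.node 90581 (.leaf 0x1050002) (.node 90582 (.leaf 0x1070002) (.leaf 0x1080002))) (.node 90584 (.leaf 0x2) (.node 90585 (.leaf 0x20002) (.leaf 0x50002))))))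

def argWS_8027 : Store := (.node 90597 (.node 90591 (.node 90588 (.node 90587 (.leaf 0x90002) (.leaf 0x3010002)) (.node 90589 (.leaf 0x3050002) (.node 90590 (.leaf 0x3060002) (.leaf 0x702020901060202000701000b)))) (.node 90594 (.node 90592 (.leaf 0x2010002) (.node 90593 (.leaf 0x2000002) (.leaf 0x2040002))) (.node 90595 (.leaf 0x2090002) (.node 90596 (.leaf 0x9030002) (.leaf 0x30106010500020802040105000c))))) (.node 90603 (.node 90600 (.node 90598 (.leaf 0x20002090106000703040103000d) (.node 90599 (.leaf 0x101060003) (.leaf 0x9020106060802040105000a))) (.node 90601 (.leaf 0x103010003) (.node 90602 (.leaf 0x70108020401050007) (.leaf 0x7020000030000000703040103000d)))) (.node 90606 (.node 90604 (.leaf 0x102010003) (.node 90605 (.leaf 0x102020003) (.leaf 0x4000409000009000703040103000d))) (.node 90607 (.leaf 0x2060207030802040105000a) (.node 90608 (.leaf 0x102080003) (.leaf 0x604010400050202000701000b))))))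

def argWS_8028 : Store := (.node 90586 argWS_8026 argWS_8027)

def argWS_8029 : Store := (.node 90620 (.node 90614 (.node 90611 (.node 90610 (.leaf 0x602090402000703040103000b) (.leaf 0x60000070009030802040105000c)) (.node 90612 (.leaf 0x8050703060202000701000a) (.node 90613 (.leaf 0x700070206000202000701000b) (.leaf 0x9030002020900000202000701000d)))) (.node 90617 (.node 90615 (.leaf 0x502000207030006) (.node 90616 (.leaf 0x5000000000300000802040105000d) (.leaf 0x107000003))) (.node 90618 (.leaf 0x107030003) (.node 90619 (.leaf 0x70802020007010007) (.leaf 0x60601090806000007))))) (.node 90625 (.node 90622 (.node 90621 (.leaf 0x205070206000006) (.leaf 0x20500020804000007)) (.node 90623 (.leaf 0x700000900090802040105000b) (.node 90624 (.leaf 0x300070209020006) (.leaf 0x7000005020604000703040103000d)))) (.node 90628 (.node 90626 (.leaf 0x30402000003010202000701000c) (.node 90627 (.leaf 0x90003) (.leaf 0x3010003))) (.node 90629 (.leaf 0x104020603000703040103000b)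 (.node 90630 (.leaf 0x3060003) (.leaf 0x4040206020007010008))))))

def argWS_8030 : Store := (.node 90642 (.node 90636 (.node 90633 (.node 90632 (.leaf 0x80200020000030703040103000c) (.leaf 0x2050206030500040008)) (.node 90634 (.leaf 0x90300020901060007) (.node 90635 (.leaf 0x107090805000703040103000b) (.leaf 0x4020003)))) (.node 90639 (.node 90637 (.leaf 0x7030003) (.node 90638 (.leaf 0x702070209020802040105000b) (.leaf 0x40202010004))) (.node 90640 (.leaf 0x307050206040802040105000b) (.node 90641 (.leaf 0x6030003) (.leaf 0x9000003))))) (.node 90648 (.node 90645 (.node 90643 (.leaf 0x301050003) (.node 90644 (.leaf 0x300000003) (.leaf 0x7010207030005))) (.node 90646 (.leaf 0x902060402020007010009) (.node 90647 (.leaf 0x902020207030401030009) (.leaf 0x70209080600000703040103000c)))) (.node 90651 (.node 90649 (.leaf 0x1040900090802040105000a) (.node 90650 (.leaf 0x4020500090206020802040105000d) (.leaf 0x200070306000703040103000b))) (.node 90652 (.leaf 0x602010301010200000703040103000e)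 (.node 90653 (.leaf 0x307000003) (.leaf 0x6000901090802040105000b))))))

def argWS_8031 : Store := (.node 90631 argWS_8029 argWS_8030)

def argWS_8032 : Store := (.node 90609 argWS_8028 argWS_8031)

def argWS_8033 : Store := (.node 90665 (.node 90659 (.node 90656 (.node 90655 (.leaf 0x306030003) (.leaf 0x107000401050006)) (.node 90657 (.leaf 0x200020003) (.node 90658 (.leaf 0x10406030500040202000701000c) (.leaf 0x200090003)))) (.node 90662 (.node 90660 (.leaf 0x30105020604000703040103000c) (.node 90661 (.leaf 0x101050202020703040103000b) (.leaf 0x500090000090006))) (.node 90663 (.leaf 0x500000007030401030009) (.node 90664 (.leaf 0x1030002020900000802040105000d) (.leaf 0x209020003))))) (.node 90670 (.node 90667 (.node 90666 (.leaf 0x3050206030802040105000a) (.leaf 0x8020908050202000701000a)) (.node 90668 (.leaf 0x901060003) (.node 90669 (.leaf 0x502020804000006) (.leaf 0x8000901090202000701000a)))) (.node 90673 (.node 90671 (.leaf 0x206090000090202000701000b)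 (.node 90672 (.leaf 0x6080102020007010008) (.leaf 0x903000003))) (.node 90674 (.leaf 0x6000703060802040105000a) (.node 90675 (.leaf 0x3010005) (.leaf 0x702090000090202000701000b))))))

def argWS_8034 : Store := (.node 90687 (.node 90681 (.node 90678 (.node 90677 (.leaf 0x604000900090802040105000b) (.leaf 0x80300090000090802040105000c)) (.node 90679 (.leaf 0x90102020900000202000701000c) (.node 90680 (.leaf 0x3030900090005) (.leaf 0x70500030306040202000701000c)))) (.node 90684 (.node 90682 (.leaf 0x3040101090805000703040103000d) (.node 90683 (.leaf 0x10300070209020007) (.leaf 0x2020202090106000703040103000d))) (.node 90685 (.leaf 0x907020901060802040105000b) (.node 90686 (.leaf 0x3090806000006) (.leaf 0x602010904020006))))) (.node 90693 (.node 90690 (.node 90688 (.leaf 0x604000901090006) (.node 90689 (.leaf 0x8010408010802040105000a) (.leaf 0x3050603050004000703040103000d))) (.node 90691 (.leaf 0x6010202020900000802040105000d) (.node 90692 (.leaf 0x1020105020604000703040103000d)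 (.leaf 0x30700000408010202000701000c)))) (.node 90696 (.node 90694 (.leaf 0x20000000300000202000701000d) (.node 90695 (.leaf 0x60401010908050802040105000c) (.leaf 0x4020007010005))) (.node 90697 (.leaf 0x4030400050005) (.node 90698 (.leaf 0x4040603050004000703040103000d) (.leaf 0x3070002020900000202000701000d))))))

def argWS_8035 : Store := (.node 90676 argWS_8033 argWS_8034)

def argWS_8036 : Store := (.node 90710 (.node 90704 (.node 90701 (.node 90700 (.leaf 0x307000206030802040105000b) (.leaf 0x204010904020006)) (.node 90702 (.leaf 0x6000901090802040105000a) (.node 90703 (.leaf 0x4030009020602000703040103000d) (.leaf 0x908050007030401030009)))) (.node 90707 (.node 90705 (.leaf 0x20200020804000007) (.node 90706 (.leaf 0x2040102000003010202000701000d) (.leaf 0x70900090802040105000a))) (.node 90708 (.leaf 0x30401010703060202000701000c) (.node 90709 (.leaf 0x9010207030802040105000a) (.leaf 0x20200000408010007))))) (.node 90715 (.node 90712 (.node 90711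 (.leaf 0x800040206030006) (.leaf 0x90306020702010802040105000c)) (.node 90713 (.leaf 0x10206030004) (.node 90714 (.leaf 0x7040003030604000703040103000d) (.leaf 0x109030901090202000701000b)))) (.node 90718 (.node 90716 (.leaf 0x8050000000300000802040105000d) (.node 90717 (.leaf 0x90206020202000701000b) (.leaf 0x7070209020202000701000a))) (.node 90719 (.leaf 0x200090206020202000701000c) (.node 90720 (.leaf 0x20006030500040007) (.leaf 0x8000406030500040802040105000d))))))

def argWS_8037 : Store := (.node 90732 (.node 90726 (.node 90723 (.node 90722 (.leaf 0x20002010904020802040105000c) (.leaf 0x20906020702010202000701000c)) (.node 90724 (.leaf 0x602000004080703040103000b) (.node 90725 (.leaf 0x102010908050802040105000b) (.leaf 0x10401050004)))) (.node 90729 (.node 90727 (.leaf 0x50201040005000703040103000c) (.node 90728 (.leaf 0x5020000020804000202000701000d) (.leaf 0x800070209020006))) (.node 90730 (.leaf 0x400090806000202000701000c) (.node 90731 (.leaf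 0x20000090000090802040105000c) (.leaf 0x4020506030500040202000701000d))))) (.node 90738 (.node 90735 (.node 90733 (.leaf 0x20206000004) (.node 90734 (.leaf 0x2090301070306000703040103000d) (.leaf 0x10401090402000703040103000c))) (.node 90736 (.leaf 0x8000403010102000202000701000d) (.node 90737 (.leaf 0x6010900090802040105000a) (.leaf 0x30401090806000802040105000c)))) (.node 90741 (.node 90739 (.leaf 0x90009000009000703040103000c) (.node 90740 (.leaf 0x8000703060202000701000a) (.leaf 0x20505020202010202000701000c))) (.node 90742 (.leaf 0x409040202020007010009) (.node 90743 (.leaf 0x5000400050202000701000a) (.leaf 0x30306020702010007))))))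

def argWS_8038 : Store := (.node 90721 argWS_8036 argWS_8037)

def argWS_8039 : Store := (.node 90699 argWS_8035 argWS_8038)

def argWS_8040 : Store := (.node 90654 argWS_8032 argWS_8039)

def argWS_8041 : Store := (.node 90755 (.node 90749 (.node 90746 (.node 90745 (.leaf 0x3090009000703040103000b) (.leaf 0x3010703060006)) (.node 90747 (.leaf 0x20400090206020007) (.node 90748 (.leaf 0x60106030500040802040105000c) (.leaf 0x5090000090802040105000a)))) (.node 90752 (.node 90750 (.leaf 0x9020703000703040103000a) (.node 90751 (.leaf 0x701070009020007010009) (.leaf 0x404020901060802040105000b))) (.node 90753 (.leaf 0x6050601050002000703040103000d) (.node 90754 (.leaf 0x206020901060802040105000b) (.leaf 0x10900090004))))) (.node 90760 (.node 90757 (.node 90756 (.leaf 0x90705020202010007) (.leaf 0x3010004)) (.node 90758 (.leaf 0x903000901090006) (.node 90759 (.leaf 0x20902020900000202000701000c) (.leaf 0x30106030500040202000701000c)))) (.node 90763 (.node 90761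 (.leaf 0x70201090805000703040103000c) (.node 90762 (.leaf 0x907000207030802040105000b) (.leaf 0x2020602000703040103000a))) (.node 90764 (.leaf 0x60102010904020802040105000c) (.node 90765 (.leaf 0x10101090805000703040103000c) (.leaf 0x6050105020604000703040103000d))))))

def argWS_8042 : Store := (.node 90777 (.node 90771 (.node 90768 (.node 90767 (.leaf 0x7030500000300000008) (.leaf 0x406030500040202000701000b)) (.node 90769 (.leaf 0x1030009000009000703040103000d) (.node 90770 (.leaf 0x204030003030604000703040103000e) (.leaf 0x6050206040006)))) (.node 90774 (.node 90772 (.leaf 0x209020004) (.node 90773 (.leaf 0x2090206020007010008) (.leaf 0x307000301010200000703040103000e))) (.node 90775 (.leaf 0x605010703060802040105000b) (.node 90776 (.leaf 0x30000030306040802040105000c) (.leaf 0x1040009000009000703040103000d))))) (.node 90783 (.node 90780 (.node 90778 (.leaf 0x1080007030401030008) (.node 90779 (.leaf 0x400050004) (.leaf 0x20206010500020802040105000c)))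 (.node 90781 (.leaf 0x8000904020802040105000a) (.node 90782 (.leaf 0x60309020602000703040103000c) (.leaf 0x904020004)))) (.node 90786 (.node 90784 (.leaf 0x3040807030401030008) (.node 90785 (.leaf 0x80000090206020008) (.leaf 0x8000004080703040103000b))) (.node 90787 (.leaf 0x8020005020202010008) (.node 90788 (.leaf 0x2050603050004000703040103000d) (.leaf 0x50009020602000703040103000c))))))

def argWS_8043 : Store := (.node 90766 argWS_8041 argWS_8042)

def argWS_8044 : Store := (.node 90800 (.node 90794 (.node 90791 (.node 90790 (.leaf 0x0) (.leaf 0x105020206020007010009)) (.node 90792 (.leaf 0x107070206000802040105000b) (.node 90793 (.leaf 0x20000020703000703040103000c) (.leaf 0x600070306000703040103000b)))) (.node 90797 (.node 90795 (.leaf 0x8020000020804000008) (.node 90796 (.leaf 0x80101020106060802040105000c) (.leaf 0x2060101090805000703040103000d))) (.node 90798 (.leaf 0x204010900090006) (.node 90799 (.leaf 0x60301020106060802040105000c) (.leaf 0x605000300000202000701000b)))))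 (.node 90805 (.node 90802 (.node 90801 (.leaf 0x200000300000006) (.leaf 0x60205020202010802040105000c)) (.node 90803 (.leaf 0x604000007030401030009) (.node 90804 (.leaf 0x400030009020602000703040103000e) (.leaf 0x9030006030500040802040105000d)))) (.node 90808 (.node 90806 (.leaf 0x104000900090006) (.node 90807 (.leaf 0x60301010200000703040103000d) (.leaf 0x7050308000703040103000a))) (.node 90809 (.leaf 0x60609020602000703040103000c) (.node 90810 (.leaf 0x60000090000090007) (.leaf 0x80300000408010202000701000c))))))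

def argWS_8045 : Store := (.node 90822 (.node 90816 (.node 90813 (.node 90812 (.leaf 0x9000400050202000701000b) (.leaf 0x400040400050006)) (.node 90814 (.leaf 0x1) (.node 90815 (.leaf 0x30001) (.leaf 0x1020002)))) (.node 90819 (.node 90817 (.leaf 0x1050002) (.node 90818 (.leaf 0x1080002) (.leaf 0x2))) (.node 90820 (.leaf 0x20002) (.node 90821 (.leaf 0x40002) (.leaf 0x70002))))) (.node 90828 (.node 90825 (.node 90823 (.leaf 0x60002) (.node 90824 (.leaf 0x80002) (.leaf 0x3040002))) (.node 90826 (.leaf 0x3070002) (.node 90827 (.leaf 0x3060002) (.leaf 0x2040002)))) (.node 90831 (.node 90829 (.leaf 0x2090002) (.node 90830 (.leaf 0x90201070009030007) (.leaf 0x103010003))) (.node 90832 (.leaf 0x70108020401050007) (.node 90833 (.leaf 0x600030000000703040103000b) (.leaf 0x7000005020202010802040105000d))))))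

def argWS_8046 : Store := (.node 90811 argWS_8044 argWS_8045)

def argWS_8047 : Store := (.node 90789 argWS_8043 argWS_8046)

def argWS_8048 : Store := (.node 90845 (.node 90839 (.node 90836 (.node 90835 (.leaf 0x7020000030000000703040103000d) (.leaf 0x4000409000009000703040103000d)) (.node 90837 (.leaf 0x102080003) (.node 90838 (.leaf 0x2040105020202010202000701000d) (.leaf 0x602090402000703040103000b)))) (.node 90842 (.node 90840 (.leaf 0x105020003) (.node 90841 (.leaf 0x202070206000202000701000b) (.leaf 0x60000070009030802040105000c))) (.node 90843 (.leaf 0x104000003) (.node 90844 (.leaf 0x2040206020007010008) (.leaf 0x502000207030006))))) (.node 90850 (.node 90847 (.node 90846 (.leaf 0x107000003) (.leaf 0x700090402000703040103000b)) (.node 90848 (.leaf 0x402020900000202000701000c) (.node 90849 (.leaf 0x205070206000006) (.leaf 0x6040106010500020202000701000d)))) (.node 90853 (.node 90851 (.leaf 0x20500020804000007) (.node 90852 (.leaf 0x700000900090802040105000b)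 (.leaf 0x109030003))) (.node 90854 (.leaf 0x20002090106000703040103000c) (.node 90855 (.leaf 0x60202020900000202000701000c) (.leaf 0x0))))))

def argWS_8049 : Store := (.node 90867 (.node 90861 (.node 90858 (.node 90857 (.leaf 0x30402000003010202000701000c) (.leaf 0x90003)) (.node 90859 (.leaf 0x3010003) (.node 90860 (.leaf 0x105020901090006) (.leaf 0x104020603000703040103000b)))) (.node 90864 (.node 90862 (.leaf 0x3060003) (.node 90863 (.leaf 0x3070002000003010802040105000d) (.leaf 0x4040206020007010008))) (.node 90865 (.leaf 0x206010703060802040105000b) (.node 90866 (.leaf 0x404090000090202000701000b) (.leaf 0x80200020000030703040103000c))))) (.node 90873 (.node 90870 (.node 90868 (.leaf 0x60501010904020007) (.node 90869 (.leaf 0x2050206030500040008) (.leaf 0x4000003))) (.node 90871 (.leaf 0x4020003) (.node 90872 (.leaf 0x6000000090206020802040105000d) (.leaf 0x4010206020007010008)))) (.node 90876 (.node 90874 (.leaf 0x702070209020802040105000b) (.node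 90875 (.leaf 0x40202010004) (.leaf 0x307050206040802040105000b))) (.node 90877 (.leaf 0x6000003) (.node 90878 (.leaf 0x6030003) (.leaf 0x8020007020902000703040103000d))))))

def argWS_8050 : Store := (.node 90856 argWS_8048 argWS_8049)

def argWS_8051 : Store := (.node 90890 (.node 90884 (.node 90881 (.node 90880 (.leaf 0x20401010703060802040105000c) (.leaf 0x9000003)) (.node 90882 (.leaf 0x60000020106060007) (.node 90883 (.leaf 0x301050003) (.leaf 0x103010207030802040105000b)))) (.node 90887 (.node 90885 (.leaf 0x300000003) (.node 90886 (.leaf 0x902060402020007010009) (.leaf 0x902020207030401030009))) (.node 90888 (.leaf 0x70209080600000703040103000c) (.node 90889 (.leaf 0x1040900090802040105000a) (.leaf 0x20105020604000703040103000c))))) (.node 90896 (.node 90893 (.node 90891 (.leaf 0x501060608020401050009) (.node 90892 (.leaf 0x102010908050202000701000b) (.leaf 0x6000901090802040105000b))) (.node 90894 (.leaf 0x306030003) (.node 90895 (.leaf 0x60205020202010202000701000c)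 (.leaf 0x300090000090202000701000b)))) (.node 90899 (.node 90897 (.leaf 0x200050003) (.node 90898 (.leaf 0x10406030500040202000701000c) (.leaf 0x200080003))) (.node 90900 (.leaf 0x200090003) (.node 90901 (.leaf 0x202000003) (.leaf 0x906020000030703040103000b))))))

def argWS_8052 : Store := (.node 90913 (.node 90907 (.node 90904 (.node 90903 (.leaf 0x500090000090006) (.leaf 0x500000007030401030009)) (.node 90905 (.leaf 0x7000000000300000008) (.node 90906 (.leaf 0x601070206000202000701000b) (.leaf 0x209020003)))) (.node 90910 (.node 90908 (.leaf 0x3050206030802040105000a) (.node 90909 (.leaf 0x8020908050202000701000a) (.leaf 0x502020804000006))) (.node 90911 (.leaf 0x900000003) (.node 90912 (.leaf 0x6050102000003010202000701000d) (.leaf 0x8000901090202000701000a))))) (.node 90919 (.node 90916 (.node 90914 (.leaf 0x80004090009000703040103000c) (.node 90915 (.leaf 0x903000003) (.leaf 0x6000703060802040105000a))) (.node 90917 (.leaf 0x3070006020702010008)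 (.node 90918 (.leaf 0x3010005) (.leaf 0x80300090000090802040105000c)))) (.node 90922 (.node 90920 (.leaf 0x609080600000703040103000b) (.node 90921 (.leaf 0x90102020900000202000701000c) (.leaf 0x3030900090005))) (.node 90923 (.leaf 0x40300000300000007) (.node 90924 (.leaf 0x702060207020703040103000b) (.leaf 0x402020900000202000701000b))))))

def argWS_8053 : Store := (.node 90902 argWS_8051 argWS_8052)

def argWS_8054 : Store := (.node 90879 argWS_8050 argWS_8053)

def argWS_8055 : Store := (.node 90834 argWS_8047 argWS_8054)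

def argWS_8056 : Store := (.node 90744 argWS_8040 argWS_8055)

def argWS_8057 : Store := (.node 90564 argWS_8025 argWS_8056)

def argWS_8058 : Store := (.node 90203 argWS_7994 argWS_8057)

def argWS_8059 : Store := (.node 90936 (.node 90930 (.node 90927 (.node 90926 (.leaf 0x10300070209020007) (.leaf 0x4000202020703040103000a)) (.node 90928 (.leaf 0x2020202090106000703040103000d) (.node 90929 (.leaf 0x3090806000006) (.leaf 0x6010202020900000802040105000d)))) (.node 90933 (.node 90931 (.leaf 0x600020000030703040103000b) (.node 90932 (.leaf 0x30700000408010202000701000c) (.leaf 0x20000000300000202000701000d))) (.node 90934 (.leaf 0x60401010908050802040105000c) (.node 90935 (.leaf 0x4040603050004000703040103000d) (.leaf 0x3070002020900000202000701000d))))) (.node 90941 (.node 90938 (.node 90937 (.leaf 0x204010904020006) (.leaf 0x8030002010606000703040103000d)) (.node 90939 (.leaf 0x6000603050004000703040103000d) (.node 90940 (.leaf 0x4030009020602000703040103000d)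 (.leaf 0x30401010703060202000701000c)))) (.node 90944 (.node 90942 (.leaf 0x80500090806000202000701000c) (.node 90943 (.leaf 0x20403070209020202000701000c) (.leaf 0x20200000408010007))) (.node 90945 (.leaf 0x90306020702010802040105000c) (.node 90946 (.leaf 0x10206030004) (.leaf 0x8020703060202000701000a))))))

def argWS_8060 : Store := (.node 90958 (.node 90952 (.node 90949 (.node 90948 (.leaf 0x503040005000703040103000c) (.leaf 0x7040003030604000703040103000d)) (.node 90950 (.leaf 0x20202090106000703040103000c) (.node 90951 (.leaf 0x109030901090202000701000b) (.leaf 0x8050000000300000802040105000d)))) (.node 90955 (.node 90953 (.leaf 0x807030401030006) (.node 90954 (.leaf 0x7070209020202000701000a) (.leaf 0x9030900090005))) (.node 90956 (.leaf 0x906090000090202000701000b) (.node 90957 (.leaf 0x8000406030500040802040105000d) (.leaf 0x20906020702010202000701000c))))) (.node 90964 (.node 90961 (.node 90959 (.leaf 0x602000004080703040103000b) (.node 90960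 (.leaf 0x102010908050802040105000b) (.leaf 0x200090000090202000701000b))) (.node 90962 (.leaf 0x10401050004) (.node 90963 (.leaf 0x4040004080703040103000a) (.leaf 0x5020000020804000202000701000d)))) (.node 90967 (.node 90965 (.leaf 0x800070209020006) (.node 90966 (.leaf 0x40103010102000007) (.leaf 0x20000090000090802040105000c))) (.node 90968 (.leaf 0x4020506030500040202000701000d) (.node 90969 (.leaf 0x8050008020401050008) (.leaf 0x2090301070306000703040103000d))))))

def argWS_8061 : Store := (.node 90947 argWS_8059 argWS_8060)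

def argWS_8062 : Store := (.node 90981 (.node 90975 (.node 90972 (.node 90971 (.leaf 0x10401090402000703040103000c) (.leaf 0x30401090806000802040105000c)) (.node 90973 (.leaf 0x90009000009000703040103000c) (.node 90974 (.leaf 0x6000006020702010802040105000d) (.leaf 0x8000703060202000701000a)))) (.node 90978 (.node 90976 (.leaf 0x1020200000300000008) (.node 90977 (.leaf 0x30306020702010007) (.leaf 0x60106030500040802040105000c))) (.node 90979 (.leaf 0x5090000090802040105000a) (.node 90980 (.leaf 0x9020703000703040103000a) (.leaf 0x9000601050002000703040103000e))))) (.node 90986 (.node 90983 (.node 90982 (.leaf 0x10901090004) (.leaf 0x404020901060802040105000b)) (.node 90984 (.leaf 0x6050601050002000703040103000d) (.node 90985 (.leaf 0x3010004) (.leaf 0x903000901090006)))) (.node 90989 (.node 90987 (.leaf 0x60201050206040802040105000c) (.node 90988 (.leaf 0x20902020900000202000701000c) (.leaf 0x70201090805000703040103000c))) (.node 90990 (.leaf 0x907000207030802040105000b)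 (.node 90991 (.leaf 0x2020602000703040103000a) (.leaf 0x60102010904020802040105000c))))))

def argWS_8063 : Store := (.node 91003 (.node 90997 (.node 90994 (.node 90993 (.leaf 0x10101090805000703040103000c) (.leaf 0x6050105020604000703040103000d)) (.node 90995 (.leaf 0x800000408010802040105000b) (.node 90996 (.leaf 0x7030500000300000008) (.leaf 0x406030500040202000701000b)))) (.node 91000 (.node 90998 (.leaf 0x1030009000009000703040103000d) (.node 90999 (.leaf 0x204030003030604000703040103000e) (.leaf 0x30002020900000802040105000c))) (.node 91001 (.leaf 0x10202010703060802040105000c) (.node 91002 (.leaf 0x6050206040006) (.leaf 0x209020004))))) (.node 91009 (.node 91006 (.node 91004 (.leaf 0x4000400030306040008) (.node 91005 (.leaf 0x307000301010200000703040103000e) (.leaf 0x605010703060802040105000b))) (.node 91007 (.leaf 0x30000030306040802040105000c) (.node 91008 (.leaf 0x200020603000703040103000b) (.leaf 0x5030900090202000701000b)))) (.node 91012 (.node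 91010 (.leaf 0x8010106020702010802040105000d) (.node 91011 (.leaf 0x901030802020007010009) (.leaf 0x304030308000703040103000b))) (.node 91013 (.leaf 0x8000904020802040105000a) (.node 91014 (.leaf 0x60309020602000703040103000c) (.leaf 0x904020004))))))

def argWS_8064 : Store := (.node 90992 argWS_8062 argWS_8063)

def argWS_8065 : Store := (.node 90970 argWS_8061 argWS_8064)

def argWS_8066 : Store := (.node 91026 (.node 91020 (.node 91017 (.node 91016 (.leaf 0x3040807030401030008) (.leaf 0x70901090802040105000a)) (.node 91018 (.leaf 0x8000004080703040103000b) (.node 91019 (.leaf 0x8020005020202010008) (.leaf 0x30406020007010007)))) (.node 91023 (.node 91021 (.leaf 0x50009020602000703040103000c) (.node 91022 (.leaf 0x901060004) (.leaf 0x105020206020007010009))) (.node 91024 (.leaf 0x90201070206000202000701000c) (.node 91025 (.leaf 0x8020000020804000008) (.leaf 0x2010307020600000703040103000d))))) (.node 91031 (.node 91028 (.node 91027 (.leaf 0x707000903000703040103000c)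 (.leaf 0x605000300000202000701000b)) (.node 91029 (.leaf 0x9040807030401030008) (.node 91030 (.leaf 0x4030006020702010802040105000d) (.leaf 0x80000020901060802040105000c)))) (.node 91034 (.node 91032 (.leaf 0x604000007030401030009) (.node 91033 (.leaf 0x20003010004) (.leaf 0x9030006030500040802040105000d))) (.node 91035 (.leaf 0x7050308000703040103000a) (.node 91036 (.leaf 0x60102010901090007) (.leaf 0x60000090000090007))))))

def argWS_8067 : Store := (.node 91048 (.node 91042 (.node 91039 (.node 91038 (.leaf 0x501040005000703040103000b) (.leaf 0x40309000009000703040103000c)) (.node 91040 (.leaf 0x901040900090802040105000b) (.node 91041 (.leaf 0x906020106060202000701000b) (.leaf 0x10001)))) (.node 91045 (.node 91043 (.leaf 0x1010002) (.node 91044 (.leaf 0x1030002) (.leaf 0x1020002))) (.node 91046 (.leaf 0x1070002) (.node 91047 (.leaf 0x1060002) (.leaf 0x1080002))))) (.node 91054 (.node 91051 (.node 91049 (.leaf 0x1090002) (.node 91050 (.leaf 0x0) (.leaf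 0x2))) (.node 91052 (.leaf 0x30002) (.node 91053 (.leaf 0x50002) (.leaf 0x40002)))) (.node 91057 (.node 91055 (.leaf 0x70002) (.node 91056 (.leaf 0x60002) (.leaf 0x80002))) (.node 91058 (.leaf 0x3050002) (.node 91059 (.leaf 0x3070002) (.leaf 0x2010002))))))

def argWS_8068 : Store := (.node 91037 argWS_8066 argWS_8067)

def argWS_8069 : Store := (.node 91071 (.node 91065 (.node 91062 (.node 91061 (.leaf 0x2020002) (.leaf 0x2050002)) (.node 91063 (.leaf 0x2040002) (.node 91064 (.leaf 0x2070002) (.leaf 0x2060002)))) (.node 91068 (.node 91066 (.leaf 0x9010002) (.node 91067 (.leaf 0x9000002) (.leaf 0x9030002))) (.node 91069 (.leaf 0x60904020004) (.node 91070 (.leaf 0x30106010500020802040105000c) (.leaf 0x20002090106000703040103000d))))) (.node 91076 (.node 91073 (.node 91072 (.leaf 0x5010904020005) (.leaf 0x0)) (.node 91074 (.leaf 0x101060003) (.node 91075 (.leaf 0x9020106060802040105000a) (.leaf 0x70108020401050007)))) (.node 91079 (.node 91077 (.leaf 0x600030000000703040103000b)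 (.node 91078 (.leaf 0x7000005020202010802040105000d) (.leaf 0x103080003))) (.node 91080 (.leaf 0x7020000030000000703040103000d) (.node 91081 (.leaf 0x102010003) (.leaf 0x4000409000009000703040103000d))))))

def argWS_8070 : Store := (.node 91093 (.node 91087 (.node 91084 (.node 91083 (.leaf 0x5000206020007010008) (.leaf 0x105020003)) (.node 91085 (.leaf 0x60000070009030802040105000c) (.node 91086 (.leaf 0x8050703060202000701000a) (.leaf 0x700070206000202000701000b)))) (.node 91090 (.node 91088 (.leaf 0x104000003) (.node 91089 (.leaf 0x9030002020900000202000701000d) (.leaf 0x502000207030006))) (.node 91091 (.leaf 0x70802020007010007) (.node 91092 (.leaf 0x60601090806000007) (.leaf 0x2020000090206020008))))) (.node 91099 (.node 91096 (.node 91094 (.leaf 0x700090402000703040103000b) (.node 91095 (.leaf 0x6040106010500020202000701000d) (.leaf 0x20500020804000007))) (.node 91097 (.leaf 0x700000900090802040105000b) (.node 91098 (.leaf 0x204000408010202000701000b)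 (.leaf 0x109030003)))) (.node 91102 (.node 91100 (.leaf 0x7000005020604000703040103000d) (.node 91101 (.leaf 0x1030106010500020802040105000d) (.leaf 0x90003))) (.node 91103 (.leaf 0x3010003) (.node 91104 (.leaf 0x104020603000703040103000b) (.leaf 0x7020009020602000703040103000d))))))

def argWS_8071 : Store := (.node 91082 argWS_8069 argWS_8070)

def argWS_8072 : Store := (.node 91060 argWS_8068 argWS_8071)

def argWS_8073 : Store := (.node 91015 argWS_8065 argWS_8072)

def argWS_8074 : Store := (.node 91116 (.node 91110 (.node 91107 (.node 91106 (.leaf 0x2000003) (.leaf 0x4040206020007010008)) (.node 91108 (.leaf 0x900000408010202000701000b) (.node 91109 (.leaf 0x404090000090202000701000b) (.leaf 0x80200020000030703040103000c)))) (.node 91113 (.node 91111 (.leaf 0x60501010904020007) (.node 91112 (.leaf 0x2050206030500040008) (.leaf 0x90300020901060007))) (.node 91114 (.leaf 0x107090805000703040103000b) (.node 91115 (.leaf 0x6000000090206020802040105000d)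 (.leaf 0x4010206020007010008))))) (.node 91121 (.node 91118 (.node 91117 (.leaf 0x7030003) (.leaf 0x702070209020802040105000b)) (.node 91119 (.leaf 0x307050206040802040105000b) (.node 91120 (.leaf 0x6030003) (.leaf 0x8020007020902000703040103000d)))) (.node 91124 (.node 91122 (.leaf 0x60908050005) (.node 91123 (.leaf 0x20401010703060802040105000c) (.leaf 0x9000003))) (.node 91125 (.leaf 0x1030106030500040202000701000d) (.node 91126 (.leaf 0x702020703000703040103000b) (.leaf 0x7010207030005))))))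

def argWS_8075 : Store := (.node 91138 (.node 91132 (.node 91129 (.node 91128 (.leaf 0x902060402020007010009) (.leaf 0x902020207030401030009)) (.node 91130 (.leaf 0x70209080600000703040103000c) (.node 91131 (.leaf 0x20105020604000703040103000c) (.leaf 0x200070306000703040103000b)))) (.node 91135 (.node 91133 (.leaf 0x602010301010200000703040103000e) (.node 91134 (.leaf 0x102010908050202000701000b) (.leaf 0x307000003))) (.node 91136 (.leaf 0x6000901090802040105000b) (.node 91137 (.leaf 0x306030003) (.leaf 0x60205020202010202000701000c))))) (.node 91144 (.node 91141 (.node 91139 (.leaf 0x107000401050006) (.node 91140 (.leaf 0x201060003) (.leaf 0x402060402020007010009))) (.node 91142 (.leaf 0x200080003) (.node 91143 (.leaf 0x200090003) (.leaf 0x202000003)))) (.node 91147 (.node 91145 (.leaf 0x906020000030703040103000b) (.node 91146 (.leaf 0x500090000090006) (.leaf 0x7000000000300000008))) (.node 91148 (.leaf 0x204030003) (.node 91149 (.leaf 0x207030003)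 (.leaf 0x206010003))))))

def argWS_8076 : Store := (.node 91127 argWS_8074 argWS_8075)

def argWS_8077 : Store := (.node 91161 (.node 91155 (.node 91152 (.node 91151 (.leaf 0x809040208020401050009) (.leaf 0x8020908050202000701000a)) (.node 91153 (.leaf 0x901060003) (.node 91154 (.leaf 0x8000901090202000701000a) (.leaf 0x206090000090202000701000b)))) (.node 91158 (.node 91156 (.leaf 0x900090003) (.node 91157 (.leaf 0x903000003) (.leaf 0x301010200000703040103000d))) (.node 91159 (.leaf 0x6000703060802040105000a) (.node 91160 (.leaf 0x3070006020702010008) (.leaf 0x604000900090802040105000b))))) (.node 91166 (.node 91163 (.node 91162 (.leaf 0x3030900090005) (.leaf 0x901020604000703040103000b)) (.node 91164 (.leaf 0x5020901090202000701000a) (.node 91165 (.leaf 0x70500030306040202000701000c) (.leaf 0x3040101090805000703040103000d)))) (.node 91169 (.node 91167 (.leaf 0x70101090009000703040103000c) (.node 91168 (.leaf 0x10300070209020007) (.leaf 0x4000202020703040103000a)))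 (.node 91170 (.leaf 0x2020202090106000703040103000d) (.node 91171 (.leaf 0x907020901060802040105000b) (.leaf 0x8010408010802040105000a))))))

def argWS_8078 : Store := (.node 91183 (.node 91177 (.node 91174 (.node 91173 (.leaf 0x40004000408010802040105000c) (.leaf 0x3050603050004000703040103000d)) (.node 91175 (.leaf 0x6010202020900000802040105000d) (.node 91176 (.leaf 0x40009000009000703040103000d) (.leaf 0x704010904020802040105000b)))) (.node 91180 (.node 91178 (.leaf 0x600020000030703040103000b) (.node 91179 (.leaf 0x40304000408010007) (.leaf 0x20000000300000202000701000d))) (.node 91181 (.leaf 0x3040301090805000703040103000d) (.node 91182 (.leaf 0x60401010908050802040105000c) (.leaf 0x307090806000006))))) (.node 91189 (.node 91186 (.node 91184 (.leaf 0x20106030500040802040105000c) (.node 91185 (.leaf 0x307000206030802040105000b) (.leaf 0x6000901090802040105000a))) (.node 91187 (.leaf 0x4030009020602000703040103000d) (.node 91188 (.leaf 0x2040102000003010202000701000d)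 (.leaf 0x30401010703060202000701000c)))) (.node 91192 (.node 91190 (.leaf 0x80500090806000202000701000c) (.node 91191 (.leaf 0x9010207030802040105000a) (.leaf 0x20200000408010007))) (.node 91193 (.leaf 0x605020804000202000701000b) (.node 91194 (.leaf 0x8020703060202000701000a) (.leaf 0x503040005000703040103000c))))))

def argWS_8079 : Store := (.node 91172 argWS_8077 argWS_8078)

def argWS_8080 : Store := (.node 91150 argWS_8076 argWS_8079)

def argWS_8081 : Store := (.node 91206 (.node 91200 (.node 91197 (.node 91196 (.leaf 0x7040003030604000703040103000d) (.leaf 0x8050000000300000802040105000d)) (.node 91198 (.leaf 0x20200000300000802040105000c) (.node 91199 (.leaf 0x605010308000703040103000b) (.leaf 0x3040207020007010008)))) (.node 91203 (.node 91201 (.leaf 0x602000004080703040103000b) (.node 91202 (.leaf 0x102010908050802040105000b) (.leaf 0x20601010908050202000701000c))) (.node 91204 (.leaf 0x10401050004) (.node 91205 (.leaf 0x50201040005000703040103000c)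 (.leaf 0x5020000020804000202000701000d))))) (.node 91211 (.node 91208 (.node 91207 (.leaf 0x406030500040006) (.leaf 0x20000090000090802040105000c)) (.node 91209 (.leaf 0x606010400050802040105000b) (.node 91210 (.leaf 0x4020506030500040202000701000d) (.leaf 0x8050008020401050008)))) (.node 91214 (.node 91212 (.leaf 0x20206000004) (.node 91213 (.leaf 0x8000403010102000202000701000d) (.leaf 0x6010900090802040105000a))) (.node 91215 (.leaf 0x8000703060005) (.node 91216 (.leaf 0x60503010102000802040105000c) (.leaf 0x400050005))))))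

def argWS_8082 : Store := (.node 91228 (.node 91222 (.node 91219 (.node 91218 (.leaf 0x6000006020702010802040105000d) (.leaf 0x8000703060202000701000a)) (.node 91220 (.leaf 0x20505020202010202000701000c) (.node 91221 (.leaf 0x1020200000300000008) (.leaf 0x3090009000703040103000b)))) (.node 91225 (.node 91223 (.leaf 0x3010703060006) (.node 91224 (.leaf 0x20400090206020007) (.leaf 0x5090000090802040105000a))) (.node 91226 (.leaf 0x3010400050005) (.node 91227 (.leaf 0x6050601050002000703040103000d) (.leaf 0x206020901060802040105000b))))) (.node 91234 (.node 91231 (.node 91229 (.leaf 0x10900090004) (.node 91230 (.leaf 0x600000002080400000703040103000e) (.leaf 0x903000901090006))) (.node 91232 (.leaf 0x502010401050006) (.node 91233 (.leaf 0x10402000003010802040105000c) (.leaf 0x50106060802040105000a)))) (.node 91237 (.node 91235 (.leaf 0x802000900090202000701000b) (.node 91236 (.leaf 0x10101090805000703040103000c) (.leaf 0x800000408010802040105000b))) (.node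 91238 (.leaf 0x406030500040202000701000b) (.node 91239 (.leaf 0x204030003030604000703040103000e) (.leaf 0x30002020900000802040105000c))))))

def argWS_8083 : Store := (.node 91217 argWS_8081 argWS_8082)

def argWS_8084 : Store := (.node 91251 (.node 91245 (.node 91242 (.node 91241 (.leaf 0x6050206040006) (.leaf 0x0)) (.node 91243 (.leaf 0x209020004) (.node 91244 (.leaf 0x4000400030306040008) (.leaf 0x605010703060802040105000b)))) (.node 91248 (.node 91246 (.leaf 0x30000030306040802040105000c) (.node 91247 (.leaf 0x1040009000009000703040103000d) (.leaf 0x1080007030401030008))) (.node 91249 (.leaf 0x400050004) (.node 91250 (.leaf 0x5030900090202000701000b) (.leaf 0x20206010500020802040105000c))))) (.node 91257 (.node 91254 (.node 91252 (.leaf 0x901030802020007010009) (.node 91253 (.leaf 0x304030308000703040103000b) (.leaf 0x8000904020802040105000a))) (.node 91255 (.leaf 0x904020004) (.node 91256 (.leaf 0x70901090802040105000a) (.leaf 0x40004060207020703040103000c))))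 (.node 91260 (.node 91258 (.leaf 0x8020005020202010008) (.node 91259 (.leaf 0x2050603050004000703040103000d) (.leaf 0x50009020602000703040103000c))) (.node 91261 (.leaf 0x70200020804000802040105000c) (.node 91262 (.leaf 0x90201070206000202000701000c) (.leaf 0x107070206000802040105000b))))))

def argWS_8085 : Store := (.node 91274 (.node 91268 (.node 91265 (.node 91264 (.leaf 0x600070306000703040103000b) (.leaf 0x50300020804000802040105000d)) (.node 91266 (.leaf 0x605000300000202000701000b) (.node 91267 (.leaf 0x200000300000006) (.leaf 0x4030006020702010802040105000d)))) (.node 91271 (.node 91269 (.leaf 0x80000020901060802040105000c) (.node 91270 (.leaf 0x8000601050002000703040103000e) (.leaf 0x5030503010102000202000701000d))) (.node 91272 (.leaf 0x0) (.node 91273 (.leaf 0x7050308000703040103000a) (.leaf 0x60102010901090007))))) (.node 91280 (.node 91277 (.node 91275 (.leaf 0x60609020602000703040103000c) (.node 91276 (.leaf 0x501040005000703040103000b)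 (.leaf 0x40309000009000703040103000c))) (.node 91278 (.leaf 0x901040900090802040105000b) (.node 91279 (.leaf 0x1) (.leaf 0x30001)))) (.node 91283 (.node 91281 (.leaf 0x90001) (.node 91282 (.leaf 0x1010002) (.leaf 0x1030002))) (.node 91284 (.leaf 0x1020002) (.node 91285 (.leaf 0x1050002) (.leaf 0x1070002))))))

def argWS_8086 : Store := (.node 91263 argWS_8084 argWS_8085)

def argWS_8087 : Store := (.node 91240 argWS_8083 argWS_8086)

def argWS_8088 : Store := (.node 91195 argWS_8080 argWS_8087)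

def argWS_8089 : Store := (.node 91105 argWS_8073 argWS_8088)

def argWS_8090 : Store := (.node 91297 (.node 91291 (.node 91288 (.node 91287 (.leaf 0x2) (.leaf 0x40002)) (.node 91289 (.leaf 0x70002) (.node 91290 (.leaf 0x90002) (.leaf 0x3010002)))) (.node 91294 (.node 91292 (.leaf 0x3030002) (.node 91293 (.leaf 0x3040002) (.leaf 0x3060002))) (.node 91295 (.leaf 0x702020901060202000701000b) (.node 91296 (.leaf 0x2010002) (.leaf 0x2000002))))) (.node 91302 (.node 91299 (.node 91298 (.leaf 0x2060002) (.leaf 0x9010002)) (.node 91300 (.leaf 0x9000002) (.node 91301 (.leaf 0x9030002) (.leaf 0x30106010500020802040105000c)))) (.node 91305 (.node 91303 (.leaf 0x5010904020005) (.node 91304 (.leaf 0x9020106060802040105000a) (.leaf 0x70108020401050007))) (.node 91306 (.leaf 0x0) (.node 91307 (.leaf 0x6020401050005) (.leaf 0x600030000000703040103000b))))))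

def argWS_8091 : Store := (.node 91319 (.node 91313 (.node 91310 (.node 91309 (.leaf 0x7020000030000000703040103000d) (.leaf 0x4000409000009000703040103000d)) (.node 91311 (.leaf 0x2060207030802040105000a) (.node 91312 (.leaf 0x102080003) (.leaf 0x2040105020202010202000701000d)))) (.node 91316 (.node 91314 (.leaf 0x5000206020007010008) (.node 91315 (.leaf 0x105020003) (.leaf 0x202070206000202000701000b))) (.node 91317 (.leaf 0x5000000000300000802040105000d) (.node 91318 (.leaf 0x107000003) (.leaf 0x107030003))))) (.node 91325 (.node 91322 (.node 91320 (.leaf 0x70802020007010007) (.node 91321 (.leaf 0x402020900000202000701000c) (.leaf 0x20500020804000007))) (.node 91323 (.leaf 0x300070209020006) (.node 91324 (.leaf 0x1030106010500020802040105000d) (.leaf 0x30402000003010202000701000c)))) (.node 91328 (.node 91326 (.leaf 0x90003) (.node 91327 (.leaf 0x105020901090006) (.leaf 0x104020603000703040103000b))) (.node 91329 (.leaf 0x902010901090802040105000b)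 (.node 91330 (.leaf 0x3080003) (.leaf 0x7020009020602000703040103000d))))))

def argWS_8092 : Store := (.node 91308 argWS_8090 argWS_8091)

def argWS_8093 : Store := (.node 91342 (.node 91336 (.node 91333 (.node 91332 (.leaf 0x900000408010202000701000b) (.leaf 0x206010703060802040105000b)) (.node 91334 (.leaf 0x50000070209020007) (.node 91335 (.leaf 0x90300020901060007) (.leaf 0x7030003)))) (.node 91339 (.node 91337 (.leaf 0x702070209020802040105000b) (.node 91338 (.leaf 0x40202010004) (.leaf 0x6030003))) (.node 91340 (.leaf 0x80908050005) (.node 91341 (.leaf 0x8020007020902000703040103000d) (.leaf 0x9000003))))) (.node 91347 (.node 91344 (.node 91343 (.leaf 0x209010908050202000701000b) (.leaf 0x60000020106060007)) (.node 91345 (.leaf 0x1030106030500040202000701000d) (.node 91346 (.leaf 0x7010207030005) (.leaf 0x902060402020007010009)))) (.node 91350 (.node 91348 (.leaf 0x70209080600000703040103000c) (.node 91349 (.leaf 0x2020202010005) (.leaf 0x4020500090206020802040105000d)))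 (.node 91351 (.leaf 0x200070306000703040103000b) (.node 91352 (.leaf 0x102010908050202000701000b) (.leaf 0x307000003))))))

def argWS_8094 : Store := (.node 91364 (.node 91358 (.node 91355 (.node 91354 (.leaf 0x2000006010500020802040105000d) (.leaf 0x6000901090802040105000b)) (.node 91356 (.leaf 0x306030003) (.node 91357 (.leaf 0x60205020202010202000701000c) (.leaf 0x107000401050006)))) (.node 91361 (.node 91359 (.leaf 0x201030003) (.node 91360 (.leaf 0x300090000090202000701000b) (.leaf 0x10502070206000802040105000c))) (.node 91362 (.leaf 0x201060003) (.node 91363 (.leaf 0x201090003) (.leaf 0x200020003))))) (.node 91370 (.node 91367 (.node 91365 (.leaf 0x200050003) (.node 91366 (.leaf 0x10406030500040202000701000c) (.leaf 0x200080003))) (.node 91368 (.leaf 0x200090003) (.node 91369 (.leaf 0x30105020604000703040103000c) (.leaf 0x101050202020703040103000b)))) (.node 91373 (.node 91371 (.leaf 0x500000007030401030009) (.node 91372 (.leaf 0x7000000000300000008)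 (.leaf 0x204030003))) (.node 91374 (.leaf 0x1030002020900000802040105000d) (.node 91375 (.leaf 0x206010003) (.leaf 0x206030003))))))

def argWS_8095 : Store := (.node 91353 argWS_8093 argWS_8094)

def argWS_8096 : Store := (.node 91331 argWS_8092 argWS_8095)

def argWS_8097 : Store := (.node 91387 (.node 91381 (.node 91378 (.node 91377 (.leaf 0x601070206000202000701000b) (.leaf 0x8020908050202000701000a)) (.node 91379 (.leaf 0x901060003) (.node 91380 (.leaf 0x502020804000006) (.leaf 0x901090003)))) (.node 91384 (.node 91382 (.leaf 0x8000901090202000701000a) (.node 91383 (.leaf 0x80004090009000703040103000c) (.leaf 0x7030502020900000008))) (.node 91385 (.leaf 0x6080102020007010008) (.node 91386 (.leaf 0x900090003) (.leaf 0x6000703060802040105000a))))) (.node 91392 (.node 91389 (.node 91388 (.leaf 0x3070006020702010008) (.leaf 0x702090000090202000701000b)) (.node 91390 (.leaf 0x80300090000090802040105000c) (.node 91391 (.leaf 0x609080600000703040103000b)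 (.leaf 0x90102020900000202000701000c)))) (.node 91395 (.node 91393 (.leaf 0x3030900090005) (.node 91394 (.leaf 0x901020604000703040103000b) (.leaf 0x5020901090202000701000a))) (.node 91396 (.leaf 0x702060207020703040103000b) (.node 91397 (.leaf 0x70500030306040202000701000c) (.leaf 0x3040101090805000703040103000d))))))

def argWS_8098 : Store := (.node 91409 (.node 91403 (.node 91400 (.node 91399 (.leaf 0x70101090009000703040103000c) (.leaf 0x10300070209020007)) (.node 91401 (.leaf 0x4000202020703040103000a) (.node 91402 (.leaf 0x602010904020006) (.leaf 0x10500020004)))) (.node 91406 (.node 91404 (.leaf 0x3050603050004000703040103000d) (.node 91405 (.leaf 0x6010202020900000802040105000d) (.leaf 0x1020105020604000703040103000d))) (.node 91407 (.leaf 0x704010904020802040105000b) (.node 91408 (.leaf 0x600020000030703040103000b) (.leaf 0x60401010908050802040105000c))))) (.node 91415 (.node 91412 (.node 91410 (.leaf 0x307090806000006) (.node 91411 (.leaf 0x4030400050005)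 (.leaf 0x3070002020900000202000701000d))) (.node 91413 (.leaf 0x307000206030802040105000b) (.node 91414 (.leaf 0x8030002010606000703040103000d) (.leaf 0x908050007030401030009)))) (.node 91418 (.node 91416 (.leaf 0x20901070209020007) (.node 91417 (.leaf 0x20200020804000007) (.leaf 0x2040102000003010202000701000d))) (.node 91419 (.leaf 0x20403070209020202000701000c) (.node 91420 (.leaf 0x20200000408010007) (.leaf 0x800040206030006))))))

def argWS_8099 : Store := (.node 91398 argWS_8097 argWS_8098)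

def argWS_8100 : Store := (.node 91432 (.node 91426 (.node 91423 (.node 91422 (.leaf 0x10206030004) (.leaf 0x605020804000202000701000b)) (.node 91424 (.leaf 0x8020703060202000701000a) (.node 91425 (.leaf 0x7040003030604000703040103000d) (.leaf 0x109030901090202000701000b)))) (.node 91429 (.node 91427 (.leaf 0x8050000000300000802040105000d) (.node 91428 (.leaf 0x807030401030006) (.leaf 0x20200000300000802040105000c))) (.node 91430 (.leaf 0x80500070209020202000701000c) (.node 91431 (.leaf 0x9030900090005) (.leaf 0x20006030500040007))))) (.node 91437 (.node 91434 (.node 91433 (.leaf 0x3040207020007010008) (.leaf 0x20002010904020802040105000c)) (.node 91435 (.leaf 0x20906020702010202000701000c) (.node 91436 (.leaf 0x102010908050802040105000b) (.leaf 0x200090000090202000701000b)))) (.node 91440 (.node 91438 (.leaf 0x400090806000202000701000c) (.node 91439 (.leaf 0x40103010102000007) (.leaf 0x20000090000090802040105000c))) (.node 91441 (.leaf 0x4020506030500040202000701000d)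 (.node 91442 (.leaf 0x2090301070306000703040103000d) (.leaf 0x6010900090802040105000a))))))

def argWS_8101 : Store := (.node 91454 (.node 91448 (.node 91445 (.node 91444 (.leaf 0x30401090806000802040105000c) (.leaf 0x8000703060005)) (.node 91446 (.leaf 0x400050005) (.node 91447 (.leaf 0x6000006020702010802040105000d) (.leaf 0x409040202020007010009)))) (.node 91451 (.node 91449 (.leaf 0x5000400050202000701000a) (.node 91450 (.leaf 0x1020200000300000008) (.leaf 0x30306020702010007))) (.node 91452 (.leaf 0x4020505020202010802040105000d) (.node 91453 (.leaf 0x3090009000703040103000b) (.leaf 0x60106030500040802040105000c))))) (.node 91460 (.node 91457 (.node 91455 (.leaf 0x3010400050005) (.node 91456 (.leaf 0x9000601050002000703040103000e) (.leaf 0x10901090004))) (.node 91458 (.leaf 0x701070009020007010009) (.node 91459 (.leaf 0x404020901060802040105000b) (.leaf 0x6050601050002000703040103000d)))) (.node 91463 (.node 91461 (.leaf 0x206020901060802040105000b)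 (.node 91462 (.leaf 0x3010004) (.leaf 0x20902020900000202000701000c))) (.node 91464 (.leaf 0x502010401050006) (.node 91465 (.leaf 0x30106030500040202000701000c) (.leaf 0x907000207030802040105000b))))))

def argWS_8102 : Store := (.node 91443 argWS_8100 argWS_8101)

def argWS_8103 : Store := (.node 91421 argWS_8099 argWS_8102)

def argWS_8104 : Store := (.node 91376 argWS_8096 argWS_8103)

def argWS_8105 : Store := (.node 91477 (.node 91471 (.node 91468 (.node 91467 (.leaf 0x50106060802040105000a) (.leaf 0x802000900090202000701000b)) (.node 91469 (.leaf 0x800000408010802040105000b) (.node 91470 (.leaf 0x406030500040202000701000b) (.leaf 0x204030003030604000703040103000e)))) (.node 91474 (.node 91472 (.leaf 0x30002020900000802040105000c) (.node 91473 (.leaf 0x10202010703060802040105000c) (.leaf 0x6050206040006))) (.node 91475 (.leaf 0x209020004) (.node 91476 (.leaf 0x605010703060802040105000b) (.leaf 0x30000030306040802040105000c))))) (.node 91482 (.node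 91479 (.node 91478 (.leaf 0x200020603000703040103000b) (.leaf 0x8010106020702010802040105000d)) (.node 91480 (.leaf 0x70901090802040105000a) (.node 91481 (.leaf 0x8000004080703040103000b) (.leaf 0x8020005020202010008)))) (.node 91485 (.node 91483 (.leaf 0x50009020602000703040103000c) (.node 91484 (.leaf 0x104020703000703040103000b) (.leaf 0x901060004))) (.node 91486 (.leaf 0x0) (.node 91487 (.leaf 0x105020206020007010009) (.leaf 0x70200020804000802040105000c))))))

def argWS_8106 : Store := (.node 91499 (.node 91493 (.node 91490 (.node 91489 (.leaf 0x90201070206000202000701000c) (.leaf 0x107070206000802040105000b)) (.node 91491 (.leaf 0x8020000020804000008) (.node 91492 (.leaf 0x2010307020600000703040103000d) (.leaf 0x707000903000703040103000c)))) (.node 91496 (.node 91494 (.leaf 0x2060101090805000703040103000d) (.node 91495 (.leaf 0x9040807030401030008) (.leaf 0x4030006020702010802040105000d))) (.node 91497 (.leaf 0x80000020901060802040105000c) (.node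 91498 (.leaf 0x400030009020602000703040103000e) (.leaf 0x104000900090006))))) (.node 91505 (.node 91502 (.node 91500 (.leaf 0x5030503010102000202000701000d) (.node 91501 (.leaf 0x60102010901090007) (.leaf 0x60609020602000703040103000c))) (.node 91503 (.leaf 0x501040005000703040103000b) (.node 91504 (.leaf 0x40309000009000703040103000c) (.leaf 0x400040400050006)))) (.node 91508 (.node 91506 (.leaf 0x10001) (.node 91507 (.leaf 0x1) (.leaf 0x30001))) (.node 91509 (.leaf 0x1030002) (.node 91510 (.leaf 0x1050002) (.leaf 0x1080002))))))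

def argWS_8107 : Store := (.node 91488 argWS_8105 argWS_8106)

def argWS_8108 : Store := (.node 91522 (.node 91516 (.node 91513 (.node 91512 (.leaf 0x30002) (.leaf 0x50002)) (.node 91514 (.leaf 0x70002) (.node 91515 (.leaf 0x60002) (.leaf 0x3040002)))) (.node 91519 (.node 91517 (.leaf 0x702020901060202000701000b) (.node 91518 (.leaf 0x2000002) (.leaf 0x2020002))) (.node 91520 (.leaf 0x2040002) (.node 91521 (.leaf 0x2070002) (.leaf 0x2060002))))) (.node 91527 (.node 91524 (.node 91523 (.leaf 0x2090002) (.leaf 0x9010002)) (.node 91525 (.leaf 0x9030002) (.node 91526 (.leaf 0x30106010500020802040105000c) (.leaf 0x5010904020005)))) (.node 91530 (.node 91528 (.leaf 0x90201070009030007) (.node 91529 (.leaf 0x9020106060802040105000a) (.leaf 0x103010003))) (.node 91531 (.leaf 0x70108020401050007) (.node 91532 (.leaf 0x6020401050005) (.leaf 0x600030000000703040103000b))))))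

def argWS_8109 : Store := (.node 91544 (.node 91538 (.node 91535 (.node 91534 (.leaf 0x7020000030000000703040103000d) (.leaf 0x102020003)) (.node 91536 (.leaf 0x2060207030802040105000a) (.node 91537 (.leaf 0x102080003) (.leaf 0x2040105020202010202000701000d)))) (.node 91541 (.node 91539 (.leaf 0x105020003) (.node 91540 (.leaf 0x202070206000202000701000b) (.leaf 0x60000070009030802040105000c))) (.node 91542 (.leaf 0x8050703060202000701000a) (.node 91543 (.leaf 0x700070206000202000701000b) (.leaf 0x9030002020900000202000701000d))))) (.node 91550 (.node 91547 (.node 91545 (.leaf 0x2040206020007010008) (.node 91546 (.leaf 0x107000003) (.leaf 0x107030003))) (.node 91548 (.leaf 0x60601090806000007) (.node 91549 (.leaf 0x700090402000703040103000b) (.leaf 0x402020900000202000701000c)))) (.node 91553 (.node 91551 (.leaf 0x205070206000006) (.node 91552 (.leaf 0x6040106010500020202000701000d) (.leaf 0x300070209020006))) (.node 91554 (.leaf 0x204000408010202000701000b)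 (.node 91555 (.leaf 0x109030003) (.leaf 0x1030106010500020802040105000d))))))

def argWS_8110 : Store := (.node 91533 argWS_8108 argWS_8109)

def argWS_8111 : Store := (.node 91511 argWS_8107 argWS_8110)

def argWS_8112 : Store := (.node 91567 (.node 91561 (.node 91558 (.node 91557 (.leaf 0x60202020900000202000701000c) (.leaf 0x30402000003010202000701000c)) (.node 91559 (.leaf 0x3010003) (.node 91560 (.leaf 0x105020901090006) (.leaf 0x3060003)))) (.node 91564 (.node 91562 (.leaf 0x2000003) (.node 91563 (.leaf 0x900000408010202000701000b) (.leaf 0x206010703060802040105000b))) (.node 91565 (.leaf 0x404090000090202000701000b) (.node 91566 (.leaf 0x80200020000030703040103000c) (.leaf 0x5030003))))) (.node 91572 (.node 91569 (.node 91568 (.leaf 0x2050206030500040008) (.leaf 0x4000003)) (.node 91570 (.leaf 0x107090805000703040103000b) (.node 91571 (.leaf 0x7030003) (.leaf 0x6000003)))) (.node 91575 (.node 91573 (.leaf 0x6030003) (.node 91574 (.leaf 0x80908050005)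 (.leaf 0x9000003))) (.node 91576 (.leaf 0x60000020106060007) (.node 91577 (.leaf 0x301050003) (.leaf 0x102010901090202000701000b))))))

def argWS_8113 : Store := (.node 91589 (.node 91583 (.node 91580 (.node 91579 (.leaf 0x300000003) (.leaf 0x902020207030401030009)) (.node 91581 (.leaf 0x70209080600000703040103000c) (.node 91582 (.leaf 0x2020202010005) (.leaf 0x4020500090206020802040105000d)))) (.node 91586 (.node 91584 (.leaf 0x200070306000703040103000b) (.node 91585 (.leaf 0x602010301010200000703040103000e) (.leaf 0x501060608020401050009))) (.node 91587 (.leaf 0x307000003) (.node 91588 (.leaf 0x2000006010500020802040105000d) (.leaf 0x9000206020007010008))))) (.node 91595 (.node 91592 (.node 91590 (.leaf 0x6000901090802040105000b) (.node 91591 (.leaf 0x1020206020702010802040105000d) (.leaf 0x107000401050006))) (.node 91593 (.leaf 0x201030003) (.node 91594 (.leaf 0x402020207030401030009) (.leaf 0x300090000090202000701000b)))) (.node 91598 (.node 91596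 (.leaf 0x10502070206000802040105000c) (.node 91597 (.leaf 0x201060003) (.leaf 0x402060402020007010009))) (.node 91599 (.leaf 0x201090003) (.node 91600 (.leaf 0x200020003) (.leaf 0x10406030500040202000701000c))))))

def argWS_8114 : Store := (.node 91578 argWS_8112 argWS_8113)

def argWS_8115 : Store := (.node 91612 (.node 91606 (.node 91603 (.node 91602 (.leaf 0x200080003) (.leaf 0x200090003)) (.node 91604 (.leaf 0x0) (.node 91605 (.leaf 0x202000003) (.leaf 0x906020000030703040103000b)))) (.node 91609 (.node 91607 (.leaf 0x101050202020703040103000b) (.node 91608 (.leaf 0x500090000090006) (.leaf 0x500000007030401030009))) (.node 91610 (.leaf 0x7000000000300000008) (.node 91611 (.leaf 0x204030003) (.leaf 0x1030002020900000802040105000d))))) (.node 91618 (.node 91615 (.node 91613 (.leaf 0x209010003) (.node 91614 (.leaf 0x601070206000202000701000b) (.leaf 0x209020003))) (.node 91616 (.leaf 0x8020908050202000701000a) (.node 91617 (.leaf 0x900000003) (.leaf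 0x206090000090202000701000b)))) (.node 91621 (.node 91619 (.leaf 0x3070006020702010008) (.node 91620 (.leaf 0x500000000030000000703040103000e) (.leaf 0x90102020900000202000701000c))) (.node 91622 (.leaf 0x901020604000703040103000b) (.node 91623 (.leaf 0x40300000300000007) (.leaf 0x702060207020703040103000b))))))

def argWS_8116 : Store := (.node 91635 (.node 91629 (.node 91626 (.node 91625 (.leaf 0x402020900000202000701000b) (.leaf 0x4000202020703040103000a)) (.node 91627 (.leaf 0x2020202090106000703040103000d) (.node 91628 (.leaf 0x3090806000006) (.leaf 0x604000901090006)))) (.node 91632 (.node 91630 (.leaf 0x40004000408010802040105000c) (.node 91631 (.leaf 0x40009000009000703040103000d) (.leaf 0x1020105020604000703040103000d))) (.node 91633 (.leaf 0x704010904020802040105000b) (.node 91634 (.leaf 0x10303080004) (.leaf 0x20000000300000202000701000d))))) (.node 91641 (.node 91638 (.node 91636 (.leaf 0x20202020901060802040105000c) (.node 91637 (.leaf 0x307090806000006)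 (.leaf 0x4020007010005))) (.node 91639 (.leaf 0x20106030500040802040105000c) (.node 91640 (.leaf 0x307000206030802040105000b) (.leaf 0x6000901090802040105000a)))) (.node 91644 (.node 91642 (.leaf 0x8030002010606000703040103000d) (.node 91643 (.leaf 0x801010301010200000703040103000e) (.leaf 0x20200020804000007))) (.node 91645 (.leaf 0x2040102000003010202000701000d) (.node 91646 (.leaf 0x30401010703060202000701000c) (.leaf 0x80500090806000202000701000c))))))

def argWS_8117 : Store := (.node 91624 argWS_8115 argWS_8116)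

def argWS_8118 : Store := (.node 91601 argWS_8114 argWS_8117)

def argWS_8119 : Store := (.node 91556 argWS_8111 argWS_8118)

def argWS_8120 : Store := (.node 91466 argWS_8104 argWS_8119)

def argWS_8121 : Store := (.node 91286 argWS_8089 argWS_8120)

def argWS_8122 : Store := (.node 91658 (.node 91652 (.node 91649 (.node 91648 (.leaf 0x90306020702010802040105000c) (.leaf 0x10206030004)) (.node 91650 (.leaf 0x605020804000202000701000b) (.node 91651 (.leaf 0x8020703060202000701000a) (.leaf 0x503040005000703040103000c)))) (.node 91655 (.node 91653 (.leaf 0x807030401030006) (.node 91654 (.leaf 0x20200000300000802040105000c) (.leaf 0x7070209020202000701000a))) (.node 91656 (.leaf 0x80500070209020202000701000c) (.node 91657 (.leaf 0x200090206020202000701000c) (.leaf 0x906090000090202000701000b))))) (.node 91663 (.node 91660 (.node 91659 (.leaf 0x605010308000703040103000b) (.leaf 0x3040207020007010008)) (.node 91661 (.leaf 0x20002010904020802040105000c) (.node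 91662 (.leaf 0x20906020702010202000701000c) (.leaf 0x401090009000703040103000b)))) (.node 91666 (.node 91664 (.leaf 0x10401050004) (.node 91665 (.leaf 0x4040004080703040103000a) (.leaf 0x50201040005000703040103000c))) (.node 91667 (.leaf 0x5020000020804000202000701000d) (.node 91668 (.leaf 0x800070209020006) (.leaf 0x400090806000202000701000c))))))

def argWS_8123 : Store := (.node 91680 (.node 91674 (.node 91671 (.node 91670 (.leaf 0x406030500040006) (.leaf 0x40103010102000007)) (.node 91672 (.leaf 0x4020506030500040202000701000d) (.node 91673 (.leaf 0x8050008020401050008) (.leaf 0x2090301070306000703040103000d)))) (.node 91677 (.node 91675 (.leaf 0x400050005) (.node 91676 (.leaf 0x90009000009000703040103000c) (.leaf 0x6000006020702010802040105000d))) (.node 91678 (.leaf 0x8000703060202000701000a) (.node 91679 (.leaf 0x20505020202010202000701000c) (.leaf 0x409040202020007010009))))) (.node 91686 (.node 91683 (.node 91681 (.leaf 0x1020200000300000008)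 (.node 91682 (.leaf 0x3090009000703040103000b) (.leaf 0x20400090206020007))) (.node 91684 (.leaf 0x5090000090802040105000a) (.node 91685 (.leaf 0x3010400050005) (.leaf 0x404020901060802040105000b)))) (.node 91689 (.node 91687 (.leaf 0x6050601050002000703040103000d) (.node 91688 (.leaf 0x206020901060802040105000b) (.leaf 0x10900090004))) (.node 91690 (.leaf 0x2040103010102000802040105000d) (.node 91691 (.leaf 0x903000901090006) (.leaf 0x20902020900000202000701000c))))))

def argWS_8124 : Store := (.node 91669 argWS_8122 argWS_8123)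

def argWS_8125 : Store := (.node 91703 (.node 91697 (.node 91694 (.node 91693 (.leaf 0x30106030500040202000701000c) (.leaf 0x70201090805000703040103000c)) (.node 91695 (.leaf 0x907000207030802040105000b) (.node 91696 (.leaf 0x802000900090202000701000b) (.leaf 0x2020602000703040103000a)))) (.node 91700 (.node 91698 (.leaf 0x10101090805000703040103000c) (.node 91699 (.leaf 0x7030500000300000008) (.leaf 0x1030009000009000703040103000d))) (.node 91701 (.leaf 0x10202010703060802040105000c) (.node 91702 (.leaf 0x209020004) (.leaf 0x2090206020007010008))))) (.node 91708 (.node 91705 (.node 91704 (.leaf 0x30000030306040802040105000c) (.leaf 0x803000401050006)) (.node 91706 (.leaf 0x20206010500020802040105000c) (.node 91707 (.leaf 0x901030802020007010009) (.leaf 0x304030308000703040103000b)))) (.node 91711 (.node 91709 (.leaf 0x8000904020802040105000a) (.node 91710 (.leaf 0x80000090206020008) (.leaf 0x70901090802040105000a))) (.node 91712 (.leaf 0x40004060207020703040103000c)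 (.node 91713 (.leaf 0x8020005020202010008) (.leaf 0x9070202090000000703040103000d))))))

def argWS_8126 : Store := (.node 91725 (.node 91719 (.node 91716 (.node 91715 (.leaf 0x2050603050004000703040103000d) (.leaf 0x901060004)) (.node 91717 (.leaf 0x105020206020007010009) (.node 91718 (.leaf 0x70200020804000802040105000c) (.leaf 0x90201070206000202000701000c)))) (.node 91722 (.node 91720 (.leaf 0x107070206000802040105000b) (.node 91721 (.leaf 0x8020000020804000008) (.leaf 0x2010307020600000703040103000d))) (.node 91723 (.leaf 0x707000903000703040103000c) (.node 91724 (.leaf 0x60301020106060802040105000c) (.leaf 0x605000300000202000701000b))))) (.node 91731 (.node 91728 (.node 91726 (.leaf 0x2090202090000000703040103000d) (.node 91727 (.leaf 0x9040807030401030008) (.leaf 0x200000300000006))) (.node 91729 (.leaf 0x400030009020602000703040103000e) (.node 91730 (.leaf 0x20003010004) (.leaf 0x9030006030500040802040105000d)))) (.node 91734 (.node 91732 (.leaf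 0x60301010200000703040103000d) (.node 91733 (.leaf 0x60102010901090007) (.leaf 0x60000090000090007))) (.node 91735 (.leaf 0x40309000009000703040103000c) (.node 91736 (.leaf 0x0) (.leaf 0x80300000408010202000701000c))))))

def argWS_8127 : Store := (.node 91714 argWS_8125 argWS_8126)

def argWS_8128 : Store := (.node 91692 argWS_8124 argWS_8127)

def argWS_8129 : Store := (.node 91748 (.node 91742 (.node 91739 (.node 91738 (.leaf 0x10001) (.leaf 0x30001)) (.node 91740 (.leaf 0x1010002) (.node 91741 (.leaf 0x1050002) (.leaf 0x1060002)))) (.node 91745 (.node 91743 (.leaf 0x1080002) (.node 91744 (.leaf 0x2) (.leaf 0x30002))) (.node 91746 (.leaf 0x50002) (.node 91747 (.leaf 0x70002) (.leaf 0x60002))))) (.node 91753 (.node 91750 (.node 91749 (.leaf 0x90002) (.leaf 0x3030002)) (.node 91751 (.leaf 0x3050002) (.node 91752 (.leaf 0x3070002) (.leaf 0x3060002)))) (.node 91756 (.node 91754 (.leaf 0x702020901060202000701000b) (.node 91755 (.leaf 0x2040002) (.leaf 0x2070002)))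 (.node 91757 (.leaf 0x2060002) (.node 91758 (.leaf 0x9010002) (.leaf 0x9000002))))))

def argWS_8130 : Store := (.node 91770 (.node 91764 (.node 91761 (.node 91760 (.leaf 0x60904020004) (.leaf 0x20002090106000703040103000d)) (.node 91762 (.leaf 0x6020401050005) (.node 91763 (.leaf 0x700020804000202000701000c) (.leaf 0x7020000030000000703040103000d)))) (.node 91767 (.node 91765 (.leaf 0x102010003) (.node 91766 (.leaf 0x102080003) (.leaf 0x604010400050202000701000b))) (.node 91768 (.leaf 0x5000206020007010008) (.node 91769 (.leaf 0x602090402000703040103000b) (.leaf 0x60000070009030802040105000c))))) (.node 91776 (.node 91773 (.node 91771 (.leaf 0x8050703060202000701000a) (.node 91772 (.leaf 0x700070206000202000701000b) (.leaf 0x502000207030006))) (.node 91774 (.leaf 0x107000003) (.node 91775 (.leaf 0x107030003) (.leaf 0x70802020007010007)))) (.node 91779 (.node 91777 (.leaf 0x2020000090206020008) (.node 91778 (.leaf 0x402020900000202000701000c) (.leaf 0x205070206000006)))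 (.node 91780 (.leaf 0x109030003) (.node 91781 (.leaf 0x7000005020604000703040103000d) (.leaf 0x60202020900000202000701000c))))))

def argWS_8131 : Store := (.node 91759 argWS_8129 argWS_8130)

def argWS_8132 : Store := (.node 91793 (.node 91787 (.node 91784 (.node 91783 (.leaf 0x902010901090802040105000b) (.leaf 0x3060003)) (.node 91785 (.leaf 0x3070002000003010802040105000d) (.node 91786 (.leaf 0x900000408010202000701000b) (.leaf 0x109030601050002000703040103000e)))) (.node 91790 (.node 91788 (.leaf 0x206010703060802040105000b) (.node 91789 (.leaf 0x404090000090202000701000b) (.leaf 0x10300020106060202000701000c))) (.node 91791 (.leaf 0x5030003) (.node 91792 (.leaf 0x2050206030500040008) (.leaf 0x90300020901060007))))) (.node 91798 (.node 91795 (.node 91794 (.leaf 0x107090805000703040103000b) (.leaf 0x4020003)) (.node 91796 (.leaf 0x6000000090206020802040105000d) (.node 91797 (.leaf 0x4010206020007010008) (.leaf 0x702070209020802040105000b)))) (.node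 91801 (.node 91799 (.leaf 0x40202010004) (.node 91800 (.leaf 0x307050206040802040105000b) (.leaf 0x8020007020902000703040103000d))) (.node 91802 (.leaf 0x8000003) (.node 91803 (.leaf 0x60908050005) (.leaf 0x9000003))))))

def argWS_8133 : Store := (.node 91815 (.node 91809 (.node 91806 (.node 91805 (.leaf 0x209010908050202000701000b) (.leaf 0x60000020106060007)) (.node 91807 (.leaf 0x102010901090202000701000b) (.node 91808 (.leaf 0x103010207030802040105000b) (.leaf 0x300000003)))) (.node 91812 (.node 91810 (.leaf 0x7010207030005) (.node 91811 (.leaf 0x4020500090206020802040105000d) (.leaf 0x20105020604000703040103000c))) (.node 91813 (.leaf 0x200070306000703040103000b) (.node 91814 (.leaf 0x70000020901060007) (.leaf 0x304030003))))) (.node 91821 (.node 91818 (.node 91816 (.leaf 0x307000003) (.node 91817 (.leaf 0x2000006010500020802040105000d) (.leaf 0x9000206020007010008))) (.node 91819 (.leaf 0x306030003) (.node 91820 (.leaf 0x60205020202010202000701000c)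 (.leaf 0x201060003)))) (.node 91824 (.node 91822 (.leaf 0x200080003) (.node 91823 (.leaf 0x200090003) (.leaf 0x30105020604000703040103000c))) (.node 91825 (.leaf 0x500000007030401030009) (.node 91826 (.leaf 0x1030002020900000802040105000d) (.leaf 0x206010003))))))

def argWS_8134 : Store := (.node 91804 argWS_8132 argWS_8133)

def argWS_8135 : Store := (.node 91782 argWS_8131 argWS_8134)

def argWS_8136 : Store := (.node 91737 argWS_8128 argWS_8135)

def argWS_8137 : Store := (.node 91838 (.node 91832 (.node 91829 (.node 91828 (.leaf 0x206030003) (.leaf 0x8020908050202000701000a)) (.node 91830 (.leaf 0x901060003) (.node 91831 (.leaf 0x502020804000006) (.leaf 0x901090003)))) (.node 91835 (.node 91833 (.leaf 0x6050102000003010202000701000d) (.node 91834 (.leaf 0x8000901090202000701000a) (.leaf 0x80004090009000703040103000c))) (.node 91836 (.leaf 0x7030502020900000008) (.node 91837 (.leaf 0x903000003) (.leaf 0x6000703060802040105000a))))) (.node 91843 (.node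 91840 (.node 91839 (.leaf 0x3070006020702010008) (.leaf 0x702090000090202000701000b)) (.node 91841 (.leaf 0x80300090000090802040105000c) (.node 91842 (.leaf 0x609080600000703040103000b) (.leaf 0x3030900090005)))) (.node 91846 (.node 91844 (.leaf 0x40300000300000007) (.node 91845 (.leaf 0x702060207020703040103000b) (.leaf 0x70500030306040202000701000c))) (.node 91847 (.leaf 0x3040101090805000703040103000d) (.node 91848 (.leaf 0x70101090009000703040103000c) (.leaf 0x10300070209020007))))))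

def argWS_8138 : Store := (.node 91860 (.node 91854 (.node 91851 (.node 91850 (.leaf 0x3090806000006) (.leaf 0x10500020004)) (.node 91852 (.leaf 0x8010408010802040105000a) (.node 91853 (.leaf 0x6010202020900000802040105000d) (.leaf 0x704010904020802040105000b)))) (.node 91857 (.node 91855 (.leaf 0x30700000408010202000701000c) (.node 91856 (.leaf 0x20000000300000202000701000d) (.leaf 0x20202020901060802040105000c))) (.node 91858 (.leaf 0x60401010908050802040105000c) (.node 91859 (.leaf 0x4020007010005) (.leaf 0x6000901090802040105000a))))) (.node 91866 (.node 91863 (.node 91861 (.leaf 0x8030002010606000703040103000d) (.node 91862 (.leaf 0x801010301010200000703040103000e) (.leaf 0x20901070209020007))) (.node 91864 (.leaf 0x20200020804000007) (.node 91865 (.leaf 0x2040102000003010202000701000d) (.leaf 0x70900090802040105000a)))) (.node 91869 (.node 91867 (.leaf 0x9010207030802040105000a) (.node 91868 (.leaf 0x20403070209020202000701000c) (.leaf 0x20200000408010007)))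 (.node 91870 (.leaf 0x800040206030006) (.node 91871 (.leaf 0x90306020702010802040105000c) (.leaf 0x605020804000202000701000b))))))

def argWS_8139 : Store := (.node 91849 argWS_8137 argWS_8138)

def argWS_8140 : Store := (.node 91883 (.node 91877 (.node 91874 (.node 91873 (.leaf 0x7040003030604000703040103000d) (.leaf 0x20202090106000703040103000c)) (.node 91875 (.leaf 0x807030401030006) (.node 91876 (.leaf 0x906090000090202000701000b) (.leaf 0x8000406030500040802040105000d)))) (.node 91880 (.node 91878 (.leaf 0x605010308000703040103000b) (.node 91879 (.leaf 0x20002010904020802040105000c) (.leaf 0x200090000090202000701000b))) (.node 91881 (.leaf 0x20601010908050202000701000c) (.node 91882 (.leaf 0x60000000300000008) (.leaf 0x5020000020804000202000701000d))))) (.node 91888 (.node 91885 (.node 91884 (.leaf 0x800070209020006) (.leaf 0x606010400050802040105000b)) (.node 91886 (.leaf 0x2090301070306000703040103000d) (.node 91887 (.leaf 0x10401090402000703040103000c)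 (.leaf 0x8000403010102000202000701000d)))) (.node 91891 (.node 91889 (.leaf 0x30401090806000802040105000c) (.node 91890 (.leaf 0x90009000009000703040103000c) (.leaf 0x5000400050202000701000a))) (.node 91892 (.leaf 0x1020200000300000008) (.node 91893 (.leaf 0x30306020702010007) (.leaf 0x4020505020202010802040105000d))))))

def argWS_8141 : Store := (.node 91905 (.node 91899 (.node 91896 (.node 91895 (.leaf 0x3010703060006) (.leaf 0x20400090206020007)) (.node 91897 (.leaf 0x60106030500040802040105000c) (.node 91898 (.leaf 0x5090000090802040105000a) (.leaf 0x701070009020007010009)))) (.node 91902 (.node 91900 (.leaf 0x206020901060802040105000b) (.node 91901 (.leaf 0x401070009030006) (.leaf 0x903000901090006))) (.node 91903 (.leaf 0x60201050206040802040105000c) (.node 91904 (.leaf 0x502010401050006) (.leaf 0x30106030500040202000701000c))))) (.node 91911 (.node 91908 (.node 91906 (.leaf 0x70201090805000703040103000c) (.node 91907 (.leaf 0x50106060802040105000a)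 (.leaf 0x802000900090202000701000b))) (.node 91909 (.leaf 0x2020602000703040103000a) (.node 91910 (.leaf 0x7030500000300000008) (.leaf 0x406030500040202000701000b)))) (.node 91914 (.node 91912 (.leaf 0x1030009000009000703040103000d) (.node 91913 (.leaf 0x204030003030604000703040103000e) (.leaf 0x209020004))) (.node 91915 (.leaf 0x30000030306040802040105000c) (.node 91916 (.leaf 0x1040009000009000703040103000d) (.leaf 0x1080007030401030008))))))

def argWS_8142 : Store := (.node 91894 argWS_8140 argWS_8141)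

def argWS_8143 : Store := (.node 91872 argWS_8139 argWS_8142)

def argWS_8144 : Store := (.node 91928 (.node 91922 (.node 91919 (.node 91918 (.leaf 0x400050004) (.leaf 0x20206010500020802040105000c)) (.node 91920 (.leaf 0x901030802020007010009) (.node 91921 (.leaf 0x60309020602000703040103000c) (.leaf 0x3040807030401030008)))) (.node 91925 (.node 91923 (.leaf 0x80000090206020008) (.node 91924 (.leaf 0x70901090802040105000a) (.leaf 0x8000004080703040103000b))) (.node 91926 (.leaf 0x8020005020202010008) (.node 91927 (.leaf 0x2050603050004000703040103000d) (.leaf 0x50009020602000703040103000c))))) (.node 91933 (.node 91930 (.node 91929 (.leaf 0x104020703000703040103000b) (.leaf 0x70200020804000802040105000c)) (.node 91931 (.leaf 0x107070206000802040105000b) (.node 91932 (.leaf 0x50300020804000802040105000d) (.leaf 0x2010307020600000703040103000d)))) (.node 91936 (.node 91934 (.leaf 0x707000903000703040103000c) (.node 91935 (.leaf 0x2060101090805000703040103000d)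 (.leaf 0x204010900090006))) (.node 91937 (.leaf 0x60301020106060802040105000c) (.node 91938 (.leaf 0x400090206020007) (.leaf 0x80000020901060802040105000c))))))

def argWS_8145 : Store := (.node 91950 (.node 91944 (.node 91941 (.node 91940 (.leaf 0x8000601050002000703040103000e) (.leaf 0x9030006030500040802040105000d)) (.node 91942 (.leaf 0x7050308000703040103000a) (.node 91943 (.leaf 0x60102010901090007) (.leaf 0x40309000009000703040103000c)))) (.node 91947 (.node 91945 (.leaf 0x906020106060202000701000b) (.node 91946 (.leaf 0x9000400050202000701000b) (.leaf 0x10001))) (.node 91948 (.leaf 0x1) (.node 91949 (.leaf 0x20001) (.leaf 0x90001))))) (.node 91956 (.node 91953 (.node 91951 (.leaf 0x1010002) (.node 91952 (.leaf 0x1020002) (.leaf 0x1050002))) (.node 91954 (.leaf 0x1040002) (.node 91955 (.leaf 0x1070002) (.leaf 0x1080002)))) (.node 91959 (.node 91957 (.leaf 0x1090002) (.node 91958 (.leaf 0x2) (.leaf 0x30002))) (.node 91960 (.leaf 0x80002) (.node 91961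 (.leaf 0x3030002) (.leaf 0x3040002))))))

def argWS_8146 : Store := (.node 91939 argWS_8144 argWS_8145)

def argWS_8147 : Store := (.node 91973 (.node 91967 (.node 91964 (.node 91963 (.leaf 0x3070002) (.leaf 0x3060002)) (.node 91965 (.leaf 0x702020901060202000701000b) (.node 91966 (.leaf 0x2000002) (.leaf 0x2020002)))) (.node 91970 (.node 91968 (.leaf 0x2050002) (.node 91969 (.leaf 0x2040002) (.leaf 0x2070002))) (.node 91971 (.leaf 0x60904020004) (.node 91972 (.leaf 0x30106010500020802040105000c) (.leaf 0x5010904020005))))) (.node 91979 (.node 91976 (.node 91974 (.leaf 0x90201070009030007) (.node 91975 (.leaf 0x9020106060802040105000a) (.leaf 0x70108020401050007))) (.node 91977 (.leaf 0x6020401050005) (.node 91978 (.leaf 0x103080003) (.leaf 0x102010003)))) (.node 91982 (.node 91980 (.leaf 0x4000409000009000703040103000d) (.node 91981 (.leaf 0x2040105020202010202000701000d) (.leaf 0x202070206000202000701000b))) (.node 91983 (.leaf 0x700070206000202000701000b)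 (.node 91984 (.leaf 0x104000003) (.leaf 0x9030002020900000202000701000d))))))

def argWS_8148 : Store := (.node 91996 (.node 91990 (.node 91987 (.node 91986 (.leaf 0x107030003) (.leaf 0x2020000090206020008)) (.node 91988 (.leaf 0x1030106010500020802040105000d) (.node 91989 (.leaf 0x60202020900000202000701000c) (.leaf 0x30402000003010202000701000c)))) (.node 91993 (.node 91991 (.leaf 0x104020603000703040103000b) (.node 91992 (.leaf 0x902010901090802040105000b) (.leaf 0x3060003))) (.node 91994 (.leaf 0x3080003) (.node 91995 (.leaf 0x7020009020602000703040103000d) (.leaf 0x109030601050002000703040103000e))))) (.node 92002 (.node 91999 (.node 91997 (.leaf 0x404090000090202000701000b) (.node 91998 (.leaf 0x10300020106060202000701000c) (.leaf 0x50000070209020007))) (.node 92000 (.leaf 0x2050206030500040008) (.node 92001 (.leaf 0x90300020901060007) (.leaf 0x4000003)))) (.node 92005 (.node 92003 (.leaf 0x107090805000703040103000b) (.node 92004 (.leaf 0x6000000090206020802040105000d)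 (.leaf 0x4010206020007010008))) (.node 92006 (.leaf 0x702070209020802040105000b) (.node 92007 (.leaf 0x40202010004) (.leaf 0x6030003))))))

def argWS_8149 : Store := (.node 91985 argWS_8147 argWS_8148)

def argWS_8150 : Store := (.node 91962 argWS_8146 argWS_8149)

def argWS_8151 : Store := (.node 91917 argWS_8143 argWS_8150)

def argWS_8152 : Store := (.node 91827 argWS_8136 argWS_8151)

def argWS_8153 : Store := (.node 92019 (.node 92013 (.node 92010 (.node 92009 (.leaf 0x80908050005) (.leaf 0x8020007020902000703040103000d)) (.node 92011 (.leaf 0x209010908050202000701000b) (.node 92012 (.leaf 0x60000020106060007) (.leaf 0x102010901090202000701000b)))) (.node 92016 (.node 92014 (.leaf 0x300000003) (.node 92015 (.leaf 0x7010207030005) (.leaf 0x902060402020007010009))) (.node 92017 (.leaf 0x70209080600000703040103000c) (.node 92018 (.leaf 0x4020500090206020802040105000d) (.leaf 0x200070306000703040103000b))))) (.node 92024 (.node 92021 (.node 92020 (.leaf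 0x304030003) (.leaf 0x307000003)) (.node 92022 (.leaf 0x2000006010500020802040105000d) (.node 92023 (.leaf 0x306030003) (.leaf 0x201030003)))) (.node 92027 (.node 92025 (.leaf 0x10502070206000802040105000c) (.node 92026 (.leaf 0x201060003) (.leaf 0x201090003))) (.node 92028 (.leaf 0x20908050005) (.node 92029 (.leaf 0x200020003) (.leaf 0x10406030500040202000701000c))))))

def argWS_8154 : Store := (.node 92041 (.node 92035 (.node 92032 (.node 92031 (.leaf 0x200080003) (.leaf 0x906020000030703040103000b)) (.node 92033 (.leaf 0x204030003) (.node 92034 (.leaf 0x1030002020900000802040105000d) (.leaf 0x206010003)))) (.node 92038 (.node 92036 (.leaf 0x209010003) (.node 92037 (.leaf 0x3050206030802040105000a) (.leaf 0x809040208020401050009))) (.node 92039 (.leaf 0x80004090009000703040103000c) (.node 92040 (.leaf 0x206090000090202000701000b) (.leaf 0x903000003))))) (.node 92047 (.node 92044 (.node 92042 (.leaf 0x301010200000703040103000d) (.node 92043 (.leaf 0x3070006020702010008)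 (.leaf 0x3010005))) (.node 92045 (.leaf 0x500000000030000000703040103000e) (.node 92046 (.leaf 0x70101090009000703040103000c) (.leaf 0x10300070209020007)))) (.node 92050 (.node 92048 (.leaf 0x4000202020703040103000a) (.node 92049 (.leaf 0x3090806000006) (.leaf 0x8010408010802040105000a))) (.node 92051 (.leaf 0x3050603050004000703040103000d) (.node 92052 (.leaf 0x1020105020604000703040103000d) (.leaf 0x10303080004))))))

def argWS_8155 : Store := (.node 92030 argWS_8153 argWS_8154)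

def argWS_8156 : Store := (.node 92064 (.node 92058 (.node 92055 (.node 92054 (.leaf 0x20202020901060802040105000c) (.leaf 0x3040301090805000703040103000d)) (.node 92056 (.leaf 0x60401010908050802040105000c) (.node 92057 (.leaf 0x4020007010005) (.leaf 0x4040603050004000703040103000d)))) (.node 92061 (.node 92059 (.leaf 0x307000206030802040105000b) (.node 92060 (.leaf 0x204010904020006) (.leaf 0x6000901090802040105000a))) (.node 92062 (.leaf 0x4030009020602000703040103000d) (.node 92063 (.leaf 0x908050007030401030009) (.leaf 0x20200020804000007))))) (.node 92069 (.node 92066 (.node 92065 (.leaf 0x2040102000003010202000701000d) (.leaf 0x80500090806000202000701000c)) (.node 92067 (.leaf 0x20403070209020202000701000c) (.node 92068 (.leaf 0x10206030004) (.leaf 0x605020804000202000701000b)))) (.node 92072 (.node 92070 (.leaf 0x8020703060202000701000a) (.node 92071 (.leaf 0x503040005000703040103000c) (.leaf 0x7040003030604000703040103000d))) (.node 92073 (.leaf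 0x807030401030006) (.node 92074 (.leaf 0x20200000300000802040105000c) (.leaf 0x7070209020202000701000a))))))

def argWS_8157 : Store := (.node 92086 (.node 92080 (.node 92077 (.node 92076 (.leaf 0x200090206020202000701000c) (.leaf 0x9030900090005)) (.node 92078 (.leaf 0x605010308000703040103000b) (.node 92079 (.leaf 0x10401050004) (.leaf 0x4040004080703040103000a)))) (.node 92083 (.node 92081 (.leaf 0x50201040005000703040103000c) (.node 92082 (.leaf 0x400090806000202000701000c) (.leaf 0x20000090000090802040105000c))) (.node 92084 (.leaf 0x606010400050802040105000b) (.node 92085 (.leaf 0x10401090402000703040103000c) (.leaf 0x8000403010102000202000701000d))))) (.node 92092 (.node 92089 (.node 92087 (.leaf 0x6010900090802040105000a) (.node 92088 (.leaf 0x8000703060005) (.leaf 0x400050005))) (.node 92090 (.leaf 0x8000703060202000701000a) (.node 92091 (.leaf 0x20505020202010202000701000c) (.leaf 0x3090009000703040103000b)))) (.node 92095 (.node 92093 (.leaf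 0x9020703000703040103000a) (.node 92094 (.leaf 0x10901090004) (.leaf 0x6050601050002000703040103000d))) (.node 92096 (.leaf 0x401070009030006) (.node 92097 (.leaf 0x3010004) (.leaf 0x2040103010102000802040105000d))))))

def argWS_8158 : Store := (.node 92075 argWS_8156 argWS_8157)

def argWS_8159 : Store := (.node 92053 argWS_8155 argWS_8158)

def argWS_8160 : Store := (.node 92109 (.node 92103 (.node 92100 (.node 92099 (.leaf 0x903000901090006) (.leaf 0x60201050206040802040105000c)) (.node 92101 (.leaf 0x20902020900000202000701000c) (.node 92102 (.leaf 0x502010401050006) (.leaf 0x802000900090202000701000b)))) (.node 92106 (.node 92104 (.leaf 0x60102010904020802040105000c) (.node 92105 (.leaf 0x10101090805000703040103000c) (.leaf 0x1030009000009000703040103000d))) (.node 92107 (.leaf 0x10202010703060802040105000c) (.node 92108 (.leaf 0x6050206040006) (.leaf 0x209020004))))) (.node 92114 (.node 92111 (.node 92110 (.leaf 0x2090206020007010008) (.leaf 0x307000301010200000703040103000e))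 (.node 92112 (.leaf 0x605010703060802040105000b) (.node 92113 (.leaf 0x1080007030401030008) (.leaf 0x803000401050006)))) (.node 92117 (.node 92115 (.leaf 0x400050004) (.node 92116 (.leaf 0x200020603000703040103000b) (.leaf 0x20206010500020802040105000c))) (.node 92118 (.leaf 0x901030802020007010009) (.node 92119 (.leaf 0x60309020602000703040103000c) (.leaf 0x904020004))))))

def argWS_8161 : Store := (.node 92131 (.node 92125 (.node 92122 (.node 92121 (.leaf 0x3040807030401030008) (.leaf 0x80000090206020008)) (.node 92123 (.leaf 0x80004090806000007) (.node 92124 (.leaf 0x70200020804000802040105000c) (.leaf 0x8020000020804000008)))) (.node 92128 (.node 92126 (.leaf 0x50300020804000802040105000d) (.node 92127 (.leaf 0x204010900090006) (.leaf 0x605000300000202000701000b))) (.node 92129 (.leaf 0x2090202090000000703040103000d) (.node 92130 (.leaf 0x400090206020007) (.leaf 0x4030006020702010802040105000d))))) (.node 92137 (.node 92134 (.node 92132 (.leaf 0x80000020901060802040105000c)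 (.node 92133 (.leaf 0x604000007030401030009) (.leaf 0x20003010004))) (.node 92135 (.leaf 0x9030006030500040802040105000d) (.node 92136 (.leaf 0x104000900090006) (.leaf 0x60301010200000703040103000d)))) (.node 92140 (.node 92138 (.leaf 0x7050308000703040103000a) (.node 92139 (.leaf 0x60000090000090007) (.leaf 0x501040005000703040103000b))) (.node 92141 (.leaf 0x906020106060202000701000b) (.node 92142 (.leaf 0x10001) (.leaf 0x30001))))))

def argWS_8162 : Store := (.node 92120 argWS_8160 argWS_8161)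

def argWS_8163 : Store := (.node 92154 (.node 92148 (.node 92145 (.node 92144 (.leaf 0x20001) (.leaf 0x90001)) (.node 92146 (.leaf 0x1030002) (.node 92147 (.leaf 0x1050002) (.leaf 0x1060002)))) (.node 92151 (.node 92149 (.leaf 0x1080002) (.node 92150 (.leaf 0x30002) (.leaf 0x5020107000902000701000a))) (.node 92152 (.leaf 0x0) (.node 92153 (.leaf 0x20002) (.leaf 0x50002))))) (.node 92159 (.node 92156 (.node 92155 (.leaf 0x40002) (.leaf 0x80002)) (.node 92157 (.leaf 0x3000002) (.node 92158 (.leaf 0x3050002) (.leaf 0x3040002)))) (.node 92162 (.node 92160 (.leaf 0x2020002) (.node 92161 (.leaf 0x2060002) (.leaf 0x2090002))) (.node 92163 (.leaf 0x30106010500020802040105000c) (.node 92164 (.leaf 0x103010003) (.leaf 0x6020401050005))))))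

def argWS_8164 : Store := (.node 92176 (.node 92170 (.node 92167 (.node 92166 (.leaf 0x600030000000703040103000b) (.leaf 0x7000005020202010802040105000d)) (.node 92168 (.leaf 0x103080003) (.node 92169 (.leaf 0x7020000030000000703040103000d) (.leaf 0x102020003)))) (.node 92173 (.node 92171 (.leaf 0x4000409000009000703040103000d) (.node 92172 (.leaf 0x102080003) (.leaf 0x604010400050202000701000b))) (.node 92174 (.leaf 0x5000206020007010008) (.node 92175 (.leaf 0x9030002020900000202000701000d) (.leaf 0x2040206020007010008))))) (.node 92182 (.node 92179 (.node 92177 (.leaf 0x107030003) (.node 92178 (.leaf 0x70802020007010007) (.leaf 0x6040106010500020202000701000d))) (.node 92180 (.leaf 0x700000900090802040105000b) (.node 92181 (.leaf 0x300070209020006) (.leaf 0x204000408010202000701000b)))) (.node 92185 (.node 92183 (.leaf 0x109030003) (.node 92184 (.leaf 0x20002090106000703040103000c) (.leaf 0x104020603000703040103000b))) (.node 92186 (.leaf 0x902010901090802040105000b)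 (.node 92187 (.leaf 0x3060003) (.leaf 0x7020009020602000703040103000d))))))

def argWS_8165 : Store := (.node 92165 argWS_8163 argWS_8164)

def argWS_8166 : Store := (.node 92143 argWS_8162 argWS_8165)

def argWS_8167 : Store := (.node 92098 argWS_8159 argWS_8166)

def argWS_8168 : Store := (.node 92199 (.node 92193 (.node 92190 (.node 92189 (.leaf 0x2000003) (.leaf 0x10300020106060202000701000c)) (.node 92191 (.leaf 0x5030003) (.node 92192 (.leaf 0x4000003) (.leaf 0x107090805000703040103000b)))) (.node 92196 (.node 92194 (.leaf 0x6000000090206020802040105000d) (.node 92195 (.leaf 0x307050206040802040105000b) (.leaf 0x8020007020902000703040103000d))) (.node 92197 (.leaf 0x60908050005) (.node 92198 (.leaf 0x209010908050202000701000b) (.leaf 0x60000020106060007))))) (.node 92204 (.node 92201 (.node 92200 (.leaf 0x1030106030500040202000701000d) (.leaf 0x103010207030802040105000b)) (.node 92202 (.leaf 0x702020703000703040103000b) (.node 92203 (.leaf 0x300000003)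 (.leaf 0x7010207030005)))) (.node 92207 (.node 92205 (.leaf 0x70209080600000703040103000c) (.node 92206 (.leaf 0x1040900090802040105000a) (.leaf 0x4020500090206020802040105000d))) (.node 92208 (.leaf 0x20105020604000703040103000c) (.node 92209 (.leaf 0x200070306000703040103000b) (.leaf 0x70000020901060007))))))

def argWS_8169 : Store := (.node 92221 (.node 92215 (.node 92212 (.node 92211 (.leaf 0x304030003) (.leaf 0x2000006010500020802040105000d)) (.node 92213 (.leaf 0x9000206020007010008) (.node 92214 (.leaf 0x1020206020702010802040105000d) (.leaf 0x60205020202010202000701000c)))) (.node 92218 (.node 92216 (.leaf 0x402020207030401030009) (.node 92217 (.leaf 0x201060003) (.leaf 0x200020003))) (.node 92219 (.leaf 0x10406030500040202000701000c) (.node 92220 (.leaf 0x200080003) (.leaf 0x101050202020703040103000b))))) (.node 92227 (.node 92224 (.node 92222 (.leaf 0x204030003) (.node 92223 (.leaf 0x1030002020900000802040105000d) (.leaf 0x206010003))) (.node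 92225 (.leaf 0x209010003) (.node 92226 (.leaf 0x809040208020401050009) (.leaf 0x502020804000006)))) (.node 92230 (.node 92228 (.leaf 0x6050102000003010202000701000d) (.node 92229 (.leaf 0x7030502020900000008) (.leaf 0x206090000090202000701000b))) (.node 92231 (.leaf 0x6000703060802040105000a) (.node 92232 (.leaf 0x3070006020702010008) (.leaf 0x80300090000090802040105000c))))))

def argWS_8170 : Store := (.node 92210 argWS_8168 argWS_8169)

def argWS_8171 : Store := (.node 92244 (.node 92238 (.node 92235 (.node 92234 (.leaf 0x901020604000703040103000b) (.leaf 0x5020901090202000701000a)) (.node 92236 (.leaf 0x3040101090805000703040103000d) (.node 92237 (.leaf 0x70101090009000703040103000c) (.leaf 0x10300070209020007)))) (.node 92241 (.node 92239 (.leaf 0x4000202020703040103000a) (.node 92240 (.leaf 0x2020202090106000703040103000d) (.leaf 0x3090806000006))) (.node 92242 (.leaf 0x602010904020006) (.node 92243 (.leaf 0x604000901090006) (.leaf 0x3050603050004000703040103000d)))))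 (.node 92249 (.node 92246 (.node 92245 (.leaf 0x6010202020900000802040105000d) (.leaf 0x704010904020802040105000b)) (.node 92247 (.leaf 0x600020000030703040103000b) (.node 92248 (.leaf 0x10303080004) (.leaf 0x0)))) (.node 92252 (.node 92250 (.leaf 0x20000000300000202000701000d) (.node 92251 (.leaf 0x307090806000006) (.leaf 0x4030400050005))) (.node 92253 (.leaf 0x4040603050004000703040103000d) (.node 92254 (.leaf 0x20106030500040802040105000c) (.leaf 0x3070002020900000202000701000d))))))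

def argWS_8172 : Store := (.node 92266 (.node 92260 (.node 92257 (.node 92256 (.leaf 0x4030009020602000703040103000d) (.leaf 0x801010301010200000703040103000e)) (.node 92258 (.leaf 0x908050007030401030009) (.node 92259 (.leaf 0x20200020804000007) (.leaf 0x2040102000003010202000701000d)))) (.node 92263 (.node 92261 (.leaf 0x30401010703060202000701000c) (.node 92262 (.leaf 0x9010207030802040105000a) (.leaf 0x20200000408010007))) (.node 92264 (.leaf 0x800040206030006) (.node 92265 (.leaf 0x90306020702010802040105000c) (.leaf 0x605020804000202000701000b))))) (.node 92272 (.node 92269 (.node 92267 (.leaf 0x8020703060202000701000a) (.node 92268 (.leaf 0x503040005000703040103000c) (.leaf 0x20202090106000703040103000c))) (.node 92270 (.leaf 0x109030901090202000701000b) (.node 92271 (.leaf 0x8050000000300000802040105000d) (.leaf 0x807030401030006)))) (.node 92275 (.node 92273 (.leaf 0x90206020202000701000b) (.node 92274 (.leaf 0x7070209020202000701000a) (.leaf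 0x80500070209020202000701000c))) (.node 92276 (.leaf 0x20006030500040007) (.node 92277 (.leaf 0x906090000090202000701000b) (.leaf 0x20906020702010202000701000c))))))

def argWS_8173 : Store := (.node 92255 argWS_8171 argWS_8172)

def argWS_8174 : Store := (.node 92233 argWS_8170 argWS_8173)

def argWS_8175 : Store := (.node 92289 (.node 92283 (.node 92280 (.node 92279 (.leaf 0x401090009000703040103000b) (.leaf 0x102010908050802040105000b)) (.node 92281 (.leaf 0x20601010908050202000701000c) (.node 92282 (.leaf 0x10401050004) (.leaf 0x60000000300000008)))) (.node 92286 (.node 92284 (.leaf 0x800070209020006) (.node 92285 (.leaf 0x406030500040006) (.leaf 0x40103010102000007))) (.node 92287 (.leaf 0x8000403010102000202000701000d) (.node 92288 (.leaf 0x6010900090802040105000a) (.leaf 0x30401090806000802040105000c))))) (.node 92294 (.node 92291 (.node 92290 (.leaf 0x90009000009000703040103000c) (.leaf 0x5000400050202000701000a)) (.node 92292 (.leaf 0x1020200000300000008)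 (.node 92293 (.leaf 0x30306020702010007) (.leaf 0x3090009000703040103000b)))) (.node 92297 (.node 92295 (.leaf 0x20400090206020007) (.node 92296 (.leaf 0x5090000090802040105000a) (.leaf 0x9020703000703040103000a))) (.node 92298 (.leaf 0x3010400050005) (.node 92299 (.leaf 0x9000601050002000703040103000e) (.leaf 0x20506010500020007))))))

def argWS_8176 : Store := (.node 92311 (.node 92305 (.node 92302 (.node 92301 (.leaf 0x10901090004) (.leaf 0x701070009020007010009)) (.node 92303 (.leaf 0x206020901060802040105000b) (.node 92304 (.leaf 0x600000002080400000703040103000e) (.leaf 0x2040103010102000802040105000d)))) (.node 92308 (.node 92306 (.leaf 0x20902020900000202000701000c) (.node 92307 (.leaf 0x30106030500040202000701000c) (.leaf 0x70201090805000703040103000c))) (.node 92309 (.leaf 0x6020102000003010008) (.node 92310 (.leaf 0x0) (.leaf 0x907000207030802040105000b))))) (.node 92317 (.node 92314 (.node 92312 (.leaf 0x2020602000703040103000a) (.node 92313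 (.leaf 0x10101090805000703040103000c) (.leaf 0x204030003030604000703040103000e))) (.node 92315 (.leaf 0x30002020900000802040105000c) (.node 92316 (.leaf 0x10202010703060802040105000c) (.leaf 0x2090206020007010008)))) (.node 92320 (.node 92318 (.leaf 0x30000030306040802040105000c) (.node 92319 (.leaf 0x400050004) (.leaf 0x200020603000703040103000b))) (.node 92321 (.leaf 0x70901090802040105000a) (.node 92322 (.leaf 0x80004090806000007) (.leaf 0x30406020007010007))))))

def argWS_8177 : Store := (.node 92300 argWS_8175 argWS_8176)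

def argWS_8178 : Store := (.node 92334 (.node 92328 (.node 92325 (.node 92324 (.leaf 0x9070202090000000703040103000d) (.leaf 0x2050603050004000703040103000d)) (.node 92326 (.leaf 0x104020703000703040103000b) (.node 92327 (.leaf 0x70200020804000802040105000c) (.leaf 0x90201070206000202000701000c)))) (.node 92331 (.node 92329 (.leaf 0x20000020703000703040103000c) (.node 92330 (.leaf 0x50300020804000802040105000d) (.leaf 0x80101020106060802040105000c))) (.node 92332 (.leaf 0x202000003010802040105000c) (.node 92333 (.leaf 0x204010900090006) (.leaf 0x605000300000202000701000b))))) (.node 92340 (.node 92337 (.node 92335 (.leaf 0x2090202090000000703040103000d) (.node 92336 (.leaf 0x200000300000006) (.leaf 0x400090206020007))) (.node 92338 (.leaf 0x60205020202010802040105000c) (.node 92339 (.leaf 0x604000007030401030009) (.leaf 0x60000090000090007)))) (.node 92343 (.node 92341 (.leaf 0x901040900090802040105000b) (.node 92342 (.leaf 0x80300000408010202000701000c)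 (.leaf 0x10001))) (.node 92344 (.leaf 0x1) (.node 92345 (.leaf 0x30001) (.leaf 0x20001))))))

def argWS_8179 : Store := (.node 92357 (.node 92351 (.node 92348 (.node 92347 (.leaf 0x1010002) (.leaf 0x1030002)) (.node 92349 (.leaf 0x1020002) (.node 92350 (.leaf 0x1040002) (.leaf 0x1070002)))) (.node 92354 (.node 92352 (.leaf 0x1060002) (.node 92353 (.leaf 0x1080002) (.leaf 0x1090002))) (.node 92355 (.leaf 0x30002) (.node 92356 (.leaf 0x20002) (.leaf 0x70002))))) (.node 92363 (.node 92360 (.node 92358 (.leaf 0x60002) (.node 92359 (.leaf 0x3010002) (.leaf 0x3000002))) (.node 92361 (.leaf 0x2000002) (.node 92362 (.leaf 0x2050002) (.leaf 0x9010002)))) (.node 92366 (.node 92364 (.leaf 0x9030002) (.node 92365 (.leaf 0x60904020004) (.leaf 0x600030000000703040103000b))) (.node 92367 (.leaf 0x70802020007010007) (.node 92368 (.leaf 0x402020900000202000701000c) (.leaf 0x104020603000703040103000b))))))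

def argWS_8180 : Store := (.node 92346 argWS_8178 argWS_8179)

def argWS_8181 : Store := (.node 92323 argWS_8177 argWS_8180)

def argWS_8182 : Store := (.node 92278 argWS_8174 argWS_8181)

def argWS_8183 : Store := (.node 92188 argWS_8167 argWS_8182)

def argWS_8184 : Store := (.node 92008 argWS_8152 argWS_8183)

def argWS_8185 : Store := (.node 91647 argWS_8121 argWS_8184)

def argWS_8186 : Store := (.node 90925 argWS_8058 argWS_8185)

def argWS_8187 : Store := (.node 89482 argWS_7931 argWS_8186)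

def argWS_8188 : Store := (.node 86595 argWS_7676 argWS_8187)

def argWS_8189 : Store := (.node 80822 argWS_7165 argWS_8188)

def argWS_8190 : Store := (.node 69276 argWS_6142 argWS_8189)

def argWS : Store := (.node 46184 argWS_4095 argWS_8190)

def nodeSrcS : Store := (.leaf 0x470047004500420042004100410040004000400040003f003e003e0036003400260019000d000c000900030025000a000a000a000a0012001200120012002c002c000d0007000b000b0012002c002c002c0013002c0001000100010001000100010001000100010001000100010001000100010001000100010001000100010008000800080008000800080004000400040001000100010001000100080008000800080008000800080001000100010001000400010001000100000000)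

noncomputable def nodeSrc : Nat → Nat := get16 nodeSrcS

def nodeWS_1 : Store := (.node 11 (.node 5 (.node 2 (.node 1 (.leaf 0x0) (.leaf 0x0)) (.node 3 (.leaf 0x102020003) (.node 4 (.leaf 0x700070206000202000701000b) (.leaf 0x5000000000300000802040105000d)))) (.node 8 (.node 6 (.leaf 0x90001) (.node 7 (.leaf 0x304030003) (.leaf 0x402020900000202000701000b))) (.node 9 (.leaf 0x30106030500040202000701000c) (.node 10 (.leaf 0x3030002) (.leaf 0x1))))) (.node 17 (.node 14 (.node 12 (.leaf 0x1020002) (.node 13 (.leaf 0x1090002) (.leaf 0x2))) (.node 15 (.leaf 0x20002) (.node 16 (.leaf 0x6020401050005) (.leaf 0x102020003)))) (.node 20 (.node 18 (.leaf 0x103010003) (.node 19 (.leaf 0x6040106010500020202000701000d) (.leaf 0x300070209020006))) (.node 21 (.leaf 0x204000408010202000701000b) (.node 22 (.leaf 0x907020901060802040105000b) (.leaf 0x10001))))))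

def nodeWS_2 : Store := (.node 35 (.node 29 (.node 26 (.node 24 (.leaf 0x1090002) (.node 25 (.leaf 0x20002) (.leaf 0x10001))) (.node 27 (.leaf 0x30001) (.node 28 (.leaf 0x20001) (.leaf 0x50002)))) (.node 32 (.node 30 (.leaf 0x90002) (.node 31 (.leaf 0x2070002) (.leaf 0x10001))) (.node 33 (.leaf 0x30001) (.node 34 (.leaf 0x1010002) (.leaf 0x1030002))))) (.node 41 (.node 38 (.node 36 (.leaf 0x1090002) (.node 37 (.leaf 0x30002) (.leaf 0x20002))) (.node 39 (.leaf 0x2010002) (.node 40 (.leaf 0x2000002) (.leaf 0x9010002)))) (.node 44 (.node 42 (.leaf 0x9020106060802040105000a) (.node 43 (.leaf 0x70108020401050007) (.leaf 0x5000206020007010008))) (.node 45 (.leaf 0x602090402000703040103000b) (.node 46 (.leaf 0x104000003) (.leaf 0x2040206020007010008))))))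

def nodeWS_3 : Store := (.node 23 nodeWS_1 nodeWS_2)

def nodeWS_4 : Store := (.node 59 (.node 53 (.node 50 (.node 48 (.leaf 0x2020000090206020008) (.node 49 (.leaf 0x7020009020602000703040103000d) (.leaf 0x3070002000003010802040105000d))) (.node 51 (.leaf 0x602010301010200000703040103000e) (.node 52 (.leaf 0x4000202020703040103000a) (.leaf 0x1)))) (.node 56 (.node 54 (.leaf 0x2) (.node 55 (.leaf 0x1080002) (.leaf 0x2000002))) (.node 57 (.leaf 0x3070002000003010802040105000d) (.node 58 (.leaf 0x70802020007010007) (.leaf 0x20401010703060802040105000c))))) (.node 65 (.node 62 (.node 60 (.leaf 0x204030003) (.node 61 (.leaf 0x204000408010202000701000b) (.leaf 0x9070202090000000703040103000d))) (.node 63 (.leaf 0x10001) (.node 64 (.leaf 0x90002) (.leaf 0x1080002)))) (.node 68 (.node 66 (.leaf 0x1090002) (.node 67 (.leaf 0x3070002) (.leaf 0x70108020401050007))) (.node 69 (.leaf 0x30001) (.node 70 (.leaf 0x1030002) (.leaf 0x90002))))))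

def nodeWS_5 : Store := (.node 83 (.node 77 (.node 74 (.node 72 (.leaf 0x70108020401050007) (.node 73 (.leaf 0x1090002) (.leaf 0x202000003))) (.node 75 (.leaf 0x104000003) (.node 76 (.leaf 0x50000070209020007) (.leaf 0x107000003)))) (.node 80 (.node 78 (.leaf 0x6020401050005) (.node 79 (.leaf 0x1020206020702010802040105000d) (.leaf 0x2060207030802040105000a))) (.node 81 (.leaf 0x20403070209020202000701000c) (.node 82 (.leaf 0x1030002) (.leaf 0x50009020602000703040103000c))))) (.node 89 (.node 86 (.node 84 (.leaf 0x60202020900000202000701000c) (.node 85 (.leaf 0x1090002) (.leaf 0x5010904020005))) (.node 87 (.leaf 0x6050206040006) (.node 88 (.leaf 0x5030503010102000202000701000d) (.leaf 0x70108020401050007)))) (.node 92 (.node 90 (.leaf 0x901060004) (.node 91 (.leaf 0x200090003) (.leaf 0x40309000009000703040103000c))) (.node 93 (.leaf 0x10303080004) (.node 94 (.leaf 0x700000900090802040105000b) (.leaf 0x307050206040802040105000b))))))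

def nodeWS_6 : Store := (.node 71 nodeWS_4 nodeWS_5)

def nodeWS : Store := (.node 47 nodeWS_3 nodeWS_6)

def nodeTS : Store := (.leaf 0x10001000100010001000100010001000100010001000100010001000100010001000100010001000100010001000100010001000100010001000100010001000100010001000100010001000100010001000100010001000100010001000100010001000100010001000100010001000100010001000100010001000100010001000100010001000100010001000100010001000100010001000100010001000100010001000100010001000100010001000100010001000100010000)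

noncomputable def nodeT : Nat → Nat := get16 nodeTS


end Cfsg.Agent.LyRec.Sub
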