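import Cfsg.Agent.LyRec.Index.Sound

/-!
Short proofs that a cyclic word in the involution and the double cover is trivial.  A word is the list
of what stands after each occurrence of the involution.  A move rewrites one turn by a rule or by one
of the triangle relations, and the next list is compared turn by turn in the model.
-/

set_option autoImplicit false
set_option maxRecDepth 100000

namespace Cfsg.Agent.LyRec.Sub

open Cfsg.Agent.DCoset Cfsg.Agent.LyRec.Index Cfsg.Agent.LyLocal
open Cfsg.Agent.DCoset.Ly (goL goL_eq)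

/-- The letters are among the thirty, and the words send the base to the same points. -/
noncomputable def eqW (u v : List Nat) : Bool :=
  (u.all fun g => Nat.blt g 30) && (v.all fun g => Nat.blt g 30) &&
    [0, 2019, 4880].all fun p => Nat.beq (goL Index.tab.act u p) (goL Index.tab.act v p)

/-- Two lists of words are equal word by word. -/
noncomputable def sameTurns : List (List Nat) → List (List Nat) → Bool
  | [], [] => true
  | u :: us, v :: vs => eqW u v && sameTurns us vs
  | _, _ => false

/-- A word in the generators of the domain of the automorphism. -/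
def srcW (ls : List Nat) : List Nat := ls.map (18 + ·)

/-- Its image. -/
def imgW (ls : List Nat) : List Nat := ls.map (24 + ·)

/-- The letters of such a word are valid. -/
def okGen (ls : List Nat) : Bool := ls.all fun k => Nat.blt k 3

/-- A move at the head of a list. -/
inductive Move where
  | rule (ls : List Nat)
  | last (ls : List Nat)
  | tri (r : Nat) (la lb : List Nat)
  | split (r : Nat) (la lai : List Nat)

/-- The list after a move. -/
noncomputable def Move.apply : Move → List (List Nat) → Option (List (List Nat))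
  | .rule ls, p :: c :: n :: rest =>
    if okGen ls && eqW c (srcW ls) then some ((p ++ imgW ls ++ n) :: rest) else none
  | .last ls, [p, c] =>
    if okGen ls && eqW c (srcW ls) && eqW (p ++ imgW ls) [] then some [] else none
  | .tri r la lb, p :: c :: n :: rest =>
    if okGen la && okGen lb && Nat.blt r 12 &&
        eqW c (srcW la ++ (triple r).1 ++ srcW lb) then
      some ((p ++ imgW la ++ winv (triple r).2.2) :: (winv (triple r).2.1 ++ imgW lb ++ n) :: rest)
    else none
  | .split r la lai, c :: n :: rest =>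
    if okGen la && okGen lai && Nat.blt r 12 && eqW (srcW la ++ srcW lai) [] then
      some ((c ++ imgW la ++ winv (triple r).2.2) :: winv (triple r).2.1 ::
        (winv (triple r).1 ++ srcW lai ++ n) :: rest)
    else none
  | _, _ => none

/-- A rotation, a move and the list reached. -/
structure Step where
  rot : Nat
  move : Move
  out : List (List Nat)

/-- A list followed to the empty list. -/
noncomputable def run : List (List Nat) → List Step → Bool
  | cs, [] => cs.isEmpty
  | cs, s :: ss =>
    (match s.move.apply (cs.drop s.rot ++ cs.take s.rot) with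
      | some ds => sameTurns ds s.out
      | none => false) && run s.out ss

section

variable [IsSimpleGroup P]

/-- The element of a word in the thirty letters. -/
noncomputable def qv (w : List Nat) : DD := (w.map qL).prod

theorem qv_append (u v : List Nat) : qv (u ++ v) = qv u * qv v := by
  simp [qv, List.prod_append]

theorem rho_qv : ∀ (w : List Nat), (∀ g ∈ w, g < 30) → ∀ p : Fin 5040,
    ((rho (qv w))⁻¹ p).val = goL Index.tab.act w p.val
  | [], _, p => by
    rw [show qv [] = 1 from rfl, map_one, inv_one]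
    rfl
  | g :: w, hl, p => by
    rw [show qv (g :: w) = qL g * qv w by simp [qv], map_mul, mul_inv_rev, Equiv.Perm.mul_apply,
      rho_qv w (fun x hx => hl x (List.mem_cons_of_mem _ hx)), goL_eq, goL_eq, List.foldl_cons,
      acts.act_eq g (hl g List.mem_cons_self)]

theorem eqW_sound {u v : List Nat} (h : eqW u v = true) : qv u = qv v := by
  simp only [eqW, Bool.and_eq_true, List.all_eq_true] at h
  obtain ⟨⟨hu, hv⟩, hp⟩ := h
  refine mul_inv_eq_one.1 (rho_faithful _ fun l hl => ?_)
  change l < 3 at hl
  have hm : (bpt l).val ∈ [0, 2019, 4880] := by interval_cases l <;> decide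
  have e : (rho (qv u))⁻¹ (bpt l) = (rho (qv v))⁻¹ (bpt l) := Fin.ext (by
    rw [rho_qv u (fun g hg => Nat.ble_eq.mp (hu g hg)), rho_qv v (fun g hg => Nat.ble_eq.mp (hv g hg))]
    exact Nat.eq_of_beq_eq_true (hp _ hm))
  rw [map_mul, mul_inv_rev, Equiv.Perm.mul_apply, e, map_inv, inv_inv]
  exact Equiv.apply_symm_apply _ _

variable {G : Type*} [Group G]

/-- The value of a word in the thirty letters. -/
noncomputable def Phi (ι : DD →* G) (w : List Nat) : G := ι (qv w)

theorem Phi_append (ι : DD →* G) (u v : List Nat) : Phi ι (u ++ v) = Phi ι u * Phi ι v := by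
  rw [Phi, qv_append, map_mul]
  rfl

theorem Phi_nil (ι : DD →* G) : Phi ι [] = 1 := by simp [Phi, qv]

theorem Phi_eqW (ι : DD →* G) {u v : List Nat} (h : eqW u v = true) : Phi ι u = Phi ι v := by
  rw [Phi, eqW_sound h]
  rfl

theorem Phi_phi (ι : DD →* G) (w : List Nat) (hl : ∀ g ∈ w, g < 18) : Phi ι w = phi ι w := by
  rw [Phi, qv, map_list_prod, List.map_map]
  exact phi_letters ι w hl

/-- What is assumed of the involution. -/
structure Hyp (ι : DD →* G) (x : G) : Prop where
  sq : x * x = 1
  conj : ∀ k, x * phi ι (asLet (Alpha.gen k)) * x = phi ι (asLet (Alpha.img 2 k))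
  rel : ∀ r, x * phi ι (asLet (relG 2 r)) * x * phi ι (asLet (relH 2 r)) * x =
    phi ι (asLet (relY 2 r))

variable {ι : DD →* G} {x : G}

theorem Hyp.carry (H : Hyp ι x) : ∀ ls : List Nat, okGen ls = true →
    x * Phi ι (srcW ls) * x = Phi ι (imgW ls)
  | [], _ => by simp [srcW, imgW, Phi_nil, H.sq]
  | k :: ls, h => by
    simp only [okGen, List.all_cons, Bool.and_eq_true] at h
    have ih := H.carry ls h.2
    have hk : k < 3 := Nat.ble_eq.mp h.1
    obtain ⟨e1, -, e3, -⟩ := ext_shape ⟨k, hk⟩
    have ha : Phi ι [18 + k] = phi ι (asLet (Alpha.gen ⟨k, hk⟩)) := by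
      rw [← e1, Phi, qv, List.map_singleton, List.prod_singleton, qL, if_neg (by omega), phi,
        show 18 + k - 18 = k by omega]
    have hb : Phi ι [24 + k] = phi ι (asLet (Alpha.img 2 ⟨k, hk⟩)) := by
      rw [← e3, Phi, qv, List.map_singleton, List.prod_singleton, qL, if_neg (by omega), phi,
        show 24 + k - 18 = k + 6 by omega]
    rw [show srcW (k :: ls) = [18 + k] ++ srcW ls by simp [srcW],
      show imgW (k :: ls) = [24 + k] ++ imgW ls by simp [imgW], Phi_append, Phi_append, ← ih, hb,
      ← H.conj ⟨k, hk⟩, ← ha]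
    simp only [mul_assoc]
    rw [← mul_assoc x x, H.sq, one_mul]

theorem Hyp.triangle (H : Hyp ι x) {r : Nat} (hr : r < 12) :
    x * Phi ι (triple r).1 * x * Phi ι (triple r).2.1 * x * Phi ι (triple r).2.2 = 1 := by
  obtain ⟨l1, l2, l3⟩ := triple_lt ⟨r, hr⟩
  dsimp only at l1 l2 l3
  rw [Phi_phi ι _ l1, Phi_phi ι _ l2, Phi_phi ι _ l3]
  have first : ∀ k, x * phi ι (asLet (relG 2 k)) * x * phi ι (asLet (relH 2 k)) * x *
      phi ι (winv (asLet (relY 2 k))) = 1 := fun k => by
    rw [phi_winv ι _ (asLet_lt _), H.rel k, mul_inv_cancel]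
  have second : ∀ k, x * phi ι (asLet (relY 2 k)) * x * phi ι (winv (asLet (relH 2 k))) * x *
      phi ι (winv (asLet (relG 2 k))) = 1 := fun k => by
    rw [phi_winv ι _ (asLet_lt _), phi_winv ι _ (asLet_lt _), ← H.rel k]
    have hxx : ∀ a : G, x * (x * a) = a := fun a => by rw [← mul_assoc, H.sq, one_mul]
    simp only [mul_assoc, hxx, H.sq, mul_inv_cancel, mul_one]
  unfold triple
  dsimp only
  by_cases hs : r / 3 % 2 = 0
  · rw [if_pos hs]
    split_ifs
    exacts [first _, rot (first _), rot (rot (first _))]
  · rw [if_neg hs]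
    split_ifs
    exacts [second _, rot (second _), rot (rot (second _))]

/-- The turn of a triangle. -/
theorem Hyp.turn (H : Hyp ι x) {r : Nat} (hr : r < 12) :
    x * Phi ι (triple r).1 * x = Phi ι (winv (triple r).2.2) * x * Phi ι (winv (triple r).2.1) := by
  obtain ⟨-, l2, l3⟩ := triple_lt ⟨r, hr⟩
  dsimp only at l2 l3
  have hlt : ∀ w : List Nat, (∀ g ∈ w, g < 18) → ∀ g ∈ winv w, g < 18 := fun w hw g hg => by
    obtain ⟨a, ha, rfl⟩ := List.mem_map.1 hg
    have := hw a (List.mem_reverse.1 ha)
    rw [invLet]; split_ifs <;> omega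
  have h := H.triangle hr
  rw [Phi_phi ι _ (hlt _ l3), Phi_phi ι _ (hlt _ l2), phi_winv ι _ l3, phi_winv ι _ l2]
  rw [Phi_phi ι _ l2, Phi_phi ι _ l3] at h
  have hx : x⁻¹ = x := inv_eq_of_mul_eq_one_right H.sq
  rw [mul_eq_one_iff_eq_inv, ← eq_mul_inv_iff_mul_eq, ← eq_mul_inv_iff_mul_eq, hx] at h
  exact h

/-- The product read from a list. -/
noncomputable def cyc (ι : DD →* G) (x : G) (cs : List (List Nat)) : G :=
  (cs.map fun c => x * Phi ι c).prod

theorem cyc_cons (c : List Nat) (cs : List (List Nat)) :
    cyc ι x (c :: cs) = x * Phi ι c * cyc ι x cs := by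
  simp [cyc]

theorem cyc_rot {cs : List (List Nat)} (i : Nat) (h : cyc ι x (cs.drop i ++ cs.take i) = 1) :
    cyc ι x cs = 1 := by
  rw [← List.take_append_drop i cs]
  simp only [cyc, List.map_append, List.prod_append] at h ⊢
  exact mul_eq_one_comm.1 h

theorem cyc_same : ∀ {cs ds : List (List Nat)}, sameTurns cs ds = true → cyc ι x cs = cyc ι x ds
  | [], [], _ => rfl
  | c :: cs, d :: ds, h => by
    simp only [sameTurns, Bool.and_eq_true] at h
    rw [cyc_cons, cyc_cons, Phi_eqW ι h.1, cyc_same h.2]
  | [], _ :: _, h => by simp [sameTurns] at h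
  | _ :: _, [], h => by simp [sameTurns] at h

theorem Hyp.move_sound (H : Hyp ι x) : ∀ (mv : Move) {cs ds : List (List Nat)},
    mv.apply cs = some ds → cyc ι x cs = cyc ι x ds := by
  intro mv cs ds h
  unfold Move.apply at h
  split at h
  · split_ifs at h with hc
    simp only [Bool.and_eq_true] at hc
    obtain rfl := Option.some.inj h
    rename_i ls p c n rest
    simp only [cyc_cons, Phi_append, Phi_eqW ι hc.2, ← H.carry ls hc.1]
    group
  · split_ifs at h with hc
    simp only [Bool.and_eq_true] at hc
    obtain rfl := Option.some.inj h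
    rename_i ls p c
    have e : Phi ι p * Phi ι (imgW ls) = 1 := by
      rw [← Phi_append, Phi_eqW ι hc.2, Phi_nil]
    have e2 := H.carry ls hc.1.1
    simp only [cyc_cons, Phi_eqW ι hc.1.2]
    rw [show x * Phi ι p * (x * Phi ι (srcW ls) * cyc ι x []) =
      x * (Phi ι p * (x * Phi ι (srcW ls) * x)) * x⁻¹ by simp [cyc, mul_assoc], e2, e]
    simp [cyc]
  · split_ifs at h with hc
    simp only [Bool.and_eq_true] at hc
    obtain rfl := Option.some.inj h
    rename_i r la lb p c n rest
    obtain ⟨⟨⟨ha, hb⟩, hr⟩, he⟩ := hc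
    simp only [cyc_cons, Phi_append, Phi_eqW ι he, ← H.carry la ha, ← H.carry lb hb]
    have e : Phi ι (winv (triple r).2.2) * x * Phi ι (winv (triple r).2.1) = _ :=
      (H.turn (Nat.ble_eq.mp hr)).symm
    have hxx : ∀ a : G, x * (x * a) = a := fun a => by rw [← mul_assoc, H.sq, one_mul]
    calc _ = x * Phi ι p * (x * Phi ι (srcW la) * x) * (x * Phi ι (triple r).1 * x) *
          (x * Phi ι (srcW lb) * x) * Phi ι n * cyc ι x rest := by
          simp only [mul_assoc, hxx]
      _ = _ := by rw [← e]; simp only [mul_assoc]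
  · split_ifs at h with hc
    simp only [Bool.and_eq_true] at hc
    obtain rfl := Option.some.inj h
    rename_i r la lai c n rest
    obtain ⟨⟨⟨ha, -⟩, hr⟩, he⟩ := hc
    have hai : Phi ι (srcW lai) = (Phi ι (srcW la))⁻¹ :=
      eq_inv_of_mul_eq_one_right (by rw [← Phi_append, Phi_eqW ι he, Phi_nil])
    have hr' := Nat.ble_eq.mp hr
    obtain ⟨l1, -, -⟩ := triple_lt ⟨r, hr'⟩
    have hinv : Phi ι (winv (triple r).1) = (Phi ι (triple r).1)⁻¹ := by
      have hlt : ∀ g ∈ winv (triple r).1, g < 18 := fun g hg => by
        obtain ⟨a, ha', rfl⟩ := List.mem_map.1 hg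
        have : a < 18 := l1 a (List.mem_reverse.1 ha')
        rw [invLet]; split_ifs <;> omega
      rw [Phi_phi ι _ l1, Phi_phi ι _ hlt, phi_winv ι _ l1]
    have e : Phi ι (winv (triple r).2.2) * x * Phi ι (winv (triple r).2.1) = _ := (H.turn hr').symm
    have hxx : ∀ a : G, x * (x * a) = a := fun a => by rw [← mul_assoc, H.sq, one_mul]
    simp only [cyc_cons, Phi_append, hai, hinv, ← H.carry la ha]
    calc _ = x * Phi ι c * ((x * Phi ι (srcW la) * x) * (x * Phi ι (triple r).1 * x) * x *
          ((Phi ι (triple r).1)⁻¹ * (Phi ι (srcW la))⁻¹)) * Phi ι n * cyc ι x rest * 1 := by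
          simp only [mul_assoc, hxx, mul_one, mul_inv_cancel_left]
      _ = _ := by rw [← e]; simp only [mul_assoc, mul_one]
  · simp at h

/-- A list followed to the empty list is trivial. -/
theorem Hyp.run_sound (H : Hyp ι x) : ∀ (ss : List Step) {cs : List (List Nat)},
    run cs ss = true → cyc ι x cs = 1
  | [], cs, h => by
    rw [show cs = [] by simpa [run] using h]
    rfl
  | s :: ss, cs, h => by
    simp only [run, Bool.and_eq_true] at h
    obtain ⟨h1, h2⟩ := h
    cases hm : s.move.apply (cs.drop s.rot ++ cs.take s.rot) with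
    | none => simp [hm] at h1
    | some ds =>
      rw [hm] at h1
      refine cyc_rot s.rot ?_
      rw [H.move_sound _ hm, cyc_same h1, H.run_sound ss h2]

end

end Cfsg.Agent.LyRec.Sub
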